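import Cfsg.Agent.ThIndex62.Closure

/-! Orbit forest of node 0 on the points. -/

set_option autoImplicit false
set_option maxRecDepth 100000

namespace CfsgLib.ThIndex62.Data

open CfsgLib.ThModel83

def par0_0_0 : Arr Par :=
  (.node 32 (.node 16 (.node 8 (.node 4 (.node 2 (.node 1 (.one ⟨592, 3, 8⟩) (.one ⟨65, 3, 7⟩)) (.node 1 (.one ⟨77, 4, 6⟩) (.one ⟨189, 1, 15⟩))) (.node 2 (.node 1 (.one ⟨5944, 6, 9⟩) (.one ⟨13686, 6, 15⟩)) (.node 1 (.one ⟨12956, 5, 14⟩) (.one ⟨10313, 5, 7⟩)))) (.node 4 (.node 2 (.node 1 (.one ⟨7685, 5, 14⟩) (.one ⟨7507, 6, 12⟩)) (.node 1 (.one ⟨5554, 5, 9⟩) (.one ⟨5461, 2, 14⟩))) (.node 2 (.node 1 (.one ⟨979, 1, 13⟩) (.one ⟨5679, 5, 8⟩)) (.node 1 (.one ⟨1765, 3, 14⟩) (.one ⟨12945, 2, 13⟩))))) (.node 8 (.node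 4 (.node 2 (.node 1 (.one ⟨9843, 3, 15⟩) (.one ⟨10463, 5, 8⟩)) (.node 1 (.one ⟨1905, 6, 9⟩) (.one ⟨16896, 6, 14⟩))) (.node 2 (.node 1 (.one ⟨10547, 2, 13⟩) (.one ⟨4239, 6, 14⟩)) (.node 1 (.one ⟨7629, 4, 13⟩) (.one ⟨2842, 4, 15⟩)))) (.node 4 (.node 2 (.node 1 (.one ⟨8553, 4, 13⟩) (.one ⟨603, 2, 8⟩)) (.node 1 (.one ⟨10065, 5, 14⟩) (.one ⟨12424, 6, 15⟩))) (.node 2 (.node 1 (.one ⟨4965, 4, 14⟩) (.one ⟨7992, 4, 14⟩)) (.node 1 (.one ⟨7837, 4, 15⟩) (.one ⟨5843, 4, 14⟩)))))) (.node 16 (.node 8 (.node 4 (.node 2 (.node 1 (.one ⟨2760, 4, 14⟩) (.one ⟨8457, 4, 14⟩)) (.node 1 (.one ⟨10005, 4, 16⟩) (.one ⟨608, 4, 8⟩))) (.node 2 (.node 1 (.one ⟨606, 3, 8⟩) (.one ⟨575, 4, 7⟩)) (.node 1 (.one ⟨584, 4, 7⟩) (.one ⟨10571, 6, 13⟩)))) (.node 4 (.node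 2 (.node 1 (.one ⟨10335, 5, 13⟩) (.one ⟨16241, 5, 14⟩)) (.node 1 (.one ⟨14812, 4, 15⟩) (.one ⟨5224, 5, 12⟩))) (.node 2 (.node 1 (.one ⟨1690, 3, 14⟩) (.one ⟨4608, 6, 14⟩)) (.node 1 (.one ⟨4630, 6, 13⟩) (.one ⟨11843, 4, 14⟩))))) (.node 8 (.node 4 (.node 2 (.node 1 (.one ⟨2643, 5, 13⟩) (.one ⟨3081, 5, 14⟩)) (.node 1 (.one ⟨16515, 4, 14⟩) (.one ⟨15518, 3, 13⟩))) (.node 2 (.node 1 (.one ⟨16644, 6, 13⟩) (.one ⟨7370, 3, 15⟩)) (.node 1 (.one ⟨8667, 2, 12⟩) (.one ⟨12997, 4, 15⟩)))) (.node 4 (.node 2 (.node 1 (.one ⟨14720, 6, 12⟩) (.one ⟨15264, 5, 15⟩)) (.node 1 (.one ⟨7181, 3, 14⟩) (.one ⟨13624, 4, 14⟩))) (.node 2 (.node 1 (.one ⟨4078, 5, 15⟩) (.one ⟨14093, 4, 13⟩)) (.node 1 (.one ⟨14011, 2, 13⟩) (.one ⟨608, 6, 8⟩)))))))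
def par0_0_1 : Arr Par :=
  (.node 32 (.node 16 (.node 8 (.node 4 (.node 2 (.node 1 (.one ⟨603, 5, 8⟩) (.one ⟨77, 5, 6⟩)) (.node 1 (.one ⟨86, 6, 5⟩) (.one ⟨590, 5, 7⟩))) (.node 2 (.node 1 (.one ⟨86, 4, 5⟩) (.one ⟨592, 5, 8⟩)) (.node 1 (.one ⟨611, 6, 8⟩) (.one ⟨81, 5, 4⟩)))) (.node 4 (.node 2 (.node 1 (.one ⟨37, 3, 8⟩) (.one ⟨587, 6, 7⟩)) (.node 1 (.one ⟨2, 6, 7⟩) (.one ⟨16760, 3, 11⟩))) (.node 2 (.node 1 (.one ⟨13676, 5, 13⟩) (.one ⟨88, 5, 5⟩)) (.node 1 (.one ⟨86, 3, 5⟩) (.one ⟨575, 3, 7⟩))))) (.node 8 (.node 4 (.node 2 (.node 1 (.one ⟨581, 6, 6⟩) (.one ⟨607, 5, 3⟩)) (.node 1 (.one ⟨584, 3, 7⟩) (.one ⟨580, 3, 8⟩))) (.node 2 (.node 1 (.one ⟨86, 5, 5⟩) (.one ⟨593, 5, 7⟩)) (.node 1 (.one ⟨601, 5, 4⟩) (.one ⟨610, 4, 8⟩)))) (.node 4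 (.node 2 (.node 1 (.one ⟨601, 4, 4⟩) (.one ⟨8693, 3, 10⟩)) (.node 1 (.one ⟨7516, 5, 14⟩) (.one ⟨9923, 5, 15⟩))) (.node 2 (.node 1 (.one ⟨5163, 2, 13⟩) (.one ⟨3019, 5, 16⟩)) (.node 1 (.one ⟨16748, 3, 15⟩) (.one ⟨15195, 5, 11⟩)))))) (.node 16 (.node 8 (.node 4 (.node 2 (.node 1 (.one ⟨6587, 5, 12⟩) (.one ⟨6723, 5, 10⟩)) (.node 1 (.one ⟨15429, 5, 13⟩) (.one ⟨630, 2, 12⟩))) (.node 2 (.node 1 (.one ⟨2421, 5, 10⟩) (.one ⟨2259, 5, 12⟩)) (.node 1 (.one ⟨9605, 5, 8⟩) (.one ⟨9118, 6, 14⟩)))) (.node 4 (.node 2 (.node 1 (.one ⟨11654, 3, 13⟩) (.one ⟨15809, 4, 15⟩)) (.node 1 (.one ⟨16951, 3, 15⟩) (.one ⟨16424, 6, 14⟩))) (.node 2 (.node 1 (.one ⟨9606, 5, 11⟩) (.one ⟨5568, 6, 13⟩)) (.node 1 (.one ⟨5134, 5, 13⟩) (.one ⟨5961, 6, 10⟩))))) (.node 8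 (.node 4 (.node 2 (.node 1 (.one ⟨12428, 5, 14⟩) (.one ⟨9956, 5, 16⟩)) (.node 1 (.one ⟨13656, 4, 15⟩) (.one ⟨4286, 6, 13⟩))) (.node 2 (.node 1 (.one ⟨7875, 0, 16⟩) (.one ⟨4680, 0, 15⟩)) (.node 1 (.one ⟨8959, 5, 15⟩) (.one ⟨5008, 4, 13⟩)))) (.node 4 (.node 2 (.node 1 (.one ⟨14739, 4, 14⟩) (.one ⟨10761, 3, 8⟩)) (.node 1 (.one ⟨14063, 6, 12⟩) (.one ⟨13621, 5, 16⟩))) (.node 2 (.node 1 (.one ⟨6537, 2, 15⟩) (.one ⟨1738, 5, 15⟩)) (.node 1 (.one ⟨8150, 3, 15⟩) (.one ⟨321, 1, 14⟩)))))))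
def par0_0_2 : Arr Par :=
  (.node 32 (.node 16 (.node 8 (.node 4 (.node 2 (.node 1 (.one ⟨16214, 3, 15⟩) (.one ⟨5787, 5, 9⟩)) (.node 1 (.one ⟨352, 1, 12⟩) (.one ⟨10499, 5, 11⟩))) (.node 2 (.node 1 (.one ⟨2592, 6, 14⟩) (.one ⟨15164, 3, 15⟩)) (.node 1 (.one ⟨5170, 0, 14⟩) (.one ⟨13542, 3, 13⟩)))) (.node 4 (.node 2 (.node 1 (.one ⟨10720, 3, 13⟩) (.one ⟨10100, 5, 12⟩)) (.node 1 (.one ⟨1436, 5, 10⟩) (.one ⟨2627, 5, 14⟩))) (.node 2 (.node 1 (.one ⟨4607, 3, 14⟩) (.one ⟨92, 1, 14⟩)) (.node 1 (.one ⟨6473, 5, 15⟩) (.one ⟨6381, 5, 15⟩))))) (.node 8 (.node 4 (.node 2 (.node 1 (.one ⟨1435, 5, 11⟩) (.one ⟨2006, 5, 12⟩)) (.node 1 (.one ⟨1761, 5, 13⟩) (.one ⟨8719, 3, 11⟩))) (.node 2 (.node 1 (.one ⟨2386, 5, 9⟩) (.one ⟨6209, 3, 16⟩)) (.node 1 (.one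 ⟨5512, 5, 15⟩) (.one ⟨15276, 5, 15⟩)))) (.node 4 (.node 2 (.node 1 (.one ⟨10401, 6, 16⟩) (.one ⟨10079, 5, 15⟩)) (.node 1 (.one ⟨12317, 6, 14⟩) (.one ⟨12388, 6, 14⟩))) (.node 2 (.node 1 (.one ⟨17104, 6, 15⟩) (.one ⟨7295, 6, 15⟩)) (.node 1 (.one ⟨11230, 6, 13⟩) (.one ⟨5415, 5, 15⟩)))))) (.node 16 (.node 8 (.node 4 (.node 2 (.node 1 (.one ⟨4982, 6, 11⟩) (.one ⟨6611, 5, 11⟩)) (.node 1 (.one ⟨15334, 6, 16⟩) (.one ⟨3253, 5, 15⟩))) (.node 2 (.node 1 (.one ⟨1033, 1, 16⟩) (.one ⟨378, 1, 16⟩)) (.node 1 (.one ⟨6624, 6, 13⟩) (.one ⟨10567, 3, 12⟩)))) (.node 4 (.node 2 (.node 1 (.one ⟨12252, 3, 13⟩) (.one ⟨6321, 3, 14⟩)) (.node 1 (.one ⟨12999, 6, 16⟩) (.one ⟨4984, 6, 15⟩))) (.node 2 (.node 1 (.one ⟨3242, 6, 14⟩) (.one ⟨1260, 3, 15⟩)) (.node 1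 (.one ⟨12740, 0, 14⟩) (.one ⟨3547, 3, 13⟩))))) (.node 8 (.node 4 (.node 2 (.node 1 (.one ⟨12067, 6, 16⟩) (.one ⟨13570, 5, 15⟩)) (.node 1 (.one ⟨8705, 4, 12⟩) (.one ⟨2029, 5, 15⟩))) (.node 2 (.node 1 (.one ⟨11024, 6, 15⟩) (.one ⟨5771, 4, 14⟩)) (.node 1 (.one ⟨16611, 6, 16⟩) (.one ⟨5317, 5, 16⟩)))) (.node 4 (.node 2 (.node 1 (.one ⟨15378, 2, 15⟩) (.one ⟨10443, 5, 14⟩)) (.node 1 (.one ⟨9350, 6, 15⟩) (.one ⟨9345, 6, 15⟩))) (.node 2 (.node 1 (.one ⟨16612, 4, 14⟩) (.one ⟨15519, 2, 14⟩)) (.node 1 (.one ⟨8387, 4, 15⟩) (.one ⟨10130, 5, 16⟩)))))))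
def par0_0_3 : Arr Par :=
  (.node 32 (.node 16 (.node 8 (.node 4 (.node 2 (.node 1 (.one ⟨1705, 3, 15⟩) (.one ⟨16993, 3, 10⟩)) (.node 1 (.one ⟨3055, 5, 13⟩) (.one ⟨4138, 5, 16⟩))) (.node 2 (.node 1 (.one ⟨4875, 4, 13⟩) (.one ⟨10731, 5, 13⟩)) (.node 1 (.one ⟨13554, 5, 15⟩) (.one ⟨4611, 4, 12⟩)))) (.node 4 (.node 2 (.node 1 (.one ⟨4056, 5, 13⟩) (.one ⟨16717, 4, 15⟩)) (.node 1 (.one ⟨8328, 5, 14⟩) (.one ⟨6576, 5, 10⟩))) (.node 2 (.node 1 (.one ⟨10090, 5, 14⟩) (.one ⟨15944, 0, 14⟩)) (.node 1 (.one ⟨12720, 0, 16⟩) (.one ⟨8008, 4, 13⟩))))) (.node 8 (.node 4 (.node 2 (.node 1 (.one ⟨5017, 6, 16⟩) (.one ⟨1181, 3, 16⟩)) (.node 1 (.one ⟨1182, 3, 14⟩) (.one ⟨16613, 3, 15⟩))) (.node 2 (.node 1 (.one ⟨11194, 6, 16⟩) (.one ⟨2747, 3, 13⟩)) (.node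 1 (.one ⟨14748, 0, 14⟩) (.one ⟨15198, 6, 14⟩)))) (.node 4 (.node 2 (.node 1 (.one ⟨676, 1, 14⟩) (.one ⟨2636, 5, 15⟩)) (.node 1 (.one ⟨10679, 5, 12⟩) (.one ⟨9945, 5, 14⟩))) (.node 2 (.node 1 (.one ⟨8582, 6, 16⟩) (.one ⟨3030, 5, 17⟩)) (.node 1 (.one ⟨14697, 4, 16⟩) (.one ⟨15887, 4, 14⟩)))))) (.node 16 (.node 8 (.node 4 (.node 2 (.node 1 (.one ⟨5014, 6, 12⟩) (.one ⟨12181, 5, 15⟩)) (.node 1 (.one ⟨9911, 5, 15⟩) (.one ⟨3211, 6, 14⟩))) (.node 2 (.node 1 (.one ⟨6714, 4, 12⟩) (.one ⟨6206, 2, 14⟩)) (.node 1 (.one ⟨12694, 6, 12⟩) (.one ⟨14512, 5, 16⟩)))) (.node 4 (.node 2 (.node 1 (.one ⟨3485, 3, 14⟩) (.one ⟨8339, 5, 15⟩)) (.node 1 (.one ⟨14335, 3, 14⟩) (.one ⟨5496, 5, 15⟩))) (.node 2 (.node 1 (.one ⟨1197, 5, 13⟩) (.one ⟨16845, 3, 15⟩)) (.node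 1 (.one ⟨1198, 5, 15⟩) (.one ⟨1329, 5, 11⟩))))) (.node 8 (.node 4 (.node 2 (.node 1 (.one ⟨1330, 5, 15⟩) (.one ⟨10991, 6, 14⟩)) (.node 1 (.one ⟨1143, 3, 11⟩) (.one ⟨15204, 5, 12⟩))) (.node 2 (.node 1 (.one ⟨15505, 3, 15⟩) (.one ⟨6617, 5, 13⟩)) (.node 1 (.one ⟨348, 1, 11⟩) (.one ⟨5412, 5, 13⟩)))) (.node 4 (.node 2 (.node 1 (.one ⟨16277, 5, 14⟩) (.one ⟨15086, 5, 15⟩)) (.node 1 (.one ⟨1340, 5, 11⟩) (.one ⟨8937, 3, 10⟩))) (.node 2 (.node 1 (.one ⟨3555, 3, 14⟩) (.one ⟨6202, 5, 14⟩)) (.node 1 (.one ⟨14781, 4, 14⟩) (.one ⟨6193, 3, 14⟩)))))))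
def par0_0_4 : Arr Par :=
  (.node 32 (.node 16 (.node 8 (.node 4 (.node 2 (.node 1 (.one ⟨12350, 5, 12⟩) (.one ⟨4255, 6, 15⟩)) (.node 1 (.one ⟨3272, 0, 15⟩) (.one ⟨13189, 0, 15⟩))) (.node 2 (.node 1 (.one ⟨12482, 3, 11⟩) (.one ⟨2364, 5, 15⟩)) (.node 1 (.one ⟨17164, 6, 9⟩) (.one ⟨5999, 6, 15⟩)))) (.node 4 (.node 2 (.node 1 (.one ⟨2719, 3, 13⟩) (.one ⟨9514, 3, 9⟩)) (.node 1 (.one ⟨12855, 3, 13⟩) (.one ⟨5303, 3, 12⟩))) (.node 2 (.node 1 (.one ⟨15357, 6, 15⟩) (.one ⟨9511, 3, 10⟩)) (.node 1 (.one ⟨15145, 3, 15⟩) (.one ⟨10785, 3, 12⟩))))) (.node 8 (.node 4 (.node 2 (.node 1 (.one ⟨16496, 4, 17⟩) (.one ⟨3063, 5, 16⟩)) (.node 1 (.one ⟨5288, 2, 12⟩) (.one ⟨5020, 4, 15⟩))) (.node 2 (.node 1 (.one ⟨7508, 5, 13⟩) (.one ⟨8995, 5, 13⟩)) (.node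 1 (.one ⟨6205, 6, 15⟩) (.one ⟨9612, 5, 14⟩)))) (.node 4 (.node 2 (.node 1 (.one ⟨4682, 0, 16⟩) (.one ⟨7599, 0, 14⟩)) (.node 1 (.one ⟨16305, 6, 13⟩) (.one ⟨2325, 6, 15⟩))) (.node 2 (.node 1 (.one ⟨3091, 2, 14⟩) (.one ⟨4212, 0, 16⟩)) (.node 1 (.one ⟨3711, 2, 14⟩) (.one ⟨12924, 4, 16⟩)))))) (.node 16 (.node 8 (.node 4 (.node 2 (.node 1 (.one ⟨7751, 4, 14⟩) (.one ⟨3368, 5, 13⟩)) (.node 1 (.one ⟨5362, 5, 11⟩) (.one ⟨5511, 3, 13⟩))) (.node 2 (.node 1 (.one ⟨2094, 5, 12⟩) (.one ⟨1249, 3, 9⟩)) (.node 1 (.one ⟨14835, 5, 11⟩) (.one ⟨2802, 4, 15⟩)))) (.node 4 (.node 2 (.node 1 (.one ⟨9446, 5, 12⟩) (.one ⟨9774, 6, 15⟩)) (.node 1 (.one ⟨3105, 5, 16⟩) (.one ⟨2711, 3, 13⟩))) (.node 2 (.node 1 (.one ⟨15162, 6, 13⟩) (.one ⟨13329, 5, 16⟩)) (.node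 1 (.one ⟨14729, 4, 13⟩) (.one ⟨9093, 6, 11⟩))))) (.node 8 (.node 4 (.node 2 (.node 1 (.one ⟨1400, 6, 11⟩) (.one ⟨12585, 5, 15⟩)) (.node 1 (.one ⟨5141, 6, 13⟩) (.one ⟨13069, 5, 15⟩))) (.node 2 (.node 1 (.one ⟨4450, 3, 12⟩) (.one ⟨16121, 3, 14⟩)) (.node 1 (.one ⟨1183, 5, 11⟩) (.one ⟨16395, 6, 11⟩)))) (.node 4 (.node 2 (.node 1 (.one ⟨16162, 4, 14⟩) (.one ⟨7399, 5, 14⟩)) (.node 1 (.one ⟨5984, 2, 15⟩) (.one ⟨5974, 3, 14⟩))) (.node 2 (.node 1 (.one ⟨1630, 4, 15⟩) (.one ⟨4339, 6, 13⟩)) (.node 1 (.one ⟨16431, 4, 14⟩) (.one ⟨12930, 4, 15⟩)))))))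
def par0_0_5 : Arr Par :=
  (.node 32 (.node 16 (.node 8 (.node 4 (.node 2 (.node 1 (.one ⟨1743, 5, 12⟩) (.one ⟨856, 2, 13⟩)) (.node 1 (.one ⟨14367, 5, 11⟩) (.one ⟨1327, 5, 8⟩))) (.node 2 (.node 1 (.one ⟨3127, 5, 12⟩) (.one ⟨242, 2, 12⟩)) (.node 1 (.one ⟨14807, 5, 10⟩) (.one ⟨17147, 6, 10⟩)))) (.node 4 (.node 2 (.node 1 (.one ⟨14898, 0, 16⟩) (.one ⟨2223, 5, 8⟩)) (.node 1 (.one ⟨4491, 5, 15⟩) (.one ⟨1328, 5, 10⟩))) (.node 2 (.node 1 (.one ⟨5445, 3, 14⟩) (.one ⟨1672, 6, 14⟩)) (.node 1 (.one ⟨1342, 5, 16⟩) (.one ⟨14053, 3, 16⟩))))) (.node 8 (.node 4 (.node 2 (.node 1 (.one ⟨2263, 5, 12⟩) (.one ⟨5746, 5, 14⟩)) (.node 1 (.one ⟨2994, 5, 9⟩) (.one ⟨2624, 3, 13⟩))) (.node 2 (.node 1 (.one ⟨8269, 6, 16⟩) (.one ⟨7130, 6, 13⟩)) (.node 1 (.one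 ⟨6694, 2, 14⟩) (.one ⟨9619, 3, 17⟩)))) (.node 4 (.node 2 (.node 1 (.one ⟨9599, 5, 14⟩) (.one ⟨8397, 6, 11⟩)) (.node 1 (.one ⟨11422, 5, 12⟩) (.one ⟨269, 2, 11⟩))) (.node 2 (.node 1 (.one ⟨265, 2, 10⟩) (.one ⟨9596, 6, 9⟩)) (.node 1 (.one ⟨13645, 5, 12⟩) (.one ⟨878, 2, 12⟩)))))) (.node 16 (.node 8 (.node 4 (.node 2 (.node 1 (.one ⟨874, 2, 11⟩) (.one ⟨10349, 5, 13⟩)) (.node 1 (.one ⟨6191, 5, 12⟩) (.one ⟨9332, 5, 11⟩))) (.node 2 (.node 1 (.one ⟨12230, 6, 14⟩) (.one ⟨16320, 6, 12⟩)) (.node 1 (.one ⟨13647, 6, 15⟩) (.one ⟨5583, 5, 10⟩)))) (.node 4 (.node 2 (.node 1 (.one ⟨14400, 5, 14⟩) (.one ⟨5615, 6, 13⟩)) (.node 1 (.one ⟨2605, 6, 12⟩) (.one ⟨14077, 4, 14⟩))) (.node 2 (.node 1 (.one ⟨5602, 6, 14⟩) (.one ⟨1936, 6, 10⟩)) (.node 1 (.one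 ⟨9060, 6, 16⟩) (.one ⟨6057, 6, 15⟩))))) (.node 8 (.node 4 (.node 2 (.node 1 (.one ⟨1258, 3, 10⟩) (.one ⟨11332, 5, 16⟩)) (.node 1 (.one ⟨16580, 4, 15⟩) (.one ⟨9078, 6, 10⟩))) (.node 2 (.node 1 (.one ⟨1664, 6, 13⟩) (.one ⟨14816, 4, 14⟩)) (.node 1 (.one ⟨99, 1, 13⟩) (.one ⟨5719, 5, 13⟩)))) (.node 4 (.node 2 (.node 1 (.one ⟨9450, 5, 11⟩) (.one ⟨16595, 6, 15⟩)) (.node 1 (.one ⟨4303, 2, 15⟩) (.one ⟨5506, 3, 12⟩))) (.node 2 (.node 1 (.one ⟨8947, 5, 15⟩) (.one ⟨6585, 6, 13⟩)) (.node 1 (.one ⟨14785, 5, 15⟩) (.one ⟨14304, 3, 9⟩)))))))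
def par0_0_6 : Arr Par :=
  (.node 32 (.node 16 (.node 8 (.node 4 (.node 2 (.node 1 (.one ⟨10916, 2, 14⟩) (.one ⟨4591, 3, 13⟩)) (.node 1 (.one ⟨14224, 3, 13⟩) (.one ⟨9972, 4, 15⟩))) (.node 2 (.node 1 (.one ⟨6039, 6, 14⟩) (.one ⟨16810, 4, 13⟩)) (.node 1 (.one ⟨1196, 5, 10⟩) (.one ⟨10728, 3, 14⟩)))) (.node 4 (.node 2 (.node 1 (.one ⟨4562, 4, 15⟩) (.one ⟨351, 1, 13⟩)) (.node 1 (.one ⟨25, 1, 9⟩) (.one ⟨816, 1, 14⟩))) (.node 2 (.node 1 (.one ⟨4091, 5, 15⟩) (.one ⟨1195, 5, 11⟩)) (.node 1 (.one ⟨16260, 5, 14⟩) (.one ⟨13652, 5, 15⟩))))) (.node 8 (.node 4 (.node 2 (.node 1 (.one ⟨1608, 4, 11⟩) (.one ⟨3092, 2, 14⟩)) (.node 1 (.one ⟨13486, 5, 14⟩) (.one ⟨15828, 2, 14⟩))) (.node 2 (.node 1 (.one ⟨7671, 6, 15⟩) (.one ⟨612, 1, 16⟩)) (.node 1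 (.one ⟨15709, 4, 15⟩) (.one ⟨2772, 5, 16⟩)))) (.node 4 (.node 2 (.node 1 (.one ⟨13040, 4, 14⟩) (.one ⟨2053, 5, 14⟩)) (.node 1 (.one ⟨15758, 0, 14⟩) (.one ⟨5028, 5, 16⟩))) (.node 2 (.node 1 (.one ⟨15585, 5, 15⟩) (.one ⟨1031, 1, 13⟩)) (.node 1 (.one ⟨14121, 3, 12⟩) (.one ⟨1989, 5, 11⟩)))))) (.node 16 (.node 8 (.node 4 (.node 2 (.node 1 (.one ⟨3614, 3, 12⟩) (.one ⟨6484, 0, 14⟩)) (.node 1 (.one ⟨7282, 6, 13⟩) (.one ⟨16675, 6, 14⟩))) (.node 2 (.node 1 (.one ⟨5535, 5, 15⟩) (.one ⟨15316, 6, 12⟩)) (.node 1 (.one ⟨739, 1, 14⟩) (.one ⟨7507, 0, 12⟩)))) (.node 4 (.node 2 (.node 1 (.one ⟨16627, 6, 12⟩) (.one ⟨3501, 3, 15⟩)) (.node 1 (.one ⟨6459, 5, 16⟩) (.one ⟨6071, 5, 14⟩))) (.node 2 (.node 1 (.one ⟨12543, 3, 16⟩) (.one ⟨11806, 5, 13⟩)) (.node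 1 (.one ⟨14247, 3, 14⟩) (.one ⟨4334, 5, 13⟩))))) (.node 8 (.node 4 (.node 2 (.node 1 (.one ⟨8735, 3, 12⟩) (.one ⟨6465, 5, 15⟩)) (.node 1 (.one ⟨16983, 3, 13⟩) (.one ⟨3102, 5, 10⟩))) (.node 2 (.node 1 (.one ⟨6359, 3, 13⟩) (.one ⟨16775, 3, 12⟩)) (.node 1 (.one ⟨15829, 2, 14⟩) (.one ⟨11526, 3, 15⟩)))) (.node 4 (.node 2 (.node 1 (.one ⟨8874, 3, 16⟩) (.one ⟨16394, 5, 14⟩)) (.node 1 (.one ⟨5792, 5, 13⟩) (.one ⟨6758, 5, 15⟩))) (.node 2 (.node 1 (.one ⟨20, 1, 14⟩) (.one ⟨4084, 5, 11⟩)) (.node 1 (.one ⟨10121, 5, 14⟩) (.one ⟨12394, 5, 11⟩)))))))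
def par0_0_7 : Arr Par :=
  (.node 32 (.node 16 (.node 8 (.node 4 (.node 2 (.node 1 (.one ⟨6088, 5, 13⟩) (.one ⟨8344, 5, 13⟩)) (.node 1 (.one ⟨8709, 3, 11⟩) (.one ⟨4987, 5, 13⟩))) (.node 2 (.node 1 (.one ⟨4851, 4, 10⟩) (.one ⟨1393, 6, 16⟩)) (.node 1 (.one ⟨5976, 3, 13⟩) (.one ⟨12865, 3, 12⟩)))) (.node 4 (.node 2 (.node 1 (.one ⟨1185, 5, 10⟩) (.one ⟨11292, 6, 15⟩)) (.node 1 (.one ⟨16923, 6, 16⟩) (.one ⟨4306, 2, 15⟩))) (.node 2 (.node 1 (.one ⟨8000, 4, 15⟩) (.one ⟨12096, 5, 13⟩)) (.node 1 (.one ⟨13224, 6, 14⟩) (.one ⟨4052, 5, 10⟩))))) (.node 8 (.node 4 (.node 2 (.node 1 (.one ⟨14103, 3, 13⟩) (.one ⟨11088, 5, 14⟩)) (.node 1 (.one ⟨3748, 5, 14⟩) (.one ⟨8702, 4, 16⟩))) (.node 2 (.node 1 (.one ⟨15592, 5, 12⟩) (.one ⟨7158, 5, 13⟩)) (.node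 1 (.one ⟨2045, 5, 13⟩) (.one ⟨11736, 4, 16⟩)))) (.node 4 (.node 2 (.node 1 (.one ⟨7099, 5, 14⟩) (.one ⟨8051, 0, 15⟩)) (.node 1 (.one ⟨10075, 5, 11⟩) (.one ⟨6966, 3, 10⟩))) (.node 2 (.node 1 (.one ⟨4028, 5, 13⟩) (.one ⟨10103, 5, 13⟩)) (.node 1 (.one ⟨4365, 3, 12⟩) (.one ⟨5890, 4, 15⟩)))))) (.node 16 (.node 8 (.node 4 (.node 2 (.node 1 (.one ⟨7476, 0, 13⟩) (.one ⟨12059, 6, 13⟩)) (.node 1 (.one ⟨6125, 5, 15⟩) (.one ⟨6596, 5, 15⟩))) (.node 2 (.node 1 (.one ⟨14114, 6, 15⟩) (.one ⟨1251, 3, 16⟩)) (.node 1 (.one ⟨4637, 3, 16⟩) (.one ⟨8717, 3, 15⟩)))) (.node 4 (.node 2 (.node 1 (.one ⟨7878, 0, 15⟩) (.one ⟨17191, 5, 15⟩)) (.node 1 (.one ⟨4227, 0, 15⟩) (.one ⟨4912, 6, 13⟩))) (.node 2 (.node 1 (.one ⟨1861, 5, 16⟩) (.one ⟨11837, 4, 15⟩)) (.node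 1 (.one ⟨8539, 6, 14⟩) (.one ⟨10112, 5, 15⟩))))) (.node 8 (.node 4 (.node 2 (.node 1 (.one ⟨7231, 6, 15⟩) (.one ⟨1425, 5, 15⟩)) (.node 1 (.one ⟨5991, 3, 14⟩) (.one ⟨12440, 5, 13⟩))) (.node 2 (.node 1 (.one ⟨11647, 5, 13⟩) (.one ⟨2115, 4, 14⟩)) (.node 1 (.one ⟨9353, 6, 12⟩) (.one ⟨14461, 3, 16⟩)))) (.node 4 (.node 2 (.node 1 (.one ⟨5168, 5, 14⟩) (.one ⟨5352, 3, 13⟩)) (.node 1 (.one ⟨15124, 3, 14⟩) (.one ⟨13419, 3, 12⟩))) (.node 2 (.node 1 (.one ⟨1654, 6, 12⟩) (.one ⟨5703, 5, 14⟩)) (.node 1 (.one ⟨1029, 1, 15⟩) (.one ⟨5495, 3, 12⟩)))))))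
def par0_0_8 : Arr Par :=
  (.node 32 (.node 16 (.node 8 (.node 4 (.node 2 (.node 1 (.one ⟨13301, 5, 15⟩) (.one ⟨7177, 5, 12⟩)) (.node 1 (.one ⟨11203, 5, 13⟩) (.one ⟨15196, 3, 13⟩))) (.node 2 (.node 1 (.one ⟨16120, 4, 14⟩) (.one ⟨9330, 5, 15⟩)) (.node 1 (.one ⟨1598, 4, 12⟩) (.one ⟨9507, 3, 15⟩)))) (.node 4 (.node 2 (.node 1 (.one ⟨14241, 3, 13⟩) (.one ⟨9610, 5, 11⟩)) (.node 1 (.one ⟨7988, 4, 14⟩) (.one ⟨9128, 5, 14⟩))) (.node 2 (.node 1 (.one ⟨8125, 3, 15⟩) (.one ⟨325, 1, 13⟩)) (.node 1 (.one ⟨14533, 5, 15⟩) (.one ⟨12155, 5, 14⟩))))) (.node 8 (.node 4 (.node 2 (.node 1 (.one ⟨9609, 5, 10⟩) (.one ⟨16626, 2, 13⟩)) (.node 1 (.one ⟨347, 1, 12⟩) (.one ⟨9171, 5, 11⟩))) (.node 2 (.node 1 (.one ⟨15757, 5, 13⟩) (.one ⟨4301, 2, 14⟩)) (.node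 1 (.one ⟨16505, 4, 14⟩) (.one ⟨9173, 5, 10⟩)))) (.node 4 (.node 2 (.node 1 (.one ⟨4630, 0, 13⟩) (.one ⟨4395, 6, 15⟩)) (.node 1 (.one ⟨1614, 6, 12⟩) (.one ⟨229, 1, 15⟩))) (.node 2 (.node 1 (.one ⟨3096, 4, 12⟩) (.one ⟨1168, 3, 9⟩)) (.node 1 (.one ⟨15305, 6, 13⟩) (.one ⟨14519, 5, 14⟩)))))) (.node 16 (.node 8 (.node 4 (.node 2 (.node 1 (.one ⟨1167, 3, 11⟩) (.one ⟨7211, 3, 14⟩)) (.node 1 (.one ⟨15299, 3, 15⟩) (.one ⟨17183, 6, 13⟩))) (.node 2 (.node 1 (.one ⟨11133, 5, 13⟩) (.one ⟨16161, 3, 15⟩)) (.node 1 (.one ⟨16725, 3, 14⟩) (.one ⟨16594, 3, 14⟩)))) (.node 4 (.node 2 (.node 1 (.one ⟨1865, 5, 15⟩) (.one ⟨4520, 3, 15⟩)) (.node 1 (.one ⟨8172, 0, 16⟩) (.one ⟨934, 1, 16⟩))) (.node 2 (.node 1 (.one ⟨9352, 6, 12⟩) (.one ⟨10571, 0, 13⟩)) (.node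 1 (.one ⟨11098, 4, 14⟩) (.one ⟨342, 1, 15⟩))))) (.node 8 (.node 4 (.node 2 (.node 1 (.one ⟨8142, 3, 15⟩) (.one ⟨16314, 6, 15⟩)) (.node 1 (.one ⟨16289, 5, 13⟩) (.one ⟨17162, 5, 11⟩))) (.node 2 (.node 1 (.one ⟨1424, 5, 11⟩) (.one ⟨6823, 5, 11⟩)) (.node 1 (.one ⟨8428, 6, 12⟩) (.one ⟨4950, 4, 13⟩)))) (.node 4 (.node 2 (.node 1 (.one ⟨1902, 5, 16⟩) (.one ⟨7419, 3, 14⟩)) (.node 1 (.one ⟨9762, 3, 13⟩) (.one ⟨7662, 4, 12⟩))) (.node 2 (.node 1 (.one ⟨8243, 6, 13⟩) (.one ⟨16961, 3, 13⟩)) (.node 1 (.one ⟨6271, 3, 11⟩) (.one ⟨68, 5, 6⟩)))))))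
def par0_0_9 : Arr Par :=
  (.node 32 (.node 16 (.node 8 (.node 4 (.node 2 (.node 1 (.one ⟨79, 6, 8⟩) (.one ⟨588, 5, 5⟩)) (.node 1 (.one ⟨587, 4, 7⟩) (.one ⟨37, 5, 8⟩))) (.node 2 (.node 1 (.one ⟨65, 4, 7⟩) (.one ⟨589, 4, 5⟩)) (.node 1 (.one ⟨575, 6, 7⟩) (.one ⟨5559, 5, 15⟩)))) (.node 4 (.node 2 (.node 1 (.one ⟨581, 5, 6⟩) (.one ⟨589, 6, 5⟩)) (.node 1 (.one ⟨578, 3, 8⟩) (.one ⟨77, 3, 6⟩))) (.node 2 (.node 1 (.one ⟨81, 6, 4⟩) (.one ⟨81, 3, 4⟩)) (.node 1 (.one ⟨594, 4, 6⟩) (.one ⟨610, 6, 8⟩))))) (.node 8 (.node 4 (.node 2 (.node 1 (.one ⟨575, 5, 7⟩) (.one ⟨68, 6, 6⟩)) (.node 1 (.one ⟨71, 3, 5⟩) (.one ⟨37, 6, 8⟩))) (.node 2 (.node 1 (.one ⟨4859, 4, 14⟩) (.one ⟨8929, 3, 14⟩)) (.node 1 (.one ⟨1605, 6, 11⟩) (.one ⟨8984, 3, 14⟩)))) (.node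 4 (.node 2 (.node 1 (.one ⟨80, 5, 7⟩) (.one ⟨607, 3, 3⟩)) (.node 1 (.one ⟨71, 5, 5⟩) (.one ⟨2, 3, 7⟩))) (.node 2 (.node 1 (.one ⟨84, 4, 6⟩) (.one ⟨77, 6, 6⟩)) (.node 1 (.one ⟨584, 5, 7⟩) (.one ⟨10759, 0, 2⟩)))))) (.node 16 (.node 8 (.node 4 (.node 2 (.node 1 (.one ⟨604, 5, 7⟩) (.one ⟨582, 6, 8⟩)) (.node 1 (.one ⟨2, 5, 7⟩) (.one ⟨584, 6, 7⟩))) (.node 2 (.node 1 (.one ⟨5289, 2, 15⟩) (.one ⟨11158, 5, 14⟩)) (.node 1 (.one ⟨13254, 5, 13⟩) (.one ⟨15438, 5, 16⟩)))) (.node 4 (.node 2 (.node 1 (.one ⟨4313, 6, 15⟩) (.one ⟨4944, 0, 15⟩)) (.node 1 (.one ⟨12413, 5, 12⟩) (.one ⟨54, 1, 13⟩))) (.node 2 (.node 1 (.one ⟨14024, 4, 13⟩) (.one ⟨4480, 5, 14⟩)) (.node 1 (.one ⟨13848, 5, 16⟩) (.one ⟨9601, 5, 9⟩))))) (.node 8 (.node 4 (.node 2 (.node 1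 (.one ⟨2727, 3, 9⟩) (.one ⟨4639, 3, 14⟩)) (.node 1 (.one ⟨13607, 3, 13⟩) (.one ⟨10301, 6, 12⟩))) (.node 2 (.node 1 (.one ⟨12459, 6, 14⟩) (.one ⟨14710, 4, 15⟩)) (.node 1 (.one ⟨9617, 3, 11⟩) (.one ⟨5690, 5, 13⟩)))) (.node 4 (.node 2 (.node 1 (.one ⟨16137, 3, 15⟩) (.one ⟨6357, 5, 12⟩)) (.node 1 (.one ⟨9518, 3, 15⟩) (.one ⟨9593, 6, 12⟩))) (.node 2 (.node 1 (.one ⟨13169, 5, 14⟩) (.one ⟨14353, 3, 16⟩)) (.node 1 (.one ⟨4000, 6, 14⟩) (.one ⟨1037, 1, 16⟩)))))))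
def par0_0_10 : Arr Par :=
  (.node 32 (.node 16 (.node 8 (.node 4 (.node 2 (.node 1 (.one ⟨14524, 6, 13⟩) (.one ⟨7009, 5, 15⟩)) (.node 1 (.one ⟨2489, 6, 13⟩) (.one ⟨1178, 3, 8⟩))) (.node 2 (.node 1 (.one ⟨13431, 3, 14⟩) (.one ⟨2285, 5, 11⟩)) (.node 1 (.one ⟨12709, 6, 13⟩) (.one ⟨5611, 5, 12⟩)))) (.node 4 (.node 2 (.node 1 (.one ⟨14664, 4, 15⟩) (.one ⟨9179, 5, 11⟩)) (.node 1 (.one ⟨9108, 5, 14⟩) (.one ⟨4653, 3, 16⟩))) (.node 2 (.node 1 (.one ⟨14025, 6, 14⟩) (.one ⟨1176, 3, 11⟩)) (.node 1 (.one ⟨5369, 3, 13⟩) (.one ⟨11387, 5, 12⟩))))) (.node 8 (.node 4 (.node 2 (.node 1 (.one ⟨541, 2, 10⟩) (.one ⟨2797, 5, 11⟩)) (.node 1 (.one ⟨544, 2, 12⟩) (.one ⟨653, 2, 12⟩))) (.node 2 (.node 1 (.one ⟨643, 2, 9⟩) (.one ⟨9180, 5, 9⟩)) (.node 1 (.one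 ⟨6230, 5, 12⟩) (.one ⟨850, 1, 14⟩)))) (.node 4 (.node 2 (.node 1 (.one ⟨2243, 6, 11⟩) (.one ⟨16769, 5, 13⟩)) (.node 1 (.one ⟨12967, 5, 13⟩) (.one ⟨2391, 5, 15⟩))) (.node 2 (.node 1 (.one ⟨4158, 3, 14⟩) (.one ⟨8575, 3, 14⟩)) (.node 1 (.one ⟨5984, 4, 15⟩) (.one ⟨6744, 5, 12⟩)))))) (.node 16 (.node 8 (.node 4 (.node 2 (.node 1 (.one ⟨12948, 2, 14⟩) (.one ⟨16658, 0, 14⟩)) (.node 1 (.one ⟨4976, 4, 12⟩) (.one ⟨10164, 4, 16⟩))) (.node 2 (.node 1 (.one ⟨14751, 2, 13⟩) (.one ⟨3524, 3, 12⟩)) (.node 1 (.one ⟨14339, 5, 13⟩) (.one ⟨16540, 4, 15⟩)))) (.node 4 (.node 2 (.node 1 (.one ⟨13745, 5, 15⟩) (.one ⟨9805, 3, 12⟩)) (.node 1 (.one ⟨1642, 3, 14⟩) (.one ⟨1432, 5, 10⟩))) (.node 2 (.node 1 (.one ⟨4346, 5, 12⟩) (.one ⟨5776, 5, 12⟩)) (.node 1 (.one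 ⟨14423, 5, 11⟩) (.one ⟨9347, 6, 9⟩))))) (.node 8 (.node 4 (.node 2 (.node 1 (.one ⟨10327, 5, 11⟩) (.one ⟨16888, 6, 11⟩)) (.node 1 (.one ⟨4651, 6, 11⟩) (.one ⟨10799, 5, 12⟩))) (.node 2 (.node 1 (.one ⟨17171, 6, 13⟩) (.one ⟨14008, 6, 15⟩)) (.node 1 (.one ⟨1593, 6, 13⟩) (.one ⟨14143, 5, 14⟩)))) (.node 4 (.node 2 (.node 1 (.one ⟨4133, 5, 16⟩) (.one ⟨11631, 5, 12⟩)) (.node 1 (.one ⟨7027, 3, 11⟩) (.one ⟨8232, 5, 15⟩))) (.node 2 (.node 1 (.one ⟨3138, 6, 16⟩) (.one ⟨1711, 3, 9⟩)) (.node 1 (.one ⟨840, 1, 17⟩) (.one ⟨3493, 3, 16⟩)))))))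
def par0_0_11 : Arr Par :=
  (.node 32 (.node 16 (.node 8 (.node 4 (.node 2 (.node 1 (.one ⟨4582, 4, 14⟩) (.one ⟨14843, 4, 15⟩)) (.node 1 (.one ⟨13359, 5, 14⟩) (.one ⟨6189, 3, 16⟩))) (.node 2 (.node 1 (.one ⟨13374, 5, 16⟩) (.one ⟨10228, 4, 14⟩)) (.node 1 (.one ⟨9444, 5, 15⟩) (.one ⟨6076, 4, 15⟩)))) (.node 4 (.node 2 (.node 1 (.one ⟨1421, 4, 16⟩) (.one ⟨8860, 3, 15⟩)) (.node 1 (.one ⟨16521, 6, 15⟩) (.one ⟨10564, 6, 15⟩))) (.node 2 (.node 1 (.one ⟨2409, 5, 15⟩) (.one ⟨9648, 6, 16⟩)) (.node 1 (.one ⟨16797, 4, 12⟩) (.one ⟨11020, 6, 12⟩))))) (.node 8 (.node 4 (.node 2 (.node 1 (.one ⟨14134, 5, 13⟩) (.one ⟨5247, 5, 14⟩)) (.node 1 (.one ⟨2066, 5, 15⟩) (.one ⟨17033, 5, 12⟩))) (.node 2 (.node 1 (.one ⟨9075, 5, 12⟩) (.one ⟨15777, 4, 14⟩))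 (.node 1 (.one ⟨13580, 5, 16⟩) (.one ⟨13413, 5, 10⟩)))) (.node 4 (.node 2 (.node 1 (.one ⟨4311, 3, 16⟩) (.one ⟨9413, 3, 16⟩)) (.node 1 (.one ⟨1434, 5, 16⟩) (.one ⟨15593, 6, 11⟩))) (.node 2 (.node 1 (.one ⟨12120, 5, 16⟩) (.one ⟨7698, 0, 15⟩)) (.node 1 (.one ⟨10471, 5, 16⟩) (.one ⟨14176, 5, 14⟩)))))) (.node 16 (.node 8 (.node 4 (.node 2 (.node 1 (.one ⟨401, 1, 15⟩) (.one ⟨4949, 6, 14⟩)) (.node 1 (.one ⟨9787, 3, 13⟩) (.one ⟨11302, 2, 13⟩))) (.node 2 (.node 1 (.one ⟨14369, 3, 15⟩) (.one ⟨6464, 6, 14⟩)) (.node 1 (.one ⟨3516, 3, 13⟩) (.one ⟨14380, 6, 14⟩)))) (.node 4 (.node 2 (.node 1 (.one ⟨4541, 6, 12⟩) (.one ⟨8199, 5, 14⟩)) (.node 1 (.one ⟨4640, 6, 12⟩) (.one ⟨3859, 4, 14⟩))) (.node 2 (.node 1 (.one ⟨8888, 3, 12⟩) (.one ⟨1584, 6, 10⟩))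 (.node 1 (.one ⟨1023, 1, 14⟩) (.one ⟨6790, 5, 16⟩))))) (.node 8 (.node 4 (.node 2 (.node 1 (.one ⟨4592, 6, 13⟩) (.one ⟨7353, 3, 14⟩)) (.node 1 (.one ⟨14425, 3, 13⟩) (.one ⟨2074, 5, 13⟩))) (.node 2 (.node 1 (.one ⟨12316, 3, 15⟩) (.one ⟨7378, 0, 15⟩)) (.node 1 (.one ⟨17067, 5, 14⟩) (.one ⟨6087, 4, 14⟩)))) (.node 4 (.node 2 (.node 1 (.one ⟨14166, 5, 13⟩) (.one ⟨10424, 2, 15⟩)) (.node 1 (.one ⟨1401, 6, 16⟩) (.one ⟨3174, 6, 14⟩))) (.node 2 (.node 1 (.one ⟨1626, 3, 15⟩) (.one ⟨7342, 6, 12⟩)) (.node 1 (.one ⟨9396, 3, 16⟩) (.one ⟨11638, 3, 12⟩)))))))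
def par0_0_12 : Arr Par :=
  (.node 32 (.node 16 (.node 8 (.node 4 (.node 2 (.node 1 (.one ⟨15786, 5, 12⟩) (.one ⟨658, 1, 13⟩)) (.node 1 (.one ⟨11052, 6, 13⟩) (.one ⟨6633, 4, 13⟩))) (.node 2 (.node 1 (.one ⟨10743, 3, 14⟩) (.one ⟨1335, 5, 9⟩)) (.node 1 (.one ⟨16754, 3, 13⟩) (.one ⟨10821, 5, 13⟩)))) (.node 4 (.node 2 (.node 1 (.one ⟨14761, 4, 14⟩) (.one ⟨9528, 6, 9⟩)) (.node 1 (.one ⟨6981, 3, 11⟩) (.one ⟨7251, 3, 15⟩))) (.node 2 (.node 1 (.one ⟨1140, 3, 16⟩) (.one ⟨1785, 4, 14⟩)) (.node 1 (.one ⟨1334, 5, 16⟩) (.one ⟨12210, 3, 15⟩))))) (.node 8 (.node 4 (.node 2 (.node 1 (.one ⟨7165, 3, 13⟩) (.one ⟨8711, 4, 16⟩)) (.node 1 (.one ⟨9586, 6, 10⟩) (.one ⟨4797, 3, 15⟩))) (.node 2 (.node 1 (.one ⟨16180, 3, 16⟩) (.one ⟨14804, 5, 13⟩)) (.node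 1 (.one ⟨15241, 6, 14⟩) (.one ⟨16592, 4, 15⟩)))) (.node 4 (.node 2 (.node 1 (.one ⟨4152, 6, 15⟩) (.one ⟨6620, 6, 14⟩)) (.node 1 (.one ⟨2775, 5, 12⟩) (.one ⟨9339, 5, 11⟩))) (.node 2 (.node 1 (.one ⟨4994, 5, 15⟩) (.one ⟨12364, 2, 15⟩)) (.node 1 (.one ⟨8117, 3, 16⟩) (.one ⟨16368, 5, 15⟩)))))) (.node 16 (.node 8 (.node 4 (.node 2 (.node 1 (.one ⟨1659, 6, 15⟩) (.one ⟨11627, 4, 16⟩)) (.node 1 (.one ⟨8512, 0, 13⟩) (.one ⟨9608, 5, 11⟩))) (.node 2 (.node 1 (.one ⟨9607, 5, 15⟩) (.one ⟨15047, 4, 15⟩)) (.node 1 (.one ⟨6979, 5, 12⟩) (.one ⟨2689, 3, 11⟩)))) (.node 4 (.node 2 (.node 1 (.one ⟨14861, 4, 13⟩) (.one ⟨15529, 3, 16⟩)) (.node 1 (.one ⟨10753, 3, 12⟩) (.one ⟨14164, 3, 17⟩))) (.node 2 (.node 1 (.one ⟨4296, 5, 12⟩) (.one ⟨8542, 4, 14⟩))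 (.node 1 (.one ⟨9938, 5, 15⟩) (.one ⟨2150, 2, 15⟩))))) (.node 8 (.node 4 (.node 2 (.node 1 (.one ⟨4882, 2, 13⟩) (.one ⟨12187, 5, 15⟩)) (.node 1 (.one ⟨1419, 4, 11⟩) (.one ⟨16183, 2, 14⟩))) (.node 2 (.node 1 (.one ⟨15159, 5, 12⟩) (.one ⟨8798, 6, 12⟩)) (.node 1 (.one ⟨12137, 5, 12⟩) (.one ⟨9442, 5, 10⟩)))) (.node 4 (.node 2 (.node 1 (.one ⟨11073, 5, 15⟩) (.one ⟨13457, 5, 15⟩)) (.node 1 (.one ⟨16428, 5, 15⟩) (.one ⟨9903, 5, 14⟩))) (.node 2 (.node 1 (.one ⟨9665, 6, 15⟩) (.one ⟨14795, 5, 15⟩)) (.node 1 (.one ⟨16789, 3, 14⟩) (.one ⟨4933, 4, 15⟩)))))))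
def par0_0_13 : Arr Par :=
  (.node 32 (.node 16 (.node 8 (.node 4 (.node 2 (.node 1 (.one ⟨14095, 6, 15⟩) (.one ⟨13583, 3, 13⟩)) (.node 1 (.one ⟨1727, 3, 10⟩) (.one ⟨1188, 5, 8⟩))) (.node 2 (.node 1 (.one ⟨5015, 5, 14⟩) (.one ⟨15463, 3, 13⟩)) (.node 1 (.one ⟨10970, 5, 16⟩) (.one ⟨1187, 5, 10⟩)))) (.node 4 (.node 2 (.node 1 (.one ⟨7314, 2, 16⟩) (.one ⟨8727, 3, 13⟩)) (.node 1 (.one ⟨13026, 4, 16⟩) (.one ⟨11773, 5, 12⟩))) (.node 2 (.node 1 (.one ⟨2444, 5, 15⟩) (.one ⟨14869, 4, 13⟩)) (.node 1 (.one ⟨4309, 3, 15⟩) (.one ⟨1337, 5, 14⟩))))) (.node 8 (.node 4 (.node 2 (.node 1 (.one ⟨2353, 5, 13⟩) (.one ⟨1691, 6, 16⟩)) (.node 1 (.one ⟨14195, 2, 13⟩) (.one ⟨1331, 5, 11⟩))) (.node 2 (.node 1 (.one ⟨4914, 4, 12⟩) (.one ⟨893, 1, 12⟩)) (.node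 1 (.one ⟨9526, 6, 14⟩) (.one ⟨12541, 5, 16⟩)))) (.node 4 (.node 2 (.node 1 (.one ⟨1138, 3, 12⟩) (.one ⟨6274, 5, 14⟩)) (.node 1 (.one ⟨16238, 3, 16⟩) (.one ⟨9604, 5, 16⟩))) (.node 2 (.node 1 (.one ⟨14882, 5, 16⟩) (.one ⟨9603, 5, 15⟩)) (.node 1 (.one ⟨13797, 5, 15⟩) (.one ⟨6215, 5, 14⟩)))))) (.node 16 (.node 8 (.node 4 (.node 2 (.node 1 (.one ⟨12422, 3, 14⟩) (.one ⟨4439, 3, 15⟩)) (.node 1 (.one ⟨12551, 3, 11⟩) (.one ⟨4626, 3, 13⟩))) (.node 2 (.node 1 (.one ⟨14288, 5, 15⟩) (.one ⟨10712, 3, 13⟩)) (.node 1 (.one ⟨10531, 5, 13⟩) (.one ⟨2046, 0, 14⟩)))) (.node 4 (.node 2 (.node 1 (.one ⟨15045, 5, 16⟩) (.one ⟨15214, 3, 12⟩)) (.node 1 (.one ⟨9506, 3, 10⟩) (.one ⟨1830, 3, 15⟩))) (.node 2 (.node 1 (.one ⟨5591, 5, 14⟩) (.one ⟨16050, 3, 15⟩))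 (.node 1 (.one ⟨9503, 3, 11⟩) (.one ⟨6960, 5, 11⟩))))) (.node 8 (.node 4 (.node 2 (.node 1 (.one ⟨6322, 5, 12⟩) (.one ⟨14174, 5, 15⟩)) (.node 1 (.one ⟨2608, 3, 14⟩) (.one ⟨15747, 4, 15⟩))) (.node 2 (.node 1 (.one ⟨7051, 3, 12⟩) (.one ⟨1410, 4, 10⟩)) (.node 1 (.one ⟨659, 1, 13⟩) (.one ⟨9905, 6, 15⟩)))) (.node 4 (.node 2 (.node 1 (.one ⟨10140, 4, 12⟩) (.one ⟨6603, 5, 11⟩)) (.node 1 (.one ⟨15413, 5, 13⟩) (.one ⟨293, 2, 10⟩))) (.node 2 (.node 1 (.one ⟨2452, 5, 12⟩) (.one ⟨368, 2, 11⟩)) (.node 1 (.one ⟨5597, 4, 11⟩) (.one ⟨9454, 5, 9⟩)))))))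
def par0_0_14 : Arr Par :=
  (.node 32 (.node 16 (.node 8 (.node 4 (.node 2 (.node 1 (.one ⟨16415, 5, 14⟩) (.one ⟨10325, 5, 10⟩)) (.node 1 (.one ⟨4940, 4, 12⟩) (.one ⟨8303, 5, 13⟩))) (.node 2 (.node 1 (.one ⟨8337, 6, 14⟩) (.one ⟨16694, 4, 16⟩)) (.node 1 (.one ⟨5305, 5, 13⟩) (.one ⟨8071, 4, 15⟩)))) (.node 4 (.node 2 (.node 1 (.one ⟨12381, 3, 13⟩) (.one ⟨10389, 6, 14⟩)) (.node 1 (.one ⟨12038, 5, 14⟩) (.one ⟨1796, 4, 15⟩))) (.node 2 (.node 1 (.one ⟨660, 1, 10⟩) (.one ⟨8692, 4, 11⟩)) (.node 1 (.one ⟨1392, 6, 11⟩) (.one ⟨14191, 2, 14⟩))))) (.node 8 (.node 4 (.node 2 (.node 1 (.one ⟨14211, 0, 15⟩) (.one ⟨5563, 4, 12⟩)) (.node 1 (.one ⟨2271, 5, 12⟩) (.one ⟨10647, 6, 12⟩))) (.node 2 (.node 1 (.one ⟨1191, 5, 7⟩) (.one ⟨14392, 5, 11⟩)) (.node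 1 (.one ⟨10432, 5, 12⟩) (.one ⟨14839, 5, 12⟩)))) (.node 4 (.node 2 (.node 1 (.one ⟨13047, 6, 12⟩) (.one ⟨7208, 5, 11⟩)) (.node 1 (.one ⟨3176, 5, 9⟩) (.one ⟨5716, 5, 16⟩))) (.node 2 (.node 1 (.one ⟨9751, 6, 15⟩) (.one ⟨5579, 5, 13⟩)) (.node 1 (.one ⟨2847, 4, 14⟩) (.one ⟨13271, 5, 11⟩)))))) (.node 16 (.node 8 (.node 4 (.node 2 (.node 1 (.one ⟨16969, 3, 9⟩) (.one ⟨15876, 4, 13⟩)) (.node 1 (.one ⟨13481, 3, 11⟩) (.one ⟨14038, 3, 15⟩))) (.node 2 (.node 1 (.one ⟨5282, 5, 15⟩) (.one ⟨4316, 5, 13⟩)) (.node 1 (.one ⟨11968, 2, 15⟩) (.one ⟨819, 1, 15⟩)))) (.node 4 (.node 2 (.node 1 (.one ⟨12567, 3, 16⟩) (.one ⟨5547, 5, 16⟩)) (.node 1 (.one ⟨4556, 6, 13⟩) (.one ⟨5989, 3, 15⟩))) (.node 2 (.node 1 (.one ⟨14302, 5, 15⟩) (.one ⟨12174, 5, 16⟩)) (.node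 1 (.one ⟨8304, 0, 15⟩) (.one ⟨5972, 4, 14⟩))))) (.node 8 (.node 4 (.node 2 (.node 1 (.one ⟨13438, 5, 15⟩) (.one ⟨8672, 4, 14⟩)) (.node 1 (.one ⟨15368, 6, 14⟩) (.one ⟨6483, 5, 13⟩))) (.node 2 (.node 1 (.one ⟨7718, 5, 15⟩) (.one ⟨3189, 6, 16⟩)) (.node 1 (.one ⟨11214, 5, 8⟩) (.one ⟨3957, 5, 15⟩)))) (.node 4 (.node 2 (.node 1 (.one ⟨11225, 5, 12⟩) (.one ⟨14757, 6, 13⟩)) (.node 1 (.one ⟨12679, 4, 15⟩) (.one ⟨11971, 2, 13⟩))) (.node 2 (.node 1 (.one ⟨6861, 0, 16⟩) (.one ⟨1172, 3, 11⟩)) (.node 1 (.one ⟨6841, 0, 13⟩) (.one ⟨9175, 5, 16⟩)))))))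
def par0_0_15 : Arr Par :=
  (.node 32 (.node 16 (.node 8 (.node 4 (.node 2 (.node 1 (.one ⟨13101, 5, 15⟩) (.one ⟨1190, 5, 15⟩)) (.node 1 (.one ⟨6803, 4, 13⟩) (.one ⟨1189, 5, 16⟩))) (.node 2 (.node 1 (.one ⟨6255, 3, 10⟩) (.one ⟨8895, 3, 11⟩)) (.node 1 (.one ⟨14082, 6, 13⟩) (.one ⟨3910, 2, 14⟩)))) (.node 4 (.node 2 (.node 1 (.one ⟨7155, 0, 15⟩) (.one ⟨12131, 5, 9⟩)) (.node 1 (.one ⟨13612, 5, 16⟩) (.one ⟨8562, 3, 15⟩))) (.node 2 (.node 1 (.one ⟨3723, 4, 13⟩) (.one ⟨5357, 6, 15⟩)) (.node 1 (.one ⟨14666, 5, 14⟩) (.one ⟨17052, 5, 14⟩))))) (.node 8 (.node 4 (.node 2 (.node 1 (.one ⟨4378, 5, 15⟩) (.one ⟨1967, 5, 12⟩)) (.node 1 (.one ⟨7361, 3, 14⟩) (.one ⟨10429, 2, 12⟩))) (.node 2 (.node 1 (.one ⟨2761, 3, 12⟩) (.one ⟨16564, 4, 14⟩)) (.node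 1 (.one ⟨14362, 5, 15⟩) (.one ⟨11518, 3, 13⟩)))) (.node 4 (.node 2 (.node 1 (.one ⟨7262, 6, 14⟩) (.one ⟨16803, 3, 15⟩)) (.node 1 (.one ⟨14384, 3, 12⟩) (.one ⟨8801, 6, 13⟩))) (.node 2 (.node 1 (.one ⟨2338, 6, 13⟩) (.one ⟨15347, 3, 14⟩)) (.node 1 (.one ⟨2750, 4, 15⟩) (.one ⟨5083, 0, 15⟩)))))) (.node 16 (.node 8 (.node 4 (.node 2 (.node 1 (.one ⟨4934, 6, 15⟩) (.one ⟨12166, 5, 12⟩)) (.node 1 (.one ⟨3122, 5, 9⟩) (.one ⟨8743, 3, 14⟩))) (.node 2 (.node 1 (.one ⟨4398, 5, 13⟩) (.one ⟨8188, 5, 15⟩)) (.node 1 (.one ⟨4105, 5, 13⟩) (.one ⟨4512, 3, 12⟩)))) (.node 4 (.node 2 (.node 1 (.one ⟨16767, 3, 14⟩) (.one ⟨3173, 5, 13⟩)) (.node 1 (.one ⟨14287, 3, 12⟩) (.one ⟨6592, 6, 14⟩))) (.node 2 (.node 1 (.one ⟨1252, 3, 12⟩) (.one ⟨1408, 4, 15⟩)) (.node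 1 (.one ⟨1429, 5, 15⟩) (.one ⟨1430, 5, 16⟩))))) (.node 8 (.node 4 (.node 2 (.node 1 (.one ⟨2700, 2, 16⟩) (.one ⟨8722, 5, 15⟩)) (.node 1 (.one ⟨13837, 5, 16⟩) (.one ⟨10489, 5, 16⟩))) (.node 2 (.node 1 (.one ⟨5531, 5, 16⟩) (.one ⟨7059, 3, 14⟩)) (.node 1 (.one ⟨12291, 3, 14⟩) (.one ⟨8310, 6, 12⟩)))) (.node 4 (.node 2 (.node 1 (.one ⟨7384, 5, 14⟩) (.one ⟨656, 1, 11⟩)) (.node 1 (.one ⟨13083, 6, 13⟩) (.one ⟨9132, 6, 14⟩))) (.node 2 (.node 1 (.one ⟨14913, 0, 15⟩) (.one ⟨10951, 6, 14⟩)) (.node 1 (.one ⟨6283, 5, 14⟩) (.one ⟨2906, 2, 13⟩)))))))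
def par0_0 : Arr Par :=
  (.node 512 (.node 256 (.node 128 (.node 64 par0_0_0 par0_0_1) (.node 64 par0_0_2 par0_0_3)) (.node 128 (.node 64 par0_0_4 par0_0_5) (.node 64 par0_0_6 par0_0_7))) (.node 256 (.node 128 (.node 64 par0_0_8 par0_0_9) (.node 64 par0_0_10 par0_0_11)) (.node 128 (.node 64 par0_0_12 par0_0_13) (.node 64 par0_0_14 par0_0_15))))
def par0_1_0 : Arr Par :=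
  (.node 32 (.node 16 (.node 8 (.node 4 (.node 2 (.node 1 (.one ⟨6773, 5, 11⟩) (.one ⟨9163, 0, 14⟩)) (.node 1 (.one ⟨5211, 5, 15⟩) (.one ⟨13602, 3, 12⟩))) (.node 2 (.node 1 (.one ⟨8637, 4, 15⟩) (.one ⟨17131, 2, 14⟩)) (.node 1 (.one ⟨16296, 0, 15⟩) (.one ⟨14756, 2, 12⟩)))) (.node 4 (.node 2 (.node 1 (.one ⟨10645, 6, 13⟩) (.one ⟨5990, 2, 15⟩)) (.node 1 (.one ⟨6996, 5, 14⟩) (.one ⟨9614, 5, 12⟩))) (.node 2 (.node 1 (.one ⟨12110, 5, 12⟩) (.one ⟨16732, 2, 15⟩)) (.node 1 (.one ⟨15439, 3, 13⟩) (.one ⟨9613, 5, 9⟩))))) (.node 8 (.node 4 (.node 2 (.node 1 (.one ⟨14567, 5, 12⟩) (.one ⟨16544, 4, 15⟩)) (.node 1 (.one ⟨891, 1, 11⟩) (.one ⟨3336, 5, 13⟩))) (.node 2 (.node 1 (.one ⟨8491, 4, 13⟩) (.one ⟨12465, 3, 15⟩)) (.node 1 (.one ⟨10032, 4, 13⟩)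 (.one ⟨12580, 5, 16⟩)))) (.node 4 (.node 2 (.node 1 (.one ⟨4636, 6, 12⟩) (.one ⟨3755, 4, 14⟩)) (.node 1 (.one ⟨3630, 3, 13⟩) (.one ⟨4867, 4, 11⟩))) (.node 2 (.node 1 (.one ⟨15828, 4, 14⟩) (.one ⟨12348, 6, 16⟩)) (.node 1 (.one ⟨8921, 3, 14⟩) (.one ⟨2992, 4, 11⟩)))))) (.node 16 (.node 8 (.node 4 (.node 2 (.node 1 (.one ⟨274, 1, 13⟩) (.one ⟨17010, 3, 13⟩)) (.node 1 (.one ⟨11219, 5, 10⟩) (.one ⟨6763, 5, 16⟩))) (.node 2 (.node 1 (.one ⟨184, 1, 16⟩) (.one ⟨5651, 6, 14⟩)) (.node 1 (.one ⟨9351, 6, 10⟩) (.one ⟨6631, 5, 12⟩)))) (.node 4 (.node 2 (.node 1 (.one ⟨3775, 4, 15⟩) (.one ⟨9356, 6, 10⟩)) (.node 1 (.one ⟨4598, 4, 13⟩) (.one ⟨9746, 3, 14⟩))) (.node 2 (.node 1 (.one ⟨11119, 4, 15⟩) (.one ⟨14516, 6, 15⟩)) (.node 1 (.one ⟨16071, 3, 16⟩)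 (.one ⟨1296, 6, 10⟩))))) (.node 8 (.node 4 (.node 2 (.node 1 (.one ⟨1065, 5, 11⟩) (.one ⟨8377, 0, 15⟩)) (.node 1 (.one ⟨1104, 3, 16⟩) (.one ⟨1295, 6, 12⟩))) (.node 2 (.node 1 (.one ⟨1105, 3, 11⟩) (.one ⟨279, 4, 15⟩)) (.node 1 (.one ⟨1297, 6, 12⟩) (.one ⟨1305, 6, 9⟩)))) (.node 4 (.node 2 (.node 1 (.one ⟨623, 4, 10⟩) (.one ⟨15081, 0, 16⟩)) (.node 1 (.one ⟨729, 5, 17⟩) (.one ⟨1118, 3, 12⟩))) (.node 2 (.node 1 (.one ⟨1113, 3, 10⟩) (.one ⟨187, 5, 16⟩)) (.node 1 (.one ⟨1304, 6, 15⟩) (.one ⟨5951, 6, 6⟩)))))))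
def par0_1_1 : Arr Par :=
  (.node 32 (.node 16 (.node 8 (.node 4 (.node 2 (.node 1 (.one ⟨7102, 5, 13⟩) (.one ⟨7134, 5, 15⟩)) (.node 1 (.one ⟨1880, 4, 14⟩) (.one ⟨5939, 6, 7⟩))) (.node 2 (.node 1 (.one ⟨15278, 5, 14⟩) (.one ⟨15242, 5, 14⟩)) (.node 1 (.one ⟨1847, 4, 13⟩) (.one ⟨6033, 6, 16⟩)))) (.node 4 (.node 2 (.node 1 (.one ⟨15166, 5, 16⟩) (.one ⟨4177, 3, 15⟩)) (.node 1 (.one ⟨9948, 4, 17⟩) (.one ⟨6051, 6, 17⟩))) (.node 2 (.node 1 (.one ⟨14003, 6, 16⟩) (.one ⟨12274, 3, 16⟩)) (.node 1 (.one ⟨14512, 2, 16⟩) (.one ⟨1297, 4, 12⟩))))) (.node 8 (.node 4 (.node 2 (.node 1 (.one ⟨1301, 4, 15⟩) (.one ⟨1296, 4, 10⟩)) (.node 1 (.one ⟨1300, 4, 11⟩) (.one ⟨9177, 6, 15⟩))) (.node 2 (.node 1 (.one ⟨1077, 3, 16⟩) (.one ⟨9172, 6, 11⟩)) (.node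 1 (.one ⟨9171, 6, 11⟩) (.one ⟨1308, 4, 16⟩)))) (.node 4 (.node 2 (.node 1 (.one ⟨1304, 4, 15⟩) (.one ⟨1305, 4, 9⟩)) (.node 1 (.one ⟨1309, 4, 10⟩) (.one ⟨9169, 6, 16⟩))) (.node 2 (.node 1 (.one ⟨9170, 6, 16⟩) (.one ⟨9181, 6, 10⟩)) (.node 1 (.one ⟨1080, 5, 11⟩) (.one ⟨1446, 4, 9⟩)))))) (.node 16 (.node 8 (.node 4 (.node 2 (.node 1 (.one ⟨9359, 6, 8⟩) (.one ⟨9370, 6, 10⟩)) (.node 1 (.one ⟨1444, 4, 14⟩) (.one ⟨9360, 6, 9⟩))) (.node 2 (.node 1 (.one ⟨1445, 4, 9⟩) (.one ⟨1443, 4, 15⟩)) (.node 1 (.one ⟨9369, 6, 13⟩) (.one ⟨9372, 6, 7⟩)))) (.node 4 (.node 2 (.node 1 (.one ⟨9373, 6, 10⟩) (.one ⟨9363, 6, 13⟩)) (.node 1 (.one ⟨1452, 4, 14⟩) (.one ⟨1453, 4, 10⟩))) (.node 2 (.node 1 (.one ⟨9371, 6, 8⟩) (.one ⟨1451, 4, 14⟩)) (.node 1 (.one ⟨9364,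 6, 14⟩) (.one ⟨323, 3, 9⟩))))) (.node 8 (.node 4 (.node 2 (.node 1 (.one ⟨1275, 6, 12⟩) (.one ⟨1427, 4, 10⟩)) (.node 1 (.one ⟨1316, 5, 11⟩) (.one ⟨239, 3, 12⟩))) (.node 2 (.node 1 (.one ⟨1315, 5, 15⟩) (.one ⟨1263, 6, 15⟩)) (.node 1 (.one ⟨1430, 4, 16⟩) (.one ⟨1326, 5, 10⟩)))) (.node 4 (.node 2 (.node 1 (.one ⟨1431, 4, 9⟩) (.one ⟨1435, 4, 11⟩)) (.node 1 (.one ⟨1266, 6, 10⟩) (.one ⟨1325, 5, 16⟩))) (.node 2 (.node 1 (.one ⟨6169, 0, 14⟩) (.one ⟨1324, 5, 16⟩)) (.node 1 (.one ⟨1274, 6, 15⟩) (.one ⟨5336, 5, 16⟩)))))))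
def par0_1_2 : Arr Par :=
  (.node 32 (.node 16 (.node 8 (.node 4 (.node 2 (.node 1 (.one ⟨5027, 4, 17⟩) (.one ⟨13421, 5, 13⟩)) (.node 1 (.one ⟨1695, 6, 14⟩) (.one ⟨1679, 6, 15⟩))) (.node 2 (.node 1 (.one ⟨5374, 5, 14⟩) (.one ⟨4996, 4, 16⟩)) (.node 1 (.one ⟨16842, 3, 16⟩) (.one ⟨1162, 1, 15⟩)))) (.node 4 (.node 2 (.node 1 (.one ⟨13082, 4, 16⟩) (.one ⟨5322, 5, 16⟩)) (.node 1 (.one ⟨16484, 2, 14⟩) (.one ⟨13064, 4, 16⟩))) (.node 2 (.node 1 (.one ⟨8762, 3, 14⟩) (.one ⟨16925, 3, 15⟩)) (.node 1 (.one ⟨5085, 2, 17⟩) (.one ⟨9356, 5, 10⟩))))) (.node 8 (.node 4 (.node 2 (.node 1 (.one ⟨1188, 4, 8⟩) (.one ⟨9355, 5, 11⟩)) (.node 1 (.one ⟨1183, 4, 11⟩) (.one ⟨9358, 5, 16⟩))) (.node 2 (.node 1 (.one ⟨1185, 4, 10⟩) (.one ⟨958, 3, 14⟩)) (.node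 1 (.one ⟨1190, 4, 15⟩) (.one ⟨9343, 5, 10⟩)))) (.node 4 (.node 2 (.node 1 (.one ⟨1196, 4, 10⟩) (.one ⟨9344, 5, 11⟩)) (.node 1 (.one ⟨1191, 4, 7⟩) (.one ⟨205, 3, 15⟩))) (.node 2 (.node 1 (.one ⟨1194, 4, 16⟩) (.one ⟨9345, 5, 15⟩)) (.node 1 (.one ⟨1197, 4, 13⟩) (.one ⟨9319, 5, 10⟩)))))) (.node 16 (.node 8 (.node 4 (.node 2 (.node 1 (.one ⟨9323, 5, 11⟩) (.one ⟨9321, 5, 9⟩)) (.node 1 (.one ⟨9325, 5, 15⟩) (.one ⟨9320, 5, 9⟩))) (.node 2 (.node 1 (.one ⟨9324, 5, 7⟩) (.one ⟨1173, 4, 15⟩)) (.node 1 (.one ⟨9326, 5, 14⟩) (.one ⟨9316, 5, 6⟩)))) (.node 4 (.node 2 (.node 1 (.one ⟨9312, 5, 10⟩) (.one ⟨1179, 4, 16⟩)) (.node 1 (.one ⟨9318, 5, 15⟩) (.one ⟨9315, 5, 10⟩))) (.node 2 (.node 1 (.one ⟨9311, 5, 9⟩) (.one ⟨9313, 5, 12⟩)) (.node 1 (.one ⟨9317,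 5, 14⟩) (.one ⟨9308, 5, 9⟩))))) (.node 8 (.node 4 (.node 2 (.node 1 (.one ⟨9559, 3, 12⟩) (.one ⟨1202, 4, 6⟩)) (.node 1 (.one ⟨9306, 5, 5⟩) (.one ⟨9564, 3, 14⟩))) (.node 2 (.node 1 (.one ⟨1364, 6, 14⟩) (.one ⟨1365, 6, 8⟩)) (.node 1 (.one ⟨9307, 5, 7⟩) (.one ⟨1208, 4, 5⟩)))) (.node 4 (.node 2 (.node 1 (.one ⟨9302, 5, 4⟩) (.one ⟨9553, 3, 13⟩)) (.node 1 (.one ⟨9297, 5, 12⟩) (.one ⟨1374, 6, 7⟩))) (.node 2 (.node 1 (.one ⟨1370, 6, 8⟩) (.one ⟨1372, 6, 15⟩)) (.node 1 (.one ⟨9299, 5, 14⟩) (.one ⟨1312, 4, 11⟩)))))))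
def par0_1_3 : Arr Par :=
  (.node 32 (.node 16 (.node 8 (.node 4 (.node 2 (.node 1 (.one ⟨9610, 3, 11⟩) (.one ⟨9608, 3, 11⟩)) (.node 1 (.one ⟨5635, 0, 13⟩) (.one ⟨9613, 3, 9⟩))) (.node 2 (.node 1 (.one ⟨9609, 3, 10⟩) (.one ⟨9607, 3, 15⟩)) (.node 1 (.one ⟨15475, 0, 16⟩) (.one ⟨1742, 0, 16⟩)))) (.node 4 (.node 2 (.node 1 (.one ⟨1320, 4, 16⟩) (.one ⟨9601, 3, 9⟩)) (.node 1 (.one ⟨9605, 3, 8⟩) (.one ⟨9599, 3, 14⟩))) (.node 2 (.node 1 (.one ⟨15285, 0, 14⟩) (.one ⟨9617, 5, 11⟩)) (.node 1 (.one ⟨9606, 3, 11⟩) (.one ⟨564, 4, 12⟩))))) (.node 8 (.node 4 (.node 2 (.node 1 (.one ⟨9202, 6, 11⟩) (.one ⟨9209, 6, 15⟩)) (.node 1 (.one ⟨1005, 5, 16⟩) (.one ⟨818, 5, 12⟩))) (.node 2 (.node 1 (.one ⟨9201, 6, 9⟩) (.one ⟨9210, 6, 12⟩)) (.node 1 (.one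 ⟨1006, 4, 16⟩) (.one ⟨9588, 3, 16⟩)))) (.node 4 (.node 2 (.node 1 (.one ⟨9203, 6, 14⟩) (.one ⟨9212, 6, 10⟩)) (.node 1 (.one ⟨138, 4, 11⟩) (.one ⟨173, 5, 16⟩))) (.node 2 (.node 1 (.one ⟨9204, 6, 15⟩) (.one ⟨9211, 6, 10⟩)) (.node 1 (.one ⟨885, 5, 11⟩) (.one ⟨9597, 5, 12⟩)))))) (.node 16 (.node 8 (.node 4 (.node 2 (.node 1 (.one ⟨823, 3, 11⟩) (.one ⟨1327, 4, 8⟩)) (.node 1 (.one ⟨1328, 4, 10⟩) (.one ⟨1330, 4, 15⟩))) (.node 2 (.node 1 (.one ⟨1329, 4, 11⟩) (.one ⟨4800, 0, 16⟩)) (.node 1 (.one ⟨1005, 3, 16⟩) (.one ⟨9584, 5, 10⟩)))) (.node 4 (.node 2 (.node 1 (.one ⟨9583, 5, 11⟩) (.one ⟨1335, 4, 9⟩)) (.node 1 (.one ⟨1336, 4, 9⟩) (.one ⟨1338, 4, 14⟩))) (.node 2 (.node 1 (.one ⟨1337, 4, 14⟩) (.one ⟨9588, 5, 16⟩)) (.node 1 (.one ⟨9587, 5,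 15⟩) (.one ⟨2763, 0, 14⟩))))) (.node 8 (.node 4 (.node 2 (.node 1 (.one ⟨9530, 3, 12⟩) (.one ⟨9460, 6, 10⟩)) (.node 1 (.one ⟨9528, 3, 9⟩) (.one ⟨116, 5, 17⟩))) (.node 2 (.node 1 (.one ⟨634, 5, 16⟩) (.one ⟨9462, 6, 12⟩)) (.node 1 (.one ⟨878, 5, 12⟩) (.one ⟨9520, 3, 11⟩)))) (.node 4 (.node 2 (.node 1 (.one ⟨9523, 3, 10⟩) (.one ⟨11889, 0, 15⟩)) (.node 1 (.one ⟨9526, 3, 14⟩) (.one ⟨9470, 6, 11⟩))) (.node 2 (.node 1 (.one ⟨269, 5, 11⟩) (.one ⟨1020, 5, 16⟩)) (.node 1 (.one ⟨9458, 6, 16⟩) (.one ⟨9287, 5, 8⟩)))))))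
def par0_1_4 : Arr Par :=
  (.node 32 (.node 16 (.node 8 (.node 4 (.node 2 (.node 1 (.one ⟨4289, 2, 13⟩) (.one ⟨9292, 5, 5⟩)) (.node 1 (.one ⟨9293, 5, 9⟩) (.one ⟨9289, 5, 13⟩))) (.node 2 (.node 1 (.one ⟨13364, 0, 13⟩) (.one ⟨9294, 5, 8⟩)) (.node 1 (.one ⟨9501, 3, 8⟩) (.one ⟨2023, 0, 11⟩)))) (.node 4 (.node 2 (.node 1 (.one ⟨9424, 6, 13⟩) (.one ⟨9437, 6, 8⟩)) (.node 1 (.one ⟨9493, 3, 6⟩) (.one ⟨12468, 0, 13⟩))) (.node 2 (.node 1 (.one ⟨9282, 5, 11⟩) (.one ⟨9283, 5, 6⟩)) (.node 1 (.one ⟨9490, 3, 8⟩) (.one ⟨9171, 3, 11⟩))))) (.node 8 (.node 4 (.node 2 (.node 1 (.one ⟨1168, 5, 9⟩) (.one ⟨1172, 5, 11⟩)) (.node 1 (.one ⟨9175, 3, 16⟩) (.one ⟨1167, 5, 11⟩))) (.node 2 (.node 1 (.one ⟨9173, 3, 10⟩) (.one ⟨7806, 0, 14⟩)) (.node 1 (.one ⟨9629,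 6, 16⟩) (.one ⟨1750, 0, 16⟩)))) (.node 4 (.node 2 (.node 1 (.one ⟨1182, 5, 14⟩) (.one ⟨1178, 5, 8⟩)) (.node 1 (.one ⟨1176, 5, 11⟩) (.one ⟨1181, 5, 16⟩))) (.node 2 (.node 1 (.one ⟨11242, 0, 15⟩) (.one ⟨9180, 3, 9⟩)) (.node 1 (.one ⟨9617, 6, 11⟩) (.one ⟨11310, 0, 16⟩)))))) (.node 16 (.node 8 (.node 4 (.node 2 (.node 1 (.one ⟨1484, 3, 10⟩) (.one ⟨9340, 6, 10⟩)) (.node 1 (.one ⟨9337, 6, 12⟩) (.one ⟨1218, 4, 14⟩))) (.node 2 (.node 1 (.one ⟨1219, 4, 10⟩) (.one ⟨1476, 5, 11⟩)) (.node 1 (.one ⟨9338, 6, 16⟩) (.one ⟨9331, 6, 9⟩)))) (.node 4 (.node 2 (.node 1 (.one ⟨2918, 0, 15⟩) (.one ⟨9329, 6, 15⟩)) (.node 1 (.one ⟨1472, 3, 11⟩) (.one ⟨9332, 6, 11⟩))) (.node 2 (.node 1 (.one ⟨1228, 4, 15⟩) (.one ⟨9330, 6, 15⟩)) (.node 1 (.one ⟨1226, 4, 9⟩)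 (.one ⟨1489, 5, 7⟩))))) (.node 8 (.node 4 (.node 2 (.node 1 (.one ⟨1493, 5, 9⟩) (.one ⟨1488, 5, 10⟩)) (.node 1 (.one ⟨1492, 5, 14⟩) (.one ⟨1490, 5, 10⟩))) (.node 2 (.node 1 (.one ⟨1494, 5, 11⟩) (.one ⟨1487, 5, 15⟩)) (.node 1 (.one ⟨1491, 5, 15⟩) (.one ⟨1501, 5, 8⟩)))) (.node 4 (.node 2 (.node 1 (.one ⟨1497, 5, 8⟩) (.one ⟨1499, 5, 13⟩)) (.node 1 (.one ⟨1495, 5, 13⟩) (.one ⟨1502, 5, 10⟩))) (.node 2 (.node 1 (.one ⟨1498, 5, 10⟩) (.one ⟨1500, 5, 15⟩)) (.node 1 (.one ⟨1496, 5, 15⟩) (.one ⟨1537, 6, 16⟩)))))))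
def par0_1_5 : Arr Par :=
  (.node 32 (.node 16 (.node 8 (.node 4 (.node 2 (.node 1 (.one ⟨456, 4, 11⟩) (.one ⟨1542, 6, 16⟩)) (.node 1 (.one ⟨9239, 3, 15⟩) (.one ⟨835, 4, 9⟩))) (.node 2 (.node 1 (.one ⟨839, 4, 11⟩) (.one ⟨9237, 3, 11⟩)) (.node 1 (.one ⟨9234, 3, 12⟩) (.one ⟨9232, 3, 16⟩)))) (.node 4 (.node 2 (.node 1 (.one ⟨13005, 0, 17⟩) (.one ⟨236, 4, 14⟩)) (.node 1 (.one ⟨238, 4, 16⟩) (.one ⟨397, 4, 12⟩))) (.node 2 (.node 1 (.one ⟨9246, 3, 10⟩) (.one ⟨1536, 6, 11⟩)) (.node 1 (.one ⟨916, 4, 8⟩) (.one ⟨1199, 5, 10⟩))))) (.node 8 (.node 4 (.node 2 (.node 1 (.one ⟨9147, 3, 14⟩) (.one ⟨1365, 4, 8⟩)) (.node 1 (.one ⟨1202, 5, 6⟩) (.one ⟨9144, 3, 13⟩))) (.node 2 (.node 1 (.one ⟨1200, 5, 13⟩) (.one ⟨1201, 5, 7⟩)) (.node 1 (.one ⟨1362,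 4, 7⟩) (.one ⟨1210, 5, 13⟩)))) (.node 4 (.node 2 (.node 1 (.one ⟨9140, 3, 15⟩) (.one ⟨1208, 5, 5⟩)) (.node 1 (.one ⟨1374, 4, 7⟩) (.one ⟨9135, 3, 14⟩))) (.node 2 (.node 1 (.one ⟨1209, 5, 14⟩) (.one ⟨1369, 4, 6⟩)) (.node 1 (.one ⟨1207, 5, 6⟩) (.one ⟨12176, 0, 13⟩)))))) (.node 16 (.node 8 (.node 4 (.node 2 (.node 1 (.one ⟨1279, 6, 9⟩) (.one ⟨1442, 5, 9⟩)) (.node 1 (.one ⟨1290, 6, 7⟩) (.one ⟨1440, 5, 13⟩))) (.node 2 (.node 1 (.one ⟨3067, 0, 13⟩) (.one ⟨9185, 3, 9⟩)) (.node 1 (.one ⟨1293, 6, 7⟩) (.one ⟨1281, 6, 6⟩)))) (.node 4 (.node 2 (.node 1 (.one ⟨9197, 3, 8⟩) (.one ⟨1448, 5, 14⟩)) (.node 1 (.one ⟨1287, 6, 12⟩) (.one ⟨9198, 3, 8⟩))) (.node 2 (.node 1 (.one ⟨1450, 5, 8⟩) (.one ⟨13863, 2, 13⟩)) (.node 1 (.one ⟨1292, 6, 12⟩) (.one ⟨1191,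 6, 7⟩))))) (.node 8 (.node 4 (.node 2 (.node 1 (.one ⟨1196, 6, 10⟩) (.one ⟨1190, 6, 15⟩)) (.node 1 (.one ⟨1185, 6, 10⟩) (.one ⟨1192, 6, 11⟩))) (.node 2 (.node 1 (.one ⟨1540, 4, 10⟩) (.one ⟨1541, 4, 15⟩)) (.node 1 (.one ⟨1542, 4, 16⟩) (.one ⟨1470, 5, 11⟩)))) (.node 4 (.node 2 (.node 1 (.one ⟨1187, 6, 10⟩) (.one ⟨1198, 6, 15⟩)) (.node 1 (.one ⟨1467, 3, 16⟩) (.one ⟨1183, 6, 11⟩))) (.node 2 (.node 1 (.one ⟨1188, 6, 8⟩) (.one ⟨1197, 6, 13⟩)) (.node 1 (.one ⟨1194, 6, 16⟩) (.one ⟨7811, 0, 16⟩)))))))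
def par0_1_6 : Arr Par :=
  (.node 32 (.node 16 (.node 8 (.node 4 (.node 2 (.node 1 (.one ⟨958, 5, 14⟩) (.one ⟨9344, 3, 11⟩)) (.node 1 (.one ⟨643, 5, 9⟩) (.one ⟨9358, 3, 16⟩))) (.node 2 (.node 1 (.one ⟨957, 5, 12⟩) (.one ⟨1229, 6, 12⟩)) (.node 1 (.one ⟨895, 4, 10⟩) (.one ⟨823, 4, 11⟩)))) (.node 4 (.node 2 (.node 1 (.one ⟨9352, 3, 12⟩) (.one ⟨210, 5, 15⟩)) (.node 1 (.one ⟨9345, 3, 15⟩) (.one ⟨541, 5, 10⟩))) (.node 2 (.node 1 (.one ⟨9356, 3, 10⟩) (.one ⟨205, 5, 15⟩)) (.node 1 (.one ⟨12993, 0, 15⟩) (.one ⟨9485, 5, 11⟩))))) (.node 8 (.node 4 (.node 2 (.node 1 (.one ⟨541, 6, 10⟩) (.one ⟨9479, 5, 14⟩)) (.node 1 (.one ⟨9480, 5, 11⟩) (.one ⟨9481, 5, 9⟩))) (.node 2 (.node 1 (.one ⟨9482, 5, 10⟩) (.one ⟨958, 6, 14⟩)) (.node 1 (.one ⟨9484,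 5, 15⟩) (.one ⟨9475, 5, 8⟩)))) (.node 4 (.node 2 (.node 1 (.one ⟨9476, 5, 9⟩) (.one ⟨11056, 2, 15⟩)) (.node 1 (.one ⟨205, 6, 15⟩) (.one ⟨9471, 5, 10⟩))) (.node 2 (.node 1 (.one ⟨643, 6, 9⟩) (.one ⟨9477, 5, 14⟩)) (.node 1 (.one ⟨9478, 5, 15⟩) (.one ⟨9560, 6, 9⟩)))))) (.node 16 (.node 8 (.node 4 (.node 2 (.node 1 (.one ⟨9559, 6, 12⟩) (.one ⟨9566, 6, 7⟩)) (.node 1 (.one ⟨9565, 6, 8⟩) (.one ⟨13443, 0, 14⟩))) (.node 2 (.node 1 (.one ⟨8697, 2, 13⟩) (.one ⟨1564, 3, 8⟩)) (.node 1 (.one ⟨9437, 5, 8⟩) (.one ⟨9554, 6, 12⟩)))) (.node 4 (.node 2 (.node 1 (.one ⟨9553, 6, 13⟩) (.one ⟨9555, 6, 6⟩)) (.node 1 (.one ⟨9556, 6, 7⟩) (.one ⟨1956, 0, 13⟩))) (.node 2 (.node 1 (.one ⟨9424, 5, 13⟩) (.one ⟨1553, 3, 9⟩)) (.node 1 (.one ⟨9552, 6, 9⟩) (.one ⟨390,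 5, 11⟩))))) (.node 8 (.node 4 (.node 2 (.node 1 (.one ⟨331, 4, 11⟩) (.one ⟨240, 4, 16⟩)) (.node 1 (.one ⟨961, 5, 16⟩) (.one ⟨9544, 6, 12⟩))) (.node 2 (.node 1 (.one ⟨916, 5, 8⟩) (.one ⟨9546, 6, 11⟩)) (.node 1 (.one ⟨9549, 6, 16⟩) (.one ⟨9535, 6, 13⟩)))) (.node 4 (.node 2 (.node 1 (.one ⟨9538, 6, 11⟩) (.one ⟨9540, 6, 16⟩)) (.node 1 (.one ⟨9541, 6, 8⟩) (.one ⟨847, 4, 15⟩))) (.node 2 (.node 1 (.one ⟨310, 5, 12⟩) (.one ⟨9539, 6, 16⟩)) (.node 1 (.one ⟨773, 4, 10⟩) (.one ⟨795, 4, 12⟩)))))))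
def par0_1_7 : Arr Par :=
  (.node 32 (.node 16 (.node 8 (.node 4 (.node 2 (.node 1 (.one ⟨777, 5, 10⟩) (.one ⟨239, 5, 12⟩)) (.node 1 (.one ⟨1315, 3, 15⟩) (.one ⟨773, 5, 10⟩))) (.node 2 (.node 1 (.one ⟨1326, 3, 10⟩) (.one ⟨117, 4, 16⟩)) (.node 1 (.one ⟨240, 5, 16⟩) (.one ⟨331, 5, 11⟩)))) (.node 4 (.node 2 (.node 1 (.one ⟨874, 4, 11⟩) (.one ⟨13625, 0, 15⟩)) (.node 1 (.one ⟨847, 5, 15⟩) (.one ⟨1317, 3, 12⟩))) (.node 2 (.node 1 (.one ⟨323, 5, 9⟩) (.one ⟨854, 5, 15⟩)) (.node 1 (.one ⟨1324, 3, 16⟩) (.one ⟨1283, 4, 14⟩))))) (.node 8 (.node 4 (.node 2 (.node 1 (.one ⟨1279, 4, 9⟩) (.one ⟨1281, 4, 6⟩)) (.node 1 (.one ⟨1285, 4, 9⟩) (.one ⟨1280, 4, 14⟩))) (.node 2 (.node 1 (.one ⟨17112, 0, 13⟩) (.one ⟨1497, 3, 8⟩)) (.node 1 (.one ⟨1282, 4,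 10⟩) (.one ⟨1292, 4, 12⟩)))) (.node 4 (.node 2 (.node 1 (.one ⟨9247, 6, 14⟩) (.one ⟨1293, 4, 7⟩)) (.node 1 (.one ⟨9254, 6, 9⟩) (.one ⟨8483, 0, 12⟩))) (.node 2 (.node 1 (.one ⟨1291, 4, 14⟩) (.one ⟨1489, 3, 7⟩)) (.node 1 (.one ⟨1294, 4, 9⟩) (.one ⟨14345, 2, 15⟩)))))) (.node 16 (.node 8 (.node 4 (.node 2 (.node 1 (.one ⟨15345, 3, 15⟩) (.one ⟨5396, 5, 16⟩)) (.node 1 (.one ⟨1503, 1, 16⟩) (.one ⟨14109, 6, 14⟩))) (.node 2 (.node 1 (.one ⟨13477, 5, 13⟩) (.one ⟨5295, 5, 14⟩)) (.node 1 (.one ⟨14122, 6, 15⟩) (.one ⟨13360, 5, 15⟩)))) (.node 4 (.node 2 (.node 1 (.one ⟨5375, 5, 16⟩) (.one ⟨13398, 5, 16⟩)) (.node 1 (.one ⟨5414, 5, 16⟩) (.one ⟨7328, 3, 15⟩))) (.node 2 (.node 1 (.one ⟨14641, 4, 15⟩) (.one ⟨14674, 4, 14⟩)) (.node 1 (.one ⟨14074,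 6, 15⟩) (.one ⟨1377, 4, 10⟩))))) (.node 8 (.node 4 (.node 2 (.node 1 (.one ⟨1501, 6, 8⟩) (.one ⟨1375, 4, 14⟩)) (.node 1 (.one ⟨1488, 6, 10⟩) (.one ⟨1381, 4, 10⟩))) (.node 2 (.node 1 (.one ⟨1497, 6, 8⟩) (.one ⟨1379, 4, 14⟩)) (.node 1 (.one ⟨1492, 6, 14⟩) (.one ⟨1489, 6, 7⟩)))) (.node 4 (.node 2 (.node 1 (.one ⟨1384, 4, 9⟩) (.one ⟨1499, 6, 13⟩)) (.node 1 (.one ⟨1385, 4, 15⟩) (.one ⟨1493, 6, 9⟩))) (.node 2 (.node 1 (.one ⟨1388, 4, 9⟩) (.one ⟨1495, 6, 13⟩)) (.node 1 (.one ⟨1389, 4, 14⟩) (.one ⟨1178, 6, 8⟩)))))))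
def par0_1_8 : Arr Par :=
  (.node 32 (.node 16 (.node 8 (.node 4 (.node 2 (.node 1 (.one ⟨1432, 3, 10⟩) (.one ⟨13204, 0, 15⟩)) (.node 1 (.one ⟨1172, 6, 11⟩) (.one ⟨1435, 3, 11⟩))) (.node 2 (.node 1 (.one ⟨1431, 3, 9⟩) (.one ⟨3624, 0, 14⟩)) (.node 1 (.one ⟨1425, 3, 15⟩) (.one ⟨1181, 6, 16⟩)))) (.node 4 (.node 2 (.node 1 (.one ⟨16982, 0, 15⟩) (.one ⟨1167, 6, 11⟩)) (.node 1 (.one ⟨1427, 3, 10⟩) (.one ⟨1182, 6, 14⟩))) (.node 2 (.node 1 (.one ⟨9413, 5, 16⟩) (.one ⟨1168, 6, 9⟩)) (.node 1 (.one ⟨9409, 5, 11⟩) (.one ⟨1199, 6, 10⟩))))) (.node 8 (.node 4 (.node 2 (.node 1 (.one ⟨9193, 5, 15⟩) (.one ⟨9198, 5, 8⟩)) (.node 1 (.one ⟨1208, 6, 5⟩) (.one ⟨1200, 6, 13⟩))) (.node 2 (.node 1 (.one ⟨1444, 3, 14⟩) (.one ⟨1211, 6, 8⟩)) (.node 1 (.one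 ⟨1207, 6, 6⟩) (.one ⟨1201, 6, 7⟩)))) (.node 4 (.node 2 (.node 1 (.one ⟨1564, 4, 8⟩) (.one ⟨1452, 3, 14⟩)) (.node 1 (.one ⟨1209, 6, 14⟩) (.one ⟨1202, 6, 6⟩))) (.node 2 (.node 1 (.one ⟨9186, 5, 7⟩) (.one ⟨9187, 5, 14⟩)) (.node 1 (.one ⟨1210, 6, 13⟩) (.one ⟨7663, 4, 15⟩)))))) (.node 16 (.node 8 (.node 4 (.node 2 (.node 1 (.one ⟨1707, 6, 12⟩) (.one ⟨1574, 1, 16⟩)) (.node 1 (.one ⟨1623, 6, 14⟩) (.one ⟨1693, 6, 13⟩))) (.node 2 (.node 1 (.one ⟨7152, 5, 16⟩) (.one ⟨1641, 6, 15⟩)) (.node 1 (.one ⟨10490, 2, 15⟩) (.one ⟨16094, 2, 16⟩)))) (.node 4 (.node 2 (.node 1 (.one ⟨2553, 3, 16⟩) (.one ⟨2600, 3, 13⟩)) (.node 1 (.one ⟨15762, 4, 15⟩) (.one ⟨7205, 5, 16⟩))) (.node 2 (.node 1 (.one ⟨15251, 5, 17⟩) (.one ⟨7135, 5, 16⟩)) (.node 1 (.one ⟨10572,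 3, 14⟩) (.one ⟨14146, 5, 16⟩))))) (.node 8 (.node 4 (.node 2 (.node 1 (.one ⟨2929, 4, 9⟩) (.one ⟨2830, 6, 16⟩)) (.node 1 (.one ⟨3696, 4, 10⟩) (.one ⟨5857, 6, 14⟩))) (.node 2 (.node 1 (.one ⟨2096, 6, 8⟩) (.one ⟨2764, 6, 13⟩)) (.node 1 (.one ⟨12265, 3, 10⟩) (.one ⟨1999, 6, 13⟩)))) (.node 4 (.node 2 (.node 1 (.one ⟨6220, 5, 16⟩) (.one ⟨6976, 5, 12⟩)) (.node 1 (.one ⟨4344, 5, 12⟩) (.one ⟨3401, 5, 15⟩))) (.node 2 (.node 1 (.one ⟨12761, 4, 16⟩) (.one ⟨8997, 5, 10⟩)) (.node 1 (.one ⟨371, 5, 11⟩) (.one ⟨2746, 6, 14⟩)))))))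
def par0_1_9 : Arr Par :=
  (.node 32 (.node 16 (.node 8 (.node 4 (.node 2 (.node 1 (.one ⟨11697, 4, 16⟩) (.one ⟨2211, 6, 9⟩)) (.node 1 (.one ⟨3727, 4, 11⟩) (.one ⟨2806, 6, 15⟩))) (.node 2 (.node 1 (.one ⟨5871, 6, 13⟩) (.one ⟨2965, 4, 10⟩)) (.node 1 (.one ⟨4238, 3, 11⟩) (.one ⟨11492, 5, 16⟩)))) (.node 4 (.node 2 (.node 1 (.one ⟨262, 5, 10⟩) (.one ⟨2046, 6, 14⟩)) (.node 1 (.one ⟨12393, 5, 11⟩) (.one ⟨12764, 4, 15⟩))) (.node 2 (.node 1 (.one ⟨17034, 5, 9⟩) (.one ⟨14922, 3, 16⟩)) (.node 1 (.one ⟨6959, 5, 11⟩) (.one ⟨2611, 5, 13⟩))))) (.node 8 (.node 4 (.node 2 (.node 1 (.one ⟨16259, 5, 12⟩) (.one ⟨6947, 3, 16⟩)) (.node 1 (.one ⟨1633, 1, 13⟩) (.one ⟨15957, 5, 15⟩))) (.node 2 (.node 1 (.one ⟨15052, 6, 14⟩) (.one ⟨6070, 5, 14⟩)) (.node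 1 (.one ⟨11029, 4, 15⟩) (.one ⟨8713, 3, 13⟩)))) (.node 4 (.node 2 (.node 1 (.one ⟨15174, 0, 10⟩) (.one ⟨15701, 4, 14⟩)) (.node 1 (.one ⟨12459, 5, 14⟩) (.one ⟨2732, 3, 14⟩))) (.node 2 (.node 1 (.one ⟨7945, 5, 14⟩) (.one ⟨1644, 1, 13⟩)) (.node 1 (.one ⟨1057, 5, 14⟩) (.one ⟨10994, 4, 14⟩)))))) (.node 16 (.node 8 (.node 4 (.node 2 (.node 1 (.one ⟨10715, 5, 12⟩) (.one ⟨10031, 2, 12⟩)) (.node 1 (.one ⟨15956, 5, 14⟩) (.one ⟨15038, 6, 13⟩))) (.node 2 (.node 1 (.one ⟨6943, 3, 15⟩) (.one ⟨8234, 5, 11⟩)) (.node 1 (.one ⟨6083, 5, 13⟩) (.one ⟨10765, 3, 15⟩)))) (.node 4 (.node 2 (.node 1 (.one ⟨599, 5, 15⟩) (.one ⟨8698, 3, 14⟩)) (.node 1 (.one ⟨4286, 5, 13⟩) (.one ⟨4184, 3, 15⟩))) (.node 2 (.node 1 (.one ⟨3526, 2, 12⟩) (.one ⟨6818, 0, 11⟩)) (.node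 1 (.one ⟨15664, 4, 15⟩) (.one ⟨2639, 5, 12⟩))))) (.node 8 (.node 4 (.node 2 (.node 1 (.one ⟨16290, 5, 13⟩) (.one ⟨48, 4, 14⟩)) (.node 1 (.one ⟨2787, 6, 16⟩) (.one ⟨110, 3, 14⟩))) (.node 2 (.node 1 (.one ⟨4315, 5, 14⟩) (.one ⟨1718, 3, 16⟩)) (.node 1 (.one ⟨2943, 4, 11⟩) (.one ⟨16560, 4, 13⟩)))) (.node 4 (.node 2 (.node 1 (.one ⟨6234, 5, 14⟩) (.one ⟨5958, 4, 16⟩)) (.node 1 (.one ⟨10146, 2, 15⟩) (.one ⟨6993, 5, 14⟩))) (.node 2 (.node 1 (.one ⟨12237, 3, 14⟩) (.one ⟨16783, 3, 17⟩)) (.node 1 (.one ⟨781, 5, 15⟩) (.one ⟨10680, 5, 13⟩)))))))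
def par0_1_10 : Arr Par :=
  (.node 32 (.node 16 (.node 8 (.node 4 (.node 2 (.node 1 (.one ⟨2976, 4, 12⟩) (.one ⟨12430, 5, 15⟩)) (.node 1 (.one ⟨218, 4, 13⟩) (.one ⟨636, 3, 15⟩))) (.node 2 (.node 1 (.one ⟨2767, 6, 17⟩) (.one ⟨8200, 5, 14⟩)) (.node 1 (.one ⟨1731, 3, 15⟩) (.one ⟨907, 5, 16⟩)))) (.node 4 (.node 2 (.node 1 (.one ⟨7012, 5, 13⟩) (.one ⟨438, 3, 15⟩)) (.node 1 (.one ⟨16575, 4, 14⟩) (.one ⟨10150, 6, 17⟩))) (.node 2 (.node 1 (.one ⟨4270, 3, 15⟩) (.one ⟨11466, 5, 16⟩)) (.node 1 (.one ⟨14346, 5, 15⟩) (.one ⟨6118, 5, 14⟩))))) (.node 8 (.node 4 (.node 2 (.node 1 (.one ⟨197, 4, 14⟩) (.one ⟨1702, 1, 15⟩)) (.node 1 (.one ⟨2029, 6, 15⟩) (.one ⟨11759, 4, 15⟩))) (.node 2 (.node 1 (.one ⟨2654, 5, 15⟩) (.one ⟨2181, 6, 11⟩)) (.node 1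 (.one ⟨1698, 1, 14⟩) (.one ⟨8961, 5, 12⟩)))) (.node 4 (.node 2 (.node 1 (.one ⟨14281, 5, 14⟩) (.one ⟨14100, 4, 15⟩)) (.node 1 (.one ⟨16513, 2, 13⟩) (.one ⟨5739, 6, 15⟩))) (.node 2 (.node 1 (.one ⟨7948, 5, 17⟩) (.one ⟨6701, 4, 12⟩)) (.node 1 (.one ⟨802, 4, 14⟩) (.one ⟨6100, 5, 13⟩)))))) (.node 16 (.node 8 (.node 4 (.node 2 (.node 1 (.one ⟨4152, 3, 15⟩) (.one ⟨2127, 6, 10⟩)) (.node 1 (.one ⟨13944, 2, 13⟩) (.one ⟨10678, 5, 14⟩))) (.node 2 (.node 1 (.one ⟨11792, 4, 16⟩) (.one ⟨2053, 6, 14⟩)) (.node 1 (.one ⟨11675, 2, 14⟩) (.one ⟨547, 5, 14⟩)))) (.node 4 (.node 2 (.node 1 (.one ⟨5764, 6, 16⟩) (.one ⟨1690, 1, 14⟩)) (.node 1 (.one ⟨17070, 5, 13⟩) (.one ⟨6667, 4, 11⟩))) (.node 2 (.node 1 (.one ⟨7947, 5, 16⟩) (.one ⟨14111, 4, 14⟩)) (.node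 1 (.one ⟨6298, 5, 15⟩) (.one ⟨5679, 4, 8⟩))))) (.node 8 (.node 4 (.node 2 (.node 1 (.one ⟨25, 5, 9⟩) (.one ⟨14304, 6, 9⟩)) (.node 1 (.one ⟨10466, 5, 8⟩) (.one ⟨4878, 5, 13⟩))) (.node 2 (.node 1 (.one ⟨13246, 5, 16⟩) (.one ⟨13173, 5, 14⟩)) (.node 1 (.one ⟨4741, 5, 15⟩) (.one ⟨5776, 4, 12⟩)))) (.node 4 (.node 2 (.node 1 (.one ⟨7463, 2, 14⟩) (.one ⟨4737, 5, 16⟩)) (.node 1 (.one ⟨14211, 4, 15⟩) (.one ⟨13200, 5, 14⟩))) (.node 2 (.node 1 (.one ⟨2693, 2, 15⟩) (.one ⟨1737, 1, 11⟩)) (.node 1 (.one ⟨2731, 3, 14⟩) (.one ⟨5787, 4, 9⟩)))))))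
def par0_1_11 : Arr Par :=
  (.node 32 (.node 16 (.node 8 (.node 4 (.node 2 (.node 1 (.one ⟨6255, 6, 10⟩) (.one ⟨394, 5, 10⟩)) (.node 1 (.one ⟨2383, 5, 9⟩) (.one ⟨4738, 5, 14⟩))) (.node 2 (.node 1 (.one ⟨5191, 5, 15⟩) (.one ⟨5130, 5, 13⟩)) (.node 1 (.one ⟨4856, 5, 12⟩) (.one ⟨5690, 4, 13⟩)))) (.node 4 (.node 2 (.node 1 (.one ⟨9968, 4, 15⟩) (.one ⟨1266, 2, 10⟩)) (.node 1 (.one ⟨14203, 4, 14⟩) (.one ⟨4742, 5, 15⟩))) (.node 2 (.node 1 (.one ⟨2851, 4, 14⟩) (.one ⟨5163, 5, 13⟩)) (.node 1 (.one ⟨1720, 1, 15⟩) (.one ⟨10497, 5, 11⟩))))) (.node 8 (.node 4 (.node 2 (.node 1 (.one ⟨1759, 1, 15⟩) (.one ⟨13195, 5, 15⟩)) (.node 1 (.one ⟨14999, 4, 15⟩) (.one ⟨10292, 5, 14⟩))) (.node 2 (.node 1 (.one ⟨4608, 3, 14⟩) (.one ⟨13341, 5, 15⟩)) (.node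 1 (.one ⟨1760, 1, 15⟩) (.one ⟨2399, 5, 13⟩)))) (.node 4 (.node 2 (.node 1 (.one ⟨1767, 1, 11⟩) (.one ⟨13230, 5, 15⟩)) (.node 1 (.one ⟨1772, 1, 16⟩) (.one ⟨13752, 4, 15⟩))) (.node 2 (.node 1 (.one ⟨10319, 6, 12⟩) (.one ⟨1770, 1, 13⟩)) (.node 1 (.one ⟨12947, 5, 16⟩) (.one ⟨10269, 2, 14⟩)))))) (.node 16 (.node 8 (.node 4 (.node 2 (.node 1 (.one ⟨7848, 2, 14⟩) (.one ⟨2418, 5, 12⟩)) (.node 1 (.one ⟨5292, 5, 16⟩) (.one ⟨4592, 3, 13⟩))) (.node 2 (.node 1 (.one ⟨15001, 4, 16⟩) (.one ⟨2253, 5, 13⟩)) (.node 1 (.one ⟨4759, 3, 15⟩) (.one ⟨1540, 2, 10⟩)))) (.node 4 (.node 2 (.node 1 (.one ⟨14722, 4, 16⟩) (.one ⟨10449, 5, 14⟩)) (.node 1 (.one ⟨13174, 2, 12⟩) (.one ⟨2281, 6, 13⟩))) (.node 2 (.node 1 (.one ⟨12938, 2, 15⟩) (.one ⟨2279, 5, 14⟩))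 (.node 1 (.one ⟨4763, 3, 16⟩) (.one ⟨13, 3, 9⟩))))) (.node 8 (.node 4 (.node 2 (.node 1 (.one ⟨10759, 3, 2⟩) (.one ⟨6955, 5, 15⟩)) (.node 1 (.one ⟨11607, 3, 14⟩) (.one ⟨6128, 3, 8⟩))) (.node 2 (.node 1 (.one ⟨12130, 6, 8⟩) (.one ⟨8167, 3, 11⟩)) (.node 1 (.one ⟨4908, 4, 13⟩) (.one ⟨6956, 5, 15⟩)))) (.node 4 (.node 2 (.node 1 (.one ⟨1831, 6, 16⟩) (.one ⟨14291, 3, 13⟩)) (.node 1 (.one ⟨8140, 3, 12⟩) (.one ⟨853, 3, 13⟩))) (.node 2 (.node 1 (.one ⟨3070, 2, 15⟩) (.one ⟨16541, 5, 14⟩)) (.node 1 (.one ⟨14703, 4, 16⟩) (.one ⟨893, 3, 12⟩)))))))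
def par0_1_12 : Arr Par :=
  (.node 32 (.node 16 (.node 8 (.node 4 (.node 2 (.node 1 (.one ⟨1812, 6, 15⟩) (.one ⟨6952, 5, 16⟩)) (.node 1 (.one ⟨1788, 1, 16⟩) (.one ⟨14737, 4, 15⟩))) (.node 2 (.node 1 (.one ⟨6278, 3, 14⟩) (.one ⟨16237, 3, 13⟩)) (.node 1 (.one ⟨16506, 5, 13⟩) (.one ⟨2728, 3, 1⟩)))) (.node 4 (.node 2 (.node 1 (.one ⟨7954, 4, 14⟩) (.one ⟨16200, 3, 10⟩)) (.node 1 (.one ⟨4053, 6, 9⟩) (.one ⟨129, 3, 10⟩))) (.node 2 (.node 1 (.one ⟨11615, 3, 13⟩) (.one ⟨4894, 4, 14⟩)) (.node 1 (.one ⟨6152, 3, 9⟩) (.one ⟨12148, 6, 12⟩))))) (.node 8 (.node 4 (.node 2 (.node 1 (.one ⟨11589, 6, 15⟩) (.one ⟨1832, 1, 16⟩)) (.node 1 (.one ⟨6160, 3, 13⟩) (.one ⟨10508, 6, 15⟩))) (.node 2 (.node 1 (.one ⟨11055, 5, 14⟩) (.one ⟨3720, 5, 14⟩)) (.node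 1 (.one ⟨1836, 1, 16⟩) (.one ⟨9872, 6, 12⟩)))) (.node 4 (.node 2 (.node 1 (.one ⟨10246, 2, 14⟩) (.one ⟨6139, 3, 13⟩)) (.node 1 (.one ⟨10445, 6, 15⟩) (.one ⟨6195, 3, 12⟩))) (.node 2 (.node 1 (.one ⟨12575, 6, 15⟩) (.one ⟨11764, 5, 15⟩)) (.node 1 (.one ⟨13824, 5, 13⟩) (.one ⟨13800, 5, 14⟩)))))) (.node 16 (.node 8 (.node 4 (.node 2 (.node 1 (.one ⟨14371, 3, 13⟩) (.one ⟨6149, 3, 14⟩)) (.node 1 (.one ⟨15989, 3, 15⟩) (.one ⟨12627, 2, 12⟩))) (.node 2 (.node 1 (.one ⟨2366, 6, 16⟩) (.one ⟨4487, 6, 14⟩)) (.node 1 (.one ⟨11795, 5, 14⟩) (.one ⟨11164, 5, 15⟩)))) (.node 4 (.node 2 (.node 1 (.one ⟨12286, 2, 15⟩) (.one ⟨6185, 3, 12⟩)) (.node 1 (.one ⟨7953, 4, 14⟩) (.one ⟨4097, 6, 13⟩))) (.node 2 (.node 1 (.one ⟨10400, 2, 15⟩) (.one ⟨3751, 5, 15⟩))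 (.node 1 (.one ⟨11582, 6, 14⟩) (.one ⟨14311, 6, 13⟩))))) (.node 8 (.node 4 (.node 2 (.node 1 (.one ⟨3670, 6, 12⟩) (.one ⟨7670, 3, 10⟩)) (.node 1 (.one ⟨8520, 4, 15⟩) (.one ⟨5619, 6, 7⟩))) (.node 2 (.node 1 (.one ⟨5803, 5, 15⟩) (.one ⟨8991, 5, 12⟩)) (.node 1 (.one ⟨16351, 6, 14⟩) (.one ⟨6843, 5, 12⟩)))) (.node 4 (.node 2 (.node 1 (.one ⟨7717, 3, 12⟩) (.one ⟨12050, 0, 13⟩)) (.node 1 (.one ⟨16917, 2, 16⟩) (.one ⟨8969, 5, 14⟩))) (.node 2 (.node 1 (.one ⟨6237, 6, 15⟩) (.one ⟨759, 5, 15⟩)) (.node 1 (.one ⟨8345, 5, 17⟩) (.one ⟨11074, 4, 13⟩)))))))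
def par0_1_13 : Arr Par :=
  (.node 32 (.node 16 (.node 8 (.node 4 (.node 2 (.node 1 (.one ⟨472, 4, 15⟩) (.one ⟨13769, 3, 17⟩)) (.node 1 (.one ⟨1890, 1, 15⟩) (.one ⟨1088, 4, 14⟩))) (.node 2 (.node 1 (.one ⟨7707, 3, 9⟩) (.one ⟨3766, 2, 15⟩)) (.node 1 (.one ⟨10060, 3, 16⟩) (.one ⟨8353, 5, 15⟩)))) (.node 4 (.node 2 (.node 1 (.one ⟨11588, 2, 14⟩) (.one ⟨17007, 5, 14⟩)) (.node 1 (.one ⟨6906, 0, 14⟩) (.one ⟨6840, 5, 15⟩))) (.node 2 (.node 1 (.one ⟨14302, 6, 15⟩) (.one ⟨6738, 0, 12⟩)) (.node 1 (.one ⟨11704, 6, 15⟩) (.one ⟨5697, 5, 14⟩))))) (.node 8 (.node 4 (.node 2 (.node 1 (.one ⟨5649, 6, 6⟩) (.one ⟨8509, 4, 14⟩)) (.node 1 (.one ⟨7701, 3, 11⟩) (.one ⟨6265, 6, 14⟩))) (.node 2 (.node 1 (.one ⟨3634, 6, 11⟩) (.one ⟨17038, 5, 13⟩)) (.node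 1 (.one ⟨8275, 6, 13⟩) (.one ⟨5707, 5, 15⟩)))) (.node 4 (.node 2 (.node 1 (.one ⟨6841, 5, 13⟩) (.one ⟨2037, 3, 15⟩)) (.node 1 (.one ⟨711, 5, 16⟩) (.one ⟨7684, 3, 11⟩))) (.node 2 (.node 1 (.one ⟨3779, 0, 14⟩) (.one ⟨12976, 2, 16⟩)) (.node 1 (.one ⟨17061, 5, 15⟩) (.one ⟨11179, 4, 14⟩)))))) (.node 16 (.node 8 (.node 4 (.node 2 (.node 1 (.one ⟨1092, 4, 15⟩) (.one ⟨10149, 3, 15⟩)) (.node 1 (.one ⟨10885, 2, 14⟩) (.one ⟨7673, 3, 10⟩))) (.node 2 (.node 1 (.one ⟨151, 4, 16⟩) (.one ⟨13769, 5, 17⟩)) (.node 1 (.one ⟨1861, 1, 16⟩) (.one ⟨6846, 5, 14⟩)))) (.node 4 (.node 2 (.node 1 (.one ⟨16407, 5, 16⟩) (.one ⟨6283, 6, 14⟩)) (.node 1 (.one ⟨16620, 4, 15⟩) (.one ⟨974, 5, 15⟩))) (.node 2 (.node 1 (.one ⟨7725, 3, 14⟩) (.one ⟨15633, 0, 11⟩)) (.node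 1 (.one ⟨8990, 5, 15⟩) (.one ⟨79, 2, 8⟩))))) (.node 8 (.node 4 (.node 2 (.node 1 (.one ⟨10465, 5, 6⟩) (.one ⟨10463, 6, 8⟩)) (.node 1 (.one ⟨586, 2, 9⟩) (.one ⟨8472, 5, 15⟩))) (.node 2 (.node 1 (.one ⟨3879, 6, 15⟩) (.one ⟨17055, 5, 14⟩)) (.node 1 (.one ⟨13327, 5, 12⟩) (.one ⟨1084, 2, 11⟩)))) (.node 4 (.node 2 (.node 1 (.one ⟨1752, 4, 12⟩) (.one ⟨8512, 4, 13⟩)) (.node 1 (.one ⟨3096, 2, 12⟩) (.one ⟨2368, 5, 13⟩))) (.node 2 (.node 1 (.one ⟨14008, 4, 15⟩) (.one ⟨8494, 5, 14⟩)) (.node 1 (.one ⟨12775, 4, 16⟩) (.one ⟨11062, 3, 13⟩)))))))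
def par0_1_14 : Arr Par :=
  (.node 32 (.node 16 (.node 8 (.node 4 (.node 2 (.node 1 (.one ⟨5482, 2, 11⟩) (.one ⟨1226, 2, 9⟩)) (.node 1 (.one ⟨13325, 3, 16⟩) (.one ⟨2357, 2, 14⟩))) (.node 2 (.node 1 (.one ⟨16523, 5, 15⟩) (.one ⟨633, 5, 13⟩)) (.node 1 (.one ⟨4957, 2, 14⟩) (.one ⟨6197, 2, 16⟩)))) (.node 4 (.node 2 (.node 1 (.one ⟨13242, 3, 14⟩) (.one ⟨2355, 5, 10⟩)) (.node 1 (.one ⟨2082, 3, 14⟩) (.one ⟨2371, 6, 14⟩))) (.node 2 (.node 1 (.one ⟨16503, 5, 15⟩) (.one ⟨130, 4, 13⟩)) (.node 1 (.one ⟨15686, 2, 16⟩) (.one ⟨1903, 1, 9⟩))))) (.node 8 (.node 4 (.node 2 (.node 1 (.one ⟨2386, 6, 9⟩) (.one ⟨8444, 5, 14⟩)) (.node 1 (.one ⟨8972, 5, 13⟩) (.one ⟨2384, 5, 7⟩))) (.node 2 (.node 1 (.one ⟨1906, 1, 10⟩) (.one ⟨3772, 6, 14⟩)) (.node 1 (.one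 ⟨5281, 5, 11⟩) (.one ⟨1767, 4, 11⟩)))) (.node 4 (.node 2 (.node 1 (.one ⟨8455, 5, 15⟩) (.one ⟨1911, 1, 12⟩)) (.node 1 (.one ⟨12776, 4, 15⟩) (.one ⟨10415, 5, 14⟩))) (.node 2 (.node 1 (.one ⟨15537, 2, 12⟩) (.one ⟨14025, 4, 14⟩)) (.node 1 (.one ⟨8496, 4, 12⟩) (.one ⟨16553, 5, 14⟩)))))) (.node 16 (.node 8 (.node 4 (.node 2 (.node 1 (.one ⟨1926, 1, 15⟩) (.one ⟨11162, 3, 14⟩)) (.node 1 (.one ⟨1921, 1, 10⟩) (.one ⟨17040, 5, 16⟩))) (.node 2 (.node 1 (.one ⟨1920, 1, 12⟩) (.one ⟨917, 5, 12⟩)) (.node 1 (.one ⟨13665, 2, 15⟩) (.one ⟨10436, 5, 11⟩)))) (.node 4 (.node 2 (.node 1 (.one ⟨9829, 2, 16⟩) (.one ⟨2276, 3, 15⟩)) (.node 1 (.one ⟨16539, 5, 16⟩) (.one ⟨10419, 6, 13⟩))) (.node 2 (.node 1 (.one ⟨352, 4, 12⟩) (.one ⟨8566, 4, 14⟩)) (.node 1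 (.one ⟨1998, 3, 15⟩) (.one ⟨749, 6, 11⟩))))) (.node 8 (.node 4 (.node 2 (.node 1 (.one ⟨7915, 5, 14⟩) (.one ⟨10337, 3, 16⟩)) (.node 1 (.one ⟨950, 4, 9⟩) (.one ⟨2997, 4, 8⟩))) (.node 2 (.node 1 (.one ⟨10402, 3, 14⟩) (.one ⟨1689, 6, 16⟩)) (.node 1 (.one ⟨17097, 3, 8⟩) (.one ⟨5800, 4, 16⟩)))) (.node 4 (.node 2 (.node 1 (.one ⟨15016, 4, 14⟩) (.one ⟨12368, 6, 11⟩)) (.node 1 (.one ⟨10950, 5, 13⟩) (.one ⟨16510, 5, 15⟩))) (.node 2 (.node 1 (.one ⟨14298, 5, 14⟩) (.one ⟨6585, 3, 13⟩)) (.node 1 (.one ⟨5131, 5, 11⟩) (.one ⟨14523, 5, 12⟩)))))))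
def par0_1_15 : Arr Par :=
  (.node 32 (.node 16 (.node 8 (.node 4 (.node 2 (.node 1 (.one ⟨8838, 2, 13⟩) (.one ⟨15983, 5, 16⟩)) (.node 1 (.one ⟨7264, 6, 14⟩) (.one ⟨7592, 3, 14⟩))) (.node 2 (.node 1 (.one ⟨6221, 5, 14⟩) (.one ⟨9910, 5, 10⟩)) (.node 1 (.one ⟨1567, 6, 16⟩) (.one ⟨14937, 4, 14⟩)))) (.node 4 (.node 2 (.node 1 (.one ⟨7096, 6, 12⟩) (.one ⟨7329, 6, 15⟩)) (.node 1 (.one ⟨3922, 3, 16⟩) (.one ⟨8697, 4, 13⟩))) (.node 2 (.node 1 (.one ⟨2083, 1, 14⟩) (.one ⟨1848, 5, 13⟩)) (.node 1 (.one ⟨10050, 4, 14⟩) (.one ⟨5402, 2, 12⟩))))) (.node 8 (.node 4 (.node 2 (.node 1 (.one ⟨14268, 5, 15⟩) (.one ⟨15986, 5, 16⟩)) (.node 1 (.one ⟨14513, 5, 15⟩) (.one ⟨1612, 6, 10⟩))) (.node 2 (.node 1 (.one ⟨15311, 6, 12⟩) (.one ⟨15209, 6, 11⟩)) (.node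 1 (.one ⟨1841, 5, 11⟩) (.one ⟨1663, 6, 14⟩)))) (.node 4 (.node 2 (.node 1 (.one ⟨15989, 5, 15⟩) (.one ⟨112, 6, 15⟩)) (.node 1 (.one ⟨15225, 6, 13⟩) (.one ⟨7495, 3, 15⟩))) (.node 2 (.node 1 (.one ⟨3946, 3, 16⟩) (.one ⟨2031, 1, 12⟩)) (.node 1 (.one ⟨15380, 6, 14⟩) (.one ⟨17077, 3, 13⟩)))))) (.node 16 (.node 8 (.node 4 (.node 2 (.node 1 (.one ⟨952, 4, 13⟩) (.one ⟨11741, 3, 13⟩)) (.node 1 (.one ⟨10955, 5, 15⟩) (.one ⟨15022, 4, 17⟩))) (.node 2 (.node 1 (.one ⟨12177, 0, 10⟩) (.one ⟨16500, 5, 14⟩)) (.node 1 (.one ⟨13188, 5, 14⟩) (.one ⟨2048, 1, 10⟩)))) (.node 4 (.node 2 (.node 1 (.one ⟨2049, 1, 11⟩) (.one ⟨2883, 5, 13⟩)) (.node 1 (.one ⟨454, 4, 14⟩) (.one ⟨9012, 3, 14⟩))) (.node 2 (.node 1 (.one ⟨12027, 2, 16⟩) (.one ⟨2053, 1, 14⟩)) (.node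 1 (.one ⟨15020, 4, 16⟩) (.one ⟨4237, 2, 11⟩))))) (.node 8 (.node 4 (.node 2 (.node 1 (.one ⟨1647, 6, 13⟩) (.one ⟨933, 6, 14⟩)) (.node 1 (.one ⟨15539, 3, 14⟩) (.one ⟨7150, 6, 12⟩))) (.node 2 (.node 1 (.one ⟨7156, 6, 15⟩) (.one ⟨442, 5, 14⟩)) (.node 1 (.one ⟨15990, 5, 16⟩) (.one ⟨7166, 6, 12⟩)))) (.node 4 (.node 2 (.node 1 (.one ⟨6317, 5, 16⟩) (.one ⟨1597, 6, 11⟩)) (.node 1 (.one ⟨1699, 6, 15⟩) (.one ⟨7286, 6, 13⟩))) (.node 2 (.node 1 (.one ⟨7278, 6, 16⟩) (.one ⟨1874, 5, 12⟩)) (.node 1 (.one ⟨1999, 1, 13⟩) (.one ⟨11731, 3, 16⟩)))))))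
def par0_1 : Arr Par :=
  (.node 512 (.node 256 (.node 128 (.node 64 par0_1_0 par0_1_1) (.node 64 par0_1_2 par0_1_3)) (.node 128 (.node 64 par0_1_4 par0_1_5) (.node 64 par0_1_6 par0_1_7))) (.node 256 (.node 128 (.node 64 par0_1_8 par0_1_9) (.node 64 par0_1_10 par0_1_11)) (.node 128 (.node 64 par0_1_12 par0_1_13) (.node 64 par0_1_14 par0_1_15))))
def par0_2_0 : Arr Par :=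
  (.node 32 (.node 16 (.node 8 (.node 4 (.node 2 (.node 1 (.one ⟨3729, 2, 9⟩) (.one ⟨6643, 2, 10⟩)) (.node 1 (.one ⟨17090, 3, 13⟩) (.one ⟨2913, 5, 14⟩))) (.node 2 (.node 1 (.one ⟨6019, 2, 15⟩) (.one ⟨4688, 2, 13⟩)) (.node 1 (.one ⟨498, 4, 15⟩) (.one ⟨12245, 6, 17⟩)))) (.node 4 (.node 2 (.node 1 (.one ⟨3808, 0, 11⟩) (.one ⟨16529, 5, 15⟩)) (.node 1 (.one ⟨5112, 5, 13⟩) (.one ⟨10984, 5, 16⟩))) (.node 2 (.node 1 (.one ⟨11709, 3, 12⟩) (.one ⟨1001, 4, 14⟩)) (.node 1 (.one ⟨9025, 3, 12⟩) (.one ⟨15021, 4, 14⟩))))) (.node 8 (.node 4 (.node 2 (.node 1 (.one ⟨4352, 6, 12⟩) (.one ⟨13170, 5, 12⟩)) (.node 1 (.one ⟨972, 6, 14⟩) (.one ⟨5700, 4, 17⟩))) (.node 2 (.node 1 (.one ⟨10975, 5, 14⟩) (.one ⟨6620, 3, 14⟩)) (.node 1 (.one ⟨6281, 5, 15⟩) (.one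 ⟨7918, 5, 15⟩)))) (.node 4 (.node 2 (.node 1 (.one ⟨9019, 3, 9⟩) (.one ⟨1709, 6, 15⟩)) (.node 1 (.one ⟨598, 6, 12⟩) (.one ⟨2322, 3, 13⟩))) (.node 2 (.node 1 (.one ⟨994, 4, 10⟩) (.one ⟨2264, 3, 15⟩)) (.node 1 (.one ⟨3101, 4, 9⟩) (.one ⟨15296, 6, 16⟩)))))) (.node 16 (.node 8 (.node 4 (.node 2 (.node 1 (.one ⟨12004, 3, 15⟩) (.one ⟨1883, 5, 12⟩)) (.node 1 (.one ⟨10154, 4, 13⟩) (.one ⟨11515, 2, 13⟩))) (.node 2 (.node 1 (.one ⟨1568, 6, 13⟩) (.one ⟨15275, 6, 13⟩)) (.node 1 (.one ⟨14939, 4, 15⟩) (.one ⟨6468, 5, 13⟩)))) (.node 4 (.node 2 (.node 1 (.one ⟨7478, 3, 16⟩) (.one ⟨9932, 3, 15⟩)) (.node 1 (.one ⟨15643, 3, 13⟩) (.one ⟨8432, 3, 17⟩))) (.node 2 (.node 1 (.one ⟨14363, 5, 15⟩) (.one ⟨1984, 1, 14⟩)) (.node 1 (.one ⟨9939, 5, 11⟩) (.one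 ⟨6576, 3, 10⟩))))) (.node 8 (.node 4 (.node 2 (.node 1 (.one ⟨3759, 4, 7⟩) (.one ⟨8459, 3, 14⟩)) (.node 1 (.one ⟨5760, 6, 15⟩) (.one ⟨1776, 4, 3⟩))) (.node 2 (.node 1 (.one ⟨338, 4, 10⟩) (.one ⟨8012, 4, 12⟩)) (.node 1 (.one ⟨13540, 6, 12⟩) (.one ⟨6127, 4, 5⟩)))) (.node 4 (.node 2 (.node 1 (.one ⟨12128, 3, 4⟩) (.one ⟨14304, 5, 9⟩)) (.node 1 (.one ⟨10760, 6, 9⟩) (.one ⟨5805, 5, 11⟩))) (.node 2 (.node 1 (.one ⟨3558, 4, 14⟩) (.one ⟨2136, 0, 14⟩)) (.node 1 (.one ⟨14350, 5, 15⟩) (.one ⟨14258, 5, 15⟩)))))))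
def par0_2_1 : Arr Par :=
  (.node 32 (.node 16 (.node 8 (.node 4 (.node 2 (.node 1 (.one ⟨1982, 6, 12⟩) (.one ⟨6631, 3, 12⟩)) (.node 1 (.one ⟨13949, 4, 15⟩) (.one ⟨9053, 3, 13⟩))) (.node 2 (.node 1 (.one ⟨13896, 6, 13⟩) (.one ⟨13489, 6, 16⟩)) (.node 1 (.one ⟨1827, 4, 13⟩) (.one ⟨10283, 4, 16⟩)))) (.node 4 (.node 2 (.node 1 (.one ⟨9922, 3, 17⟩) (.one ⟨10236, 6, 11⟩)) (.node 1 (.one ⟨14460, 6, 15⟩) (.one ⟨354, 5, 13⟩))) (.node 2 (.node 1 (.one ⟨13877, 6, 14⟩) (.one ⟨13623, 4, 15⟩)) (.node 1 (.one ⟨2031, 6, 12⟩) (.one ⟨12135, 2, 9⟩))))) (.node 8 (.node 4 (.node 2 (.node 1 (.one ⟨16092, 4, 15⟩) (.one ⟨14655, 3, 12⟩)) (.node 1 (.one ⟨16052, 2, 15⟩) (.one ⟨14467, 2, 11⟩))) (.node 2 (.node 1 (.one ⟨2449, 3, 15⟩) (.one ⟨465, 4, 15⟩)) (.node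 1 (.one ⟨10062, 2, 14⟩) (.one ⟨4096, 3, 11⟩)))) (.node 4 (.node 2 (.node 1 (.one ⟨2184, 1, 13⟩) (.one ⟨3845, 3, 9⟩)) (.node 1 (.one ⟨10172, 3, 16⟩) (.one ⟨14321, 5, 14⟩))) (.node 2 (.node 1 (.one ⟨2664, 6, 16⟩) (.one ⟨2190, 1, 13⟩)) (.node 1 (.one ⟨2348, 3, 15⟩) (.one ⟨3735, 4, 15⟩)))))) (.node 16 (.node 8 (.node 4 (.node 2 (.node 1 (.one ⟨632, 2, 16⟩) (.one ⟨9229, 5, 14⟩)) (.node 1 (.one ⟨16622, 0, 15⟩) (.one ⟨2058, 6, 14⟩))) (.node 2 (.node 1 (.one ⟨13587, 6, 16⟩) (.one ⟨213, 2, 14⟩)) (.node 1 (.one ⟨9045, 3, 14⟩) (.one ⟨894, 5, 12⟩)))) (.node 4 (.node 2 (.node 1 (.one ⟨2167, 1, 11⟩) (.one ⟨1842, 3, 16⟩)) (.node 1 (.one ⟨2169, 1, 15⟩) (.one ⟨13776, 2, 12⟩))) (.node 2 (.node 1 (.one ⟨3829, 3, 11⟩) (.one ⟨2173, 1, 14⟩)) (.node 1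 (.one ⟨5733, 5, 13⟩) (.one ⟨17121, 3, 15⟩))))) (.node 8 (.node 4 (.node 2 (.node 1 (.one ⟨2022, 6, 15⟩) (.one ⟨5499, 6, 15⟩)) (.node 1 (.one ⟨6311, 2, 14⟩) (.one ⟨9230, 5, 15⟩))) (.node 2 (.node 1 (.one ⟨2470, 3, 17⟩) (.one ⟨3703, 4, 14⟩)) (.node 1 (.one ⟨9863, 4, 16⟩) (.one ⟨1309, 2, 10⟩)))) (.node 4 (.node 2 (.node 1 (.one ⟨913, 5, 13⟩) (.one ⟨10276, 2, 14⟩)) (.node 1 (.one ⟨1873, 3, 15⟩) (.one ⟨2465, 2, 11⟩))) (.node 2 (.node 1 (.one ⟨3813, 3, 10⟩) (.one ⟨10609, 2, 13⟩)) (.node 1 (.one ⟨5773, 5, 14⟩) (.one ⟨2134, 1, 15⟩)))))))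
def par0_2_2 : Arr Par :=
  (.node 32 (.node 16 (.node 8 (.node 4 (.node 2 (.node 1 (.one ⟨2131, 1, 12⟩) (.one ⟨10532, 3, 16⟩)) (.node 1 (.one ⟨548, 4, 14⟩) (.one ⟨14691, 3, 13⟩))) (.node 2 (.node 1 (.one ⟨16097, 4, 14⟩) (.one ⟨2127, 1, 10⟩)) (.node 1 (.one ⟨9223, 5, 15⟩) (.one ⟨12146, 3, 10⟩)))) (.node 4 (.node 2 (.node 1 (.one ⟨7846, 2, 12⟩) (.one ⟨10427, 5, 16⟩)) (.node 1 (.one ⟨3795, 3, 8⟩) (.one ⟨6241, 5, 15⟩))) (.node 2 (.node 1 (.one ⟨1864, 3, 15⟩) (.one ⟨10395, 3, 14⟩)) (.node 1 (.one ⟨1409, 2, 12⟩) (.one ⟨3850, 3, 14⟩))))) (.node 8 (.node 4 (.node 2 (.node 1 (.one ⟨5455, 6, 15⟩) (.one ⟨17130, 3, 14⟩)) (.node 1 (.one ⟨10207, 6, 13⟩) (.one ⟨2065, 6, 13⟩))) (.node 2 (.node 1 (.one ⟨6603, 3, 11⟩) (.one ⟨6308, 5, 16⟩)) (.node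 1 (.one ⟨13927, 4, 14⟩) (.one ⟨10171, 4, 15⟩)))) (.node 4 (.node 2 (.node 1 (.one ⟨10676, 6, 17⟩) (.one ⟨10220, 6, 12⟩)) (.node 1 (.one ⟨6423, 6, 14⟩) (.one ⟨322, 5, 12⟩))) (.node 2 (.node 1 (.one ⟨13986, 6, 15⟩) (.one ⟨14417, 6, 16⟩)) (.node 1 (.one ⟨2013, 6, 13⟩) (.one ⟨1799, 4, 2⟩)))))) (.node 16 (.node 8 (.node 4 (.node 2 (.node 1 (.one ⟨5446, 6, 13⟩) (.one ⟨435, 4, 11⟩)) (.node 1 (.one ⟨7983, 4, 11⟩) (.one ⟨3871, 4, 8⟩))) (.node 2 (.node 1 (.one ⟨8488, 3, 13⟩) (.one ⟨6611, 3, 11⟩)) (.node 1 (.one ⟨5741, 6, 14⟩) (.one ⟨4049, 3, 3⟩)))) (.node 4 (.node 2 (.node 1 (.one ⟨6156, 4, 6⟩) (.one ⟨2730, 6, 10⟩)) (.node 1 (.one ⟨6255, 5, 10⟩) (.one ⟨853, 0, 13⟩))) (.node 2 (.node 1 (.one ⟨6235, 5, 14⟩) (.one ⟨5699, 5, 10⟩)) (.node 1 (.one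 ⟨3549, 4, 13⟩) (.one ⟨2216, 5, 7⟩))))) (.node 8 (.node 4 (.node 2 (.node 1 (.one ⟨393, 0, 14⟩) (.one ⟨6521, 6, 2⟩)) (.node 1 (.one ⟨11273, 6, 10⟩) (.one ⟨130, 0, 13⟩))) (.node 2 (.node 1 (.one ⟨10314, 1, 9⟩) (.one ⟨5660, 5, 14⟩)) (.node 1 (.one ⟨2385, 4, 9⟩) (.one ⟨13657, 6, 12⟩)))) (.node 4 (.node 2 (.node 1 (.one ⟨10304, 1, 15⟩) (.one ⟨10279, 5, 13⟩)) (.node 1 (.one ⟨12024, 4, 13⟩) (.one ⟨6557, 6, 13⟩))) (.node 2 (.node 1 (.one ⟨14939, 6, 15⟩) (.one ⟨9268, 2, 12⟩)) (.node 1 (.one ⟨4054, 4, 15⟩) (.one ⟨12008, 3, 12⟩)))))))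
def par0_2_3 : Arr Par :=
  (.node 32 (.node 16 (.node 8 (.node 4 (.node 2 (.node 1 (.one ⟨14930, 6, 15⟩) (.one ⟨10553, 4, 15⟩)) (.node 1 (.one ⟨10973, 6, 16⟩) (.one ⟨10512, 4, 10⟩))) (.node 2 (.node 1 (.one ⟨1978, 3, 14⟩) (.one ⟨2121, 5, 12⟩)) (.node 1 (.one ⟨8303, 2, 13⟩) (.one ⟨10344, 4, 15⟩)))) (.node 4 (.node 2 (.node 1 (.one ⟨12041, 4, 12⟩) (.one ⟨10288, 1, 13⟩)) (.node 1 (.one ⟨8728, 0, 15⟩) (.one ⟨10189, 5, 13⟩))) (.node 2 (.node 1 (.one ⟨13264, 3, 15⟩) (.one ⟨10453, 4, 12⟩)) (.node 1 (.one ⟨13720, 5, 17⟩) (.one ⟨12048, 4, 14⟩))))) (.node 8 (.node 4 (.node 2 (.node 1 (.one ⟨13676, 6, 13⟩) (.one ⟨10343, 1, 14⟩)) (.node 1 (.one ⟨14028, 5, 15⟩) (.one ⟨10236, 5, 11⟩))) (.node 2 (.node 1 (.one ⟨1832, 5, 16⟩) (.one ⟨3063, 3, 16⟩))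 (.node 1 (.one ⟨4408, 4, 13⟩) (.one ⟨2172, 5, 11⟩)))) (.node 4 (.node 2 (.node 1 (.one ⟨11055, 2, 14⟩) (.one ⟨5600, 6, 13⟩)) (.node 1 (.one ⟨9726, 5, 14⟩) (.one ⟨11956, 3, 13⟩))) (.node 2 (.node 1 (.one ⟨10004, 3, 16⟩) (.one ⟨11066, 3, 15⟩)) (.node 1 (.one ⟨12472, 4, 15⟩) (.one ⟨10206, 5, 11⟩)))))) (.node 16 (.node 8 (.node 4 (.node 2 (.node 1 (.one ⟨2025, 3, 14⟩) (.one ⟨10498, 4, 14⟩)) (.node 1 (.one ⟨10329, 1, 13⟩) (.one ⟨6559, 6, 13⟩))) (.node 2 (.node 1 (.one ⟨12101, 4, 14⟩) (.one ⟨9461, 2, 11⟩)) (.node 1 (.one ⟨10333, 1, 16⟩) (.one ⟨10435, 4, 13⟩)))) (.node 4 (.node 2 (.node 1 (.one ⟨13696, 5, 16⟩) (.one ⟨10319, 1, 12⟩)) (.node 1 (.one ⟨13191, 2, 16⟩) (.one ⟨6055, 5, 13⟩))) (.node 2 (.node 1 (.one ⟨10326, 1, 13⟩) (.one ⟨2137,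 5, 10⟩)) (.node 1 (.one ⟨5173, 3, 16⟩) (.one ⟨11963, 3, 14⟩))))) (.node 8 (.node 4 (.node 2 (.node 1 (.one ⟨8355, 3, 14⟩) (.one ⟨5755, 6, 15⟩)) (.node 1 (.one ⟨5338, 4, 15⟩) (.one ⟨10080, 3, 13⟩))) (.node 2 (.node 1 (.one ⟨5872, 3, 15⟩) (.one ⟨7747, 2, 15⟩)) (.node 1 (.one ⟨16237, 5, 13⟩) (.one ⟨12018, 3, 16⟩)))) (.node 4 (.node 2 (.node 1 (.one ⟨5909, 3, 13⟩) (.one ⟨8309, 3, 11⟩)) (.node 1 (.one ⟨13536, 2, 16⟩) (.one ⟨3423, 6, 11⟩))) (.node 2 (.node 1 (.one ⟨11952, 3, 15⟩) (.one ⟨14487, 5, 15⟩)) (.node 1 (.one ⟨8246, 3, 12⟩) (.one ⟨2529, 5, 16⟩)))))))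
def par0_2_4 : Arr Par :=
  (.node 32 (.node 16 (.node 8 (.node 4 (.node 2 (.node 1 (.one ⟨5626, 5, 16⟩) (.one ⟨15076, 6, 13⟩)) (.node 1 (.one ⟨10708, 6, 15⟩) (.one ⟨16226, 5, 12⟩))) (.node 2 (.node 1 (.one ⟨11554, 4, 14⟩) (.one ⟨16419, 3, 14⟩)) (.node 1 (.one ⟨8285, 3, 11⟩) (.one ⟨14485, 5, 10⟩)))) (.node 4 (.node 2 (.node 1 (.one ⟨8276, 3, 11⟩) (.one ⟨16374, 3, 14⟩)) (.node 1 (.one ⟨2690, 4, 14⟩) (.one ⟨13751, 6, 14⟩))) (.node 2 (.node 1 (.one ⟨14143, 6, 14⟩) (.one ⟨8159, 5, 11⟩)) (.node 1 (.one ⟨2595, 5, 14⟩) (.one ⟨4284, 4, 14⟩))))) (.node 8 (.node 4 (.node 2 (.node 1 (.one ⟨8267, 3, 11⟩) (.one ⟨10406, 1, 13⟩)) (.node 1 (.one ⟨10398, 4, 12⟩) (.one ⟨13790, 6, 15⟩))) (.node 2 (.node 1 (.one ⟨16427, 3, 13⟩) (.one ⟨5843, 3, 14⟩))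 (.node 1 (.one ⟨10250, 5, 17⟩) (.one ⟨16379, 3, 13⟩)))) (.node 4 (.node 2 (.node 1 (.one ⟨5747, 6, 14⟩) (.one ⟨5814, 3, 15⟩)) (.node 1 (.one ⟨10170, 3, 16⟩) (.one ⟨2023, 3, 11⟩))) (.node 2 (.node 1 (.one ⟨16218, 5, 14⟩) (.one ⟨4382, 4, 16⟩)) (.node 1 (.one ⟨8261, 3, 11⟩) (.one ⟨2639, 6, 12⟩)))))) (.node 16 (.node 8 (.node 4 (.node 2 (.node 1 (.one ⟨13748, 6, 14⟩) (.one ⟨12212, 5, 15⟩)) (.node 1 (.one ⟨11544, 4, 12⟩) (.one ⟨2109, 3, 15⟩))) (.node 2 (.node 1 (.one ⟨12343, 4, 14⟩) (.one ⟨7655, 5, 12⟩)) (.node 1 (.one ⟨8146, 5, 14⟩) (.one ⟨4542, 2, 13⟩)))) (.node 4 (.node 2 (.node 1 (.one ⟨5789, 6, 12⟩) (.one ⟨11508, 4, 13⟩)) (.node 1 (.one ⟨9961, 2, 15⟩) (.one ⟨7112, 0, 15⟩))) (.node 2 (.node 1 (.one ⟨10395, 1, 14⟩) (.one ⟨14886, 6,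 13⟩)) (.node 1 (.one ⟨6435, 5, 12⟩) (.one ⟨5574, 6, 14⟩))))) (.node 8 (.node 4 (.node 2 (.node 1 (.one ⟨4613, 5, 13⟩) (.one ⟨10651, 5, 12⟩)) (.node 1 (.one ⟨2114, 3, 16⟩) (.one ⟨9984, 6, 9⟩))) (.node 2 (.node 1 (.one ⟨4916, 3, 14⟩) (.one ⟨11203, 3, 13⟩)) (.node 1 (.one ⟨16525, 6, 14⟩) (.one ⟨7048, 5, 15⟩)))) (.node 4 (.node 2 (.node 1 (.one ⟨8486, 0, 16⟩) (.one ⟨8270, 4, 14⟩)) (.node 1 (.one ⟨2158, 3, 14⟩) (.one ⟨16408, 4, 13⟩))) (.node 2 (.node 1 (.one ⟨8878, 5, 14⟩) (.one ⟨10598, 5, 14⟩)) (.node 1 (.one ⟨12606, 5, 15⟩) (.one ⟨14103, 5, 13⟩)))))))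
def par0_2_5 : Arr Par :=
  (.node 32 (.node 16 (.node 8 (.node 4 (.node 2 (.node 1 (.one ⟨14222, 5, 12⟩) (.one ⟨12860, 5, 15⟩)) (.node 1 (.one ⟨5270, 2, 16⟩) (.one ⟨2552, 5, 13⟩))) (.node 2 (.node 1 (.one ⟨9262, 2, 10⟩) (.one ⟨16550, 6, 14⟩)) (.node 1 (.one ⟨5376, 4, 15⟩) (.one ⟨4125, 3, 12⟩)))) (.node 4 (.node 2 (.node 1 (.one ⟨16906, 5, 15⟩) (.one ⟨2184, 3, 13⟩)) (.node 1 (.one ⟨5973, 2, 14⟩) (.one ⟨11208, 4, 16⟩))) (.node 2 (.node 1 (.one ⟨3790, 3, 16⟩) (.one ⟨2497, 5, 13⟩)) (.node 1 (.one ⟨8172, 5, 16⟩) (.one ⟨5584, 6, 8⟩))))) (.node 8 (.node 4 (.node 2 (.node 1 (.one ⟨6156, 5, 6⟩) (.one ⟨10464, 1, 8⟩)) (.node 1 (.one ⟨2568, 5, 8⟩) (.one ⟨525, 0, 14⟩))) (.node 2 (.node 1 (.one ⟨8854, 5, 14⟩) (.one ⟨16538, 6, 12⟩)) (.node 1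 (.one ⟨4796, 5, 12⟩) (.one ⟨16894, 5, 14⟩)))) (.node 4 (.node 2 (.node 1 (.one ⟨5989, 5, 15⟩) (.one ⟨6496, 3, 13⟩)) (.node 1 (.one ⟨12363, 4, 15⟩) (.one ⟨11884, 3, 12⟩))) (.node 2 (.node 1 (.one ⟨8126, 5, 16⟩) (.one ⟨9910, 6, 10⟩)) (.node 1 (.one ⟨10280, 3, 13⟩) (.one ⟨5565, 6, 12⟩)))))) (.node 16 (.node 8 (.node 4 (.node 2 (.node 1 (.one ⟨136, 2, 14⟩) (.one ⟨16497, 6, 11⟩)) (.node 1 (.one ⟨5407, 4, 16⟩) (.one ⟨6183, 5, 14⟩))) (.node 2 (.node 1 (.one ⟨3165, 3, 12⟩) (.one ⟨599, 2, 15⟩)) (.node 1 (.one ⟨16649, 6, 15⟩) (.one ⟨8278, 4, 13⟩)))) (.node 4 (.node 2 (.node 1 (.one ⟨5995, 6, 14⟩) (.one ⟨15255, 4, 14⟩)) (.node 1 (.one ⟨12290, 4, 14⟩) (.one ⟨10183, 3, 15⟩))) (.node 2 (.node 1 (.one ⟨10578, 5, 14⟩) (.one ⟨16618, 6, 15⟩)) (.node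 1 (.one ⟨6802, 2, 16⟩) (.one ⟨3145, 3, 14⟩))))) (.node 8 (.node 4 (.node 2 (.node 1 (.one ⟨4645, 5, 13⟩) (.one ⟨13243, 2, 14⟩)) (.node 1 (.one ⟨6528, 4, 11⟩) (.one ⟨10496, 1, 16⟩))) (.node 2 (.node 1 (.one ⟨14235, 5, 10⟩) (.one ⟨2603, 5, 9⟩)) (.node 1 (.one ⟨12760, 6, 17⟩) (.one ⟨1860, 6, 10⟩)))) (.node 4 (.node 2 (.node 1 (.one ⟨11834, 3, 15⟩) (.one ⟨2511, 5, 13⟩)) (.node 1 (.one ⟨16402, 4, 15⟩) (.one ⟨10614, 2, 15⟩))) (.node 2 (.node 1 (.one ⟨10237, 3, 13⟩) (.one ⟨16919, 5, 16⟩)) (.node 1 (.one ⟨12638, 5, 13⟩) (.one ⟨6183, 2, 14⟩)))))))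
def par0_2_6 : Arr Par :=
  (.node 32 (.node 16 (.node 8 (.node 4 (.node 2 (.node 1 (.one ⟨3173, 3, 13⟩) (.one ⟨12876, 5, 15⟩)) (.node 1 (.one ⟨8450, 6, 11⟩) (.one ⟨9556, 2, 7⟩))) (.node 2 (.node 1 (.one ⟨13639, 6, 14⟩) (.one ⟨10481, 1, 16⟩)) (.node 1 (.one ⟨13260, 2, 13⟩) (.one ⟨13100, 6, 11⟩)))) (.node 4 (.node 2 (.node 1 (.one ⟨10487, 1, 15⟩) (.one ⟨10573, 0, 10⟩)) (.node 1 (.one ⟨10545, 5, 14⟩) (.one ⟨10201, 3, 13⟩))) (.node 2 (.node 1 (.one ⟨557, 6, 14⟩) (.one ⟨8295, 4, 14⟩)) (.node 1 (.one ⟨8337, 4, 14⟩) (.one ⟨1953, 6, 15⟩))))) (.node 8 (.node 4 (.node 2 (.node 1 (.one ⟨14103, 6, 13⟩) (.one ⟨4812, 5, 14⟩)) (.node 1 (.one ⟨8621, 6, 15⟩) (.one ⟨10794, 5, 15⟩))) (.node 2 (.node 1 (.one ⟨10615, 5, 11⟩) (.one ⟨10530, 1, 13⟩))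 (.node 1 (.one ⟨12766, 6, 15⟩) (.one ⟨3515, 5, 12⟩)))) (.node 4 (.node 2 (.node 1 (.one ⟨1874, 6, 12⟩) (.one ⟨8840, 5, 13⟩)) (.node 1 (.one ⟨8310, 4, 12⟩) (.one ⟨12244, 4, 14⟩))) (.node 2 (.node 1 (.one ⟨6764, 2, 15⟩) (.one ⟨10565, 5, 17⟩)) (.node 1 (.one ⟨11234, 4, 16⟩) (.one ⟨10511, 1, 10⟩)))))) (.node 16 (.node 8 (.node 4 (.node 2 (.node 1 (.one ⟨10517, 1, 15⟩) (.one ⟨11219, 3, 10⟩)) (.node 1 (.one ⟨10518, 1, 15⟩) (.one ⟨6555, 4, 10⟩))) (.node 2 (.node 1 (.one ⟨9097, 4, 14⟩) (.one ⟨2971, 3, 14⟩)) (.node 1 (.one ⟨16827, 4, 16⟩) (.one ⟨4617, 5, 16⟩)))) (.node 4 (.node 2 (.node 1 (.one ⟨2527, 5, 11⟩) (.one ⟨16939, 5, 14⟩)) (.node 1 (.one ⟨16371, 4, 14⟩) (.one ⟨16224, 5, 16⟩))) (.node 2 (.node 1 (.one ⟨15098, 5, 15⟩) (.one ⟨8409,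 6, 14⟩)) (.node 1 (.one ⟨1848, 6, 13⟩) (.one ⟨13248, 4, 16⟩))))) (.node 8 (.node 4 (.node 2 (.node 1 (.one ⟨9225, 3, 16⟩) (.one ⟨8833, 5, 16⟩)) (.node 1 (.one ⟨14081, 5, 17⟩) (.one ⟨12957, 6, 14⟩))) (.node 2 (.node 1 (.one ⟨9858, 6, 11⟩) (.one ⟨2643, 6, 13⟩)) (.node 1 (.one ⟨5445, 6, 14⟩) (.one ⟨2689, 6, 11⟩)))) (.node 4 (.node 2 (.node 1 (.one ⟨8688, 6, 16⟩) (.one ⟨6357, 6, 12⟩)) (.node 1 (.one ⟨11402, 4, 17⟩) (.one ⟨14208, 6, 10⟩))) (.node 2 (.node 1 (.one ⟨11205, 4, 15⟩) (.one ⟨9821, 6, 13⟩)) (.node 1 (.one ⟨3429, 2, 17⟩) (.one ⟨16901, 5, 15⟩)))))))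
def par0_2_7 : Arr Par :=
  (.node 32 (.node 16 (.node 8 (.node 4 (.node 2 (.node 1 (.one ⟨5292, 0, 16⟩) (.one ⟨5268, 4, 12⟩)) (.node 1 (.one ⟨9227, 3, 13⟩) (.one ⟨4611, 5, 12⟩))) (.node 2 (.node 1 (.one ⟨14339, 3, 13⟩) (.one ⟨12961, 6, 13⟩)) (.node 1 (.one ⟨2942, 5, 15⟩) (.one ⟨2599, 5, 13⟩)))) (.node 4 (.node 2 (.node 1 (.one ⟨14216, 6, 15⟩) (.one ⟨11210, 4, 15⟩)) (.node 1 (.one ⟨8713, 6, 13⟩) (.one ⟨6527, 5, 14⟩))) (.node 2 (.node 1 (.one ⟨9245, 2, 10⟩) (.one ⟨3291, 4, 16⟩)) (.node 1 (.one ⟨10575, 2, 15⟩) (.one ⟨13327, 4, 12⟩))))) (.node 8 (.node 4 (.node 2 (.node 1 (.one ⟨6018, 5, 15⟩) (.one ⟨8183, 4, 12⟩)) (.node 1 (.one ⟨14458, 6, 16⟩) (.one ⟨2519, 3, 12⟩))) (.node 2 (.node 1 (.one ⟨14093, 3, 13⟩) (.one ⟨857, 3, 15⟩)) (.node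 1 (.one ⟨14367, 3, 11⟩) (.one ⟨2463, 4, 11⟩)))) (.node 4 (.node 2 (.node 1 (.one ⟨13103, 5, 13⟩) (.one ⟨14385, 6, 16⟩)) (.node 1 (.one ⟨16941, 5, 16⟩) (.one ⟨9211, 2, 10⟩))) (.node 2 (.node 1 (.one ⟨3142, 4, 13⟩) (.one ⟨14385, 4, 16⟩)) (.node 1 (.one ⟨2570, 3, 13⟩) (.one ⟨5183, 4, 10⟩)))))) (.node 16 (.node 8 (.node 4 (.node 2 (.node 1 (.one ⟨9223, 3, 15⟩) (.one ⟨5313, 4, 15⟩)) (.node 1 (.one ⟨6031, 3, 16⟩) (.one ⟨10584, 3, 12⟩))) (.node 2 (.node 1 (.one ⟨59, 3, 15⟩) (.one ⟨6274, 3, 14⟩)) (.node 1 (.one ⟨16785, 2, 16⟩) (.one ⟨13137, 5, 17⟩)))) (.node 4 (.node 2 (.node 1 (.one ⟨13584, 6, 13⟩) (.one ⟨10008, 0, 14⟩)) (.node 1 (.one ⟨5336, 3, 16⟩) (.one ⟨10415, 4, 14⟩))) (.node 2 (.node 1 (.one ⟨14256, 4, 15⟩) (.one ⟨14435, 4, 17⟩))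 (.node 1 (.one ⟨14093, 5, 13⟩) (.one ⟨5993, 3, 13⟩))))) (.node 8 (.node 4 (.node 2 (.node 1 (.one ⟨10632, 3, 14⟩) (.one ⟨4469, 0, 14⟩)) (.node 1 (.one ⟨5231, 4, 12⟩) (.one ⟨354, 3, 13⟩))) (.node 2 (.node 1 (.one ⟨12414, 4, 15⟩) (.one ⟨9222, 3, 15⟩)) (.node 1 (.one ⟨6393, 6, 13⟩) (.one ⟨1725, 6, 12⟩)))) (.node 4 (.node 2 (.node 1 (.one ⟨10500, 4, 12⟩) (.one ⟨7231, 2, 15⟩)) (.node 1 (.one ⟨16488, 5, 15⟩) (.one ⟨5993, 5, 13⟩))) (.node 2 (.node 1 (.one ⟨10777, 6, 13⟩) (.one ⟨4602, 3, 13⟩)) (.node 1 (.one ⟨7112, 4, 15⟩) (.one ⟨14344, 3, 14⟩)))))))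
def par0_2_8 : Arr Par :=
  (.node 32 (.node 16 (.node 8 (.node 4 (.node 2 (.node 1 (.one ⟨14051, 5, 15⟩) (.one ⟨6256, 3, 10⟩)) (.node 1 (.one ⟨5960, 3, 11⟩) (.one ⟨4867, 6, 11⟩))) (.node 2 (.node 1 (.one ⟨2568, 3, 8⟩) (.one ⟨9216, 3, 15⟩)) (.node 1 (.one ⟨10607, 3, 12⟩) (.one ⟨6372, 4, 10⟩)))) (.node 4 (.node 2 (.node 1 (.one ⟨2384, 4, 7⟩) (.one ⟨5074, 5, 14⟩)) (.node 1 (.one ⟨1017, 0, 12⟩) (.one ⟨6372, 6, 10⟩))) (.node 2 (.node 1 (.one ⟨2727, 6, 9⟩) (.one ⟨4602, 5, 13⟩)) (.node 1 (.one ⟨769, 0, 14⟩) (.one ⟨9871, 6, 15⟩))))) (.node 8 (.node 4 (.node 2 (.node 1 (.one ⟨5772, 2, 16⟩) (.one ⟨10545, 1, 14⟩)) (.node 1 (.one ⟨6294, 3, 12⟩) (.one ⟨913, 3, 13⟩))) (.node 2 (.node 1 (.one ⟨10544, 1, 15⟩) (.one ⟨16265, 4, 16⟩)) (.node 1 (.one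 ⟨12645, 5, 13⟩) (.one ⟨14629, 5, 14⟩)))) (.node 4 (.node 2 (.node 1 (.one ⟨15287, 2, 16⟩) (.one ⟨14062, 5, 13⟩)) (.node 1 (.one ⟨3153, 4, 14⟩) (.one ⟨10451, 4, 14⟩))) (.node 2 (.node 1 (.one ⟨16444, 5, 15⟩) (.one ⟨10753, 6, 12⟩)) (.node 1 (.one ⟨8941, 6, 16⟩) (.one ⟨2603, 3, 9⟩)))))) (.node 16 (.node 8 (.node 4 (.node 2 (.node 1 (.one ⟨14062, 3, 13⟩) (.one ⟨678, 3, 14⟩)) (.node 1 (.one ⟨14325, 3, 15⟩) (.one ⟨14479, 6, 13⟩))) (.node 2 (.node 1 (.one ⟨9218, 3, 14⟩) (.one ⟨5985, 5, 16⟩)) (.node 1 (.one ⟨15674, 5, 15⟩) (.one ⟨6357, 4, 12⟩)))) (.node 4 (.node 2 (.node 1 (.one ⟨10610, 2, 12⟩) (.one ⟨2493, 5, 14⟩)) (.node 1 (.one ⟨16984, 6, 11⟩) (.one ⟨9371, 2, 8⟩))) (.node 2 (.node 1 (.one ⟨8423, 5, 17⟩) (.one ⟨2172, 2, 11⟩)) (.node 1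 (.one ⟨3166, 4, 15⟩) (.one ⟨9892, 5, 12⟩))))) (.node 8 (.node 4 (.node 2 (.node 1 (.one ⟨12376, 4, 13⟩) (.one ⟨6324, 3, 11⟩)) (.node 1 (.one ⟨11959, 5, 13⟩) (.one ⟨2331, 5, 12⟩))) (.node 2 (.node 1 (.one ⟨10784, 4, 16⟩) (.one ⟨7940, 3, 15⟩)) (.node 1 (.one ⟨8048, 3, 16⟩) (.one ⟨1736, 3, 16⟩)))) (.node 4 (.node 2 (.node 1 (.one ⟨11041, 6, 12⟩) (.one ⟨5148, 2, 16⟩)) (.node 1 (.one ⟨2322, 5, 13⟩) (.one ⟨6331, 3, 11⟩))) (.node 2 (.node 1 (.one ⟨11958, 5, 12⟩) (.one ⟨11607, 5, 14⟩)) (.node 1 (.one ⟨5632, 6, 16⟩) (.one ⟨10624, 6, 14⟩)))))))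
def par0_2_9 : Arr Par :=
  (.node 32 (.node 16 (.node 8 (.node 4 (.node 2 (.node 1 (.one ⟨12413, 4, 12⟩) (.one ⟨9925, 2, 16⟩)) (.node 1 (.one ⟨10708, 4, 15⟩) (.one ⟨1002, 6, 13⟩))) (.node 2 (.node 1 (.one ⟨3765, 2, 10⟩) (.one ⟨6824, 2, 15⟩)) (.node 1 (.one ⟨5660, 6, 14⟩) (.one ⟨2311, 5, 11⟩)))) (.node 4 (.node 2 (.node 1 (.one ⟨9855, 2, 13⟩) (.one ⟨3565, 5, 15⟩)) (.node 1 (.one ⟨3794, 5, 15⟩) (.one ⟨10263, 5, 15⟩))) (.node 2 (.node 1 (.one ⟨5410, 2, 14⟩) (.one ⟨7090, 4, 16⟩)) (.node 1 (.one ⟨12010, 5, 10⟩) (.one ⟨12368, 3, 11⟩))))) (.node 8 (.node 4 (.node 2 (.node 1 (.one ⟨3941, 5, 13⟩) (.one ⟨100, 3, 11⟩)) (.node 1 (.one ⟨15219, 4, 15⟩) (.one ⟨9849, 5, 12⟩))) (.node 2 (.node 1 (.one ⟨16122, 3, 15⟩) (.one ⟨7297, 6, 16⟩)) (.node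 1 (.one ⟨16999, 4, 13⟩) (.one ⟨7947, 3, 16⟩)))) (.node 4 (.node 2 (.node 1 (.one ⟨870, 3, 14⟩) (.one ⟨2732, 4, 14⟩)) (.node 1 (.one ⟨11877, 5, 14⟩) (.one ⟨9791, 3, 14⟩))) (.node 2 (.node 1 (.one ⟨8900, 2, 16⟩) (.one ⟨14259, 3, 10⟩)) (.node 1 (.one ⟨10702, 4, 14⟩) (.one ⟨12237, 5, 14⟩)))))) (.node 16 (.node 8 (.node 4 (.node 2 (.node 1 (.one ⟨148, 3, 10⟩) (.one ⟨4487, 3, 14⟩)) (.node 1 (.one ⟨2564, 6, 9⟩) (.one ⟨1806, 5, 10⟩))) (.node 2 (.node 1 (.one ⟨14986, 6, 15⟩) (.one ⟨3897, 5, 8⟩)) (.node 1 (.one ⟨10398, 5, 12⟩) (.one ⟨10645, 5, 13⟩)))) (.node 4 (.node 2 (.node 1 (.one ⟨4184, 5, 15⟩) (.one ⟨9871, 5, 15⟩)) (.node 1 (.one ⟨7221, 4, 15⟩) (.one ⟨11240, 6, 14⟩))) (.node 2 (.node 1 (.one ⟨4369, 3, 12⟩) (.one ⟨10560, 6, 11⟩)) (.node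 1 (.one ⟨10791, 4, 17⟩) (.one ⟨2715, 6, 13⟩))))) (.node 8 (.node 4 (.node 2 (.node 1 (.one ⟨13875, 5, 12⟩) (.one ⟨1919, 2, 14⟩)) (.node 1 (.one ⟨14539, 4, 16⟩) (.one ⟨9291, 2, 9⟩))) (.node 2 (.node 1 (.one ⟨2315, 5, 15⟩) (.one ⟨2689, 5, 11⟩)) (.node 1 (.one ⟨13350, 2, 15⟩) (.one ⟨10483, 6, 9⟩)))) (.node 4 (.node 2 (.node 1 (.one ⟨10369, 5, 17⟩) (.one ⟨10335, 4, 13⟩)) (.node 1 (.one ⟨14554, 4, 14⟩) (.one ⟨2137, 2, 10⟩))) (.node 2 (.node 1 (.one ⟨5840, 5, 14⟩) (.one ⟨9264, 2, 11⟩)) (.node 1 (.one ⟨10782, 1, 15⟩) (.one ⟨2183, 5, 11⟩)))))))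
def par0_2_10 : Arr Par :=
  (.node 32 (.node 16 (.node 8 (.node 4 (.node 2 (.node 1 (.one ⟨10407, 5, 14⟩) (.one ⟨10325, 4, 10⟩)) (.node 1 (.one ⟨14479, 5, 13⟩) (.one ⟨10753, 5, 12⟩))) (.node 2 (.node 1 (.one ⟨15398, 2, 17⟩) (.one ⟨12710, 3, 14⟩)) (.node 1 (.one ⟨5855, 5, 12⟩) (.one ⟨10777, 5, 13⟩)))) (.node 4 (.node 2 (.node 1 (.one ⟨2336, 5, 15⟩) (.one ⟨10306, 4, 13⟩)) (.node 1 (.one ⟨11523, 6, 13⟩) (.one ⟨2707, 6, 16⟩))) (.node 2 (.node 1 (.one ⟨4741, 3, 15⟩) (.one ⟨10451, 6, 14⟩)) (.node 1 (.one ⟨237, 2, 16⟩) (.one ⟨2245, 4, 13⟩))))) (.node 8 (.node 4 (.node 2 (.node 1 (.one ⟨14477, 4, 14⟩) (.one ⟨10415, 6, 14⟩)) (.node 1 (.one ⟨2339, 4, 16⟩) (.one ⟨2720, 6, 15⟩))) (.node 2 (.node 1 (.one ⟨12733, 2, 16⟩) (.one ⟨10740, 1, 13⟩))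 (.node 1 (.one ⟨3344, 6, 17⟩) (.one ⟨14107, 5, 12⟩)))) (.node 4 (.node 2 (.node 1 (.one ⟨13910, 5, 13⟩) (.one ⟨1689, 3, 16⟩)) (.node 1 (.one ⟨10793, 5, 15⟩) (.one ⟨2687, 6, 12⟩))) (.node 2 (.node 1 (.one ⟨10750, 1, 16⟩) (.one ⟨14458, 5, 16⟩)) (.node 1 (.one ⟨2420, 6, 11⟩) (.one ⟨6024, 5, 12⟩)))))) (.node 16 (.node 8 (.node 4 (.node 2 (.node 1 (.one ⟨10248, 5, 14⟩) (.one ⟨2629, 4, 16⟩)) (.node 1 (.one ⟨1749, 3, 16⟩) (.one ⟨14203, 6, 14⟩))) (.node 2 (.node 1 (.one ⟨14577, 5, 10⟩) (.one ⟨11548, 6, 11⟩)) (.node 1 (.one ⟨4744, 3, 13⟩) (.one ⟨2223, 4, 8⟩)))) (.node 4 (.node 2 (.node 1 (.one ⟨7, 1, 0⟩) (.one ⟨2384, 6, 7⟩)) (.node 1 (.one ⟨2727, 5, 9⟩) (.one ⟨6393, 5, 13⟩))) (.node 2 (.node 1 (.one ⟨2344, 5, 13⟩) (.one ⟨11516, 6, 10⟩))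 (.node 1 (.one ⟨1695, 5, 14⟩) (.one ⟨16246, 3, 16⟩))))) (.node 8 (.node 4 (.node 2 (.node 1 (.one ⟨8308, 5, 13⟩) (.one ⟨8433, 6, 13⟩)) (.node 1 (.one ⟨15422, 3, 12⟩) (.one ⟨4684, 5, 7⟩))) (.node 2 (.node 1 (.one ⟨4062, 5, 11⟩) (.one ⟨8011, 4, 15⟩)) (.node 1 (.one ⟨806, 5, 13⟩) (.one ⟨12156, 5, 11⟩)))) (.node 4 (.node 2 (.node 1 (.one ⟨1874, 2, 12⟩) (.one ⟨10929, 6, 17⟩)) (.node 1 (.one ⟨16755, 5, 13⟩) (.one ⟨7507, 5, 12⟩))) (.node 2 (.node 1 (.one ⟨15461, 3, 11⟩) (.one ⟨15967, 6, 17⟩)) (.node 1 (.one ⟨22, 5, 14⟩) (.one ⟨4681, 5, 6⟩)))))))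
def par0_2_11 : Arr Par :=
  (.node 32 (.node 16 (.node 8 (.node 4 (.node 2 (.node 1 (.one ⟨7380, 3, 13⟩) (.one ⟨8467, 6, 14⟩)) (.node 1 (.one ⟨12140, 5, 12⟩) (.one ⟨8218, 3, 15⟩))) (.node 2 (.node 1 (.one ⟨879, 5, 12⟩) (.one ⟨7990, 4, 14⟩)) (.node 1 (.one ⟨16398, 5, 14⟩) (.one ⟨7367, 3, 12⟩)))) (.node 4 (.node 2 (.node 1 (.one ⟨571, 5, 13⟩) (.one ⟨15593, 5, 11⟩)) (.node 1 (.one ⟨3329, 5, 16⟩) (.one ⟨2744, 1, 13⟩))) (.node 2 (.node 1 (.one ⟨16768, 5, 12⟩) (.one ⟨4103, 5, 10⟩)) (.node 1 (.one ⟨3104, 4, 17⟩) (.one ⟨16445, 4, 16⟩))))) (.node 8 (.node 4 (.node 2 (.node 1 (.one ⟨2784, 1, 16⟩) (.one ⟨16505, 6, 14⟩)) (.node 1 (.one ⟨6016, 3, 13⟩) (.one ⟨7384, 3, 14⟩))) (.node 2 (.node 1 (.one ⟨4090, 5, 15⟩) (.one ⟨11077, 4, 12⟩)) (.node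 1 (.one ⟨1034, 5, 15⟩) (.one ⟨12121, 5, 11⟩)))) (.node 4 (.node 2 (.node 1 (.one ⟨1972, 2, 15⟩) (.one ⟨16515, 6, 14⟩)) (.node 1 (.one ⟨16611, 3, 16⟩) (.one ⟨15971, 6, 14⟩))) (.node 2 (.node 1 (.one ⟨3675, 4, 16⟩) (.one ⟨2871, 6, 15⟩)) (.node 1 (.one ⟨13204, 6, 15⟩) (.one ⟨11181, 4, 11⟩)))))) (.node 16 (.node 8 (.node 4 (.node 2 (.node 1 (.one ⟨2027, 2, 15⟩) (.one ⟨16540, 6, 15⟩)) (.node 1 (.one ⟨4803, 4, 16⟩) (.one ⟨16473, 4, 15⟩))) (.node 2 (.node 1 (.one ⟨8582, 3, 16⟩) (.one ⟨15413, 3, 13⟩)) (.node 1 (.one ⟨6004, 3, 14⟩) (.one ⟨2908, 6, 16⟩)))) (.node 4 (.node 2 (.node 1 (.one ⟨16595, 3, 15⟩) (.one ⟨16544, 6, 15⟩)) (.node 1 (.one ⟨5160, 6, 14⟩) (.one ⟨15973, 6, 15⟩))) (.node 2 (.node 1 (.one ⟨2776, 1, 16⟩) (.one ⟨4075, 5, 10⟩))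 (.node 1 (.one ⟨3641, 4, 16⟩) (.one ⟨10921, 6, 11⟩))))) (.node 8 (.node 4 (.node 2 (.node 1 (.one ⟨10989, 5, 15⟩) (.one ⟨2755, 5, 16⟩)) (.node 1 (.one ⟨15198, 3, 14⟩) (.one ⟨12513, 3, 13⟩))) (.node 2 (.node 1 (.one ⟨5593, 5, 15⟩) (.one ⟨11701, 4, 14⟩)) (.node 1 (.one ⟨16000, 4, 14⟩) (.one ⟨12484, 3, 9⟩)))) (.node 4 (.node 2 (.node 1 (.one ⟨2900, 5, 12⟩) (.one ⟨13428, 3, 17⟩)) (.node 1 (.one ⟨2853, 3, 14⟩) (.one ⟨10226, 6, 16⟩))) (.node 2 (.node 1 (.one ⟨14487, 3, 15⟩) (.one ⟨11463, 6, 12⟩)) (.node 1 (.one ⟨10541, 6, 12⟩) (.one ⟨5350, 3, 16⟩)))))))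
def par0_2_12 : Arr Par :=
  (.node 32 (.node 16 (.node 8 (.node 4 (.node 2 (.node 1 (.one ⟨4453, 3, 10⟩) (.one ⟨2864, 5, 13⟩)) (.node 1 (.one ⟨2843, 3, 15⟩) (.one ⟨2458, 6, 13⟩))) (.node 2 (.node 1 (.one ⟨6392, 3, 14⟩) (.one ⟨10212, 6, 15⟩)) (.node 1 (.one ⟨3426, 6, 13⟩) (.one ⟨7180, 3, 15⟩)))) (.node 4 (.node 2 (.node 1 (.one ⟨10898, 6, 12⟩) (.one ⟨5621, 4, 16⟩)) (.node 1 (.one ⟨10951, 5, 14⟩) (.one ⟨5560, 5, 16⟩))) (.node 2 (.node 1 (.one ⟨11727, 4, 15⟩) (.one ⟨4418, 3, 14⟩)) (.node 1 (.one ⟨16001, 4, 15⟩) (.one ⟨10011, 0, 10⟩))))) (.node 8 (.node 4 (.node 2 (.node 1 (.one ⟨13532, 0, 10⟩) (.one ⟨1770, 4, 13⟩)) (.node 1 (.one ⟨5411, 3, 16⟩) (.one ⟨11934, 6, 15⟩))) (.node 2 (.node 1 (.one ⟨15367, 0, 15⟩) (.one ⟨11758, 4, 14⟩))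 (.node 1 (.one ⟨4410, 3, 14⟩) (.one ⟨2064, 5, 13⟩)))) (.node 4 (.node 2 (.node 1 (.one ⟨4021, 6, 15⟩) (.one ⟨12872, 6, 14⟩)) (.node 1 (.one ⟨276, 5, 14⟩) (.one ⟨2746, 5, 14⟩))) (.node 2 (.node 1 (.one ⟨13662, 5, 14⟩) (.one ⟨3694, 4, 14⟩)) (.node 1 (.one ⟨11943, 6, 16⟩) (.one ⟨468, 5, 13⟩)))))) (.node 16 (.node 8 (.node 4 (.node 2 (.node 1 (.one ⟨1977, 5, 12⟩) (.one ⟨12854, 6, 13⟩)) (.node 1 (.one ⟨12101, 6, 14⟩) (.one ⟨13626, 5, 13⟩))) (.node 2 (.node 1 (.one ⟨3656, 4, 13⟩) (.one ⟨2764, 5, 13⟩)) (.node 1 (.one ⟨11837, 6, 15⟩) (.one ⟨11719, 4, 13⟩)))) (.node 4 (.node 2 (.node 1 (.one ⟨6380, 0, 14⟩) (.one ⟨1757, 4, 14⟩)) (.node 1 (.one ⟨3845, 0, 9⟩) (.one ⟨3035, 0, 11⟩))) (.node 2 (.node 1 (.one ⟨13366, 3, 17⟩) (.one ⟨8894, 0, 15⟩))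 (.node 1 (.one ⟨12506, 3, 13⟩) (.one ⟨2901, 1, 14⟩))))) (.node 8 (.node 4 (.node 2 (.node 1 (.one ⟨5905, 4, 12⟩) (.one ⟨3834, 3, 16⟩)) (.node 1 (.one ⟨7381, 5, 13⟩) (.one ⟨6880, 5, 13⟩))) (.node 2 (.node 1 (.one ⟨684, 4, 13⟩) (.one ⟨1056, 0, 14⟩)) (.node 1 (.one ⟨5806, 4, 12⟩) (.one ⟨2872, 2, 14⟩)))) (.node 4 (.node 2 (.node 1 (.one ⟨2883, 3, 13⟩) (.one ⟨7356, 5, 14⟩)) (.node 1 (.one ⟨2037, 5, 15⟩) (.one ⟨6781, 3, 13⟩))) (.node 2 (.node 1 (.one ⟨2875, 2, 14⟩) (.one ⟨7517, 5, 15⟩)) (.node 1 (.one ⟨226, 5, 16⟩) (.one ⟨9567, 4, 14⟩)))))))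
def par0_2_13 : Arr Par :=
  (.node 32 (.node 16 (.node 8 (.node 4 (.node 2 (.node 1 (.one ⟨3641, 3, 16⟩) (.one ⟨3194, 2, 13⟩)) (.node 1 (.one ⟨10097, 5, 16⟩) (.one ⟨1725, 0, 12⟩))) (.node 2 (.node 1 (.one ⟨7502, 5, 15⟩) (.one ⟨9712, 4, 16⟩)) (.node 1 (.one ⟨1626, 4, 15⟩) (.one ⟨5770, 4, 14⟩)))) (.node 4 (.node 2 (.node 1 (.one ⟨6304, 6, 13⟩) (.one ⟨6879, 5, 16⟩)) (.node 1 (.one ⟨15423, 5, 16⟩) (.one ⟨112, 4, 15⟩))) (.node 2 (.node 1 (.one ⟨16009, 6, 15⟩) (.one ⟨2264, 5, 15⟩)) (.node 1 (.one ⟨10104, 5, 14⟩) (.one ⟨5701, 4, 11⟩))))) (.node 8 (.node 4 (.node 2 (.node 1 (.one ⟨15417, 5, 12⟩) (.one ⟨16003, 6, 17⟩)) (.node 1 (.one ⟨3462, 0, 15⟩) (.one ⟨447, 4, 12⟩))) (.node 2 (.node 1 (.one ⟨5830, 4, 11⟩) (.one ⟨10862, 2, 13⟩)) (.node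 1 (.one ⟨6885, 5, 14⟩) (.one ⟨15584, 5, 14⟩)))) (.node 4 (.node 2 (.node 1 (.one ⟨2876, 1, 15⟩) (.one ⟨219, 5, 15⟩)) (.node 1 (.one ⟨6736, 3, 12⟩) (.one ⟨2014, 5, 15⟩))) (.node 2 (.node 1 (.one ⟨2871, 1, 15⟩) (.one ⟨15446, 5, 15⟩)) (.node 1 (.one ⟨2913, 3, 14⟩) (.one ⟨9734, 4, 15⟩)))))) (.node 16 (.node 8 (.node 4 (.node 2 (.node 1 (.one ⟨1642, 4, 14⟩) (.one ⟨11080, 0, 13⟩)) (.node 1 (.one ⟨15536, 5, 16⟩) (.one ⟨496, 5, 16⟩))) (.node 2 (.node 1 (.one ⟨9569, 4, 13⟩) (.one ⟨10073, 5, 17⟩)) (.node 1 (.one ⟨2881, 1, 14⟩) (.one ⟨933, 4, 14⟩)))) (.node 4 (.node 2 (.node 1 (.one ⟨10066, 5, 15⟩) (.one ⟨15271, 2, 15⟩)) (.node 1 (.one ⟨1652, 4, 15⟩) (.one ⟨14261, 6, 14⟩))) (.node 2 (.node 1 (.one ⟨6886, 5, 17⟩) (.one ⟨7403, 5, 15⟩)) (.node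 1 (.one ⟨3814, 2, 14⟩) (.one ⟨12128, 5, 4⟩))))) (.node 8 (.node 4 (.node 2 (.node 1 (.one ⟨3281, 5, 10⟩) (.one ⟨10463, 3, 8⟩)) (.node 1 (.one ⟨5507, 5, 14⟩) (.one ⟨12131, 6, 9⟩))) (.node 2 (.node 1 (.one ⟨10939, 5, 15⟩) (.one ⟨10312, 3, 9⟩)) (.node 1 (.one ⟨2964, 1, 14⟩) (.one ⟨1381, 2, 10⟩)))) (.node 4 (.node 2 (.node 1 (.one ⟨4034, 5, 15⟩) (.one ⟨11086, 2, 15⟩)) (.node 1 (.one ⟨11098, 2, 14⟩) (.one ⟨11183, 3, 16⟩))) (.node 2 (.node 1 (.one ⟨3824, 6, 12⟩) (.one ⟨13568, 5, 17⟩)) (.node 1 (.one ⟨2632, 5, 14⟩) (.one ⟨2421, 3, 10⟩)))))))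
def par0_2_14 : Arr Par :=
  (.node 32 (.node 16 (.node 8 (.node 4 (.node 2 (.node 1 (.one ⟨48, 5, 14⟩) (.one ⟨1445, 2, 9⟩)) (.node 1 (.one ⟨16143, 4, 17⟩) (.one ⟨12118, 5, 16⟩))) (.node 2 (.node 1 (.one ⟨14366, 2, 14⟩) (.one ⟨4648, 4, 16⟩)) (.node 1 (.one ⟨2212, 6, 14⟩) (.one ⟨15039, 4, 15⟩)))) (.node 4 (.node 2 (.node 1 (.one ⟨3919, 2, 12⟩) (.one ⟨2773, 6, 13⟩)) (.node 1 (.one ⟨12757, 5, 16⟩) (.one ⟨11909, 6, 14⟩))) (.node 2 (.node 1 (.one ⟨2371, 3, 14⟩) (.one ⟨11331, 5, 15⟩)) (.node 1 (.one ⟨10876, 2, 15⟩) (.one ⟨13611, 5, 13⟩))))) (.node 8 (.node 4 (.node 2 (.node 1 (.one ⟨4049, 5, 3⟩) (.one ⟨10967, 5, 14⟩)) (.node 1 (.one ⟨2230, 3, 10⟩) (.one ⟨4052, 6, 10⟩))) (.node 2 (.node 1 (.one ⟨3781, 2, 13⟩) (.one ⟨2386, 3, 9⟩)) (.node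 1 (.one ⟨11363, 5, 9⟩) (.one ⟨12084, 5, 14⟩)))) (.node 4 (.node 2 (.node 1 (.one ⟨5604, 3, 13⟩) (.one ⟨4745, 4, 16⟩)) (.node 1 (.one ⟨5550, 5, 16⟩) (.one ⟨10720, 5, 13⟩))) (.node 2 (.node 1 (.one ⟨3807, 6, 13⟩) (.one ⟨8083, 4, 15⟩)) (.node 1 (.one ⟨2935, 1, 11⟩) (.one ⟨218, 5, 13⟩)))))) (.node 16 (.node 8 (.node 4 (.node 2 (.node 1 (.one ⟨10499, 3, 11⟩) (.one ⟨4065, 5, 16⟩)) (.node 1 (.one ⟨11782, 5, 15⟩) (.one ⟨2097, 6, 15⟩))) (.node 2 (.node 1 (.one ⟨4634, 4, 15⟩) (.one ⟨2945, 1, 10⟩)) (.node 1 (.one ⟨16159, 4, 16⟩) (.one ⟨12098, 5, 12⟩)))) (.node 4 (.node 2 (.node 1 (.one ⟨11862, 6, 13⟩) (.one ⟨6619, 2, 16⟩)) (.node 1 (.one ⟨3249, 5, 14⟩) (.one ⟨2871, 5, 15⟩))) (.node 2 (.node 1 (.one ⟨2783, 6, 12⟩) (.one ⟨10419, 3, 13⟩)) (.node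 1 (.one ⟨15026, 4, 16⟩) (.one ⟨1745, 4, 16⟩))))) (.node 8 (.node 4 (.node 2 (.node 1 (.one ⟨5553, 3, 10⟩) (.one ⟨6906, 4, 14⟩)) (.node 1 (.one ⟨3698, 5, 8⟩) (.one ⟨14599, 3, 3⟩))) (.node 2 (.node 1 (.one ⟨13846, 2, 15⟩) (.one ⟨1904, 3, 7⟩)) (.node 1 (.one ⟨5079, 3, 10⟩) (.one ⟨17170, 5, 16⟩)))) (.node 4 (.node 2 (.node 1 (.one ⟨17144, 3, 15⟩) (.one ⟨10037, 4, 14⟩)) (.node 1 (.one ⟨11768, 5, 13⟩) (.one ⟨13393, 5, 15⟩))) (.node 2 (.node 1 (.one ⟨5561, 3, 12⟩) (.one ⟨13150, 3, 12⟩)) (.node 1 (.one ⟨7275, 2, 16⟩) (.one ⟨6855, 4, 6⟩)))))))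
def par0_2_15 : Arr Par :=
  (.node 32 (.node 16 (.node 8 (.node 4 (.node 2 (.node 1 (.one ⟨5750, 2, 15⟩) (.one ⟨6612, 5, 12⟩)) (.node 1 (.one ⟨6272, 6, 14⟩) (.one ⟨14318, 6, 10⟩))) (.node 2 (.node 1 (.one ⟨2758, 4, 15⟩) (.one ⟨4539, 6, 11⟩)) (.node 1 (.one ⟨2864, 3, 13⟩) (.one ⟨8776, 6, 16⟩)))) (.node 4 (.node 2 (.node 1 (.one ⟨3210, 3, 14⟩) (.one ⟨3674, 3, 13⟩)) (.node 1 (.one ⟨9576, 6, 16⟩) (.one ⟨6078, 4, 15⟩))) (.node 2 (.node 1 (.one ⟨11182, 4, 14⟩) (.one ⟨8265, 3, 15⟩)) (.node 1 (.one ⟨7672, 3, 15⟩) (.one ⟨2656, 2, 11⟩))))) (.node 8 (.node 4 (.node 2 (.node 1 (.one ⟨5610, 5, 17⟩) (.one ⟨1670, 2, 16⟩)) (.node 1 (.one ⟨15203, 2, 10⟩) (.one ⟨2518, 6, 12⟩))) (.node 2 (.node 1 (.one ⟨14883, 4, 15⟩) (.one ⟨5090, 3, 13⟩)) (.node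 1 (.one ⟨11766, 5, 16⟩) (.one ⟨5299, 6, 16⟩)))) (.node 4 (.node 2 (.node 1 (.one ⟨15100, 2, 16⟩) (.one ⟨12620, 6, 16⟩)) (.node 1 (.one ⟨2578, 6, 13⟩) (.one ⟨3059, 1, 10⟩))) (.node 2 (.node 1 (.one ⟨3057, 1, 12⟩) (.one ⟨13156, 3, 11⟩)) (.node 1 (.one ⟨3055, 1, 13⟩) (.one ⟨13814, 4, 13⟩)))))) (.node 16 (.node 8 (.node 4 (.node 2 (.node 1 (.one ⟨15210, 2, 15⟩) (.one ⟨12644, 6, 15⟩)) (.node 1 (.one ⟨6311, 6, 14⟩) (.one ⟨16890, 6, 15⟩))) (.node 2 (.node 1 (.one ⟨14145, 4, 14⟩) (.one ⟨8787, 6, 14⟩)) (.node 1 (.one ⟨9573, 6, 15⟩) (.one ⟨7875, 5, 16⟩)))) (.node 4 (.node 2 (.node 1 (.one ⟨16826, 6, 15⟩) (.one ⟨229, 6, 15⟩)) (.node 1 (.one ⟨5022, 5, 17⟩) (.one ⟨14736, 3, 15⟩))) (.node 2 (.node 1 (.one ⟨10299, 5, 15⟩) (.one ⟨8242, 3, 16⟩))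 (.node 1 (.one ⟨6206, 6, 14⟩) (.one ⟨2609, 2, 12⟩))))) (.node 8 (.node 4 (.node 2 (.node 1 (.one ⟨54, 4, 13⟩) (.one ⟨10357, 2, 11⟩)) (.node 1 (.one ⟨5617, 2, 16⟩) (.one ⟨1779, 2, 9⟩))) (.node 2 (.node 1 (.one ⟨13478, 6, 15⟩) (.one ⟨5077, 3, 10⟩)) (.node 1 (.one ⟨9121, 5, 16⟩) (.one ⟨11796, 5, 15⟩)))) (.node 4 (.node 2 (.node 1 (.one ⟨3026, 1, 11⟩) (.one ⟨14792, 4, 16⟩)) (.node 1 (.one ⟨5627, 2, 16⟩) (.one ⟨3023, 1, 12⟩))) (.node 2 (.node 1 (.one ⟨10609, 6, 13⟩) (.one ⟨7194, 2, 16⟩)) (.node 1 (.one ⟨13135, 3, 14⟩) (.one ⟨7877, 5, 15⟩)))))))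
def par0_2 : Arr Par :=
  (.node 512 (.node 256 (.node 128 (.node 64 par0_2_0 par0_2_1) (.node 64 par0_2_2 par0_2_3)) (.node 128 (.node 64 par0_2_4 par0_2_5) (.node 64 par0_2_6 par0_2_7))) (.node 256 (.node 128 (.node 64 par0_2_8 par0_2_9) (.node 64 par0_2_10 par0_2_11)) (.node 128 (.node 64 par0_2_12 par0_2_13) (.node 64 par0_2_14 par0_2_15))))
def par0_3_0 : Arr Par :=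
  (.node 32 (.node 16 (.node 8 (.node 4 (.node 2 (.node 1 (.one ⟨4983, 5, 16⟩) (.one ⟨2246, 5, 14⟩)) (.node 1 (.one ⟨7145, 5, 16⟩) (.one ⟨14707, 3, 16⟩))) (.node 2 (.node 1 (.one ⟨14382, 6, 13⟩) (.one ⟨8856, 6, 14⟩)) (.node 1 (.one ⟨539, 6, 16⟩) (.one ⟨10951, 3, 14⟩)))) (.node 4 (.node 2 (.node 1 (.one ⟨14263, 6, 13⟩) (.one ⟨14131, 4, 13⟩)) (.node 1 (.one ⟨12629, 6, 16⟩) (.one ⟨13786, 4, 14⟩))) (.node 2 (.node 1 (.one ⟨9571, 6, 16⟩) (.one ⟨1863, 4, 16⟩)) (.node 1 (.one ⟨16880, 6, 13⟩) (.one ⟨14588, 3, 15⟩))))) (.node 8 (.node 4 (.node 2 (.node 1 (.one ⟨16040, 5, 17⟩) (.one ⟨10137, 4, 13⟩)) (.node 1 (.one ⟨1753, 4, 16⟩) (.one ⟨5592, 3, 13⟩))) (.node 2 (.node 1 (.one ⟨5099, 3, 13⟩) (.one ⟨11800, 5, 12⟩)) (.node 1 (.one ⟨9131, 5, 17⟩)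 (.one ⟨6521, 3, 2⟩)))) (.node 4 (.node 2 (.node 1 (.one ⟨5585, 3, 11⟩) (.one ⟨17193, 5, 14⟩)) (.node 1 (.one ⟨17185, 3, 15⟩) (.one ⟨13161, 3, 9⟩))) (.node 2 (.node 1 (.one ⟨6910, 4, 13⟩) (.one ⟨1939, 3, 8⟩)) (.node 1 (.one ⟨3729, 5, 9⟩) (.one ⟨11257, 3, 15⟩)))))) (.node 16 (.node 8 (.node 4 (.node 2 (.node 1 (.one ⟨12051, 3, 16⟩) (.one ⟨1778, 2, 15⟩)) (.node 1 (.one ⟨16316, 3, 16⟩) (.one ⟨826, 4, 16⟩))) (.node 2 (.node 1 (.one ⟨3643, 3, 12⟩) (.one ⟨11075, 4, 15⟩)) (.node 1 (.one ⟨7705, 3, 14⟩) (.one ⟨2900, 3, 12⟩)))) (.node 4 (.node 2 (.node 1 (.one ⟨6857, 4, 5⟩) (.one ⟨4557, 6, 12⟩)) (.node 1 (.one ⟨6952, 2, 16⟩) (.one ⟨6577, 5, 13⟩))) (.node 2 (.node 1 (.one ⟨2736, 4, 14⟩) (.one ⟨14294, 6, 15⟩)) (.node 1 (.one ⟨6269, 6, 11⟩) (.one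 ⟨3897, 6, 8⟩))))) (.node 8 (.node 4 (.node 2 (.node 1 (.one ⟨14857, 3, 13⟩) (.one ⟨6691, 5, 14⟩)) (.node 1 (.one ⟨3874, 5, 8⟩) (.one ⟨5787, 3, 9⟩))) (.node 2 (.node 1 (.one ⟨9037, 6, 14⟩) (.one ⟨11330, 3, 14⟩)) (.node 1 (.one ⟨3727, 6, 11⟩) (.one ⟨11937, 5, 11⟩)))) (.node 4 (.node 2 (.node 1 (.one ⟨1945, 3, 13⟩) (.one ⟨6872, 6, 14⟩)) (.node 1 (.one ⟨10487, 4, 15⟩) (.one ⟨3928, 6, 11⟩))) (.node 2 (.node 1 (.one ⟨10547, 6, 13⟩) (.one ⟨7527, 4, 14⟩)) (.node 1 (.one ⟨14228, 5, 15⟩) (.one ⟨13848, 3, 16⟩)))))))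
def par0_3_1 : Arr Par :=
  (.node 32 (.node 16 (.node 8 (.node 4 (.node 2 (.node 1 (.one ⟨414, 6, 13⟩) (.one ⟨11198, 1, 11⟩)) (.node 1 (.one ⟨10019, 3, 15⟩) (.one ⟨2964, 3, 14⟩))) (.node 2 (.node 1 (.one ⟨7574, 3, 16⟩) (.one ⟨3314, 3, 16⟩)) (.node 1 (.one ⟨11193, 1, 12⟩) (.one ⟨12710, 5, 14⟩)))) (.node 4 (.node 2 (.node 1 (.one ⟨14777, 3, 12⟩) (.one ⟨11841, 5, 13⟩)) (.node 1 (.one ⟨2366, 4, 16⟩) (.one ⟨7551, 3, 16⟩))) (.node 2 (.node 1 (.one ⟨5719, 3, 13⟩) (.one ⟨6874, 6, 16⟩)) (.node 1 (.one ⟨11025, 5, 15⟩) (.one ⟨15532, 4, 12⟩))))) (.node 8 (.node 4 (.node 2 (.node 1 (.one ⟨7595, 2, 15⟩) (.one ⟨8832, 2, 13⟩)) (.node 1 (.one ⟨7491, 4, 14⟩) (.one ⟨1933, 3, 14⟩))) (.node 2 (.node 1 (.one ⟨11888, 5, 12⟩) (.one ⟨3911, 6, 12⟩)) (.node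 1 (.one ⟨1830, 5, 15⟩) (.one ⟨6641, 5, 14⟩)))) (.node 4 (.node 2 (.node 1 (.one ⟨10696, 2, 10⟩) (.one ⟨1791, 2, 13⟩)) (.node 1 (.one ⟨2501, 6, 14⟩) (.one ⟨3748, 6, 14⟩))) (.node 2 (.node 1 (.one ⟨16671, 5, 15⟩) (.one ⟨3829, 5, 11⟩)) (.node 1 (.one ⟨11232, 1, 14⟩) (.one ⟨3941, 6, 13⟩)))))) (.node 16 (.node 8 (.node 4 (.node 2 (.node 1 (.one ⟨13822, 3, 12⟩) (.one ⟨1274, 2, 15⟩)) (.node 1 (.one ⟨12972, 2, 16⟩) (.one ⟨16546, 6, 17⟩))) (.node 2 (.node 1 (.one ⟨6866, 6, 16⟩) (.one ⟨11861, 5, 12⟩)) (.node 1 (.one ⟨11014, 5, 13⟩) (.one ⟨5690, 3, 13⟩)))) (.node 4 (.node 2 (.node 1 (.one ⟨3795, 5, 8⟩) (.one ⟨10459, 2, 15⟩)) (.node 1 (.one ⟨4644, 5, 10⟩) (.one ⟨8488, 6, 13⟩))) (.node 2 (.node 1 (.one ⟨9011, 6, 15⟩) (.one ⟨14238, 5, 13⟩)) (.node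 1 (.one ⟨7444, 4, 17⟩) (.one ⟨6232, 4, 15⟩))))) (.node 8 (.node 4 (.node 2 (.node 1 (.one ⟨16808, 6, 15⟩) (.one ⟨12024, 3, 13⟩)) (.node 1 (.one ⟨12542, 6, 13⟩) (.one ⟨8163, 5, 15⟩))) (.node 2 (.node 1 (.one ⟨14767, 6, 15⟩) (.one ⟨3866, 3, 15⟩)) (.node 1 (.one ⟨16830, 5, 16⟩) (.one ⟨16891, 5, 15⟩)))) (.node 4 (.node 2 (.node 1 (.one ⟨7465, 4, 6⟩) (.one ⟨16228, 5, 15⟩)) (.node 1 (.one ⟨12075, 3, 12⟩) (.one ⟨4511, 6, 10⟩))) (.node 2 (.node 1 (.one ⟨2382, 4, 17⟩) (.one ⟨6269, 4, 11⟩)) (.node 1 (.one ⟨5827, 5, 12⟩) (.one ⟨4506, 6, 12⟩)))))))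
def par0_3_2 : Arr Par :=
  (.node 32 (.node 16 (.node 8 (.node 4 (.node 2 (.node 1 (.one ⟨14298, 4, 14⟩) (.one ⟨8171, 5, 16⟩)) (.node 1 (.one ⟨6442, 2, 17⟩) (.one ⟨15508, 4, 15⟩))) (.node 2 (.node 1 (.one ⟨16484, 5, 14⟩) (.one ⟨13990, 5, 15⟩)) (.node 1 (.one ⟨14825, 6, 16⟩) (.one ⟨6759, 3, 12⟩)))) (.node 4 (.node 2 (.node 1 (.one ⟨6785, 6, 11⟩) (.one ⟨8376, 5, 13⟩)) (.node 1 (.one ⟨14456, 5, 13⟩) (.one ⟨13953, 5, 13⟩))) (.node 2 (.node 1 (.one ⟨6382, 0, 11⟩) (.one ⟨14328, 4, 14⟩)) (.node 1 (.one ⟨10790, 2, 18⟩) (.one ⟨6802, 6, 16⟩))))) (.node 8 (.node 4 (.node 2 (.node 1 (.one ⟨14849, 3, 15⟩) (.one ⟨7418, 4, 15⟩)) (.node 1 (.one ⟨3222, 2, 14⟩) (.one ⟨13644, 0, 17⟩))) (.node 2 (.node 1 (.one ⟨6401, 4, 15⟩) (.one ⟨2321, 4, 14⟩))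 (.node 1 (.one ⟨3951, 3, 13⟩) (.one ⟨11396, 2, 15⟩)))) (.node 4 (.node 2 (.node 1 (.one ⟨4002, 3, 14⟩) (.one ⟨3481, 2, 14⟩)) (.node 1 (.one ⟨11304, 1, 15⟩) (.one ⟨14382, 4, 13⟩))) (.node 2 (.node 1 (.one ⟨5926, 5, 14⟩) (.one ⟨2427, 4, 16⟩)) (.node 1 (.one ⟨12579, 6, 15⟩) (.one ⟨13596, 6, 16⟩)))))) (.node 16 (.node 8 (.node 4 (.node 2 (.node 1 (.one ⟨507, 2, 13⟩) (.one ⟨12020, 3, 14⟩)) (.node 1 (.one ⟨6680, 5, 16⟩) (.one ⟨16785, 6, 16⟩))) (.node 2 (.node 1 (.one ⟨14482, 4, 16⟩) (.one ⟨740, 2, 16⟩)) (.node 1 (.one ⟨6222, 4, 15⟩) (.one ⟨6311, 4, 14⟩)))) (.node 4 (.node 2 (.node 1 (.one ⟨10839, 0, 16⟩) (.one ⟨4485, 6, 13⟩)) (.node 1 (.one ⟨13920, 5, 13⟩) (.one ⟨8845, 5, 15⟩))) (.node 2 (.node 1 (.one ⟨12066, 3, 14⟩) (.one ⟨8151, 5,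 15⟩)) (.node 1 (.one ⟨8695, 6, 16⟩) (.one ⟨13173, 4, 14⟩))))) (.node 8 (.node 4 (.node 2 (.node 1 (.one ⟨7185, 4, 13⟩) (.one ⟨15149, 5, 13⟩)) (.node 1 (.one ⟨14628, 4, 16⟩) (.one ⟨13157, 4, 15⟩))) (.node 2 (.node 1 (.one ⟨7217, 4, 16⟩) (.one ⟨7234, 5, 14⟩)) (.node 1 (.one ⟨16561, 6, 14⟩) (.one ⟨13910, 3, 13⟩)))) (.node 4 (.node 2 (.node 1 (.one ⟨16861, 2, 17⟩) (.one ⟨2959, 3, 14⟩)) (.node 1 (.one ⟨3489, 5, 15⟩) (.one ⟨1690, 5, 14⟩))) (.node 2 (.node 1 (.one ⟨2348, 0, 15⟩) (.one ⟨11265, 4, 15⟩)) (.node 1 (.one ⟨13006, 3, 15⟩) (.one ⟨5060, 4, 14⟩)))))))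
def par0_3_3 : Arr Par :=
  (.node 32 (.node 16 (.node 8 (.node 4 (.node 2 (.node 1 (.one ⟨3538, 5, 15⟩) (.one ⟨12453, 4, 14⟩)) (.node 1 (.one ⟨9746, 5, 14⟩) (.one ⟨4217, 5, 15⟩))) (.node 2 (.node 1 (.one ⟨11317, 1, 14⟩) (.one ⟨10786, 5, 15⟩)) (.node 1 (.one ⟨15112, 5, 10⟩) (.one ⟨4211, 5, 9⟩)))) (.node 4 (.node 2 (.node 1 (.one ⟨11319, 1, 14⟩) (.one ⟨11321, 1, 15⟩)) (.node 1 (.one ⟨16662, 5, 14⟩) (.one ⟨13331, 3, 16⟩))) (.node 2 (.node 1 (.one ⟨13940, 3, 13⟩) (.one ⟨3263, 3, 15⟩)) (.node 1 (.one ⟨14209, 5, 16⟩) (.one ⟨11601, 5, 16⟩))))) (.node 8 (.node 4 (.node 2 (.node 1 (.one ⟨4232, 5, 4⟩) (.one ⟨7052, 5, 9⟩)) (.node 1 (.one ⟨15318, 5, 12⟩) (.one ⟨10737, 5, 16⟩))) (.node 2 (.node 1 (.one ⟨1602, 5, 12⟩) (.one ⟨6577, 6, 13⟩)) (.node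 1 (.one ⟨5935, 6, 14⟩) (.one ⟨8305, 3, 4⟩)))) (.node 4 (.node 2 (.node 1 (.one ⟨5903, 3, 11⟩) (.one ⟨3194, 4, 13⟩)) (.node 1 (.one ⟨4223, 5, 11⟩) (.one ⟨15810, 3, 15⟩))) (.node 2 (.node 1 (.one ⟨14567, 3, 12⟩) (.one ⟨15777, 2, 14⟩)) (.node 1 (.one ⟨13317, 3, 14⟩) (.one ⟨5815, 3, 15⟩)))))) (.node 16 (.node 8 (.node 4 (.node 2 (.node 1 (.one ⟨3945, 2, 15⟩) (.one ⟨3151, 3, 13⟩)) (.node 1 (.one ⟨5795, 2, 14⟩) (.one ⟨7216, 5, 14⟩))) (.node 2 (.node 1 (.one ⟨9433, 2, 9⟩) (.one ⟨7708, 6, 16⟩)) (.node 1 (.one ⟨8575, 6, 14⟩) (.one ⟨12326, 5, 12⟩)))) (.node 4 (.node 2 (.node 1 (.one ⟨14533, 3, 15⟩) (.one ⟨4694, 6, 14⟩)) (.node 1 (.one ⟨7865, 0, 16⟩) (.one ⟨3440, 5, 14⟩))) (.node 2 (.node 1 (.one ⟨7607, 6, 14⟩) (.one ⟨11287, 4, 14⟩)) (.node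 1 (.one ⟨10618, 4, 15⟩) (.one ⟨4264, 5, 12⟩))))) (.node 8 (.node 4 (.node 2 (.node 1 (.one ⟨3522, 5, 15⟩) (.one ⟨3320, 3, 16⟩)) (.node 1 (.one ⟨16620, 5, 15⟩) (.one ⟨2686, 5, 16⟩))) (.node 2 (.node 1 (.one ⟨5134, 3, 13⟩) (.one ⟨15279, 5, 16⟩)) (.node 1 (.one ⟨15130, 5, 8⟩) (.one ⟨5889, 3, 15⟩)))) (.node 4 (.node 2 (.node 1 (.one ⟨3204, 4, 15⟩) (.one ⟨8287, 4, 14⟩)) (.node 1 (.one ⟨6011, 0, 16⟩) (.one ⟨11033, 3, 14⟩))) (.node 2 (.node 1 (.one ⟨1658, 5, 16⟩) (.one ⟨15581, 4, 15⟩)) (.node 1 (.one ⟨4259, 5, 14⟩) (.one ⟨11437, 3, 15⟩)))))))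
def par0_3_4 : Arr Par :=
  (.node 32 (.node 16 (.node 8 (.node 4 (.node 2 (.node 1 (.one ⟨8551, 5, 17⟩) (.one ⟨13341, 3, 15⟩)) (.node 1 (.one ⟨9718, 5, 15⟩) (.one ⟨11380, 1, 14⟩))) (.node 2 (.node 1 (.one ⟨11741, 6, 13⟩) (.one ⟨7253, 5, 16⟩)) (.node 1 (.one ⟨15099, 5, 12⟩) (.one ⟨5855, 3, 12⟩)))) (.node 4 (.node 2 (.node 1 (.one ⟨12289, 5, 12⟩) (.one ⟨11302, 4, 13⟩)) (.node 1 (.one ⟨8352, 3, 13⟩) (.one ⟨4692, 6, 17⟩))) (.node 2 (.node 1 (.one ⟨12772, 0, 13⟩) (.one ⟨2312, 2, 12⟩)) (.node 1 (.one ⟨5167, 3, 16⟩) (.one ⟨12282, 5, 14⟩))))) (.node 8 (.node 4 (.node 2 (.node 1 (.one ⟨11622, 5, 16⟩) (.one ⟨16634, 5, 16⟩)) (.node 1 (.one ⟨13029, 2, 13⟩) (.one ⟨15668, 2, 14⟩))) (.node 2 (.node 1 (.one ⟨1633, 5, 13⟩) (.one ⟨9137, 2, 10⟩))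 (.node 1 (.one ⟨980, 6, 13⟩) (.one ⟨6251, 4, 15⟩)))) (.node 4 (.node 2 (.node 1 (.one ⟨1642, 5, 14⟩) (.one ⟨11259, 4, 15⟩)) (.node 1 (.one ⟨13887, 3, 13⟩) (.one ⟨14782, 0, 14⟩))) (.node 2 (.node 1 (.one ⟨16347, 4, 17⟩) (.one ⟨16662, 6, 14⟩)) (.node 1 (.one ⟨13015, 3, 14⟩) (.one ⟨7643, 3, 15⟩)))))) (.node 16 (.node 8 (.node 4 (.node 2 (.node 1 (.one ⟨8738, 2, 17⟩) (.one ⟨14033, 6, 17⟩)) (.node 1 (.one ⟨16594, 6, 14⟩) (.one ⟨4401, 2, 15⟩))) (.node 2 (.node 1 (.one ⟨7070, 5, 14⟩) (.one ⟨6526, 4, 13⟩)) (.node 1 (.one ⟨5054, 4, 15⟩) (.one ⟨12059, 4, 13⟩)))) (.node 4 (.node 2 (.node 1 (.one ⟨4245, 5, 12⟩) (.one ⟨8252, 4, 16⟩)) (.node 1 (.one ⟨7624, 6, 13⟩) (.one ⟨7323, 5, 17⟩))) (.node 2 (.node 1 (.one ⟨13909, 2, 12⟩) (.one ⟨2588, 4,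 16⟩)) (.node 1 (.one ⟨3224, 4, 15⟩) (.one ⟨1804, 5, 14⟩))))) (.node 8 (.node 4 (.node 2 (.node 1 (.one ⟨4411, 4, 14⟩) (.one ⟨13137, 0, 17⟩)) (.node 1 (.one ⟨7299, 4, 14⟩) (.one ⟨5093, 5, 16⟩))) (.node 2 (.node 1 (.one ⟨16840, 5, 15⟩) (.one ⟨12372, 4, 15⟩)) (.node 1 (.one ⟨3968, 6, 14⟩) (.one ⟨6913, 6, 15⟩)))) (.node 4 (.node 2 (.node 1 (.one ⟨11473, 1, 14⟩) (.one ⟨3128, 2, 14⟩)) (.node 1 (.one ⟨3527, 5, 13⟩) (.one ⟨16483, 6, 14⟩))) (.node 2 (.node 1 (.one ⟨7466, 4, 16⟩) (.one ⟨4461, 4, 14⟩)) (.node 1 (.one ⟨11712, 6, 15⟩) (.one ⟨17007, 3, 14⟩)))))))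
def par0_3_5 : Arr Par :=
  (.node 32 (.node 16 (.node 8 (.node 4 (.node 2 (.node 1 (.one ⟨7110, 3, 14⟩) (.one ⟨4485, 4, 13⟩)) (.node 1 (.one ⟨11442, 3, 16⟩) (.one ⟨7864, 3, 16⟩))) (.node 2 (.node 1 (.one ⟨6924, 6, 14⟩) (.one ⟨3552, 5, 16⟩)) (.node 1 (.one ⟨11736, 6, 16⟩) (.one ⟨10605, 6, 14⟩)))) (.node 4 (.node 2 (.node 1 (.one ⟨12570, 4, 13⟩) (.one ⟨15453, 4, 14⟩)) (.node 1 (.one ⟨17022, 3, 14⟩) (.one ⟨8858, 5, 16⟩))) (.node 2 (.node 1 (.one ⟨6918, 6, 13⟩) (.one ⟨11694, 3, 12⟩)) (.node 1 (.one ⟨12435, 4, 15⟩) (.one ⟨6405, 2, 13⟩))))) (.node 8 (.node 4 (.node 2 (.node 1 (.one ⟨11452, 1, 13⟩) (.one ⟨6926, 6, 15⟩)) (.node 1 (.one ⟨12514, 4, 15⟩) (.one ⟨3672, 6, 15⟩))) (.node 2 (.node 1 (.one ⟨4010, 6, 13⟩) (.one ⟨2526, 6, 14⟩)) (.node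 1 (.one ⟨11598, 5, 16⟩) (.one ⟨13901, 5, 14⟩)))) (.node 4 (.node 2 (.node 1 (.one ⟨7102, 4, 13⟩) (.one ⟨4506, 4, 12⟩)) (.node 1 (.one ⟨3542, 5, 11⟩) (.one ⟨11442, 1, 16⟩))) (.node 2 (.node 1 (.one ⟨3688, 6, 14⟩) (.one ⟨13109, 5, 16⟩)) (.node 1 (.one ⟨14133, 3, 15⟩) (.one ⟨4511, 4, 10⟩)))))) (.node 16 (.node 8 (.node 4 (.node 2 (.node 1 (.one ⟨7857, 3, 6⟩) (.one ⟨3572, 3, 12⟩)) (.node 1 (.one ⟨4454, 4, 12⟩) (.one ⟨15205, 3, 16⟩))) (.node 2 (.node 1 (.one ⟨3636, 6, 12⟩) (.one ⟨6064, 3, 16⟩)) (.node 1 (.one ⟨736, 0, 16⟩) (.one ⟨16926, 5, 15⟩)))) (.node 4 (.node 2 (.node 1 (.one ⟨2537, 6, 15⟩) (.one ⟨1788, 5, 16⟩)) (.node 1 (.one ⟨12542, 4, 13⟩) (.one ⟨7231, 5, 15⟩))) (.node 2 (.node 1 (.one ⟨5837, 5, 15⟩) (.one ⟨11618, 5, 12⟩)) (.node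 1 (.one ⟨13163, 5, 16⟩) (.one ⟨12656, 5, 13⟩))))) (.node 8 (.node 4 (.node 2 (.node 1 (.one ⟨11665, 3, 13⟩) (.one ⟨6050, 3, 16⟩)) (.node 1 (.one ⟨3920, 2, 14⟩) (.one ⟨9562, 2, 9⟩))) (.node 2 (.node 1 (.one ⟨4410, 6, 14⟩) (.one ⟨8599, 5, 15⟩)) (.node 1 (.one ⟨16739, 6, 15⟩) (.one ⟨6558, 4, 16⟩)))) (.node 4 (.node 2 (.node 1 (.one ⟨9096, 4, 11⟩) (.one ⟨3488, 4, 14⟩)) (.node 1 (.one ⟨4470, 4, 15⟩) (.one ⟨11548, 1, 11⟩))) (.node 2 (.node 1 (.one ⟨11546, 1, 10⟩) (.one ⟨2743, 3, 12⟩)) (.node 1 (.one ⟨8539, 5, 14⟩) (.one ⟨3838, 5, 16⟩)))))))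
def par0_3_6 : Arr Par :=
  (.node 32 (.node 16 (.node 8 (.node 4 (.node 2 (.node 1 (.one ⟨7412, 4, 13⟩) (.one ⟨16619, 3, 14⟩)) (.node 1 (.one ⟨9712, 0, 16⟩) (.one ⟨10853, 3, 14⟩))) (.node 2 (.node 1 (.one ⟨5778, 0, 15⟩) (.one ⟨9085, 4, 14⟩)) (.node 1 (.one ⟨11558, 1, 14⟩) (.one ⟨3593, 3, 16⟩)))) (.node 4 (.node 2 (.node 1 (.one ⟨11931, 5, 12⟩) (.one ⟨14470, 5, 14⟩)) (.node 1 (.one ⟨15512, 4, 15⟩) (.one ⟨4646, 5, 16⟩))) (.node 2 (.node 1 (.one ⟨11255, 5, 13⟩) (.one ⟨16650, 5, 15⟩)) (.node 1 (.one ⟨11377, 6, 14⟩) (.one ⟨4418, 6, 14⟩))))) (.node 8 (.node 4 (.node 2 (.node 1 (.one ⟨17196, 4, 10⟩) (.one ⟨6000, 3, 15⟩)) (.node 1 (.one ⟨2797, 3, 11⟩) (.one ⟨16638, 3, 14⟩))) (.node 2 (.node 1 (.one ⟨6546, 4, 14⟩) (.one ⟨3464, 4, 13⟩))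 (.node 1 (.one ⟨8587, 5, 16⟩) (.one ⟨13008, 2, 14⟩)))) (.node 4 (.node 2 (.node 1 (.one ⟨3281, 6, 10⟩) (.one ⟨2754, 3, 13⟩)) (.node 1 (.one ⟨11915, 5, 16⟩) (.one ⟨14582, 4, 16⟩))) (.node 2 (.node 1 (.one ⟨4453, 6, 10⟩) (.one ⟨5108, 4, 13⟩)) (.node 1 (.one ⟨2433, 6, 16⟩) (.one ⟨16748, 6, 15⟩)))))) (.node 16 (.node 8 (.node 4 (.node 2 (.node 1 (.one ⟨11899, 5, 13⟩) (.one ⟨10776, 5, 14⟩)) (.node 1 (.one ⟨4455, 6, 13⟩) (.one ⟨4529, 5, 15⟩))) (.node 2 (.node 1 (.one ⟨9138, 2, 9⟩) (.one ⟨5119, 4, 15⟩)) (.node 1 (.one ⟨10532, 6, 16⟩) (.one ⟨11535, 4, 14⟩)))) (.node 4 (.node 2 (.node 1 (.one ⟨10755, 5, 15⟩) (.one ⟨4424, 6, 12⟩)) (.node 1 (.one ⟨8667, 6, 12⟩) (.one ⟨4596, 5, 15⟩))) (.node 2 (.node 1 (.one ⟨4471, 4, 15⟩) (.one ⟨5135, 4, 14⟩))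 (.node 1 (.one ⟨3318, 6, 9⟩) (.one ⟨4505, 6, 13⟩))))) (.node 8 (.node 4 (.node 2 (.node 1 (.one ⟨8655, 6, 13⟩) (.one ⟨15852, 6, 17⟩)) (.node 1 (.one ⟨13277, 6, 14⟩) (.one ⟨3348, 6, 14⟩))) (.node 2 (.node 1 (.one ⟨5926, 6, 14⟩) (.one ⟨4462, 3, 15⟩)) (.node 1 (.one ⟨10682, 6, 16⟩) (.one ⟨14148, 5, 14⟩)))) (.node 4 (.node 2 (.node 1 (.one ⟨6200, 3, 16⟩) (.one ⟨13853, 5, 15⟩)) (.node 1 (.one ⟨11862, 2, 13⟩) (.one ⟨8648, 6, 11⟩))) (.node 2 (.node 1 (.one ⟨3590, 4, 12⟩) (.one ⟨8007, 3, 12⟩)) (.node 1 (.one ⟨3284, 6, 13⟩) (.one ⟨14133, 5, 15⟩)))))))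
def par0_3_7 : Arr Par :=
  (.node 32 (.node 16 (.node 8 (.node 4 (.node 2 (.node 1 (.one ⟨14924, 5, 16⟩) (.one ⟨3514, 1, 14⟩)) (.node 1 (.one ⟨13748, 5, 14⟩) (.one ⟨8626, 6, 10⟩))) (.node 2 (.node 1 (.one ⟨3574, 4, 11⟩) (.one ⟨11361, 6, 12⟩)) (.node 1 (.one ⟨7985, 3, 11⟩) (.one ⟨12534, 6, 12⟩)))) (.node 4 (.node 2 (.node 1 (.one ⟨8682, 6, 14⟩) (.one ⟨5226, 6, 15⟩)) (.node 1 (.one ⟨1070, 2, 17⟩) (.one ⟨9932, 5, 15⟩))) (.node 2 (.node 1 (.one ⟨11428, 6, 15⟩) (.one ⟨13790, 5, 15⟩)) (.node 1 (.one ⟨877, 2, 16⟩) (.one ⟨14921, 5, 16⟩))))) (.node 8 (.node 4 (.node 2 (.node 1 (.one ⟨3266, 6, 15⟩) (.one ⟨6408, 3, 14⟩)) (.node 1 (.one ⟨5747, 5, 14⟩) (.one ⟨11647, 4, 13⟩))) (.node 2 (.node 1 (.one ⟨6085, 4, 16⟩) (.one ⟨3662, 4, 15⟩)) (.node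 1 (.one ⟨8003, 3, 10⟩) (.one ⟨5641, 4, 14⟩)))) (.node 4 (.node 2 (.node 1 (.one ⟨10716, 6, 16⟩) (.one ⟨13259, 6, 11⟩)) (.node 1 (.one ⟨233, 5, 16⟩) (.one ⟨11663, 4, 12⟩))) (.node 2 (.node 1 (.one ⟨7754, 6, 13⟩) (.one ⟨5789, 5, 12⟩)) (.node 1 (.one ⟨6445, 3, 15⟩) (.one ⟨11756, 4, 17⟩)))))) (.node 16 (.node 8 (.node 4 (.node 2 (.node 1 (.one ⟨5674, 4, 15⟩) (.one ⟨5182, 6, 10⟩)) (.node 1 (.one ⟨11382, 6, 15⟩) (.one ⟨11680, 4, 13⟩))) (.node 2 (.node 1 (.one ⟨7835, 6, 14⟩) (.one ⟨14477, 3, 14⟩)) (.node 1 (.one ⟨5685, 5, 13⟩) (.one ⟨14919, 5, 15⟩)))) (.node 4 (.node 2 (.node 1 (.one ⟨11316, 6, 14⟩) (.one ⟨14504, 3, 15⟩)) (.node 1 (.one ⟨5723, 5, 13⟩) (.one ⟨11631, 4, 12⟩))) (.node 2 (.node 1 (.one ⟨5670, 2, 16⟩) (.one ⟨3692, 4, 14⟩))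 (.node 1 (.one ⟨7998, 3, 11⟩) (.one ⟨15199, 6, 7⟩))))) (.node 8 (.node 4 (.node 2 (.node 1 (.one ⟨16523, 6, 15⟩) (.one ⟨3589, 1, 14⟩)) (.node 1 (.one ⟨1614, 3, 12⟩) (.one ⟨2006, 4, 12⟩))) (.node 2 (.node 1 (.one ⟨8709, 5, 11⟩) (.one ⟨12663, 3, 16⟩)) (.node 1 (.one ⟨12486, 3, 10⟩) (.one ⟨898, 5, 13⟩)))) (.node 4 (.node 2 (.node 1 (.one ⟨16501, 6, 15⟩) (.one ⟨1216, 2, 12⟩)) (.node 1 (.one ⟨2375, 5, 13⟩) (.one ⟨3593, 1, 16⟩))) (.node 2 (.node 1 (.one ⟨3596, 1, 15⟩) (.one ⟨758, 3, 15⟩)) (.node 1 (.one ⟨6922, 4, 16⟩) (.one ⟨6920, 4, 15⟩)))))))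
def par0_3_8 : Arr Par :=
  (.node 32 (.node 16 (.node 8 (.node 4 (.node 2 (.node 1 (.one ⟨1593, 3, 13⟩) (.one ⟨7157, 6, 6⟩)) (.node 1 (.one ⟨8693, 5, 10⟩) (.one ⟨2045, 4, 13⟩))) (.node 2 (.node 1 (.one ⟨16553, 6, 14⟩) (.one ⟨14861, 2, 13⟩)) (.node 1 (.one ⟨4449, 3, 11⟩) (.one ⟨529, 5, 14⟩)))) (.node 4 (.node 2 (.node 1 (.one ⟨4574, 3, 15⟩) (.one ⟨3155, 2, 15⟩)) (.node 1 (.one ⟨10429, 5, 12⟩) (.one ⟨3577, 1, 13⟩))) (.node 2 (.node 1 (.one ⟨7594, 2, 14⟩) (.one ⟨118, 3, 16⟩)) (.node 1 (.one ⟨16527, 6, 14⟩) (.one ⟨16342, 2, 15⟩))))) (.node 8 (.node 4 (.node 2 (.node 1 (.one ⟨1659, 3, 15⟩) (.one ⟨3617, 1, 13⟩)) (.node 1 (.one ⟨15105, 2, 13⟩) (.one ⟨14798, 4, 14⟩))) (.node 2 (.node 1 (.one ⟨8657, 4, 16⟩) (.one ⟨10103, 4, 13⟩)) (.node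 1 (.one ⟨10446, 5, 14⟩) (.one ⟨3288, 2, 12⟩)))) (.node 4 (.node 2 (.node 1 (.one ⟨11485, 3, 16⟩) (.one ⟨266, 6, 14⟩)) (.node 1 (.one ⟨3489, 3, 15⟩) (.one ⟨3626, 1, 15⟩))) (.node 2 (.node 1 (.one ⟨14518, 6, 15⟩) (.one ⟨8444, 6, 14⟩)) (.node 1 (.one ⟨10075, 4, 11⟩) (.one ⟨14885, 4, 15⟩)))))) (.node 16 (.node 8 (.node 4 (.node 2 (.node 1 (.one ⟨16039, 6, 15⟩) (.one ⟨1295, 2, 12⟩)) (.node 1 (.one ⟨3602, 1, 14⟩) (.one ⟨1582, 2, 15⟩))) (.node 2 (.node 1 (.one ⟨1672, 3, 14⟩) (.one ⟨10065, 4, 14⟩)) (.node 1 (.one ⟨2361, 5, 15⟩) (.one ⟨8472, 6, 15⟩)))) (.node 4 (.node 2 (.node 1 (.one ⟨3607, 1, 13⟩) (.one ⟨455, 6, 13⟩)) (.node 1 (.one ⟨10624, 2, 14⟩) (.one ⟨6472, 6, 14⟩))) (.node 2 (.node 1 (.one ⟨11519, 3, 16⟩) (.one ⟨3378, 3, 15⟩)) (.node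 1 (.one ⟨10100, 4, 12⟩) (.one ⟨11359, 6, 6⟩))))) (.node 8 (.node 4 (.node 2 (.node 1 (.one ⟨5008, 5, 13⟩) (.one ⟨1621, 4, 15⟩)) (.node 1 (.one ⟨8693, 6, 10⟩) (.one ⟨4763, 5, 16⟩))) (.node 2 (.node 1 (.one ⟨5830, 6, 11⟩) (.one ⟨12480, 6, 11⟩)) (.node 1 (.one ⟨2359, 5, 16⟩) (.one ⟨813, 5, 15⟩)))) (.node 4 (.node 2 (.node 1 (.one ⟨6926, 0, 15⟩) (.one ⟨5023, 5, 15⟩)) (.node 1 (.one ⟨3607, 4, 13⟩) (.one ⟨13336, 5, 11⟩))) (.node 2 (.node 1 (.one ⟨10745, 6, 16⟩) (.one ⟨15061, 6, 16⟩)) (.node 1 (.one ⟨13583, 5, 13⟩) (.one ⟨1679, 4, 15⟩)))))))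
def par0_3_9 : Arr Par :=
  (.node 32 (.node 16 (.node 8 (.node 4 (.node 2 (.node 1 (.one ⟨141, 4, 15⟩) (.one ⟨10846, 4, 14⟩)) (.node 1 (.one ⟨5259, 5, 14⟩) (.one ⟨11569, 4, 17⟩))) (.node 2 (.node 1 (.one ⟨3686, 1, 16⟩) (.one ⟨4732, 4, 17⟩)) (.node 1 (.one ⟨13287, 3, 16⟩) (.one ⟨13040, 5, 14⟩)))) (.node 4 (.node 2 (.node 1 (.one ⟨11171, 3, 12⟩) (.one ⟨2664, 5, 16⟩)) (.node 1 (.one ⟨13938, 6, 14⟩) (.one ⟨5511, 5, 13⟩))) (.node 2 (.node 1 (.one ⟨13195, 3, 15⟩) (.one ⟨3267, 6, 16⟩)) (.node 1 (.one ⟨10472, 5, 14⟩) (.one ⟨1638, 4, 14⟩))))) (.node 8 (.node 4 (.node 2 (.node 1 (.one ⟨3280, 6, 5⟩) (.one ⟨10444, 5, 17⟩)) (.node 1 (.one ⟨5905, 6, 12⟩) (.one ⟨15877, 6, 15⟩))) (.node 2 (.node 1 (.one ⟨4454, 6, 12⟩) (.one ⟨4976, 5, 12⟩)) (.node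 1 (.one ⟨8709, 6, 11⟩) (.one ⟨5495, 5, 12⟩)))) (.node 4 (.node 2 (.node 1 (.one ⟨24, 5, 14⟩) (.one ⟨3624, 4, 14⟩)) (.node 1 (.one ⟨5288, 5, 12⟩) (.one ⟨4993, 5, 15⟩))) (.node 2 (.node 1 (.one ⟨2410, 5, 15⟩) (.one ⟨12080, 3, 17⟩)) (.node 1 (.one ⟨8375, 0, 16⟩) (.one ⟨1695, 4, 14⟩)))))) (.node 16 (.node 8 (.node 4 (.node 2 (.node 1 (.one ⟨92, 4, 14⟩) (.one ⟨4733, 4, 16⟩)) (.node 1 (.one ⟨5211, 3, 15⟩) (.one ⟨10862, 4, 13⟩))) (.node 2 (.node 1 (.one ⟨13308, 5, 15⟩) (.one ⟨10425, 5, 17⟩)) (.node 1 (.one ⟨15177, 2, 15⟩) (.one ⟨13602, 5, 12⟩)))) (.node 4 (.node 2 (.node 1 (.one ⟨13919, 6, 13⟩) (.one ⟨10691, 5, 15⟩)) (.node 1 (.one ⟨7249, 2, 15⟩) (.one ⟨13071, 5, 15⟩))) (.node 2 (.node 1 (.one ⟨2395, 5, 13⟩) (.one ⟨11315, 6, 15⟩)) (.node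 1 (.one ⟨11080, 3, 13⟩) (.one ⟨7389, 5, 15⟩))))) (.node 8 (.node 4 (.node 2 (.node 1 (.one ⟨10701, 5, 9⟩) (.one ⟨1887, 3, 15⟩)) (.node 1 (.one ⟨5552, 3, 7⟩) (.one ⟨2929, 6, 9⟩))) (.node 2 (.node 1 (.one ⟨5663, 3, 15⟩) (.one ⟨5682, 3, 9⟩)) (.node 1 (.one ⟨2063, 3, 15⟩) (.one ⟨3004, 5, 13⟩)))) (.node 4 (.node 2 (.node 1 (.one ⟨7348, 5, 13⟩) (.one ⟨3738, 1, 14⟩)) (.node 1 (.one ⟨7197, 2, 17⟩) (.one ⟨2976, 6, 12⟩))) (.node 2 (.node 1 (.one ⟨14614, 6, 15⟩) (.one ⟨10725, 5, 15⟩)) (.node 1 (.one ⟨10218, 4, 15⟩) (.one ⟨5598, 3, 13⟩)))))))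
def par0_3_10 : Arr Par :=
  (.node 32 (.node 16 (.node 8 (.node 4 (.node 2 (.node 1 (.one ⟨1863, 3, 16⟩) (.one ⟨10230, 4, 13⟩)) (.node 1 (.one ⟨10123, 3, 16⟩) (.one ⟨2609, 5, 12⟩))) (.node 2 (.node 1 (.one ⟨13880, 3, 16⟩) (.one ⟨1912, 3, 13⟩)) (.node 1 (.one ⟨3749, 1, 17⟩) (.one ⟨15431, 5, 13⟩)))) (.node 4 (.node 2 (.node 1 (.one ⟨10162, 4, 13⟩) (.one ⟨8411, 6, 15⟩)) (.node 1 (.one ⟨3944, 6, 12⟩) (.one ⟨574, 5, 12⟩))) (.node 2 (.node 1 (.one ⟨6224, 2, 16⟩) (.one ⟨2650, 5, 15⟩)) (.node 1 (.one ⟨7123, 6, 15⟩) (.one ⟨2658, 5, 10⟩))))) (.node 8 (.node 4 (.node 2 (.node 1 (.one ⟨15412, 5, 14⟩) (.one ⟨5584, 3, 8⟩)) (.node 1 (.one ⟨1855, 3, 14⟩) (.one ⟨5631, 3, 14⟩))) (.node 2 (.node 1 (.one ⟨2965, 6, 10⟩) (.one ⟨15219, 6, 15⟩)) (.node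 1 (.one ⟨5784, 3, 10⟩) (.one ⟨3091, 5, 14⟩)))) (.node 4 (.node 2 (.node 1 (.one ⟨9631, 4, 17⟩) (.one ⟨15447, 5, 14⟩)) (.node 1 (.one ⟨11922, 2, 13⟩) (.one ⟨13756, 5, 15⟩))) (.node 2 (.node 1 (.one ⟨2943, 6, 11⟩) (.one ⟨754, 6, 14⟩)) (.node 1 (.one ⟨6562, 6, 14⟩) (.one ⟨5565, 3, 12⟩)))))) (.node 16 (.node 8 (.node 4 (.node 2 (.node 1 (.one ⟨2080, 4, 16⟩) (.one ⟨3750, 2, 13⟩)) (.node 1 (.one ⟨10083, 3, 15⟩) (.one ⟨13993, 3, 15⟩))) (.node 2 (.node 1 (.one ⟨3743, 2, 13⟩) (.one ⟨3746, 2, 16⟩)) (.node 1 (.one ⟨1943, 3, 12⟩) (.one ⟨10276, 4, 14⟩)))) (.node 4 (.node 2 (.node 1 (.one ⟨7394, 5, 14⟩) (.one ⟨8378, 6, 14⟩)) (.node 1 (.one ⟨11996, 6, 11⟩) (.one ⟨1002, 5, 13⟩))) (.node 2 (.node 1 (.one ⟨11619, 2, 16⟩) (.one ⟨10092, 3, 15⟩)) (.node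 1 (.one ⟨2125, 3, 16⟩) (.one ⟨10465, 3, 6⟩))))) (.node 8 (.node 4 (.node 2 (.node 1 (.one ⟨8247, 3, 14⟩) (.one ⟨14600, 3, 10⟩)) (.node 1 (.one ⟨11075, 5, 15⟩) (.one ⟨2103, 3, 6⟩))) (.node 2 (.node 1 (.one ⟨15743, 3, 16⟩) (.one ⟨5554, 3, 9⟩)) (.node 1 (.one ⟨11855, 3, 14⟩) (.one ⟨15814, 6, 14⟩)))) (.node 4 (.node 2 (.node 1 (.one ⟨2848, 4, 13⟩) (.one ⟨4029, 2, 16⟩)) (.node 1 (.one ⟨15989, 4, 15⟩) (.one ⟨4984, 4, 15⟩))) (.node 2 (.node 1 (.one ⟨8972, 6, 13⟩) (.one ⟨7569, 2, 12⟩)) (.node 1 (.one ⟨14819, 6, 16⟩) (.one ⟨646, 5, 14⟩)))))))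
def par0_3_11 : Arr Par :=
  (.node 32 (.node 16 (.node 8 (.node 4 (.node 2 (.node 1 (.one ⟨4035, 2, 15⟩) (.one ⟨11888, 6, 12⟩)) (.node 1 (.one ⟨8915, 6, 12⟩) (.one ⟨3855, 1, 13⟩))) (.node 2 (.node 1 (.one ⟨13383, 5, 16⟩) (.one ⟨5611, 3, 12⟩)) (.node 1 (.one ⟨12103, 3, 16⟩) (.one ⟨13158, 3, 15⟩)))) (.node 4 (.node 2 (.node 1 (.one ⟨33, 5, 15⟩) (.one ⟨11911, 6, 12⟩)) (.node 1 (.one ⟨16730, 4, 15⟩) (.one ⟨13041, 4, 12⟩))) (.node 2 (.node 1 (.one ⟨5365, 5, 15⟩) (.one ⟨10157, 5, 13⟩)) (.node 1 (.one ⟨11834, 4, 15⟩) (.one ⟨4838, 4, 17⟩))))) (.node 8 (.node 4 (.node 2 (.node 1 (.one ⟨12538, 2, 12⟩) (.one ⟨10591, 2, 8⟩)) (.node 1 (.one ⟨2632, 6, 14⟩) (.one ⟨9324, 2, 7⟩))) (.node 2 (.node 1 (.one ⟨771, 5, 14⟩) (.one ⟨3041, 5, 16⟩)) (.node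 1 (.one ⟨5010, 4, 13⟩) (.one ⟨13887, 4, 13⟩)))) (.node 4 (.node 2 (.node 1 (.one ⟨204, 4, 15⟩) (.one ⟨13380, 5, 16⟩)) (.node 1 (.one ⟨5226, 5, 15⟩) (.one ⟨15987, 4, 17⟩))) (.node 2 (.node 1 (.one ⟨2476, 3, 16⟩) (.one ⟨15841, 6, 13⟩)) (.node 1 (.one ⟨5511, 6, 13⟩) (.one ⟨5393, 5, 12⟩)))))) (.node 16 (.node 8 (.node 4 (.node 2 (.node 1 (.one ⟨3828, 1, 10⟩) (.one ⟨16354, 3, 15⟩)) (.node 1 (.one ⟨3826, 1, 13⟩) (.one ⟨7821, 4, 15⟩))) (.node 2 (.node 1 (.one ⟨13466, 5, 16⟩) (.one ⟨15093, 4, 9⟩)) (.node 1 (.one ⟨6547, 3, 13⟩) (.one ⟨5903, 4, 11⟩)))) (.node 4 (.node 2 (.node 1 (.one ⟨8648, 4, 11⟩) (.one ⟨694, 5, 14⟩)) (.node 1 (.one ⟨5014, 4, 12⟩) (.one ⟨3834, 1, 16⟩))) (.node 2 (.node 1 (.one ⟨1577, 5, 14⟩) (.one ⟨216, 0, 15⟩)) (.node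 1 (.one ⟨10536, 3, 16⟩) (.one ⟨7768, 4, 14⟩))))) (.node 8 (.node 4 (.node 2 (.node 1 (.one ⟨13376, 5, 11⟩) (.one ⟨14629, 3, 14⟩)) (.node 1 (.one ⟨7096, 2, 12⟩) (.one ⟨5324, 5, 17⟩))) (.node 2 (.node 1 (.one ⟨6713, 2, 9⟩) (.one ⟨15112, 4, 10⟩)) (.node 1 (.one ⟨8274, 3, 14⟩) (.one ⟨5825, 4, 10⟩)))) (.node 4 (.node 2 (.node 1 (.one ⟨538, 5, 13⟩) (.one ⟨10908, 4, 16⟩)) (.node 1 (.one ⟨4091, 2, 15⟩) (.one ⟨4982, 4, 11⟩))) (.node 2 (.node 1 (.one ⟨8626, 4, 10⟩) (.one ⟨1582, 5, 15⟩)) (.node 1 (.one ⟨2459, 3, 15⟩) (.one ⟨14643, 4, 13⟩)))))))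
def par0_3_12 : Arr Par :=
  (.node 32 (.node 16 (.node 8 (.node 4 (.node 2 (.node 1 (.one ⟨3082, 5, 17⟩) (.one ⟨167, 5, 13⟩)) (.node 1 (.one ⟨4827, 4, 16⟩) (.one ⟨3793, 1, 9⟩))) (.node 2 (.node 1 (.one ⟨4978, 4, 14⟩) (.one ⟨3795, 1, 8⟩)) (.node 1 (.one ⟨3792, 1, 13⟩) (.one ⟨13969, 4, 14⟩)))) (.node 4 (.node 2 (.node 1 (.one ⟨13602, 6, 12⟩) (.one ⟨6401, 6, 15⟩)) (.node 1 (.one ⟨8671, 4, 13⟩) (.one ⟨10751, 6, 17⟩))) (.node 2 (.node 1 (.one ⟨13277, 5, 14⟩) (.one ⟨14775, 6, 16⟩)) (.node 1 (.one ⟨2922, 3, 16⟩) (.one ⟨8434, 2, 12⟩))))) (.node 8 (.node 4 (.node 2 (.node 1 (.one ⟨10659, 2, 15⟩) (.one ⟨3008, 5, 16⟩)) (.node 1 (.one ⟨11874, 6, 13⟩) (.one ⟨230, 5, 13⟩))) (.node 2 (.node 1 (.one ⟨5404, 5, 15⟩) (.one ⟨16943, 6, 13⟩)) (.node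 1 (.one ⟨5579, 3, 13⟩) (.one ⟨5074, 3, 14⟩)))) (.node 4 (.node 2 (.node 1 (.one ⟨11944, 4, 16⟩) (.one ⟨10048, 5, 12⟩)) (.node 1 (.one ⟨1044, 5, 14⟩) (.one ⟨11869, 6, 13⟩))) (.node 2 (.node 1 (.one ⟨13412, 5, 16⟩) (.one ⟨13073, 4, 13⟩)) (.node 1 (.one ⟨16735, 4, 16⟩) (.one ⟨2384, 3, 7⟩)))))) (.node 16 (.node 8 (.node 4 (.node 2 (.node 1 (.one ⟨16327, 3, 13⟩) (.one ⟨13434, 5, 15⟩)) (.node 1 (.one ⟨2216, 3, 7⟩) (.one ⟨11182, 5, 14⟩))) (.node 2 (.node 1 (.one ⟨6519, 3, 11⟩) (.one ⟨5583, 3, 10⟩)) (.node 1 (.one ⟨11903, 3, 13⟩) (.one ⟨17055, 6, 14⟩)))) (.node 4 (.node 2 (.node 1 (.one ⟨333, 5, 15⟩) (.one ⟨5017, 4, 16⟩)) (.node 1 (.one ⟨15990, 4, 16⟩) (.one ⟨15700, 2, 16⟩))) (.node 2 (.node 1 (.one ⟨15892, 6, 15⟩) (.one ⟨3773, 1, 13⟩))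 (.node 1 (.one ⟨2839, 4, 14⟩) (.one ⟨6513, 3, 13⟩))))) (.node 8 (.node 4 (.node 2 (.node 1 (.one ⟨14522, 3, 13⟩) (.one ⟨4228, 5, 16⟩)) (.node 1 (.one ⟨11055, 6, 14⟩) (.one ⟨2190, 3, 13⟩))) (.node 2 (.node 1 (.one ⟨11529, 5, 16⟩) (.one ⟨8145, 4, 17⟩)) (.node 1 (.one ⟨13547, 5, 14⟩) (.one ⟨3464, 5, 13⟩)))) (.node 4 (.node 2 (.node 1 (.one ⟨3095, 6, 3⟩) (.one ⟨5483, 5, 7⟩)) (.node 1 (.one ⟨4915, 5, 10⟩) (.one ⟨10399, 3, 14⟩))) (.node 2 (.node 1 (.one ⟨4869, 6, 11⟩) (.one ⟨6520, 3, 9⟩)) (.node 1 (.one ⟨2145, 5, 15⟩) (.one ⟨11040, 5, 11⟩)))))))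
def par0_3_13 : Arr Par :=
  (.node 32 (.node 16 (.node 8 (.node 4 (.node 2 (.node 1 (.one ⟨11525, 5, 13⟩) (.one ⟨11843, 5, 14⟩)) (.node 1 (.one ⟨986, 2, 13⟩) (.one ⟨12992, 5, 12⟩))) (.node 2 (.node 1 (.one ⟨13541, 5, 10⟩) (.one ⟨436, 2, 14⟩)) (.node 1 (.one ⟨6543, 3, 13⟩) (.one ⟨5473, 5, 11⟩)))) (.node 4 (.node 2 (.node 1 (.one ⟨12408, 4, 15⟩) (.one ⟨16233, 4, 13⟩)) (.node 1 (.one ⟨4953, 5, 13⟩) (.one ⟨16341, 4, 15⟩))) (.node 2 (.node 1 (.one ⟨13400, 4, 12⟩) (.one ⟨12927, 6, 16⟩)) (.node 1 (.one ⟨2936, 5, 16⟩) (.one ⟨13845, 3, 11⟩))))) (.node 8 (.node 4 (.node 2 (.node 1 (.one ⟨6454, 3, 13⟩) (.one ⟨10344, 3, 15⟩)) (.node 1 (.one ⟨3449, 5, 15⟩) (.one ⟨2208, 5, 14⟩))) (.node 2 (.node 1 (.one ⟨6531, 3, 15⟩) (.one ⟨12003, 1, 16⟩))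 (.node 1 (.one ⟨2151, 3, 13⟩) (.one ⟨10388, 3, 16⟩)))) (.node 4 (.node 2 (.node 1 (.one ⟨13532, 5, 10⟩) (.one ⟨12194, 6, 15⟩)) (.node 1 (.one ⟨16325, 4, 17⟩) (.one ⟨11000, 5, 12⟩))) (.node 2 (.node 1 (.one ⟨12170, 2, 16⟩) (.one ⟨13021, 5, 15⟩)) (.node 1 (.one ⟨2123, 3, 14⟩) (.one ⟨14514, 3, 14⟩)))))) (.node 16 (.node 8 (.node 4 (.node 2 (.node 1 (.one ⟨10212, 5, 15⟩) (.one ⟨6440, 2, 14⟩)) (.node 1 (.one ⟨11985, 1, 14⟩) (.one ⟨11984, 1, 12⟩))) (.node 2 (.node 1 (.one ⟨12948, 6, 14⟩) (.one ⟨5458, 5, 12⟩)) (.node 1 (.one ⟨6560, 3, 12⟩) (.one ⟨4858, 6, 15⟩)))) (.node 4 (.node 2 (.node 1 (.one ⟨6569, 3, 11⟩) (.one ⟨14566, 3, 14⟩)) (.node 1 (.one ⟨11507, 5, 15⟩) (.one ⟨5891, 2, 15⟩))) (.node 2 (.node 1 (.one ⟨12209, 5, 17⟩) (.one ⟨11091,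 6, 14⟩)) (.node 1 (.one ⟨2933, 2, 10⟩) (.one ⟨14026, 5, 12⟩))))) (.node 8 (.node 4 (.node 2 (.node 1 (.one ⟨15655, 6, 13⟩) (.one ⟨4911, 3, 16⟩)) (.node 1 (.one ⟨16519, 6, 14⟩) (.one ⟨3116, 3, 15⟩))) (.node 2 (.node 1 (.one ⟨9201, 2, 9⟩) (.one ⟨5217, 3, 14⟩)) (.node 1 (.one ⟨13530, 2, 14⟩) (.one ⟨15625, 6, 13⟩)))) (.node 4 (.node 2 (.node 1 (.one ⟨7070, 2, 14⟩) (.one ⟨4927, 5, 12⟩)) (.node 1 (.one ⟨5891, 5, 15⟩) (.one ⟨3341, 4, 13⟩))) (.node 2 (.node 1 (.one ⟨10093, 2, 13⟩) (.one ⟨2790, 2, 15⟩)) (.node 1 (.one ⟨10100, 3, 12⟩) (.one ⟨3521, 0, 15⟩)))))))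
def par0_3_14 : Arr Par :=
  (.node 32 (.node 16 (.node 8 (.node 4 (.node 2 (.node 1 (.one ⟨5982, 5, 13⟩) (.one ⟨682, 6, 15⟩)) (.node 1 (.one ⟨15270, 0, 15⟩) (.one ⟨8927, 0, 11⟩))) (.node 2 (.node 1 (.one ⟨12101, 3, 14⟩) (.one ⟨15615, 6, 14⟩)) (.node 1 (.one ⟨12993, 3, 15⟩) (.one ⟨5861, 5, 13⟩)))) (.node 4 (.node 2 (.node 1 (.one ⟨1689, 5, 16⟩) (.one ⟨2284, 4, 14⟩)) (.node 1 (.one ⟨2128, 5, 16⟩) (.one ⟨12907, 5, 15⟩))) (.node 2 (.node 1 (.one ⟨11734, 3, 16⟩) (.one ⟨3752, 6, 15⟩)) (.node 1 (.one ⟨15401, 4, 17⟩) (.one ⟨16860, 2, 16⟩))))) (.node 8 (.node 4 (.node 2 (.node 1 (.one ⟨2006, 3, 12⟩) (.one ⟨2210, 5, 12⟩)) (.node 1 (.one ⟨14448, 4, 16⟩) (.one ⟨8434, 6, 12⟩))) (.node 2 (.node 1 (.one ⟨4969, 3, 16⟩) (.one ⟨1595, 5, 16⟩)) (.node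 1 (.one ⟨5966, 5, 10⟩) (.one ⟨6008, 5, 12⟩)))) (.node 4 (.node 2 (.node 1 (.one ⟨15337, 4, 17⟩) (.one ⟨3352, 4, 15⟩)) (.node 1 (.one ⟨4095, 3, 14⟩) (.one ⟨13259, 4, 11⟩))) (.node 2 (.node 1 (.one ⟨10272, 5, 14⟩) (.one ⟨15613, 6, 15⟩)) (.node 1 (.one ⟨8829, 4, 15⟩) (.one ⟨6950, 6, 16⟩)))))) (.node 16 (.node 8 (.node 4 (.node 2 (.node 1 (.one ⟨16476, 5, 13⟩) (.one ⟨8681, 5, 17⟩)) (.node 1 (.one ⟨14044, 5, 13⟩) (.one ⟨2116, 5, 14⟩))) (.node 2 (.node 1 (.one ⟨5193, 4, 15⟩) (.one ⟨12057, 1, 12⟩)) (.node 1 (.one ⟨15599, 6, 16⟩) (.one ⟨13877, 5, 14⟩)))) (.node 4 (.node 2 (.node 1 (.one ⟨10175, 5, 13⟩) (.one ⟨15636, 6, 14⟩)) (.node 1 (.one ⟨4917, 2, 12⟩) (.one ⟨9538, 2, 11⟩))) (.node 2 (.node 1 (.one ⟨12051, 1, 16⟩) (.one ⟨16466, 5, 15⟩))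 (.node 1 (.one ⟨5258, 4, 12⟩) (.one ⟨10639, 5, 13⟩))))) (.node 8 (.node 4 (.node 2 (.node 1 (.one ⟨16887, 5, 16⟩) (.one ⟨11008, 6, 12⟩)) (.node 1 (.one ⟨16719, 5, 15⟩) (.one ⟨2921, 6, 16⟩))) (.node 2 (.node 1 (.one ⟨3711, 6, 14⟩) (.one ⟨12101, 1, 14⟩)) (.node 1 (.one ⟨17171, 4, 13⟩) (.one ⟨8014, 5, 16⟩)))) (.node 4 (.node 2 (.node 1 (.one ⟨2537, 5, 15⟩) (.one ⟨11216, 4, 15⟩)) (.node 1 (.one ⟨6594, 6, 16⟩) (.one ⟨14719, 6, 12⟩))) (.node 2 (.node 1 (.one ⟨5393, 4, 12⟩) (.one ⟨7529, 3, 15⟩)) (.node 1 (.one ⟨7717, 6, 12⟩) (.one ⟨2883, 6, 13⟩)))))))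
def par0_3_15 : Arr Par :=
  (.node 32 (.node 16 (.node 8 (.node 4 (.node 2 (.node 1 (.one ⟨12047, 3, 16⟩) (.one ⟨2544, 5, 15⟩)) (.node 1 (.one ⟨10248, 3, 14⟩) (.one ⟨11933, 3, 14⟩))) (.node 2 (.node 1 (.one ⟨8861, 5, 16⟩) (.one ⟨10349, 3, 13⟩)) (.node 1 (.one ⟨2372, 3, 11⟩) (.one ⟨8043, 5, 14⟩)))) (.node 4 (.node 2 (.node 1 (.one ⟨2533, 2, 15⟩) (.one ⟨248, 6, 15⟩)) (.node 1 (.one ⟨10239, 3, 12⟩) (.one ⟨12087, 1, 13⟩))) (.node 2 (.node 1 (.one ⟨17191, 3, 15⟩) (.one ⟨5988, 5, 17⟩)) (.node 1 (.one ⟨7691, 6, 15⟩) (.one ⟨2872, 6, 14⟩))))) (.node 8 (.node 4 (.node 2 (.node 1 (.one ⟨3729, 6, 9⟩) (.one ⟨1799, 5, 2⟩)) (.node 1 (.one ⟨8626, 5, 10⟩) (.one ⟨8876, 5, 15⟩))) (.node 2 (.node 1 (.one ⟨2564, 5, 9⟩) (.one ⟨2223, 3, 8⟩)) (.node 1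 (.one ⟨5995, 5, 14⟩) (.one ⟨4613, 6, 13⟩)))) (.node 4 (.node 2 (.node 1 (.one ⟨5361, 4, 12⟩) (.one ⟨6609, 6, 4⟩)) (.node 1 (.one ⟨16108, 5, 15⟩) (.one ⟨6214, 4, 15⟩))) (.node 2 (.node 1 (.one ⟨1602, 6, 12⟩) (.one ⟨2211, 3, 9⟩)) (.node 1 (.one ⟨7670, 6, 10⟩) (.one ⟨2898, 6, 16⟩)))))) (.node 16 (.node 8 (.node 4 (.node 2 (.node 1 (.one ⟨1603, 6, 16⟩) (.one ⟨2967, 6, 15⟩)) (.node 1 (.one ⟨10655, 5, 15⟩) (.one ⟨4771, 6, 16⟩))) (.node 2 (.node 1 (.one ⟨3643, 6, 12⟩) (.one ⟨2263, 3, 12⟩)) (.node 1 (.one ⟨17111, 4, 15⟩) (.one ⟨11190, 4, 15⟩)))) (.node 4 (.node 2 (.node 1 (.one ⟨2526, 5, 14⟩) (.one ⟨6588, 6, 14⟩)) (.node 1 (.one ⟨16899, 4, 16⟩) (.one ⟨7707, 6, 9⟩))) (.node 2 (.node 1 (.one ⟨6679, 6, 13⟩) (.one ⟨15541, 3, 15⟩)) (.node 1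 (.one ⟨16928, 5, 14⟩) (.one ⟨8839, 5, 14⟩))))) (.node 8 (.node 4 (.node 2 (.node 1 (.one ⟨6043, 5, 15⟩) (.one ⟨10955, 6, 15⟩)) (.node 1 (.one ⟨3885, 3, 14⟩) (.one ⟨9467, 2, 12⟩))) (.node 2 (.node 1 (.one ⟨2591, 5, 10⟩) (.one ⟨9884, 5, 12⟩)) (.node 1 (.one ⟨2418, 3, 12⟩) (.one ⟨3903, 4, 12⟩)))) (.node 4 (.node 2 (.node 1 (.one ⟨4565, 6, 14⟩) (.one ⟨11230, 4, 13⟩)) (.node 1 (.one ⟨10446, 3, 14⟩) (.one ⟨6659, 3, 14⟩))) (.node 2 (.node 1 (.one ⟨11846, 3, 16⟩) (.one ⟨10897, 5, 15⟩)) (.node 1 (.one ⟨16488, 3, 15⟩) (.one ⟨12145, 1, 13⟩)))))))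
def par0_3 : Arr Par :=
  (.node 512 (.node 256 (.node 128 (.node 64 par0_3_0 par0_3_1) (.node 64 par0_3_2 par0_3_3)) (.node 128 (.node 64 par0_3_4 par0_3_5) (.node 64 par0_3_6 par0_3_7))) (.node 256 (.node 128 (.node 64 par0_3_8 par0_3_9) (.node 64 par0_3_10 par0_3_11)) (.node 128 (.node 64 par0_3_12 par0_3_13) (.node 64 par0_3_14 par0_3_15))))
def par0_4_0 : Arr Par :=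
  (.node 32 (.node 16 (.node 8 (.node 4 (.node 2 (.node 1 (.one ⟨12146, 1, 10⟩) (.one ⟨2271, 3, 12⟩)) (.node 1 (.one ⟨3789, 3, 14⟩) (.one ⟨17122, 4, 14⟩))) (.node 2 (.node 1 (.one ⟨16942, 5, 14⟩) (.one ⟨10975, 6, 14⟩)) (.node 1 (.one ⟨10624, 5, 14⟩) (.one ⟨15785, 6, 9⟩)))) (.node 4 (.node 2 (.node 1 (.one ⟨12359, 0, 16⟩) (.one ⟨11800, 2, 12⟩)) (.node 1 (.one ⟨1633, 6, 13⟩) (.one ⟨12005, 4, 17⟩))) (.node 2 (.node 1 (.one ⟨2127, 3, 10⟩) (.one ⟨8423, 3, 17⟩)) (.node 1 (.one ⟨11996, 2, 11⟩) (.one ⟨8642, 5, 13⟩))))) (.node 8 (.node 4 (.node 2 (.node 1 (.one ⟨13069, 2, 15⟩) (.one ⟨10610, 5, 12⟩)) (.node 1 (.one ⟨10302, 3, 14⟩) (.one ⟨4782, 6, 14⟩))) (.node 2 (.node 1 (.one ⟨12034, 3, 15⟩) (.one ⟨10171, 3, 15⟩)) (.node 1 (.one ⟨17086,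 4, 15⟩) (.one ⟨12201, 1, 13⟩)))) (.node 4 (.node 2 (.node 1 (.one ⟨14096, 5, 17⟩) (.one ⟨6224, 4, 16⟩)) (.node 1 (.one ⟨3128, 4, 14⟩) (.one ⟨11961, 4, 16⟩))) (.node 2 (.node 1 (.one ⟨6947, 0, 16⟩) (.one ⟨12205, 1, 11⟩)) (.node 1 (.one ⟨2803, 5, 14⟩) (.one ⟨3656, 6, 13⟩)))))) (.node 16 (.node 8 (.node 4 (.node 2 (.node 1 (.one ⟨2467, 3, 11⟩) (.one ⟨12977, 2, 15⟩)) (.node 1 (.one ⟨4863, 2, 11⟩) (.one ⟨9541, 2, 8⟩))) (.node 2 (.node 1 (.one ⟨2179, 2, 14⟩) (.one ⟨12439, 4, 15⟩)) (.node 1 (.one ⟨12074, 3, 16⟩) (.one ⟨10461, 3, 15⟩)))) (.node 4 (.node 2 (.node 1 (.one ⟨3811, 3, 16⟩) (.one ⟨17172, 3, 15⟩)) (.node 1 (.one ⟨8849, 5, 15⟩) (.one ⟨10255, 3, 13⟩))) (.node 2 (.node 1 (.one ⟨3931, 4, 13⟩) (.one ⟨10605, 5, 14⟩)) (.node 1 (.one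 ⟨12706, 6, 15⟩) (.one ⟨12309, 1, 15⟩))))) (.node 8 (.node 4 (.node 2 (.node 1 (.one ⟨12660, 5, 14⟩) (.one ⟨3249, 4, 14⟩)) (.node 1 (.one ⟨10840, 6, 16⟩) (.one ⟨13554, 4, 15⟩))) (.node 2 (.node 1 (.one ⟨12303, 1, 13⟩) (.one ⟨8605, 3, 15⟩)) (.node 1 (.one ⟨15159, 3, 12⟩) (.one ⟨15103, 6, 13⟩)))) (.node 4 (.node 2 (.node 1 (.one ⟨4652, 5, 14⟩) (.one ⟨5271, 4, 15⟩)) (.node 1 (.one ⟨3760, 2, 15⟩) (.one ⟨10594, 5, 15⟩))) (.node 2 (.node 1 (.one ⟨9574, 3, 17⟩) (.one ⟨8895, 6, 11⟩)) (.node 1 (.one ⟨2338, 5, 13⟩) (.one ⟨3203, 5, 16⟩)))))))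
def par0_4_1 : Arr Par :=
  (.node 32 (.node 16 (.node 8 (.node 4 (.node 2 (.node 1 (.one ⟨6341, 6, 17⟩) (.one ⟨10503, 4, 17⟩)) (.node 1 (.one ⟨7180, 4, 15⟩) (.one ⟨8357, 4, 15⟩))) (.node 2 (.node 1 (.one ⟨16162, 6, 14⟩) (.one ⟨10620, 5, 14⟩)) (.node 1 (.one ⟨12326, 1, 12⟩) (.one ⟨3168, 4, 13⟩)))) (.node 4 (.node 2 (.node 1 (.one ⟨9058, 5, 17⟩) (.one ⟨4245, 3, 12⟩)) (.node 1 (.one ⟨12428, 3, 14⟩) (.one ⟨2308, 5, 15⟩))) (.node 2 (.node 1 (.one ⟨2227, 4, 14⟩) (.one ⟨10750, 6, 16⟩)) (.node 1 (.one ⟨7062, 2, 16⟩) (.one ⟨2506, 5, 14⟩))))) (.node 8 (.node 4 (.node 2 (.node 1 (.one ⟨16632, 3, 14⟩) (.one ⟨12532, 4, 14⟩)) (.node 1 (.one ⟨10483, 0, 9⟩) (.one ⟨4355, 0, 13⟩))) (.node 2 (.node 1 (.one ⟨16118, 6, 15⟩) (.one ⟨5638, 2, 15⟩)) (.node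 1 (.one ⟨14470, 6, 14⟩) (.one ⟨17012, 6, 16⟩)))) (.node 4 (.node 2 (.node 1 (.one ⟨10300, 4, 14⟩) (.one ⟨4130, 4, 12⟩)) (.node 1 (.one ⟨619, 0, 14⟩) (.one ⟨11643, 6, 13⟩))) (.node 2 (.node 1 (.one ⟨10397, 5, 13⟩) (.one ⟨4376, 4, 15⟩)) (.node 1 (.one ⟨5296, 4, 14⟩) (.one ⟨12578, 4, 17⟩)))))) (.node 16 (.node 8 (.node 4 (.node 2 (.node 1 (.one ⟨12294, 1, 15⟩) (.one ⟨11313, 4, 10⟩)) (.node 1 (.one ⟨15195, 3, 11⟩) (.one ⟨14438, 6, 15⟩))) (.node 2 (.node 1 (.one ⟨8262, 5, 14⟩) (.one ⟨10572, 5, 14⟩)) (.node 1 (.one ⟨14747, 5, 14⟩) (.one ⟨9573, 3, 15⟩)))) (.node 4 (.node 2 (.node 1 (.one ⟨4211, 3, 9⟩) (.one ⟨10359, 5, 14⟩)) (.node 1 (.one ⟨12250, 3, 14⟩) (.one ⟨9271, 2, 10⟩))) (.node 2 (.node 1 (.one ⟨2113, 2, 13⟩) (.one ⟨12384, 3, 16⟩))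 (.node 1 (.one ⟨1611, 3, 16⟩) (.one ⟨8542, 3, 14⟩))))) (.node 8 (.node 4 (.node 2 (.node 1 (.one ⟨14352, 4, 16⟩) (.one ⟨2744, 6, 13⟩)) (.node 1 (.one ⟨12244, 1, 14⟩) (.one ⟨11395, 4, 8⟩))) (.node 2 (.node 1 (.one ⟨12241, 1, 15⟩) (.one ⟨7113, 3, 12⟩)) (.node 1 (.one ⟨9095, 4, 17⟩) (.one ⟨17067, 6, 14⟩)))) (.node 4 (.node 2 (.node 1 (.one ⟨10562, 5, 16⟩) (.one ⟨12165, 4, 14⟩)) (.node 1 (.one ⟨12254, 1, 16⟩) (.one ⟨2607, 4, 13⟩))) (.node 2 (.node 1 (.one ⟨4193, 3, 11⟩) (.one ⟨12249, 1, 11⟩)) (.node 1 (.one ⟨10726, 6, 17⟩) (.one ⟨3281, 4, 10⟩)))))))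
def par0_4_2 : Arr Par :=
  (.node 32 (.node 16 (.node 8 (.node 4 (.node 2 (.node 1 (.one ⟨4513, 4, 6⟩) (.one ⟨15207, 3, 13⟩)) (.node 1 (.one ⟨5953, 5, 13⟩) (.one ⟨12256, 1, 14⟩))) (.node 2 (.node 1 (.one ⟨6290, 4, 15⟩) (.one ⟨16320, 5, 12⟩)) (.node 1 (.one ⟨510, 0, 16⟩) (.one ⟨2272, 4, 15⟩)))) (.node 4 (.node 2 (.node 1 (.one ⟨4049, 4, 3⟩) (.one ⟨9051, 5, 15⟩)) (.node 1 (.one ⟨8937, 6, 10⟩) (.one ⟨12373, 3, 12⟩))) (.node 2 (.node 1 (.one ⟨2659, 4, 11⟩) (.one ⟨12255, 3, 10⟩)) (.node 1 (.one ⟨3123, 4, 10⟩) (.one ⟨14054, 5, 13⟩))))) (.node 8 (.node 4 (.node 2 (.node 1 (.one ⟨1094, 3, 14⟩) (.one ⟨5488, 4, 15⟩)) (.node 1 (.one ⟨16559, 3, 15⟩) (.one ⟨5470, 6, 17⟩))) (.node 2 (.node 1 (.one ⟨6739, 2, 16⟩) (.one ⟨11350, 4, 11⟩)) (.node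 1 (.one ⟨7118, 4, 15⟩) (.one ⟨13281, 2, 16⟩)))) (.node 4 (.node 2 (.node 1 (.one ⟨16961, 6, 13⟩) (.one ⟨12118, 4, 16⟩)) (.node 1 (.one ⟨3611, 6, 16⟩) (.one ⟨6993, 6, 14⟩))) (.node 2 (.node 1 (.one ⟨4166, 3, 13⟩) (.one ⟨10612, 5, 14⟩)) (.node 1 (.one ⟨11192, 4, 16⟩) (.one ⟨14017, 5, 14⟩)))))) (.node 16 (.node 8 (.node 4 (.node 2 (.node 1 (.one ⟨4498, 4, 13⟩) (.one ⟨5535, 4, 15⟩)) (.node 1 (.one ⟨4560, 5, 17⟩) (.one ⟨3334, 4, 13⟩))) (.node 2 (.node 1 (.one ⟨7144, 3, 11⟩) (.one ⟨1418, 2, 16⟩)) (.node 1 (.one ⟨2476, 4, 16⟩) (.one ⟨11188, 4, 15⟩)))) (.node 4 (.node 2 (.node 1 (.one ⟨12231, 1, 11⟩) (.one ⟨3618, 6, 15⟩)) (.node 1 (.one ⟨12234, 1, 15⟩) (.one ⟨12413, 3, 12⟩))) (.node 2 (.node 1 (.one ⟨2643, 4, 13⟩) (.one ⟨5225, 4, 15⟩))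 (.node 1 (.one ⟨14089, 5, 14⟩) (.one ⟨12449, 1, 11⟩))))) (.node 8 (.node 4 (.node 2 (.node 1 (.one ⟨13229, 6, 15⟩) (.one ⟨7391, 3, 13⟩)) (.node 1 (.one ⟨8670, 5, 15⟩) (.one ⟨6937, 3, 15⟩))) (.node 2 (.node 1 (.one ⟨9067, 5, 15⟩) (.one ⟨12453, 1, 14⟩)) (.node 1 (.one ⟨12452, 1, 15⟩) (.one ⟨5673, 5, 16⟩)))) (.node 4 (.node 2 (.node 1 (.one ⟨17086, 6, 15⟩) (.one ⟨4726, 6, 11⟩)) (.node 1 (.one ⟨6496, 6, 13⟩) (.one ⟨2412, 4, 15⟩))) (.node 2 (.node 1 (.one ⟨16405, 0, 13⟩) (.one ⟨2648, 4, 15⟩)) (.node 1 (.one ⟨2518, 4, 12⟩) (.one ⟨12623, 0, 11⟩)))))))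
def par0_4_3 : Arr Par :=
  (.node 32 (.node 16 (.node 8 (.node 4 (.node 2 (.node 1 (.one ⟨5499, 4, 15⟩) (.one ⟨6939, 3, 12⟩)) (.node 1 (.one ⟨15306, 4, 15⟩) (.one ⟨7349, 3, 13⟩))) (.node 2 (.node 1 (.one ⟨17079, 5, 15⟩) (.one ⟨11412, 4, 15⟩)) (.node 1 (.one ⟨5152, 6, 16⟩) (.one ⟨12685, 6, 15⟩)))) (.node 4 (.node 2 (.node 1 (.one ⟨10363, 5, 11⟩) (.one ⟨1031, 3, 13⟩)) (.node 1 (.one ⟨3243, 5, 16⟩) (.one ⟨4525, 3, 16⟩))) (.node 2 (.node 1 (.one ⟨2578, 4, 13⟩) (.one ⟨17070, 3, 13⟩)) (.node 1 (.one ⟨9870, 5, 16⟩) (.one ⟨10678, 3, 14⟩))))) (.node 8 (.node 4 (.node 2 (.node 1 (.one ⟨837, 2, 14⟩) (.one ⟨753, 2, 15⟩)) (.node 1 (.one ⟨15462, 3, 14⟩) (.one ⟨978, 2, 15⟩))) (.node 2 (.node 1 (.one ⟨6941, 3, 16⟩) (.one ⟨11729, 5, 14⟩)) (.node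 1 (.one ⟨16697, 3, 13⟩) (.one ⟨12115, 4, 15⟩)))) (.node 4 (.node 2 (.node 1 (.one ⟨10381, 4, 15⟩) (.one ⟨9128, 6, 14⟩)) (.node 1 (.one ⟨4721, 6, 17⟩) (.one ⟨4235, 4, 13⟩))) (.node 2 (.node 1 (.one ⟨2641, 4, 12⟩) (.one ⟨2381, 4, 14⟩)) (.node 1 (.one ⟨8954, 3, 13⟩) (.one ⟨12399, 1, 11⟩)))))) (.node 16 (.node 8 (.node 4 (.node 2 (.node 1 (.one ⟨4622, 2, 15⟩) (.one ⟨12400, 1, 14⟩)) (.node 1 (.one ⟨12401, 1, 15⟩) (.one ⟨9041, 5, 16⟩))) (.node 2 (.node 1 (.one ⟨15408, 3, 13⟩) (.one ⟨16093, 5, 15⟩)) (.node 1 (.one ⟨3683, 5, 14⟩) (.one ⟨2472, 4, 12⟩)))) (.node 4 (.node 2 (.node 1 (.one ⟨12149, 4, 14⟩) (.one ⟨15534, 5, 15⟩)) (.node 1 (.one ⟨12586, 3, 16⟩) (.one ⟨12414, 1, 15⟩))) (.node 2 (.node 1 (.one ⟨14546, 6, 16⟩) (.one ⟨4729, 6, 16⟩))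 (.node 1 (.one ⟨2320, 5, 12⟩) (.one ⟨3669, 5, 13⟩))))) (.node 8 (.node 4 (.node 2 (.node 1 (.one ⟨13559, 4, 16⟩) (.one ⟨15419, 3, 11⟩)) (.node 1 (.one ⟨10293, 6, 15⟩) (.one ⟨13192, 6, 12⟩))) (.node 2 (.node 1 (.one ⟨10730, 3, 15⟩) (.one ⟨260, 6, 12⟩)) (.node 1 (.one ⟨4946, 5, 14⟩) (.one ⟨12315, 4, 16⟩)))) (.node 4 (.node 2 (.node 1 (.one ⟨2561, 4, 11⟩) (.one ⟨11304, 5, 15⟩)) (.node 1 (.one ⟨251, 6, 11⟩) (.one ⟨12577, 3, 14⟩))) (.node 2 (.node 1 (.one ⟨8997, 3, 10⟩) (.one ⟨10441, 4, 14⟩)) (.node 1 (.one ⟨4052, 4, 10⟩) (.one ⟨4567, 6, 16⟩)))))))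
def par0_4_4 : Arr Par :=
  (.node 32 (.node 16 (.node 8 (.node 4 (.node 2 (.node 1 (.one ⟨12368, 1, 11⟩) (.one ⟨17129, 5, 15⟩)) (.node 1 (.one ⟨12371, 1, 16⟩) (.one ⟨12373, 1, 12⟩))) (.node 2 (.node 1 (.one ⟨12374, 1, 14⟩) (.one ⟨13292, 4, 15⟩)) (.node 1 (.one ⟨5443, 5, 14⟩) (.one ⟨11192, 2, 16⟩)))) (.node 4 (.node 2 (.node 1 (.one ⟨10409, 5, 11⟩) (.one ⟨7042, 3, 14⟩)) (.node 1 (.one ⟨12530, 3, 14⟩) (.one ⟨9880, 5, 15⟩))) (.node 2 (.node 1 (.one ⟨8949, 3, 13⟩) (.one ⟨4084, 4, 11⟩)) (.node 1 (.one ⟨16874, 3, 16⟩) (.one ⟨3253, 4, 15⟩))))) (.node 8 (.node 4 (.node 2 (.node 1 (.one ⟨16705, 5, 14⟩) (.one ⟨12352, 1, 11⟩)) (.node 1 (.one ⟨141, 6, 15⟩) (.one ⟨7357, 3, 15⟩))) (.node 2 (.node 1 (.one ⟨16345, 5, 14⟩) (.one ⟨12357, 1, 16⟩))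 (.node 1 (.one ⟨13169, 6, 14⟩) (.one ⟨10894, 5, 13⟩)))) (.node 4 (.node 2 (.node 1 (.one ⟨4379, 2, 14⟩) (.one ⟨4382, 2, 16⟩)) (.node 1 (.one ⟨2663, 4, 14⟩) (.one ⟨14907, 3, 13⟩))) (.node 2 (.node 1 (.one ⟨13740, 5, 14⟩) (.one ⟨17060, 3, 15⟩)) (.node 1 (.one ⟨4518, 3, 15⟩) (.one ⟨4652, 6, 14⟩)))))) (.node 16 (.node 8 (.node 4 (.node 2 (.node 1 (.one ⟨760, 6, 14⟩) (.one ⟨13257, 4, 16⟩)) (.node 1 (.one ⟨15102, 2, 14⟩) (.one ⟨16738, 3, 15⟩))) (.node 2 (.node 1 (.one ⟨2618, 3, 14⟩) (.one ⟨16900, 4, 15⟩)) (.node 1 (.one ⟨2341, 6, 13⟩) (.one ⟨4253, 4, 15⟩)))) (.node 4 (.node 2 (.node 1 (.one ⟨10510, 4, 13⟩) (.one ⟨16232, 2, 14⟩)) (.node 1 (.one ⟨6180, 2, 16⟩) (.one ⟨10886, 5, 14⟩))) (.node 2 (.node 1 (.one ⟨4113, 4, 13⟩) (.one ⟨3944, 4,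 12⟩)) (.node 1 (.one ⟨965, 6, 12⟩) (.one ⟨448, 3, 14⟩))))) (.node 8 (.node 4 (.node 2 (.node 1 (.one ⟨10069, 6, 16⟩) (.one ⟨3558, 3, 14⟩)) (.node 1 (.one ⟨16218, 4, 14⟩) (.one ⟨5281, 6, 11⟩))) (.node 2 (.node 1 (.one ⟨17109, 5, 14⟩) (.one ⟨8921, 5, 14⟩)) (.node 1 (.one ⟨12501, 1, 16⟩) (.one ⟨9665, 5, 15⟩)))) (.node 4 (.node 2 (.node 1 (.one ⟨12784, 3, 12⟩) (.one ⟨12467, 4, 14⟩)) (.node 1 (.one ⟨10255, 5, 13⟩) (.one ⟨9054, 5, 13⟩))) (.node 2 (.node 1 (.one ⟨13284, 6, 14⟩) (.one ⟨9046, 4, 16⟩)) (.node 1 (.one ⟨8895, 5, 11⟩) (.one ⟨695, 3, 15⟩)))))))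
def par0_4_5 : Arr Par :=
  (.node 32 (.node 16 (.node 8 (.node 4 (.node 2 (.node 1 (.one ⟨5183, 6, 10⟩) (.one ⟨14681, 2, 13⟩)) (.node 1 (.one ⟨16237, 4, 13⟩) (.one ⟨12512, 1, 12⟩))) (.node 2 (.node 1 (.one ⟨11052, 2, 13⟩) (.one ⟨10153, 6, 15⟩)) (.node 1 (.one ⟨9014, 5, 13⟩) (.one ⟨735, 3, 15⟩)))) (.node 4 (.node 2 (.node 1 (.one ⟨2181, 5, 11⟩) (.one ⟨12711, 3, 14⟩)) (.node 1 (.one ⟨16961, 5, 13⟩) (.one ⟨12520, 1, 12⟩))) (.node 2 (.node 1 (.one ⟨11630, 6, 16⟩) (.one ⟨5965, 5, 14⟩)) (.node 1 (.one ⟨3513, 3, 16⟩) (.one ⟨4615, 3, 13⟩))))) (.node 8 (.node 4 (.node 2 (.node 1 (.one ⟨2561, 2, 11⟩) (.one ⟨9743, 5, 14⟩)) (.node 1 (.one ⟨12793, 3, 15⟩) (.one ⟨10227, 5, 13⟩))) (.node 2 (.node 1 (.one ⟨5125, 2, 12⟩) (.one ⟨9469, 2, 10⟩)) (.node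 1 (.one ⟨2757, 3, 15⟩) (.one ⟨9685, 5, 14⟩)))) (.node 4 (.node 2 (.node 1 (.one ⟨10758, 6, 13⟩) (.one ⟨4401, 4, 15⟩)) (.node 1 (.one ⟨12472, 1, 15⟩) (.one ⟨12471, 1, 12⟩))) (.node 2 (.node 1 (.one ⟨11621, 6, 14⟩) (.one ⟨12885, 6, 16⟩)) (.node 1 (.one ⟨12599, 3, 14⟩) (.one ⟨5091, 5, 15⟩)))))) (.node 16 (.node 8 (.node 4 (.node 2 (.node 1 (.one ⟨5815, 5, 15⟩) (.one ⟨8937, 5, 10⟩)) (.node 1 (.one ⟨1605, 5, 11⟩) (.one ⟨10324, 4, 16⟩))) (.node 2 (.node 1 (.one ⟨3521, 6, 15⟩) (.one ⟨2211, 5, 9⟩)) (.node 1 (.one ⟨9016, 5, 11⟩) (.one ⟨10239, 5, 12⟩)))) (.node 4 (.node 2 (.node 1 (.one ⟨1684, 3, 16⟩) (.one ⟨1664, 5, 13⟩)) (.node 1 (.one ⟨10842, 3, 15⟩) (.one ⟨12865, 6, 12⟩))) (.node 2 (.node 1 (.one ⟨1991, 6, 15⟩) (.one ⟨12668, 3, 13⟩))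 (.node 1 (.one ⟨4420, 4, 14⟩) (.one ⟨8118, 4, 14⟩))))) (.node 8 (.node 4 (.node 2 (.node 1 (.one ⟨15625, 5, 13⟩) (.one ⟨16431, 6, 14⟩)) (.node 1 (.one ⟨226, 6, 16⟩) (.one ⟨6843, 6, 12⟩))) (.node 2 (.node 1 (.one ⟨11698, 6, 15⟩) (.one ⟨12570, 1, 13⟩)) (.node 1 (.one ⟨11901, 5, 14⟩) (.one ⟨12661, 2, 14⟩)))) (.node 4 (.node 2 (.node 1 (.one ⟨12775, 0, 16⟩) (.one ⟨10192, 5, 14⟩)) (.node 1 (.one ⟨7895, 3, 17⟩) (.one ⟨14007, 0, 14⟩))) (.node 2 (.node 1 (.one ⟨17077, 5, 13⟩) (.one ⟨7034, 5, 15⟩)) (.node 1 (.one ⟨15615, 5, 14⟩) (.one ⟨16476, 6, 13⟩)))))))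
def par0_4_6 : Arr Par :=
  (.node 32 (.node 16 (.node 8 (.node 4 (.node 2 (.node 1 (.one ⟨8686, 5, 13⟩) (.one ⟨10660, 5, 17⟩)) (.node 1 (.one ⟨6846, 6, 14⟩) (.one ⟨15636, 5, 14⟩))) (.node 2 (.node 1 (.one ⟨4200, 6, 10⟩) (.one ⟨17124, 5, 12⟩)) (.node 1 (.one ⟨3834, 5, 16⟩) (.one ⟨11562, 4, 13⟩)))) (.node 4 (.node 2 (.node 1 (.one ⟨15252, 4, 16⟩) (.one ⟨11755, 6, 13⟩)) (.node 1 (.one ⟨8209, 3, 11⟩) (.one ⟨16687, 5, 14⟩))) (.node 2 (.node 1 (.one ⟨7742, 2, 13⟩) (.one ⟨16273, 4, 14⟩)) (.node 1 (.one ⟨12578, 1, 17⟩) (.one ⟨8861, 6, 16⟩))))) (.node 8 (.node 4 (.node 2 (.node 1 (.one ⟨4167, 5, 14⟩) (.one ⟨16267, 4, 16⟩)) (.node 1 (.one ⟨15095, 5, 12⟩) (.one ⟨9056, 5, 11⟩))) (.node 2 (.node 1 (.one ⟨14175, 3, 16⟩) (.one ⟨8204, 3, 12⟩))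 (.node 1 (.one ⟨3678, 6, 17⟩) (.one ⟨12527, 1, 15⟩)))) (.node 4 (.node 2 (.node 1 (.one ⟨12532, 1, 14⟩) (.one ⟨8198, 3, 12⟩)) (.node 1 (.one ⟨9068, 5, 11⟩) (.one ⟨10544, 5, 15⟩))) (.node 2 (.node 1 (.one ⟨8669, 5, 14⟩) (.one ⟨12533, 1, 16⟩)) (.node 1 (.one ⟨7575, 5, 14⟩) (.one ⟨9019, 5, 9⟩)))))) (.node 16 (.node 8 (.node 4 (.node 2 (.node 1 (.one ⟨4238, 5, 11⟩) (.one ⟨7049, 5, 5⟩)) (.node 1 (.one ⟨12266, 6, 12⟩) (.one ⟨16873, 6, 15⟩))) (.node 2 (.node 1 (.one ⟨8624, 5, 12⟩) (.one ⟨7888, 3, 16⟩)) (.node 1 (.one ⟨7561, 5, 14⟩) (.one ⟨7641, 2, 16⟩)))) (.node 4 (.node 2 (.node 1 (.one ⟨12317, 5, 14⟩) (.one ⟨9012, 5, 14⟩)) (.node 1 (.one ⟨4269, 6, 16⟩) (.one ⟨16749, 5, 15⟩))) (.node 2 (.node 1 (.one ⟨10611, 5, 16⟩) (.one ⟨7554, 5, 15⟩))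 (.node 1 (.one ⟨2649, 3, 15⟩) (.one ⟨2994, 6, 9⟩))))) (.node 8 (.node 4 (.node 2 (.node 1 (.one ⟨969, 5, 10⟩) (.one ⟨7019, 5, 14⟩)) (.node 1 (.one ⟨4544, 1, 15⟩) (.one ⟨7, 3, 8⟩))) (.node 2 (.node 1 (.one ⟨3759, 6, 7⟩) (.one ⟨15764, 4, 14⟩)) (.node 1 (.one ⟨16273, 5, 14⟩) (.one ⟨1900, 2, 15⟩)))) (.node 4 (.node 2 (.node 1 (.one ⟨5350, 5, 16⟩) (.one ⟨8974, 5, 16⟩)) (.node 1 (.one ⟨2492, 3, 16⟩) (.one ⟨11465, 5, 10⟩))) (.node 2 (.node 1 (.one ⟨15316, 3, 12⟩) (.one ⟨6773, 6, 11⟩)) (.node 1 (.one ⟨563, 3, 12⟩) (.one ⟨15731, 4, 15⟩)))))))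
def par0_4_7 : Arr Par :=
  (.node 32 (.node 16 (.node 8 (.node 4 (.node 2 (.node 1 (.one ⟨7413, 2, 14⟩) (.one ⟨3871, 6, 8⟩)) (.node 1 (.one ⟨3102, 6, 10⟩) (.one ⟨8190, 5, 13⟩))) (.node 2 (.node 1 (.one ⟨7006, 5, 13⟩) (.one ⟨329, 3, 9⟩)) (.node 1 (.one ⟨463, 5, 11⟩) (.one ⟨10650, 3, 15⟩)))) (.node 4 (.node 2 (.node 1 (.one ⟨4535, 1, 16⟩) (.one ⟨16980, 3, 15⟩)) (.node 1 (.one ⟨8670, 6, 15⟩) (.one ⟨7282, 3, 13⟩))) (.node 2 (.node 1 (.one ⟨6744, 6, 12⟩) (.one ⟨3423, 5, 11⟩)) (.node 1 (.one ⟨724, 3, 13⟩) (.one ⟨14873, 6, 14⟩))))) (.node 8 (.node 4 (.node 2 (.node 1 (.one ⟨16794, 6, 16⟩) (.one ⟨12930, 5, 15⟩)) (.node 1 (.one ⟨436, 5, 14⟩) (.one ⟨659, 3, 13⟩))) (.node 2 (.node 1 (.one ⟨3855, 6, 13⟩) (.one ⟨7200, 5, 13⟩)) (.node 1 (.one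 ⟨16280, 5, 15⟩) (.one ⟨945, 5, 15⟩)))) (.node 4 (.node 2 (.node 1 (.one ⟨8966, 5, 15⟩) (.one ⟨14113, 4, 12⟩)) (.node 1 (.one ⟨12734, 4, 14⟩) (.one ⟨14835, 6, 11⟩))) (.node 2 (.node 1 (.one ⟨4585, 1, 16⟩) (.one ⟨4817, 6, 14⟩)) (.node 1 (.one ⟨2959, 4, 14⟩) (.one ⟨15153, 5, 14⟩)))))) (.node 16 (.node 8 (.node 4 (.node 2 (.node 1 (.one ⟨7963, 5, 16⟩) (.one ⟨3779, 6, 14⟩)) (.node 1 (.one ⟨12913, 5, 16⟩) (.one ⟨15498, 3, 15⟩))) (.node 2 (.node 1 (.one ⟨14770, 6, 15⟩) (.one ⟨886, 3, 14⟩)) (.node 1 (.one ⟨986, 5, 13⟩) (.one ⟨14142, 6, 15⟩)))) (.node 4 (.node 2 (.node 1 (.one ⟨2930, 4, 15⟩) (.one ⟨3934, 2, 15⟩)) (.node 1 (.one ⟨14098, 4, 13⟩) (.one ⟨12732, 4, 13⟩))) (.node 2 (.node 1 (.one ⟨14807, 6, 10⟩) (.one ⟨4846, 6, 15⟩)) (.node 1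 (.one ⟨17069, 5, 14⟩) (.one ⟨13365, 5, 12⟩))))) (.node 8 (.node 4 (.node 2 (.node 1 (.one ⟨4898, 5, 12⟩) (.one ⟨16247, 5, 15⟩)) (.node 1 (.one ⟨12536, 2, 16⟩) (.one ⟨4613, 1, 13⟩))) (.node 2 (.node 1 (.one ⟨15723, 4, 14⟩) (.one ⟨3808, 6, 11⟩)) (.node 1 (.one ⟨10667, 3, 12⟩) (.one ⟨6106, 6, 16⟩)))) (.node 4 (.node 2 (.node 1 (.one ⟨8996, 5, 15⟩) (.one ⟨14021, 4, 13⟩)) (.node 1 (.one ⟨15925, 5, 12⟩) (.one ⟨5302, 5, 15⟩))) (.node 2 (.node 1 (.one ⟨8741, 3, 15⟩) (.one ⟨11679, 5, 16⟩)) (.node 1 (.one ⟨15750, 4, 14⟩) (.one ⟨5413, 5, 13⟩)))))))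
def par0_4_8 : Arr Par :=
  (.node 32 (.node 16 (.node 8 (.node 4 (.node 2 (.node 1 (.one ⟨4882, 5, 13⟩) (.one ⟨4594, 1, 17⟩)) (.node 1 (.one ⟨8212, 5, 16⟩) (.one ⟨2508, 3, 11⟩))) (.node 2 (.node 1 (.one ⟨3828, 6, 10⟩) (.one ⟨12093, 2, 12⟩)) (.node 1 (.one ⟨15693, 4, 15⟩) (.one ⟨14005, 4, 12⟩)))) (.node 4 (.node 2 (.node 1 (.one ⟨7215, 3, 15⟩) (.one ⟨6629, 4, 15⟩)) (.node 1 (.one ⟨11043, 4, 16⟩) (.one ⟨16991, 3, 15⟩))) (.node 2 (.node 1 (.one ⟨15921, 5, 13⟩) (.one ⟨15780, 4, 15⟩)) (.node 1 (.one ⟨8721, 3, 14⟩) (.one ⟨12965, 6, 12⟩))))) (.node 8 (.node 4 (.node 2 (.node 1 (.one ⟨6784, 6, 14⟩) (.one ⟨12629, 4, 16⟩)) (.node 1 (.one ⟨5345, 5, 12⟩) (.one ⟨3843, 6, 10⟩))) (.node 2 (.node 1 (.one ⟨4645, 1, 13⟩) (.one ⟨16756, 6, 14⟩)) (.node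 1 (.one ⟨4640, 1, 12⟩) (.one ⟨14933, 3, 16⟩)))) (.node 4 (.node 2 (.node 1 (.one ⟨9005, 5, 14⟩) (.one ⟨15924, 5, 14⟩)) (.node 1 (.one ⟨3602, 5, 14⟩) (.one ⟨213, 4, 14⟩))) (.node 2 (.node 1 (.one ⟨6823, 6, 11⟩) (.one ⟨12487, 2, 15⟩)) (.node 1 (.one ⟨3789, 6, 14⟩) (.one ⟨13425, 5, 13⟩)))))) (.node 16 (.node 8 (.node 4 (.node 2 (.node 1 (.one ⟨9858, 2, 11⟩) (.one ⟨16772, 6, 13⟩)) (.node 1 (.one ⟨12644, 4, 15⟩) (.one ⟨12949, 6, 13⟩))) (.node 2 (.node 1 (.one ⟨3793, 6, 9⟩) (.one ⟨4038, 2, 12⟩)) (.node 1 (.one ⟨6761, 6, 15⟩) (.one ⟨17104, 2, 15⟩)))) (.node 4 (.node 2 (.node 1 (.one ⟨3626, 3, 15⟩) (.one ⟨17030, 5, 13⟩)) (.node 1 (.one ⟨13014, 2, 15⟩) (.one ⟨6723, 6, 10⟩))) (.node 2 (.node 1 (.one ⟨980, 4, 13⟩) (.one ⟨14743, 2, 15⟩)) (.node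 1 (.one ⟨3865, 6, 13⟩) (.one ⟨16631, 4, 16⟩))))) (.node 8 (.node 4 (.node 2 (.node 1 (.one ⟨3693, 6, 16⟩) (.one ⟨10156, 2, 15⟩)) (.node 1 (.one ⟨4657, 1, 16⟩) (.one ⟨4660, 1, 13⟩))) (.node 2 (.node 1 (.one ⟨2320, 2, 12⟩) (.one ⟨4662, 1, 16⟩)) (.node 1 (.one ⟨13990, 2, 15⟩) (.one ⟨3631, 6, 7⟩)))) (.node 4 (.node 2 (.node 1 (.one ⟨8506, 2, 15⟩) (.one ⟨12590, 5, 15⟩)) (.node 1 (.one ⟨3664, 6, 6⟩) (.one ⟨4467, 5, 13⟩))) (.node 2 (.node 1 (.one ⟨12540, 5, 14⟩) (.one ⟨4498, 5, 13⟩)) (.node 1 (.one ⟨12574, 5, 14⟩) (.one ⟨16223, 3, 14⟩)))))))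
def par0_4_9 : Arr Par :=
  (.node 32 (.node 16 (.node 8 (.node 4 (.node 2 (.node 1 (.one ⟨8695, 5, 16⟩) (.one ⟨16436, 4, 17⟩)) (.node 1 (.one ⟨8732, 5, 16⟩) (.one ⟨7715, 6, 16⟩))) (.node 2 (.node 1 (.one ⟨13044, 2, 17⟩) (.one ⟨8714, 5, 16⟩)) (.node 1 (.one ⟨8130, 3, 15⟩) (.one ⟨8162, 3, 14⟩)))) (.node 4 (.node 2 (.node 1 (.one ⟨4685, 1, 14⟩) (.one ⟨8169, 3, 5⟩)) (.node 1 (.one ⟨4683, 1, 15⟩) (.one ⟨17096, 2, 14⟩))) (.node 2 (.node 1 (.one ⟨16199, 3, 6⟩) (.one ⟨13193, 2, 13⟩)) (.node 1 (.one ⟨16192, 3, 15⟩) (.one ⟨15721, 6, 17⟩))))) (.node 8 (.node 4 (.node 2 (.node 1 (.one ⟨2783, 3, 12⟩) (.one ⟨7599, 6, 14⟩)) (.node 1 (.one ⟨14405, 5, 17⟩) (.one ⟨7638, 6, 13⟩))) (.node 2 (.node 1 (.one ⟨6375, 5, 16⟩) (.one ⟨15692, 6, 16⟩)) (.node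 1 (.one ⟨2773, 3, 13⟩) (.one ⟨4701, 1, 14⟩)))) (.node 4 (.node 2 (.node 1 (.one ⟨14440, 5, 16⟩) (.one ⟨7617, 6, 15⟩)) (.node 1 (.one ⟨5978, 4, 17⟩) (.one ⟨7648, 6, 16⟩))) (.node 2 (.node 1 (.one ⟨5997, 4, 16⟩) (.one ⟨4923, 2, 13⟩)) (.node 1 (.one ⟨10844, 3, 16⟩) (.one ⟨2779, 5, 15⟩)))))) (.node 16 (.node 8 (.node 4 (.node 2 (.node 1 (.one ⟨5437, 3, 15⟩) (.one ⟨2795, 5, 16⟩)) (.node 1 (.one ⟨13531, 3, 16⟩) (.one ⟨10800, 5, 16⟩))) (.node 2 (.node 1 (.one ⟨13705, 4, 16⟩) (.one ⟨10815, 5, 15⟩)) (.node 1 (.one ⟨13977, 2, 16⟩) (.one ⟨13514, 3, 15⟩)))) (.node 4 (.node 2 (.node 1 (.one ⟨8632, 2, 14⟩) (.one ⟨5660, 4, 14⟩)) (.node 1 (.one ⟨4712, 1, 15⟩) (.one ⟨2757, 5, 15⟩))) (.node 2 (.node 1 (.one ⟨10828, 5, 15⟩) (.one ⟨5462, 3, 15⟩)) (.node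 1 (.one ⟨10814, 5, 16⟩) (.one ⟨11730, 4, 14⟩))))) (.node 8 (.node 4 (.node 2 (.node 1 (.one ⟨5422, 0, 17⟩) (.one ⟨6126, 5, 16⟩)) (.node 1 (.one ⟨11698, 4, 15⟩) (.one ⟨7832, 0, 11⟩))) (.node 2 (.node 1 (.one ⟨1857, 6, 18⟩) (.one ⟨1893, 6, 18⟩)) (.node 1 (.one ⟨15265, 0, 10⟩) (.one ⟨9931, 6, 16⟩)))) (.node 4 (.node 2 (.node 1 (.one ⟨6765, 2, 14⟩) (.one ⟨4728, 1, 15⟩)) (.node 1 (.one ⟨9961, 6, 15⟩) (.one ⟨7468, 3, 15⟩))) (.node 2 (.node 1 (.one ⟨4733, 1, 16⟩) (.one ⟨2956, 2, 15⟩)) (.node 1 (.one ⟨1871, 6, 15⟩) (.one ⟨5593, 6, 15⟩)))))))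
def par0_4_10 : Arr Par :=
  (.node 32 (.node 16 (.node 8 (.node 4 (.node 2 (.node 1 (.one ⟨10995, 4, 16⟩) (.one ⟨11003, 4, 15⟩)) (.node 1 (.one ⟨11665, 5, 13⟩) (.one ⟨11030, 4, 17⟩))) (.node 2 (.node 1 (.one ⟨5560, 6, 16⟩) (.one ⟨11683, 5, 14⟩)) (.node 1 (.one ⟨11038, 4, 14⟩) (.one ⟨7127, 2, 16⟩)))) (.node 4 (.node 2 (.node 1 (.one ⟨14649, 2, 12⟩) (.one ⟨14785, 2, 15⟩)) (.node 1 (.one ⟨5613, 6, 15⟩) (.one ⟨4744, 1, 13⟩))) (.node 2 (.node 1 (.one ⟨3854, 2, 17⟩) (.one ⟨10766, 3, 16⟩)) (.node 1 (.one ⟨11688, 5, 16⟩) (.one ⟨13549, 2, 17⟩))))) (.node 8 (.node 4 (.node 2 (.node 1 (.one ⟨1717, 3, 15⟩) (.one ⟨16609, 4, 16⟩)) (.node 1 (.one ⟨1733, 3, 14⟩) (.one ⟨12278, 0, 17⟩))) (.node 2 (.node 1 (.one ⟨11112, 0, 13⟩) (.one ⟨1922, 2, 17⟩))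 (.node 1 (.one ⟨4221, 0, 12⟩) (.one ⟨8964, 5, 14⟩)))) (.node 4 (.node 2 (.node 1 (.one ⟨5027, 0, 17⟩) (.one ⟨17068, 5, 15⟩)) (.node 1 (.one ⟨1858, 0, 16⟩) (.one ⟨8517, 4, 15⟩))) (.node 2 (.node 1 (.one ⟨5625, 6, 16⟩) (.one ⟨8502, 4, 16⟩)) (.node 1 (.one ⟨5658, 6, 16⟩) (.one ⟨1917, 6, 15⟩)))))) (.node 16 (.node 8 (.node 4 (.node 2 (.node 1 (.one ⟨11491, 5, 15⟩) (.one ⟨14051, 4, 15⟩)) (.node 1 (.one ⟨15061, 3, 16⟩) (.one ⟨11445, 5, 15⟩))) (.node 2 (.node 1 (.one ⟨13332, 2, 16⟩) (.one ⟨1944, 6, 16⟩)) (.node 1 (.one ⟨3404, 5, 14⟩) (.one ⟨1951, 6, 15⟩)))) (.node 4 (.node 2 (.node 1 (.one ⟨4782, 1, 14⟩) (.one ⟨3396, 5, 15⟩)) (.node 1 (.one ⟨11480, 5, 16⟩) (.one ⟨11500, 5, 14⟩))) (.node 2 (.node 1 (.one ⟨3375, 5, 15⟩) (.one ⟨1924, 6, 16⟩))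 (.node 1 (.one ⟨15275, 2, 13⟩) (.one ⟨3810, 4, 14⟩))))) (.node 8 (.node 4 (.node 2 (.node 1 (.one ⟨7872, 3, 7⟩) (.one ⟨4915, 4, 10⟩)) (.node 1 (.one ⟨6904, 5, 14⟩) (.one ⟨5902, 6, 12⟩))) (.node 2 (.node 1 (.one ⟨7983, 6, 11⟩) (.one ⟨228, 5, 13⟩)) (.node 1 (.one ⟨4897, 5, 15⟩) (.one ⟨410, 5, 15⟩)))) (.node 4 (.node 2 (.node 1 (.one ⟨4225, 2, 14⟩) (.one ⟨8040, 6, 12⟩)) (.node 1 (.one ⟨12982, 4, 16⟩) (.one ⟨9725, 2, 17⟩))) (.node 2 (.node 1 (.one ⟨6785, 5, 11⟩) (.one ⟨13097, 5, 14⟩)) (.node 1 (.one ⟨6909, 5, 17⟩) (.one ⟨6759, 5, 12⟩)))))))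
def par0_4_11 : Arr Par :=
  (.node 32 (.node 16 (.node 8 (.node 4 (.node 2 (.node 1 (.one ⟨4792, 1, 15⟩) (.one ⟨11378, 6, 17⟩)) (.node 1 (.one ⟨13012, 4, 15⟩) (.one ⟨13066, 5, 15⟩))) (.node 2 (.node 1 (.one ⟨8020, 6, 13⟩) (.one ⟨12943, 5, 16⟩)) (.node 1 (.one ⟨733, 5, 16⟩) (.one ⟨962, 5, 14⟩)))) (.node 4 (.node 2 (.node 1 (.one ⟨7874, 3, 6⟩) (.one ⟨8012, 6, 12⟩)) (.node 1 (.one ⟨4948, 4, 11⟩) (.one ⟨11934, 2, 15⟩))) (.node 2 (.node 1 (.one ⟨3826, 4, 13⟩) (.one ⟨5849, 6, 11⟩)) (.node 1 (.one ⟨6908, 5, 13⟩) (.one ⟨5031, 5, 12⟩))))) (.node 8 (.node 4 (.node 2 (.node 1 (.one ⟨10063, 5, 15⟩) (.one ⟨1036, 4, 13⟩)) (.node 1 (.one ⟨6680, 4, 16⟩) (.one ⟨16800, 4, 17⟩))) (.node 2 (.node 1 (.one ⟨14874, 5, 16⟩) (.one ⟨3345, 6, 17⟩)) (.node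 1 (.one ⟨16126, 5, 13⟩) (.one ⟨4833, 1, 11⟩)))) (.node 4 (.node 2 (.node 1 (.one ⟨15730, 5, 17⟩) (.one ⟨5493, 6, 15⟩)) (.node 1 (.one ⟨4888, 5, 17⟩) (.one ⟨14849, 5, 15⟩))) (.node 2 (.node 1 (.one ⟨10770, 3, 14⟩) (.one ⟨5293, 6, 13⟩)) (.node 1 (.one ⟨6906, 5, 14⟩) (.one ⟨2672, 3, 13⟩)))))) (.node 16 (.node 8 (.node 4 (.node 2 (.node 1 (.one ⟨10563, 2, 14⟩) (.one ⟨1135, 2, 10⟩)) (.node 1 (.one ⟨6910, 5, 13⟩) (.one ⟨13335, 6, 12⟩))) (.node 2 (.node 1 (.one ⟨14970, 2, 17⟩) (.one ⟨11442, 6, 16⟩)) (.node 1 (.one ⟨14825, 5, 16⟩) (.one ⟨5006, 5, 13⟩)))) (.node 4 (.node 2 (.node 1 (.one ⟨16785, 4, 16⟩) (.one ⟨11464, 6, 16⟩)) (.node 1 (.one ⟨4938, 4, 14⟩) (.one ⟨14767, 5, 15⟩))) (.node 2 (.node 1 (.one ⟨10110, 5, 14⟩) (.one ⟨11424, 6, 16⟩))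 (.node 1 (.one ⟨476, 4, 14⟩) (.one ⟨5447, 3, 16⟩))))) (.node 8 (.node 4 (.node 2 (.node 1 (.one ⟨12035, 5, 14⟩) (.one ⟨3699, 6, 10⟩)) (.node 1 (.one ⟨10760, 3, 9⟩) (.one ⟨121, 5, 9⟩))) (.node 2 (.node 1 (.one ⟨14409, 3, 9⟩) (.one ⟨1723, 5, 15⟩)) (.node 1 (.one ⟨4864, 1, 15⟩) (.one ⟨1789, 4, 15⟩)))) (.node 4 (.node 2 (.node 1 (.one ⟨12063, 5, 11⟩) (.one ⟨3723, 6, 13⟩)) (.node 1 (.one ⟨2695, 3, 14⟩) (.one ⟨14123, 3, 13⟩))) (.node 2 (.node 1 (.one ⟨14419, 3, 15⟩) (.one ⟨1962, 4, 17⟩)) (.node 1 (.one ⟨17154, 6, 17⟩) (.one ⟨6372, 3, 10⟩)))))))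
def par0_4_12 : Arr Par :=
  (.node 32 (.node 16 (.node 8 (.node 4 (.node 2 (.node 1 (.one ⟨12330, 2, 14⟩) (.one ⟨3732, 6, 11⟩)) (.node 1 (.one ⟨13546, 3, 15⟩) (.one ⟨624, 5, 10⟩))) (.node 2 (.node 1 (.one ⟨1741, 5, 14⟩) (.one ⟨2730, 3, 10⟩)) (.node 1 (.one ⟨3961, 5, 13⟩) (.one ⟨6332, 3, 14⟩)))) (.node 4 (.node 2 (.node 1 (.one ⟨4704, 5, 16⟩) (.one ⟨3755, 6, 14⟩)) (.node 1 (.one ⟨1798, 4, 14⟩) (.one ⟨14107, 3, 12⟩))) (.node 2 (.node 1 (.one ⟨1932, 4, 16⟩) (.one ⟨10794, 3, 15⟩)) (.node 1 (.one ⟨3995, 5, 12⟩) (.one ⟨6784, 4, 14⟩))))) (.node 8 (.node 4 (.node 2 (.node 1 (.one ⟨1951, 4, 15⟩) (.one ⟨12162, 5, 12⟩)) (.node 1 (.one ⟨6024, 3, 12⟩) (.one ⟨4896, 1, 14⟩))) (.node 2 (.node 1 (.one ⟨10135, 4, 15⟩) (.one ⟨783, 2, 16⟩)) (.node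 1 (.one ⟨13503, 3, 16⟩) (.one ⟨6754, 4, 12⟩)))) (.node 4 (.node 2 (.node 1 (.one ⟨9990, 4, 16⟩) (.one ⟨286, 6, 15⟩)) (.node 1 (.one ⟨11215, 6, 13⟩) (.one ⟨5393, 6, 12⟩))) (.node 2 (.node 1 (.one ⟨4907, 1, 15⟩) (.one ⟨4903, 1, 15⟩)) (.node 1 (.one ⟨5446, 3, 13⟩) (.one ⟨9051, 2, 15⟩)))))) (.node 16 (.node 8 (.node 4 (.node 2 (.node 1 (.one ⟨9054, 2, 13⟩) (.one ⟨8964, 3, 14⟩)) (.node 1 (.one ⟨6009, 3, 11⟩) (.one ⟨620, 3, 14⟩))) (.node 2 (.node 1 (.one ⟨5474, 3, 15⟩) (.one ⟨4086, 5, 13⟩)) (.node 1 (.one ⟨6761, 4, 15⟩) (.one ⟨7198, 2, 14⟩)))) (.node 4 (.node 2 (.node 1 (.one ⟨13376, 6, 11⟩) (.one ⟨10015, 4, 17⟩)) (.node 1 (.one ⟨3175, 6, 14⟩) (.one ⟨13687, 2, 14⟩))) (.node 2 (.node 1 (.one ⟨13540, 3, 12⟩) (.one ⟨11233, 2, 14⟩)) (.node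 1 (.one ⟨6792, 4, 13⟩) (.one ⟨12744, 4, 15⟩))))) (.node 8 (.node 4 (.node 2 (.node 1 (.one ⟨6578, 5, 12⟩) (.one ⟨5170, 6, 14⟩)) (.node 1 (.one ⟨475, 5, 11⟩) (.one ⟨12135, 5, 9⟩))) (.node 2 (.node 1 (.one ⟨1819, 2, 13⟩) (.one ⟨11374, 3, 11⟩)) (.node 1 (.one ⟨3310, 5, 16⟩) (.one ⟨1814, 4, 17⟩)))) (.node 4 (.node 2 (.node 1 (.one ⟨4042, 5, 13⟩) (.one ⟨704, 5, 15⟩)) (.node 1 (.one ⟨3961, 3, 13⟩) (.one ⟨11422, 3, 12⟩))) (.node 2 (.node 1 (.one ⟨5947, 4, 15⟩) (.one ⟨16794, 4, 16⟩)) (.node 1 (.one ⟨6598, 5, 15⟩) (.one ⟨12063, 3, 11⟩)))))))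
def par0_4_13 : Arr Par :=
  (.node 32 (.node 16 (.node 8 (.node 4 (.node 2 (.node 1 (.one ⟨12497, 2, 14⟩) (.one ⟨3326, 3, 15⟩)) (.node 1 (.one ⟨14782, 3, 14⟩) (.one ⟨16154, 6, 15⟩))) (.node 2 (.node 1 (.one ⟨5741, 3, 14⟩) (.one ⟨1066, 5, 14⟩)) (.node 1 (.one ⟨16505, 3, 14⟩) (.one ⟨14675, 5, 14⟩)))) (.node 4 (.node 2 (.node 1 (.one ⟨16127, 6, 17⟩) (.one ⟨13880, 6, 16⟩)) (.node 1 (.one ⟨4027, 5, 13⟩) (.one ⟨4942, 2, 16⟩))) (.node 2 (.node 1 (.one ⟨4941, 2, 11⟩) (.one ⟨3271, 3, 10⟩)) (.node 1 (.one ⟨7663, 3, 15⟩) (.one ⟨11358, 5, 15⟩))))) (.node 8 (.node 4 (.node 2 (.node 1 (.one ⟨4916, 1, 14⟩) (.one ⟨12750, 4, 16⟩)) (.node 1 (.one ⟨13250, 6, 13⟩) (.one ⟨3290, 3, 12⟩))) (.node 2 (.node 1 (.one ⟨4061, 5, 10⟩) (.one ⟨6608, 5, 13⟩))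 (.node 1 (.one ⟨778, 5, 12⟩) (.one ⟨6628, 5, 14⟩)))) (.node 4 (.node 2 (.node 1 (.one ⟨5965, 4, 14⟩) (.one ⟨12093, 5, 12⟩)) (.node 1 (.one ⟨12035, 3, 14⟩) (.one ⟨126, 4, 16⟩))) (.node 2 (.node 1 (.one ⟨1836, 4, 16⟩) (.one ⟨3368, 3, 13⟩)) (.node 1 (.one ⟨16809, 4, 17⟩) (.one ⟨5760, 3, 15⟩)))))) (.node 16 (.node 8 (.node 4 (.node 2 (.node 1 (.one ⟨11400, 3, 16⟩) (.one ⟨3995, 3, 12⟩)) (.node 1 (.one ⟨16540, 3, 15⟩) (.one ⟨14870, 3, 13⟩))) (.node 2 (.node 1 (.one ⟨16173, 6, 16⟩) (.one ⟨199, 5, 13⟩)) (.node 1 (.one ⟨4928, 1, 15⟩) (.one ⟨416, 2, 13⟩)))) (.node 4 (.node 2 (.node 1 (.one ⟨3473, 6, 16⟩) (.one ⟨12748, 4, 15⟩)) (.node 1 (.one ⟨4940, 1, 12⟩) (.one ⟨6028, 4, 16⟩))) (.node 2 (.node 1 (.one ⟨11323, 3, 11⟩) (.one ⟨1050, 2, 14⟩))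 (.node 1 (.one ⟨7663, 5, 15⟩) (.one ⟨4514, 5, 13⟩))))) (.node 8 (.node 4 (.node 2 (.node 1 (.one ⟨452, 5, 11⟩) (.one ⟨6771, 4, 11⟩)) (.node 1 (.one ⟨3036, 3, 13⟩) (.one ⟨17031, 5, 6⟩))) (.node 2 (.node 1 (.one ⟨1153, 4, 14⟩) (.one ⟨3191, 6, 16⟩)) (.node 1 (.one ⟨1970, 5, 10⟩) (.one ⟨14767, 4, 15⟩)))) (.node 4 (.node 2 (.node 1 (.one ⟨1981, 5, 14⟩) (.one ⟨14862, 5, 16⟩)) (.node 1 (.one ⟨14794, 4, 14⟩) (.one ⟨4490, 5, 12⟩))) (.node 2 (.node 1 (.one ⟨13740, 3, 14⟩) (.one ⟨14975, 5, 15⟩)) (.node 1 (.one ⟨15698, 2, 15⟩) (.one ⟨14810, 4, 13⟩)))))))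
def par0_4_14 : Arr Par :=
  (.node 32 (.node 16 (.node 8 (.node 4 (.node 2 (.node 1 (.one ⟨11840, 4, 13⟩) (.one ⟨902, 4, 14⟩)) (.node 1 (.one ⟨8555, 4, 14⟩) (.one ⟨8946, 5, 14⟩))) (.node 2 (.node 1 (.one ⟨11210, 2, 15⟩) (.one ⟨10045, 5, 12⟩)) (.node 1 (.one ⟨5026, 1, 16⟩) (.one ⟨12534, 5, 12⟩)))) (.node 4 (.node 2 (.node 1 (.one ⟨6819, 4, 14⟩) (.one ⟨16608, 4, 14⟩)) (.node 1 (.one ⟨3955, 5, 16⟩) (.one ⟨478, 5, 13⟩))) (.node 2 (.node 1 (.one ⟨11070, 3, 15⟩) (.one ⟨10001, 3, 16⟩)) (.node 1 (.one ⟨7177, 6, 12⟩) (.one ⟨11277, 6, 17⟩))))) (.node 8 (.node 4 (.node 2 (.node 1 (.one ⟨1051, 5, 12⟩) (.one ⟨8994, 5, 5⟩)) (.node 1 (.one ⟨3057, 3, 12⟩) (.one ⟨6746, 4, 12⟩))) (.node 2 (.node 1 (.one ⟨1951, 3, 15⟩) (.one ⟨12557, 5, 12⟩)) (.node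 1 (.one ⟨2076, 5, 11⟩) (.one ⟨12581, 5, 13⟩)))) (.node 4 (.node 2 (.node 1 (.one ⟨5336, 6, 16⟩) (.one ⟨2069, 5, 15⟩)) (.node 1 (.one ⟨4990, 1, 16⟩) (.one ⟨14886, 4, 13⟩))) (.node 2 (.node 1 (.one ⟨196, 5, 14⟩) (.one ⟨14979, 5, 14⟩)) (.node 1 (.one ⟨14874, 4, 16⟩) (.one ⟨4273, 2, 14⟩)))))) (.node 16 (.node 8 (.node 4 (.node 2 (.node 1 (.one ⟨17049, 5, 13⟩) (.one ⟨11920, 4, 14⟩)) (.node 1 (.one ⟨16650, 2, 15⟩) (.one ⟨4996, 1, 16⟩))) (.node 2 (.node 1 (.one ⟨4463, 5, 15⟩) (.one ⟨10133, 5, 11⟩)) (.node 1 (.one ⟨14838, 4, 14⟩) (.one ⟨15195, 6, 11⟩)))) (.node 4 (.node 2 (.node 1 (.one ⟨904, 5, 14⟩) (.one ⟨4505, 5, 13⟩)) (.node 1 (.one ⟨3243, 6, 16⟩) (.one ⟨9973, 3, 15⟩))) (.node 2 (.node 1 (.one ⟨11153, 3, 14⟩) (.one ⟨6729, 4, 13⟩)) (.node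 1 (.one ⟨16598, 4, 15⟩) (.one ⟨10080, 6, 13⟩))))) (.node 8 (.node 4 (.node 2 (.node 1 (.one ⟨4493, 6, 15⟩) (.one ⟨3497, 5, 13⟩)) (.node 1 (.one ⟨2255, 3, 15⟩) (.one ⟨10332, 0, 13⟩))) (.node 2 (.node 1 (.one ⟨3770, 3, 16⟩) (.one ⟨5838, 5, 15⟩)) (.node 1 (.one ⟨15177, 4, 15⟩) (.one ⟨15275, 4, 13⟩)))) (.node 4 (.node 2 (.node 1 (.one ⟨5498, 6, 11⟩) (.one ⟨12562, 6, 14⟩)) (.node 1 (.one ⟨6250, 4, 16⟩) (.one ⟨2056, 6, 12⟩))) (.node 2 (.node 1 (.one ⟨1749, 6, 16⟩) (.one ⟨10813, 6, 15⟩)) (.node 1 (.one ⟨2246, 3, 14⟩) (.one ⟨13963, 5, 12⟩)))))))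
def par0_4_15 : Arr Par :=
  (.node 32 (.node 16 (.node 8 (.node 4 (.node 2 (.node 1 (.one ⟨14513, 3, 15⟩) (.one ⟨16353, 4, 10⟩)) (.node 1 (.one ⟨8337, 2, 14⟩) (.one ⟨5446, 4, 13⟩))) (.node 2 (.node 1 (.one ⟨3656, 5, 13⟩) (.one ⟨12586, 6, 16⟩)) (.node 1 (.one ⟨7114, 4, 14⟩) (.one ⟨13111, 1, 12⟩)))) (.node 4 (.node 2 (.node 1 (.one ⟨16890, 5, 15⟩) (.one ⟨5484, 4, 16⟩)) (.node 1 (.one ⟨11551, 5, 13⟩) (.one ⟨4464, 6, 14⟩))) (.node 2 (.node 1 (.one ⟨2743, 6, 12⟩) (.one ⟨8479, 0, 15⟩)) (.node 1 (.one ⟨10303, 3, 15⟩) (.one ⟨4426, 4, 14⟩))))) (.node 8 (.node 4 (.node 2 (.node 1 (.one ⟨2048, 6, 10⟩) (.one ⟨11719, 5, 13⟩)) (.node 1 (.one ⟨15916, 5, 13⟩) (.one ⟨7131, 4, 15⟩))) (.node 2 (.node 1 (.one ⟨12552, 6, 16⟩) (.one ⟨1974, 2, 9⟩)) (.node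 1 (.one ⟨5544, 2, 13⟩) (.one ⟨8240, 4, 9⟩)))) (.node 4 (.node 2 (.node 1 (.one ⟨663, 0, 15⟩) (.one ⟨4449, 4, 11⟩)) (.node 1 (.one ⟨10518, 4, 15⟩) (.one ⟨13165, 1, 14⟩))) (.node 2 (.node 1 (.one ⟨3118, 6, 12⟩) (.one ⟨6772, 3, 16⟩)) (.node 1 (.one ⟨7166, 4, 12⟩) (.one ⟨15192, 4, 15⟩)))))) (.node 16 (.node 8 (.node 4 (.node 2 (.node 1 (.one ⟨2266, 3, 15⟩) (.one ⟨12507, 4, 11⟩)) (.node 1 (.one ⟨8268, 4, 12⟩) (.one ⟨2075, 6, 14⟩))) (.node 2 (.node 1 (.one ⟨13124, 3, 15⟩) (.one ⟨5457, 5, 15⟩)) (.node 1 (.one ⟨15973, 2, 15⟩) (.one ⟨10033, 6, 10⟩)))) (.node 4 (.node 2 (.node 1 (.one ⟨12530, 6, 14⟩) (.one ⟨15739, 2, 15⟩)) (.node 1 (.one ⟨7754, 5, 13⟩) (.one ⟨16328, 4, 12⟩))) (.node 2 (.node 1 (.one ⟨3643, 5, 12⟩) (.one ⟨13148, 1, 12⟩)) (.node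 1 (.one ⟨15225, 4, 13⟩) (.one ⟨5079, 6, 10⟩))))) (.node 8 (.node 4 (.node 2 (.node 1 (.one ⟨13195, 1, 15⟩) (.one ⟨4875, 2, 13⟩)) (.node 1 (.one ⟨5801, 3, 5⟩) (.one ⟨6773, 3, 11⟩))) (.node 2 (.node 1 (.one ⟨3816, 5, 12⟩) (.one ⟨4950, 3, 13⟩)) (.node 1 (.one ⟨9027, 3, 14⟩) (.one ⟨3681, 3, 17⟩)))) (.node 4 (.node 2 (.node 1 (.one ⟨15576, 4, 12⟩) (.one ⟨13524, 4, 15⟩)) (.node 1 (.one ⟨13186, 1, 15⟩) (.one ⟨11881, 5, 15⟩))) (.node 2 (.node 1 (.one ⟨10806, 2, 13⟩) (.one ⟨5232, 4, 15⟩)) (.node 1 (.one ⟨17170, 4, 16⟩) (.one ⟨3850, 5, 14⟩)))))))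
def par0_4 : Arr Par :=
  (.node 512 (.node 256 (.node 128 (.node 64 par0_4_0 par0_4_1) (.node 64 par0_4_2 par0_4_3)) (.node 128 (.node 64 par0_4_4 par0_4_5) (.node 64 par0_4_6 par0_4_7))) (.node 256 (.node 128 (.node 64 par0_4_8 par0_4_9) (.node 64 par0_4_10 par0_4_11)) (.node 128 (.node 64 par0_4_12 par0_4_13) (.node 64 par0_4_14 par0_4_15))))
def par0_5_0 : Arr Par :=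
  (.node 32 (.node 16 (.node 8 (.node 4 (.node 2 (.node 1 (.one ⟨13302, 4, 15⟩) (.one ⟨13178, 1, 12⟩)) (.node 1 (.one ⟨16828, 4, 15⟩) (.one ⟨11394, 4, 16⟩))) (.node 2 (.node 1 (.one ⟨13182, 1, 14⟩) (.one ⟨14835, 3, 11⟩)) (.node 1 (.one ⟨9098, 4, 15⟩) (.one ⟨6723, 3, 10⟩)))) (.node 4 (.node 2 (.node 1 (.one ⟨12671, 5, 15⟩) (.one ⟨15021, 6, 14⟩)) (.node 1 (.one ⟨11721, 5, 12⟩) (.one ⟨5077, 6, 10⟩))) (.node 2 (.node 1 (.one ⟨14078, 2, 13⟩) (.one ⟨13238, 4, 15⟩)) (.node 1 (.one ⟨12743, 2, 12⟩) (.one ⟨8675, 2, 13⟩))))) (.node 8 (.node 4 (.node 2 (.node 1 (.one ⟨12274, 6, 16⟩) (.one ⟨5594, 6, 15⟩)) (.node 1 (.one ⟨12644, 5, 15⟩) (.one ⟨5471, 4, 16⟩))) (.node 2 (.node 1 (.one ⟨8667, 5, 12⟩) (.one ⟨7662, 5, 12⟩)) (.node 1 (.one ⟨15537,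 4, 12⟩) (.one ⟨13768, 3, 17⟩)))) (.node 4 (.node 2 (.node 1 (.one ⟨9110, 4, 15⟩) (.one ⟨14804, 3, 13⟩)) (.node 1 (.one ⟨16311, 3, 13⟩) (.one ⟨7769, 5, 15⟩))) (.node 2 (.node 1 (.one ⟨4933, 3, 15⟩) (.one ⟨3767, 5, 15⟩)) (.node 1 (.one ⟨3640, 3, 16⟩) (.one ⟨11739, 5, 18⟩)))))) (.node 16 (.node 8 (.node 4 (.node 2 (.node 1 (.one ⟨11930, 5, 15⟩) (.one ⟨2468, 3, 15⟩)) (.node 1 (.one ⟨13344, 4, 15⟩) (.one ⟨13208, 1, 14⟩))) (.node 2 (.node 1 (.one ⟨4534, 5, 15⟩) (.one ⟨5057, 6, 11⟩)) (.node 1 (.one ⟨13197, 0, 15⟩) (.one ⟨15722, 5, 14⟩)))) (.node 4 (.node 2 (.node 1 (.one ⟨308, 2, 13⟩) (.one ⟨1045, 2, 16⟩)) (.node 1 (.one ⟨10482, 3, 14⟩) (.one ⟨11721, 3, 12⟩))) (.node 2 (.node 1 (.one ⟨16725, 5, 14⟩) (.one ⟨260, 2, 12⟩)) (.node 1 (.one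 ⟨865, 2, 16⟩) (.one ⟨5474, 5, 15⟩))))) (.node 8 (.node 4 (.node 2 (.node 1 (.one ⟨15322, 5, 13⟩) (.one ⟨2297, 4, 12⟩)) (.node 1 (.one ⟨13250, 1, 13⟩) (.one ⟨1594, 6, 13⟩))) (.node 2 (.node 1 (.one ⟨9977, 6, 15⟩) (.one ⟨14536, 4, 15⟩)) (.node 1 (.one ⟨4948, 6, 11⟩) (.one ⟨5121, 0, 13⟩)))) (.node 4 (.node 2 (.node 1 (.one ⟨10024, 3, 16⟩) (.one ⟨7837, 0, 15⟩)) (.node 1 (.one ⟨11962, 4, 15⟩) (.one ⟨12286, 5, 15⟩))) (.node 2 (.node 1 (.one ⟨13964, 3, 11⟩) (.one ⟨13255, 1, 14⟩)) (.node 1 (.one ⟨14850, 0, 9⟩) (.one ⟨10871, 5, 9⟩)))))))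
def par0_5_1 : Arr Par :=
  (.node 32 (.node 16 (.node 8 (.node 4 (.node 2 (.node 1 (.one ⟨12616, 6, 14⟩) (.one ⟨5433, 5, 15⟩)) (.node 1 (.one ⟨12303, 5, 13⟩) (.one ⟨14345, 4, 15⟩))) (.node 2 (.node 1 (.one ⟨4986, 6, 15⟩) (.one ⟨12038, 3, 14⟩)) (.node 1 (.one ⟨8040, 5, 12⟩) (.one ⟨5587, 6, 14⟩)))) (.node 4 (.node 2 (.node 1 (.one ⟨3646, 3, 14⟩) (.one ⟨9085, 3, 14⟩)) (.node 1 (.one ⟨5641, 6, 14⟩) (.one ⟨4289, 4, 13⟩))) (.node 2 (.node 1 (.one ⟨16510, 6, 15⟩) (.one ⟨8668, 5, 16⟩)) (.node 1 (.one ⟨16613, 5, 15⟩) (.one ⟨13286, 1, 16⟩))))) (.node 8 (.node 4 (.node 2 (.node 1 (.one ⟨11399, 3, 14⟩) (.one ⟨8601, 5, 14⟩)) (.node 1 (.one ⟨5857, 3, 14⟩) (.one ⟨10374, 4, 14⟩))) (.node 2 (.node 1 (.one ⟨6661, 3, 16⟩) (.one ⟨15843, 3, 12⟩)) (.node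 1 (.one ⟨10333, 3, 16⟩) (.one ⟨1909, 3, 15⟩)))) (.node 4 (.node 2 (.node 1 (.one ⟨5833, 3, 13⟩) (.one ⟨3907, 4, 13⟩)) (.node 1 (.one ⟨17188, 3, 15⟩) (.one ⟨7167, 4, 14⟩))) (.node 2 (.node 1 (.one ⟨7303, 4, 15⟩) (.one ⟨3125, 2, 15⟩)) (.node 1 (.one ⟨6602, 2, 14⟩) (.one ⟨104, 6, 14⟩)))))) (.node 16 (.node 8 (.node 4 (.node 2 (.node 1 (.one ⟨2341, 4, 13⟩) (.one ⟨5141, 4, 13⟩)) (.node 1 (.one ⟨16897, 4, 14⟩) (.one ⟨13263, 1, 13⟩))) (.node 2 (.node 1 (.one ⟨14574, 4, 13⟩) (.one ⟨9934, 6, 16⟩)) (.node 1 (.one ⟨5370, 4, 15⟩) (.one ⟨12463, 5, 16⟩)))) (.node 4 (.node 2 (.node 1 (.one ⟨12295, 5, 11⟩) (.one ⟨9854, 5, 14⟩)) (.node 1 (.one ⟨12035, 4, 14⟩) (.one ⟨4321, 4, 15⟩))) (.node 2 (.node 1 (.one ⟨12002, 4, 13⟩) (.one ⟨15575, 3, 15⟩)) (.node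 1 (.one ⟨16698, 5, 15⟩) (.one ⟨10921, 5, 11⟩))))) (.node 8 (.node 4 (.node 2 (.node 1 (.one ⟨8555, 5, 14⟩) (.one ⟨10365, 4, 14⟩)) (.node 1 (.one ⟨455, 2, 13⟩) (.one ⟨7271, 5, 15⟩))) (.node 2 (.node 1 (.one ⟨13540, 5, 12⟩) (.one ⟨9734, 5, 15⟩)) (.node 1 (.one ⟨7993, 5, 12⟩) (.one ⟨12073, 4, 17⟩)))) (.node 4 (.node 2 (.node 1 (.one ⟨3898, 4, 11⟩) (.one ⟨13323, 1, 15⟩)) (.node 1 (.one ⟨15564, 3, 13⟩) (.one ⟨5853, 3, 11⟩))) (.node 2 (.node 1 (.one ⟨12390, 4, 16⟩) (.one ⟨4237, 5, 11⟩)) (.node 1 (.one ⟨15319, 4, 15⟩) (.one ⟨14361, 4, 13⟩)))))))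
def par0_5_2 : Arr Par :=
  (.node 32 (.node 16 (.node 8 (.node 4 (.node 2 (.node 1 (.one ⟨8784, 4, 14⟩) (.one ⟨5250, 2, 16⟩)) (.node 1 (.one ⟨5908, 3, 15⟩) (.one ⟨2327, 4, 14⟩))) (.node 2 (.node 1 (.one ⟨16618, 5, 15⟩) (.one ⟨3258, 3, 16⟩)) (.node 1 (.one ⟨10318, 3, 16⟩) (.one ⟨11993, 4, 14⟩)))) (.node 4 (.node 2 (.node 1 (.one ⟨7768, 3, 14⟩) (.one ⟨147, 6, 12⟩)) (.node 1 (.one ⟨13304, 1, 11⟩) (.one ⟨5628, 6, 13⟩))) (.node 2 (.node 1 (.one ⟨7551, 4, 16⟩) (.one ⟨15585, 3, 15⟩)) (.node 1 (.one ⟨13310, 1, 16⟩) (.one ⟨12054, 3, 15⟩))))) (.node 8 (.node 4 (.node 2 (.node 1 (.one ⟨17084, 4, 14⟩) (.one ⟨8477, 2, 15⟩)) (.node 1 (.one ⟨7792, 3, 15⟩) (.one ⟨15288, 5, 15⟩))) (.node 2 (.node 1 (.one ⟨14396, 2, 11⟩) (.one ⟨6500, 4, 13⟩)) (.node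 1 (.one ⟨13293, 3, 15⟩) (.one ⟨13975, 3, 14⟩)))) (.node 4 (.node 2 (.node 1 (.one ⟨13354, 1, 15⟩) (.one ⟨8594, 5, 15⟩)) (.node 1 (.one ⟨15404, 4, 16⟩) (.one ⟨8579, 2, 15⟩))) (.node 2 (.node 1 (.one ⟨11968, 4, 15⟩) (.one ⟨3365, 3, 14⟩)) (.node 1 (.one ⟨12318, 5, 15⟩) (.one ⟨7762, 3, 14⟩)))))) (.node 16 (.node 8 (.node 4 (.node 2 (.node 1 (.one ⟨12272, 5, 11⟩) (.one ⟨2858, 5, 10⟩)) (.node 1 (.one ⟨14333, 4, 14⟩) (.one ⟨6319, 0, 15⟩))) (.node 2 (.node 1 (.one ⟨13489, 5, 16⟩) (.one ⟨12699, 6, 16⟩)) (.node 1 (.one ⟨10400, 4, 15⟩) (.one ⟨13270, 3, 15⟩)))) (.node 4 (.node 2 (.node 1 (.one ⟨13881, 3, 11⟩) (.one ⟨1913, 3, 14⟩)) (.node 1 (.one ⟨16514, 0, 16⟩) (.one ⟨9930, 0, 15⟩))) (.node 2 (.node 1 (.one ⟨13341, 1, 15⟩) (.one ⟨13335, 1,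 12⟩)) (.node 1 (.one ⟨4220, 5, 12⟩) (.one ⟨12783, 6, 13⟩))))) (.node 8 (.node 4 (.node 2 (.node 1 (.one ⟨1819, 5, 13⟩) (.one ⟨3209, 6, 14⟩)) (.node 1 (.one ⟨12089, 4, 16⟩) (.one ⟨14393, 3, 15⟩))) (.node 2 (.node 1 (.one ⟨9990, 5, 16⟩) (.one ⟨3944, 5, 12⟩)) (.node 1 (.one ⟨12065, 6, 14⟩) (.one ⟨11323, 4, 11⟩)))) (.node 4 (.node 2 (.node 1 (.one ⟨8787, 4, 14⟩) (.one ⟨12162, 2, 12⟩)) (.node 1 (.one ⟨5542, 3, 11⟩) (.one ⟨2755, 2, 16⟩))) (.node 2 (.node 1 (.one ⟨4538, 2, 17⟩) (.one ⟨15592, 6, 12⟩)) (.node 1 (.one ⟨11910, 2, 11⟩) (.one ⟨5432, 5, 11⟩)))))))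
def par0_5_3 : Arr Par :=
  (.node 32 (.node 16 (.node 8 (.node 4 (.node 2 (.node 1 (.one ⟨647, 3, 13⟩) (.one ⟨15723, 2, 14⟩)) (.node 1 (.one ⟨5078, 5, 14⟩) (.one ⟨1907, 5, 16⟩))) (.node 2 (.node 1 (.one ⟨11250, 6, 14⟩) (.one ⟨776, 6, 15⟩)) (.node 1 (.one ⟨11225, 6, 12⟩) (.one ⟨11422, 4, 12⟩)))) (.node 4 (.node 2 (.node 1 (.one ⟨4846, 3, 15⟩) (.one ⟨8270, 6, 14⟩)) (.node 1 (.one ⟨12813, 6, 15⟩) (.one ⟨16409, 6, 14⟩))) (.node 2 (.node 1 (.one ⟨13466, 1, 16⟩) (.one ⟨569, 6, 15⟩)) (.node 1 (.one ⟨13455, 0, 16⟩) (.one ⟨10665, 3, 13⟩))))) (.node 8 (.node 4 (.node 2 (.node 1 (.one ⟨3176, 6, 9⟩) (.one ⟨11024, 5, 15⟩)) (.node 1 (.one ⟨2562, 2, 12⟩) (.one ⟨4461, 5, 14⟩))) (.node 2 (.node 1 (.one ⟨1917, 5, 15⟩) (.one ⟨10592, 4, 16⟩)) (.node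 1 (.one ⟨15696, 2, 15⟩) (.one ⟨9676, 6, 14⟩)))) (.node 4 (.node 2 (.node 1 (.one ⟨15436, 2, 15⟩) (.one ⟨16743, 5, 15⟩)) (.node 1 (.one ⟨6426, 5, 14⟩) (.one ⟨8360, 6, 13⟩))) (.node 2 (.node 1 (.one ⟨16280, 3, 15⟩) (.one ⟨3838, 2, 16⟩)) (.node 1 (.one ⟨13721, 2, 15⟩) (.one ⟨17063, 4, 14⟩)))))) (.node 16 (.node 8 (.node 4 (.node 2 (.node 1 (.one ⟨12155, 4, 14⟩) (.one ⟨12249, 4, 11⟩)) (.node 1 (.one ⟨6376, 3, 16⟩) (.one ⟨10434, 4, 16⟩))) (.node 2 (.node 1 (.one ⟨12794, 6, 16⟩) (.one ⟨11455, 3, 13⟩)) (.node 1 (.one ⟨2806, 5, 15⟩) (.one ⟨10363, 4, 11⟩)))) (.node 4 (.node 2 (.node 1 (.one ⟨11387, 4, 12⟩) (.one ⟨16296, 4, 15⟩)) (.node 1 (.one ⟨16422, 6, 17⟩) (.one ⟨13434, 1, 15⟩))) (.node 2 (.node 1 (.one ⟨13436, 1, 15⟩) (.one ⟨7516, 6,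 14⟩)) (.node 1 (.one ⟨14585, 5, 15⟩) (.one ⟨3122, 6, 9⟩))))) (.node 8 (.node 4 (.node 2 (.node 1 (.one ⟨6371, 3, 3⟩) (.one ⟨2963, 5, 11⟩)) (.node 1 (.one ⟨624, 6, 10⟩) (.one ⟨12034, 6, 15⟩))) (.node 2 (.node 1 (.one ⟨11465, 3, 10⟩) (.one ⟨14979, 3, 14⟩)) (.node 1 (.one ⟨13141, 5, 15⟩) (.one ⟨8628, 5, 13⟩)))) (.node 4 (.node 2 (.node 1 (.one ⟨8305, 6, 4⟩) (.one ⟨3290, 4, 12⟩)) (.node 1 (.one ⟨2789, 2, 14⟩) (.one ⟨15629, 6, 16⟩))) (.node 2 (.node 1 (.one ⟨13565, 3, 11⟩) (.one ⟨15648, 5, 13⟩)) (.node 1 (.one ⟨12802, 6, 13⟩) (.one ⟨5058, 5, 15⟩)))))))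
def par0_5_4 : Arr Par :=
  (.node 32 (.node 16 (.node 8 (.node 4 (.node 2 (.node 1 (.one ⟨6396, 2, 14⟩) (.one ⟨629, 6, 16⟩)) (.node 1 (.one ⟨350, 3, 13⟩) (.one ⟨3975, 6, 14⟩))) (.node 2 (.node 1 (.one ⟨3185, 6, 14⟩) (.one ⟨6148, 3, 13⟩)) (.node 1 (.one ⟨6323, 3, 15⟩) (.one ⟨14210, 0, 16⟩)))) (.node 4 (.node 2 (.node 1 (.one ⟨7999, 3, 14⟩) (.one ⟨15186, 0, 15⟩)) (.node 1 (.one ⟨13614, 3, 11⟩) (.one ⟨15704, 5, 17⟩))) (.node 2 (.node 1 (.one ⟨3451, 0, 12⟩) (.one ⟨6533, 5, 17⟩)) (.node 1 (.one ⟨8637, 5, 15⟩) (.one ⟨11986, 5, 12⟩))))) (.node 8 (.node 4 (.node 2 (.node 1 (.one ⟨12027, 6, 16⟩) (.one ⟨908, 3, 11⟩)) (.node 1 (.one ⟨4431, 5, 14⟩) (.one ⟨3145, 6, 14⟩))) (.node 2 (.node 1 (.one ⟨7362, 4, 15⟩) (.one ⟨10050, 2, 14⟩)) (.node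 1 (.one ⟨1924, 5, 16⟩) (.one ⟨16055, 3, 16⟩)))) (.node 4 (.node 2 (.node 1 (.one ⟨12866, 3, 15⟩) (.one ⟨8191, 3, 14⟩)) (.node 1 (.one ⟨5498, 3, 11⟩) (.one ⟨32, 3, 15⟩))) (.node 2 (.node 1 (.one ⟨6887, 3, 14⟩) (.one ⟨12805, 6, 14⟩)) (.node 1 (.one ⟨8238, 4, 14⟩) (.one ⟨1796, 2, 15⟩)))))) (.node 16 (.node 8 (.node 4 (.node 2 (.node 1 (.one ⟨2962, 2, 11⟩) (.one ⟨4623, 6, 13⟩)) (.node 1 (.one ⟨3417, 3, 13⟩) (.one ⟨2850, 5, 15⟩))) (.node 2 (.node 1 (.one ⟨807, 6, 12⟩) (.one ⟨12298, 4, 12⟩)) (.node 1 (.one ⟨4034, 2, 15⟩) (.one ⟨10598, 2, 14⟩)))) (.node 4 (.node 2 (.node 1 (.one ⟨3938, 4, 15⟩) (.one ⟨3358, 4, 15⟩)) (.node 1 (.one ⟨12873, 3, 16⟩) (.one ⟨16053, 3, 16⟩))) (.node 2 (.node 1 (.one ⟨5280, 4, 12⟩) (.one ⟨16349, 6, 15⟩)) (.node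 1 (.one ⟨13370, 1, 16⟩) (.one ⟨5445, 5, 14⟩))))) (.node 8 (.node 4 (.node 2 (.node 1 (.one ⟨13520, 1, 12⟩) (.one ⟨12968, 3, 16⟩)) (.node 1 (.one ⟨13280, 6, 14⟩) (.one ⟨8538, 5, 15⟩))) (.node 2 (.node 1 (.one ⟨12518, 6, 15⟩) (.one ⟨12610, 5, 15⟩)) (.node 1 (.one ⟨13526, 1, 11⟩) (.one ⟨8609, 3, 14⟩)))) (.node 4 (.node 2 (.node 1 (.one ⟨12146, 6, 10⟩) (.one ⟨5888, 2, 14⟩)) (.node 1 (.one ⟨9806, 3, 12⟩) (.one ⟨16726, 3, 16⟩))) (.node 2 (.node 1 (.one ⟨7025, 2, 8⟩) (.one ⟨3297, 2, 14⟩)) (.node 1 (.one ⟨125, 3, 16⟩) (.one ⟨14126, 3, 16⟩)))))))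
def par0_5_5 : Arr Par :=
  (.node 32 (.node 16 (.node 8 (.node 4 (.node 2 (.node 1 (.one ⟨12493, 6, 16⟩) (.one ⟨13216, 4, 16⟩)) (.node 1 (.one ⟨1743, 3, 12⟩) (.one ⟨8259, 5, 13⟩))) (.node 2 (.node 1 (.one ⟨3843, 5, 10⟩) (.one ⟨4630, 5, 13⟩)) (.node 1 (.one ⟨8892, 5, 12⟩) (.one ⟨13158, 4, 15⟩)))) (.node 4 (.node 2 (.node 1 (.one ⟨3595, 0, 14⟩) (.one ⟨12526, 6, 16⟩)) (.node 1 (.one ⟨16330, 5, 12⟩) (.one ⟨5458, 6, 12⟩))) (.node 2 (.node 1 (.one ⟨3890, 5, 15⟩) (.one ⟨17104, 4, 15⟩)) (.node 1 (.one ⟨4561, 5, 16⟩) (.one ⟨5098, 4, 14⟩))))) (.node 8 (.node 4 (.node 2 (.node 1 (.one ⟨478, 2, 13⟩) (.one ⟨12508, 6, 14⟩)) (.node 1 (.one ⟨16949, 4, 11⟩) (.one ⟨12084, 6, 14⟩))) (.node 2 (.node 1 (.one ⟨16575, 3, 14⟩) (.one ⟨99, 3, 13⟩)) (.node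 1 (.one ⟨5105, 4, 14⟩) (.one ⟨8293, 5, 14⟩)))) (.node 4 (.node 2 (.node 1 (.one ⟨4085, 6, 13⟩) (.one ⟨1821, 6, 16⟩)) (.node 1 (.one ⟨8911, 5, 16⟩) (.one ⟨12476, 6, 15⟩))) (.node 2 (.node 1 (.one ⟨5444, 6, 11⟩) (.one ⟨12694, 5, 12⟩)) (.node 1 (.one ⟨4714, 3, 16⟩) (.one ⟨13506, 1, 15⟩)))))) (.node 16 (.node 8 (.node 4 (.node 2 (.node 1 (.one ⟨11956, 5, 13⟩) (.one ⟨16962, 4, 10⟩)) (.node 1 (.one ⟨13165, 4, 14⟩) (.one ⟨1769, 3, 15⟩))) (.node 2 (.node 1 (.one ⟨12467, 6, 14⟩) (.one ⟨5516, 4, 13⟩)) (.node 1 (.one ⟨3056, 6, 14⟩) (.one ⟨16605, 5, 14⟩)))) (.node 4 (.node 2 (.node 1 (.one ⟨4049, 6, 3⟩) (.one ⟨12497, 6, 14⟩)) (.node 1 (.one ⟨1730, 3, 10⟩) (.one ⟨6156, 3, 6⟩))) (.node 2 (.node 1 (.one ⟨16976, 5, 15⟩) (.one ⟨394, 3, 10⟩)) (.node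 1 (.one ⟨16326, 5, 11⟩) (.one ⟨15227, 4, 12⟩))))) (.node 8 (.node 4 (.node 2 (.node 1 (.one ⟨16135, 3, 14⟩) (.one ⟨14910, 6, 15⟩)) (.node 1 (.one ⟨3682, 2, 16⟩) (.one ⟨8351, 6, 16⟩))) (.node 2 (.node 1 (.one ⟨5920, 5, 16⟩) (.one ⟨13494, 4, 14⟩)) (.node 1 (.one ⟨6335, 4, 15⟩) (.one ⟨15261, 4, 11⟩)))) (.node 4 (.node 2 (.node 1 (.one ⟨12291, 4, 14⟩) (.one ⟨13539, 4, 13⟩)) (.node 1 (.one ⟨14430, 4, 10⟩) (.one ⟨12767, 2, 14⟩))) (.node 2 (.node 1 (.one ⟨16712, 5, 13⟩) (.one ⟨2820, 2, 15⟩)) (.node 1 (.one ⟨16357, 5, 16⟩) (.one ⟨13551, 3, 17⟩)))))))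
def par0_5_6 : Arr Par :=
  (.node 32 (.node 16 (.node 8 (.node 4 (.node 2 (.node 1 (.one ⟨16310, 5, 16⟩) (.one ⟨15137, 5, 16⟩)) (.node 1 (.one ⟨15195, 4, 11⟩) (.one ⟨13611, 1, 13⟩))) (.node 2 (.node 1 (.one ⟨1734, 3, 13⟩) (.one ⟨14437, 4, 11⟩)) (.node 1 (.one ⟨16914, 6, 15⟩) (.one ⟨8798, 5, 12⟩)))) (.node 4 (.node 2 (.node 1 (.one ⟨8034, 2, 14⟩) (.one ⟨8633, 5, 14⟩)) (.node 1 (.one ⟨16448, 2, 13⟩) (.one ⟨6416, 2, 12⟩))) (.node 2 (.node 1 (.one ⟨2748, 2, 12⟩) (.one ⟨12244, 6, 14⟩)) (.node 1 (.one ⟨9938, 2, 15⟩) (.one ⟨7053, 5, 12⟩))))) (.node 8 (.node 4 (.node 2 (.node 1 (.one ⟨6370, 4, 9⟩) (.one ⟨7164, 4, 12⟩)) (.node 1 (.one ⟨5486, 4, 12⟩) (.one ⟨7283, 5, 14⟩))) (.node 2 (.node 1 (.one ⟨4198, 6, 15⟩) (.one ⟨14909, 6, 16⟩)) (.node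 1 (.one ⟨8332, 6, 16⟩) (.one ⟨5536, 4, 16⟩)))) (.node 4 (.node 2 (.node 1 (.one ⟨15414, 3, 15⟩) (.one ⟨926, 3, 15⟩)) (.node 1 (.one ⟨14896, 6, 15⟩) (.one ⟨15125, 5, 15⟩))) (.node 2 (.node 1 (.one ⟨12355, 4, 16⟩) (.one ⟨14502, 4, 15⟩)) (.node 1 (.one ⟨14396, 4, 11⟩) (.one ⟨15102, 5, 14⟩)))))) (.node 16 (.node 8 (.node 4 (.node 2 (.node 1 (.one ⟨8297, 5, 15⟩) (.one ⟨1026, 3, 16⟩)) (.node 1 (.one ⟨12303, 6, 13⟩) (.one ⟨11038, 6, 14⟩))) (.node 2 (.node 1 (.one ⟨13544, 4, 14⟩) (.one ⟨16701, 5, 14⟩)) (.node 1 (.one ⟨12398, 2, 10⟩) (.one ⟨5672, 6, 14⟩)))) (.node 4 (.node 2 (.node 1 (.one ⟨7097, 3, 12⟩) (.one ⟨13312, 0, 15⟩)) (.node 1 (.one ⟨8674, 5, 14⟩) (.one ⟨134, 6, 15⟩))) (.node 2 (.node 1 (.one ⟨4178, 6, 10⟩) (.one ⟨13202, 6, 14⟩))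 (.node 1 (.one ⟨12452, 4, 15⟩) (.one ⟨1903, 6, 9⟩))))) (.node 8 (.node 4 (.node 2 (.node 1 (.one ⟨5681, 4, 6⟩) (.one ⟨5682, 5, 9⟩)) (.node 1 (.one ⟨14410, 5, 8⟩) (.one ⟨11056, 5, 15⟩))) (.node 2 (.node 1 (.one ⟨3399, 5, 15⟩) (.one ⟨7619, 6, 14⟩)) (.node 1 (.one ⟨11963, 6, 14⟩) (.one ⟨14029, 4, 14⟩)))) (.node 4 (.node 2 (.node 1 (.one ⟨11070, 5, 15⟩) (.one ⟨2167, 4, 11⟩)) (.node 1 (.one ⟨5956, 4, 13⟩) (.one ⟨908, 5, 11⟩))) (.node 2 (.node 1 (.one ⟨5595, 1, 15⟩) (.one ⟨13818, 4, 11⟩)) (.node 1 (.one ⟨14905, 5, 14⟩) (.one ⟨6324, 5, 11⟩)))))))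
def par0_5_7 : Arr Par :=
  (.node 32 (.node 16 (.node 8 (.node 4 (.node 2 (.node 1 (.one ⟨13753, 5, 12⟩) (.one ⟨7478, 5, 16⟩)) (.node 1 (.one ⟨9151, 4, 14⟩) (.one ⟨4288, 6, 16⟩))) (.node 2 (.node 1 (.one ⟨11442, 5, 16⟩) (.one ⟨354, 4, 13⟩)) (.node 1 (.one ⟨10288, 5, 13⟩) (.one ⟨15723, 6, 14⟩)))) (.node 4 (.node 2 (.node 1 (.one ⟨6569, 6, 11⟩) (.one ⟨3927, 6, 17⟩)) (.node 1 (.one ⟨10013, 6, 13⟩) (.one ⟨14061, 4, 12⟩))) (.node 2 (.node 1 (.one ⟨2993, 5, 15⟩) (.one ⟨13744, 5, 15⟩)) (.node 1 (.one ⟨11483, 5, 17⟩) (.one ⟨6368, 5, 9⟩))))) (.node 8 (.node 4 (.node 2 (.node 1 (.one ⟨5783, 4, 7⟩) (.one ⟨5784, 5, 10⟩)) (.node 1 (.one ⟨1935, 6, 10⟩) (.one ⟨3916, 6, 13⟩))) (.node 2 (.node 1 (.one ⟨11493, 5, 14⟩) (.one ⟨7649, 6, 13⟩)) (.node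 1 (.one ⟨4372, 6, 15⟩) (.one ⟨14011, 4, 13⟩)))) (.node 4 (.node 2 (.node 1 (.one ⟨2152, 4, 12⟩) (.one ⟨11153, 5, 14⟩)) (.node 1 (.one ⟨5935, 4, 14⟩) (.one ⟨15908, 2, 14⟩))) (.node 2 (.node 1 (.one ⟨14910, 5, 15⟩) (.one ⟨660, 5, 10⟩)) (.node 1 (.one ⟨13776, 4, 12⟩) (.one ⟨9158, 4, 15⟩)))))) (.node 16 (.node 8 (.node 4 (.node 2 (.node 1 (.one ⟨14427, 5, 12⟩) (.one ⟨7695, 3, 16⟩)) (.node 1 (.one ⟨13839, 5, 13⟩) (.one ⟨14052, 4, 17⟩))) (.node 2 (.node 1 (.one ⟨322, 4, 12⟩) (.one ⟨16583, 2, 16⟩)) (.node 1 (.one ⟨13746, 4, 14⟩) (.one ⟨14618, 6, 10⟩)))) (.node 4 (.node 2 (.node 1 (.one ⟨9982, 6, 14⟩) (.one ⟨15693, 6, 15⟩)) (.node 1 (.one ⟨15586, 5, 16⟩) (.one ⟨14039, 4, 11⟩))) (.node 2 (.node 1 (.one ⟨6274, 6, 14⟩) (.one ⟨3100, 5, 14⟩))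 (.node 1 (.one ⟨7797, 3, 17⟩) (.one ⟨4976, 3, 12⟩))))) (.node 8 (.node 4 (.node 2 (.node 1 (.one ⟨5699, 3, 10⟩) (.one ⟨9120, 3, 15⟩)) (.node 1 (.one ⟨4512, 5, 12⟩) (.one ⟨11359, 3, 6⟩))) (.node 2 (.node 1 (.one ⟨16395, 3, 11⟩) (.one ⟨13723, 0, 15⟩)) (.node 1 (.one ⟨6988, 4, 15⟩) (.one ⟨14003, 4, 16⟩)))) (.node 4 (.node 2 (.node 1 (.one ⟨3771, 6, 16⟩) (.one ⟨11815, 3, 15⟩)) (.node 1 (.one ⟨14823, 3, 15⟩) (.one ⟨4993, 3, 15⟩))) (.node 2 (.node 1 (.one ⟨5793, 3, 12⟩) (.one ⟨2409, 3, 15⟩)) (.node 1 (.one ⟨12837, 5, 14⟩) (.one ⟨15058, 4, 13⟩)))))))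
def par0_5_8 : Arr Par :=
  (.node 32 (.node 16 (.node 8 (.node 4 (.node 2 (.node 1 (.one ⟨11866, 2, 15⟩) (.one ⟨8349, 3, 16⟩)) (.node 1 (.one ⟨10945, 5, 15⟩) (.one ⟨5664, 1, 12⟩))) (.node 2 (.node 1 (.one ⟨13766, 3, 12⟩) (.one ⟨6793, 3, 14⟩)) (.node 1 (.one ⟨10443, 3, 14⟩) (.one ⟨14245, 0, 11⟩)))) (.node 4 (.node 2 (.node 1 (.one ⟨8892, 0, 12⟩) (.one ⟨13859, 3, 13⟩)) (.node 1 (.one ⟨12836, 5, 16⟩) (.one ⟨3267, 3, 16⟩))) (.node 2 (.node 1 (.one ⟨11651, 2, 17⟩) (.one ⟨16757, 0, 15⟩)) (.node 1 (.one ⟨10928, 5, 14⟩) (.one ⟨17179, 3, 16⟩))))) (.node 8 (.node 4 (.node 2 (.node 1 (.one ⟨8310, 3, 12⟩) (.one ⟨3280, 3, 5⟩)) (.node 1 (.one ⟨12551, 5, 11⟩) (.one ⟨5008, 3, 13⟩))) (.node 2 (.node 1 (.one ⟨6967, 4, 16⟩) (.one ⟨14819, 3, 16⟩))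 (.node 1 (.one ⟨5805, 3, 11⟩) (.one ⟨5704, 3, 13⟩)))) (.node 4 (.node 2 (.node 1 (.one ⟨14848, 3, 16⟩) (.one ⟨5023, 3, 15⟩)) (.node 1 (.one ⟨11815, 5, 15⟩) (.one ⟨554, 5, 17⟩))) (.node 2 (.node 1 (.one ⟨12833, 5, 13⟩) (.one ⟨11487, 5, 16⟩)) (.node 1 (.one ⟨16568, 4, 15⟩) (.one ⟨15077, 4, 14⟩)))))) (.node 16 (.node 8 (.node 4 (.node 2 (.node 1 (.one ⟨2816, 2, 11⟩) (.one ⟨8085, 2, 14⟩)) (.node 1 (.one ⟨13869, 3, 13⟩) (.one ⟨16421, 3, 15⟩))) (.node 2 (.node 1 (.one ⟨14100, 2, 15⟩) (.one ⟨10981, 5, 14⟩)) (.node 1 (.one ⟨2364, 3, 15⟩) (.one ⟨11315, 3, 15⟩)))) (.node 4 (.node 2 (.node 1 (.one ⟨5293, 0, 13⟩) (.one ⟨13096, 3, 15⟩)) (.node 1 (.one ⟨13772, 3, 14⟩) (.one ⟨16636, 4, 15⟩))) (.node 2 (.node 1 (.one ⟨10263, 6, 15⟩) (.one ⟨7799,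 2, 17⟩)) (.node 1 (.one ⟨2024, 0, 12⟩) (.one ⟨5552, 5, 7⟩))))) (.node 8 (.node 4 (.node 2 (.node 1 (.one ⟨10311, 5, 4⟩) (.one ⟨589, 2, 5⟩)) (.node 1 (.one ⟨7, 4, 8⟩) (.one ⟨11789, 5, 15⟩))) (.node 2 (.node 1 (.one ⟨8309, 5, 11⟩) (.one ⟨13844, 0, 12⟩)) (.node 1 (.one ⟨5748, 0, 15⟩) (.one ⟨3911, 3, 12⟩)))) (.node 4 (.node 2 (.node 1 (.one ⟨1083, 2, 13⟩) (.one ⟨2967, 3, 15⟩)) (.node 1 (.one ⟨13627, 5, 12⟩) (.one ⟨7554, 3, 15⟩))) (.node 2 (.node 1 (.one ⟨6955, 4, 15⟩) (.one ⟨5969, 6, 13⟩)) (.node 1 (.one ⟨8353, 3, 15⟩) (.one ⟨5011, 5, 13⟩)))))))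
def par0_5_9 : Arr Par :=
  (.node 32 (.node 16 (.node 8 (.node 4 (.node 2 (.node 1 (.one ⟨6579, 5, 5⟩) (.one ⟨6876, 4, 13⟩)) (.node 1 (.one ⟨698, 5, 12⟩) (.one ⟨17166, 5, 9⟩))) (.node 2 (.node 1 (.one ⟨11246, 5, 16⟩) (.one ⟨12398, 5, 10⟩)) (.node 1 (.one ⟨5371, 6, 17⟩) (.one ⟨2747, 4, 13⟩)))) (.node 4 (.node 2 (.node 1 (.one ⟨14831, 4, 12⟩) (.one ⟨13688, 2, 16⟩)) (.node 1 (.one ⟨14648, 5, 13⟩) (.one ⟨7921, 5, 14⟩))) (.node 2 (.node 1 (.one ⟨2317, 3, 12⟩) (.one ⟨13659, 4, 15⟩)) (.node 1 (.one ⟨9854, 2, 14⟩) (.one ⟨14061, 2, 12⟩))))) (.node 8 (.node 4 (.node 2 (.node 1 (.one ⟨5751, 1, 10⟩) (.one ⟨2097, 2, 15⟩)) (.node 1 (.one ⟨2529, 6, 16⟩) (.one ⟨2523, 6, 11⟩))) (.node 2 (.node 1 (.one ⟨857, 6, 15⟩) (.one ⟨2910, 4, 15⟩)) (.node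 1 (.one ⟨11139, 4, 12⟩) (.one ⟨5565, 5, 12⟩)))) (.node 4 (.node 2 (.node 1 (.one ⟨3111, 2, 13⟩) (.one ⟨3894, 3, 15⟩)) (.node 1 (.one ⟨14702, 3, 13⟩) (.one ⟨7545, 3, 12⟩))) (.node 2 (.node 1 (.one ⟨351, 5, 13⟩) (.one ⟨15075, 2, 16⟩)) (.node 1 (.one ⟨11032, 3, 11⟩) (.one ⟨5767, 1, 15⟩)))))) (.node 16 (.node 8 (.node 4 (.node 2 (.node 1 (.one ⟨6000, 6, 15⟩) (.one ⟨10353, 3, 14⟩)) (.node 1 (.one ⟨5771, 1, 14⟩) (.one ⟨6871, 4, 15⟩))) (.node 2 (.node 1 (.one ⟨252, 2, 15⟩) (.one ⟨698, 2, 12⟩)) (.node 1 (.one ⟨14127, 4, 16⟩) (.one ⟨9087, 5, 13⟩)))) (.node 4 (.node 2 (.node 1 (.one ⟨747, 5, 15⟩) (.one ⟨6588, 5, 14⟩)) (.node 1 (.one ⟨2294, 3, 14⟩) (.one ⟨5019, 5, 14⟩))) (.node 2 (.node 1 (.one ⟨5865, 2, 17⟩) (.one ⟨2060, 4, 13⟩)) (.node 1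 (.one ⟨11555, 2, 16⟩) (.one ⟨11000, 3, 12⟩))))) (.node 8 (.node 4 (.node 2 (.node 1 (.one ⟨11974, 3, 14⟩) (.one ⟨393, 5, 14⟩)) (.node 1 (.one ⟨5598, 5, 13⟩) (.one ⟨3207, 2, 13⟩))) (.node 2 (.node 1 (.one ⟨5720, 1, 14⟩) (.one ⟨15080, 4, 16⟩)) (.node 1 (.one ⟨14669, 3, 14⟩) (.one ⟨1387, 2, 9⟩)))) (.node 4 (.node 2 (.node 1 (.one ⟨13648, 5, 16⟩) (.one ⟨10622, 6, 12⟩)) (.node 1 (.one ⟨6288, 2, 13⟩) (.one ⟨2872, 4, 14⟩))) (.node 2 (.node 1 (.one ⟨10506, 2, 15⟩) (.one ⟨13864, 2, 17⟩)) (.node 1 (.one ⟨11112, 4, 13⟩) (.one ⟨17150, 5, 12⟩)))))))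
def par0_5_10 : Arr Par :=
  (.node 32 (.node 16 (.node 8 (.node 4 (.node 2 (.node 1 (.one ⟨2017, 4, 14⟩) (.one ⟨10368, 3, 13⟩)) (.node 1 (.one ⟨9047, 3, 16⟩) (.one ⟨6615, 5, 15⟩))) (.node 2 (.node 1 (.one ⟨4986, 5, 15⟩) (.one ⟨1064, 5, 16⟩)) (.node 1 (.one ⟨1879, 3, 16⟩) (.one ⟨2579, 2, 14⟩)))) (.node 4 (.node 2 (.node 1 (.one ⟨14149, 4, 17⟩) (.one ⟨5732, 1, 16⟩)) (.node 1 (.one ⟨2307, 3, 13⟩) (.one ⟨2578, 2, 13⟩))) (.node 2 (.node 1 (.one ⟨1871, 3, 15⟩) (.one ⟨5733, 1, 13⟩)) (.node 1 (.one ⟨6020, 6, 16⟩) (.one ⟨2936, 3, 16⟩))))) (.node 8 (.node 4 (.node 2 (.node 1 (.one ⟨13658, 5, 11⟩) (.one ⟨11959, 3, 13⟩)) (.node 1 (.one ⟨5688, 1, 14⟩) (.one ⟨15599, 3, 16⟩))) (.node 2 (.node 1 (.one ⟨6951, 4, 16⟩) (.one ⟨5986, 6, 12⟩)) (.node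 1 (.one ⟨7017, 4, 15⟩) (.one ⟨5681, 1, 6⟩)))) (.node 4 (.node 2 (.node 1 (.one ⟨329, 4, 9⟩) (.one ⟨11822, 5, 14⟩)) (.node 1 (.one ⟨16397, 5, 10⟩) (.one ⟨5584, 5, 8⟩))) (.node 2 (.node 1 (.one ⟨2225, 5, 3⟩) (.one ⟨908, 0, 11⟩)) (.node 1 (.one ⟨886, 0, 14⟩) (.one ⟨468, 4, 13⟩)))))) (.node 16 (.node 8 (.node 4 (.node 2 (.node 1 (.one ⟨2761, 4, 12⟩) (.one ⟨14813, 4, 11⟩)) (.node 1 (.one ⟨13630, 4, 14⟩) (.one ⟨10361, 3, 13⟩))) (.node 2 (.node 1 (.one ⟨13024, 3, 16⟩) (.one ⟨14686, 5, 14⟩)) (.node 1 (.one ⟨7920, 5, 15⟩) (.one ⟨6280, 2, 16⟩)))) (.node 4 (.node 2 (.node 1 (.one ⟨3154, 5, 15⟩) (.one ⟨6609, 5, 4⟩)) (.node 1 (.one ⟨884, 5, 13⟩) (.one ⟨6872, 4, 14⟩))) (.node 2 (.node 1 (.one ⟨4977, 5, 12⟩) (.one ⟨9071, 5, 10⟩)) (.node 1 (.one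 ⟨4348, 5, 11⟩) (.one ⟨5231, 3, 12⟩))))) (.node 8 (.node 4 (.node 2 (.node 1 (.one ⟨3909, 3, 15⟩) (.one ⟨4297, 5, 14⟩)) (.node 1 (.one ⟨4831, 4, 14⟩) (.one ⟨8484, 4, 16⟩))) (.node 2 (.node 1 (.one ⟨15129, 4, 16⟩) (.one ⟨5781, 6, 13⟩)) (.node 1 (.one ⟨5926, 1, 14⟩) (.one ⟨10246, 4, 14⟩)))) (.node 4 (.node 2 (.node 1 (.one ⟨10920, 4, 14⟩) (.one ⟨8177, 6, 14⟩)) (.node 1 (.one ⟨7581, 3, 16⟩) (.one ⟨5269, 5, 14⟩))) (.node 2 (.node 1 (.one ⟨5759, 6, 13⟩) (.one ⟨16036, 4, 16⟩)) (.node 1 (.one ⟨9923, 3, 15⟩) (.one ⟨15968, 4, 14⟩)))))))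
def par0_5_11 : Arr Par :=
  (.node 32 (.node 16 (.node 8 (.node 4 (.node 2 (.node 1 (.one ⟨2210, 6, 12⟩) (.one ⟨1971, 5, 9⟩)) (.node 1 (.one ⟨7382, 6, 14⟩) (.one ⟨749, 5, 11⟩))) (.node 2 (.node 1 (.one ⟨5895, 6, 15⟩) (.one ⟨1998, 5, 15⟩)) (.node 1 (.one ⟨12397, 5, 10⟩) (.one ⟨10944, 4, 13⟩)))) (.node 4 (.node 2 (.node 1 (.one ⟨9574, 5, 17⟩) (.one ⟨15885, 4, 12⟩)) (.node 1 (.one ⟨10877, 4, 13⟩) (.one ⟨2132, 4, 16⟩))) (.node 2 (.node 1 (.one ⟨13960, 3, 16⟩) (.one ⟨9945, 3, 14⟩)) (.node 1 (.one ⟨4426, 6, 14⟩) (.one ⟨3913, 3, 14⟩))))) (.node 8 (.node 4 (.node 2 (.node 1 (.one ⟨11851, 4, 13⟩) (.one ⟨4380, 5, 15⟩)) (.node 1 (.one ⟨5861, 3, 13⟩) (.one ⟨508, 5, 13⟩))) (.node 2 (.node 1 (.one ⟨13263, 3, 13⟩) (.one ⟨16516, 4, 17⟩)) (.node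 1 (.one ⟨10175, 6, 13⟩) (.one ⟨9573, 5, 15⟩)))) (.node 4 (.node 2 (.node 1 (.one ⟨2807, 4, 10⟩) (.one ⟨12486, 6, 10⟩)) (.node 1 (.one ⟨13264, 5, 15⟩) (.one ⟨2028, 6, 17⟩))) (.node 2 (.node 1 (.one ⟨12551, 6, 11⟩) (.one ⟨7735, 4, 10⟩)) (.node 1 (.one ⟨10983, 4, 16⟩) (.one ⟨10084, 5, 11⟩)))))) (.node 16 (.node 8 (.node 4 (.node 2 (.node 1 (.one ⟨1049, 5, 15⟩) (.one ⟨13956, 4, 13⟩)) (.node 1 (.one ⟨1159, 5, 16⟩) (.one ⟨12897, 4, 15⟩))) (.node 2 (.node 1 (.one ⟨12407, 5, 16⟩) (.one ⟨7067, 4, 12⟩)) (.node 1 (.one ⟨14679, 3, 16⟩) (.one ⟨2918, 4, 15⟩)))) (.node 4 (.node 2 (.node 1 (.one ⟨2017, 6, 14⟩) (.one ⟨1902, 3, 16⟩)) (.node 1 (.one ⟨5704, 6, 13⟩) (.one ⟨10265, 6, 15⟩))) (.node 2 (.node 1 (.one ⟨14789, 0, 13⟩) (.one ⟨2862, 4, 14⟩))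 (.node 1 (.one ⟨3268, 0, 15⟩) (.one ⟨13909, 4, 12⟩))))) (.node 8 (.node 4 (.node 2 (.node 1 (.one ⟨972, 5, 14⟩) (.one ⟨12190, 5, 15⟩)) (.node 1 (.one ⟨14651, 3, 15⟩) (.one ⟨7073, 4, 13⟩))) (.node 2 (.node 1 (.one ⟨4328, 5, 15⟩) (.one ⟨10126, 5, 12⟩)) (.node 1 (.one ⟨1162, 5, 15⟩) (.one ⟨15336, 0, 14⟩)))) (.node 4 (.node 2 (.node 1 (.one ⟨11430, 0, 12⟩) (.one ⟨2881, 4, 14⟩)) (.node 1 (.one ⟨1865, 3, 15⟩) (.one ⟨2060, 6, 13⟩))) (.node 2 (.node 1 (.one ⟨5793, 6, 12⟩) (.one ⟨13603, 0, 15⟩)) (.node 1 (.one ⟨10186, 6, 16⟩) (.one ⟨5219, 3, 14⟩)))))))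
def par0_5_12 : Arr Par :=
  (.node 32 (.node 16 (.node 8 (.node 4 (.node 2 (.node 1 (.one ⟨11965, 3, 13⟩) (.one ⟨11933, 4, 14⟩)) (.node 1 (.one ⟨372, 5, 14⟩) (.one ⟨5875, 3, 14⟩))) (.node 2 (.node 1 (.one ⟨16545, 4, 16⟩) (.one ⟨10256, 6, 14⟩)) (.node 1 (.one ⟨12365, 5, 14⟩) (.one ⟨5220, 5, 14⟩)))) (.node 4 (.node 2 (.node 1 (.one ⟨2816, 4, 11⟩) (.one ⟨4512, 6, 12⟩)) (.node 1 (.one ⟨10956, 4, 15⟩) (.one ⟨7851, 4, 11⟩))) (.node 2 (.node 1 (.one ⟨3312, 3, 16⟩) (.one ⟨9571, 5, 16⟩)) (.node 1 (.one ⟨4449, 6, 11⟩) (.one ⟨2078, 5, 10⟩))))) (.node 8 (.node 4 (.node 2 (.node 1 (.one ⟨5850, 6, 16⟩) (.one ⟨4350, 5, 11⟩)) (.node 1 (.one ⟨15970, 4, 15⟩) (.one ⟨2101, 6, 13⟩))) (.node 2 (.node 1 (.one ⟨2082, 5, 14⟩) (.one ⟨598, 5, 12⟩)) (.node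 1 (.one ⟨15421, 6, 15⟩) (.one ⟨10982, 4, 14⟩)))) (.node 4 (.node 2 (.node 1 (.one ⟨12525, 6, 15⟩) (.one ⟨2177, 4, 17⟩)) (.node 1 (.one ⟨10885, 4, 14⟩) (.one ⟨8661, 4, 17⟩))) (.node 2 (.node 1 (.one ⟨15832, 4, 11⟩) (.one ⟨9572, 5, 16⟩)) (.node 1 (.one ⟨9911, 3, 15⟩) (.one ⟨13315, 3, 13⟩)))))) (.node 16 (.node 8 (.node 4 (.node 2 (.node 1 (.one ⟨8448, 4, 15⟩) (.one ⟨13980, 6, 16⟩)) (.node 1 (.one ⟨11954, 3, 16⟩) (.one ⟨5693, 6, 14⟩))) (.node 2 (.node 1 (.one ⟨12439, 5, 15⟩) (.one ⟨4828, 4, 15⟩)) (.node 1 (.one ⟨4505, 2, 13⟩) (.one ⟨16037, 4, 15⟩)))) (.node 4 (.node 2 (.node 1 (.one ⟨10897, 4, 15⟩) (.one ⟨5735, 6, 14⟩)) (.node 1 (.one ⟨16286, 6, 15⟩) (.one ⟨10194, 4, 15⟩))) (.node 2 (.node 1 (.one ⟨9956, 3, 16⟩) (.one ⟨15662, 3, 15⟩))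 (.node 1 (.one ⟨2222, 6, 14⟩) (.one ⟨5956, 1, 13⟩))))) (.node 8 (.node 4 (.node 2 (.node 1 (.one ⟨7398, 5, 16⟩) (.one ⟨8705, 5, 12⟩)) (.node 1 (.one ⟨7894, 5, 15⟩) (.one ⟨5696, 6, 6⟩))) (.node 2 (.node 1 (.one ⟨89, 4, 11⟩) (.one ⟨8434, 4, 12⟩)) (.node 1 (.one ⟨5520, 5, 10⟩) (.one ⟨14407, 5, 4⟩)))) (.node 4 (.node 2 (.node 1 (.one ⟨5679, 6, 8⟩) (.one ⟨17, 5, 9⟩)) (.node 1 (.one ⟨14306, 5, 8⟩) (.one ⟨16151, 5, 14⟩))) (.node 2 (.node 1 (.one ⟨4511, 5, 10⟩) (.one ⟨4368, 5, 15⟩)) (.node 1 (.one ⟨16007, 5, 15⟩) (.one ⟨5801, 6, 5⟩)))))))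
def par0_5_13 : Arr Par :=
  (.node 32 (.node 16 (.node 8 (.node 4 (.node 2 (.node 1 (.one ⟨10544, 3, 15⟩) (.one ⟨450, 4, 12⟩)) (.node 1 (.one ⟨8692, 5, 11⟩) (.one ⟨13565, 5, 11⟩))) (.node 2 (.node 1 (.one ⟨2518, 2, 12⟩) (.one ⟨8470, 4, 13⟩)) (.node 1 (.one ⟨15436, 5, 15⟩) (.one ⟨6257, 5, 9⟩)))) (.node 4 (.node 2 (.node 1 (.one ⟨148, 5, 10⟩) (.one ⟨5787, 6, 9⟩)) (.node 1 (.one ⟨6371, 5, 3⟩) (.one ⟨12354, 5, 14⟩))) (.node 2 (.node 1 (.one ⟨127, 0, 15⟩) (.one ⟨16167, 5, 13⟩)) (.node 1 (.one ⟨12554, 5, 9⟩) (.one ⟨13711, 4, 17⟩))))) (.node 8 (.node 4 (.node 2 (.node 1 (.one ⟨14342, 5, 17⟩) (.one ⟨5534, 5, 12⟩)) (.node 1 (.one ⟨7888, 5, 16⟩) (.one ⟨7402, 5, 16⟩))) (.node 2 (.node 1 (.one ⟨7308, 3, 13⟩) (.one ⟨14152, 3, 13⟩)) (.node 1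 (.one ⟨2375, 2, 13⟩) (.one ⟨14296, 2, 17⟩)))) (.node 4 (.node 2 (.node 1 (.one ⟨6195, 5, 12⟩) (.one ⟨14402, 5, 15⟩)) (.node 1 (.one ⟨7326, 3, 16⟩) (.one ⟨5995, 1, 14⟩))) (.node 2 (.node 1 (.one ⟨13745, 6, 15⟩) (.one ⟨880, 4, 13⟩)) (.node 1 (.one ⟨16664, 4, 12⟩) (.one ⟨15427, 5, 15⟩)))))) (.node 16 (.node 8 (.node 4 (.node 2 (.node 1 (.one ⟨15336, 3, 14⟩) (.one ⟨7892, 5, 15⟩)) (.node 1 (.one ⟨13553, 5, 11⟩) (.one ⟨13866, 6, 17⟩))) (.node 2 (.node 1 (.one ⟨6228, 5, 16⟩) (.one ⟨5974, 1, 14⟩)) (.node 1 (.one ⟨14139, 3, 14⟩) (.one ⟨14371, 5, 13⟩)))) (.node 4 (.node 2 (.node 1 (.one ⟨9967, 4, 14⟩) (.one ⟨686, 4, 12⟩)) (.node 1 (.one ⟨14108, 4, 15⟩) (.one ⟨14004, 2, 13⟩))) (.node 2 (.node 1 (.one ⟨8104, 3, 18⟩) (.one ⟨15294, 3, 15⟩)) (.node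 1 (.one ⟨16683, 4, 11⟩) (.one ⟨8721, 5, 14⟩))))) (.node 8 (.node 4 (.node 2 (.node 1 (.one ⟨9723, 4, 14⟩) (.one ⟨4776, 4, 15⟩)) (.node 1 (.one ⟨13677, 4, 14⟩) (.one ⟨5498, 5, 11⟩))) (.node 2 (.node 1 (.one ⟨5635, 4, 13⟩) (.one ⟨16514, 4, 16⟩)) (.node 1 (.one ⟨29, 5, 15⟩) (.one ⟨16140, 5, 16⟩)))) (.node 4 (.node 2 (.node 1 (.one ⟨16573, 4, 11⟩) (.one ⟨1921, 4, 10⟩)) (.node 1 (.one ⟨2155, 6, 13⟩) (.one ⟨6025, 1, 15⟩))) (.node 2 (.node 1 (.one ⟨4701, 4, 14⟩) (.one ⟨1046, 3, 14⟩)) (.node 1 (.one ⟨6030, 1, 12⟩) (.one ⟨830, 4, 15⟩)))))))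
def par0_5_14 : Arr Par :=
  (.node 32 (.node 16 (.node 8 (.node 4 (.node 2 (.node 1 (.one ⟨5664, 4, 12⟩) (.one ⟨8741, 5, 15⟩)) (.node 1 (.one ⟨4782, 4, 14⟩) (.one ⟨6868, 3, 14⟩))) (.node 2 (.node 1 (.one ⟨9736, 4, 15⟩) (.one ⟨13589, 5, 12⟩)) (.node 1 (.one ⟨16547, 4, 15⟩) (.one ⟨2171, 6, 12⟩)))) (.node 4 (.node 2 (.node 1 (.one ⟨1954, 4, 11⟩) (.one ⟨4859, 2, 14⟩)) (.node 1 (.one ⟨16009, 5, 15⟩) (.one ⟨16584, 4, 12⟩))) (.node 2 (.node 1 (.one ⟨16124, 5, 15⟩) (.one ⟨888, 3, 13⟩)) (.node 1 (.one ⟨1356, 2, 11⟩) (.one ⟨4779, 4, 15⟩))))) (.node 8 (.node 4 (.node 2 (.node 1 (.one ⟨6865, 3, 16⟩) (.one ⟨5737, 6, 15⟩)) (.node 1 (.one ⟨5877, 6, 13⟩) (.one ⟨2081, 6, 13⟩))) (.node 2 (.node 1 (.one ⟨1639, 4, 16⟩) (.one ⟨16801, 6, 15⟩)) (.node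 1 (.one ⟨314, 3, 16⟩) (.one ⟨5719, 6, 13⟩)))) (.node 4 (.node 2 (.node 1 (.one ⟨4485, 5, 13⟩) (.one ⟨2077, 6, 16⟩)) (.node 1 (.one ⟨2183, 6, 11⟩) (.one ⟨14971, 3, 14⟩))) (.node 2 (.node 1 (.one ⟨9827, 6, 13⟩) (.one ⟨6239, 5, 14⟩)) (.node 1 (.one ⟨14153, 6, 15⟩) (.one ⟨4777, 4, 16⟩)))))) (.node 16 (.node 8 (.node 4 (.node 2 (.node 1 (.one ⟨16788, 6, 16⟩) (.one ⟨5855, 6, 12⟩)) (.node 1 (.one ⟨1627, 4, 15⟩) (.one ⟨5763, 6, 16⟩))) (.node 2 (.node 1 (.one ⟨1997, 6, 14⟩) (.one ⟨6210, 5, 16⟩)) (.node 1 (.one ⟨761, 3, 16⟩) (.one ⟨2135, 6, 12⟩)))) (.node 4 (.node 2 (.node 1 (.one ⟨16012, 5, 16⟩) (.one ⟨5746, 6, 14⟩)) (.node 1 (.one ⟨14974, 3, 15⟩) (.one ⟨9813, 6, 14⟩))) (.node 2 (.node 1 (.one ⟨12589, 5, 14⟩) (.one ⟨14319, 5, 13⟩)) (.node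 1 (.one ⟨8072, 5, 16⟩) (.one ⟨8065, 5, 13⟩))))) (.node 8 (.node 4 (.node 2 (.node 1 (.one ⟨11170, 2, 15⟩) (.one ⟨8630, 4, 12⟩)) (.node 1 (.one ⟨8172, 3, 16⟩) (.one ⟨5696, 4, 6⟩))) (.node 2 (.node 1 (.one ⟨8310, 5, 12⟩) (.one ⟨203, 4, 11⟩)) (.node 1 (.one ⟨12802, 5, 13⟩) (.one ⟨16707, 4, 13⟩)))) (.node 4 (.node 2 (.node 1 (.one ⟨13014, 4, 15⟩) (.one ⟨15692, 4, 16⟩)) (.node 1 (.one ⟨11520, 0, 11⟩) (.one ⟨5797, 4, 15⟩))) (.node 2 (.node 1 (.one ⟨480, 5, 14⟩) (.one ⟨16661, 3, 16⟩)) (.node 1 (.one ⟨8337, 5, 14⟩) (.one ⟨8047, 5, 14⟩)))))))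
def par0_5_15 : Arr Par :=
  (.node 32 (.node 16 (.node 8 (.node 4 (.node 2 (.node 1 (.one ⟨8653, 4, 13⟩) (.one ⟨5801, 4, 5⟩)) (.node 1 (.one ⟨161, 4, 12⟩) (.one ⟨12803, 5, 12⟩))) (.node 2 (.node 1 (.one ⟨16395, 5, 11⟩) (.one ⟨16204, 3, 15⟩)) (.node 1 (.one ⟨14381, 6, 16⟩) (.one ⟨423, 5, 13⟩)))) (.node 4 (.node 2 (.node 1 (.one ⟨16699, 4, 12⟩) (.one ⟨5706, 4, 14⟩)) (.node 1 (.one ⟨13659, 0, 15⟩) (.one ⟨15721, 4, 17⟩))) (.node 2 (.node 1 (.one ⟨16424, 5, 14⟩) (.one ⟨14831, 0, 12⟩)) (.node 1 (.one ⟨6941, 4, 16⟩) (.one ⟨7921, 6, 14⟩))))) (.node 8 (.node 4 (.node 2 (.node 1 (.one ⟨12404, 6, 16⟩) (.one ⟨8331, 5, 13⟩)) (.node 1 (.one ⟨5999, 3, 15⟩) (.one ⟨4658, 3, 17⟩))) (.node 2 (.node 1 (.one ⟨13627, 0, 12⟩) (.one ⟨11730, 2, 14⟩)) (.node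 1 (.one ⟨15061, 5, 16⟩) (.one ⟨6126, 1, 16⟩)))) (.node 4 (.node 2 (.node 1 (.one ⟨171, 5, 16⟩) (.one ⟨8363, 5, 14⟩)) (.node 1 (.one ⟨16155, 5, 15⟩) (.one ⟨14703, 2, 16⟩))) (.node 2 (.node 1 (.one ⟨14350, 6, 15⟩) (.one ⟨16691, 4, 15⟩)) (.node 1 (.one ⟨6936, 4, 15⟩) (.one ⟨10887, 2, 17⟩)))))) (.node 16 (.node 8 (.node 4 (.node 2 (.node 1 (.one ⟨4326, 6, 15⟩) (.one ⟨16371, 5, 14⟩)) (.node 1 (.one ⟨4657, 3, 16⟩) (.one ⟨6101, 1, 15⟩))) (.node 2 (.node 1 (.one ⟨7920, 6, 15⟩) (.one ⟨974, 4, 15⟩)) (.node 1 (.one ⟨10043, 0, 13⟩) (.one ⟨16402, 5, 15⟩)))) (.node 4 (.node 2 (.node 1 (.one ⟨13861, 4, 16⟩) (.one ⟨6235, 6, 14⟩)) (.node 1 (.one ⟨4951, 4, 15⟩) (.one ⟨12017, 6, 17⟩))) (.node 2 (.node 1 (.one ⟨6935, 4, 16⟩) (.one ⟨16715, 4, 14⟩))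 (.node 1 (.one ⟨12876, 2, 15⟩) (.one ⟨601, 2, 4⟩))))) (.node 8 (.node 4 (.node 2 (.node 1 (.one ⟨1904, 4, 7⟩) (.one ⟨7, 5, 8⟩)) (.node 1 (.one ⟨1714, 4, 9⟩) (.one ⟨15021, 5, 14⟩))) (.node 2 (.node 1 (.one ⟨3861, 6, 14⟩) (.one ⟨6454, 0, 13⟩)) (.node 1 (.one ⟨14566, 0, 14⟩) (.one ⟨6143, 1, 13⟩)))) (.node 4 (.node 2 (.node 1 (.one ⟨100, 4, 11⟩) (.one ⟨7752, 4, 15⟩)) (.node 1 (.one ⟨3098, 2, 16⟩) (.one ⟨9971, 4, 12⟩))) (.node 2 (.node 1 (.one ⟨6183, 6, 14⟩) (.one ⟨12105, 6, 16⟩)) (.node 1 (.one ⟨2906, 5, 13⟩) (.one ⟨1248, 2, 12⟩)))))))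
def par0_5 : Arr Par :=
  (.node 512 (.node 256 (.node 128 (.node 64 par0_5_0 par0_5_1) (.node 64 par0_5_2 par0_5_3)) (.node 128 (.node 64 par0_5_4 par0_5_5) (.node 64 par0_5_6 par0_5_7))) (.node 256 (.node 128 (.node 64 par0_5_8 par0_5_9) (.node 64 par0_5_10 par0_5_11)) (.node 128 (.node 64 par0_5_12 par0_5_13) (.node 64 par0_5_14 par0_5_15))))
def par0_6_0 : Arr Par :=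
  (.node 32 (.node 16 (.node 8 (.node 4 (.node 2 (.node 1 (.one ⟨4029, 6, 16⟩) (.one ⟨16100, 3, 16⟩)) (.node 1 (.one ⟨6159, 6, 13⟩) (.one ⟨2875, 5, 14⟩))) (.node 2 (.node 1 (.one ⟨131, 4, 12⟩) (.one ⟨10006, 4, 13⟩)) (.node 1 (.one ⟨7838, 4, 16⟩) (.one ⟨1730, 4, 10⟩)))) (.node 4 (.node 2 (.node 1 (.one ⟨1939, 4, 8⟩) (.one ⟨15016, 5, 14⟩)) (.node 1 (.one ⟨246, 0, 12⟩) (.one ⟨329, 5, 9⟩))) (.node 2 (.node 1 (.one ⟨6127, 1, 5⟩) (.one ⟨3778, 6, 13⟩)) (.node 1 (.one ⟨530, 0, 13⟩) (.one ⟨5458, 3, 12⟩))))) (.node 8 (.node 4 (.node 2 (.node 1 (.one ⟨1959, 4, 12⟩) (.one ⟨15943, 3, 13⟩)) (.node 1 (.one ⟨12124, 6, 15⟩) (.one ⟨10215, 6, 15⟩))) (.node 2 (.node 1 (.one ⟨918, 4, 13⟩) (.one ⟨7853, 4, 16⟩)) (.node 1 (.one ⟨16084, 3, 17⟩) (.one ⟨14443,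 6, 16⟩)))) (.node 4 (.node 2 (.node 1 (.one ⟨14230, 6, 11⟩) (.one ⟨6178, 1, 13⟩)) (.node 1 (.one ⟨7970, 2, 16⟩) (.one ⟨16056, 3, 14⟩))) (.node 2 (.node 1 (.one ⟨15817, 4, 16⟩) (.one ⟨13617, 5, 16⟩)) (.node 1 (.one ⟨10417, 6, 13⟩) (.one ⟨6275, 2, 15⟩)))))) (.node 16 (.node 8 (.node 4 (.node 2 (.node 1 (.one ⟨3550, 2, 16⟩) (.one ⟨14252, 6, 10⟩)) (.node 1 (.one ⟨8170, 2, 12⟩) (.one ⟨2367, 6, 14⟩))) (.node 2 (.node 1 (.one ⟨16063, 3, 15⟩) (.one ⟨13647, 5, 15⟩)) (.node 1 (.one ⟨15902, 4, 15⟩) (.one ⟨13490, 3, 13⟩)))) (.node 4 (.node 2 (.node 1 (.one ⟨4077, 6, 16⟩) (.one ⟨1929, 4, 11⟩)) (.node 1 (.one ⟨15944, 3, 14⟩) (.one ⟨848, 4, 14⟩))) (.node 2 (.node 1 (.one ⟨7736, 4, 15⟩) (.one ⟨9811, 4, 15⟩)) (.node 1 (.one ⟨12789, 2, 16⟩) (.one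 ⟨6569, 5, 11⟩))))) (.node 8 (.node 4 (.node 2 (.node 1 (.one ⟨3899, 2, 15⟩) (.one ⟨10419, 4, 13⟩)) (.node 1 (.one ⟨12743, 6, 12⟩) (.one ⟨2523, 4, 11⟩))) (.node 2 (.node 1 (.one ⟨8266, 4, 16⟩) (.one ⟨10685, 3, 15⟩)) (.node 1 (.one ⟨13206, 6, 15⟩) (.one ⟨17044, 3, 15⟩)))) (.node 4 (.node 2 (.node 1 (.one ⟨989, 2, 15⟩) (.one ⟨16640, 6, 12⟩)) (.node 1 (.one ⟨898, 6, 13⟩) (.one ⟨17064, 4, 16⟩))) (.node 2 (.node 1 (.one ⟨3293, 4, 15⟩) (.one ⟨14380, 1, 14⟩)) (.node 1 (.one ⟨12542, 3, 13⟩) (.one ⟨2679, 5, 10⟩)))))))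
def par0_6_1 : Arr Par :=
  (.node 32 (.node 16 (.node 8 (.node 4 (.node 2 (.node 1 (.one ⟨7548, 5, 13⟩) (.one ⟨10515, 4, 15⟩)) (.node 1 (.one ⟨15133, 5, 15⟩) (.one ⟨125, 6, 16⟩))) (.node 2 (.node 1 (.one ⟨14300, 2, 16⟩) (.one ⟨10327, 6, 11⟩)) (.node 1 (.one ⟨2516, 2, 14⟩) (.one ⟨13145, 5, 13⟩)))) (.node 4 (.node 2 (.node 1 (.one ⟨11970, 5, 16⟩) (.one ⟨6925, 3, 13⟩)) (.node 1 (.one ⟨1063, 3, 13⟩) (.one ⟨14519, 6, 14⟩))) (.node 2 (.node 1 (.one ⟨15378, 4, 15⟩) (.one ⟨17030, 3, 13⟩)) (.node 1 (.one ⟨12589, 3, 14⟩) (.one ⟨15427, 3, 15⟩))))) (.node 8 (.node 4 (.node 2 (.node 1 (.one ⟨14949, 3, 15⟩) (.one ⟨14335, 1, 14⟩)) (.node 1 (.one ⟨14336, 1, 11⟩) (.one ⟨12750, 6, 16⟩))) (.node 2 (.node 1 (.one ⟨16368, 2, 15⟩) (.one ⟨2285, 6, 11⟩))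 (.node 1 (.one ⟨6352, 4, 11⟩) (.one ⟨11963, 5, 14⟩)))) (.node 4 (.node 2 (.node 1 (.one ⟨4476, 3, 14⟩) (.one ⟨96, 3, 13⟩)) (.node 1 (.one ⟨7313, 4, 13⟩) (.one ⟨16494, 5, 13⟩))) (.node 2 (.node 1 (.one ⟨6473, 6, 15⟩) (.one ⟨15380, 3, 14⟩)) (.node 1 (.one ⟨13108, 4, 16⟩) (.one ⟨10335, 6, 13⟩)))))) (.node 16 (.node 8 (.node 4 (.node 2 (.node 1 (.one ⟨5564, 0, 16⟩) (.one ⟨14041, 6, 14⟩)) (.node 1 (.one ⟨15632, 5, 12⟩) (.one ⟨6548, 6, 15⟩))) (.node 2 (.node 1 (.one ⟨5153, 6, 16⟩) (.one ⟨6543, 5, 13⟩)) (.node 1 (.one ⟨4024, 4, 16⟩) (.one ⟨17169, 2, 17⟩)))) (.node 4 (.node 2 (.node 1 (.one ⟨5046, 5, 16⟩) (.one ⟨16234, 5, 14⟩)) (.node 1 (.one ⟨8966, 3, 15⟩) (.one ⟨6923, 3, 14⟩))) (.node 2 (.node 1 (.one ⟨7620, 5, 14⟩) (.one ⟨14533, 6, 15⟩))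 (.node 1 (.one ⟨9096, 6, 11⟩) (.one ⟨2386, 4, 9⟩))))) (.node 8 (.node 4 (.node 2 (.node 1 (.one ⟨6520, 5, 9⟩) (.one ⟨2223, 6, 8⟩)) (.node 1 (.one ⟨14305, 1, 7⟩) (.one ⟨15104, 5, 15⟩))) (.node 2 (.node 1 (.one ⟨1042, 0, 12⟩) (.one ⟨12185, 4, 14⟩)) (.node 1 (.one ⟨15610, 5, 13⟩) (.one ⟨11321, 4, 15⟩)))) (.node 4 (.node 2 (.node 1 (.one ⟨161, 3, 12⟩) (.one ⟨5086, 5, 13⟩)) (.node 1 (.one ⟨3906, 5, 14⟩) (.one ⟨3559, 3, 16⟩))) (.node 2 (.node 1 (.one ⟨6483, 6, 13⟩) (.one ⟨4511, 3, 10⟩)) (.node 1 (.one ⟨750, 0, 15⟩) (.one ⟨2421, 4, 10⟩)))))))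
def par0_6_2 : Arr Par :=
  (.node 32 (.node 16 (.node 8 (.node 4 (.node 2 (.node 1 (.one ⟨8275, 4, 13⟩) (.one ⟨12288, 4, 14⟩)) (.node 1 (.one ⟨14425, 4, 13⟩) (.one ⟨2610, 3, 14⟩))) (.node 2 (.node 1 (.one ⟨15996, 2, 15⟩) (.one ⟨7596, 5, 13⟩)) (.node 1 (.one ⟨6148, 5, 13⟩) (.one ⟨9105, 6, 11⟩)))) (.node 4 (.node 2 (.node 1 (.one ⟨974, 3, 15⟩) (.one ⟨8131, 5, 14⟩)) (.node 1 (.one ⟨12771, 6, 12⟩) (.one ⟨13134, 5, 13⟩))) (.node 2 (.node 1 (.one ⟨10667, 0, 12⟩) (.one ⟨16473, 5, 15⟩)) (.node 1 (.one ⟨8776, 4, 16⟩) (.one ⟨10027, 5, 12⟩))))) (.node 8 (.node 4 (.node 2 (.node 1 (.one ⟨10722, 3, 12⟩) (.one ⟨14274, 1, 15⟩)) (.node 1 (.one ⟨14271, 1, 14⟩) (.one ⟨3450, 5, 16⟩))) (.node 2 (.node 1 (.one ⟨14347, 2, 16⟩) (.one ⟨9847, 3, 13⟩))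 (.node 1 (.one ⟨14607, 5, 11⟩) (.one ⟨6915, 3, 14⟩)))) (.node 4 (.node 2 (.node 1 (.one ⟨711, 3, 16⟩) (.one ⟨12866, 5, 15⟩)) (.node 1 (.one ⟨7236, 4, 14⟩) (.one ⟨16991, 5, 15⟩))) (.node 2 (.node 1 (.one ⟨16183, 5, 14⟩) (.one ⟨13104, 5, 14⟩)) (.node 1 (.one ⟨12007, 5, 16⟩) (.one ⟨3473, 5, 16⟩)))))) (.node 16 (.node 8 (.node 4 (.node 2 (.node 1 (.one ⟨15616, 5, 12⟩) (.one ⟨1943, 5, 12⟩)) (.node 1 (.one ⟨14217, 5, 13⟩) (.one ⟨7045, 5, 15⟩))) (.node 2 (.node 1 (.one ⟨14258, 1, 15⟩) (.one ⟨6531, 5, 15⟩)) (.node 1 (.one ⟨14259, 1, 10⟩) (.one ⟨12529, 3, 13⟩)))) (.node 4 (.node 2 (.node 1 (.one ⟨5235, 4, 16⟩) (.one ⟨7301, 4, 15⟩)) (.node 1 (.one ⟨12767, 6, 14⟩) (.one ⟨12873, 5, 16⟩))) (.node 2 (.node 1 (.one ⟨15455, 4, 15⟩) (.one ⟨2029,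 0, 15⟩)) (.node 1 (.one ⟨8416, 5, 16⟩) (.one ⟨14428, 1, 14⟩))))) (.node 8 (.node 4 (.node 2 (.node 1 (.one ⟨8260, 5, 10⟩) (.one ⟨10571, 5, 13⟩)) (.node 1 (.one ⟨908, 6, 11⟩) (.one ⟨14436, 4, 14⟩))) (.node 2 (.node 1 (.one ⟨9312, 2, 10⟩) (.one ⟨11488, 2, 16⟩)) (.node 1 (.one ⟨13370, 4, 16⟩) (.one ⟨14581, 5, 13⟩)))) (.node 4 (.node 2 (.node 1 (.one ⟨10019, 6, 15⟩) (.one ⟨15058, 3, 13⟩)) (.node 1 (.one ⟨8918, 4, 16⟩) (.one ⟨9258, 2, 10⟩))) (.node 2 (.node 1 (.one ⟨6139, 5, 13⟩) (.one ⟨6686, 6, 16⟩)) (.node 1 (.one ⟨8268, 5, 12⟩) (.one ⟨8281, 5, 14⟩)))))))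
def par0_6_3 : Arr Par :=
  (.node 32 (.node 16 (.node 8 (.node 4 (.node 2 (.node 1 (.one ⟨16959, 4, 16⟩) (.one ⟨14325, 4, 15⟩)) (.node 1 (.one ⟨6160, 5, 13⟩) (.one ⟨10632, 6, 14⟩))) (.node 2 (.node 1 (.one ⟨13460, 3, 13⟩) (.one ⟨16100, 5, 16⟩)) (.node 1 (.one ⟨6657, 6, 15⟩) (.one ⟨2585, 5, 14⟩)))) (.node 4 (.node 2 (.node 1 (.one ⟨2646, 3, 14⟩) (.one ⟨414, 2, 13⟩)) (.node 1 (.one ⟨8271, 5, 9⟩) (.one ⟨14636, 5, 12⟩))) (.node 2 (.node 1 (.one ⟨14216, 5, 15⟩) (.one ⟨11840, 5, 13⟩)) (.node 1 (.one ⟨454, 2, 14⟩) (.one ⟨7092, 3, 9⟩))))) (.node 8 (.node 4 (.node 2 (.node 1 (.one ⟨9616, 2, 10⟩) (.one ⟨10281, 5, 14⟩)) (.node 1 (.one ⟨14946, 6, 14⟩) (.one ⟨12730, 2, 17⟩))) (.node 2 (.node 1 (.one ⟨6559, 5, 13⟩) (.one ⟨14199, 5, 11⟩)) (.node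 1 (.one ⟨8507, 2, 16⟩) (.one ⟨6191, 4, 12⟩)))) (.node 4 (.node 2 (.node 1 (.one ⟨11059, 2, 16⟩) (.one ⟨5777, 2, 14⟩)) (.node 1 (.one ⟨11466, 2, 16⟩) (.one ⟨13364, 3, 13⟩))) (.node 2 (.node 1 (.one ⟨16285, 3, 15⟩) (.one ⟨2552, 6, 13⟩)) (.node 1 (.one ⟨15568, 6, 14⟩) (.one ⟨14408, 1, 10⟩)))))) (.node 16 (.node 8 (.node 4 (.node 2 (.node 1 (.one ⟨2568, 6, 8⟩) (.one ⟨16056, 5, 14⟩)) (.node 1 (.one ⟨16321, 5, 8⟩) (.one ⟨6521, 5, 2⟩))) (.node 2 (.node 1 (.one ⟨6152, 5, 9⟩) (.one ⟨11887, 5, 13⟩)) (.node 1 (.one ⟨14764, 6, 14⟩) (.one ⟨16155, 2, 15⟩)))) (.node 4 (.node 2 (.node 1 (.one ⟨14393, 4, 15⟩) (.one ⟨8904, 4, 17⟩)) (.node 1 (.one ⟨10647, 5, 12⟩) (.one ⟨10573, 6, 10⟩))) (.node 2 (.node 1 (.one ⟨14406, 1, 13⟩) (.one ⟨14400, 1, 14⟩))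 (.node 1 (.one ⟨14403, 1, 10⟩) (.one ⟨5986, 3, 12⟩))))) (.node 8 (.node 4 (.node 2 (.node 1 (.one ⟨15472, 6, 13⟩) (.one ⟨15030, 3, 16⟩)) (.node 1 (.one ⟨12772, 3, 13⟩) (.one ⟨10882, 3, 10⟩))) (.node 2 (.node 1 (.one ⟨10472, 6, 14⟩) (.one ⟨691, 3, 13⟩)) (.node 1 (.one ⟨16222, 5, 15⟩) (.one ⟨1809, 6, 17⟩)))) (.node 4 (.node 2 (.node 1 (.one ⟨5871, 5, 13⟩) (.one ⟨1707, 5, 12⟩)) (.node 1 (.one ⟨5501, 4, 16⟩) (.one ⟨14872, 6, 13⟩))) (.node 2 (.node 1 (.one ⟨14098, 3, 13⟩) (.one ⟨8086, 3, 16⟩)) (.node 1 (.one ⟨15507, 6, 12⟩) (.one ⟨15630, 4, 15⟩)))))))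
def par0_6_4 : Arr Par :=
  (.node 32 (.node 16 (.node 8 (.node 4 (.node 2 (.node 1 (.one ⟨10194, 2, 15⟩) (.one ⟨8157, 5, 14⟩)) (.node 1 (.one ⟨3335, 6, 13⟩) (.one ⟨3962, 4, 16⟩))) (.node 2 (.node 1 (.one ⟨2839, 3, 14⟩) (.one ⟨1042, 3, 12⟩)) (.node 1 (.one ⟨15512, 6, 15⟩) (.one ⟨11339, 6, 15⟩)))) (.node 4 (.node 2 (.node 1 (.one ⟨2672, 4, 13⟩) (.one ⟨6392, 6, 14⟩)) (.node 1 (.one ⟨8556, 3, 15⟩) (.one ⟨4007, 4, 15⟩))) (.node 2 (.node 1 (.one ⟨6553, 0, 14⟩) (.one ⟨11252, 4, 15⟩)) (.node 1 (.one ⟨14016, 5, 13⟩) (.one ⟨15651, 4, 16⟩))))) (.node 8 (.node 4 (.node 2 (.node 1 (.one ⟨5942, 3, 11⟩) (.one ⟨1591, 5, 14⟩)) (.node 1 (.one ⟨15501, 6, 11⟩) (.one ⟨2410, 6, 15⟩))) (.node 2 (.node 1 (.one ⟨8063, 3, 13⟩) (.one ⟨6409, 6, 15⟩)) (.node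 1 (.one ⟨5954, 5, 12⟩) (.one ⟨4408, 5, 13⟩)))) (.node 4 (.node 2 (.node 1 (.one ⟨15531, 6, 13⟩) (.one ⟨12027, 4, 16⟩)) (.node 1 (.one ⟨14086, 3, 13⟩) (.one ⟨6443, 6, 13⟩))) (.node 2 (.node 1 (.one ⟨11292, 4, 15⟩) (.one ⟨8569, 3, 16⟩)) (.node 1 (.one ⟨14461, 1, 16⟩) (.one ⟨10237, 5, 13⟩)))))) (.node 16 (.node 8 (.node 4 (.node 2 (.node 1 (.one ⟨3846, 0, 14⟩) (.one ⟨12046, 4, 16⟩)) (.node 1 (.one ⟨2441, 6, 11⟩) (.one ⟨2832, 3, 11⟩))) (.node 2 (.node 1 (.one ⟨12516, 5, 17⟩) (.one ⟨12158, 0, 13⟩)) (.node 1 (.one ⟨6003, 3, 12⟩) (.one ⟨3228, 4, 15⟩)))) (.node 4 (.node 2 (.node 1 (.one ⟨14021, 3, 13⟩) (.one ⟨14111, 2, 14⟩)) (.node 1 (.one ⟨8504, 3, 16⟩) (.one ⟨10898, 3, 12⟩))) (.node 2 (.node 1 (.one ⟨13850, 6, 16⟩) (.one ⟨2206, 5, 14⟩))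 (.node 1 (.one ⟨8326, 4, 17⟩) (.one ⟨2291, 6, 14⟩))))) (.node 8 (.node 4 (.node 2 (.node 1 (.one ⟨14538, 1, 15⟩) (.one ⟨7632, 5, 15⟩)) (.node 1 (.one ⟨10186, 5, 16⟩) (.one ⟨13976, 5, 14⟩))) (.node 2 (.node 1 (.one ⟨3658, 5, 15⟩) (.one ⟨3539, 5, 14⟩)) (.node 1 (.one ⟨14542, 1, 12⟩) (.one ⟨6771, 2, 11⟩)))) (.node 4 (.node 2 (.node 1 (.one ⟨13857, 3, 15⟩) (.one ⟨9915, 2, 16⟩)) (.node 1 (.one ⟨2124, 5, 15⟩) (.one ⟨5914, 5, 15⟩))) (.node 2 (.node 1 (.one ⟨3648, 5, 16⟩) (.one ⟨8822, 4, 13⟩)) (.node 1 (.one ⟨2322, 6, 13⟩) (.one ⟨5969, 5, 13⟩)))))))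
def par0_6_5 : Arr Par :=
  (.node 32 (.node 16 (.node 8 (.node 4 (.node 2 (.node 1 (.one ⟨16476, 3, 13⟩) (.one ⟨13884, 5, 14⟩)) (.node 1 (.one ⟨13797, 3, 15⟩) (.one ⟨5254, 4, 17⟩))) (.node 2 (.node 1 (.one ⟨2331, 6, 12⟩) (.one ⟨14885, 3, 15⟩)) (.node 1 (.one ⟨10798, 4, 15⟩) (.one ⟨14651, 6, 15⟩)))) (.node 4 (.node 2 (.node 1 (.one ⟨5792, 3, 13⟩) (.one ⟨3367, 3, 14⟩)) (.node 1 (.one ⟨1587, 5, 15⟩) (.one ⟨16466, 3, 15⟩))) (.node 2 (.node 1 (.one ⟨2549, 6, 16⟩) (.one ⟨2222, 5, 14⟩)) (.node 1 (.one ⟨8366, 4, 12⟩) (.one ⟨8309, 4, 11⟩))))) (.node 8 (.node 4 (.node 2 (.node 1 (.one ⟨16883, 4, 16⟩) (.one ⟨10542, 3, 16⟩)) (.node 1 (.one ⟨3666, 5, 13⟩) (.one ⟨5896, 5, 12⟩))) (.node 2 (.node 1 (.one ⟨14574, 1, 13⟩) (.one ⟨14513, 4, 15⟩))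 (.node 1 (.one ⟨3516, 5, 13⟩) (.one ⟨7339, 6, 15⟩)))) (.node 4 (.node 2 (.node 1 (.one ⟨2726, 4, 14⟩) (.one ⟨3348, 4, 14⟩)) (.node 1 (.one ⟨13111, 3, 12⟩) (.one ⟨4090, 2, 15⟩))) (.node 2 (.node 1 (.one ⟨449, 6, 14⟩) (.one ⟨6590, 6, 16⟩)) (.node 1 (.one ⟨7053, 2, 12⟩) (.one ⟨1902, 6, 16⟩)))))) (.node 16 (.node 8 (.node 4 (.node 2 (.node 1 (.one ⟨3944, 2, 12⟩) (.one ⟨14832, 3, 16⟩)) (.node 1 (.one ⟨8324, 4, 14⟩) (.one ⟨5869, 5, 15⟩))) (.node 2 (.node 1 (.one ⟨15713, 3, 12⟩) (.one ⟨2350, 6, 13⟩)) (.node 1 (.one ⟨3547, 5, 13⟩) (.one ⟨11734, 5, 16⟩)))) (.node 4 (.node 2 (.node 1 (.one ⟨15661, 6, 12⟩) (.one ⟨15183, 2, 15⟩)) (.node 1 (.one ⟨11571, 5, 15⟩) (.one ⟨16105, 5, 16⟩))) (.node 2 (.node 1 (.one ⟨10445, 3, 15⟩) (.one ⟨2311, 6, 11⟩))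 (.node 1 (.one ⟨6593, 6, 16⟩) (.one ⟨3496, 4, 16⟩))))) (.node 8 (.node 4 (.node 2 (.node 1 (.one ⟨14598, 1, 17⟩) (.one ⟨6226, 4, 12⟩)) (.node 1 (.one ⟨14393, 6, 15⟩) (.one ⟨13746, 6, 14⟩))) (.node 2 (.node 1 (.one ⟨9838, 6, 12⟩) (.one ⟨7391, 6, 13⟩)) (.node 1 (.one ⟨3275, 6, 17⟩) (.one ⟨2730, 4, 10⟩)))) (.node 4 (.node 2 (.node 1 (.one ⟨6258, 4, 8⟩) (.one ⟨2728, 5, 1⟩)) (.node 1 (.one ⟨5783, 6, 7⟩) (.one ⟨11867, 5, 14⟩))) (.node 2 (.node 1 (.one ⟨374, 0, 14⟩) (.one ⟨12484, 5, 9⟩)) (.node 1 (.one ⟨11709, 5, 12⟩) (.one ⟨10771, 4, 13⟩)))))))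
def par0_6_6 : Arr Par :=
  (.node 32 (.node 16 (.node 8 (.node 4 (.node 2 (.node 1 (.one ⟨10022, 5, 10⟩) (.one ⟨14582, 1, 16⟩)) (.node 1 (.one ⟨3662, 5, 15⟩) (.one ⟨14292, 4, 14⟩))) (.node 2 (.node 1 (.one ⟨10783, 5, 13⟩) (.one ⟨15269, 4, 16⟩)) (.node 1 (.one ⟨4424, 5, 12⟩) (.one ⟨10215, 5, 15⟩)))) (.node 4 (.node 2 (.node 1 (.one ⟨11731, 5, 16⟩) (.one ⟨11187, 3, 14⟩)) (.node 1 (.one ⟨15916, 3, 13⟩) (.one ⟨2720, 5, 15⟩))) (.node 2 (.node 1 (.one ⟨8301, 3, 15⟩) (.one ⟨2436, 6, 15⟩)) (.node 1 (.one ⟨12489, 5, 12⟩) (.one ⟨14273, 4, 12⟩))))) (.node 8 (.node 4 (.node 2 (.node 1 (.one ⟨11151, 3, 12⟩) (.one ⟨14788, 6, 15⟩)) (.node 1 (.one ⟨7754, 3, 13⟩) (.one ⟨2685, 4, 12⟩))) (.node 2 (.node 1 (.one ⟨5777, 6, 14⟩) (.one ⟨12470, 5, 13⟩))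 (.node 1 (.one ⟨12302, 5, 17⟩) (.one ⟨2556, 5, 14⟩)))) (.node 4 (.node 2 (.node 1 (.one ⟨6826, 6, 17⟩) (.one ⟨14634, 1, 13⟩)) (.node 1 (.one ⟨14794, 3, 14⟩) (.one ⟨9981, 5, 9⟩))) (.node 2 (.node 1 (.one ⟨12234, 5, 15⟩) (.one ⟨10780, 5, 12⟩)) (.node 1 (.one ⟨11896, 5, 15⟩) (.one ⟨14636, 4, 12⟩)))))) (.node 16 (.node 8 (.node 4 (.node 2 (.node 1 (.one ⟨6207, 4, 11⟩) (.one ⟨15502, 2, 11⟩)) (.node 1 (.one ⟨4235, 5, 13⟩) (.one ⟨11519, 4, 16⟩))) (.node 2 (.node 1 (.one ⟨11748, 5, 17⟩) (.one ⟨11843, 3, 14⟩)) (.node 1 (.one ⟨9426, 2, 9⟩) (.one ⟨13776, 6, 12⟩)))) (.node 4 (.node 2 (.node 1 (.one ⟨17102, 2, 16⟩) (.one ⟨14618, 1, 10⟩)) (.node 1 (.one ⟨14620, 1, 16⟩) (.one ⟨11124, 3, 13⟩))) (.node 2 (.node 1 (.one ⟨3770, 5, 16⟩) (.one ⟨1722,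 6, 16⟩)) (.node 1 (.one ⟨14616, 1, 14⟩) (.one ⟨10083, 5, 15⟩))))) (.node 8 (.node 4 (.node 2 (.node 1 (.one ⟨4531, 4, 9⟩) (.one ⟨3197, 6, 12⟩)) (.node 1 (.one ⟨727, 4, 11⟩) (.one ⟨2995, 4, 4⟩))) (.node 2 (.node 1 (.one ⟨14946, 5, 14⟩) (.one ⟨1970, 3, 10⟩)) (.node 1 (.one ⟨5811, 3, 17⟩) (.one ⟨14947, 5, 16⟩)))) (.node 4 (.node 2 (.node 1 (.one ⟨10092, 5, 15⟩) (.one ⟨3824, 4, 12⟩)) (.node 1 (.one ⟨6689, 6, 15⟩) (.one ⟨16291, 5, 11⟩))) (.node 2 (.node 1 (.one ⟨11129, 4, 13⟩) (.one ⟨6616, 1, 16⟩)) (.node 1 (.one ⟨12712, 4, 15⟩) (.one ⟨1509, 4, 15⟩)))))))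
def par0_6_7 : Arr Par :=
  (.node 32 (.node 16 (.node 8 (.node 4 (.node 2 (.node 1 (.one ⟨4334, 6, 13⟩) (.one ⟨13973, 3, 15⟩)) (.node 1 (.one ⟨6615, 3, 15⟩) (.one ⟨11078, 4, 15⟩))) (.node 2 (.node 1 (.one ⟨4563, 4, 14⟩) (.one ⟨6630, 1, 16⟩)) (.node 1 (.one ⟨14731, 6, 14⟩) (.one ⟨11293, 6, 14⟩)))) (.node 4 (.node 2 (.node 1 (.one ⟨1503, 4, 16⟩) (.one ⟨9065, 6, 12⟩)) (.node 1 (.one ⟨14757, 3, 13⟩) (.one ⟨12642, 4, 10⟩))) (.node 2 (.node 1 (.one ⟨10082, 3, 13⟩) (.one ⟨15957, 6, 15⟩)) (.node 1 (.one ⟨11084, 2, 16⟩) (.one ⟨3788, 4, 16⟩))))) (.node 8 (.node 4 (.node 2 (.node 1 (.one ⟨290, 4, 12⟩) (.one ⟨3095, 4, 3⟩)) (.node 1 (.one ⟨4650, 4, 16⟩) (.one ⟨4549, 4, 10⟩))) (.node 2 (.node 1 (.one ⟨11274, 6, 11⟩) (.one ⟨14949, 5, 15⟩)) (.node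 1 (.one ⟨2076, 3, 11⟩) (.one ⟨11091, 4, 14⟩)))) (.node 4 (.node 2 (.node 1 (.one ⟨13423, 2, 15⟩) (.one ⟨8204, 5, 12⟩)) (.node 1 (.one ⟨12699, 4, 16⟩) (.one ⟨5790, 3, 15⟩))) (.node 2 (.node 1 (.one ⟨3807, 4, 13⟩) (.one ⟨11011, 3, 16⟩)) (.node 1 (.one ⟨6659, 6, 14⟩) (.one ⟨4581, 4, 15⟩)))))) (.node 16 (.node 8 (.node 4 (.node 2 (.node 1 (.one ⟨12413, 6, 12⟩) (.one ⟨11178, 4, 16⟩)) (.node 1 (.one ⟨1508, 4, 14⟩) (.one ⟨6588, 3, 14⟩))) (.node 2 (.node 1 (.one ⟨14762, 6, 13⟩) (.one ⟨5538, 5, 14⟩)) (.node 1 (.one ⟨12124, 2, 15⟩) (.one ⟨12623, 4, 11⟩)))) (.node 4 (.node 2 (.node 1 (.one ⟨14945, 5, 16⟩) (.one ⟨14720, 3, 12⟩)) (.node 1 (.one ⟨15956, 6, 14⟩) (.one ⟨16414, 5, 15⟩))) (.node 2 (.node 1 (.one ⟨10124, 3, 12⟩) (.one ⟨14379, 6, 17⟩))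 (.node 1 (.one ⟨17112, 6, 13⟩) (.one ⟨5566, 5, 15⟩))))) (.node 8 (.node 4 (.node 2 (.node 1 (.one ⟨6674, 1, 15⟩) (.one ⟨11840, 6, 13⟩)) (.node 1 (.one ⟨12874, 4, 16⟩) (.one ⟨1971, 3, 9⟩))) (.node 2 (.node 1 (.one ⟨17164, 3, 9⟩) (.one ⟨6966, 6, 10⟩)) (.node 1 (.one ⟨4852, 4, 10⟩) (.one ⟨12592, 4, 14⟩)))) (.node 4 (.node 2 (.node 1 (.one ⟨2065, 3, 13⟩) (.one ⟨10441, 6, 14⟩)) (.node 1 (.one ⟨12526, 2, 16⟩) (.one ⟨4028, 6, 13⟩))) (.node 2 (.node 1 (.one ⟨666, 4, 14⟩) (.one ⟨2060, 2, 13⟩)) (.node 1 (.one ⟨3008, 3, 16⟩) (.one ⟨264, 4, 14⟩)))))))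
def par0_6_8 : Arr Par :=
  (.node 32 (.node 16 (.node 8 (.node 4 (.node 2 (.node 1 (.one ⟨2412, 6, 15⟩) (.one ⟨4694, 5, 14⟩)) (.node 1 (.one ⟨16544, 5, 15⟩) (.one ⟨4592, 4, 13⟩))) (.node 2 (.node 1 (.one ⟨7466, 6, 16⟩) (.one ⟨7387, 5, 15⟩)) (.node 1 (.one ⟨10037, 3, 14⟩) (.one ⟨9104, 3, 14⟩)))) (.node 4 (.node 2 (.node 1 (.one ⟨8325, 3, 17⟩) (.one ⟨14664, 3, 15⟩)) (.node 1 (.one ⟨13661, 3, 14⟩) (.one ⟨14207, 0, 10⟩))) (.node 2 (.node 1 (.one ⟨16276, 5, 16⟩) (.one ⟨16656, 0, 13⟩)) (.node 1 (.one ⟨10129, 3, 12⟩) (.one ⟨4863, 4, 11⟩))))) (.node 8 (.node 4 (.node 2 (.node 1 (.one ⟨9790, 4, 15⟩) (.one ⟨6981, 6, 11⟩)) (.node 1 (.one ⟨15233, 2, 14⟩) (.one ⟨12850, 4, 15⟩))) (.node 2 (.node 1 (.one ⟨2078, 3, 10⟩) (.one ⟨11920, 6, 14⟩))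 (.node 1 (.one ⟨9078, 3, 10⟩) (.one ⟨1982, 3, 12⟩)))) (.node 4 (.node 2 (.node 1 (.one ⟨5989, 0, 15⟩) (.one ⟨2365, 6, 15⟩)) (.node 1 (.one ⟨12110, 6, 12⟩) (.one ⟨1623, 4, 14⟩))) (.node 2 (.node 1 (.one ⟨12610, 4, 15⟩) (.one ⟨943, 5, 15⟩)) (.node 1 (.one ⟨8362, 3, 15⟩) (.one ⟨15498, 6, 15⟩)))))) (.node 16 (.node 8 (.node 4 (.node 2 (.node 1 (.one ⟨10457, 6, 14⟩) (.one ⟨4608, 4, 14⟩)) (.node 1 (.one ⟨810, 4, 13⟩) (.one ⟨4688, 5, 13⟩))) (.node 2 (.node 1 (.one ⟨15409, 5, 16⟩) (.one ⟨16515, 5, 14⟩)) (.node 1 (.one ⟨10137, 3, 13⟩) (.one ⟨8187, 5, 16⟩)))) (.node 4 (.node 2 (.node 1 (.one ⟨12466, 0, 12⟩) (.one ⟨2381, 6, 14⟩)) (.node 1 (.one ⟨299, 4, 14⟩) (.one ⟨11164, 2, 15⟩))) (.node 2 (.node 1 (.one ⟨3812, 6, 17⟩) (.one ⟨11127, 0, 11⟩))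 (.node 1 (.one ⟨10043, 3, 13⟩) (.one ⟨6812, 1, 15⟩))))) (.node 8 (.node 4 (.node 2 (.node 1 (.one ⟨11249, 3, 16⟩) (.one ⟨12624, 2, 14⟩)) (.node 1 (.one ⟨4953, 3, 13⟩) (.one ⟨9892, 2, 12⟩))) (.node 2 (.node 1 (.one ⟨16513, 5, 13⟩) (.one ⟨6809, 1, 8⟩)) (.node 1 (.one ⟨4984, 3, 15⟩) (.one ⟨13436, 5, 15⟩)))) (.node 4 (.node 2 (.node 1 (.one ⟨13631, 3, 17⟩) (.one ⟨16321, 3, 8⟩)) (.node 1 (.one ⟨4982, 3, 11⟩) (.one ⟨4915, 3, 10⟩))) (.node 2 (.node 1 (.one ⟨2895, 5, 12⟩) (.one ⟨12018, 5, 16⟩)) (.node 1 (.one ⟨6804, 1, 15⟩) (.one ⟨13437, 5, 13⟩)))))))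
def par0_6_9 : Arr Par :=
  (.node 32 (.node 16 (.node 8 (.node 4 (.node 2 (.node 1 (.one ⟨15546, 5, 13⟩) (.one ⟨11120, 4, 16⟩)) (.node 1 (.one ⟨7156, 5, 15⟩) (.one ⟨7707, 5, 9⟩))) (.node 2 (.node 1 (.one ⟨288, 5, 15⟩) (.one ⟨10944, 3, 13⟩)) (.node 1 (.one ⟨12810, 2, 16⟩) (.one ⟨15942, 5, 14⟩)))) (.node 4 (.node 2 (.node 1 (.one ⟨9227, 6, 13⟩) (.one ⟨14576, 3, 12⟩)) (.node 1 (.one ⟨4531, 2, 9⟩) (.one ⟨13175, 5, 15⟩))) (.node 2 (.node 1 (.one ⟨12444, 6, 16⟩) (.one ⟨6822, 1, 12⟩)) (.node 1 (.one ⟨979, 4, 13⟩) (.one ⟨9222, 6, 15⟩))))) (.node 8 (.node 4 (.node 2 (.node 1 (.one ⟨14925, 4, 11⟩) (.one ⟨5386, 5, 12⟩)) (.node 1 (.one ⟨6778, 1, 11⟩) (.one ⟨7671, 3, 15⟩))) (.node 2 (.node 1 (.one ⟨15769, 5, 15⟩) (.one ⟨5110, 5, 15⟩)) (.node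 1 (.one ⟨4362, 6, 15⟩) (.one ⟨7471, 5, 10⟩)))) (.node 4 (.node 2 (.node 1 (.one ⟨7701, 5, 11⟩) (.one ⟨724, 4, 13⟩)) (.node 1 (.one ⟨14604, 3, 11⟩) (.one ⟨15938, 5, 14⟩))) (.node 2 (.node 1 (.one ⟨15766, 4, 14⟩) (.one ⟨13171, 5, 17⟩)) (.node 1 (.one ⟨14573, 3, 16⟩) (.one ⟨7092, 6, 9⟩)))))) (.node 16 (.node 8 (.node 4 (.node 2 (.node 1 (.one ⟨3959, 5, 14⟩) (.one ⟨422, 4, 15⟩)) (.node 1 (.one ⟨8450, 5, 11⟩) (.one ⟨11278, 3, 16⟩))) (.node 2 (.node 1 (.one ⟨6791, 1, 14⟩) (.one ⟨12315, 6, 16⟩)) (.node 1 (.one ⟨16121, 4, 14⟩) (.one ⟨13156, 0, 11⟩)))) (.node 4 (.node 2 (.node 1 (.one ⟨5639, 3, 12⟩) (.one ⟨16525, 5, 14⟩)) (.node 1 (.one ⟨5593, 3, 15⟩) (.one ⟨16131, 4, 15⟩))) (.node 2 (.node 1 (.one ⟨13097, 3, 14⟩) (.one ⟨16318, 3, 13⟩))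 (.node 1 (.one ⟨14566, 5, 14⟩) (.one ⟨563, 4, 12⟩))))) (.node 8 (.node 4 (.node 2 (.node 1 (.one ⟨15936, 5, 15⟩) (.one ⟨15566, 5, 9⟩)) (.node 1 (.one ⟨7605, 3, 16⟩) (.one ⟨6525, 3, 10⟩))) (.node 2 (.node 1 (.one ⟨15734, 4, 15⟩) (.one ⟨7670, 5, 10⟩)) (.node 1 (.one ⟨9220, 6, 16⟩) (.one ⟨8717, 4, 15⟩)))) (.node 4 (.node 2 (.node 1 (.one ⟨9221, 6, 16⟩) (.one ⟨2996, 4, 16⟩)) (.node 1 (.one ⟨3701, 2, 10⟩) (.one ⟨13403, 5, 13⟩))) (.node 2 (.node 1 (.one ⟨12378, 6, 16⟩) (.one ⟨14923, 4, 12⟩)) (.node 1 (.one ⟨650, 4, 15⟩) (.one ⟨4628, 0, 14⟩)))))))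
def par0_6_10 : Arr Par :=
  (.node 32 (.node 16 (.node 8 (.node 4 (.node 2 (.node 1 (.one ⟨16552, 5, 13⟩) (.one ⟨15756, 0, 10⟩)) (.node 1 (.one ⟨6494, 5, 13⟩) (.one ⟨8268, 3, 12⟩))) (.node 2 (.node 1 (.one ⟨5678, 3, 13⟩) (.one ⟨5560, 3, 16⟩)) (.node 1 (.one ⟨10930, 5, 15⟩) (.one ⟨10379, 2, 13⟩)))) (.node 4 (.node 2 (.node 1 (.one ⟨8483, 5, 12⟩) (.one ⟨12032, 5, 13⟩)) (.node 1 (.one ⟨16137, 4, 15⟩) (.one ⟨739, 4, 14⟩))) (.node 2 (.node 1 (.one ⟨3193, 3, 16⟩) (.one ⟨4604, 2, 16⟩)) (.node 1 (.one ⟨15265, 6, 10⟩) (.one ⟨7977, 5, 17⟩))))) (.node 8 (.node 4 (.node 2 (.node 1 (.one ⟨2870, 5, 13⟩) (.one ⟨4948, 3, 11⟩)) (.node 1 (.one ⟨11269, 3, 15⟩) (.one ⟨5014, 3, 12⟩))) (.node 2 (.node 1 (.one ⟨14739, 2, 14⟩) (.one ⟨13735, 3, 15⟩)) (.node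 1 (.one ⟨8240, 3, 9⟩) (.one ⟨5017, 3, 16⟩)))) (.node 4 (.node 2 (.node 1 (.one ⟨4318, 2, 14⟩) (.one ⟨1290, 2, 7⟩)) (.node 1 (.one ⟨13013, 2, 14⟩) (.one ⟨16550, 5, 14⟩))) (.node 2 (.node 1 (.one ⟨17109, 2, 14⟩) (.one ⟨14749, 2, 13⟩)) (.node 1 (.one ⟨5340, 5, 16⟩) (.one ⟨12, 4, 14⟩)))))) (.node 16 (.node 8 (.node 4 (.node 2 (.node 1 (.one ⟨9228, 6, 14⟩) (.one ⟨5093, 3, 16⟩)) (.node 1 (.one ⟨6730, 1, 10⟩) (.one ⟨6534, 3, 13⟩))) (.node 2 (.node 1 (.one ⟨5126, 5, 16⟩) (.one ⟨15940, 5, 15⟩)) (.node 1 (.one ⟨9172, 2, 11⟩) (.one ⟨7673, 5, 10⟩)))) (.node 4 (.node 2 (.node 1 (.one ⟨10982, 3, 14⟩) (.one ⟨7492, 5, 14⟩)) (.node 1 (.one ⟨15205, 5, 16⟩) (.one ⟨5351, 5, 12⟩))) (.node 2 (.node 1 (.one ⟨11099, 4, 15⟩) (.one ⟨1033, 4, 16⟩)) (.node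 1 (.one ⟨9223, 6, 15⟩) (.one ⟨8791, 6, 15⟩))))) (.node 8 (.node 4 (.node 2 (.node 1 (.one ⟨5001, 5, 15⟩) (.one ⟨16840, 6, 15⟩)) (.node 1 (.one ⟨8858, 6, 16⟩) (.one ⟨5038, 5, 16⟩))) (.node 2 (.node 1 (.one ⟨16893, 6, 16⟩) (.one ⟨16828, 6, 15⟩)) (.node 1 (.one ⟨8877, 6, 16⟩) (.one ⟨8760, 6, 14⟩)))) (.node 4 (.node 2 (.node 1 (.one ⟨7171, 3, 14⟩) (.one ⟨6843, 1, 12⟩)) (.node 1 (.one ⟨7157, 3, 6⟩) (.one ⟨2998, 2, 11⟩))) (.node 2 (.node 1 (.one ⟨15199, 3, 7⟩) (.one ⟨16926, 6, 15⟩)) (.node 1 (.one ⟨15190, 3, 13⟩) (.one ⟨16422, 5, 17⟩)))))))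
def par0_6_11 : Arr Par :=
  (.node 32 (.node 16 (.node 8 (.node 4 (.node 2 (.node 1 (.one ⟨11140, 4, 17⟩) (.one ⟨16576, 3, 17⟩)) (.node 1 (.one ⟨3295, 2, 16⟩) (.one ⟨16403, 5, 14⟩))) (.node 2 (.node 1 (.one ⟨8330, 5, 17⟩) (.one ⟨8360, 5, 13⟩)) (.node 1 (.one ⟨4494, 0, 18⟩) (.one ⟨16391, 5, 5⟩)))) (.node 4 (.node 2 (.node 1 (.one ⟨8352, 5, 13⟩) (.one ⟨8305, 5, 4⟩)) (.node 1 (.one ⟨16409, 5, 14⟩) (.one ⟨3014, 2, 14⟩))) (.node 2 (.node 1 (.one ⟨16672, 3, 15⟩) (.one ⟨6859, 1, 15⟩)) (.node 1 (.one ⟨16662, 3, 14⟩) (.one ⟨13863, 4, 13⟩))))) (.node 8 (.node 4 (.node 2 (.node 1 (.one ⟨15583, 5, 15⟩) (.one ⟨10618, 2, 15⟩)) (.node 1 (.one ⟨7529, 5, 15⟩) (.one ⟨7515, 5, 16⟩))) (.node 2 (.node 1 (.one ⟨13759, 4, 13⟩) (.one ⟨15574, 5, 15⟩))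 (.node 1 (.one ⟨6865, 1, 16⟩) (.one ⟨15578, 5, 14⟩)))) (.node 4 (.node 2 (.node 1 (.one ⟨7476, 5, 13⟩) (.one ⟨5766, 4, 17⟩)) (.node 1 (.one ⟨5707, 4, 15⟩) (.one ⟨7524, 5, 15⟩))) (.node 2 (.node 1 (.one ⟨15559, 5, 12⟩) (.one ⟨16284, 2, 17⟩)) (.node 1 (.one ⟨5798, 4, 16⟩) (.one ⟨15292, 2, 15⟩)))))) (.node 16 (.node 8 (.node 4 (.node 2 (.node 1 (.one ⟨5310, 3, 12⟩) (.one ⟨12161, 0, 14⟩)) (.node 1 (.one ⟨7710, 5, 16⟩) (.one ⟨2272, 2, 15⟩))) (.node 2 (.node 1 (.one ⟨8577, 0, 15⟩) (.one ⟨13484, 3, 13⟩)) (.node 1 (.one ⟨6879, 1, 16⟩) (.one ⟨8713, 4, 13⟩)))) (.node 4 (.node 2 (.node 1 (.one ⟨7666, 5, 14⟩) (.one ⟨8726, 4, 17⟩)) (.node 1 (.one ⟨5420, 3, 13⟩) (.one ⟨13373, 3, 12⟩))) (.node 2 (.node 1 (.one ⟨8737, 4, 17⟩) (.one ⟨7698, 5, 15⟩))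 (.node 1 (.one ⟨8698, 4, 14⟩) (.one ⟨5129, 5, 15⟩))))) (.node 8 (.node 4 (.node 2 (.node 1 (.one ⟨4565, 3, 14⟩) (.one ⟨15176, 6, 15⟩)) (.node 1 (.one ⟨4575, 3, 15⟩) (.one ⟨6993, 2, 14⟩))) (.node 2 (.node 1 (.one ⟨15534, 2, 15⟩) (.one ⟨13206, 5, 15⟩)) (.node 1 (.one ⟨10755, 2, 15⟩) (.one ⟨5153, 5, 16⟩)))) (.node 4 (.node 2 (.node 1 (.one ⟨6908, 1, 13⟩) (.one ⟨13223, 5, 16⟩)) (.node 1 (.one ⟨6910, 1, 13⟩) (.one ⟨13214, 5, 17⟩))) (.node 2 (.node 1 (.one ⟨5386, 2, 12⟩) (.one ⟨3955, 2, 16⟩)) (.node 1 (.one ⟨12694, 2, 12⟩) (.one ⟨2838, 2, 15⟩)))))))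
def par0_6_12 : Arr Par :=
  (.node 32 (.node 16 (.node 8 (.node 4 (.node 2 (.node 1 (.one ⟨6913, 1, 15⟩) (.one ⟨11490, 2, 14⟩)) (.node 1 (.one ⟨6911, 1, 16⟩) (.one ⟨11643, 4, 13⟩))) (.node 2 (.node 1 (.one ⟨11632, 4, 16⟩) (.one ⟨6263, 3, 16⟩)) (.node 1 (.one ⟨11658, 4, 12⟩) (.one ⟨6235, 3, 14⟩)))) (.node 4 (.node 2 (.node 1 (.one ⟨15750, 2, 14⟩) (.one ⟨6920, 1, 15⟩)) (.node 1 (.one ⟨14350, 3, 15⟩) (.one ⟨4042, 2, 13⟩))) (.node 2 (.node 1 (.one ⟨6925, 1, 13⟩) (.one ⟨11861, 2, 12⟩)) (.node 1 (.one ⟨6923, 1, 14⟩) (.one ⟨6634, 5, 15⟩))))) (.node 8 (.node 4 (.node 2 (.node 1 (.one ⟨6605, 5, 16⟩) (.one ⟨6930, 1, 15⟩)) (.node 1 (.one ⟨11554, 2, 14⟩) (.one ⟨6590, 5, 16⟩))) (.node 2 (.node 1 (.one ⟨6618, 5, 17⟩) (.one ⟨14186, 4, 17⟩)) (.node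 1 (.one ⟨9709, 2, 16⟩) (.one ⟨4321, 3, 15⟩)))) (.node 4 (.node 2 (.node 1 (.one ⟨12400, 3, 14⟩) (.one ⟨6070, 4, 14⟩)) (.node 1 (.one ⟨6083, 4, 13⟩) (.one ⟨13845, 0, 11⟩))) (.node 2 (.node 1 (.one ⟨11064, 0, 12⟩) (.one ⟨14651, 5, 15⟩)) (.node 1 (.one ⟨14679, 5, 16⟩) (.one ⟨1787, 2, 14⟩)))))) (.node 16 (.node 8 (.node 4 (.node 2 (.node 1 (.one ⟨13840, 4, 16⟩) (.one ⟨9712, 3, 16⟩)) (.node 1 (.one ⟨10293, 5, 15⟩) (.one ⟨6943, 1, 15⟩))) (.node 2 (.node 1 (.one ⟨13756, 4, 15⟩) (.one ⟨9734, 3, 15⟩)) (.node 1 (.one ⟨13750, 4, 15⟩) (.one ⟨10348, 5, 15⟩)))) (.node 4 (.node 2 (.node 1 (.one ⟨1686, 3, 15⟩) (.one ⟨10318, 5, 16⟩)) (.node 1 (.one ⟨5313, 6, 15⟩) (.one ⟨2262, 5, 14⟩))) (.node 2 (.node 1 (.one ⟨1698, 3, 14⟩) (.one ⟨1652, 3, 15⟩))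 (.node 1 (.one ⟨13455, 6, 16⟩) (.one ⟨1584, 3, 10⟩))))) (.node 8 (.node 4 (.node 2 (.node 1 (.one ⟨1775, 4, 10⟩) (.one ⟨5667, 2, 16⟩)) (.node 1 (.one ⟨14438, 3, 15⟩) (.one ⟨7591, 0, 17⟩))) (.node 2 (.node 1 (.one ⟨3181, 6, 14⟩) (.one ⟨12397, 6, 10⟩)) (.node 1 (.one ⟨2994, 4, 9⟩) (.one ⟨2758, 5, 15⟩)))) (.node 4 (.node 2 (.node 1 (.one ⟨12159, 5, 17⟩) (.one ⟨13098, 6, 17⟩)) (.node 1 (.one ⟨6984, 1, 15⟩) (.one ⟨3337, 5, 14⟩))) (.node 2 (.node 1 (.one ⟨11654, 5, 13⟩) (.one ⟨429, 4, 14⟩)) (.node 1 (.one ⟨3093, 4, 13⟩) (.one ⟨13849, 4, 16⟩)))))))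
def par0_6_13 : Arr Par :=
  (.node 32 (.node 16 (.node 8 (.node 4 (.node 2 (.node 1 (.one ⟨1605, 3, 11⟩) (.one ⟨539, 0, 16⟩)) (.node 1 (.one ⟨4350, 6, 11⟩) (.one ⟨1803, 4, 11⟩))) (.node 2 (.node 1 (.one ⟨6345, 3, 14⟩) (.one ⟨3102, 4, 10⟩)) (.node 1 (.one ⟨4596, 3, 15⟩) (.one ⟨15998, 6, 16⟩)))) (.node 4 (.node 2 (.node 1 (.one ⟨12523, 2, 14⟩) (.one ⟨843, 4, 13⟩)) (.node 1 (.one ⟨11389, 5, 15⟩) (.one ⟨13064, 6, 16⟩))) (.node 2 (.node 1 (.one ⟨2736, 5, 14⟩) (.one ⟨11638, 5, 12⟩)) (.node 1 (.one ⟨6633, 6, 13⟩) (.one ⟨14904, 4, 14⟩))))) (.node 8 (.node 4 (.node 2 (.node 1 (.one ⟨3614, 5, 12⟩) (.one ⟨1664, 3, 13⟩)) (.node 1 (.one ⟨10844, 5, 16⟩) (.one ⟨5021, 6, 15⟩))) (.node 2 (.node 1 (.one ⟨1791, 4, 13⟩) (.one ⟨745, 3, 15⟩)) (.node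 1 (.one ⟨4101, 5, 15⟩) (.one ⟨2791, 5, 17⟩)))) (.node 4 (.node 2 (.node 1 (.one ⟨3309, 5, 15⟩) (.one ⟨12129, 5, 16⟩)) (.node 1 (.one ⟨2938, 4, 15⟩) (.one ⟨17173, 6, 14⟩))) (.node 2 (.node 1 (.one ⟨2257, 5, 15⟩) (.one ⟨11066, 4, 15⟩)) (.node 1 (.one ⟨12743, 5, 12⟩) (.one ⟨14907, 4, 13⟩)))))) (.node 16 (.node 8 (.node 4 (.node 2 (.node 1 (.one ⟨4989, 6, 16⟩) (.one ⟨1787, 4, 14⟩)) (.node 1 (.one ⟨3630, 5, 13⟩) (.one ⟨562, 3, 14⟩))) (.node 2 (.node 1 (.one ⟨1654, 3, 12⟩) (.one ⟨14440, 3, 16⟩)) (.node 1 (.one ⟨12150, 5, 14⟩) (.one ⟨466, 4, 15⟩)))) (.node 4 (.node 2 (.node 1 (.one ⟨17052, 3, 14⟩) (.one ⟨10343, 5, 14⟩)) (.node 1 (.one ⟨4047, 5, 15⟩) (.one ⟨12749, 5, 13⟩))) (.node 2 (.node 1 (.one ⟨2781, 5, 16⟩) (.one ⟨11158, 4, 14⟩)) (.node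 1 (.one ⟨7016, 2, 15⟩) (.one ⟨2927, 4, 5⟩))))) (.node 8 (.node 4 (.node 2 (.node 1 (.one ⟨7001, 4, 17⟩) (.one ⟨16974, 3, 7⟩)) (.node 1 (.one ⟨12013, 2, 14⟩) (.one ⟨4850, 4, 10⟩))) (.node 2 (.node 1 (.one ⟨4810, 3, 12⟩) (.one ⟨969, 4, 10⟩)) (.node 1 (.one ⟨11507, 3, 15⟩) (.one ⟨6751, 5, 10⟩)))) (.node 4 (.node 2 (.node 1 (.one ⟨11932, 6, 15⟩) (.one ⟨6876, 5, 13⟩)) (.node 1 (.one ⟨10996, 4, 14⟩) (.one ⟨12447, 2, 13⟩))) (.node 2 (.node 1 (.one ⟨11535, 3, 14⟩) (.one ⟨11101, 2, 15⟩)) (.node 1 (.one ⟨445, 4, 12⟩) (.one ⟨11028, 4, 15⟩)))))))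
def par0_6_14 : Arr Par :=
  (.node 32 (.node 16 (.node 8 (.node 4 (.node 2 (.node 1 (.one ⟨11854, 6, 16⟩) (.one ⟨3442, 3, 15⟩)) (.node 1 (.one ⟨993, 4, 13⟩) (.one ⟨4881, 4, 13⟩))) (.node 2 (.node 1 (.one ⟨16437, 4, 15⟩) (.one ⟨6872, 5, 14⟩)) (.node 1 (.one ⟨6798, 5, 11⟩) (.one ⟨7018, 4, 16⟩)))) (.node 4 (.node 2 (.node 1 (.one ⟨3477, 3, 14⟩) (.one ⟨2960, 4, 4⟩)) (.node 1 (.one ⟨463, 4, 11⟩) (.one ⟨4869, 4, 11⟩))) (.node 2 (.node 1 (.one ⟨8939, 3, 8⟩) (.one ⟨4785, 3, 11⟩)) (.node 1 (.one ⟨7026, 1, 15⟩) (.one ⟨4842, 3, 15⟩))))) (.node 8 (.node 4 (.node 2 (.node 1 (.one ⟨6228, 3, 16⟩) (.one ⟨7086, 1, 14⟩)) (.node 1 (.one ⟨2983, 4, 13⟩) (.one ⟨12959, 4, 13⟩))) (.node 2 (.node 1 (.one ⟨15112, 6, 10⟩) (.one ⟨13951, 4, 15⟩)) (.node 1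 (.one ⟨7918, 3, 15⟩) (.one ⟨16940, 2, 14⟩)))) (.node 4 (.node 2 (.node 1 (.one ⟨2468, 6, 15⟩) (.one ⟨4286, 3, 13⟩)) (.node 1 (.one ⟨16460, 4, 15⟩) (.one ⟨1954, 0, 11⟩))) (.node 2 (.node 1 (.one ⟨7961, 0, 16⟩) (.one ⟨2788, 2, 17⟩)) (.node 1 (.one ⟨8886, 3, 13⟩) (.one ⟨16487, 4, 16⟩)))))) (.node 16 (.node 8 (.node 4 (.node 2 (.node 1 (.one ⟨16977, 3, 12⟩) (.one ⟨14847, 0, 12⟩)) (.node 1 (.one ⟨7063, 1, 15⟩) (.one ⟨10514, 6, 16⟩))) (.node 2 (.node 1 (.one ⟨12927, 4, 16⟩) (.one ⟨10476, 2, 17⟩)) (.node 1 (.one ⟨12459, 3, 14⟩) (.one ⟨2952, 4, 13⟩)))) (.node 4 (.node 2 (.node 1 (.one ⟨11529, 3, 16⟩) (.one ⟨15093, 6, 9⟩)) (.node 1 (.one ⟨4822, 3, 14⟩) (.one ⟨14342, 3, 17⟩))) (.node 2 (.node 1 (.one ⟨12948, 4, 14⟩) (.one ⟨7915, 3, 14⟩))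 (.node 1 (.one ⟨12382, 2, 13⟩) (.one ⟨7264, 4, 14⟩))))) (.node 8 (.node 4 (.node 2 (.node 1 (.one ⟨3407, 3, 14⟩) (.one ⟨11315, 4, 15⟩)) (.node 1 (.one ⟨2318, 5, 15⟩) (.one ⟨10877, 2, 13⟩))) (.node 2 (.node 1 (.one ⟨9565, 2, 8⟩) (.one ⟨11983, 2, 14⟩)) (.node 1 (.one ⟨3239, 5, 15⟩) (.one ⟨14747, 0, 14⟩)))) (.node 4 (.node 2 (.node 1 (.one ⟨16253, 3, 11⟩) (.one ⟨8261, 0, 11⟩)) (.node 1 (.one ⟨12175, 4, 16⟩) (.one ⟨423, 6, 13⟩))) (.node 2 (.node 1 (.one ⟨15272, 1, 17⟩) (.one ⟨7065, 5, 14⟩)) (.node 1 (.one ⟨9065, 5, 12⟩) (.one ⟨8781, 4, 17⟩)))))))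
def par0_6_15 : Arr Par :=
  (.node 32 (.node 16 (.node 8 (.node 4 (.node 2 (.node 1 (.one ⟨10394, 5, 17⟩) (.one ⟨7329, 4, 15⟩)) (.node 1 (.one ⟨281, 6, 15⟩) (.one ⟨16686, 6, 15⟩))) (.node 2 (.node 1 (.one ⟨3470, 5, 15⟩) (.one ⟨13243, 4, 14⟩)) (.node 1 (.one ⟨1945, 0, 13⟩) (.one ⟨14748, 5, 14⟩)))) (.node 4 (.node 2 (.node 1 (.one ⟨15256, 1, 14⟩) (.one ⟨8261, 5, 11⟩)) (.node 1 (.one ⟨8891, 5, 13⟩) (.one ⟨11487, 4, 16⟩))) (.node 2 (.node 1 (.one ⟨12515, 0, 15⟩) (.one ⟨13556, 2, 17⟩)) (.node 1 (.one ⟨15260, 1, 14⟩) (.one ⟨11270, 5, 15⟩))))) (.node 8 (.node 4 (.node 2 (.node 1 (.one ⟨4242, 2, 16⟩) (.one ⟨12874, 2, 16⟩)) (.node 1 (.one ⟨8252, 6, 16⟩) (.one ⟨10399, 5, 14⟩))) (.node 2 (.node 1 (.one ⟨14017, 6, 14⟩) (.one ⟨12021, 6, 16⟩))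 (.node 1 (.one ⟨14416, 3, 14⟩) (.one ⟨516, 3, 15⟩)))) (.node 4 (.node 2 (.node 1 (.one ⟨17198, 0, 14⟩) (.one ⟨15574, 6, 15⟩)) (.node 1 (.one ⟨12310, 4, 12⟩) (.one ⟨16965, 5, 14⟩))) (.node 2 (.node 1 (.one ⟨8124, 5, 16⟩) (.one ⟨8254, 5, 16⟩)) (.node 1 (.one ⟨3408, 4, 14⟩) (.one ⟨2287, 5, 15⟩)))))) (.node 16 (.node 8 (.node 4 (.node 2 (.node 1 (.one ⟨3964, 6, 14⟩) (.one ⟨12877, 5, 14⟩)) (.node 1 (.one ⟨274, 6, 13⟩) (.one ⟨16604, 6, 14⟩))) (.node 2 (.node 1 (.one ⟨10745, 5, 16⟩) (.one ⟨9438, 2, 8⟩)) (.node 1 (.one ⟨13271, 4, 11⟩) (.one ⟨10423, 4, 15⟩)))) (.node 4 (.node 2 (.node 1 (.one ⟨16365, 5, 10⟩) (.one ⟨11304, 4, 15⟩)) (.node 1 (.one ⟨12239, 4, 12⟩) (.one ⟨9042, 5, 15⟩))) (.node 2 (.node 1 (.one ⟨15002, 3, 15⟩) (.one ⟨6131, 3,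 15⟩)) (.node 1 (.one ⟨8234, 3, 11⟩) (.one ⟨5245, 4, 12⟩))))) (.node 8 (.node 4 (.node 2 (.node 1 (.one ⟨12260, 3, 15⟩) (.one ⟨7286, 4, 13⟩)) (.node 1 (.one ⟨14412, 3, 10⟩) (.one ⟨15202, 1, 14⟩))) (.node 2 (.node 1 (.one ⟨6562, 4, 14⟩) (.one ⟨3280, 4, 5⟩)) (.node 1 (.one ⟨3197, 5, 12⟩) (.one ⟨4399, 2, 15⟩)))) (.node 4 (.node 2 (.node 1 (.one ⟨4079, 4, 15⟩) (.one ⟨9021, 5, 5⟩)) (.node 1 (.one ⟨7050, 5, 12⟩) (.one ⟨15559, 6, 12⟩))) (.node 2 (.node 1 (.one ⟨16323, 5, 11⟩) (.one ⟨6671, 5, 12⟩)) (.node 1 (.one ⟨8225, 3, 11⟩) (.one ⟨768, 3, 13⟩)))))))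
def par0_6 : Arr Par :=
  (.node 512 (.node 256 (.node 128 (.node 64 par0_6_0 par0_6_1) (.node 64 par0_6_2 par0_6_3)) (.node 128 (.node 64 par0_6_4 par0_6_5) (.node 64 par0_6_6 par0_6_7))) (.node 256 (.node 128 (.node 64 par0_6_8 par0_6_9) (.node 64 par0_6_10 par0_6_11)) (.node 128 (.node 64 par0_6_12 par0_6_13) (.node 64 par0_6_14 par0_6_15))))
def par0_7_0 : Arr Par :=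
  (.node 32 (.node 16 (.node 8 (.node 4 (.node 2 (.node 1 (.one ⟨11630, 0, 16⟩) (.one ⟨10478, 2, 13⟩)) (.node 1 (.one ⟨7626, 2, 14⟩) (.one ⟨3311, 4, 13⟩))) (.node 2 (.node 1 (.one ⟨9284, 2, 8⟩) (.one ⟨8855, 4, 17⟩)) (.node 1 (.one ⟨12288, 3, 14⟩) (.one ⟨8175, 3, 13⟩)))) (.node 4 (.node 2 (.node 1 (.one ⟨14974, 0, 15⟩) (.one ⟨8276, 5, 11⟩)) (.node 1 (.one ⟨8799, 3, 16⟩) (.one ⟨14225, 3, 16⟩))) (.node 2 (.node 1 (.one ⟨7042, 5, 14⟩) (.one ⟨14757, 5, 13⟩)) (.node 1 (.one ⟨14991, 3, 15⟩) (.one ⟨5278, 4, 16⟩))))) (.node 8 (.node 4 (.node 2 (.node 1 (.one ⟨5738, 2, 15⟩) (.one ⟨6843, 3, 12⟩)) (.node 1 (.one ⟨12054, 6, 15⟩) (.one ⟨4712, 6, 15⟩))) (.node 2 (.node 1 (.one ⟨14585, 4, 15⟩) (.one ⟨4520, 4, 15⟩)) (.node 1 (.one ⟨9141, 2, 8⟩)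 (.one ⟨14885, 0, 15⟩)))) (.node 4 (.node 2 (.node 1 (.one ⟨6018, 6, 15⟩) (.one ⟨15541, 6, 15⟩)) (.node 1 (.one ⟨12212, 3, 15⟩) (.one ⟨17110, 5, 14⟩))) (.node 2 (.node 1 (.one ⟨12229, 4, 13⟩) (.one ⟨903, 3, 16⟩)) (.node 1 (.one ⟨16290, 3, 13⟩) (.one ⟨5179, 4, 16⟩)))))) (.node 16 (.node 8 (.node 4 (.node 2 (.node 1 (.one ⟨16862, 4, 12⟩) (.one ⟨3200, 5, 15⟩)) (.node 1 (.one ⟨7564, 6, 15⟩) (.one ⟨3673, 5, 15⟩))) (.node 2 (.node 1 (.one ⟨3996, 6, 15⟩) (.one ⟨2340, 5, 15⟩)) (.node 1 (.one ⟨10754, 5, 17⟩) (.one ⟨16979, 5, 14⟩)))) (.node 4 (.node 2 (.node 1 (.one ⟨16315, 5, 10⟩) (.one ⟨4678, 6, 16⟩)) (.node 1 (.one ⟨8174, 5, 16⟩) (.one ⟨6682, 5, 13⟩))) (.node 2 (.node 1 (.one ⟨3700, 2, 16⟩) (.one ⟨12287, 4, 13⟩)) (.node 1 (.one ⟨14997,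 3, 17⟩) (.one ⟨1666, 5, 14⟩))))) (.node 8 (.node 4 (.node 2 (.node 1 (.one ⟨10478, 4, 13⟩) (.one ⟨16922, 3, 15⟩)) (.node 1 (.one ⟨7221, 2, 15⟩) (.one ⟨7169, 4, 14⟩))) (.node 2 (.node 1 (.one ⟨11478, 4, 15⟩) (.one ⟨1508, 3, 14⟩)) (.node 1 (.one ⟨14309, 3, 15⟩) (.one ⟨5175, 4, 14⟩)))) (.node 4 (.node 2 (.node 1 (.one ⟨12196, 4, 15⟩) (.one ⟨15390, 1, 14⟩)) (.node 1 (.one ⟨12564, 4, 16⟩) (.one ⟨5158, 4, 16⟩))) (.node 2 (.node 1 (.one ⟨12025, 4, 11⟩) (.one ⟨4257, 5, 16⟩)) (.node 1 (.one ⟨6663, 2, 15⟩) (.one ⟨4652, 3, 14⟩)))))))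
def par0_7_1 : Arr Par :=
  (.node 32 (.node 16 (.node 8 (.node 4 (.node 2 (.node 1 (.one ⟨11426, 4, 16⟩) (.one ⟨16581, 5, 14⟩)) (.node 1 (.one ⟨14762, 5, 13⟩) (.one ⟨11457, 4, 14⟩))) (.node 2 (.node 1 (.one ⟨15392, 1, 13⟩) (.one ⟨16151, 6, 14⟩)) (.node 1 (.one ⟨6316, 3, 16⟩) (.one ⟨13374, 3, 16⟩)))) (.node 4 (.node 2 (.node 1 (.one ⟨15056, 6, 14⟩) (.one ⟨11687, 6, 17⟩)) (.node 1 (.one ⟨12509, 6, 14⟩) (.one ⟨8854, 3, 14⟩))) (.node 2 (.node 1 (.one ⟨16250, 6, 14⟩) (.one ⟨8224, 2, 16⟩)) (.node 1 (.one ⟨4018, 4, 16⟩) (.one ⟨11427, 0, 16⟩))))) (.node 8 (.node 4 (.node 2 (.node 1 (.one ⟨3448, 6, 12⟩) (.one ⟨6283, 3, 14⟩)) (.node 1 (.one ⟨15457, 6, 17⟩) (.one ⟨11490, 4, 14⟩))) (.node 2 (.node 1 (.one ⟨3363, 4, 16⟩) (.one ⟨10490, 4, 15⟩))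 (.node 1 (.one ⟨2348, 5, 15⟩) (.one ⟨12081, 4, 14⟩)))) (.node 4 (.node 2 (.node 1 (.one ⟨5500, 4, 14⟩) (.one ⟨11258, 5, 15⟩)) (.node 1 (.one ⟨5291, 4, 16⟩) (.one ⟨11500, 6, 14⟩))) (.node 2 (.node 1 (.one ⟨9073, 2, 15⟩) (.one ⟨4387, 4, 16⟩)) (.node 1 (.one ⟨13219, 4, 13⟩) (.one ⟨9764, 5, 14⟩)))))) (.node 16 (.node 8 (.node 4 (.node 2 (.node 1 (.one ⟨12252, 5, 13⟩) (.one ⟨13125, 2, 15⟩)) (.node 1 (.one ⟨12147, 2, 14⟩) (.one ⟨11446, 4, 13⟩))) (.node 2 (.node 1 (.one ⟨14716, 5, 14⟩) (.one ⟨11312, 4, 15⟩)) (.node 1 (.one ⟨2314, 5, 15⟩) (.one ⟨2852, 6, 14⟩)))) (.node 4 (.node 2 (.node 1 (.one ⟨3000, 2, 16⟩) (.one ⟨9160, 3, 15⟩)) (.node 1 (.one ⟨11292, 5, 15⟩) (.one ⟨6012, 3, 15⟩))) (.node 2 (.node 1 (.one ⟨3004, 2, 13⟩) (.one ⟨3005, 2,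 13⟩)) (.node 1 (.one ⟨13360, 3, 15⟩) (.one ⟨15312, 1, 15⟩))))) (.node 8 (.node 4 (.node 2 (.node 1 (.one ⟨8064, 6, 16⟩) (.one ⟨6673, 5, 12⟩)) (.node 1 (.one ⟨1606, 5, 12⟩) (.one ⟨15594, 4, 13⟩))) (.node 2 (.node 1 (.one ⟨3519, 6, 16⟩) (.one ⟨9018, 5, 12⟩)) (.node 1 (.one ⟨4236, 5, 12⟩) (.one ⟨14802, 0, 16⟩)))) (.node 4 (.node 2 (.node 1 (.one ⟨4050, 4, 11⟩) (.one ⟨5107, 4, 12⟩)) (.node 1 (.one ⟨8245, 5, 14⟩) (.one ⟨4516, 4, 13⟩))) (.node 2 (.node 1 (.one ⟨11445, 6, 15⟩) (.one ⟨4944, 5, 15⟩)) (.node 1 (.one ⟨13418, 3, 13⟩) (.one ⟨4480, 6, 14⟩)))))))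
def par0_7_2 : Arr Par :=
  (.node 32 (.node 16 (.node 8 (.node 4 (.node 2 (.node 1 (.one ⟨15332, 1, 16⟩) (.one ⟨3663, 5, 15⟩)) (.node 1 (.one ⟨15329, 1, 14⟩) (.one ⟨9053, 5, 13⟩))) (.node 2 (.node 1 (.one ⟨15586, 4, 16⟩) (.one ⟨14261, 3, 14⟩)) (.node 1 (.one ⟨14725, 5, 13⟩) (.one ⟨12995, 5, 14⟩)))) (.node 4 (.node 2 (.node 1 (.one ⟨644, 2, 15⟩) (.one ⟨505, 2, 14⟩)) (.node 1 (.one ⟨1628, 5, 15⟩) (.one ⟨3591, 6, 15⟩))) (.node 2 (.node 1 (.one ⟨930, 2, 12⟩) (.one ⟨267, 2, 13⟩)) (.node 1 (.one ⟨7419, 6, 14⟩) (.one ⟨487, 2, 16⟩))))) (.node 8 (.node 4 (.node 2 (.node 1 (.one ⟨681, 2, 13⟩) (.one ⟨450, 2, 12⟩)) (.node 1 (.one ⟨8779, 3, 15⟩) (.one ⟨14547, 4, 15⟩))) (.node 2 (.node 1 (.one ⟨17091, 5, 15⟩) (.one ⟨2377, 4, 14⟩)) (.node 1 (.one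 ⟨4158, 5, 14⟩) (.one ⟨3384, 0, 15⟩)))) (.node 4 (.node 2 (.node 1 (.one ⟨13174, 4, 12⟩) (.one ⟨4098, 4, 15⟩)) (.node 1 (.one ⟨16327, 5, 13⟩) (.one ⟨13274, 4, 16⟩))) (.node 2 (.node 1 (.one ⟨33, 3, 15⟩) (.one ⟨15505, 6, 15⟩)) (.node 1 (.one ⟨15294, 1, 15⟩) (.one ⟨1726, 2, 15⟩)))))) (.node 16 (.node 8 (.node 4 (.node 2 (.node 1 (.one ⟨15530, 2, 14⟩) (.one ⟨2526, 2, 14⟩)) (.node 1 (.one ⟨15147, 6, 14⟩) (.one ⟨11607, 6, 14⟩))) (.node 2 (.node 1 (.one ⟨3472, 6, 11⟩) (.one ⟨17121, 5, 15⟩)) (.node 1 (.one ⟨9695, 5, 15⟩) (.one ⟨5314, 3, 15⟩)))) (.node 4 (.node 2 (.node 1 (.one ⟨11480, 6, 16⟩) (.one ⟨7006, 6, 13⟩)) (.node 1 (.one ⟨16831, 3, 15⟩) (.one ⟨4480, 4, 14⟩))) (.node 2 (.node 1 (.one ⟨10917, 6, 14⟩) (.one ⟨12210, 5, 15⟩)) (.node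 1 (.one ⟨13177, 4, 11⟩) (.one ⟨11236, 0, 12⟩))))) (.node 8 (.node 4 (.node 2 (.node 1 (.one ⟨7262, 5, 14⟩) (.one ⟨15450, 1, 15⟩)) (.node 1 (.one ⟨9835, 0, 14⟩) (.one ⟨15344, 6, 15⟩))) (.node 2 (.node 1 (.one ⟨4432, 4, 12⟩) (.one ⟨8197, 4, 12⟩)) (.node 1 (.one ⟨14307, 3, 14⟩) (.one ⟨6887, 6, 14⟩)))) (.node 4 (.node 2 (.node 1 (.one ⟨16074, 5, 12⟩) (.one ⟨15305, 5, 13⟩)) (.node 1 (.one ⟨15965, 3, 16⟩) (.one ⟨2527, 6, 11⟩))) (.node 2 (.node 1 (.one ⟨7761, 5, 13⟩) (.one ⟨7537, 5, 14⟩)) (.node 1 (.one ⟨3385, 4, 15⟩) (.one ⟨7234, 6, 14⟩)))))))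
def par0_7_3 : Arr Par :=
  (.node 32 (.node 16 (.node 8 (.node 4 (.node 2 (.node 1 (.one ⟨2511, 6, 13⟩) (.one ⟨7320, 5, 13⟩)) (.node 1 (.one ⟨7491, 2, 14⟩) (.one ⟨7590, 5, 12⟩))) (.node 2 (.node 1 (.one ⟨3392, 4, 15⟩) (.one ⟨711, 6, 16⟩)) (.node 1 (.one ⟨16165, 2, 15⟩) (.one ⟨7998, 5, 11⟩)))) (.node 4 (.node 2 (.node 1 (.one ⟨5366, 4, 16⟩) (.one ⟨14194, 5, 17⟩)) (.node 1 (.one ⟨15368, 5, 14⟩) (.one ⟨5118, 6, 17⟩))) (.node 2 (.node 1 (.one ⟨7459, 4, 14⟩) (.one ⟨7592, 5, 14⟩)) (.node 1 (.one ⟨7375, 3, 16⟩) (.one ⟨13993, 5, 15⟩))))) (.node 8 (.node 4 (.node 2 (.node 1 (.one ⟨4950, 6, 13⟩) (.one ⟨8225, 4, 11⟩)) (.node 1 (.one ⟨15415, 1, 14⟩) (.one ⟨5128, 6, 16⟩))) (.node 2 (.node 1 (.one ⟨8007, 5, 12⟩) (.one ⟨7469, 4, 12⟩)) (.node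 1 (.one ⟨13219, 2, 13⟩) (.one ⟨7415, 4, 15⟩)))) (.node 4 (.node 2 (.node 1 (.one ⟨16080, 5, 13⟩) (.one ⟨4965, 6, 14⟩)) (.node 1 (.one ⟨16253, 4, 11⟩) (.one ⟨1804, 2, 14⟩))) (.node 2 (.node 1 (.one ⟨9066, 5, 16⟩) (.one ⟨10598, 6, 14⟩)) (.node 1 (.one ⟨6891, 6, 13⟩) (.one ⟨16259, 4, 12⟩)))))) (.node 16 (.node 8 (.node 4 (.node 2 (.node 1 (.one ⟨6237, 4, 15⟩) (.one ⟨6134, 5, 15⟩)) (.node 1 (.one ⟨4427, 4, 13⟩) (.one ⟨15534, 4, 15⟩))) (.node 2 (.node 1 (.one ⟨16059, 5, 16⟩) (.one ⟨13459, 4, 16⟩)) (.node 1 (.one ⟨14294, 3, 15⟩) (.one ⟨821, 6, 13⟩)))) (.node 4 (.node 2 (.node 1 (.one ⟨4940, 6, 12⟩) (.one ⟨4443, 4, 13⟩)) (.node 1 (.one ⟨11453, 4, 15⟩) (.one ⟨7302, 6, 14⟩))) (.node 2 (.node 1 (.one ⟨8366, 6, 12⟩) (.one ⟨6888, 6, 15⟩)) (.node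 1 (.one ⟨7602, 6, 14⟩) (.one ⟨3340, 6, 14⟩))))) (.node 8 (.node 4 (.node 2 (.node 1 (.one ⟨13769, 6, 17⟩) (.one ⟨9688, 3, 13⟩)) (.node 1 (.one ⟨16579, 5, 15⟩) (.one ⟨8130, 5, 15⟩))) (.node 2 (.node 1 (.one ⟨15507, 1, 12⟩) (.one ⟨14166, 3, 13⟩)) (.node 1 (.one ⟨6188, 3, 16⟩) (.one ⟨1706, 3, 14⟩)))) (.node 4 (.node 2 (.node 1 (.one ⟨4722, 3, 16⟩) (.one ⟨15871, 5, 16⟩)) (.node 1 (.one ⟨15517, 1, 14⟩) (.one ⟨16644, 5, 13⟩))) (.node 2 (.node 1 (.one ⟨9052, 5, 16⟩) (.one ⟨15516, 1, 14⟩)) (.node 1 (.one ⟨3773, 5, 13⟩) (.one ⟨9758, 3, 14⟩)))))))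
def par0_7_4 : Arr Par :=
  (.node 32 (.node 16 (.node 8 (.node 4 (.node 2 (.node 1 (.one ⟨3789, 5, 14⟩) (.one ⟨8593, 5, 14⟩)) (.node 1 (.one ⟨16192, 5, 15⟩) (.one ⟨3310, 6, 16⟩))) (.node 2 (.node 1 (.one ⟨15857, 5, 15⟩) (.one ⟨13827, 6, 17⟩)) (.node 1 (.one ⟨4457, 5, 14⟩) (.one ⟨4823, 0, 12⟩)))) (.node 4 (.node 2 (.node 1 (.one ⟨8695, 3, 16⟩) (.one ⟨15553, 4, 15⟩)) (.node 1 (.one ⟨6133, 3, 14⟩) (.one ⟨4726, 3, 11⟩))) (.node 2 (.node 1 (.one ⟨11548, 4, 11⟩) (.one ⟨1644, 3, 13⟩)) (.node 1 (.one ⟨3547, 6, 13⟩) (.one ⟨16595, 5, 15⟩))))) (.node 8 (.node 4 (.node 2 (.node 1 (.one ⟨2296, 2, 14⟩) (.one ⟨12644, 3, 15⟩)) (.node 1 (.one ⟨15530, 4, 14⟩) (.one ⟨4439, 5, 15⟩))) (.node 2 (.node 1 (.one ⟨4648, 5, 16⟩) (.one ⟨8159, 6, 11⟩)) (.node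 1 (.one ⟨10490, 6, 15⟩) (.one ⟨7508, 4, 13⟩)))) (.node 4 (.node 2 (.node 1 (.one ⟨8129, 6, 13⟩) (.one ⟨5803, 6, 15⟩)) (.node 1 (.one ⟨7428, 4, 16⟩) (.one ⟨1655, 3, 14⟩))) (.node 2 (.node 1 (.one ⟨15238, 2, 17⟩) (.one ⟨4625, 3, 17⟩)) (.node 1 (.one ⟨15637, 4, 14⟩) (.one ⟨7526, 4, 16⟩)))))) (.node 16 (.node 8 (.node 4 (.node 2 (.node 1 (.one ⟨11370, 6, 15⟩) (.one ⟨14205, 3, 16⟩)) (.node 1 (.one ⟨12859, 6, 16⟩) (.one ⟨9739, 3, 13⟩))) (.node 2 (.node 1 (.one ⟨5707, 6, 15⟩) (.one ⟨15601, 4, 15⟩)) (.node 1 (.one ⟨8140, 6, 12⟩) (.one ⟨806, 3, 13⟩)))) (.node 4 (.node 2 (.node 1 (.one ⟨15888, 5, 16⟩) (.one ⟨8169, 5, 5⟩)) (.node 1 (.one ⟨17078, 5, 15⟩) (.one ⟨8648, 3, 11⟩))) (.node 2 (.node 1 (.one ⟨3161, 4, 14⟩) (.one ⟨1597, 3, 11⟩)) (.node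 1 (.one ⟨12482, 5, 11⟩) (.one ⟨8240, 6, 9⟩))))) (.node 8 (.node 4 (.node 2 (.node 1 (.one ⟨8832, 4, 13⟩) (.one ⟨3287, 4, 5⟩)) (.node 1 (.one ⟨7839, 5, 13⟩) (.one ⟨4914, 5, 12⟩))) (.node 2 (.node 1 (.one ⟨15559, 1, 12⟩) (.one ⟨4619, 5, 16⟩)) (.node 1 (.one ⟨7266, 4, 15⟩) (.one ⟨13084, 6, 13⟩)))) (.node 4 (.node 2 (.node 1 (.one ⟨4921, 5, 16⟩) (.one ⟨15299, 6, 15⟩)) (.node 1 (.one ⟨10633, 6, 17⟩) (.one ⟨5040, 6, 16⟩))) (.node 2 (.node 1 (.one ⟨8271, 6, 9⟩) (.one ⟨16435, 2, 16⟩)) (.node 1 (.one ⟨15553, 1, 15⟩) (.one ⟨2584, 6, 17⟩)))))))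
def par0_7_5 : Arr Par :=
  (.node 32 (.node 16 (.node 8 (.node 4 (.node 2 (.node 1 (.one ⟨7251, 6, 15⟩) (.one ⟨650, 6, 15⟩)) (.node 1 (.one ⟨11918, 2, 16⟩) (.one ⟨6526, 3, 13⟩))) (.node 2 (.node 1 (.one ⟨5121, 4, 13⟩) (.one ⟨11415, 4, 14⟩)) (.node 1 (.one ⟨13244, 4, 15⟩) (.one ⟨11621, 5, 14⟩)))) (.node 4 (.node 2 (.node 1 (.one ⟨15750, 6, 14⟩) (.one ⟨12650, 5, 16⟩)) (.node 1 (.one ⟨11903, 5, 13⟩) (.one ⟨15814, 5, 14⟩))) (.node 2 (.node 1 (.one ⟨7587, 3, 10⟩) (.one ⟨6364, 2, 16⟩)) (.node 1 (.one ⟨15396, 6, 14⟩) (.one ⟨13099, 6, 14⟩))))) (.node 8 (.node 4 (.node 2 (.node 1 (.one ⟨8908, 4, 16⟩) (.one ⟨5093, 6, 16⟩)) (.node 1 (.one ⟨16882, 4, 13⟩) (.one ⟨15593, 1, 11⟩))) (.node 2 (.node 1 (.one ⟨15592, 1, 12⟩) (.one ⟨8260, 6, 10⟩))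 (.node 1 (.one ⟨15594, 1, 13⟩) (.one ⟨3338, 4, 14⟩)))) (.node 4 (.node 2 (.node 1 (.one ⟨7685, 6, 14⟩) (.one ⟨5061, 6, 17⟩)) (.node 1 (.one ⟨8289, 6, 13⟩) (.one ⟨3766, 5, 15⟩))) (.node 2 (.node 1 (.one ⟨7791, 5, 13⟩) (.one ⟨16896, 4, 14⟩)) (.node 1 (.one ⟨11630, 5, 16⟩) (.one ⟨15331, 6, 15⟩)))))) (.node 16 (.node 8 (.node 4 (.node 2 (.node 1 (.one ⟨16452, 5, 15⟩) (.one ⟨3556, 5, 15⟩)) (.node 1 (.one ⟨15580, 1, 14⟩) (.one ⟨5067, 6, 15⟩))) (.node 2 (.node 1 (.one ⟨6906, 6, 14⟩) (.one ⟨8541, 5, 12⟩)) (.node 1 (.one ⟨15824, 5, 15⟩) (.one ⟨10681, 2, 13⟩)))) (.node 4 (.node 2 (.node 1 (.one ⟨2300, 2, 16⟩) (.one ⟨12268, 2, 14⟩)) (.node 1 (.one ⟨3019, 3, 16⟩) (.one ⟨523, 6, 15⟩))) (.node 2 (.node 1 (.one ⟨7312, 4, 14⟩) (.one ⟨8268, 6, 12⟩))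 (.node 1 (.one ⟨7677, 6, 15⟩) (.one ⟨13761, 6, 14⟩))))) (.node 8 (.node 4 (.node 2 (.node 1 (.one ⟨5789, 3, 12⟩) (.one ⟨14612, 4, 13⟩)) (.node 1 (.one ⟨7492, 3, 14⟩) (.one ⟨3353, 6, 16⟩))) (.node 2 (.node 1 (.one ⟨5879, 3, 15⟩) (.one ⟨10243, 3, 15⟩)) (.node 1 (.one ⟨4271, 4, 12⟩) (.one ⟨15624, 1, 15⟩)))) (.node 4 (.node 2 (.node 1 (.one ⟨6420, 2, 14⟩) (.one ⟨9939, 2, 11⟩)) (.node 1 (.one ⟨5839, 5, 15⟩) (.one ⟨4959, 5, 16⟩))) (.node 2 (.node 1 (.one ⟨15626, 1, 12⟩) (.one ⟨13382, 4, 16⟩)) (.node 1 (.one ⟨6709, 6, 9⟩) (.one ⟨13007, 5, 15⟩)))))))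
def par0_7_6 : Arr Par :=
  (.node 32 (.node 16 (.node 8 (.node 4 (.node 2 (.node 1 (.one ⟨11293, 3, 14⟩) (.one ⟨15876, 5, 13⟩)) (.node 1 (.one ⟨12508, 5, 14⟩) (.one ⟨12339, 4, 16⟩))) (.node 2 (.node 1 (.one ⟨14850, 6, 9⟩) (.one ⟨15600, 1, 13⟩)) (.node 1 (.one ⟨6423, 4, 14⟩) (.one ⟨12451, 2, 15⟩)))) (.node 4 (.node 2 (.node 1 (.one ⟨11680, 6, 13⟩) (.one ⟨7536, 4, 13⟩)) (.node 1 (.one ⟨11406, 6, 15⟩) (.one ⟨2182, 3, 16⟩))) (.node 2 (.node 1 (.one ⟨6765, 6, 14⟩) (.one ⟨12431, 4, 13⟩)) (.node 1 (.one ⟨8175, 6, 13⟩) (.one ⟨10212, 3, 15⟩))))) (.node 8 (.node 4 (.node 2 (.node 1 (.one ⟨15654, 1, 15⟩) (.one ⟨11274, 3, 11⟩)) (.node 1 (.one ⟨3574, 6, 11⟩) (.one ⟨6713, 6, 9⟩))) (.node 2 (.node 1 (.one ⟨16263, 6, 10⟩) (.one ⟨4448, 5, 16⟩))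 (.node 1 (.one ⟨12091, 2, 15⟩) (.one ⟨7624, 2, 13⟩)))) (.node 4 (.node 2 (.node 1 (.one ⟨5331, 4, 15⟩) (.one ⟨7565, 3, 14⟩)) (.node 1 (.one ⟨8211, 6, 12⟩) (.one ⟨14867, 6, 10⟩))) (.node 2 (.node 1 (.one ⟨5878, 5, 16⟩) (.one ⟨7430, 4, 15⟩)) (.node 1 (.one ⟨3154, 3, 15⟩) (.one ⟨7575, 4, 14⟩)))))) (.node 16 (.node 8 (.node 4 (.node 2 (.node 1 (.one ⟨13879, 3, 12⟩) (.one ⟨11307, 3, 15⟩)) (.node 1 (.one ⟨5181, 4, 15⟩) (.one ⟨9142, 2, 9⟩))) (.node 2 (.node 1 (.one ⟨4319, 4, 12⟩) (.one ⟨12960, 6, 17⟩)) (.node 1 (.one ⟨8234, 6, 11⟩) (.one ⟨15641, 1, 16⟩)))) (.node 4 (.node 2 (.node 1 (.one ⟨6534, 4, 13⟩) (.one ⟨11045, 5, 14⟩)) (.node 1 (.one ⟨13916, 3, 13⟩) (.one ⟨13748, 3, 14⟩))) (.node 2 (.node 1 (.one ⟨15642, 1, 12⟩) (.one ⟨2709, 0,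 14⟩)) (.node 1 (.one ⟨13024, 5, 16⟩) (.one ⟨7638, 1, 13⟩))))) (.node 8 (.node 4 (.node 2 (.node 1 (.one ⟨8710, 4, 12⟩) (.one ⟨806, 4, 13⟩)) (.node 1 (.one ⟨12830, 5, 13⟩) (.one ⟨1593, 4, 13⟩))) (.node 2 (.node 1 (.one ⟨16242, 5, 17⟩) (.one ⟨14200, 4, 15⟩)) (.node 1 (.one ⟨5174, 5, 12⟩) (.one ⟨6383, 6, 13⟩)))) (.node 4 (.node 2 (.node 1 (.one ⟨2449, 5, 15⟩) (.one ⟨8177, 5, 14⟩)) (.node 1 (.one ⟨15439, 5, 13⟩) (.one ⟨5278, 6, 16⟩))) (.node 2 (.node 1 (.one ⟨2916, 3, 14⟩) (.one ⟨7645, 1, 17⟩)) (.node 1 (.one ⟨7779, 6, 16⟩) (.one ⟨15891, 6, 15⟩)))))))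
def par0_7_7 : Arr Par :=
  (.node 32 (.node 16 (.node 8 (.node 4 (.node 2 (.node 1 (.one ⟨10496, 5, 16⟩) (.one ⟨9813, 0, 14⟩)) (.node 1 (.one ⟨1659, 4, 15⟩) (.one ⟨4878, 6, 13⟩))) (.node 2 (.node 1 (.one ⟨9916, 3, 13⟩) (.one ⟨5190, 5, 13⟩)) (.node 1 (.one ⟨12798, 4, 16⟩) (.one ⟨16300, 5, 14⟩)))) (.node 4 (.node 2 (.node 1 (.one ⟨13844, 3, 12⟩) (.one ⟨7658, 1, 14⟩)) (.node 1 (.one ⟨9927, 3, 13⟩) (.one ⟨7370, 5, 15⟩))) (.node 2 (.node 1 (.one ⟨14240, 4, 16⟩) (.one ⟨7507, 3, 12⟩)) (.node 1 (.one ⟨6613, 5, 16⟩) (.one ⟨8690, 4, 11⟩))))) (.node 8 (.node 4 (.node 2 (.node 1 (.one ⟨12825, 5, 14⟩) (.one ⟨13252, 5, 11⟩)) (.node 1 (.one ⟨8220, 5, 16⟩) (.one ⟨1614, 4, 12⟩))) (.node 2 (.node 1 (.one ⟨14210, 4, 16⟩) (.one ⟨879, 4, 12⟩)) (.node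 1 (.one ⟨12148, 2, 12⟩) (.one ⟨14484, 6, 14⟩)))) (.node 4 (.node 2 (.node 1 (.one ⟨249, 4, 16⟩) (.one ⟨2879, 3, 15⟩)) (.node 1 (.one ⟨16286, 5, 15⟩) (.one ⟨7353, 5, 14⟩))) (.node 2 (.node 1 (.one ⟨7680, 5, 16⟩) (.one ⟨4526, 2, 16⟩)) (.node 1 (.one ⟨10532, 5, 16⟩) (.one ⟨9947, 3, 12⟩)))))) (.node 16 (.node 8 (.node 4 (.node 2 (.node 1 (.one ⟨7816, 0, 15⟩) (.one ⟨4856, 6, 12⟩)) (.node 1 (.one ⟨1672, 4, 14⟩) (.one ⟨1766, 2, 16⟩))) (.node 2 (.node 1 (.one ⟨13237, 5, 14⟩) (.one ⟨15813, 6, 16⟩)) (.node 1 (.one ⟨12797, 4, 16⟩) (.one ⟨13754, 3, 11⟩)))) (.node 4 (.node 2 (.node 1 (.one ⟨9875, 2, 14⟩) (.one ⟨6580, 5, 15⟩)) (.node 1 (.one ⟨8780, 2, 13⟩) (.one ⟨14845, 3, 17⟩))) (.node 2 (.node 1 (.one ⟨8193, 5, 15⟩) (.one ⟨9964, 3, 14⟩)) (.node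 1 (.one ⟨15593, 3, 11⟩) (.one ⟨6938, 5, 14⟩))))) (.node 8 (.node 4 (.node 2 (.node 1 (.one ⟨9090, 5, 16⟩) (.one ⟨5373, 6, 14⟩)) (.node 1 (.one ⟨9059, 2, 13⟩) (.one ⟨3007, 3, 7⟩))) (.node 2 (.node 1 (.one ⟨5522, 5, 13⟩) (.one ⟨4917, 6, 12⟩)) (.node 1 (.one ⟨6713, 4, 9⟩) (.one ⟨5791, 5, 14⟩)))) (.node 4 (.node 2 (.node 1 (.one ⟨7806, 4, 14⟩) (.one ⟨14850, 4, 9⟩)) (.node 1 (.one ⟨10367, 6, 14⟩) (.one ⟨6941, 5, 16⟩))) (.node 2 (.node 1 (.one ⟨32, 5, 15⟩) (.one ⟨5497, 5, 14⟩)) (.node 1 (.one ⟨12691, 4, 15⟩) (.one ⟨2340, 6, 15⟩)))))))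
def par0_7_8 : Arr Par :=
  (.node 32 (.node 16 (.node 8 (.node 4 (.node 2 (.node 1 (.one ⟨13006, 6, 15⟩) (.one ⟨11082, 5, 16⟩)) (.node 1 (.one ⟨2531, 2, 13⟩) (.one ⟨6936, 5, 15⟩))) (.node 2 (.node 1 (.one ⟨14867, 4, 10⟩) (.one ⟨1036, 6, 13⟩)) (.node 1 (.one ⟨13438, 6, 15⟩) (.one ⟨6667, 6, 11⟩)))) (.node 4 (.node 2 (.node 1 (.one ⟨13015, 6, 14⟩) (.one ⟨12659, 4, 17⟩)) (.node 1 (.one ⟨13567, 5, 16⟩) (.one ⟨4595, 0, 14⟩))) (.node 2 (.node 1 (.one ⟨5564, 3, 16⟩) (.one ⟨15804, 4, 17⟩)) (.node 1 (.one ⟨15904, 4, 16⟩) (.one ⟨17144, 5, 15⟩))))) (.node 8 (.node 4 (.node 2 (.node 1 (.one ⟨4947, 6, 13⟩) (.one ⟨3112, 3, 6⟩)) (.node 1 (.one ⟨7666, 1, 14⟩) (.one ⟨13418, 6, 13⟩))) (.node 2 (.node 1 (.one ⟨13560, 5, 14⟩) (.one ⟨6806, 4, 10⟩))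 (.node 1 (.one ⟨6937, 5, 15⟩) (.one ⟨4929, 6, 16⟩)))) (.node 4 (.node 2 (.node 1 (.one ⟨1574, 4, 16⟩) (.one ⟨7784, 4, 13⟩)) (.node 1 (.one ⟨5710, 5, 15⟩) (.one ⟨14827, 4, 8⟩))) (.node 2 (.node 1 (.one ⟨2287, 6, 15⟩) (.one ⟨13586, 5, 15⟩)) (.node 1 (.one ⟨12706, 4, 15⟩) (.one ⟨6653, 6, 14⟩)))))) (.node 16 (.node 8 (.node 4 (.node 2 (.node 1 (.one ⟨15862, 4, 15⟩) (.one ⟨7682, 1, 14⟩)) (.node 1 (.one ⟨10388, 6, 16⟩) (.one ⟨11169, 5, 15⟩))) (.node 2 (.node 1 (.one ⟨13036, 6, 15⟩) (.one ⟨14779, 4, 11⟩)) (.node 1 (.one ⟨476, 6, 14⟩) (.one ⟨7178, 6, 17⟩)))) (.node 4 (.node 2 (.node 1 (.one ⟨15793, 4, 15⟩) (.one ⟨417, 6, 15⟩)) (.node 1 (.one ⟨3189, 2, 16⟩) (.one ⟨12985, 6, 15⟩))) (.node 2 (.node 1 (.one ⟨6701, 6, 12⟩) (.one ⟨6787, 4, 13⟩))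 (.node 1 (.one ⟨5595, 3, 15⟩) (.one ⟨1871, 4, 15⟩))))) (.node 8 (.node 4 (.node 2 (.node 1 (.one ⟨15496, 6, 7⟩) (.one ⟨5800, 5, 16⟩)) (.node 1 (.one ⟨5848, 3, 11⟩) (.one ⟨2221, 4, 11⟩))) (.node 2 (.node 1 (.one ⟨11921, 6, 14⟩) (.one ⟨7151, 5, 13⟩)) (.node 1 (.one ⟨5081, 3, 12⟩) (.one ⟨11363, 3, 9⟩)))) (.node 4 (.node 2 (.node 1 (.one ⟨2352, 5, 14⟩) (.one ⟨14819, 5, 16⟩)) (.node 1 (.one ⟨3836, 6, 11⟩) (.one ⟨15199, 5, 7⟩))) (.node 2 (.node 1 (.one ⟨14596, 3, 16⟩) (.one ⟨7165, 5, 13⟩)) (.node 1 (.one ⟨16320, 3, 12⟩) (.one ⟨1088, 5, 14⟩)))))))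
def par0_7_9 : Arr Par :=
  (.node 32 (.node 16 (.node 8 (.node 4 (.node 2 (.node 1 (.one ⟨10168, 4, 12⟩) (.one ⟨1822, 4, 14⟩)) (.node 1 (.one ⟨15253, 5, 16⟩) (.one ⟨11434, 3, 14⟩))) (.node 2 (.node 1 (.one ⟨3465, 6, 15⟩) (.one ⟨9845, 2, 16⟩)) (.node 1 (.one ⟨15874, 3, 17⟩) (.one ⟨810, 2, 13⟩)))) (.node 4 (.node 2 (.node 1 (.one ⟨299, 2, 14⟩) (.one ⟨434, 2, 14⟩)) (.node 1 (.one ⟨965, 2, 12⟩) (.one ⟨121, 2, 9⟩))) (.node 2 (.node 1 (.one ⟨15255, 5, 14⟩) (.one ⟨3387, 6, 15⟩)) (.node 1 (.one ⟨6793, 5, 14⟩) (.one ⟨5588, 3, 15⟩))))) (.node 8 (.node 4 (.node 2 (.node 1 (.one ⟨13831, 5, 17⟩) (.one ⟨7142, 5, 12⟩)) (.node 1 (.one ⟨677, 2, 13⟩) (.one ⟨15808, 3, 17⟩))) (.node 2 (.node 1 (.one ⟨933, 5, 14⟩) (.one ⟨9881, 4, 15⟩)) (.node 1 (.one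 ⟨742, 2, 14⟩) (.one ⟨342, 4, 15⟩)))) (.node 4 (.node 2 (.node 1 (.one ⟨6707, 5, 13⟩) (.one ⟨10482, 5, 14⟩)) (.node 1 (.one ⟨15222, 5, 16⟩) (.one ⟨2413, 5, 16⟩))) (.node 2 (.node 1 (.one ⟨15439, 6, 13⟩) (.one ⟨14603, 3, 15⟩)) (.node 1 (.one ⟨5615, 2, 13⟩) (.one ⟨9866, 4, 13⟩)))))) (.node 16 (.node 8 (.node 4 (.node 2 (.node 1 (.one ⟨5728, 5, 16⟩) (.one ⟨11349, 5, 14⟩)) (.node 1 (.one ⟨5718, 5, 13⟩) (.one ⟨7671, 4, 15⟩))) (.node 2 (.node 1 (.one ⟨442, 4, 14⟩) (.one ⟨15178, 5, 17⟩)) (.node 1 (.one ⟨1090, 5, 15⟩) (.one ⟨11698, 2, 15⟩)))) (.node 4 (.node 2 (.node 1 (.one ⟨2297, 2, 12⟩) (.one ⟨275, 5, 16⟩)) (.node 1 (.one ⟨14875, 5, 17⟩) (.one ⟨10970, 3, 16⟩))) (.node 2 (.node 1 (.one ⟨11866, 6, 15⟩) (.one ⟨12130, 2, 8⟩)) (.node 1 (.one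 ⟨2011, 2, 16⟩) (.one ⟨9839, 4, 12⟩))))) (.node 8 (.node 4 (.node 2 (.node 1 (.one ⟨5758, 5, 14⟩) (.one ⟨3878, 6, 14⟩)) (.node 1 (.one ⟨15871, 4, 16⟩) (.one ⟨7706, 4, 16⟩))) (.node 2 (.node 1 (.one ⟨1094, 5, 14⟩) (.one ⟨7192, 5, 16⟩)) (.node 1 (.one ⟨9881, 2, 15⟩) (.one ⟨10942, 3, 16⟩)))) (.node 4 (.node 2 (.node 1 (.one ⟨7789, 1, 9⟩) (.one ⟨11916, 6, 14⟩)) (.node 1 (.one ⟨4135, 2, 16⟩) (.one ⟨783, 5, 16⟩))) (.node 2 (.node 1 (.one ⟨7769, 3, 15⟩) (.one ⟨14771, 5, 16⟩)) (.node 1 (.one ⟨7784, 1, 13⟩) (.one ⟨5556, 3, 16⟩)))))))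
def par0_7_10 : Arr Par :=
  (.node 32 (.node 16 (.node 8 (.node 4 (.node 2 (.node 1 (.one ⟨7762, 1, 14⟩) (.one ⟨13798, 5, 16⟩)) (.node 1 (.one ⟨15221, 5, 13⟩) (.one ⟨7766, 1, 15⟩))) (.node 2 (.node 1 (.one ⟨15890, 3, 16⟩) (.one ⟨9894, 4, 14⟩)) (.node 1 (.one ⟨112, 5, 15⟩) (.one ⟨10458, 5, 15⟩)))) (.node 4 (.node 2 (.node 1 (.one ⟨7774, 1, 14⟩) (.one ⟨9642, 5, 15⟩)) (.node 1 (.one ⟨7353, 6, 14⟩) (.one ⟨7139, 5, 15⟩))) (.node 2 (.node 1 (.one ⟨1029, 5, 15⟩) (.one ⟨6813, 5, 14⟩)) (.node 1 (.one ⟨2438, 5, 14⟩) (.one ⟨7109, 5, 15⟩))))) (.node 8 (.node 4 (.node 2 (.node 1 (.one ⟨10280, 4, 13⟩) (.one ⟨1092, 5, 15⟩)) (.node 1 (.one ⟨1823, 4, 15⟩) (.one ⟨3355, 3, 15⟩))) (.node 2 (.node 1 (.one ⟨15774, 2, 17⟩) (.one ⟨11424, 5, 16⟩)) (.node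 1 (.one ⟨11566, 6, 15⟩) (.one ⟨7370, 6, 15⟩)))) (.node 4 (.node 2 (.node 1 (.one ⟨7755, 1, 10⟩) (.one ⟨5001, 3, 15⟩)) (.node 1 (.one ⟨6752, 5, 15⟩) (.one ⟨7754, 1, 13⟩))) (.node 2 (.node 1 (.one ⟨11947, 6, 15⟩) (.one ⟨7751, 1, 14⟩)) (.node 1 (.one ⟨7752, 1, 15⟩) (.one ⟨5896, 3, 12⟩)))))) (.node 16 (.node 8 (.node 4 (.node 2 (.node 1 (.one ⟨15210, 5, 15⟩) (.one ⟨11419, 3, 17⟩)) (.node 1 (.one ⟨7465, 6, 6⟩) (.one ⟨11842, 6, 13⟩))) (.node 2 (.node 1 (.one ⟨15201, 5, 14⟩) (.one ⟨2107, 4, 12⟩)) (.node 1 (.one ⟨13159, 3, 11⟩) (.one ⟨12463, 6, 16⟩)))) (.node 4 (.node 2 (.node 1 (.one ⟨8243, 3, 13⟩) (.one ⟨7157, 5, 6⟩)) (.node 1 (.one ⟨15214, 5, 12⟩) (.one ⟨3281, 3, 10⟩))) (.node 2 (.node 1 (.one ⟨5212, 3, 16⟩) (.one ⟨10437, 5, 15⟩)) (.node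 1 (.one ⟨3816, 6, 12⟩) (.one ⟨3311, 5, 13⟩))))) (.node 8 (.node 4 (.node 2 (.node 1 (.one ⟨3248, 5, 14⟩) (.one ⟨3280, 5, 5⟩)) (.node 1 (.one ⟨11443, 3, 15⟩) (.one ⟨3416, 3, 14⟩))) (.node 2 (.node 1 (.one ⟨11359, 5, 6⟩) (.one ⟨11327, 5, 15⟩)) (.node 1 (.one ⟨11392, 5, 12⟩) (.one ⟨15543, 6, 14⟩)))) (.node 4 (.node 2 (.node 1 (.one ⟨3331, 5, 15⟩) (.one ⟨7868, 1, 15⟩)) (.node 1 (.one ⟨14531, 2, 17⟩) (.one ⟨16049, 2, 16⟩))) (.node 2 (.node 1 (.one ⟨14466, 2, 14⟩) (.one ⟨11380, 5, 14⟩)) (.node 1 (.one ⟨7493, 6, 15⟩) (.one ⟨5706, 5, 14⟩)))))))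
def par0_7_11 : Arr Par :=
  (.node 32 (.node 16 (.node 8 (.node 4 (.node 2 (.node 1 (.one ⟨5696, 5, 6⟩) (.one ⟨5797, 5, 15⟩)) (.node 1 (.one ⟨5801, 5, 5⟩) (.one ⟨7877, 1, 15⟩))) (.node 2 (.node 1 (.one ⟨7734, 2, 13⟩) (.one ⟨16394, 2, 14⟩)) (.node 1 (.one ⟨7876, 1, 14⟩) (.one ⟨13866, 5, 17⟩)))) (.node 4 (.node 2 (.node 1 (.one ⟨4205, 2, 17⟩) (.one ⟨13861, 5, 16⟩)) (.node 1 (.one ⟨5763, 5, 16⟩) (.one ⟨3246, 6, 17⟩))) (.node 2 (.node 1 (.one ⟨5734, 5, 17⟩) (.one ⟨13768, 5, 17⟩)) (.node 1 (.one ⟨5737, 5, 15⟩) (.one ⟨2768, 0, 17⟩))))) (.node 8 (.node 4 (.node 2 (.node 1 (.one ⟨4830, 4, 15⟩) (.one ⟨4024, 5, 16⟩)) (.node 1 (.one ⟨4786, 4, 15⟩) (.one ⟨4094, 5, 16⟩))) (.node 2 (.node 1 (.one ⟨4834, 4, 14⟩) (.one ⟨5150, 6, 17⟩)) (.node 1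 (.one ⟨4814, 4, 14⟩) (.one ⟨12858, 4, 16⟩)))) (.node 4 (.node 2 (.node 1 (.one ⟨4040, 5, 16⟩) (.one ⟨12868, 4, 17⟩)) (.node 1 (.one ⟨12909, 4, 17⟩) (.one ⟨13173, 6, 14⟩))) (.node 2 (.node 1 (.one ⟨13200, 6, 14⟩) (.one ⟨5130, 6, 13⟩)) (.node 1 (.one ⟨5163, 6, 13⟩) (.one ⟨5098, 6, 14⟩)))))) (.node 16 (.node 8 (.node 4 (.node 2 (.node 1 (.one ⟨13103, 6, 13⟩) (.one ⟨13147, 6, 15⟩)) (.node 1 (.one ⟨15126, 3, 14⟩) (.one ⟨2145, 4, 15⟩))) (.node 2 (.node 1 (.one ⟨2182, 4, 16⟩) (.one ⟨2163, 4, 16⟩)) (.node 1 (.one ⟨5094, 6, 16⟩) (.one ⟨10243, 4, 15⟩)))) (.node 4 (.node 2 (.node 1 (.one ⟨5074, 6, 14⟩) (.one ⟨13158, 6, 15⟩)) (.node 1 (.one ⟨14293, 2, 16⟩) (.one ⟨11152, 5, 13⟩))) (.node 2 (.node 1 (.one ⟨10260, 4, 16⟩) (.one ⟨3058, 5, 17⟩))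 (.node 1 (.one ⟨11065, 5, 14⟩) (.one ⟨3116, 5, 15⟩))))) (.node 8 (.node 4 (.node 2 (.node 1 (.one ⟨7921, 1, 14⟩) (.one ⟨11014, 2, 13⟩)) (.node 1 (.one ⟨8665, 3, 15⟩) (.one ⟨7926, 1, 16⟩))) (.node 2 (.node 1 (.one ⟨17095, 6, 15⟩) (.one ⟨9017, 6, 16⟩)) (.node 1 (.one ⟨7538, 2, 15⟩) (.one ⟨15831, 4, 15⟩)))) (.node 4 (.node 2 (.node 1 (.one ⟨11181, 5, 11⟩) (.one ⟨11077, 5, 12⟩)) (.node 1 (.one ⟨15884, 4, 16⟩) (.one ⟨11168, 5, 17⟩))) (.node 2 (.node 1 (.one ⟨15898, 4, 16⟩) (.one ⟨3072, 5, 17⟩)) (.node 1 (.one ⟨16736, 3, 17⟩) (.one ⟨4581, 2, 15⟩)))))))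
def par0_7_12 : Arr Par :=
  (.node 32 (.node 16 (.node 8 (.node 4 (.node 2 (.node 1 (.one ⟨7935, 1, 16⟩) (.one ⟨9097, 6, 14⟩)) (.node 1 (.one ⟨17136, 6, 15⟩) (.one ⟨7045, 4, 15⟩))) (.node 2 (.node 1 (.one ⟨7033, 4, 14⟩) (.one ⟨17167, 6, 15⟩)) (.node 1 (.one ⟨7026, 4, 15⟩) (.one ⟨15101, 4, 15⟩)))) (.node 4 (.node 2 (.node 1 (.one ⟨4100, 5, 15⟩) (.one ⟨12581, 2, 13⟩)) (.node 1 (.one ⟨7945, 1, 14⟩) (.one ⟨12436, 2, 15⟩))) (.node 2 (.node 1 (.one ⟨7947, 1, 16⟩) (.one ⟨2642, 3, 16⟩)) (.node 1 (.one ⟨15118, 4, 17⟩) (.one ⟨11433, 5, 17⟩))))) (.node 8 (.node 4 (.node 2 (.node 1 (.one ⟨11405, 5, 16⟩) (.one ⟨13611, 3, 13⟩)) (.node 1 (.one ⟨7647, 2, 13⟩) (.one ⟨15897, 0, 14⟩))) (.node 2 (.node 1 (.one ⟨7954, 1, 14⟩) (.one ⟨3351, 5, 16⟩))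 (.node 1 (.one ⟨3323, 5, 15⟩) (.one ⟨11352, 5, 14⟩)))) (.node 4 (.node 2 (.node 1 (.one ⟨9850, 4, 16⟩) (.one ⟨7964, 1, 15⟩)) (.node 1 (.one ⟨3152, 6, 16⟩) (.one ⟨11241, 6, 15⟩))) (.node 2 (.node 1 (.one ⟨12197, 2, 14⟩) (.one ⟨9862, 4, 15⟩)) (.node 1 (.one ⟨3305, 5, 15⟩) (.one ⟨2141, 0, 14⟩)))))) (.node 16 (.node 8 (.node 4 (.node 2 (.node 1 (.one ⟨2833, 3, 14⟩) (.one ⟨10872, 3, 15⟩)) (.node 1 (.one ⟨2844, 3, 15⟩) (.one ⟨7808, 0, 15⟩))) (.node 2 (.node 1 (.one ⟨2857, 3, 15⟩) (.one ⟨10879, 3, 16⟩)) (.node 1 (.one ⟨2851, 3, 14⟩) (.one ⟨7567, 6, 16⟩)))) (.node 4 (.node 2 (.node 1 (.one ⟨7978, 1, 16⟩) (.one ⟨15651, 6, 16⟩)) (.node 1 (.one ⟨5674, 2, 15⟩) (.one ⟨15617, 6, 16⟩))) (.node 2 (.node 1 (.one ⟨7546, 6, 16⟩) (.one ⟨2804, 3, 16⟩))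 (.node 1 (.one ⟨15630, 6, 15⟩) (.one ⟨3099, 5, 10⟩))))) (.node 8 (.node 4 (.node 2 (.node 1 (.one ⟨12864, 6, 14⟩) (.one ⟨2966, 4, 10⟩)) (.node 1 (.one ⟨6319, 6, 15⟩) (.one ⟨11368, 6, 6⟩))) (.node 2 (.node 1 (.one ⟨724, 5, 13⟩) (.one ⟨7742, 6, 13⟩)) (.node 1 (.one ⟨5010, 5, 13⟩) (.one ⟨8002, 1, 17⟩)))) (.node 4 (.node 2 (.node 1 (.one ⟨979, 5, 13⟩) (.one ⟨3061, 5, 11⟩)) (.node 1 (.one ⟨7855, 4, 14⟩) (.one ⟨2768, 4, 17⟩))) (.node 2 (.node 1 (.one ⟨16772, 5, 13⟩) (.one ⟨15787, 5, 13⟩)) (.node 1 (.one ⟨11023, 4, 10⟩) (.one ⟨7862, 4, 13⟩)))))))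
def par0_7_13 : Arr Par :=
  (.node 32 (.node 16 (.node 8 (.node 4 (.node 2 (.node 1 (.one ⟨12, 5, 14⟩) (.one ⟨3037, 5, 12⟩)) (.node 1 (.one ⟨11498, 2, 16⟩) (.one ⟨10998, 4, 9⟩))) (.node 2 (.node 1 (.one ⟨16756, 5, 14⟩) (.one ⟨15758, 5, 14⟩)) (.node 1 (.one ⟨2784, 4, 16⟩) (.one ⟨2928, 4, 11⟩)))) (.node 4 (.node 2 (.node 1 (.one ⟨563, 5, 12⟩) (.one ⟨14428, 6, 14⟩)) (.node 1 (.one ⟨3287, 6, 5⟩) (.one ⟨4978, 5, 14⟩))) (.node 2 (.node 1 (.one ⟨2998, 5, 11⟩) (.one ⟨7848, 6, 14⟩)) (.node 1 (.one ⟨12860, 6, 15⟩) (.one ⟨4747, 0, 14⟩))))) (.node 8 (.node 4 (.node 2 (.node 1 (.one ⟨489, 5, 16⟩) (.one ⟨16786, 4, 16⟩)) (.node 1 (.one ⟨4796, 6, 12⟩) (.one ⟨5036, 5, 15⟩))) (.node 2 (.node 1 (.one ⟨11161, 5, 12⟩) (.one ⟨5932, 2, 17⟩)) (.node 1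 (.one ⟨11386, 6, 15⟩) (.one ⟨5304, 3, 15⟩)))) (.node 4 (.node 2 (.node 1 (.one ⟨13288, 2, 13⟩) (.one ⟨6358, 6, 17⟩)) (.node 1 (.one ⟨15314, 2, 16⟩) (.one ⟨16299, 6, 11⟩))) (.node 2 (.node 1 (.one ⟨3456, 3, 14⟩) (.one ⟨5217, 6, 14⟩)) (.node 1 (.one ⟨5823, 6, 15⟩) (.one ⟨14486, 2, 15⟩)))))) (.node 16 (.node 8 (.node 4 (.node 2 (.node 1 (.one ⟨8024, 1, 14⟩) (.one ⟨8718, 5, 16⟩)) (.node 1 (.one ⟨11551, 3, 13⟩) (.one ⟨4827, 6, 16⟩))) (.node 2 (.node 1 (.one ⟨8198, 6, 12⟩) (.one ⟨5906, 6, 16⟩)) (.node 1 (.one ⟨13480, 3, 14⟩) (.one ⟨3338, 6, 14⟩)))) (.node 4 (.node 2 (.node 1 (.one ⟨11058, 5, 11⟩) (.one ⟨7057, 0, 15⟩)) (.node 1 (.one ⟨617, 3, 16⟩) (.one ⟨4799, 6, 13⟩))) (.node 2 (.node 1 (.one ⟨650, 5, 15⟩) (.one ⟨5004, 5, 16⟩)) (.node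 1 (.one ⟨14215, 3, 16⟩) (.one ⟨5008, 6, 13⟩))))) (.node 8 (.node 4 (.node 2 (.node 1 (.one ⟨10993, 4, 15⟩) (.one ⟨14010, 3, 15⟩)) (.node 1 (.one ⟨13321, 5, 13⟩) (.one ⟨8069, 1, 14⟩))) (.node 2 (.node 1 (.one ⟨8306, 6, 13⟩) (.one ⟨7165, 6, 13⟩)) (.node 1 (.one ⟨12083, 2, 13⟩) (.one ⟨12795, 5, 15⟩)))) (.node 4 (.node 2 (.node 1 (.one ⟨6161, 4, 14⟩) (.one ⟨12045, 5, 15⟩)) (.node 1 (.one ⟨8076, 1, 15⟩) (.one ⟨3588, 5, 15⟩))) (.node 2 (.node 1 (.one ⟨12765, 3, 16⟩) (.one ⟨5228, 5, 14⟩)) (.node 1 (.one ⟨8071, 1, 15⟩) (.one ⟨5240, 5, 12⟩)))))))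
def par0_7_14 : Arr Par :=
  (.node 32 (.node 16 (.node 8 (.node 4 (.node 2 (.node 1 (.one ⟨3358, 2, 15⟩) (.one ⟨4976, 6, 12⟩)) (.node 1 (.one ⟨11027, 4, 16⟩) (.one ⟨8054, 1, 14⟩))) (.node 2 (.node 1 (.one ⟨15214, 6, 12⟩) (.one ⟨5628, 2, 13⟩)) (.node 1 (.one ⟨16393, 6, 12⟩) (.one ⟨3888, 2, 14⟩)))) (.node 4 (.node 2 (.node 1 (.one ⟨2264, 6, 15⟩) (.one ⟨5003, 6, 14⟩)) (.node 1 (.one ⟨12760, 3, 17⟩) (.one ⟨2932, 4, 16⟩))) (.node 2 (.node 1 (.one ⟨3891, 2, 14⟩) (.one ⟨6186, 4, 15⟩)) (.node 1 (.one ⟨13276, 5, 15⟩) (.one ⟨14780, 4, 15⟩))))) (.node 8 (.node 4 (.node 2 (.node 1 (.one ⟨12757, 3, 16⟩) (.one ⟨58, 4, 15⟩)) (.node 1 (.one ⟨10300, 6, 14⟩) (.one ⟨10710, 3, 14⟩))) (.node 2 (.node 1 (.one ⟨5531, 3, 16⟩) (.one ⟨16943, 3, 13⟩)) (.node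 1 (.one ⟨13293, 5, 15⟩) (.one ⟨3623, 5, 16⟩)))) (.node 4 (.node 2 (.node 1 (.one ⟨5657, 4, 16⟩) (.one ⟨439, 5, 16⟩)) (.node 1 (.one ⟨12792, 5, 17⟩) (.one ⟨12016, 5, 16⟩))) (.node 2 (.node 1 (.one ⟨2025, 4, 14⟩) (.one ⟨15943, 6, 13⟩)) (.node 1 (.one ⟨5255, 5, 15⟩) (.one ⟨13554, 3, 15⟩)))))) (.node 16 (.node 8 (.node 4 (.node 2 (.node 1 (.one ⟨8915, 3, 12⟩) (.one ⟨15423, 2, 16⟩)) (.node 1 (.one ⟨2244, 6, 15⟩) (.one ⟨515, 4, 14⟩))) (.node 2 (.node 1 (.one ⟨2018, 4, 16⟩) (.one ⟨5209, 5, 14⟩)) (.node 1 (.one ⟨2621, 3, 15⟩) (.one ⟨3613, 5, 15⟩)))) (.node 4 (.node 2 (.node 1 (.one ⟨14989, 4, 17⟩) (.one ⟨815, 3, 16⟩)) (.node 1 (.one ⟨13306, 5, 16⟩) (.one ⟨2051, 4, 15⟩))) (.node 2 (.node 1 (.one ⟨15944, 6, 14⟩) (.one ⟨13612, 3, 16⟩)) (.node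 1 (.one ⟨545, 4, 15⟩) (.one ⟨4410, 4, 14⟩))))) (.node 8 (.node 4 (.node 2 (.node 1 (.one ⟨16207, 1, 17⟩) (.one ⟨3957, 2, 15⟩)) (.node 1 (.one ⟨16314, 4, 15⟩) (.one ⟨16213, 1, 16⟩))) (.node 2 (.node 1 (.one ⟨8210, 4, 16⟩) (.one ⟨12054, 4, 15⟩)) (.node 1 (.one ⟨14044, 3, 13⟩) (.one ⟨3501, 5, 15⟩)))) (.node 4 (.node 2 (.node 1 (.one ⟨16422, 4, 17⟩) (.one ⟨5225, 6, 15⟩)) (.node 1 (.one ⟨5916, 5, 12⟩) (.one ⟨2198, 5, 15⟩))) (.node 2 (.node 1 (.one ⟨15634, 5, 15⟩) (.one ⟨12038, 4, 14⟩)) (.node 1 (.one ⟨7468, 5, 15⟩) (.one ⟨16660, 3, 16⟩)))))))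
def par0_7_15 : Arr Par :=
  (.node 32 (.node 16 (.node 8 (.node 4 (.node 2 (.node 1 (.one ⟨15474, 5, 16⟩) (.one ⟨4424, 4, 12⟩)) (.node 1 (.one ⟨16403, 4, 14⟩) (.one ⟨13260, 6, 13⟩))) (.node 2 (.node 1 (.one ⟨8248, 4, 16⟩) (.one ⟨12860, 3, 15⟩)) (.node 1 (.one ⟨1691, 5, 16⟩) (.one ⟨4796, 3, 12⟩)))) (.node 4 (.node 2 (.node 1 (.one ⟨5998, 3, 12⟩) (.one ⟨16384, 4, 17⟩)) (.node 1 (.one ⟨2981, 0, 11⟩) (.one ⟨14612, 0, 13⟩))) (.node 2 (.node 1 (.one ⟨13964, 5, 11⟩) (.one ⟨16668, 0, 16⟩)) (.node 1 (.one ⟨12069, 4, 14⟩) (.one ⟨1667, 2, 16⟩))))) (.node 8 (.node 4 (.node 2 (.node 1 (.one ⟨11526, 5, 15⟩) (.one ⟨15493, 5, 16⟩)) (.node 1 (.one ⟨14456, 6, 13⟩) (.one ⟨8322, 4, 15⟩))) (.node 2 (.node 1 (.one ⟨16268, 4, 15⟩) (.one ⟨5288, 6, 12⟩))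 (.node 1 (.one ⟨9691, 5, 14⟩) (.one ⟨8157, 2, 14⟩)))) (.node 4 (.node 2 (.node 1 (.one ⟨6008, 3, 12⟩) (.one ⟨13975, 5, 14⟩)) (.node 1 (.one ⟨8156, 2, 16⟩) (.one ⟨14101, 5, 15⟩))) (.node 2 (.node 1 (.one ⟨14147, 3, 15⟩) (.one ⟨898, 3, 13⟩)) (.node 1 (.one ⟨8152, 2, 13⟩) (.one ⟨13995, 5, 10⟩)))))) (.node 16 (.node 8 (.node 4 (.node 2 (.node 1 (.one ⟨11250, 5, 14⟩) (.one ⟨3462, 5, 15⟩)) (.node 1 (.one ⟨6016, 5, 13⟩) (.one ⟨16232, 4, 14⟩))) (.node 2 (.node 1 (.one ⟨15604, 5, 17⟩) (.one ⟨16195, 1, 16⟩)) (.node 1 (.one ⟨1672, 5, 14⟩) (.one ⟨4453, 4, 10⟩)))) (.node 4 (.node 2 (.node 1 (.one ⟨8243, 4, 13⟩) (.one ⟨8305, 4, 4⟩)) (.node 1 (.one ⟨5948, 3, 11⟩) (.one ⟨4783, 3, 15⟩))) (.node 2 (.node 1 (.one ⟨16204, 1, 15⟩) (.one ⟨1614, 5, 12⟩))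 (.node 1 (.one ⟨8192, 4, 15⟩) (.one ⟨13150, 5, 12⟩))))) (.node 8 (.node 4 (.node 2 (.node 1 (.one ⟨12896, 5, 16⟩) (.one ⟨10617, 5, 13⟩)) (.node 1 (.one ⟨16235, 4, 13⟩) (.one ⟨12230, 5, 14⟩))) (.node 2 (.node 1 (.one ⟨4463, 3, 15⟩) (.one ⟨4478, 4, 15⟩)) (.node 1 (.one ⟨10839, 3, 16⟩) (.one ⟨2831, 5, 11⟩)))) (.node 4 (.node 2 (.node 1 (.one ⟨6277, 4, 14⟩) (.one ⟨13135, 5, 14⟩)) (.node 1 (.one ⟨12271, 6, 15⟩) (.one ⟨4176, 5, 15⟩))) (.node 2 (.node 1 (.one ⟨16940, 4, 14⟩) (.one ⟨10211, 5, 16⟩)) (.node 1 (.one ⟨11261, 5, 12⟩) (.one ⟨12572, 4, 13⟩)))))))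
def par0_7 : Arr Par :=
  (.node 512 (.node 256 (.node 128 (.node 64 par0_7_0 par0_7_1) (.node 64 par0_7_2 par0_7_3)) (.node 128 (.node 64 par0_7_4 par0_7_5) (.node 64 par0_7_6 par0_7_7))) (.node 256 (.node 128 (.node 64 par0_7_8 par0_7_9) (.node 64 par0_7_10 par0_7_11)) (.node 128 (.node 64 par0_7_12 par0_7_13) (.node 64 par0_7_14 par0_7_15))))
def par0_8_0 : Arr Par :=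
  (.node 32 (.node 16 (.node 8 (.node 4 (.node 2 (.node 1 (.one ⟨5641, 2, 14⟩) (.one ⟨6208, 4, 14⟩)) (.node 1 (.one ⟨2764, 3, 13⟩) (.one ⟨3335, 2, 13⟩))) (.node 2 (.node 1 (.one ⟨16882, 2, 13⟩) (.one ⟨10380, 2, 11⟩)) (.node 1 (.one ⟨11520, 4, 11⟩) (.one ⟨16908, 4, 13⟩)))) (.node 4 (.node 2 (.node 1 (.one ⟨13130, 5, 13⟩) (.one ⟨12981, 6, 13⟩)) (.node 1 (.one ⟨8124, 4, 16⟩) (.one ⟨4239, 5, 14⟩))) (.node 2 (.node 1 (.one ⟨11538, 4, 11⟩) (.one ⟨2776, 3, 16⟩)) (.node 1 (.one ⟨4483, 4, 15⟩) (.one ⟨10577, 4, 16⟩))))) (.node 8 (.node 4 (.node 2 (.node 1 (.one ⟨12857, 5, 14⟩) (.one ⟨11546, 4, 10⟩)) (.node 1 (.one ⟨16251, 1, 15⟩) (.one ⟨5057, 5, 11⟩))) (.node 2 (.node 1 (.one ⟨4510, 4, 15⟩) (.one ⟨4927, 6, 12⟩)) (.node 1 (.one ⟨5342, 4, 16⟩)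 (.one ⟨4211, 6, 9⟩)))) (.node 4 (.node 2 (.node 1 (.one ⟨10656, 2, 13⟩) (.one ⟨10198, 5, 16⟩)) (.node 1 (.one ⟨2498, 4, 14⟩) (.one ⟨3164, 6, 16⟩))) (.node 2 (.node 1 (.one ⟨10670, 5, 15⟩) (.one ⟨6478, 6, 13⟩)) (.node 1 (.one ⟨7662, 6, 12⟩) (.one ⟨4223, 6, 11⟩)))))) (.node 16 (.node 8 (.node 4 (.node 2 (.node 1 (.one ⟨14433, 3, 15⟩) (.one ⟨5079, 5, 10⟩)) (.node 1 (.one ⟨13436, 3, 15⟩) (.one ⟨15887, 2, 14⟩))) (.node 2 (.node 1 (.one ⟨4810, 5, 12⟩) (.one ⟨14274, 4, 15⟩)) (.node 1 (.one ⟨5373, 4, 14⟩) (.one ⟨4518, 4, 15⟩)))) (.node 4 (.node 2 (.node 1 (.one ⟨389, 6, 14⟩) (.one ⟨10873, 5, 14⟩)) (.node 1 (.one ⟨5077, 5, 10⟩) (.one ⟨14309, 4, 15⟩))) (.node 2 (.node 1 (.one ⟨12228, 6, 15⟩) (.one ⟨2134, 5, 15⟩)) (.node 1 (.one ⟨1036, 3,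 13⟩) (.one ⟨8417, 5, 16⟩))))) (.node 8 (.node 4 (.node 2 (.node 1 (.one ⟨8939, 5, 8⟩) (.one ⟨2998, 6, 11⟩)) (.node 1 (.one ⟨7442, 5, 15⟩) (.one ⟨2209, 5, 12⟩))) (.node 2 (.node 1 (.one ⟨2590, 5, 17⟩) (.one ⟨3792, 3, 13⟩)) (.node 1 (.one ⟨7154, 4, 11⟩) (.one ⟨16943, 4, 13⟩)))) (.node 4 (.node 2 (.node 1 (.one ⟨2178, 5, 15⟩) (.one ⟨10597, 2, 10⟩)) (.node 1 (.one ⟨3946, 4, 16⟩) (.one ⟨11161, 6, 12⟩))) (.node 2 (.node 1 (.one ⟨16441, 5, 15⟩) (.one ⟨16747, 2, 16⟩)) (.node 1 (.one ⟨7126, 4, 15⟩) (.one ⟨3922, 4, 16⟩)))))))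
def par0_8_1 : Arr Par :=
  (.node 32 (.node 16 (.node 8 (.node 4 (.node 2 (.node 1 (.one ⟨1994, 6, 17⟩) (.one ⟨8905, 4, 13⟩)) (.node 1 (.one ⟨13331, 6, 16⟩) (.one ⟨3037, 6, 12⟩))) (.node 2 (.node 1 (.one ⟨16308, 1, 9⟩) (.one ⟨16309, 1, 10⟩)) (.node 1 (.one ⟨16305, 1, 13⟩) (.one ⟨16464, 5, 15⟩)))) (.node 4 (.node 2 (.node 1 (.one ⟨16312, 1, 14⟩) (.one ⟨11990, 4, 14⟩)) (.node 1 (.one ⟨16801, 2, 15⟩) (.one ⟨15184, 4, 10⟩))) (.node 2 (.node 1 (.one ⟨16992, 5, 11⟩) (.one ⟨10176, 5, 15⟩)) (.node 1 (.one ⟨14751, 5, 13⟩) (.one ⟨16985, 5, 8⟩))))) (.node 8 (.node 4 (.node 2 (.node 1 (.one ⟨3904, 4, 14⟩) (.one ⟨2115, 5, 14⟩)) (.node 1 (.one ⟨3792, 5, 13⟩) (.one ⟨11663, 2, 12⟩))) (.node 2 (.node 1 (.one ⟨16355, 1, 10⟩) (.one ⟨17170, 3, 16⟩))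 (.node 1 (.one ⟨14713, 5, 12⟩) (.one ⟨10429, 4, 12⟩)))) (.node 4 (.node 2 (.node 1 (.one ⟨8085, 6, 14⟩) (.one ⟨8924, 5, 13⟩)) (.node 1 (.one ⟨6098, 2, 16⟩) (.one ⟨2150, 5, 15⟩))) (.node 2 (.node 1 (.one ⟨3294, 4, 15⟩) (.one ⟨15174, 4, 10⟩)) (.node 1 (.one ⟨11967, 4, 16⟩) (.one ⟨16297, 0, 13⟩)))))) (.node 16 (.node 8 (.node 4 (.node 2 (.node 1 (.one ⟨11926, 3, 14⟩) (.one ⟨16977, 5, 12⟩)) (.node 1 (.one ⟨14214, 0, 15⟩) (.one ⟨11074, 3, 13⟩))) (.node 2 (.node 1 (.one ⟨16335, 1, 16⟩) (.one ⟨5112, 3, 13⟩)) (.node 1 (.one ⟨16191, 4, 15⟩) (.one ⟨6670, 5, 13⟩)))) (.node 4 (.node 2 (.node 1 (.one ⟨12219, 5, 15⟩) (.one ⟨3895, 4, 14⟩)) (.node 1 (.one ⟨16149, 6, 14⟩) (.one ⟨10274, 5, 16⟩))) (.node 2 (.node 1 (.one ⟨6320, 6, 11⟩) (.one ⟨3885,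 0, 14⟩)) (.node 1 (.one ⟨9088, 3, 15⟩) (.one ⟨10541, 3, 12⟩))))) (.node 8 (.node 4 (.node 2 (.node 1 (.one ⟨16392, 1, 14⟩) (.one ⟨2207, 5, 3⟩)) (.node 1 (.one ⟨7051, 5, 12⟩) (.one ⟨11278, 6, 16⟩))) (.node 2 (.node 1 (.one ⟨4110, 4, 12⟩) (.one ⟨1601, 5, 10⟩)) (.node 1 (.one ⟨6678, 5, 11⟩) (.one ⟨14522, 4, 13⟩)))) (.node 4 (.node 2 (.node 1 (.one ⟨6685, 5, 16⟩) (.one ⟨15140, 5, 14⟩)) (.node 1 (.one ⟨10273, 5, 17⟩) (.one ⟨936, 2, 17⟩))) (.node 2 (.node 1 (.one ⟨11308, 6, 15⟩) (.one ⟨14486, 4, 15⟩)) (.node 1 (.one ⟨5785, 3, 15⟩) (.one ⟨10596, 4, 17⟩)))))))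
def par0_8_2 : Arr Par :=
  (.node 32 (.node 16 (.node 8 (.node 4 (.node 2 (.node 1 (.one ⟨14066, 5, 17⟩) (.one ⟨4999, 6, 13⟩)) (.node 1 (.one ⟨2118, 5, 14⟩) (.one ⟨12291, 6, 14⟩))) (.node 2 (.node 1 (.one ⟨9682, 5, 13⟩) (.one ⟨12105, 4, 16⟩)) (.node 1 (.one ⟨5925, 5, 16⟩) (.one ⟨12230, 4, 14⟩)))) (.node 4 (.node 2 (.node 1 (.one ⟨10439, 3, 13⟩) (.one ⟨10582, 4, 14⟩)) (.node 1 (.one ⟨10745, 2, 16⟩) (.one ⟨13742, 3, 12⟩))) (.node 2 (.node 1 (.one ⟨11269, 6, 15⟩) (.one ⟨6657, 3, 15⟩)) (.node 1 (.one ⟨7730, 2, 12⟩) (.one ⟨13392, 2, 15⟩))))) (.node 8 (.node 4 (.node 2 (.node 1 (.one ⟨11261, 6, 12⟩) (.one ⟨5640, 3, 13⟩)) (.node 1 (.one ⟨10229, 5, 14⟩) (.one ⟨6437, 4, 14⟩))) (.node 2 (.node 1 (.one ⟨3629, 2, 16⟩) (.one ⟨9663, 5, 13⟩))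 (.node 1 (.one ⟨12277, 4, 15⟩) (.one ⟨14037, 5, 17⟩)))) (.node 4 (.node 2 (.node 1 (.one ⟨14497, 4, 12⟩) (.one ⟨5756, 3, 16⟩)) (.node 1 (.one ⟨7682, 6, 14⟩) (.one ⟨2166, 5, 17⟩))) (.node 2 (.node 1 (.one ⟨6455, 4, 12⟩) (.one ⟨2378, 4, 15⟩)) (.node 1 (.one ⟨12294, 4, 15⟩) (.one ⟨6000, 5, 15⟩)))))) (.node 16 (.node 8 (.node 4 (.node 2 (.node 1 (.one ⟨10193, 5, 12⟩) (.one ⟨2833, 5, 14⟩)) (.node 1 (.one ⟨14726, 5, 11⟩) (.one ⟨1616, 5, 13⟩))) (.node 2 (.node 1 (.one ⟨16412, 1, 15⟩) (.one ⟨7043, 5, 14⟩)) (.node 1 (.one ⟨12124, 4, 15⟩) (.one ⟨11249, 6, 16⟩)))) (.node 4 (.node 2 (.node 1 (.one ⟨2131, 5, 12⟩) (.one ⟨15145, 5, 15⟩)) (.node 1 (.one ⟨11038, 5, 14⟩) (.one ⟨14729, 5, 13⟩))) (.node 2 (.node 1 (.one ⟨10872, 5, 15⟩) (.one ⟨790,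 6, 15⟩)) (.node 1 (.one ⟨15209, 2, 11⟩) (.one ⟨1753, 6, 16⟩))))) (.node 8 (.node 4 (.node 2 (.node 1 (.one ⟨16553, 3, 14⟩) (.one ⟨5897, 6, 13⟩)) (.node 1 (.one ⟨16991, 6, 15⟩) (.one ⟨15563, 3, 7⟩))) (.node 2 (.node 1 (.one ⟨4050, 5, 11⟩) (.one ⟨5954, 4, 12⟩)) (.node 1 (.one ⟨11374, 6, 11⟩) (.one ⟨8414, 1, 15⟩)))) (.node 4 (.node 2 (.node 1 (.one ⟨2031, 3, 12⟩) (.one ⟨8408, 1, 14⟩)) (.node 1 (.one ⟨6733, 0, 13⟩) (.one ⟨3630, 6, 13⟩))) (.node 2 (.node 1 (.one ⟨6489, 3, 15⟩) (.one ⟨11312, 5, 15⟩)) (.node 1 (.one ⟨6921, 0, 16⟩) (.one ⟨4068, 5, 13⟩)))))))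
def par0_8_3 : Arr Par :=
  (.node 32 (.node 16 (.node 8 (.node 4 (.node 2 (.node 1 (.one ⟨4776, 0, 15⟩) (.one ⟨5267, 3, 16⟩)) (.node 1 (.one ⟨16049, 4, 16⟩) (.one ⟨14484, 2, 14⟩))) (.node 2 (.node 1 (.one ⟨11672, 4, 13⟩) (.one ⟨13062, 5, 16⟩)) (.node 1 (.one ⟨4669, 5, 14⟩) (.one ⟨758, 5, 15⟩)))) (.node 4 (.node 2 (.node 1 (.one ⟨4685, 4, 14⟩) (.one ⟨7459, 6, 14⟩)) (.node 1 (.one ⟨11328, 5, 17⟩) (.one ⟨8423, 1, 17⟩))) (.node 2 (.node 1 (.one ⟨11654, 6, 13⟩) (.one ⟨3271, 6, 10⟩)) (.node 1 (.one ⟨13045, 5, 16⟩) (.one ⟨12132, 5, 12⟩))))) (.node 8 (.node 4 (.node 2 (.node 1 (.one ⟨8902, 6, 16⟩) (.one ⟨5852, 6, 12⟩)) (.node 1 (.one ⟨7473, 3, 6⟩) (.one ⟨5937, 4, 13⟩))) (.node 2 (.node 1 (.one ⟨12553, 5, 16⟩) (.one ⟨16523, 3, 15⟩)) (.node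 1 (.one ⟨3290, 6, 12⟩) (.one ⟨975, 5, 15⟩)))) (.node 4 (.node 2 (.node 1 (.one ⟨12386, 2, 13⟩) (.one ⟨2013, 3, 13⟩)) (.node 1 (.one ⟨3264, 5, 16⟩) (.one ⟨12048, 0, 14⟩))) (.node 2 (.node 1 (.one ⟨3614, 6, 12⟩) (.one ⟨11338, 6, 16⟩)) (.node 1 (.one ⟨16550, 2, 14⟩) (.one ⟨4668, 5, 15⟩)))))) (.node 16 (.node 8 (.node 4 (.node 2 (.node 1 (.one ⟨9230, 2, 15⟩) (.one ⟨16072, 4, 15⟩)) (.node 1 (.one ⟨5999, 4, 15⟩) (.one ⟨8387, 1, 15⟩))) (.node 2 (.node 1 (.one ⟨11694, 4, 12⟩) (.one ⟨12113, 5, 14⟩)) (.node 1 (.one ⟨12396, 2, 16⟩) (.one ⟨7152, 2, 16⟩)))) (.node 4 (.node 2 (.node 1 (.one ⟨13997, 6, 16⟩) (.one ⟨8180, 2, 16⟩)) (.node 1 (.one ⟨3252, 5, 17⟩) (.one ⟨15491, 6, 15⟩))) (.node 2 (.node 1 (.one ⟨11323, 6, 11⟩) (.one ⟨4680, 4, 15⟩))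 (.node 1 (.one ⟨11638, 6, 12⟩) (.one ⟨11205, 5, 15⟩))))) (.node 8 (.node 4 (.node 2 (.node 1 (.one ⟨16981, 0, 16⟩) (.one ⟨909, 5, 12⟩)) (.node 1 (.one ⟨5830, 3, 11⟩) (.one ⟨15204, 6, 12⟩))) (.node 2 (.node 1 (.one ⟨13164, 6, 12⟩) (.one ⟨8466, 1, 15⟩)) (.node 1 (.one ⟨8425, 3, 17⟩) (.one ⟨14413, 5, 15⟩)))) (.node 4 (.node 2 (.node 1 (.one ⟨7618, 6, 16⟩) (.one ⟨1991, 5, 15⟩)) (.node 1 (.one ⟨5030, 3, 15⟩) (.one ⟨14022, 4, 16⟩))) (.node 2 (.node 1 (.one ⟨6918, 5, 13⟩) (.one ⟨5710, 3, 15⟩)) (.node 1 (.one ⟨7596, 6, 13⟩) (.one ⟨4139, 2, 14⟩)))))))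
def par0_8_4 : Arr Par :=
  (.node 32 (.node 16 (.node 8 (.node 4 (.node 2 (.node 1 (.one ⟨10062, 5, 14⟩) (.one ⟨6364, 5, 16⟩)) (.node 1 (.one ⟨2072, 2, 10⟩) (.one ⟨4926, 3, 16⟩))) (.node 2 (.node 1 (.one ⟨13739, 2, 13⟩) (.one ⟨5974, 4, 14⟩)) (.node 1 (.one ⟨10110, 4, 14⟩) (.one ⟨8494, 1, 14⟩)))) (.node 4 (.node 2 (.node 1 (.one ⟨10052, 5, 16⟩) (.one ⟨8491, 1, 13⟩)) (.node 1 (.one ⟨15188, 6, 15⟩) (.one ⟨8488, 1, 13⟩))) (.node 2 (.node 1 (.one ⟨11222, 5, 15⟩) (.one ⟨8489, 1, 14⟩)) (.node 1 (.one ⟨5000, 3, 15⟩) (.one ⟨9220, 4, 16⟩))))) (.node 8 (.node 4 (.node 2 (.node 1 (.one ⟨7158, 6, 13⟩) (.one ⟨5086, 6, 13⟩)) (.node 1 (.one ⟨1785, 2, 14⟩) (.one ⟨178, 5, 13⟩))) (.node 2 (.node 1 (.one ⟨639, 0, 17⟩) (.one ⟨3134, 5, 16⟩)) (.node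 1 (.one ⟨5905, 3, 12⟩) (.one ⟨15642, 6, 12⟩)))) (.node 4 (.node 2 (.node 1 (.one ⟨6915, 5, 14⟩) (.one ⟨7953, 6, 14⟩)) (.node 1 (.one ⟨1991, 3, 15⟩) (.one ⟨7650, 6, 15⟩))) (.node 2 (.node 1 (.one ⟨4991, 3, 14⟩) (.one ⟨5791, 3, 14⟩)) (.node 1 (.one ⟨14006, 4, 15⟩) (.one ⟨8452, 1, 14⟩)))))) (.node 16 (.node 8 (.node 4 (.node 2 (.node 1 (.one ⟨10063, 4, 15⟩) (.one ⟨4951, 3, 15⟩)) (.node 1 (.one ⟨5989, 4, 15⟩) (.one ⟨8450, 1, 11⟩))) (.node 2 (.node 1 (.one ⟨10146, 5, 15⟩) (.one ⟨14386, 5, 15⟩)) (.node 1 (.one ⟨8447, 1, 15⟩) (.one ⟨5037, 3, 14⟩)))) (.node 4 (.node 2 (.node 1 (.one ⟨147, 2, 12⟩) (.one ⟨437, 2, 13⟩)) (.node 1 (.one ⟨841, 2, 14⟩) (.one ⟨75, 2, 12⟩))) (.node 2 (.node 1 (.one ⟨995, 2, 15⟩) (.one ⟨774, 2, 14⟩)) (.node 1 (.one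 ⟨432, 2, 13⟩) (.one ⟨311, 5, 12⟩))))) (.node 8 (.node 4 (.node 2 (.node 1 (.one ⟨5127, 2, 11⟩) (.one ⟨1612, 4, 10⟩)) (.node 1 (.one ⟨7162, 5, 13⟩) (.one ⟨6855, 3, 6⟩))) (.node 2 (.node 1 (.one ⟨8174, 3, 16⟩) (.one ⟨4917, 4, 12⟩)) (.node 1 (.one ⟨16025, 5, 15⟩) (.one ⟨7860, 5, 7⟩)))) (.node 4 (.node 2 (.node 1 (.one ⟨4518, 5, 15⟩) (.one ⟨6370, 5, 9⟩)) (.node 1 (.one ⟨4226, 3, 14⟩) (.one ⟨12950, 3, 15⟩))) (.node 2 (.node 1 (.one ⟨5013, 4, 13⟩) (.one ⟨7163, 5, 13⟩)) (.node 1 (.one ⟨5650, 4, 12⟩) (.one ⟨1597, 4, 11⟩)))))))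
def par0_8_5 : Arr Par :=
  (.node 32 (.node 16 (.node 8 (.node 4 (.node 2 (.node 1 (.one ⟨8496, 1, 12⟩) (.one ⟨4947, 4, 13⟩)) (.node 1 (.one ⟨4600, 4, 16⟩) (.one ⟨15208, 5, 12⟩))) (.node 2 (.node 1 (.one ⟨1015, 5, 13⟩) (.one ⟨16030, 5, 14⟩)) (.node 1 (.one ⟨6857, 3, 5⟩) (.one ⟨12552, 5, 16⟩)))) (.node 4 (.node 2 (.node 1 (.one ⟨15212, 5, 14⟩) (.one ⟨5618, 4, 13⟩)) (.node 1 (.one ⟨7857, 5, 6⟩) (.one ⟨14412, 5, 10⟩))) (.node 2 (.node 1 (.one ⟨4975, 4, 14⟩) (.one ⟨8688, 5, 16⟩)) (.node 1 (.one ⟨12261, 3, 13⟩) (.one ⟨15408, 5, 13⟩))))) (.node 8 (.node 4 (.node 2 (.node 1 (.one ⟨1810, 2, 14⟩) (.one ⟨900, 5, 15⟩)) (.node 1 (.one ⟨15274, 5, 16⟩) (.one ⟨5304, 5, 15⟩))) (.node 2 (.node 1 (.one ⟨4762, 4, 17⟩) (.one ⟨13008, 4, 14⟩)) (.node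 1 (.one ⟨5544, 5, 13⟩) (.one ⟨4667, 4, 14⟩)))) (.node 4 (.node 2 (.node 1 (.one ⟨16663, 4, 15⟩) (.one ⟨13485, 5, 14⟩)) (.node 1 (.one ⟨11065, 6, 14⟩) (.one ⟨10806, 5, 13⟩))) (.node 2 (.node 1 (.one ⟨1890, 4, 15⟩) (.one ⟨7832, 6, 11⟩)) (.node 1 (.one ⟨9, 5, 13⟩) (.one ⟨7386, 5, 12⟩)))))) (.node 16 (.node 8 (.node 4 (.node 2 (.node 1 (.one ⟨13569, 5, 14⟩) (.one ⟨975, 4, 15⟩)) (.node 1 (.one ⟨15029, 6, 17⟩) (.one ⟨8528, 1, 15⟩))) (.node 2 (.node 1 (.one ⟨16129, 5, 14⟩) (.one ⟨7101, 5, 15⟩)) (.node 1 (.one ⟨13480, 5, 14⟩) (.one ⟨1858, 4, 16⟩)))) (.node 4 (.node 2 (.node 1 (.one ⟨7755, 6, 10⟩) (.one ⟨731, 5, 12⟩)) (.node 1 (.one ⟨10816, 5, 14⟩) (.one ⟨5309, 5, 13⟩))) (.node 2 (.node 1 (.one ⟨16682, 4, 14⟩) (.one ⟨4670, 4, 15⟩)) (.node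 1 (.one ⟨11152, 6, 13⟩) (.one ⟨4929, 4, 16⟩))))) (.node 8 (.node 4 (.node 2 (.node 1 (.one ⟨873, 2, 13⟩) (.one ⟨846, 2, 16⟩)) (.node 1 (.one ⟨7213, 5, 14⟩) (.one ⟨13372, 5, 17⟩))) (.node 2 (.node 1 (.one ⟨1026, 5, 16⟩) (.one ⟨5518, 5, 16⟩)) (.node 1 (.one ⟨6100, 3, 13⟩) (.one ⟨15120, 6, 17⟩)))) (.node 4 (.node 2 (.node 1 (.one ⟨16937, 3, 13⟩) (.one ⟨4493, 5, 15⟩)) (.node 1 (.one ⟨14822, 6, 15⟩) (.one ⟨2287, 2, 15⟩))) (.node 2 (.node 1 (.one ⟨7789, 6, 9⟩) (.one ⟨549, 4, 16⟩)) (.node 1 (.one ⟨13089, 4, 14⟩) (.one ⟨15162, 5, 13⟩)))))))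
def par0_8_6 : Arr Par :=
  (.node 32 (.node 16 (.node 8 (.node 4 (.node 2 (.node 1 (.one ⟨13599, 5, 16⟩) (.one ⟨8560, 1, 14⟩)) (.node 1 (.one ⟨13092, 4, 17⟩) (.one ⟨6118, 3, 14⟩))) (.node 2 (.node 1 (.one ⟨5277, 2, 15⟩) (.one ⟨16936, 3, 16⟩)) (.node 1 (.one ⟨8099, 5, 15⟩) (.one ⟨8571, 1, 16⟩)))) (.node 4 (.node 2 (.node 1 (.one ⟨12577, 5, 14⟩) (.one ⟨8782, 3, 14⟩)) (.node 1 (.one ⟨13061, 4, 13⟩) (.one ⟨8099, 3, 15⟩))) (.node 2 (.node 1 (.one ⟨7800, 6, 10⟩) (.one ⟨12321, 3, 16⟩)) (.node 1 (.one ⟨9922, 4, 17⟩) (.one ⟨4144, 3, 15⟩))))) (.node 8 (.node 4 (.node 2 (.node 1 (.one ⟨1706, 4, 14⟩) (.one ⟨13029, 4, 13⟩)) (.node 1 (.one ⟨15226, 5, 14⟩) (.one ⟨16055, 6, 16⟩))) (.node 2 (.node 1 (.one ⟨9998, 4, 15⟩) (.one ⟨4590, 4, 15⟩)) (.node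 1 (.one ⟨758, 4, 15⟩) (.one ⟨13698, 4, 14⟩)))) (.node 4 (.node 2 (.node 1 (.one ⟨15016, 3, 14⟩) (.one ⟨13076, 4, 13⟩)) (.node 1 (.one ⟨8600, 2, 15⟩) (.one ⟨4483, 5, 15⟩))) (.node 2 (.node 1 (.one ⟨11681, 6, 15⟩) (.one ⟨476, 5, 14⟩)) (.node 1 (.one ⟨7816, 6, 15⟩) (.one ⟨7146, 5, 13⟩)))))) (.node 16 (.node 8 (.node 4 (.node 2 (.node 1 (.one ⟨4568, 4, 16⟩) (.one ⟨1687, 4, 13⟩)) (.node 1 (.one ⟨16070, 6, 17⟩) (.one ⟨1739, 5, 16⟩))) (.node 2 (.node 1 (.one ⟨10675, 2, 14⟩) (.one ⟨926, 5, 15⟩)) (.node 1 (.one ⟨12991, 4, 14⟩) (.one ⟨8602, 1, 16⟩)))) (.node 4 (.node 2 (.node 1 (.one ⟨7774, 6, 14⟩) (.one ⟨13042, 4, 12⟩)) (.node 1 (.one ⟨1036, 5, 13⟩) (.one ⟨13730, 4, 15⟩))) (.node 2 (.node 1 (.one ⟨12586, 5, 16⟩) (.one ⟨15021, 3, 14⟩)) (.node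 1 (.one ⟨11666, 6, 14⟩) (.one ⟨3513, 6, 16⟩))))) (.node 8 (.node 4 (.node 2 (.node 1 (.one ⟨6965, 5, 11⟩) (.one ⟨8656, 3, 16⟩)) (.node 1 (.one ⟨1974, 5, 9⟩) (.one ⟨7927, 3, 16⟩))) (.node 2 (.node 1 (.one ⟨1055, 5, 12⟩) (.one ⟨15956, 4, 14⟩)) (.node 1 (.one ⟨6581, 5, 11⟩) (.one ⟨3558, 6, 14⟩)))) (.node 4 (.node 2 (.node 1 (.one ⟨15531, 3, 13⟩) (.one ⟨1956, 4, 13⟩)) (.node 1 (.one ⟨2837, 3, 15⟩) (.one ⟨14668, 5, 15⟩))) (.node 2 (.node 1 (.one ⟨11538, 0, 11⟩) (.one ⟨115, 5, 14⟩)) (.node 1 (.one ⟨14971, 5, 14⟩) (.one ⟨1920, 4, 12⟩)))))))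
def par0_8_7 : Arr Par :=
  (.node 32 (.node 16 (.node 8 (.node 4 (.node 2 (.node 1 (.one ⟨2855, 3, 14⟩) (.one ⟨3549, 6, 13⟩)) (.node 1 (.one ⟨7436, 3, 12⟩) (.one ⟨15885, 0, 12⟩))) (.node 2 (.node 1 (.one ⟨14700, 5, 14⟩) (.one ⟨14974, 5, 15⟩)) (.node 1 (.one ⟨628, 5, 15⟩) (.one ⟨3522, 6, 15⟩)))) (.node 4 (.node 2 (.node 1 (.one ⟨2072, 5, 10⟩) (.one ⟨9830, 5, 16⟩)) (.node 1 (.one ⟨6978, 5, 12⟩) (.one ⟨540, 5, 13⟩))) (.node 2 (.node 1 (.one ⟨15957, 4, 15⟩) (.one ⟨6614, 5, 12⟩)) (.node 1 (.one ⟨7540, 2, 16⟩) (.one ⟨10031, 5, 12⟩))))) (.node 8 (.node 4 (.node 2 (.node 1 (.one ⟨9977, 4, 15⟩) (.one ⟨9961, 5, 15⟩)) (.node 1 (.one ⟨3341, 6, 13⟩) (.one ⟨294, 3, 12⟩))) (.node 2 (.node 1 (.one ⟨14973, 5, 17⟩) (.one ⟨1639, 2, 16⟩)) (.node 1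 (.one ⟨7624, 4, 13⟩) (.one ⟨1914, 4, 13⟩)))) (.node 4 (.node 2 (.node 1 (.one ⟨619, 5, 14⟩) (.one ⟨3589, 4, 14⟩)) (.node 1 (.one ⟨10093, 5, 13⟩) (.one ⟨656, 3, 11⟩))) (.node 2 (.node 1 (.one ⟨11613, 6, 15⟩) (.one ⟨6989, 5, 13⟩)) (.node 1 (.one ⟨5220, 6, 14⟩) (.one ⟨10113, 5, 12⟩)))))) (.node 16 (.node 8 (.node 4 (.node 2 (.node 1 (.one ⟨54, 5, 13⟩) (.one ⟨3569, 4, 15⟩)) (.node 1 (.one ⟨1948, 4, 13⟩) (.one ⟨1017, 3, 12⟩))) (.node 2 (.node 1 (.one ⟨6972, 5, 14⟩) (.one ⟨11622, 6, 16⟩)) (.node 1 (.one ⟨13264, 6, 15⟩) (.one ⟨11385, 6, 14⟩)))) (.node 4 (.node 2 (.node 1 (.one ⟨10014, 4, 16⟩) (.one ⟨9931, 5, 16⟩)) (.node 1 (.one ⟨10142, 5, 13⟩) (.one ⟨326, 3, 11⟩))) (.node 2 (.node 1 (.one ⟨11577, 6, 15⟩) (.one ⟨14972, 5, 16⟩)) (.node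 1 (.one ⟨7655, 4, 12⟩) (.one ⟨12139, 5, 6⟩))))) (.node 8 (.node 4 (.node 2 (.node 1 (.one ⟨6888, 4, 15⟩) (.one ⟨12815, 3, 16⟩)) (.node 1 (.one ⟨6966, 5, 10⟩) (.one ⟨3285, 5, 14⟩))) (.node 2 (.node 1 (.one ⟨928, 5, 10⟩) (.one ⟨17164, 5, 9⟩)) (.node 1 (.one ⟨16125, 5, 14⟩) (.one ⟨12867, 4, 15⟩)))) (.node 4 (.node 2 (.node 1 (.one ⟨16277, 3, 14⟩) (.one ⟨12821, 3, 12⟩)) (.node 1 (.one ⟨12772, 5, 13⟩) (.one ⟨14641, 0, 15⟩))) (.node 2 (.node 1 (.one ⟨7345, 3, 16⟩) (.one ⟨17194, 5, 14⟩)) (.node 1 (.one ⟨6290, 0, 15⟩) (.one ⟨6893, 4, 16⟩)))))))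
def par0_8_8 : Arr Par :=
  (.node 32 (.node 16 (.node 8 (.node 4 (.node 2 (.node 1 (.one ⟨11365, 5, 13⟩) (.one ⟨251, 5, 11⟩)) (.node 1 (.one ⟨4057, 5, 5⟩) (.one ⟨7663, 6, 15⟩))) (.node 2 (.node 1 (.one ⟨16136, 5, 15⟩) (.one ⟨9078, 5, 10⟩)) (.node 1 (.one ⟨6981, 5, 11⟩) (.one ⟨12702, 3, 15⟩)))) (.node 4 (.node 2 (.node 1 (.one ⟨3327, 5, 16⟩) (.one ⟨12771, 5, 12⟩)) (.node 1 (.one ⟨12190, 2, 15⟩) (.one ⟨7687, 6, 12⟩))) (.node 2 (.node 1 (.one ⟨8188, 3, 15⟩) (.one ⟨9104, 5, 14⟩)) (.node 1 (.one ⟨15450, 3, 15⟩) (.one ⟨14807, 4, 10⟩))))) (.node 8 (.node 4 (.node 2 (.node 1 (.one ⟨13434, 6, 15⟩) (.one ⟨768, 4, 13⟩)) (.node 1 (.one ⟨7997, 4, 14⟩) (.one ⟨15221, 6, 13⟩))) (.node 2 (.node 1 (.one ⟨6919, 2, 15⟩) (.one ⟨12171, 5, 14⟩)) (.node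 1 (.one ⟨10592, 2, 16⟩) (.one ⟨14839, 4, 12⟩)))) (.node 4 (.node 2 (.node 1 (.one ⟨8750, 1, 14⟩) (.one ⟨1693, 3, 13⟩)) (.node 1 (.one ⟨15085, 5, 16⟩) (.one ⟨8749, 1, 17⟩))) (.node 2 (.node 1 (.one ⟨4073, 5, 15⟩) (.one ⟨381, 5, 14⟩)) (.node 1 (.one ⟨4966, 4, 16⟩) (.one ⟨14835, 4, 11⟩)))))) (.node 16 (.node 8 (.node 4 (.node 2 (.node 1 (.one ⟨4087, 5, 13⟩) (.one ⟨12769, 5, 16⟩)) (.node 1 (.one ⟨7393, 3, 16⟩) (.one ⟨8724, 1, 16⟩))) (.node 2 (.node 1 (.one ⟨8005, 4, 15⟩) (.one ⟨532, 4, 14⟩)) (.node 1 (.one ⟨7142, 6, 12⟩) (.one ⟨14804, 4, 13⟩)))) (.node 4 (.node 2 (.node 1 (.one ⟨12123, 5, 16⟩) (.one ⟨1707, 3, 12⟩)) (.node 1 (.one ⟨4928, 4, 15⟩) (.one ⟨793, 5, 15⟩))) (.node 2 (.node 1 (.one ⟨15070, 5, 15⟩) (.one ⟨13163, 2, 16⟩)) (.node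 1 (.one ⟨9866, 2, 13⟩) (.one ⟨7220, 5, 16⟩))))) (.node 8 (.node 4 (.node 2 (.node 1 (.one ⟨5055, 5, 13⟩) (.one ⟨2959, 5, 14⟩)) (.node 1 (.one ⟨1694, 3, 15⟩) (.one ⟨14615, 5, 17⟩))) (.node 2 (.node 1 (.one ⟨8130, 6, 15⟩) (.one ⟨9666, 3, 15⟩)) (.node 1 (.one ⟨5205, 4, 13⟩) (.one ⟨16922, 1, 15⟩)))) (.node 4 (.node 2 (.node 1 (.one ⟨4498, 6, 13⟩) (.one ⟨4423, 6, 16⟩)) (.node 1 (.one ⟨11965, 5, 13⟩) (.one ⟨16797, 6, 12⟩))) (.node 2 (.node 1 (.one ⟨15171, 4, 16⟩) (.one ⟨1703, 5, 15⟩)) (.node 1 (.one ⟨3255, 4, 14⟩) (.one ⟨15242, 3, 14⟩)))))))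
def par0_8_9 : Arr Par :=
  (.node 32 (.node 16 (.node 8 (.node 4 (.node 2 (.node 1 (.one ⟨15461, 4, 11⟩) (.one ⟨7323, 3, 17⟩)) (.node 1 (.one ⟨8205, 6, 17⟩) (.one ⟨14590, 5, 15⟩))) (.node 2 (.node 1 (.one ⟨15283, 5, 15⟩) (.one ⟨11485, 6, 16⟩)) (.node 1 (.one ⟨13318, 4, 14⟩) (.one ⟨3970, 4, 16⟩)))) (.node 4 (.node 2 (.node 1 (.one ⟨15292, 5, 15⟩) (.one ⟨1159, 3, 16⟩)) (.node 1 (.one ⟨8379, 5, 14⟩) (.one ⟨10467, 4, 14⟩))) (.node 2 (.node 1 (.one ⟨921, 3, 12⟩) (.one ⟨12222, 5, 16⟩)) (.node 1 (.one ⟨16937, 1, 13⟩) (.one ⟨16715, 2, 14⟩))))) (.node 8 (.node 4 (.node 2 (.node 1 (.one ⟨14361, 2, 13⟩) (.one ⟨7299, 5, 14⟩)) (.node 1 (.one ⟨14132, 6, 11⟩) (.one ⟨16880, 1, 13⟩))) (.node 2 (.node 1 (.one ⟨7922, 2, 16⟩) (.one ⟨9720, 3, 13⟩))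 (.node 1 (.one ⟨14215, 6, 16⟩) (.one ⟨12532, 6, 14⟩)))) (.node 4 (.node 2 (.node 1 (.one ⟨8662, 6, 14⟩) (.one ⟨7155, 4, 15⟩)) (.node 1 (.one ⟨3909, 5, 15⟩) (.one ⟨95, 3, 12⟩))) (.node 2 (.node 1 (.one ⟨6205, 4, 15⟩) (.one ⟨1824, 2, 14⟩)) (.node 1 (.one ⟨12040, 4, 11⟩) (.one ⟨4177, 5, 15⟩)))))) (.node 16 (.node 8 (.node 4 (.node 2 (.node 1 (.one ⟨16897, 1, 14⟩) (.one ⟨16640, 5, 12⟩)) (.node 1 (.one ⟨9626, 2, 11⟩) (.one ⟨16298, 6, 15⟩))) (.node 2 (.node 1 (.one ⟨16901, 1, 15⟩) (.one ⟨15363, 5, 13⟩)) (.node 1 (.one ⟨11026, 5, 16⟩) (.one ⟨15461, 6, 11⟩)))) (.node 4 (.node 2 (.node 1 (.one ⟨10486, 4, 17⟩) (.one ⟨17028, 4, 16⟩)) (.node 1 (.one ⟨14114, 2, 15⟩) (.one ⟨12372, 3, 15⟩))) (.node 2 (.node 1 (.one ⟨348, 3, 11⟩) (.one ⟨11320,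 4, 13⟩)) (.node 1 (.one ⟨16686, 3, 15⟩) (.one ⟨7251, 5, 15⟩))))) (.node 8 (.node 4 (.node 2 (.node 1 (.one ⟨13350, 4, 15⟩) (.one ⟨14630, 5, 15⟩)) (.node 1 (.one ⟨1630, 3, 15⟩) (.one ⟨3342, 2, 17⟩))) (.node 2 (.node 1 (.one ⟨14232, 6, 17⟩) (.one ⟨6076, 6, 15⟩)) (.node 1 (.one ⟨6226, 0, 12⟩) (.one ⟨9998, 5, 15⟩)))) (.node 4 (.node 2 (.node 1 (.one ⟨7255, 3, 15⟩) (.one ⟨16328, 0, 12⟩)) (.node 1 (.one ⟨10983, 0, 16⟩) (.one ⟨9824, 6, 16⟩))) (.node 2 (.node 1 (.one ⟨15009, 0, 15⟩) (.one ⟨16872, 0, 14⟩)) (.node 1 (.one ⟨12590, 6, 15⟩) (.one ⟨11054, 5, 16⟩)))))))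
def par0_8_10 : Arr Par :=
  (.node 32 (.node 16 (.node 8 (.node 4 (.node 2 (.node 1 (.one ⟨1598, 3, 12⟩) (.one ⟨12950, 6, 15⟩)) (.node 1 (.one ⟨8169, 6, 5⟩) (.one ⟨4810, 6, 12⟩))) (.node 2 (.node 1 (.one ⟨16866, 1, 16⟩) (.one ⟨5081, 5, 12⟩)) (.node 1 (.one ⟨15204, 3, 12⟩) (.one ⟨1950, 5, 13⟩)))) (.node 4 (.node 2 (.node 1 (.one ⟨3288, 4, 12⟩) (.one ⟨1608, 5, 11⟩)) (.node 1 (.one ⟨4513, 6, 6⟩) (.one ⟨3474, 2, 12⟩))) (.node 2 (.node 1 (.one ⟨8705, 6, 12⟩) (.one ⟨7091, 4, 14⟩)) (.node 1 (.one ⟨4450, 6, 12⟩) (.one ⟨16192, 6, 15⟩))))) (.node 8 (.node 4 (.node 2 (.node 1 (.one ⟨1702, 3, 15⟩) (.one ⟨13237, 4, 14⟩)) (.node 1 (.one ⟨4425, 2, 15⟩) (.one ⟨3405, 6, 13⟩))) (.node 2 (.node 1 (.one ⟨7333, 5, 16⟩) (.one ⟨7346, 4, 15⟩)) (.node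 1 (.one ⟨2988, 5, 13⟩) (.one ⟨4265, 5, 16⟩)))) (.node 4 (.node 2 (.node 1 (.one ⟨12490, 6, 13⟩) (.one ⟨12057, 4, 12⟩)) (.node 1 (.one ⟨16622, 5, 15⟩) (.one ⟨13218, 2, 15⟩))) (.node 2 (.node 1 (.one ⟨8196, 4, 14⟩) (.one ⟨10012, 5, 15⟩)) (.node 1 (.one ⟨7224, 3, 16⟩) (.one ⟨16836, 1, 16⟩)))))) (.node 16 (.node 8 (.node 4 (.node 2 (.node 1 (.one ⟨11558, 6, 14⟩) (.one ⟨6369, 4, 15⟩)) (.node 1 (.one ⟨10999, 5, 15⟩) (.one ⟨112, 3, 15⟩))) (.node 2 (.node 1 (.one ⟨5279, 4, 15⟩) (.one ⟨11457, 6, 14⟩)) (.node 1 (.one ⟨15224, 3, 17⟩) (.one ⟨7976, 0, 17⟩)))) (.node 4 (.node 2 (.node 1 (.one ⟨16842, 1, 16⟩) (.one ⟨4407, 6, 16⟩)) (.node 1 (.one ⟨8208, 4, 15⟩) (.one ⟨12050, 4, 13⟩))) (.node 2 (.node 1 (.one ⟨1804, 6, 14⟩) (.one ⟨16840, 1, 15⟩))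 (.node 1 (.one ⟨3335, 4, 13⟩) (.one ⟨12615, 5, 13⟩))))) (.node 8 (.node 4 (.node 2 (.node 1 (.one ⟨6264, 2, 13⟩) (.one ⟨2609, 4, 12⟩)) (.node 1 (.one ⟨16175, 6, 16⟩) (.one ⟨8579, 5, 15⟩))) (.node 2 (.node 1 (.one ⟨4364, 2, 14⟩) (.one ⟨14433, 4, 15⟩)) (.node 1 (.one ⟨16977, 1, 12⟩) (.one ⟨1952, 0, 16⟩)))) (.node 4 (.node 2 (.node 1 (.one ⟨11238, 4, 11⟩) (.one ⟨16209, 6, 16⟩)) (.node 1 (.one ⟨3926, 4, 14⟩) (.one ⟨12157, 6, 12⟩))) (.node 2 (.node 1 (.one ⟨16984, 1, 11⟩) (.one ⟨16985, 1, 8⟩)) (.node 1 (.one ⟨16987, 1, 14⟩) (.one ⟨11219, 4, 10⟩)))))))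
def par0_8_11 : Arr Par :=
  (.node 32 (.node 16 (.node 8 (.node 4 (.node 2 (.node 1 (.one ⟨3891, 4, 14⟩) (.one ⟨5444, 4, 11⟩)) (.node 1 (.one ⟨10365, 5, 14⟩) (.one ⟨13060, 2, 16⟩))) (.node 2 (.node 1 (.one ⟨16172, 3, 15⟩) (.one ⟨11846, 5, 16⟩)) (.node 1 (.one ⟨6319, 4, 15⟩) (.one ⟨4571, 5, 12⟩)))) (.node 4 (.node 2 (.node 1 (.one ⟨12620, 3, 16⟩) (.one ⟨3448, 5, 12⟩)) (.node 1 (.one ⟨8912, 6, 12⟩) (.one ⟨1616, 3, 13⟩))) (.node 2 (.node 1 (.one ⟨15780, 2, 15⟩) (.one ⟨3811, 5, 16⟩)) (.node 1 (.one ⟨15518, 5, 13⟩) (.one ⟨15574, 4, 15⟩))))) (.node 8 (.node 4 (.node 2 (.node 1 (.one ⟨7832, 5, 11⟩) (.one ⟨1981, 6, 14⟩)) (.node 1 (.one ⟨16206, 6, 15⟩) (.one ⟨3472, 5, 11⟩))) (.node 2 (.node 1 (.one ⟨12093, 6, 12⟩) (.one ⟨3934, 4, 15⟩))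 (.node 1 (.one ⟨4590, 3, 15⟩) (.one ⟨6014, 0, 13⟩)))) (.node 4 (.node 2 (.node 1 (.one ⟨11153, 6, 14⟩) (.one ⟨3156, 4, 13⟩)) (.node 1 (.one ⟨10393, 5, 15⟩) (.one ⟨8437, 0, 16⟩))) (.node 2 (.node 1 (.one ⟨8897, 6, 12⟩) (.one ⟨16232, 6, 14⟩)) (.node 1 (.one ⟨14204, 6, 15⟩) (.one ⟨16962, 1, 10⟩)))))) (.node 16 (.node 8 (.node 4 (.node 2 (.node 1 (.one ⟨7022, 3, 16⟩) (.one ⟨3173, 4, 13⟩)) (.node 1 (.one ⟨2619, 4, 12⟩) (.one ⟨16960, 1, 13⟩))) (.node 2 (.node 1 (.one ⟨16228, 6, 15⟩) (.one ⟨4649, 3, 14⟩)) (.node 1 (.one ⟨15541, 4, 15⟩) (.one ⟨16197, 6, 14⟩)))) (.node 4 (.node 2 (.node 1 (.one ⟨4061, 6, 10⟩) (.one ⟨3122, 4, 9⟩)) (.node 1 (.one ⟨14253, 6, 14⟩) (.one ⟨5483, 4, 7⟩))) (.node 2 (.node 1 (.one ⟨12632, 3, 15⟩) (.one ⟨15583, 4,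 15⟩)) (.node 1 (.one ⟨7051, 6, 12⟩) (.one ⟨12861, 5, 16⟩))))) (.node 8 (.node 4 (.node 2 (.node 1 (.one ⟨14739, 6, 14⟩) (.one ⟨14268, 3, 15⟩)) (.node 1 (.one ⟨17049, 1, 13⟩) (.one ⟨2547, 4, 14⟩))) (.node 2 (.node 1 (.one ⟨11339, 2, 15⟩) (.one ⟨10722, 4, 12⟩)) (.node 1 (.one ⟨16919, 6, 16⟩) (.one ⟨1031, 6, 13⟩)))) (.node 4 (.node 2 (.node 1 (.one ⟨14756, 6, 12⟩) (.one ⟨17041, 1, 13⟩)) (.node 1 (.one ⟨17043, 1, 12⟩) (.one ⟨14314, 4, 16⟩))) (.node 2 (.node 1 (.one ⟨12966, 3, 17⟩) (.one ⟨8966, 4, 15⟩)) (.node 1 (.one ⟨6426, 4, 14⟩) (.one ⟨15052, 3, 14⟩)))))))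
def par0_8_12 : Arr Par :=
  (.node 32 (.node 16 (.node 8 (.node 4 (.node 2 (.node 1 (.one ⟨16896, 5, 14⟩) (.one ⟨6581, 2, 11⟩)) (.node 1 (.one ⟨12299, 6, 16⟩) (.one ⟨17064, 1, 16⟩))) (.node 2 (.node 1 (.one ⟨8843, 4, 13⟩) (.one ⟨14473, 4, 13⟩)) (.node 1 (.one ⟨6426, 2, 14⟩) (.one ⟨2274, 0, 14⟩)))) (.node 4 (.node 2 (.node 1 (.one ⟨14729, 6, 13⟩) (.one ⟨14490, 4, 13⟩)) (.node 1 (.one ⟨10718, 4, 13⟩) (.one ⟨15068, 3, 15⟩))) (.node 2 (.node 1 (.one ⟨7228, 5, 12⟩) (.one ⟨13536, 4, 16⟩)) (.node 1 (.one ⟨11960, 5, 15⟩) (.one ⟨14484, 4, 14⟩))))) (.node 8 (.node 4 (.node 2 (.node 1 (.one ⟨2593, 4, 15⟩) (.one ⟨5327, 4, 14⟩)) (.node 1 (.one ⟨524, 2, 16⟩) (.one ⟨983, 2, 14⟩))) (.node 2 (.node 1 (.one ⟨16007, 3, 15⟩) (.one ⟨858, 2, 17⟩)) (.node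 1 (.one ⟨13548, 4, 17⟩) (.one ⟨2855, 5, 14⟩)))) (.node 4 (.node 2 (.node 1 (.one ⟨5301, 4, 13⟩) (.one ⟨16012, 3, 16⟩)) (.node 1 (.one ⟨16941, 4, 16⟩) (.one ⟨4217, 6, 15⟩))) (.node 2 (.node 1 (.one ⟨2653, 4, 11⟩) (.one ⟨6284, 3, 13⟩)) (.node 1 (.one ⟨14466, 4, 14⟩) (.one ⟨5830, 5, 11⟩)))))) (.node 16 (.node 8 (.node 4 (.node 2 (.node 1 (.one ⟨6678, 6, 11⟩) (.one ⟨9992, 6, 15⟩)) (.node 1 (.one ⟨4232, 6, 4⟩) (.one ⟨1051, 6, 12⟩))) (.node 2 (.node 1 (.one ⟨8989, 4, 14⟩) (.one ⟨2661, 4, 9⟩)) (.node 1 (.one ⟨14991, 6, 15⟩) (.one ⟨12231, 6, 11⟩)))) (.node 4 (.node 2 (.node 1 (.one ⟨5391, 4, 13⟩) (.one ⟨9979, 6, 13⟩)) (.node 1 (.one ⟨8878, 6, 14⟩) (.one ⟨10907, 5, 13⟩))) (.node 2 (.node 1 (.one ⟨17023, 1, 14⟩) (.one ⟨13483, 2, 13⟩)) (.node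 1 (.one ⟨12874, 5, 16⟩) (.one ⟨5330, 4, 13⟩))))) (.node 8 (.node 4 (.node 2 (.node 1 (.one ⟨15380, 5, 14⟩) (.one ⟨5442, 4, 13⟩)) (.node 1 (.one ⟨3862, 2, 14⟩) (.one ⟨8191, 6, 14⟩))) (.node 2 (.node 1 (.one ⟨15531, 5, 13⟩) (.one ⟨13171, 3, 17⟩)) (.node 1 (.one ⟨10031, 6, 12⟩) (.one ⟨13222, 3, 15⟩)))) (.node 4 (.node 2 (.node 1 (.one ⟨2072, 6, 10⟩) (.one ⟨13885, 5, 15⟩)) (.node 1 (.one ⟨5482, 4, 11⟩) (.one ⟨3897, 4, 8⟩))) (.node 2 (.node 1 (.one ⟨16280, 6, 15⟩) (.one ⟨5360, 4, 4⟩)) (.node 1 (.one ⟨13164, 3, 12⟩) (.one ⟨12369, 4, 14⟩)))))))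
def par0_8_13 : Arr Par :=
  (.node 32 (.node 16 (.node 8 (.node 4 (.node 2 (.node 1 (.one ⟨12501, 4, 16⟩) (.one ⟨3908, 4, 11⟩)) (.node 1 (.one ⟨10093, 6, 13⟩) (.one ⟨5236, 4, 13⟩))) (.node 2 (.node 1 (.one ⟨16287, 6, 17⟩) (.one ⟨13519, 4, 14⟩)) (.node 1 (.one ⟨9042, 3, 15⟩) (.one ⟨13134, 3, 13⟩)))) (.node 4 (.node 2 (.node 1 (.one ⟨13786, 0, 14⟩) (.one ⟨7462, 5, 13⟩)) (.node 1 (.one ⟨15045, 6, 16⟩) (.one ⟨9050, 3, 16⟩))) (.node 2 (.node 1 (.one ⟨5628, 5, 13⟩) (.one ⟨8190, 6, 13⟩)) (.node 1 (.one ⟨6074, 6, 12⟩) (.one ⟨5666, 5, 14⟩))))) (.node 8 (.node 4 (.node 2 (.node 1 (.one ⟨3579, 0, 17⟩) (.one ⟨12358, 4, 15⟩)) (.node 1 (.one ⟨13378, 4, 14⟩) (.one ⟨16257, 6, 17⟩))) (.node 2 (.node 1 (.one ⟨3919, 4, 12⟩) (.one ⟨5434, 4, 13⟩))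 (.node 1 (.one ⟨14878, 2, 15⟩) (.one ⟨4899, 2, 15⟩)))) (.node 4 (.node 2 (.node 1 (.one ⟨13145, 3, 13⟩) (.one ⟨11989, 4, 14⟩)) (.node 1 (.one ⟨13478, 4, 15⟩) (.one ⟨13992, 3, 14⟩))) (.node 2 (.node 1 (.one ⟨4897, 2, 15⟩) (.one ⟨4898, 2, 12⟩)) (.node 1 (.one ⟨17150, 3, 12⟩) (.one ⟨5311, 4, 12⟩)))))) (.node 16 (.node 8 (.node 4 (.node 2 (.node 1 (.one ⟨12010, 4, 10⟩) (.one ⟨13175, 3, 15⟩)) (.node 1 (.one ⟨6126, 6, 16⟩) (.one ⟨9130, 3, 12⟩))) (.node 2 (.node 1 (.one ⟨10176, 3, 15⟩) (.one ⟨13104, 3, 14⟩)) (.node 1 (.one ⟨5794, 3, 15⟩) (.one ⟨10209, 3, 14⟩)))) (.node 4 (.node 2 (.node 1 (.one ⟨13227, 3, 16⟩) (.one ⟨251, 2, 11⟩)) (.node 1 (.one ⟨16247, 6, 15⟩) (.one ⟨5216, 6, 14⟩))) (.node 2 (.node 1 (.one ⟨928, 2, 10⟩) (.one ⟨1054, 2,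 15⟩)) (.node 1 (.one ⟨573, 2, 14⟩) (.one ⟨9019, 6, 9⟩))))) (.node 8 (.node 4 (.node 2 (.node 1 (.one ⟨10534, 4, 16⟩) (.one ⟨13277, 3, 14⟩)) (.node 1 (.one ⟨2562, 4, 12⟩) (.one ⟨5485, 4, 11⟩))) (.node 2 (.node 1 (.one ⟨11152, 3, 13⟩) (.one ⟨13210, 4, 15⟩)) (.node 1 (.one ⟨4053, 4, 9⟩) (.one ⟨16364, 3, 15⟩)))) (.node 4 (.node 2 (.node 1 (.one ⟨10090, 3, 14⟩) (.one ⟨4601, 5, 14⟩)) (.node 1 (.one ⟨15106, 5, 17⟩) (.one ⟨15918, 5, 17⟩))) (.node 2 (.node 1 (.one ⟨1884, 6, 15⟩) (.one ⟨11869, 5, 13⟩)) (.node 1 (.one ⟨4114, 4, 15⟩) (.one ⟨3137, 4, 12⟩)))))))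
def par0_8_14 : Arr Par :=
  (.node 32 (.node 16 (.node 8 (.node 4 (.node 2 (.node 1 (.one ⟨16682, 5, 14⟩) (.one ⟨10135, 3, 15⟩)) (.node 1 (.one ⟨4227, 4, 15⟩) (.one ⟨5461, 4, 14⟩))) (.node 2 (.node 1 (.one ⟨11513, 4, 16⟩) (.one ⟨12177, 4, 10⟩)) (.node 1 (.one ⟨9959, 6, 14⟩) (.one ⟨15142, 5, 16⟩)))) (.node 4 (.node 2 (.node 1 (.one ⟨11898, 5, 10⟩) (.one ⟨9979, 5, 13⟩)) (.node 1 (.one ⟨16600, 5, 14⟩) (.one ⟨9012, 6, 14⟩))) (.node 2 (.node 1 (.one ⟨14691, 6, 13⟩) (.one ⟨4089, 3, 14⟩)) (.node 1 (.one ⟨12316, 6, 15⟩) (.one ⟨14312, 2, 12⟩))))) (.node 8 (.node 4 (.node 2 (.node 1 (.one ⟨5640, 5, 13⟩) (.one ⟨11847, 5, 10⟩)) (.node 1 (.one ⟨8817, 6, 16⟩) (.one ⟨10614, 4, 15⟩))) (.node 2 (.node 1 (.one ⟨5469, 4, 13⟩) (.one ⟨10482, 4, 14⟩))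 (.node 1 (.one ⟨16637, 5, 14⟩) (.one ⟨15144, 5, 15⟩)))) (.node 4 (.node 2 (.node 1 (.one ⟨16589, 5, 16⟩) (.one ⟨9068, 6, 11⟩)) (.node 1 (.one ⟨10042, 3, 16⟩) (.one ⟨17186, 1, 16⟩))) (.node 2 (.node 1 (.one ⟨3785, 5, 13⟩) (.one ⟨110, 6, 14⟩)) (.node 1 (.one ⟨4097, 4, 13⟩) (.one ⟨14678, 6, 13⟩)))))) (.node 16 (.node 8 (.node 4 (.node 2 (.node 1 (.one ⟨2352, 4, 14⟩) (.one ⟨12004, 6, 15⟩)) (.node 1 (.one ⟨9056, 6, 11⟩) (.one ⟨54, 6, 13⟩))) (.node 2 (.node 1 (.one ⟨11531, 4, 16⟩) (.one ⟨6085, 2, 16⟩)) (.node 1 (.one ⟨2499, 4, 13⟩) (.one ⟨16933, 6, 15⟩)))) (.node 4 (.node 2 (.node 1 (.one ⟨13542, 4, 13⟩) (.one ⟨2416, 4, 14⟩)) (.node 1 (.one ⟨3178, 4, 11⟩) (.one ⟨8536, 5, 16⟩))) (.node 2 (.node 1 (.one ⟨13710, 5, 13⟩) (.one ⟨3886, 5, 15⟩))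 (.node 1 (.one ⟨4268, 6, 14⟩) (.one ⟨5063, 0, 13⟩))))) (.node 8 (.node 4 (.node 2 (.node 1 (.one ⟨4319, 0, 12⟩) (.one ⟨1361, 3, 9⟩)) (.node 1 (.one ⟨1365, 3, 8⟩) (.one ⟨4427, 0, 13⟩))) (.node 2 (.node 1 (.one ⟨5219, 0, 14⟩) (.one ⟨1362, 3, 7⟩)) (.node 1 (.one ⟨1366, 3, 8⟩) (.one ⟨3101, 2, 9⟩)))) (.node 4 (.node 2 (.node 1 (.one ⟨11000, 0, 12⟩) (.one ⟨1370, 3, 8⟩)) (.node 1 (.one ⟨1374, 3, 7⟩) (.one ⟨11067, 0, 13⟩))) (.node 2 (.node 1 (.one ⟨9851, 0, 12⟩) (.one ⟨1369, 3, 6⟩)) (.node 1 (.one ⟨1373, 3, 7⟩) (.one ⟨6194, 5, 13⟩)))))))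
def par0_8_15 : Arr Par :=
  (.node 32 (.node 16 (.node 8 (.node 4 (.node 2 (.node 1 (.one ⟨9157, 1, 14⟩) (.one ⟨12692, 6, 15⟩)) (.node 1 (.one ⟨7305, 3, 15⟩) (.one ⟨4596, 6, 15⟩))) (.node 2 (.node 1 (.one ⟨12704, 6, 14⟩) (.one ⟨10162, 2, 13⟩)) (.node 1 (.one ⟨14368, 5, 14⟩) (.one ⟨14290, 5, 13⟩)))) (.node 4 (.node 2 (.node 1 (.one ⟨14261, 5, 14⟩) (.one ⟨12613, 6, 14⟩)) (.node 1 (.one ⟨1781, 2, 12⟩) (.one ⟨9162, 1, 13⟩))) (.node 2 (.node 1 (.one ⟨12594, 6, 13⟩) (.one ⟨6304, 5, 13⟩)) (.node 1 (.one ⟨6277, 5, 14⟩) (.one ⟨1129, 5, 14⟩))))) (.node 8 (.node 4 (.node 2 (.node 1 (.one ⟨1133, 5, 15⟩) (.one ⟨1130, 5, 15⟩)) (.node 1 (.one ⟨14770, 0, 15⟩) (.one ⟨1119, 5, 10⟩))) (.node 2 (.node 1 (.one ⟨1296, 3, 10⟩) (.one ⟨1120, 5, 9⟩)) (.node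 1 (.one ⟨1124, 5, 10⟩) (.one ⟨9628, 4, 15⟩)))) (.node 4 (.node 2 (.node 1 (.one ⟨1121, 5, 11⟩) (.one ⟨13053, 0, 14⟩)) (.node 1 (.one ⟨1122, 5, 15⟩) (.one ⟨9616, 4, 10⟩))) (.node 2 (.node 1 (.one ⟨1127, 5, 8⟩) (.one ⟨1305, 3, 9⟩)) (.node 1 (.one ⟨1128, 5, 11⟩) (.one ⟨1362, 5, 7⟩)))))) (.node 16 (.node 8 (.node 4 (.node 2 (.node 1 (.one ⟨9197, 4, 8⟩) (.one ⟨1366, 5, 8⟩)) (.node 1 (.one ⟨9493, 6, 6⟩) (.one ⟨9491, 6, 13⟩))) (.node 2 (.node 1 (.one ⟨1389, 3, 14⟩) (.one ⟨1385, 3, 15⟩)) (.node 1 (.one ⟨9492, 6, 13⟩) (.one ⟨1379, 3, 14⟩)))) (.node 4 (.node 2 (.node 1 (.one ⟨9500, 6, 10⟩) (.one ⟨1364, 5, 14⟩)) (.node 1 (.one ⟨1363, 5, 14⟩) (.one ⟨9502, 6, 5⟩))) (.node 2 (.node 1 (.one ⟨1370, 5, 8⟩) (.one ⟨1373, 5, 7⟩)) (.node 1 (.one ⟨1374,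 5, 7⟩) (.one ⟨1342, 3, 16⟩))))) (.node 8 (.node 4 (.node 2 (.node 1 (.one ⟨9510, 6, 16⟩) (.one ⟨1327, 3, 8⟩)) (.node 1 (.one ⟨9506, 6, 10⟩) (.one ⟨3142, 0, 13⟩))) (.node 2 (.node 1 (.one ⟨1338, 3, 14⟩) (.one ⟨9352, 4, 12⟩)) (.node 1 (.one ⟨9503, 6, 11⟩) (.one ⟨1143, 5, 11⟩)))) (.node 4 (.node 2 (.node 1 (.one ⟨9511, 6, 10⟩) (.one ⟨8787, 0, 14⟩)) (.node 1 (.one ⟨1329, 3, 11⟩) (.one ⟨1336, 3, 9⟩))) (.node 2 (.node 1 (.one ⟨1335, 3, 9⟩) (.one ⟨1140, 5, 16⟩)) (.node 1 (.one ⟨9518, 6, 15⟩) (.one ⟨8472, 4, 15⟩)))))))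
def par0_8 : Arr Par :=
  (.node 512 (.node 256 (.node 128 (.node 64 par0_8_0 par0_8_1) (.node 64 par0_8_2 par0_8_3)) (.node 128 (.node 64 par0_8_4 par0_8_5) (.node 64 par0_8_6 par0_8_7))) (.node 256 (.node 128 (.node 64 par0_8_8 par0_8_9) (.node 64 par0_8_10 par0_8_11)) (.node 128 (.node 64 par0_8_12 par0_8_13) (.node 64 par0_8_14 par0_8_15))))
def par0_9_0 : Arr Par :=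
  (.node 32 (.node 16 (.node 8 (.node 4 (.node 2 (.node 1 (.one ⟨8444, 4, 14⟩) (.one ⟨9218, 1, 14⟩)) (.node 1 (.one ⟨2515, 2, 13⟩) (.one ⟨10546, 3, 16⟩))) (.node 2 (.node 1 (.one ⟨6237, 2, 15⟩) (.one ⟨9222, 1, 15⟩)) (.node 1 (.one ⟨14017, 2, 14⟩) (.one ⟨16527, 4, 14⟩)))) (.node 4 (.node 2 (.node 1 (.one ⟨16501, 4, 15⟩) (.one ⟨16503, 4, 15⟩)) (.node 1 (.one ⟨16539, 4, 16⟩) (.one ⟨12373, 5, 12⟩))) (.node 2 (.node 1 (.one ⟨4355, 5, 13⟩) (.one ⟨2513, 3, 13⟩)) (.node 1 (.one ⟨10612, 3, 14⟩) (.one ⟨1353, 3, 15⟩))))) (.node 8 (.node 4 (.node 2 (.node 1 (.one ⟨8264, 0, 15⟩) (.one ⟨1428, 6, 11⟩)) (.node 1 (.one ⟨9470, 4, 11⟩) (.one ⟨1438, 6, 16⟩))) (.node 2 (.node 1 (.one ⟨9458, 4, 16⟩) (.one ⟨1347, 5, 10⟩)) (.node 1 (.one ⟨1347, 3, 10⟩)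 (.one ⟨8782, 0, 14⟩)))) (.node 4 (.node 2 (.node 1 (.one ⟨1344, 3, 12⟩) (.one ⟨1435, 6, 11⟩)) (.node 1 (.one ⟨1432, 6, 10⟩) (.one ⟨1430, 6, 16⟩))) (.node 2 (.node 1 (.one ⟨1425, 6, 15⟩) (.one ⟨1358, 3, 9⟩)) (.node 1 (.one ⟨1358, 5, 9⟩) (.one ⟨9424, 4, 13⟩)))))) (.node 16 (.node 8 (.node 4 (.node 2 (.node 1 (.one ⟨9428, 4, 13⟩) (.one ⟨9261, 3, 8⟩)) (.node 1 (.one ⟨9434, 4, 8⟩) (.one ⟨9427, 4, 13⟩))) (.node 2 (.node 1 (.one ⟨7548, 0, 13⟩) (.one ⟨9433, 4, 9⟩)) (.node 1 (.one ⟨9437, 4, 8⟩) (.one ⟨9431, 4, 10⟩)))) (.node 4 (.node 2 (.node 1 (.one ⟨4043, 0, 14⟩) (.one ⟨1532, 6, 10⟩)) (.node 1 (.one ⟨9254, 3, 9⟩) (.one ⟨9436, 4, 14⟩))) (.node 2 (.node 1 (.one ⟨8953, 0, 14⟩) (.one ⟨9430, 4, 7⟩)) (.node 1 (.one ⟨9250, 3, 9⟩) (.one ⟨9511,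 5, 10⟩))))) (.node 8 (.node 4 (.node 2 (.node 1 (.one ⟨9340, 3, 10⟩) (.one ⟨9507, 5, 15⟩)) (.node 1 (.one ⟨9333, 3, 15⟩) (.one ⟨1249, 6, 9⟩))) (.node 2 (.node 1 (.one ⟨9339, 3, 11⟩) (.one ⟨1260, 6, 15⟩)) (.node 1 (.one ⟨7236, 0, 14⟩) (.one ⟨9331, 3, 9⟩)))) (.node 4 (.node 2 (.node 1 (.one ⟨1257, 6, 10⟩) (.one ⟨1252, 6, 12⟩)) (.node 1 (.one ⟨5114, 0, 16⟩) (.one ⟨9332, 3, 11⟩))) (.node 2 (.node 1 (.one ⟨9506, 5, 10⟩) (.one ⟨9518, 5, 15⟩)) (.node 1 (.one ⟨7418, 0, 15⟩) (.one ⟨9280, 6, 14⟩)))))))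
def par0_9_1 : Arr Par :=
  (.node 32 (.node 16 (.node 8 (.node 4 (.node 2 (.node 1 (.one ⟨9553, 5, 13⟩) (.one ⟨4271, 0, 12⟩)) (.node 1 (.one ⟨10882, 0, 10⟩) (.one ⟨9306, 3, 5⟩))) (.node 2 (.node 1 (.one ⟨9307, 3, 7⟩) (.one ⟨9565, 5, 8⟩)) (.node 1 (.one ⟨9285, 6, 9⟩) (.one ⟨5483, 2, 7⟩)))) (.node 4 (.node 2 (.node 1 (.one ⟨5424, 0, 13⟩) (.one ⟨9559, 5, 12⟩)) (.node 1 (.one ⟨9289, 6, 13⟩) (.one ⟨9296, 3, 8⟩))) (.node 2 (.node 1 (.one ⟨9302, 3, 4⟩) (.one ⟨9294, 6, 8⟩)) (.node 1 (.one ⟨9556, 5, 7⟩) (.one ⟨9301, 6, 15⟩))))) (.node 8 (.node 4 (.node 2 (.node 1 (.one ⟨9307, 4, 7⟩) (.one ⟨9282, 3, 11⟩)) (.node 1 (.one ⟨5619, 2, 7⟩) (.one ⟨9491, 5, 13⟩))) (.node 2 (.node 1 (.one ⟨9298, 6, 8⟩) (.one ⟨9280, 3, 14⟩)) (.node 1 (.one ⟨1776,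 2, 3⟩) (.one ⟨9310, 6, 8⟩)))) (.node 4 (.node 2 (.node 1 (.one ⟨9289, 3, 13⟩) (.one ⟨9288, 3, 14⟩)) (.node 1 (.one ⟨9302, 4, 4⟩) (.one ⟨9493, 5, 6⟩))) (.node 2 (.node 1 (.one ⟨9287, 3, 8⟩) (.one ⟨9304, 6, 14⟩)) (.node 1 (.one ⟨9307, 6, 7⟩) (.one ⟨9294, 4, 8⟩)))))) (.node 16 (.node 8 (.node 4 (.node 2 (.node 1 (.one ⟨9320, 3, 9⟩) (.one ⟨11885, 0, 11⟩)) (.node 1 (.one ⟨9318, 6, 15⟩) (.one ⟨9311, 6, 9⟩))) (.node 2 (.node 1 (.one ⟨9292, 4, 5⟩) (.one ⟨9281, 4, 13⟩)) (.node 1 (.one ⟨9280, 4, 14⟩) (.one ⟨9285, 4, 9⟩)))) (.node 4 (.node 2 (.node 1 (.one ⟨9284, 4, 8⟩) (.one ⟨9287, 4, 8⟩)) (.node 1 (.one ⟨9326, 6, 14⟩) (.one ⟨9319, 6, 10⟩))) (.node 2 (.node 1 (.one ⟨9316, 3, 6⟩) (.one ⟨8946, 0, 14⟩)) (.node 1 (.one ⟨9289, 4, 13⟩) (.one ⟨885,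 6, 11⟩))))) (.node 8 (.node 4 (.node 2 (.node 1 (.one ⟨9262, 5, 10⟩) (.one ⟨9251, 5, 14⟩)) (.node 1 (.one ⟨9248, 5, 14⟩) (.one ⟨9261, 5, 8⟩))) (.node 2 (.node 1 (.one ⟨9258, 5, 10⟩) (.one ⟨9247, 5, 14⟩)) (.node 1 (.one ⟨9252, 5, 14⟩) (.one ⟨9249, 5, 9⟩)))) (.node 4 (.node 2 (.node 1 (.one ⟨9254, 5, 9⟩) (.one ⟨9255, 5, 11⟩)) (.node 1 (.one ⟨9260, 5, 15⟩) (.one ⟨9253, 5, 10⟩))) (.node 2 (.node 1 (.one ⟨9250, 5, 9⟩) (.one ⟨9259, 5, 15⟩)) (.node 1 (.one ⟨9256, 5, 15⟩) (.one ⟨9601, 6, 9⟩)))))))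
def par0_9_2 : Arr Par :=
  (.node 32 (.node 16 (.node 8 (.node 4 (.node 2 (.node 1 (.one ⟨9211, 4, 10⟩) (.one ⟨9203, 4, 14⟩)) (.node 1 (.one ⟨9603, 6, 15⟩) (.one ⟨9605, 6, 8⟩))) (.node 2 (.node 1 (.one ⟨9602, 6, 11⟩) (.one ⟨1422, 3, 16⟩)) (.node 1 (.one ⟨9599, 6, 14⟩) (.one ⟨9613, 6, 9⟩)))) (.node 4 (.node 2 (.node 1 (.one ⟨1420, 5, 11⟩) (.one ⟨9608, 6, 11⟩)) (.node 1 (.one ⟨9611, 6, 16⟩) (.one ⟨9609, 6, 10⟩))) (.node 2 (.node 1 (.one ⟨9201, 4, 9⟩) (.one ⟨9612, 6, 14⟩)) (.node 1 (.one ⟨9209, 4, 15⟩) (.one ⟨9566, 4, 7⟩))))) (.node 8 (.node 4 (.node 2 (.node 1 (.one ⟨9359, 3, 8⟩) (.one ⟨9562, 4, 9⟩)) (.node 1 (.one ⟨9482, 6, 10⟩) (.one ⟨9554, 4, 12⟩))) (.node 2 (.node 1 (.one ⟨7596, 0, 13⟩) (.one ⟨9558, 4, 14⟩)) (.node 1 (.one ⟨9478,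 6, 15⟩) (.one ⟨9479, 6, 14⟩)))) (.node 4 (.node 2 (.node 1 (.one ⟨9564, 4, 14⟩) (.one ⟨4264, 0, 12⟩)) (.node 1 (.one ⟨9560, 4, 9⟩) (.one ⟨9372, 3, 7⟩))) (.node 2 (.node 1 (.one ⟨9555, 4, 6⟩) (.one ⟨9476, 6, 9⟩)) (.node 1 (.one ⟨9551, 4, 9⟩) (.one ⟨1558, 5, 7⟩)))))) (.node 16 (.node 8 (.node 4 (.node 2 (.node 1 (.one ⟨9197, 6, 8⟩) (.one ⟨9427, 3, 13⟩)) (.node 1 (.one ⟨9424, 3, 13⟩) (.one ⟨13411, 2, 5⟩))) (.node 2 (.node 1 (.one ⟨8371, 2, 8⟩) (.one ⟨9423, 3, 13⟩)) (.node 1 (.one ⟨9428, 3, 13⟩) (.one ⟨1555, 5, 14⟩)))) (.node 4 (.node 2 (.node 1 (.one ⟨9432, 3, 15⟩) (.one ⟨13196, 2, 7⟩)) (.node 1 (.one ⟨1563, 5, 7⟩) (.one ⟨9431, 3, 10⟩))) (.node 2 (.node 1 (.one ⟨9436, 3, 14⟩) (.one ⟨4684, 2, 7⟩)) (.node 1 (.one ⟨9379, 4, 6⟩) (.one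 ⟨1391, 5, 8⟩))))) (.node 8 (.node 4 (.node 2 (.node 1 (.one ⟨1392, 5, 11⟩) (.one ⟨1396, 5, 11⟩)) (.node 1 (.one ⟨9449, 4, 11⟩) (.one ⟨238, 3, 16⟩))) (.node 2 (.node 1 (.one ⟨9439, 4, 15⟩) (.one ⟨9660, 0, 13⟩)) (.node 1 (.one ⟨1406, 5, 17⟩) (.one ⟨9445, 4, 10⟩)))) (.node 4 (.node 2 (.node 1 (.one ⟨1399, 5, 12⟩) (.one ⟨1403, 5, 12⟩)) (.node 1 (.one ⟨916, 3, 8⟩) (.one ⟨1393, 5, 16⟩))) (.node 2 (.node 1 (.one ⟨456, 3, 11⟩) (.one ⟨9451, 4, 16⟩)) (.node 1 (.one ⟨1397, 5, 16⟩) (.one ⟨9340, 4, 10⟩)))))))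
def par0_9_3 : Arr Par :=
  (.node 32 (.node 16 (.node 8 (.node 4 (.node 2 (.node 1 (.one ⟨9339, 4, 11⟩) (.one ⟨9335, 4, 10⟩)) (.node 1 (.one ⟨9336, 4, 10⟩) (.one ⟨9329, 4, 15⟩))) (.node 2 (.node 1 (.one ⟨9330, 4, 15⟩) (.one ⟨9334, 4, 15⟩)) (.node 1 (.one ⟨9333, 4, 15⟩) (.one ⟨9332, 4, 11⟩)))) (.node 4 (.node 2 (.node 1 (.one ⟨9331, 4, 9⟩) (.one ⟨1410, 6, 10⟩)) (.node 1 (.one ⟨9328, 4, 11⟩) (.one ⟨497, 3, 16⟩))) (.node 2 (.node 1 (.one ⟨9337, 4, 12⟩) (.one ⟨1408, 6, 15⟩)) (.node 1 (.one ⟨9342, 4, 16⟩) (.one ⟨4369, 0, 12⟩))))) (.node 8 (.node 4 (.node 2 (.node 1 (.one ⟨1287, 5, 12⟩) (.one ⟨1388, 6, 9⟩)) (.node 1 (.one ⟨9375, 3, 8⟩) (.one ⟨1292, 5, 12⟩))) (.node 2 (.node 1 (.one ⟨7435, 2, 12⟩) (.one ⟨1285, 5, 9⟩)) (.node 1 (.one ⟨1281,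 5, 6⟩) (.one ⟨1279, 5, 9⟩)))) (.node 4 (.node 2 (.node 1 (.one ⟨1283, 5, 14⟩) (.one ⟨9389, 3, 8⟩)) (.node 1 (.one ⟨1293, 5, 7⟩) (.one ⟨3939, 0, 13⟩))) (.node 2 (.node 1 (.one ⟨6500, 2, 13⟩) (.one ⟨1290, 5, 7⟩)) (.node 1 (.one ⟨9390, 3, 7⟩) (.one ⟨1529, 5, 14⟩)))))) (.node 16 (.node 8 (.node 4 (.node 2 (.node 1 (.one ⟨1534, 5, 15⟩) (.one ⟨1519, 5, 11⟩)) (.node 1 (.one ⟨9402, 4, 9⟩) (.one ⟨1530, 5, 16⟩))) (.node 2 (.node 1 (.one ⟨9397, 4, 14⟩) (.one ⟨1520, 5, 9⟩)) (.node 1 (.one ⟨1523, 5, 11⟩) (.one ⟨1525, 5, 15⟩)))) (.node 4 (.node 2 (.node 1 (.one ⟨1522, 5, 11⟩) (.one ⟨1531, 5, 10⟩)) (.node 1 (.one ⟨1528, 5, 10⟩) (.one ⟨1526, 5, 15⟩))) (.node 2 (.node 1 (.one ⟨1521, 5, 15⟩) (.one ⟨1532, 5, 10⟩)) (.node 1 (.one ⟨1527, 5, 8⟩) (.one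 ⟨5272, 0, 16⟩))))) (.node 8 (.node 4 (.node 2 (.node 1 (.one ⟨9444, 3, 15⟩) (.one ⟨8931, 0, 14⟩)) (.node 1 (.one ⟨1260, 5, 15⟩) (.one ⟨1143, 6, 11⟩))) (.node 2 (.node 1 (.one ⟨1249, 5, 9⟩) (.one ⟨9442, 3, 10⟩)) (.node 1 (.one ⟨1250, 5, 11⟩) (.one ⟨5155, 0, 15⟩)))) (.node 4 (.node 2 (.node 1 (.one ⟨1251, 5, 16⟩) (.one ⟨1140, 6, 16⟩)) (.node 1 (.one ⟨1252, 5, 12⟩) (.one ⟨9450, 3, 11⟩))) (.node 2 (.node 1 (.one ⟨1258, 5, 10⟩) (.one ⟨9454, 3, 9⟩)) (.node 1 (.one ⟨1257, 5, 10⟩) (.one ⟨9476, 3, 9⟩)))))))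
def par0_9_4 : Arr Par :=
  (.node 32 (.node 16 (.node 8 (.node 4 (.node 2 (.node 1 (.one ⟨9475, 3, 8⟩) (.one ⟨2577, 0, 15⟩)) (.node 1 (.one ⟨2453, 0, 14⟩) (.one ⟨9149, 4, 7⟩))) (.node 2 (.node 1 (.one ⟨9146, 4, 8⟩) (.one ⟨9136, 4, 13⟩)) (.node 1 (.one ⟨9139, 4, 14⟩) (.one ⟨9148, 4, 13⟩)))) (.node 4 (.node 2 (.node 1 (.one ⟨9143, 4, 10⟩) (.one ⟨9141, 4, 8⟩)) (.node 1 (.one ⟨9138, 4, 9⟩) (.one ⟨15128, 0, 13⟩))) (.node 2 (.node 1 (.one ⟨14686, 0, 14⟩) (.one ⟨9482, 3, 10⟩)) (.node 1 (.one ⟨9481, 3, 9⟩) (.one ⟨9378, 6, 14⟩))))) (.node 8 (.node 4 (.node 2 (.node 1 (.one ⟨9381, 5, 14⟩) (.one ⟨9389, 5, 8⟩)) (.node 1 (.one ⟨9390, 5, 7⟩) (.one ⟨1287, 3, 12⟩))) (.node 2 (.node 1 (.one ⟨1292, 3, 12⟩) (.one ⟨9502, 4, 5⟩)) (.node 1 (.one ⟨11368,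 2, 6⟩) (.one ⟨1283, 3, 14⟩)))) (.node 4 (.node 2 (.node 1 (.one ⟨1280, 3, 14⟩) (.one ⟨11467, 2, 8⟩)) (.node 1 (.one ⟨9375, 5, 8⟩) (.one ⟨1284, 3, 14⟩))) (.node 2 (.node 1 (.one ⟨1279, 3, 9⟩) (.one ⟨9494, 4, 7⟩)) (.node 1 (.one ⟨2995, 2, 4⟩) (.one ⟨9609, 4, 10⟩)))))) (.node 16 (.node 8 (.node 4 (.node 2 (.node 1 (.one ⟨9610, 4, 11⟩) (.one ⟨1236, 6, 10⟩)) (.node 1 (.one ⟨9528, 5, 9⟩) (.one ⟨9526, 5, 14⟩))) (.node 2 (.node 1 (.one ⟨1240, 6, 15⟩) (.one ⟨1020, 3, 16⟩)) (.node 1 (.one ⟨9603, 4, 15⟩) (.one ⟨9601, 4, 9⟩)))) (.node 4 (.node 2 (.node 1 (.one ⟨9602, 4, 11⟩) (.one ⟨9520, 5, 11⟩)) (.node 1 (.one ⟨9605, 4, 8⟩) (.one ⟨9608, 4, 11⟩))) (.node 2 (.node 1 (.one ⟨15991, 2, 15⟩) (.one ⟨9611, 4, 16⟩)) (.node 1 (.one ⟨9612, 4, 14⟩) (.one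 ⟨9450, 6, 11⟩))))) (.node 8 (.node 4 (.node 2 (.node 1 (.one ⟨1266, 5, 10⟩) (.one ⟨9439, 6, 15⟩)) (.node 1 (.one ⟨9540, 4, 16⟩) (.one ⟨9547, 4, 9⟩))) (.node 2 (.node 1 (.one ⟨9453, 6, 11⟩) (.one ⟨9539, 4, 16⟩)) (.node 1 (.one ⟨9535, 4, 13⟩) (.one ⟨9441, 6, 12⟩)))) (.node 4 (.node 2 (.node 1 (.one ⟨9541, 4, 8⟩) (.one ⟨9447, 6, 16⟩)) (.node 1 (.one ⟨9546, 4, 11⟩) (.one ⟨9445, 6, 10⟩))) (.node 2 (.node 1 (.one ⟨9538, 4, 11⟩) (.one ⟨1263, 3, 15⟩)) (.node 1 (.one ⟨9549, 4, 16⟩) (.one ⟨5258, 0, 12⟩)))))))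
def par0_9_5 : Arr Par :=
  (.node 32 (.node 16 (.node 8 (.node 4 (.node 2 (.node 1 (.one ⟨9396, 6, 16⟩) (.one ⟨1192, 3, 11⟩)) (.node 1 (.one ⟨1196, 3, 10⟩) (.one ⟨1198, 3, 15⟩))) (.node 2 (.node 1 (.one ⟨3166, 0, 15⟩) (.one ⟨1191, 3, 7⟩)) (.node 1 (.one ⟨9399, 6, 11⟩) (.one ⟨1187, 3, 10⟩)))) (.node 4 (.node 2 (.node 1 (.one ⟨1183, 3, 11⟩) (.one ⟨9533, 4, 16⟩)) (.node 1 (.one ⟨1185, 3, 10⟩) (.one ⟨1188, 3, 8⟩))) (.node 2 (.node 1 (.one ⟨9520, 4, 11⟩) (.one ⟨1190, 3, 15⟩)) (.node 1 (.one ⟨15901, 0, 15⟩) (.one ⟨9150, 5, 8⟩))))) (.node 8 (.node 4 (.node 2 (.node 1 (.one ⟨9146, 6, 8⟩) (.one ⟨4352, 0, 12⟩)) (.node 1 (.one ⟨10136, 0, 11⟩) (.one ⟨1208, 3, 5⟩))) (.node 2 (.node 1 (.one ⟨1207, 3, 6⟩) (.one ⟨9139, 6, 14⟩)) (.node 1 (.one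 ⟨4443, 0, 13⟩) (.one ⟨4096, 0, 11⟩)))) (.node 4 (.node 2 (.node 1 (.one ⟨3871, 2, 8⟩) (.one ⟨9138, 6, 9⟩)) (.node 1 (.one ⟨1206, 3, 8⟩) (.one ⟨9148, 6, 13⟩))) (.node 2 (.node 1 (.one ⟨9144, 5, 13⟩) (.one ⟨1201, 3, 7⟩)) (.node 1 (.one ⟨1202, 3, 6⟩) (.one ⟨12457, 5, 13⟩)))))) (.node 16 (.node 8 (.node 4 (.node 2 (.node 1 (.one ⟨12329, 3, 17⟩) (.one ⟨4281, 5, 12⟩)) (.node 1 (.one ⟨2889, 4, 17⟩) (.one ⟨2902, 4, 15⟩))) (.node 2 (.node 1 (.one ⟨2871, 4, 15⟩) (.one ⟨2867, 4, 14⟩)) (.node 1 (.one ⟨2908, 4, 16⟩) (.one ⟨4648, 6, 16⟩)))) (.node 4 (.node 2 (.node 1 (.one ⟨4634, 6, 15⟩) (.one ⟨12622, 6, 15⟩)) (.node 1 (.one ⟨10980, 4, 15⟩) (.one ⟨10939, 4, 15⟩))) (.node 2 (.node 1 (.one ⟨10967, 4, 14⟩) (.one ⟨12380, 5, 16⟩)) (.node 1 (.one ⟨12663,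 6, 16⟩) (.one ⟨9271, 4, 10⟩))))) (.node 8 (.node 4 (.node 2 (.node 1 (.one ⟨1335, 6, 9⟩) (.one ⟨1339, 6, 11⟩)) (.node 1 (.one ⟨1336, 6, 9⟩) (.one ⟨1337, 6, 14⟩))) (.node 2 (.node 1 (.one ⟨9270, 4, 15⟩) (.one ⟨1338, 6, 14⟩)) (.node 1 (.one ⟨9266, 4, 16⟩) (.one ⟨1330, 6, 15⟩)))) (.node 4 (.node 2 (.node 1 (.one ⟨9278, 4, 16⟩) (.one ⟨1329, 6, 11⟩)) (.node 1 (.one ⟨1334, 6, 16⟩) (.one ⟨1242, 5, 12⟩))) (.node 2 (.node 1 (.one ⟨1327, 6, 8⟩) (.one ⟨9264, 4, 11⟩)) (.node 1 (.one ⟨1328, 6, 10⟩) (.one ⟨9363, 5, 13⟩)))))))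
def par0_9_6 : Arr Par :=
  (.node 32 (.node 16 (.node 8 (.node 4 (.node 2 (.node 1 (.one ⟨187, 6, 16⟩) (.one ⟨9371, 5, 8⟩)) (.node 1 (.one ⟨9374, 5, 10⟩) (.one ⟨9364, 5, 14⟩))) (.node 2 (.node 1 (.one ⟨9365, 5, 15⟩) (.one ⟨9372, 5, 7⟩)) (.node 1 (.one ⟨9373, 5, 10⟩) (.one ⟨11917, 2, 14⟩)))) (.node 4 (.node 2 (.node 1 (.one ⟨9370, 5, 10⟩) (.one ⟨9360, 5, 9⟩)) (.node 1 (.one ⟨9361, 5, 10⟩) (.one ⟨9368, 5, 15⟩))) (.node 2 (.node 1 (.one ⟨9369, 5, 13⟩) (.one ⟨9359, 5, 8⟩)) (.node 1 (.one ⟨1065, 6, 11⟩) (.one ⟨9180, 4, 9⟩))))) (.node 8 (.node 4 (.node 2 (.node 1 (.one ⟨102, 3, 9⟩) (.one ⟨9181, 4, 10⟩)) (.node 1 (.one ⟨9241, 5, 12⟩) (.one ⟨9170, 4, 16⟩))) (.node 2 (.node 1 (.one ⟨9169, 4, 16⟩) (.one ⟨344, 3, 15⟩)) (.node 1 (.one ⟨7225,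 0, 15⟩) (.one ⟨9172, 4, 11⟩)))) (.node 4 (.node 2 (.node 1 (.one ⟨9171, 4, 11⟩) (.one ⟨9173, 4, 10⟩)) (.node 1 (.one ⟨1039, 3, 10⟩) (.one ⟨803, 3, 12⟩))) (.node 2 (.node 1 (.one ⟨3408, 0, 14⟩) (.one ⟨9177, 4, 15⟩)) (.node 1 (.one ⟨9178, 4, 16⟩) (.one ⟨10534, 2, 16⟩)))))) (.node 16 (.node 8 (.node 4 (.node 2 (.node 1 (.one ⟨2170, 2, 16⟩) (.one ⟨6231, 5, 15⟩)) (.node 1 (.one ⟨9636, 1, 15⟩) (.one ⟨14344, 5, 14⟩))) (.node 2 (.node 1 (.one ⟨2543, 2, 14⟩) (.one ⟨14286, 5, 17⟩)) (.node 1 (.one ⟨10274, 2, 16⟩) (.one ⟨11680, 2, 13⟩)))) (.node 4 (.node 2 (.node 1 (.one ⟨8507, 6, 16⟩) (.one ⟨8583, 6, 17⟩)) (.node 1 (.one ⟨16605, 6, 14⟩) (.one ⟨11769, 4, 16⟩))) (.node 2 (.node 1 (.one ⟨9639, 1, 14⟩) (.one ⟨16621, 6, 15⟩)) (.node 1 (.one ⟨8571,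 6, 16⟩) (.one ⟨13891, 6, 11⟩))))) (.node 8 (.node 4 (.node 2 (.node 1 (.one ⟨2942, 4, 15⟩) (.one ⟨15111, 6, 15⟩)) (.node 1 (.one ⟨9666, 1, 15⟩) (.one ⟨10866, 6, 16⟩))) (.node 2 (.node 1 (.one ⟨14693, 2, 15⟩) (.one ⟨10196, 6, 11⟩)) (.node 1 (.one ⟨6110, 5, 16⟩) (.one ⟨12969, 2, 14⟩)))) (.node 4 (.node 2 (.node 1 (.one ⟨7610, 4, 14⟩) (.one ⟨12911, 5, 17⟩)) (.node 1 (.one ⟨10201, 6, 13⟩) (.one ⟨11694, 6, 12⟩))) (.node 2 (.node 1 (.one ⟨9678, 1, 12⟩) (.one ⟨12361, 5, 15⟩)) (.node 1 (.one ⟨9672, 1, 16⟩) (.one ⟨10239, 6, 12⟩)))))))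
def par0_9_7 : Arr Par :=
  (.node 32 (.node 16 (.node 8 (.node 4 (.node 2 (.node 1 (.one ⟨10888, 6, 17⟩) (.one ⟨2971, 4, 14⟩)) (.node 1 (.one ⟨8989, 2, 14⟩) (.one ⟨13971, 6, 12⟩))) (.node 2 (.node 1 (.one ⟨11306, 2, 16⟩) (.one ⟨2132, 2, 16⟩)) (.node 1 (.one ⟨15068, 6, 15⟩) (.one ⟨10249, 6, 14⟩)))) (.node 4 (.node 2 (.node 1 (.one ⟨11435, 2, 15⟩) (.one ⟨12931, 5, 16⟩)) (.node 1 (.one ⟨4375, 5, 14⟩) (.one ⟨4828, 2, 15⟩))) (.node 2 (.node 1 (.one ⟨11672, 6, 13⟩) (.one ⟨7643, 4, 15⟩)) (.node 1 (.one ⟨7154, 2, 11⟩) (.one ⟨1699, 4, 15⟩))))) (.node 8 (.node 4 (.node 2 (.node 1 (.one ⟨681, 4, 13⟩) (.one ⟨2796, 6, 17⟩)) (.node 1 (.one ⟨12627, 4, 12⟩) (.one ⟨15146, 6, 16⟩))) (.node 2 (.node 1 (.one ⟨15506, 2, 15⟩) (.one ⟨11037, 4, 13⟩))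 (.node 1 (.one ⟨10396, 0, 15⟩) (.one ⟨5971, 4, 17⟩)))) (.node 4 (.node 2 (.node 1 (.one ⟨8988, 5, 12⟩) (.one ⟨14913, 3, 15⟩)) (.node 1 (.one ⟨4313, 5, 15⟩) (.one ⟨5792, 6, 13⟩))) (.node 2 (.node 1 (.one ⟨6674, 4, 15⟩) (.one ⟨3601, 6, 14⟩)) (.node 1 (.one ⟨12756, 4, 15⟩) (.one ⟨738, 4, 14⟩)))))) (.node 16 (.node 8 (.node 4 (.node 2 (.node 1 (.one ⟨11001, 4, 14⟩) (.one ⟨10730, 5, 15⟩)) (.node 1 (.one ⟨10308, 0, 14⟩) (.one ⟨5713, 6, 16⟩))) (.node 2 (.node 1 (.one ⟨2776, 6, 16⟩) (.one ⟨15122, 6, 16⟩)) (.node 1 (.one ⟨12641, 4, 11⟩) (.one ⟨3617, 6, 13⟩)))) (.node 4 (.node 2 (.node 1 (.one ⟨5703, 6, 14⟩) (.one ⟨17008, 5, 13⟩)) (.node 1 (.one ⟨12424, 5, 15⟩) (.one ⟨5983, 4, 16⟩))) (.node 2 (.node 1 (.one ⟨14914, 3, 14⟩) (.one ⟨4172, 3,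 15⟩)) (.node 1 (.one ⟨2011, 6, 16⟩) (.one ⟨15960, 5, 12⟩))))) (.node 8 (.node 4 (.node 2 (.node 1 (.one ⟨9734, 1, 15⟩) (.one ⟨13909, 6, 12⟩)) (.node 1 (.one ⟨5782, 6, 16⟩) (.one ⟨12657, 4, 12⟩))) (.node 2 (.node 1 (.one ⟨2956, 4, 15⟩) (.one ⟨15039, 6, 15⟩)) (.node 1 (.one ⟨11818, 4, 14⟩) (.one ⟨14924, 3, 16⟩)))) (.node 4 (.node 2 (.node 1 (.one ⟨303, 5, 12⟩) (.one ⟨4114, 2, 15⟩)) (.node 1 (.one ⟨12287, 2, 13⟩) (.one ⟨3453, 2, 13⟩))) (.node 2 (.node 1 (.one ⟨15047, 5, 15⟩) (.one ⟨8688, 3, 16⟩)) (.node 1 (.one ⟨8954, 5, 13⟩) (.one ⟨5694, 6, 16⟩)))))))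
def par0_9_8 : Arr Par :=
  (.node 32 (.node 16 (.node 8 (.node 4 (.node 2 (.node 1 (.one ⟨13956, 6, 13⟩) (.one ⟨15026, 6, 16⟩)) (.node 1 (.one ⟨11785, 4, 13⟩) (.one ⟨2989, 4, 14⟩))) (.node 2 (.node 1 (.one ⟨12678, 4, 13⟩) (.one ⟨15963, 5, 13⟩)) (.node 1 (.one ⟨11088, 2, 14⟩) (.one ⟨9721, 1, 16⟩)))) (.node 4 (.node 2 (.node 1 (.one ⟨6648, 2, 14⟩) (.one ⟨9722, 1, 14⟩)) (.node 1 (.one ⟨7656, 4, 15⟩) (.one ⟨17043, 5, 12⟩))) (.node 2 (.node 1 (.one ⟨327, 5, 11⟩) (.one ⟨12950, 5, 15⟩)) (.node 1 (.one ⟨6200, 5, 16⟩) (.one ⟨11051, 4, 13⟩))))) (.node 8 (.node 4 (.node 2 (.node 1 (.one ⟨6948, 3, 16⟩) (.one ⟨3657, 4, 17⟩)) (.node 1 (.one ⟨11806, 4, 13⟩) (.one ⟨2668, 5, 13⟩))) (.node 2 (.node 1 (.one ⟨6972, 6, 14⟩) (.one ⟨9759, 1, 14⟩)) (.node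 1 (.one ⟨16866, 3, 16⟩) (.one ⟨3575, 3, 14⟩)))) (.node 4 (.node 2 (.node 1 (.one ⟨3728, 4, 15⟩) (.one ⟨4300, 5, 14⟩)) (.node 1 (.one ⟨4885, 5, 17⟩) (.one ⟨8451, 2, 17⟩))) (.node 2 (.node 1 (.one ⟨8801, 3, 13⟩) (.one ⟨7939, 5, 16⟩)) (.node 1 (.one ⟨8949, 5, 13⟩) (.one ⟨3292, 2, 13⟩)))))) (.node 16 (.node 8 (.node 4 (.node 2 (.node 1 (.one ⟨5882, 2, 16⟩) (.one ⟨14156, 5, 16⟩)) (.node 1 (.one ⟨11773, 4, 12⟩) (.one ⟨10692, 5, 12⟩))) (.node 2 (.node 1 (.one ⟨6989, 6, 13⟩) (.one ⟨3575, 5, 14⟩)) (.node 1 (.one ⟨3608, 2, 17⟩) (.one ⟨16896, 3, 14⟩)))) (.node 4 (.node 2 (.node 1 (.one ⟨4895, 5, 16⟩) (.one ⟨2721, 3, 17⟩)) (.node 1 (.one ⟨12445, 5, 14⟩) (.one ⟨17053, 5, 12⟩))) (.node 2 (.node 1 (.one ⟨3695, 4, 16⟩) (.one ⟨7940, 5, 15⟩)) (.node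 1 (.one ⟨6985, 5, 14⟩) (.one ⟨9805, 5, 12⟩))))) (.node 8 (.node 4 (.node 2 (.node 1 (.one ⟨9796, 1, 16⟩) (.one ⟨125, 5, 16⟩)) (.node 1 (.one ⟨12915, 5, 13⟩) (.one ⟨2451, 5, 16⟩))) (.node 2 (.node 1 (.one ⟨13217, 5, 17⟩) (.one ⟨10328, 5, 16⟩)) (.node 1 (.one ⟨9794, 1, 16⟩) (.one ⟨10421, 5, 12⟩)))) (.node 4 (.node 2 (.node 1 (.one ⟨6271, 6, 11⟩) (.one ⟨11815, 6, 15⟩)) (.node 1 (.one ⟨1679, 3, 15⟩) (.one ⟨10301, 5, 12⟩))) (.node 2 (.node 1 (.one ⟨876, 4, 15⟩) (.one ⟨2804, 4, 16⟩)) (.node 1 (.one ⟨13581, 3, 14⟩) (.one ⟨9787, 5, 13⟩)))))))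
def par0_9_9 : Arr Par :=
  (.node 32 (.node 16 (.node 8 (.node 4 (.node 2 (.node 1 (.one ⟨358, 5, 16⟩) (.one ⟨5150, 5, 17⟩)) (.node 1 (.one ⟨14590, 2, 15⟩) (.one ⟨12929, 5, 14⟩))) (.node 2 (.node 1 (.one ⟨14585, 2, 15⟩) (.one ⟨2273, 5, 15⟩)) (.node 1 (.one ⟨10533, 5, 15⟩) (.one ⟨5541, 3, 15⟩)))) (.node 4 (.node 2 (.node 1 (.one ⟨1695, 3, 14⟩) (.one ⟨11783, 6, 16⟩)) (.node 1 (.one ⟨5213, 5, 16⟩) (.one ⟨14287, 6, 12⟩))) (.node 2 (.node 1 (.one ⟨387, 5, 16⟩) (.one ⟨2243, 5, 11⟩)) (.node 1 (.one ⟨2372, 5, 11⟩) (.one ⟨13822, 4, 12⟩))))) (.node 8 (.node 4 (.node 2 (.node 1 (.one ⟨10863, 4, 16⟩) (.one ⟨647, 4, 13⟩)) (.node 1 (.one ⟨12955, 5, 15⟩) (.one ⟨13519, 3, 14⟩))) (.node 2 (.node 1 (.one ⟨7949, 2, 17⟩) (.one ⟨9827, 1, 13⟩)) (.node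 1 (.one ⟨16407, 6, 16⟩) (.one ⟨5597, 6, 11⟩)))) (.node 4 (.node 2 (.node 1 (.one ⟨7915, 6, 14⟩) (.one ⟨16699, 2, 12⟩)) (.node 1 (.one ⟨6029, 2, 14⟩) (.one ⟨4717, 2, 16⟩))) (.node 2 (.node 1 (.one ⟨10516, 5, 12⟩) (.one ⟨4640, 3, 12⟩)) (.node 1 (.one ⟨4910, 5, 14⟩) (.one ⟨13780, 4, 13⟩)))))) (.node 16 (.node 8 (.node 4 (.node 2 (.node 1 (.one ⟨8353, 6, 15⟩) (.one ⟨925, 4, 14⟩)) (.node 1 (.one ⟨8109, 2, 17⟩) (.one ⟨9544, 2, 12⟩))) (.node 2 (.node 1 (.one ⟨10887, 4, 17⟩) (.one ⟨5423, 3, 15⟩)) (.node 1 (.one ⟨4349, 6, 15⟩) (.one ⟨5563, 6, 12⟩)))) (.node 4 (.node 2 (.node 1 (.one ⟨1765, 5, 14⟩) (.one ⟨4877, 2, 16⟩)) (.node 1 (.one ⟨4887, 5, 13⟩) (.one ⟨9817, 1, 13⟩))) (.node 2 (.node 1 (.one ⟨7918, 6, 15⟩) (.one ⟨4630, 3, 13⟩)) (.node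 1 (.one ⟨2467, 5, 11⟩) (.one ⟨8159, 3, 11⟩))))) (.node 8 (.node 4 (.node 2 (.node 1 (.one ⟨10752, 3, 14⟩) (.one ⟨888, 5, 13⟩)) (.node 1 (.one ⟨7966, 4, 16⟩) (.one ⟨3713, 5, 14⟩))) (.node 2 (.node 1 (.one ⟨11174, 2, 16⟩) (.one ⟨3511, 3, 15⟩)) (.node 1 (.one ⟨6694, 4, 14⟩) (.one ⟨347, 5, 12⟩)))) (.node 4 (.node 2 (.node 1 (.one ⟨9857, 1, 15⟩) (.one ⟨14199, 3, 11⟩)) (.node 1 (.one ⟨9862, 1, 15⟩) (.one ⟨9856, 1, 11⟩))) (.node 2 (.node 1 (.one ⟨9860, 1, 16⟩) (.one ⟨11767, 5, 14⟩)) (.node 1 (.one ⟨8129, 3, 13⟩) (.one ⟨16226, 3, 12⟩)))))))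
def par0_9_10 : Arr Par :=
  (.node 32 (.node 16 (.node 8 (.node 4 (.node 2 (.node 1 (.one ⟨2965, 2, 10⟩) (.one ⟨4037, 2, 14⟩)) (.node 1 (.one ⟨14208, 3, 10⟩) (.one ⟨11799, 5, 13⟩))) (.node 2 (.node 1 (.one ⟨13478, 2, 15⟩) (.one ⟨530, 5, 13⟩)) (.node 1 (.one ⟨11224, 2, 14⟩) (.one ⟨2720, 3, 15⟩)))) (.node 4 (.node 2 (.node 1 (.one ⟨11347, 0, 16⟩) (.one ⟨2968, 2, 14⟩)) (.node 1 (.one ⟨16193, 3, 12⟩) (.one ⟨1046, 5, 14⟩))) (.node 2 (.node 1 (.one ⟨4943, 4, 16⟩) (.one ⟨4896, 5, 14⟩)) (.node 1 (.one ⟨6473, 2, 15⟩) (.one ⟨6648, 4, 14⟩))))) (.node 8 (.node 4 (.node 2 (.node 1 (.one ⟨9856, 6, 11⟩) (.one ⟨7961, 4, 16⟩)) (.node 1 (.one ⟨14710, 2, 15⟩) (.one ⟨685, 3, 13⟩))) (.node 2 (.node 1 (.one ⟨4131, 6, 9⟩) (.one ⟨16186, 3, 14⟩)) (.node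 1 (.one ⟨16122, 5, 15⟩) (.one ⟨12555, 6, 15⟩)))) (.node 4 (.node 2 (.node 1 (.one ⟨2393, 6, 14⟩) (.one ⟨16218, 3, 14⟩)) (.node 1 (.one ⟨15994, 3, 14⟩) (.one ⟨393, 3, 14⟩))) (.node 2 (.node 1 (.one ⟨2683, 3, 11⟩) (.one ⟨346, 4, 13⟩)) (.node 1 (.one ⟨14237, 3, 10⟩) (.one ⟨6435, 2, 12⟩)))))) (.node 16 (.node 8 (.node 4 (.node 2 (.node 1 (.one ⟨289, 4, 14⟩) (.one ⟨4515, 6, 16⟩)) (.node 1 (.one ⟨15993, 3, 15⟩) (.one ⟨351, 3, 13⟩))) (.node 2 (.node 1 (.one ⟨14245, 3, 11⟩) (.one ⟨10473, 6, 15⟩)) (.node 1 (.one ⟨8122, 3, 13⟩) (.one ⟨6679, 4, 13⟩)))) (.node 4 (.node 2 (.node 1 (.one ⟨12177, 6, 10⟩) (.one ⟨15841, 4, 13⟩)) (.node 1 (.one ⟨9874, 1, 16⟩) (.one ⟨631, 3, 14⟩))) (.node 2 (.node 1 (.one ⟨9851, 6, 12⟩) (.one ⟨7964, 4, 15⟩)) (.node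 1 (.one ⟨16138, 5, 16⟩) (.one ⟨13982, 3, 13⟩))))) (.node 8 (.node 4 (.node 2 (.node 1 (.one ⟨3074, 4, 17⟩) (.one ⟨6215, 6, 14⟩)) (.node 1 (.one ⟨11715, 6, 12⟩) (.one ⟨7759, 4, 16⟩))) (.node 2 (.node 1 (.one ⟨13734, 6, 15⟩) (.one ⟨8621, 4, 15⟩)) (.node 1 (.one ⟨15785, 3, 9⟩) (.one ⟨16658, 4, 14⟩)))) (.node 4 (.node 2 (.node 1 (.one ⟨4423, 2, 16⟩) (.one ⟨13827, 3, 17⟩)) (.node 1 (.one ⟨11081, 4, 16⟩) (.one ⟨2220, 3, 15⟩))) (.node 2 (.node 1 (.one ⟨9947, 1, 12⟩) (.one ⟨14269, 6, 16⟩)) (.node 1 (.one ⟨11068, 4, 15⟩) (.one ⟨14284, 6, 16⟩)))))))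
def par0_9_11 : Arr Par :=
  (.node 32 (.node 16 (.node 8 (.node 4 (.node 2 (.node 1 (.one ⟨11101, 4, 15⟩) (.one ⟨820, 4, 13⟩)) (.node 1 (.one ⟨14889, 2, 16⟩) (.one ⟨8575, 4, 14⟩))) (.node 2 (.node 1 (.one ⟨6837, 5, 16⟩) (.one ⟨11789, 3, 15⟩)) (.node 1 (.one ⟨12411, 6, 16⟩) (.one ⟨689, 5, 12⟩)))) (.node 4 (.node 2 (.node 1 (.one ⟨9963, 1, 16⟩) (.one ⟨17042, 5, 14⟩)) (.node 1 (.one ⟨9959, 1, 14⟩) (.one ⟨5803, 3, 15⟩))) (.node 2 (.node 1 (.one ⟨15833, 4, 14⟩) (.one ⟨2312, 6, 12⟩)) (.node 1 (.one ⟨9966, 1, 15⟩) (.one ⟨11779, 3, 17⟩))))) (.node 8 (.node 4 (.node 2 (.node 1 (.one ⟨13695, 6, 16⟩) (.one ⟨7807, 4, 17⟩)) (.node 1 (.one ⟨13901, 3, 14⟩) (.one ⟨15756, 3, 10⟩))) (.node 2 (.node 1 (.one ⟨11747, 6, 13⟩) (.one ⟨14362, 6, 15⟩))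 (.node 1 (.one ⟨8600, 4, 15⟩) (.one ⟨11794, 3, 16⟩)))) (.node 4 (.node 2 (.node 1 (.one ⟨11157, 4, 14⟩) (.one ⟨16673, 4, 13⟩)) (.node 1 (.one ⟨16681, 4, 15⟩) (.one ⟨1476, 2, 11⟩))) (.node 2 (.node 1 (.one ⟨6833, 5, 16⟩) (.one ⟨7756, 4, 15⟩)) (.node 1 (.one ⟨13827, 5, 17⟩) (.one ⟨11702, 3, 16⟩)))))) (.node 16 (.node 8 (.node 4 (.node 2 (.node 1 (.one ⟨5116, 5, 14⟩) (.one ⟨5707, 3, 15⟩)) (.node 1 (.one ⟨6962, 2, 16⟩) (.one ⟨6301, 6, 15⟩))) (.node 2 (.node 1 (.one ⟨8562, 4, 15⟩) (.one ⟨921, 4, 12⟩)) (.node 1 (.one ⟨11822, 3, 14⟩) (.one ⟨4097, 2, 13⟩)))) (.node 4 (.node 2 (.node 1 (.one ⟨8958, 5, 15⟩) (.one ⟨5697, 3, 14⟩)) (.node 1 (.one ⟨15886, 4, 15⟩) (.one ⟨3459, 2, 15⟩))) (.node 2 (.node 1 (.one ⟨821, 5, 13⟩) (.one ⟨10363, 6, 11⟩))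 (.node 1 (.one ⟨11909, 2, 14⟩) (.one ⟨14425, 5, 13⟩))))) (.node 8 (.node 4 (.node 2 (.node 1 (.one ⟨867, 2, 14⟩) (.one ⟨464, 2, 14⟩)) (.node 1 (.one ⟨5183, 5, 10⟩) (.one ⟨2420, 5, 11⟩))) (.node 2 (.node 1 (.one ⟨385, 2, 14⟩) (.one ⟨16527, 5, 14⟩)) (.node 1 (.one ⟨498, 2, 15⟩) (.one ⟨3174, 3, 14⟩)))) (.node 4 (.node 2 (.node 1 (.one ⟨2431, 6, 15⟩) (.one ⟨13284, 5, 14⟩)) (.node 1 (.one ⟨6702, 2, 14⟩) (.one ⟨11161, 2, 12⟩))) (.node 2 (.node 1 (.one ⟨16549, 5, 14⟩) (.one ⟨9150, 2, 8⟩)) (.node 1 (.one ⟨6359, 5, 13⟩) (.one ⟨10531, 6, 13⟩)))))))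
def par0_9_12 : Arr Par :=
  (.node 32 (.node 16 (.node 8 (.node 4 (.node 2 (.node 1 (.one ⟨2435, 5, 8⟩) (.one ⟨2229, 3, 15⟩)) (.node 1 (.one ⟨9001, 5, 14⟩) (.one ⟨9787, 6, 13⟩))) (.node 2 (.node 1 (.one ⟨850, 5, 14⟩) (.one ⟨5172, 5, 16⟩)) (.node 1 (.one ⟨8447, 5, 15⟩) (.one ⟨12520, 6, 12⟩)))) (.node 4 (.node 2 (.node 1 (.one ⟨12767, 4, 14⟩) (.one ⟨11190, 3, 15⟩)) (.node 1 (.one ⟨10739, 6, 14⟩) (.one ⟨14123, 4, 13⟩))) (.node 2 (.node 1 (.one ⟨2421, 6, 10⟩) (.one ⟨4853, 4, 16⟩)) (.node 1 (.one ⟨7620, 2, 14⟩) (.one ⟨6321, 5, 14⟩))))) (.node 8 (.node 4 (.node 2 (.node 1 (.one ⟨2469, 6, 15⟩) (.one ⟨16501, 5, 15⟩)) (.node 1 (.one ⟨13278, 3, 15⟩) (.one ⟨13235, 5, 11⟩))) (.node 2 (.node 1 (.one ⟨9969, 1, 15⟩) (.one ⟨9972, 1, 15⟩)) (.node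 1 (.one ⟨10500, 5, 12⟩) (.one ⟨10480, 6, 15⟩)))) (.node 4 (.node 2 (.node 1 (.one ⟨9979, 1, 13⟩) (.one ⟨11230, 3, 13⟩)) (.node 1 (.one ⟨16511, 5, 15⟩) (.one ⟨9981, 1, 9⟩))) (.node 2 (.node 1 (.one ⟨6885, 2, 14⟩) (.one ⟨14384, 5, 12⟩)) (.node 1 (.one ⟨5202, 5, 15⟩) (.one ⟨13062, 3, 16⟩)))))) (.node 16 (.node 8 (.node 4 (.node 2 (.node 1 (.one ⟨8445, 2, 16⟩) (.one ⟨13248, 5, 16⟩)) (.node 1 (.one ⟨17029, 5, 15⟩) (.one ⟨135, 4, 14⟩))) (.node 2 (.node 1 (.one ⟨2452, 6, 12⟩) (.one ⟨9805, 6, 12⟩)) (.node 1 (.one ⟨10483, 5, 9⟩) (.one ⟨620, 5, 14⟩)))) (.node 4 (.node 2 (.node 1 (.one ⟨9998, 1, 15⟩) (.one ⟨2705, 6, 15⟩)) (.node 1 (.one ⟨4868, 4, 15⟩) (.one ⟨10499, 6, 11⟩))) (.node 2 (.node 1 (.one ⟨4427, 6, 13⟩) (.one ⟨14107, 4, 12⟩)) (.node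 1 (.one ⟨12768, 4, 15⟩) (.one ⟨9056, 3, 11⟩))))) (.node 8 (.node 4 (.node 2 (.node 1 (.one ⟨1017, 5, 12⟩) (.one ⟨4053, 2, 9⟩)) (.node 1 (.one ⟨12229, 2, 13⟩) (.one ⟨2976, 2, 12⟩))) (.node 2 (.node 1 (.one ⟨10846, 2, 14⟩) (.one ⟨5142, 5, 13⟩)) (.node 1 (.one ⟨16526, 5, 15⟩) (.one ⟨4415, 2, 16⟩)))) (.node 4 (.node 2 (.node 1 (.one ⟨11800, 4, 12⟩) (.one ⟨8867, 2, 16⟩)) (.node 1 (.one ⟨8454, 5, 15⟩) (.one ⟨10129, 1, 12⟩))) (.node 2 (.node 1 (.one ⟨10382, 3, 15⟩) (.one ⟨1058, 4, 11⟩)) (.node 1 (.one ⟨2872, 5, 14⟩) (.one ⟨14391, 0, 12⟩)))))))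
def par0_9_13 : Arr Par :=
  (.node 32 (.node 16 (.node 8 (.node 4 (.node 2 (.node 1 (.one ⟨14829, 4, 11⟩) (.one ⟨15622, 3, 13⟩)) (.node 1 (.one ⟨1910, 3, 13⟩) (.one ⟨1866, 5, 15⟩))) (.node 2 (.node 1 (.one ⟨14934, 4, 15⟩) (.one ⟨3592, 2, 16⟩)) (.node 1 (.one ⟨252, 5, 15⟩) (.one ⟨11960, 3, 15⟩)))) (.node 4 (.node 2 (.node 1 (.one ⟨3244, 2, 15⟩) (.one ⟨7557, 3, 14⟩)) (.node 1 (.one ⟨9062, 2, 16⟩) (.one ⟨1948, 3, 13⟩))) (.node 2 (.node 1 (.one ⟨905, 5, 15⟩) (.one ⟨3968, 5, 14⟩)) (.node 1 (.one ⟨16506, 3, 13⟩) (.one ⟨4273, 5, 14⟩))))) (.node 8 (.node 4 (.node 2 (.node 1 (.one ⟨12041, 5, 12⟩) (.one ⟨9933, 5, 13⟩)) (.node 1 (.one ⟨10104, 1, 14⟩) (.one ⟨9970, 3, 11⟩))) (.node 2 (.node 1 (.one ⟨3904, 3, 14⟩) (.one ⟨14930, 4, 15⟩)) (.node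 1 (.one ⟨15579, 3, 15⟩) (.one ⟨1574, 6, 16⟩)))) (.node 4 (.node 2 (.node 1 (.one ⟨4291, 5, 14⟩) (.one ⟨105, 5, 16⟩)) (.node 1 (.one ⟨10014, 3, 16⟩) (.one ⟨1860, 5, 10⟩))) (.node 2 (.node 1 (.one ⟨15189, 6, 16⟩) (.one ⟨2321, 0, 14⟩)) (.node 1 (.one ⟨9726, 6, 14⟩) (.one ⟨12963, 4, 14⟩)))))) (.node 16 (.node 8 (.node 4 (.node 2 (.node 1 (.one ⟨4352, 5, 12⟩) (.one ⟨9736, 6, 15⟩)) (.node 1 (.one ⟨294, 5, 12⟩) (.one ⟨15012, 4, 14⟩))) (.node 2 (.node 1 (.one ⟨11087, 4, 10⟩) (.one ⟨3738, 4, 14⟩)) (.node 1 (.one ⟨8054, 4, 14⟩) (.one ⟨13831, 4, 17⟩)))) (.node 4 (.node 2 (.node 1 (.one ⟨4388, 6, 15⟩) (.one ⟨789, 5, 14⟩)) (.node 1 (.one ⟨12951, 4, 13⟩) (.one ⟨2260, 3, 17⟩))) (.node 2 (.node 1 (.one ⟨7904, 5, 14⟩) (.one ⟨17114, 3, 12⟩)) (.node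 1 (.one ⟨3026, 4, 11⟩) (.one ⟨9739, 6, 13⟩))))) (.node 8 (.node 4 (.node 2 (.node 1 (.one ⟨10779, 0, 13⟩) (.one ⟨223, 5, 15⟩)) (.node 1 (.one ⟨9977, 3, 15⟩) (.one ⟨3892, 3, 17⟩))) (.node 2 (.node 1 (.one ⟨1891, 5, 11⟩) (.one ⟨16796, 4, 17⟩)) (.node 1 (.one ⟨12436, 5, 15⟩) (.one ⟨9965, 5, 12⟩)))) (.node 4 (.node 2 (.node 1 (.one ⟨3942, 2, 13⟩) (.one ⟨7521, 3, 16⟩)) (.node 1 (.one ⟨14931, 4, 16⟩) (.one ⟨10003, 3, 12⟩))) (.node 2 (.node 1 (.one ⟨15544, 2, 15⟩) (.one ⟨3951, 5, 13⟩)) (.node 1 (.one ⟨12447, 5, 13⟩) (.one ⟨12339, 6, 16⟩)))))))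
def par0_9_14 : Arr Par :=
  (.node 32 (.node 16 (.node 8 (.node 4 (.node 2 (.node 1 (.one ⟨12969, 4, 14⟩) (.one ⟨9068, 3, 11⟩)) (.node 1 (.one ⟨10971, 5, 16⟩) (.one ⟨919, 5, 13⟩))) (.node 2 (.node 1 (.one ⟨13798, 4, 16⟩) (.one ⟨7906, 5, 15⟩)) (.node 1 (.one ⟨3064, 4, 12⟩) (.one ⟨17127, 3, 14⟩)))) (.node 4 (.node 2 (.node 1 (.one ⟨12368, 5, 11⟩) (.one ⟨12945, 4, 13⟩)) (.node 1 (.one ⟨8067, 4, 15⟩) (.one ⟨15009, 4, 15⟩))) (.node 2 (.node 1 (.one ⟨326, 5, 11⟩) (.one ⟨9723, 6, 14⟩)) (.node 1 (.one ⟨11127, 4, 11⟩) (.one ⟨12209, 6, 17⟩))))) (.node 8 (.node 4 (.node 2 (.node 1 (.one ⟨4303, 5, 15⟩) (.one ⟨6959, 2, 11⟩)) (.node 1 (.one ⟨4907, 4, 15⟩) (.one ⟨8084, 2, 17⟩))) (.node 2 (.node 1 (.one ⟨10886, 2, 14⟩) (.one ⟨922, 4, 10⟩)) (.node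 1 (.one ⟨11768, 4, 13⟩) (.one ⟨16551, 5, 14⟩)))) (.node 4 (.node 2 (.node 1 (.one ⟨10033, 1, 10⟩) (.one ⟨13225, 5, 12⟩)) (.node 1 (.one ⟨10034, 1, 14⟩) (.one ⟨10889, 2, 13⟩))) (.node 2 (.node 1 (.one ⟨656, 5, 11⟩) (.one ⟨10036, 1, 15⟩)) (.node 1 (.one ⟨17103, 3, 12⟩) (.one ⟨14315, 5, 15⟩)))))) (.node 16 (.node 8 (.node 4 (.node 2 (.node 1 (.one ⟨12024, 5, 13⟩) (.one ⟨9952, 5, 15⟩)) (.node 1 (.one ⟨16541, 3, 14⟩) (.one ⟨6490, 5, 13⟩))) (.node 2 (.node 1 (.one ⟨15600, 3, 13⟩) (.one ⟨988, 5, 14⟩)) (.node 1 (.one ⟨15586, 3, 16⟩) (.one ⟨14528, 0, 13⟩)))) (.node 4 (.node 2 (.node 1 (.one ⟨16230, 2, 16⟩) (.one ⟨15994, 5, 14⟩)) (.node 1 (.one ⟨1942, 3, 12⟩) (.one ⟨1900, 5, 15⟩))) (.node 2 (.node 1 (.one ⟨7537, 3, 14⟩) (.one ⟨14847, 4, 12⟩))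 (.node 1 (.one ⟨175, 5, 14⟩) (.one ⟨3855, 4, 13⟩))))) (.node 8 (.node 4 (.node 2 (.node 1 (.one ⟨2433, 3, 16⟩) (.one ⟨14310, 5, 16⟩)) (.node 1 (.one ⟨6587, 3, 12⟩) (.one ⟨3601, 0, 14⟩))) (.node 2 (.node 1 (.one ⟨725, 5, 15⟩) (.one ⟨1812, 4, 15⟩)) (.node 1 (.one ⟨8040, 4, 12⟩) (.one ⟨2172, 6, 11⟩)))) (.node 4 (.node 2 (.node 1 (.one ⟨13823, 5, 11⟩) (.one ⟨6321, 6, 14⟩)) (.node 1 (.one ⟨1517, 5, 15⟩) (.one ⟨13783, 5, 14⟩))) (.node 2 (.node 1 (.one ⟨3522, 4, 15⟩) (.one ⟨11951, 3, 16⟩)) (.node 1 (.one ⟨2642, 6, 16⟩) (.one ⟨7993, 4, 12⟩)))))))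
def par0_9_15 : Arr Par :=
  (.node 32 (.node 16 (.node 8 (.node 4 (.node 2 (.node 1 (.one ⟨10261, 1, 14⟩) (.one ⟨13611, 6, 13⟩)) (.node 1 (.one ⟨11845, 4, 11⟩) (.one ⟨10165, 6, 16⟩))) (.node 2 (.node 1 (.one ⟨12134, 2, 16⟩) (.one ⟨11780, 4, 15⟩)) (.node 1 (.one ⟨10496, 3, 16⟩) (.one ⟨5735, 5, 14⟩)))) (.node 4 (.node 2 (.node 1 (.one ⟨14360, 5, 15⟩) (.one ⟨1514, 5, 17⟩)) (.node 1 (.one ⟨3538, 4, 15⟩) (.one ⟨10267, 1, 12⟩))) (.node 2 (.node 1 (.one ⟨5743, 5, 13⟩) (.one ⟨11919, 3, 12⟩)) (.node 1 (.one ⟨10771, 6, 13⟩) (.one ⟨9217, 5, 15⟩))))) (.node 8 (.node 4 (.node 2 (.node 1 (.one ⟨17010, 6, 13⟩) (.one ⟨9856, 4, 11⟩)) (.node 1 (.one ⟨10467, 3, 14⟩) (.one ⟨16062, 4, 15⟩))) (.node 2 (.node 1 (.one ⟨3828, 4, 10⟩) (.one ⟨779, 5, 16⟩))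 (.node 1 (.one ⟨16502, 3, 15⟩) (.one ⟨2171, 4, 12⟩)))) (.node 4 (.node 2 (.node 1 (.one ⟨59, 5, 15⟩) (.one ⟨5793, 5, 12⟩)) (.node 1 (.one ⟨7976, 4, 17⟩) (.one ⟨6251, 5, 15⟩))) (.node 2 (.node 1 (.one ⟨2222, 3, 14⟩) (.one ⟨6271, 5, 11⟩)) (.node 1 (.one ⟨14207, 4, 10⟩) (.one ⟨10193, 6, 12⟩)))))) (.node 16 (.node 8 (.node 4 (.node 2 (.node 1 (.one ⟨10084, 6, 11⟩) (.one ⟨424, 5, 13⟩)) (.node 1 (.one ⟨14678, 3, 13⟩) (.one ⟨5593, 4, 15⟩))) (.node 2 (.node 1 (.one ⟨7915, 4, 14⟩) (.one ⟨13855, 6, 14⟩)) (.node 1 (.one ⟨13998, 6, 13⟩) (.one ⟨2695, 6, 14⟩)))) (.node 4 (.node 2 (.node 1 (.one ⟨5602, 4, 14⟩) (.one ⟨6441, 6, 15⟩)) (.node 1 (.one ⟨14282, 5, 14⟩) (.one ⟨13781, 6, 13⟩))) (.node 2 (.node 1 (.one ⟨10206, 6, 11⟩) (.one ⟨15860, 4, 13⟩))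 (.node 1 (.one ⟨11585, 4, 16⟩) (.one ⟨13884, 6, 14⟩))))) (.node 8 (.node 4 (.node 2 (.node 1 (.one ⟨5560, 4, 16⟩) (.one ⟨13774, 6, 15⟩)) (.node 1 (.one ⟨7918, 4, 15⟩) (.one ⟨10126, 6, 12⟩))) (.node 2 (.node 1 (.one ⟨10230, 2, 13⟩) (.one ⟨10244, 6, 13⟩)) (.node 1 (.one ⟨14639, 3, 12⟩) (.one ⟨5568, 4, 13⟩)))) (.node 4 (.node 2 (.node 1 (.one ⟨10794, 6, 15⟩) (.one ⟨6295, 5, 15⟩)) (.node 1 (.one ⟨2293, 3, 16⟩) (.one ⟨13821, 6, 12⟩))) (.node 2 (.node 1 (.one ⟨10254, 6, 10⟩) (.one ⟨15843, 4, 12⟩)) (.node 1 (.one ⟨11577, 4, 15⟩) (.one ⟨3808, 4, 11⟩)))))))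
def par0_9 : Arr Par :=
  (.node 512 (.node 256 (.node 128 (.node 64 par0_9_0 par0_9_1) (.node 64 par0_9_2 par0_9_3)) (.node 128 (.node 64 par0_9_4 par0_9_5) (.node 64 par0_9_6 par0_9_7))) (.node 256 (.node 128 (.node 64 par0_9_8 par0_9_9) (.node 64 par0_9_10 par0_9_11)) (.node 128 (.node 64 par0_9_12 par0_9_13) (.node 64 par0_9_14 par0_9_15))))
def par0_10_0 : Arr Par :=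
  (.node 32 (.node 16 (.node 8 (.node 4 (.node 2 (.node 1 (.one ⟨16530, 3, 16⟩) (.one ⟨11930, 3, 15⟩)) (.node 1 (.one ⟨989, 5, 15⟩) (.one ⟨9218, 5, 14⟩))) (.node 2 (.node 1 (.one ⟨9851, 4, 12⟩) (.one ⟨8984, 6, 14⟩)) (.node 1 (.one ⟨2390, 3, 13⟩) (.one ⟨10747, 6, 15⟩)))) (.node 4 (.node 2 (.node 1 (.one ⟨2155, 4, 13⟩) (.one ⟨5704, 5, 13⟩)) (.node 1 (.one ⟨7978, 4, 16⟩) (.one ⟨2108, 3, 15⟩))) (.node 2 (.node 1 (.one ⟨14330, 5, 16⟩) (.one ⟨14287, 5, 12⟩)) (.node 1 (.one ⟨14206, 4, 9⟩) (.one ⟨11925, 4, 12⟩))))) (.node 8 (.node 4 (.node 2 (.node 1 (.one ⟨8001, 4, 13⟩) (.one ⟨5673, 2, 16⟩)) (.node 1 (.one ⟨9751, 2, 15⟩) (.one ⟨9000, 6, 14⟩))) (.node 2 (.node 1 (.one ⟨9222, 5, 15⟩) (.one ⟨10142, 2, 13⟩)) (.node 1 (.one ⟨5507, 6, 14⟩) (.one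 ⟨6217, 5, 14⟩)))) (.node 4 (.node 2 (.node 1 (.one ⟨5759, 5, 13⟩) (.one ⟨3562, 4, 14⟩)) (.node 1 (.one ⟨1511, 5, 16⟩) (.one ⟨9543, 2, 11⟩))) (.node 2 (.node 1 (.one ⟨5726, 5, 12⟩) (.one ⟨11841, 3, 13⟩)) (.node 1 (.one ⟨2677, 6, 12⟩) (.one ⟨12579, 0, 15⟩)))))) (.node 16 (.node 8 (.node 4 (.node 2 (.node 1 (.one ⟨8020, 4, 13⟩) (.one ⟨1831, 4, 16⟩)) (.node 1 (.one ⟨9029, 3, 15⟩) (.one ⟨3779, 4, 14⟩))) (.node 2 (.node 1 (.one ⟨6617, 3, 13⟩) (.one ⟨6261, 5, 15⟩)) (.node 1 (.one ⟨10486, 3, 17⟩) (.one ⟨2156, 6, 12⟩)))) (.node 4 (.node 2 (.node 1 (.one ⟨13799, 5, 12⟩) (.one ⟨14425, 6, 13⟩)) (.node 1 (.one ⟨1516, 5, 16⟩) (.one ⟨13807, 5, 15⟩))) (.node 2 (.node 1 (.one ⟨3513, 4, 16⟩) (.one ⟨2723, 6, 15⟩)) (.node 1 (.one ⟨9909, 3, 16⟩) (.one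 ⟨14591, 6, 15⟩))))) (.node 8 (.node 4 (.node 2 (.node 1 (.one ⟨14222, 2, 12⟩) (.one ⟨3951, 4, 13⟩)) (.node 1 (.one ⟨10086, 3, 15⟩) (.one ⟨10269, 5, 14⟩))) (.node 2 (.node 1 (.one ⟨14217, 2, 13⟩) (.one ⟨5220, 3, 14⟩)) (.node 1 (.one ⟨1946, 3, 16⟩) (.one ⟨2585, 4, 14⟩)))) (.node 4 (.node 2 (.node 1 (.one ⟨3931, 3, 13⟩) (.one ⟨14931, 6, 16⟩)) (.node 1 (.one ⟨10938, 6, 15⟩) (.one ⟨2246, 1, 14⟩))) (.node 2 (.node 1 (.one ⟨8135, 2, 13⟩) (.one ⟨2465, 4, 11⟩)) (.node 1 (.one ⟨2201, 5, 13⟩) (.one ⟨3968, 4, 14⟩)))))))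
def par0_10_1 : Arr Par :=
  (.node 32 (.node 16 (.node 8 (.node 4 (.node 2 (.node 1 (.one ⟨16371, 2, 14⟩) (.one ⟨13628, 6, 11⟩)) (.node 1 (.one ⟨10167, 5, 12⟩) (.one ⟨14636, 6, 12⟩))) (.node 2 (.node 1 (.one ⟨2237, 1, 13⟩) (.one ⟨5617, 5, 16⟩)) (.node 1 (.one ⟨14937, 6, 14⟩) (.one ⟨14599, 6, 3⟩)))) (.node 4 (.node 2 (.node 1 (.one ⟨10464, 4, 8⟩) (.one ⟨2103, 5, 6⟩)) (.node 1 (.one ⟨82, 2, 8⟩) (.one ⟨5630, 5, 15⟩))) (.node 2 (.node 1 (.one ⟨3195, 6, 11⟩) (.one ⟨2284, 0, 14⟩)) (.node 1 (.one ⟨10299, 0, 15⟩) (.one ⟨1536, 2, 11⟩))))) (.node 8 (.node 4 (.node 2 (.node 1 (.one ⟨13729, 5, 15⟩) (.one ⟨2357, 4, 14⟩)) (.node 1 (.one ⟨9882, 5, 15⟩) (.one ⟨6042, 5, 12⟩))) (.node 2 (.node 1 (.one ⟨5895, 5, 15⟩) (.one ⟨2186, 5, 9⟩)) (.node 1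 (.one ⟨5107, 2, 12⟩) (.one ⟨10254, 5, 10⟩)))) (.node 4 (.node 2 (.node 1 (.one ⟨2415, 4, 15⟩) (.one ⟨11469, 2, 12⟩)) (.node 1 (.one ⟨1782, 5, 14⟩) (.one ⟨14609, 6, 14⟩))) (.node 2 (.node 1 (.one ⟨2277, 1, 12⟩) (.one ⟨14903, 2, 15⟩)) (.node 1 (.one ⟨4021, 4, 15⟩) (.one ⟨2156, 5, 12⟩)))))) (.node 16 (.node 8 (.node 4 (.node 2 (.node 1 (.one ⟨5567, 6, 12⟩) (.one ⟨4270, 4, 15⟩)) (.node 1 (.one ⟨9739, 5, 13⟩) (.one ⟨3903, 3, 12⟩))) (.node 2 (.node 1 (.one ⟨11158, 3, 14⟩) (.one ⟨9969, 3, 15⟩)) (.node 1 (.one ⟨5237, 3, 16⟩) (.one ⟨12749, 2, 13⟩)))) (.node 4 (.node 2 (.node 1 (.one ⟨14012, 5, 14⟩) (.one ⟨4010, 4, 13⟩)) (.node 1 (.one ⟨13645, 6, 12⟩) (.one ⟨3030, 3, 17⟩))) (.node 2 (.node 1 (.one ⟨12509, 4, 14⟩) (.one ⟨10220, 5, 12⟩)) (.node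 1 (.one ⟨17101, 2, 17⟩) (.one ⟨5691, 6, 16⟩))))) (.node 8 (.node 4 (.node 2 (.node 1 (.one ⟨3459, 4, 15⟩) (.one ⟨8129, 5, 13⟩)) (.node 1 (.one ⟨3103, 2, 16⟩) (.one ⟨15059, 6, 14⟩))) (.node 2 (.node 1 (.one ⟨8348, 3, 13⟩) (.one ⟨16365, 3, 10⟩)) (.node 1 (.one ⟨2618, 6, 14⟩) (.one ⟨14134, 6, 13⟩)))) (.node 4 (.node 2 (.node 1 (.one ⟨6387, 5, 11⟩) (.one ⟨16193, 5, 12⟩)) (.node 1 (.one ⟨10786, 4, 15⟩) (.one ⟨16355, 3, 10⟩))) (.node 2 (.node 1 (.one ⟨13846, 6, 15⟩) (.one ⟨8334, 3, 13⟩)) (.node 1 (.one ⟨10566, 5, 15⟩) (.one ⟨3916, 3, 13⟩)))))))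
def par0_10_2 : Arr Par :=
  (.node 32 (.node 16 (.node 8 (.node 4 (.node 2 (.node 1 (.one ⟨8140, 5, 12⟩) (.one ⟨5717, 6, 16⟩)) (.node 1 (.one ⟨3866, 5, 15⟩) (.one ⟨10120, 3, 12⟩))) (.node 2 (.node 1 (.one ⟨13453, 4, 14⟩) (.one ⟨2293, 1, 16⟩)) (.node 1 (.one ⟨16411, 3, 13⟩) (.one ⟨2678, 4, 16⟩)))) (.node 4 (.node 2 (.node 1 (.one ⟨13735, 5, 15⟩) (.one ⟨16323, 3, 11⟩)) (.node 1 (.one ⟨11465, 6, 10⟩) (.one ⟨5827, 3, 12⟩))) (.node 2 (.node 1 (.one ⟨16397, 3, 10⟩) (.one ⟨3906, 3, 14⟩)) (.node 1 (.one ⟨6392, 5, 14⟩) (.one ⟨10680, 6, 13⟩))))) (.node 8 (.node 4 (.node 2 (.node 1 (.one ⟨13853, 6, 15⟩) (.one ⟨16177, 5, 15⟩)) (.node 1 (.one ⟨7624, 5, 13⟩) (.one ⟨2219, 3, 14⟩))) (.node 2 (.node 1 (.one ⟨4393, 4, 15⟩) (.one ⟨3453, 4, 13⟩))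 (.node 1 (.one ⟨10446, 6, 14⟩) (.one ⟨5685, 6, 13⟩)))) (.node 4 (.node 2 (.node 1 (.one ⟨2445, 6, 15⟩) (.one ⟨14794, 6, 14⟩)) (.node 1 (.one ⟨2346, 1, 16⟩) (.one ⟨4501, 2, 13⟩))) (.node 2 (.node 1 (.one ⟨2343, 1, 14⟩) (.one ⟨3474, 4, 12⟩)) (.node 1 (.one ⟨14467, 5, 11⟩) (.one ⟨12461, 4, 13⟩)))))) (.node 16 (.node 8 (.node 4 (.node 2 (.node 1 (.one ⟨8341, 3, 14⟩) (.one ⟨11566, 4, 15⟩)) (.node 1 (.one ⟨2350, 4, 13⟩) (.one ⟨16315, 3, 10⟩))) (.node 2 (.node 1 (.one ⟨13808, 6, 16⟩) (.one ⟨10250, 3, 17⟩)) (.node 1 (.one ⟨6714, 2, 12⟩) (.one ⟨5723, 6, 13⟩)))) (.node 4 (.node 2 (.node 1 (.one ⟨8122, 5, 13⟩) (.one ⟨16309, 3, 10⟩)) (.node 1 (.one ⟨10170, 5, 16⟩) (.one ⟨2048, 3, 10⟩))) (.node 2 (.node 1 (.one ⟨8324, 3, 14⟩) (.one ⟨5926, 3,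 14⟩)) (.node 1 (.one ⟨12366, 4, 17⟩) (.one ⟨14195, 5, 13⟩))))) (.node 8 (.node 4 (.node 2 (.node 1 (.one ⟨16831, 5, 15⟩) (.one ⟨14121, 5, 12⟩)) (.node 1 (.one ⟨16513, 6, 13⟩) (.one ⟨10584, 5, 12⟩))) (.node 2 (.node 1 (.one ⟨12864, 5, 14⟩) (.one ⟨2372, 1, 11⟩)) (.node 1 (.one ⟨4752, 2, 16⟩) (.one ⟨8813, 5, 14⟩)))) (.node 4 (.node 2 (.node 1 (.one ⟨2136, 3, 14⟩) (.one ⟨7061, 5, 16⟩)) (.node 1 (.one ⟨10657, 5, 13⟩) (.one ⟨3121, 4, 15⟩))) (.node 2 (.node 1 (.one ⟨16204, 5, 15⟩) (.one ⟨12205, 3, 11⟩)) (.node 1 (.one ⟨2378, 1, 15⟩) (.one ⟨5606, 6, 15⟩)))))))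
def par0_10_3 : Arr Par :=
  (.node 32 (.node 16 (.node 8 (.node 4 (.node 2 (.node 1 (.one ⟨2491, 5, 11⟩) (.one ⟨16552, 6, 13⟩)) (.node 1 (.one ⟨4944, 3, 15⟩) (.one ⟨3127, 3, 12⟩))) (.node 2 (.node 1 (.one ⟨10022, 6, 10⟩) (.one ⟨4595, 5, 14⟩)) (.node 1 (.one ⟨2198, 3, 15⟩) (.one ⟨8354, 4, 12⟩)))) (.node 4 (.node 2 (.node 1 (.one ⟨16207, 5, 17⟩) (.one ⟨2566, 5, 13⟩)) (.node 1 (.one ⟨7302, 4, 14⟩) (.one ⟨15196, 4, 13⟩))) (.node 2 (.node 1 (.one ⟨7030, 5, 16⟩) (.one ⟨12616, 5, 14⟩)) (.node 1 (.one ⟨16311, 4, 13⟩) (.one ⟨10994, 3, 14⟩))))) (.node 8 (.node 4 (.node 2 (.node 1 (.one ⟨12980, 6, 16⟩) (.one ⟨5598, 6, 13⟩)) (.node 1 (.one ⟨16634, 6, 16⟩) (.one ⟨6159, 5, 13⟩))) (.node 2 (.node 1 (.one ⟨13361, 4, 17⟩) (.one ⟨11238, 3, 11⟩))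 (.node 1 (.one ⟨16532, 6, 12⟩) (.one ⟨5979, 6, 15⟩)))) (.node 4 (.node 2 (.node 1 (.one ⟨7111, 4, 15⟩) (.one ⟨2546, 5, 13⟩)) (.node 1 (.one ⟨16601, 6, 14⟩) (.one ⟨10264, 3, 14⟩))) (.node 2 (.node 1 (.one ⟨4266, 0, 16⟩) (.one ⟨16352, 4, 14⟩)) (.node 1 (.one ⟨4198, 4, 15⟩) (.one ⟨10600, 5, 7⟩)))))) (.node 16 (.node 8 (.node 4 (.node 2 (.node 1 (.one ⟨587, 2, 7⟩) (.one ⟨6127, 5, 5⟩)) (.node 1 (.one ⟨5552, 6, 7⟩) (.one ⟨4799, 5, 13⟩))) (.node 2 (.node 1 (.one ⟨16508, 6, 13⟩) (.one ⟨16815, 5, 15⟩)) (.node 1 (.one ⟨9749, 0, 15⟩) (.one ⟨8792, 5, 15⟩)))) (.node 4 (.node 2 (.node 1 (.one ⟨11849, 2, 13⟩) (.one ⟨14554, 3, 14⟩)) (.node 1 (.one ⟨9939, 6, 11⟩) (.one ⟨5974, 5, 14⟩))) (.node 2 (.node 1 (.one ⟨10428, 3, 16⟩) (.one ⟨4379, 4, 14⟩))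 (.node 1 (.one ⟨10168, 3, 12⟩) (.one ⟨11225, 3, 12⟩))))) (.node 8 (.node 4 (.node 2 (.node 1 (.one ⟨9837, 2, 14⟩) (.one ⟨4871, 2, 15⟩)) (.node 1 (.one ⟨12802, 2, 13⟩) (.one ⟨2435, 1, 8⟩))) (.node 2 (.node 1 (.one ⟨13671, 6, 15⟩) (.one ⟨8483, 6, 12⟩)) (.node 1 (.one ⟨12849, 5, 16⟩) (.one ⟨2547, 2, 14⟩)))) (.node 4 (.node 2 (.node 1 (.one ⟨13068, 6, 10⟩) (.one ⟨871, 6, 15⟩)) (.node 1 (.one ⟨10249, 3, 14⟩) (.one ⟨2181, 0, 11⟩))) (.node 2 (.node 1 (.one ⟨2577, 5, 15⟩) (.one ⟨16349, 4, 15⟩)) (.node 1 (.one ⟨16424, 4, 14⟩) (.one ⟨12765, 6, 16⟩)))))))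
def par0_10_4 : Arr Par :=
  (.node 32 (.node 16 (.node 8 (.node 4 (.node 2 (.node 1 (.one ⟨17079, 2, 15⟩) (.one ⟨14577, 4, 10⟩)) (.node 1 (.one ⟨11189, 3, 13⟩) (.one ⟨10573, 5, 10⟩))) (.node 2 (.node 1 (.one ⟨14243, 5, 11⟩) (.one ⟨2417, 1, 15⟩)) (.node 1 (.one ⟨4628, 5, 14⟩) (.one ⟨11944, 3, 16⟩)))) (.node 4 (.node 2 (.node 1 (.one ⟨1891, 6, 11⟩) (.one ⟨2427, 1, 16⟩)) (.node 1 (.one ⟨10221, 3, 14⟩) (.one ⟨8766, 5, 15⟩))) (.node 2 (.node 1 (.one ⟨12648, 5, 14⟩) (.one ⟨8363, 4, 14⟩)) (.node 1 (.one ⟨10607, 5, 12⟩) (.one ⟨1384, 2, 9⟩))))) (.node 8 (.node 4 (.node 2 (.node 1 (.one ⟨3176, 3, 9⟩) (.one ⟨8861, 4, 16⟩)) (.node 1 (.one ⟨17136, 4, 15⟩) (.one ⟨6293, 2, 14⟩))) (.node 2 (.node 1 (.one ⟨14637, 4, 11⟩) (.one ⟨14343, 2, 14⟩))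 (.node 1 (.one ⟨2443, 2, 14⟩) (.one ⟨13691, 6, 15⟩)))) (.node 4 (.node 2 (.node 1 (.one ⟨4603, 5, 16⟩) (.one ⟨1883, 6, 12⟩)) (.node 1 (.one ⟨8778, 5, 15⟩) (.one ⟨11506, 2, 16⟩))) (.node 2 (.node 1 (.one ⟨10623, 5, 12⟩) (.one ⟨8376, 6, 13⟩)) (.node 1 (.one ⟨8331, 4, 13⟩) (.one ⟨1919, 6, 14⟩)))))) (.node 16 (.node 8 (.node 4 (.node 2 (.node 1 (.one ⟨12759, 6, 16⟩) (.one ⟨14121, 6, 12⟩)) (.node 1 (.one ⟨2213, 2, 12⟩) (.one ⟨2519, 5, 12⟩))) (.node 2 (.node 1 (.one ⟨4783, 5, 15⟩) (.one ⟨2695, 5, 14⟩)) (.node 1 (.one ⟨13172, 3, 15⟩) (.one ⟨3523, 5, 11⟩)))) (.node 4 (.node 2 (.node 1 (.one ⟨4210, 4, 15⟩) (.one ⟨2598, 5, 16⟩)) (.node 1 (.one ⟨16877, 5, 12⟩) (.one ⟨2460, 1, 16⟩))) (.node 2 (.node 1 (.one ⟨1841, 6, 11⟩) (.one ⟨16395, 4, 11⟩))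 (.node 1 (.one ⟨3159, 4, 15⟩) (.one ⟨5411, 4, 16⟩))))) (.node 8 (.node 4 (.node 2 (.node 1 (.one ⟨175, 2, 14⟩) (.one ⟨884, 2, 13⟩)) (.node 1 (.one ⟨8227, 4, 15⟩) (.one ⟨894, 3, 12⟩))) (.node 2 (.node 1 (.one ⟨9895, 6, 14⟩) (.one ⟨12624, 5, 14⟩)) (.node 1 (.one ⟨14277, 3, 13⟩) (.one ⟨6547, 5, 13⟩)))) (.node 4 (.node 2 (.node 1 (.one ⟨7324, 2, 16⟩) (.one ⟨14041, 5, 14⟩)) (.node 1 (.one ⟨16477, 5, 16⟩) (.one ⟨7366, 4, 16⟩))) (.node 2 (.node 1 (.one ⟨2719, 6, 13⟩) (.one ⟨11242, 4, 15⟩)) (.node 1 (.one ⟨9967, 5, 14⟩) (.one ⟨6245, 3, 14⟩)))))))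
def par0_10_5 : Arr Par :=
  (.node 32 (.node 16 (.node 8 (.node 4 (.node 2 (.node 1 (.one ⟨10573, 3, 10⟩) (.one ⟨5985, 3, 16⟩)) (.node 1 (.one ⟨9217, 3, 15⟩) (.one ⟨662, 3, 13⟩))) (.node 2 (.node 1 (.one ⟨14041, 3, 14⟩) (.one ⟨15705, 5, 16⟩)) (.node 1 (.one ⟨6386, 6, 14⟩) (.one ⟨14392, 4, 11⟩)))) (.node 4 (.node 2 (.node 1 (.one ⟨11232, 4, 14⟩) (.one ⟨6293, 4, 14⟩)) (.node 1 (.one ⟨2517, 2, 16⟩) (.one ⟨2605, 1, 12⟩))) (.node 2 (.node 1 (.one ⟨2600, 1, 13⟩) (.one ⟨2603, 1, 9⟩)) (.node 1 (.one ⟨8892, 6, 12⟩) (.one ⟨5981, 3, 14⟩))))) (.node 8 (.node 4 (.node 2 (.node 1 (.one ⟨4331, 4, 16⟩) (.one ⟨6232, 2, 15⟩)) (.node 1 (.one ⟨13315, 4, 13⟩) (.one ⟨2539, 3, 15⟩))) (.node 2 (.node 1 (.one ⟨322, 3, 12⟩) (.one ⟨14488, 6, 14⟩)) (.node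 1 (.one ⟨4005, 0, 13⟩) (.one ⟨4620, 3, 14⟩)))) (.node 4 (.node 2 (.node 1 (.one ⟨2420, 4, 11⟩) (.one ⟨1737, 6, 11⟩)) (.node 1 (.one ⟨15256, 4, 14⟩) (.one ⟨6896, 2, 15⟩))) (.node 2 (.node 1 (.one ⟨2681, 6, 14⟩) (.one ⟨5981, 5, 14⟩)) (.node 1 (.one ⟨16459, 5, 16⟩) (.one ⟨10600, 3, 7⟩)))))) (.node 16 (.node 8 (.node 4 (.node 2 (.node 1 (.one ⟨6231, 3, 15⟩) (.one ⟨5945, 3, 10⟩)) (.node 1 (.one ⟨8194, 4, 14⟩) (.one ⟨4851, 6, 10⟩))) (.node 2 (.node 1 (.one ⟨12105, 2, 16⟩) (.one ⟨14303, 3, 9⟩)) (.node 1 (.one ⟨2511, 3, 13⟩) (.one ⟨14409, 4, 9⟩)))) (.node 4 (.node 2 (.node 1 (.one ⟨10465, 4, 6⟩) (.one ⟨14409, 6, 9⟩)) (.node 1 (.one ⟨10761, 6, 8⟩) (.one ⟨2093, 0, 15⟩))) (.node 2 (.node 1 (.one ⟨4620, 5, 14⟩) (.one ⟨2013, 0, 13⟩)) (.node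 1 (.one ⟨13158, 5, 15⟩) (.one ⟨5281, 4, 11⟩))))) (.node 8 (.node 4 (.node 2 (.node 1 (.one ⟨14286, 3, 17⟩) (.one ⟨6191, 3, 12⟩)) (.node 1 (.one ⟨10615, 3, 11⟩) (.one ⟨6018, 3, 15⟩))) (.node 2 (.node 1 (.one ⟨16275, 4, 13⟩) (.one ⟨8983, 4, 15⟩)) (.node 1 (.one ⟨14077, 3, 14⟩) (.one ⟨10511, 4, 10⟩)))) (.node 4 (.node 2 (.node 1 (.one ⟨6361, 6, 15⟩) (.one ⟨11193, 4, 12⟩)) (.node 1 (.one ⟨10605, 3, 14⟩) (.one ⟨8911, 6, 16⟩))) (.node 2 (.node 1 (.one ⟨8745, 6, 13⟩) (.one ⟨6361, 4, 15⟩)) (.node 1 (.one ⟨2523, 1, 11⟩) (.one ⟨13235, 4, 11⟩)))))))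
def par0_10_6 : Arr Par :=
  (.node 32 (.node 16 (.node 8 (.node 4 (.node 2 (.node 1 (.one ⟨2552, 3, 13⟩) (.one ⟨4395, 4, 15⟩)) (.node 1 (.one ⟨14510, 6, 16⟩) (.one ⟨6110, 6, 16⟩))) (.node 2 (.node 1 (.one ⟨12924, 6, 16⟩) (.one ⟨14104, 3, 15⟩)) (.node 1 (.one ⟨6031, 5, 16⟩) (.one ⟨14077, 5, 14⟩)))) (.node 4 (.node 2 (.node 1 (.one ⟨2368, 4, 13⟩) (.one ⟨5094, 5, 16⟩)) (.node 1 (.one ⟨16842, 5, 16⟩) (.one ⟨6348, 4, 16⟩))) (.node 2 (.node 1 (.one ⟨6306, 4, 14⟩) (.one ⟨5500, 6, 14⟩)) (.node 1 (.one ⟨2257, 0, 15⟩) (.one ⟨9849, 6, 12⟩))))) (.node 8 (.node 4 (.node 2 (.node 1 (.one ⟨8656, 6, 16⟩) (.one ⟨6403, 6, 17⟩)) (.node 1 (.one ⟨13542, 6, 13⟩) (.one ⟨9226, 3, 17⟩))) (.node 2 (.node 1 (.one ⟨12971, 6, 13⟩) (.one ⟨10679, 6, 12⟩)) (.node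 1 (.one ⟨8345, 4, 17⟩) (.one ⟨14392, 6, 11⟩)))) (.node 4 (.node 2 (.node 1 (.one ⟨8908, 6, 16⟩) (.one ⟨10785, 6, 12⟩)) (.node 1 (.one ⟨4587, 5, 14⟩) (.one ⟨14199, 6, 11⟩))) (.node 2 (.node 1 (.one ⟨1567, 3, 16⟩) (.one ⟨9837, 6, 14⟩)) (.node 1 (.one ⟨3322, 4, 17⟩) (.one ⟨2971, 5, 14⟩)))))) (.node 16 (.node 8 (.node 4 (.node 2 (.node 1 (.one ⟨6230, 3, 12⟩) (.one ⟨13343, 4, 12⟩)) (.node 1 (.one ⟨8804, 5, 16⟩) (.one ⟨9228, 3, 14⟩))) (.node 2 (.node 1 (.one ⟨12174, 2, 16⟩) (.one ⟨12944, 6, 14⟩)) (.node 1 (.one ⟨4598, 5, 13⟩) (.one ⟨2469, 2, 15⟩)))) (.node 4 (.node 2 (.node 1 (.one ⟨2510, 1, 16⟩) (.one ⟨10567, 5, 12⟩)) (.node 1 (.one ⟨11370, 4, 15⟩) (.one ⟨2508, 1, 11⟩))) (.node 2 (.node 1 (.one ⟨8698, 6, 14⟩) (.one ⟨14575, 5, 13⟩)) (.node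 1 (.one ⟨3120, 4, 14⟩) (.one ⟨15345, 4, 15⟩))))) (.node 8 (.node 4 (.node 2 (.node 1 (.one ⟨892, 3, 13⟩) (.one ⟨10765, 4, 15⟩)) (.node 1 (.one ⟨6310, 3, 11⟩) (.one ⟨9775, 3, 13⟩))) (.node 2 (.node 1 (.one ⟨13705, 6, 16⟩) (.one ⟨11894, 5, 15⟩)) (.node 1 (.one ⟨2662, 4, 13⟩) (.one ⟨9858, 5, 11⟩)))) (.node 4 (.node 2 (.node 1 (.one ⟨4352, 3, 12⟩) (.one ⟨131, 3, 12⟩)) (.node 1 (.one ⟨15327, 6, 15⟩) (.one ⟨8907, 4, 14⟩))) (.node 2 (.node 1 (.one ⟨7135, 4, 16⟩) (.one ⟨11989, 5, 14⟩)) (.node 1 (.one ⟨7328, 4, 15⟩) (.one ⟨9895, 5, 14⟩)))))))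
def par0_10_7 : Arr Par :=
  (.node 32 (.node 16 (.node 8 (.node 4 (.node 2 (.node 1 (.one ⟨2591, 6, 10⟩) (.one ⟨11823, 2, 14⟩)) (.node 1 (.one ⟨3157, 6, 13⟩) (.one ⟨7945, 3, 14⟩))) (.node 2 (.node 1 (.one ⟨12352, 3, 11⟩) (.one ⟨15377, 4, 16⟩)) (.node 1 (.one ⟨2696, 4, 16⟩) (.one ⟨14984, 6, 16⟩)))) (.node 4 (.node 2 (.node 1 (.one ⟨17, 3, 9⟩) (.one ⟨12575, 3, 15⟩)) (.node 1 (.one ⟨11975, 5, 7⟩) (.one ⟨1779, 5, 9⟩))) (.node 2 (.node 1 (.one ⟨4270, 5, 15⟩) (.one ⟨10591, 6, 8⟩)) (.node 1 (.one ⟨2350, 5, 13⟩) (.one ⟨1724, 3, 16⟩))))) (.node 8 (.node 4 (.node 2 (.node 1 (.one ⟨14421, 3, 12⟩) (.one ⟨3908, 5, 11⟩)) (.node 1 (.one ⟨11014, 6, 13⟩) (.one ⟨5665, 6, 15⟩))) (.node 2 (.node 1 (.one ⟨10402, 5, 14⟩) (.one ⟨15393, 6, 17⟩)) (.node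 1 (.one ⟨11615, 5, 13⟩) (.one ⟨9886, 5, 11⟩)))) (.node 4 (.node 2 (.node 1 (.one ⟨4360, 4, 12⟩) (.one ⟨7939, 3, 16⟩)) (.node 1 (.one ⟨3511, 5, 15⟩) (.one ⟨10411, 5, 11⟩))) (.node 2 (.node 1 (.one ⟨2688, 4, 15⟩) (.one ⟨14427, 3, 12⟩)) (.node 1 (.one ⟨3911, 5, 12⟩) (.one ⟨10360, 5, 12⟩)))))) (.node 16 (.node 8 (.node 4 (.node 2 (.node 1 (.one ⟨4296, 4, 12⟩) (.one ⟨5642, 6, 17⟩)) (.node 1 (.one ⟨3928, 5, 11⟩) (.one ⟨2636, 1, 15⟩))) (.node 2 (.node 1 (.one ⟨10184, 5, 16⟩) (.one ⟨3839, 5, 14⟩)) (.node 1 (.one ⟨3541, 5, 16⟩) (.one ⟨2628, 1, 11⟩)))) (.node 4 (.node 2 (.node 1 (.one ⟨4334, 4, 13⟩) (.one ⟨5630, 6, 15⟩)) (.node 1 (.one ⟨2618, 4, 14⟩) (.one ⟨574, 6, 12⟩))) (.node 2 (.node 1 (.one ⟨2531, 6, 13⟩) (.one ⟨2629, 1, 16⟩)) (.node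 1 (.one ⟨14989, 6, 17⟩) (.one ⟨10302, 4, 14⟩))))) (.node 8 (.node 4 (.node 2 (.node 1 (.one ⟨10752, 6, 14⟩) (.one ⟨10387, 4, 15⟩)) (.node 1 (.one ⟨11426, 6, 16⟩) (.one ⟨2368, 6, 13⟩))) (.node 2 (.node 1 (.one ⟨1230, 2, 12⟩) (.one ⟨6445, 4, 15⟩)) (.node 1 (.one ⟨13550, 2, 16⟩) (.one ⟨14123, 5, 13⟩)))) (.node 4 (.node 2 (.node 1 (.one ⟨10783, 6, 13⟩) (.one ⟨1709, 3, 15⟩)) (.node 1 (.one ⟨2293, 4, 16⟩) (.one ⟨2697, 5, 14⟩))) (.node 2 (.node 1 (.one ⟨10500, 6, 12⟩) (.one ⟨13955, 5, 14⟩)) (.node 1 (.one ⟨16206, 2, 15⟩) (.one ⟨14469, 5, 16⟩)))))))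
def par0_10_8 : Arr Par :=
  (.node 32 (.node 16 (.node 8 (.node 4 (.node 2 (.node 1 (.one ⟨10199, 5, 13⟩) (.one ⟨6009, 5, 11⟩)) (.node 1 (.one ⟨2323, 5, 16⟩) (.one ⟨4747, 3, 14⟩))) (.node 2 (.node 1 (.one ⟨6528, 5, 11⟩) (.one ⟨14211, 6, 15⟩)) (.node 1 (.one ⟨3451, 6, 12⟩) (.one ⟨2728, 1, 1⟩)))) (.node 4 (.node 2 (.node 1 (.one ⟨10761, 5, 8⟩) (.one ⟨10313, 4, 7⟩)) (.node 1 (.one ⟨10465, 6, 6⟩) (.one ⟨14488, 5, 14⟩))) (.node 2 (.node 1 (.one ⟨3484, 6, 11⟩) (.one ⟨10391, 5, 14⟩)) (.node 1 (.one ⟨1679, 5, 15⟩) (.one ⟨1827, 3, 13⟩))))) (.node 8 (.node 4 (.node 2 (.node 1 (.one ⟨6450, 4, 17⟩) (.one ⟨2251, 4, 14⟩)) (.node 1 (.one ⟨13989, 5, 13⟩) (.one ⟨10785, 5, 12⟩))) (.node 2 (.node 1 (.one ⟨3363, 6, 16⟩) (.one ⟨2675, 1, 10⟩)) (.node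 1 (.one ⟨2678, 1, 16⟩) (.one ⟨2289, 5, 16⟩)))) (.node 4 (.node 2 (.node 1 (.one ⟨6496, 4, 13⟩) (.one ⟨2263, 4, 12⟩)) (.node 1 (.one ⟨2435, 6, 8⟩) (.one ⟨2685, 1, 12⟩))) (.node 2 (.node 1 (.one ⟨14243, 2, 11⟩) (.one ⟨5889, 5, 15⟩)) (.node 1 (.one ⟨16234, 2, 14⟩) (.one ⟨2135, 5, 12⟩)))))) (.node 16 (.node 8 (.node 4 (.node 2 (.node 1 (.one ⟨2328, 5, 15⟩) (.one ⟨2285, 4, 11⟩)) (.node 1 (.one ⟨6386, 5, 14⟩) (.one ⟨12689, 3, 13⟩))) (.node 2 (.node 1 (.one ⟨5877, 5, 13⟩) (.one ⟨2719, 5, 13⟩)) (.node 1 (.one ⟨4736, 3, 17⟩) (.one ⟨1595, 3, 16⟩)))) (.node 4 (.node 2 (.node 1 (.one ⟨3490, 6, 14⟩) (.one ⟨2233, 4, 14⟩)) (.node 1 (.one ⟨2681, 5, 14⟩) (.one ⟨10736, 6, 15⟩))) (.node 2 (.node 1 (.one ⟨2403, 6, 15⟩) (.one ⟨1716, 3, 17⟩)) (.node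 1 (.one ⟨4738, 3, 14⟩) (.one ⟨656, 6, 11⟩))))) (.node 8 (.node 4 (.node 2 (.node 1 (.one ⟨15970, 6, 15⟩) (.one ⟨10820, 1, 16⟩)) (.node 1 (.one ⟨6201, 6, 13⟩) (.one ⟨2902, 6, 15⟩))) (.node 2 (.node 1 (.one ⟨8959, 2, 15⟩) (.one ⟨13228, 6, 16⟩)) (.node 1 (.one ⟨16627, 3, 12⟩) (.one ⟨8325, 5, 17⟩)))) (.node 4 (.node 2 (.node 1 (.one ⟨5739, 4, 15⟩) (.one ⟨8548, 3, 15⟩)) (.node 1 (.one ⟨13176, 6, 17⟩) (.one ⟨6092, 5, 15⟩))) (.node 2 (.node 1 (.one ⟨2463, 0, 11⟩) (.one ⟨3810, 0, 14⟩)) (.node 1 (.one ⟨12515, 3, 15⟩) (.one ⟨15968, 6, 14⟩)))))))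
def par0_10_9 : Arr Par :=
  (.node 32 (.node 16 (.node 8 (.node 4 (.node 2 (.node 1 (.one ⟨16644, 3, 13⟩) (.one ⟨15580, 5, 14⟩)) (.node 1 (.one ⟨14377, 6, 14⟩) (.one ⟨2867, 6, 14⟩))) (.node 2 (.node 1 (.one ⟨3457, 2, 15⟩) (.one ⟨1017, 6, 12⟩)) (.node 1 (.one ⟨4672, 5, 17⟩) (.one ⟨3137, 0, 12⟩)))) (.node 4 (.node 2 (.node 1 (.one ⟨451, 4, 14⟩) (.one ⟨5764, 4, 16⟩)) (.node 1 (.one ⟨4970, 0, 13⟩) (.one ⟨16380, 5, 17⟩))) (.node 2 (.node 1 (.one ⟨4417, 3, 14⟩) (.one ⟨6078, 5, 15⟩)) (.node 1 (.one ⟨5122, 6, 16⟩) (.one ⟨12107, 5, 12⟩))))) (.node 8 (.node 4 (.node 2 (.node 1 (.one ⟨14003, 3, 16⟩) (.one ⟨13797, 4, 15⟩)) (.node 1 (.one ⟨11745, 4, 16⟩) (.one ⟨10967, 6, 14⟩))) (.node 2 (.node 1 (.one ⟨4321, 6, 15⟩) (.one ⟨15974, 6, 16⟩)) (.node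 1 (.one ⟨7517, 6, 15⟩) (.one ⟨10860, 1, 15⟩)))) (.node 4 (.node 2 (.node 1 (.one ⟨4671, 5, 15⟩) (.one ⟨8475, 6, 16⟩)) (.node 1 (.one ⟨3365, 5, 14⟩) (.one ⟨10858, 1, 15⟩))) (.node 2 (.node 1 (.one ⟨11142, 4, 15⟩) (.one ⟨8593, 3, 14⟩)) (.node 1 (.one ⟨7352, 3, 13⟩) (.one ⟨11717, 4, 15⟩)))))) (.node 16 (.node 8 (.node 4 (.node 2 (.node 1 (.one ⟨12400, 6, 14⟩) (.one ⟨13837, 4, 16⟩)) (.node 1 (.one ⟨10939, 6, 15⟩) (.one ⟨6832, 4, 16⟩))) (.node 2 (.node 1 (.one ⟨15584, 6, 14⟩) (.one ⟨4030, 5, 13⟩)) (.node 1 (.one ⟨3250, 5, 17⟩) (.one ⟨970, 3, 17⟩)))) (.node 4 (.node 2 (.node 1 (.one ⟨11408, 5, 15⟩) (.one ⟨10943, 6, 15⟩)) (.node 1 (.one ⟨15971, 2, 14⟩) (.one ⟨14282, 2, 14⟩))) (.node 2 (.node 1 (.one ⟨16549, 2, 14⟩) (.one ⟨8614, 3, 15⟩))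 (.node 1 (.one ⟨15445, 3, 12⟩) (.one ⟨5613, 5, 15⟩))))) (.node 8 (.node 4 (.node 2 (.node 1 (.one ⟨14163, 5, 15⟩) (.one ⟨12521, 3, 11⟩)) (.node 1 (.one ⟨14930, 5, 15⟩) (.one ⟨43, 4, 13⟩))) (.node 2 (.node 1 (.one ⟨10915, 6, 15⟩) (.one ⟨5637, 4, 15⟩)) (.node 1 (.one ⟨8061, 4, 15⟩) (.one ⟨3874, 2, 8⟩)))) (.node 4 (.node 2 (.node 1 (.one ⟨3440, 2, 14⟩) (.one ⟨6760, 2, 13⟩)) (.node 1 (.one ⟨12145, 6, 13⟩) (.one ⟨3684, 4, 16⟩))) (.node 2 (.node 1 (.one ⟨7213, 3, 14⟩) (.one ⟨12489, 3, 12⟩)) (.node 1 (.one ⟨8106, 4, 17⟩) (.one ⟨10872, 1, 15⟩)))))))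
def par0_10_10 : Arr Par :=
  (.node 32 (.node 16 (.node 8 (.node 4 (.node 2 (.node 1 (.one ⟨10873, 1, 14⟩) (.one ⟨4095, 6, 14⟩)) (.node 1 (.one ⟨10871, 1, 9⟩) (.one ⟨3650, 4, 15⟩))) (.node 2 (.node 1 (.one ⟨8094, 4, 16⟩) (.one ⟨4455, 3, 13⟩)) (.node 1 (.one ⟨15162, 3, 13⟩) (.one ⟨7971, 3, 16⟩)))) (.node 4 (.node 2 (.node 1 (.one ⟨14931, 5, 16⟩) (.one ⟨4424, 3, 12⟩)) (.node 1 (.one ⟨11718, 4, 15⟩) (.one ⟨3852, 4, 15⟩))) (.node 2 (.node 1 (.one ⟨5668, 4, 16⟩) (.one ⟨8078, 4, 16⟩)) (.node 1 (.one ⟨927, 4, 12⟩) (.one ⟨16007, 4, 15⟩))))) (.node 8 (.node 4 (.node 2 (.node 1 (.one ⟨15226, 3, 14⟩) (.one ⟨14794, 5, 14⟩)) (.node 1 (.one ⟨2023, 5, 11⟩) (.one ⟨10839, 5, 16⟩))) (.node 2 (.node 1 (.one ⟨11462, 6, 15⟩) (.one ⟨495, 3, 16⟩)) (.node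 1 (.one ⟨10163, 6, 15⟩) (.one ⟨291, 4, 14⟩)))) (.node 4 (.node 2 (.node 1 (.one ⟨13678, 5, 16⟩) (.one ⟨16123, 4, 15⟩)) (.node 1 (.one ⟨14929, 5, 15⟩) (.one ⟨3643, 4, 12⟩))) (.node 2 (.node 1 (.one ⟨1972, 5, 15⟩) (.one ⟨13896, 4, 13⟩)) (.node 1 (.one ⟨2776, 5, 16⟩) (.one ⟨10260, 6, 16⟩)))))) (.node 16 (.node 8 (.node 4 (.node 2 (.node 1 (.one ⟨3866, 6, 15⟩) (.one ⟨1027, 4, 13⟩)) (.node 1 (.one ⟨14932, 5, 14⟩) (.one ⟨2075, 5, 14⟩))) (.node 2 (.node 1 (.one ⟨12470, 3, 13⟩) (.one ⟨3674, 4, 13⟩)) (.node 1 (.one ⟨3618, 0, 15⟩) (.one ⟨10271, 6, 16⟩)))) (.node 4 (.node 2 (.node 1 (.one ⟨14886, 5, 13⟩) (.one ⟨2048, 5, 10⟩)) (.node 1 (.one ⟨204, 3, 15⟩) (.one ⟨14928, 5, 15⟩))) (.node 2 (.node 1 (.one ⟨3436, 6, 16⟩) (.one ⟨10860, 5, 15⟩))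 (.node 1 (.one ⟨7146, 3, 13⟩) (.one ⟨10955, 3, 15⟩))))) (.node 8 (.node 4 (.node 2 (.node 1 (.one ⟨618, 4, 13⟩) (.one ⟨2980, 6, 16⟩)) (.node 1 (.one ⟨5761, 4, 14⟩) (.one ⟨2075, 2, 14⟩))) (.node 2 (.node 1 (.one ⟨14808, 3, 14⟩) (.one ⟨4292, 6, 16⟩)) (.node 1 (.one ⟨11836, 3, 15⟩) (.one ⟨499, 4, 14⟩)))) (.node 4 (.node 2 (.node 1 (.one ⟨5924, 4, 16⟩) (.one ⟨13108, 6, 16⟩)) (.node 1 (.one ⟨16000, 6, 14⟩) (.one ⟨6890, 5, 14⟩))) (.node 2 (.node 1 (.one ⟨6277, 6, 14⟩) (.one ⟨13771, 4, 14⟩)) (.node 1 (.one ⟨9770, 4, 15⟩) (.one ⟨11033, 6, 14⟩)))))))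
def par0_10_11 : Arr Par :=
  (.node 32 (.node 16 (.node 8 (.node 4 (.node 2 (.node 1 (.one ⟨6736, 5, 12⟩) (.one ⟨996, 4, 14⟩)) (.node 1 (.one ⟨13677, 2, 14⟩) (.one ⟨1038, 6, 14⟩))) (.node 2 (.node 1 (.one ⟨13800, 4, 14⟩) (.one ⟨16007, 6, 15⟩)) (.node 1 (.one ⟨11261, 2, 12⟩) (.one ⟨13919, 4, 13⟩)))) (.node 4 (.node 2 (.node 1 (.one ⟨5795, 4, 14⟩) (.one ⟨8430, 6, 13⟩)) (.node 1 (.one ⟨15833, 3, 14⟩) (.one ⟨13751, 4, 14⟩))) (.node 2 (.node 1 (.one ⟨2050, 2, 14⟩) (.one ⟨10716, 5, 16⟩)) (.node 1 (.one ⟨11021, 6, 15⟩) (.one ⟨4210, 0, 15⟩))))) (.node 8 (.node 4 (.node 2 (.node 1 (.one ⟨12435, 6, 15⟩) (.one ⟨14837, 3, 13⟩)) (.node 1 (.one ⟨16012, 6, 16⟩) (.one ⟨431, 4, 14⟩))) (.node 2 (.node 1 (.one ⟨5738, 4, 15⟩) (.one ⟨10984, 3, 16⟩))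 (.node 1 (.one ⟨2949, 6, 17⟩) (.one ⟨6891, 5, 13⟩)))) (.node 4 (.node 2 (.node 1 (.one ⟨13860, 4, 15⟩) (.one ⟨14290, 6, 13⟩)) (.node 1 (.one ⟨15414, 5, 15⟩) (.one ⟨5058, 6, 15⟩))) (.node 2 (.node 1 (.one ⟨812, 4, 13⟩) (.one ⟨16001, 6, 15⟩)) (.node 1 (.one ⟨5809, 4, 15⟩) (.one ⟨10950, 1, 13⟩)))))) (.node 16 (.node 8 (.node 4 (.node 2 (.node 1 (.one ⟨753, 6, 15⟩) (.one ⟨2649, 5, 15⟩)) (.node 1 (.one ⟨13824, 4, 13⟩) (.one ⟨10946, 1, 15⟩))) (.node 2 (.node 1 (.one ⟨6887, 5, 14⟩) (.one ⟨256, 4, 13⟩)) (.node 1 (.one ⟨6781, 5, 13⟩) (.one ⟨10956, 1, 15⟩)))) (.node 4 (.node 2 (.node 1 (.one ⟨13846, 4, 15⟩) (.one ⟨2612, 5, 17⟩)) (.node 1 (.one ⟨11054, 6, 16⟩) (.one ⟨9722, 4, 14⟩))) (.node 2 (.node 1 (.one ⟨8396, 6, 14⟩) (.one ⟨13938, 4, 14⟩))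 (.node 1 (.one ⟨5708, 4, 13⟩) (.one ⟨6989, 4, 13⟩))))) (.node 8 (.node 4 (.node 2 (.node 1 (.one ⟨3029, 2, 14⟩) (.one ⟨2867, 5, 14⟩)) (.node 1 (.one ⟨10712, 5, 13⟩) (.one ⟨12764, 5, 15⟩))) (.node 2 (.node 1 (.one ⟨4085, 5, 13⟩) (.one ⟨697, 4, 13⟩)) (.node 1 (.one ⟨11395, 5, 8⟩) (.one ⟨11033, 1, 14⟩)))) (.node 4 (.node 2 (.node 1 (.one ⟨11032, 1, 11⟩) (.one ⟨10531, 3, 13⟩)) (.node 1 (.one ⟨3470, 6, 15⟩) (.one ⟨11038, 1, 14⟩))) (.node 2 (.node 1 (.one ⟨7010, 4, 14⟩) (.one ⟨11877, 6, 14⟩)) (.node 1 (.one ⟨2879, 5, 15⟩) (.one ⟨4741, 4, 15⟩)))))))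
def par0_10_12 : Arr Par :=
  (.node 32 (.node 16 (.node 8 (.node 4 (.node 2 (.node 1 (.one ⟨4096, 5, 11⟩) (.one ⟨11043, 1, 16⟩)) (.node 1 (.one ⟨3755, 5, 14⟩) (.one ⟨16713, 2, 15⟩))) (.node 2 (.node 1 (.one ⟨2624, 5, 13⟩) (.one ⟨11377, 5, 14⟩)) (.node 1 (.one ⟨10301, 3, 12⟩) (.one ⟨13807, 3, 15⟩)))) (.node 4 (.node 2 (.node 1 (.one ⟨6632, 3, 17⟩) (.one ⟨2353, 3, 13⟩)) (.node 1 (.one ⟨12760, 5, 17⟩) (.one ⟨3492, 6, 10⟩))) (.node 2 (.node 1 (.one ⟨5597, 3, 11⟩) (.one ⟨5514, 5, 14⟩)) (.node 1 (.one ⟨10292, 3, 14⟩) (.one ⟨3318, 5, 9⟩))))) (.node 8 (.node 4 (.node 2 (.node 1 (.one ⟨6972, 4, 14⟩) (.one ⟨500, 4, 14⟩)) (.node 1 (.one ⟨10992, 1, 15⟩) (.one ⟨2902, 5, 15⟩))) (.node 2 (.node 1 (.one ⟨12165, 5, 14⟩) (.one ⟨2608, 5, 14⟩)) (.node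 1 (.one ⟨12761, 5, 16⟩) (.one ⟨2916, 5, 14⟩)))) (.node 4 (.node 2 (.node 1 (.one ⟨1806, 2, 10⟩) (.one ⟨8745, 2, 13⟩)) (.node 1 (.one ⟨11894, 6, 15⟩) (.one ⟨6992, 4, 13⟩))) (.node 2 (.node 1 (.one ⟨11560, 6, 14⟩) (.one ⟨2452, 3, 12⟩)) (.node 1 (.one ⟨4408, 2, 13⟩) (.one ⟨3723, 5, 13⟩)))))) (.node 16 (.node 8 (.node 4 (.node 2 (.node 1 (.one ⟨12146, 5, 10⟩) (.one ⟨2243, 3, 11⟩)) (.node 1 (.one ⟨10728, 5, 14⟩) (.one ⟨13141, 2, 15⟩))) (.node 2 (.node 1 (.one ⟨4738, 4, 14⟩) (.one ⟨3334, 5, 13⟩)) (.node 1 (.one ⟨10943, 5, 15⟩) (.one ⟨13783, 3, 14⟩)))) (.node 4 (.node 2 (.node 1 (.one ⟨2253, 3, 13⟩) (.one ⟨12765, 5, 16⟩)) (.node 1 (.one ⟨11520, 6, 11⟩) (.one ⟨10432, 3, 12⟩))) (.node 2 (.node 1 (.one ⟨5563, 3, 12⟩) (.one ⟨16111, 4, 16⟩))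 (.node 1 (.one ⟨13603, 5, 15⟩) (.one ⟨6559, 3, 13⟩))))) (.node 8 (.node 4 (.node 2 (.node 1 (.one ⟨4992, 3, 14⟩) (.one ⟨110, 4, 14⟩)) (.node 1 (.one ⟨13105, 3, 10⟩) (.one ⟨16464, 3, 15⟩))) (.node 2 (.node 1 (.one ⟨7011, 4, 15⟩) (.one ⟨5587, 5, 14⟩)) (.node 1 (.one ⟨1982, 4, 12⟩) (.one ⟨16441, 3, 15⟩)))) (.node 4 (.node 2 (.node 1 (.one ⟨11154, 1, 11⟩) (.one ⟨11152, 1, 13⟩)) (.node 1 (.one ⟨3711, 5, 14⟩) (.one ⟨11151, 1, 12⟩))) (.node 2 (.node 1 (.one ⟨7114, 5, 14⟩) (.one ⟨286, 5, 15⟩)) (.node 1 (.one ⟨11153, 1, 14⟩) (.one ⟨15495, 2, 13⟩)))))))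
def par0_10_13 : Arr Par :=
  (.node 32 (.node 16 (.node 8 (.node 4 (.node 2 (.node 1 (.one ⟨202, 4, 15⟩) (.one ⟨6097, 4, 14⟩)) (.node 1 (.one ⟨7097, 5, 12⟩) (.one ⟨16430, 5, 14⟩))) (.node 2 (.node 1 (.one ⟨15763, 3, 18⟩) (.one ⟨13100, 5, 11⟩)) (.node 1 (.one ⟨3232, 3, 14⟩) (.one ⟨5026, 5, 16⟩)))) (.node 4 (.node 2 (.node 1 (.one ⟨11171, 1, 12⟩) (.one ⟨5181, 0, 15⟩)) (.node 1 (.one ⟨6851, 4, 15⟩) (.one ⟨4579, 6, 16⟩))) (.node 2 (.node 1 (.one ⟨7517, 3, 15⟩) (.one ⟨409, 5, 15⟩)) (.node 1 (.one ⟨11296, 3, 14⟩) (.one ⟨2929, 2, 9⟩))))) (.node 8 (.node 4 (.node 2 (.node 1 (.one ⟨10332, 3, 13⟩) (.one ⟨13390, 6, 13⟩)) (.node 1 (.one ⟨14560, 2, 16⟩) (.one ⟨13956, 2, 13⟩))) (.node 2 (.node 1 (.one ⟨5581, 3, 16⟩) (.one ⟨4600, 6, 16⟩)) (.node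 1 (.one ⟨9646, 6, 17⟩) (.one ⟨5311, 6, 12⟩)))) (.node 4 (.node 2 (.node 1 (.one ⟨11778, 5, 13⟩) (.one ⟨11227, 5, 15⟩)) (.node 1 (.one ⟨5568, 3, 13⟩) (.one ⟨6604, 2, 14⟩))) (.node 2 (.node 1 (.one ⟨6896, 4, 15⟩) (.one ⟨5066, 3, 14⟩)) (.node 1 (.one ⟨9639, 6, 14⟩) (.one ⟨12651, 6, 14⟩)))))) (.node 16 (.node 8 (.node 4 (.node 2 (.node 1 (.one ⟨6300, 6, 15⟩) (.one ⟨449, 4, 14⟩)) (.node 1 (.one ⟨9580, 6, 15⟩) (.one ⟨2329, 2, 16⟩))) (.node 2 (.node 1 (.one ⟨15179, 5, 17⟩) (.one ⟨16898, 6, 17⟩)) (.node 1 (.one ⟨419, 6, 15⟩) (.one ⟨13363, 5, 15⟩)))) (.node 4 (.node 2 (.node 1 (.one ⟨11139, 1, 12⟩) (.one ⟨16348, 3, 16⟩)) (.node 1 (.one ⟨8351, 5, 16⟩) (.one ⟨14693, 5, 15⟩))) (.node 2 (.node 1 (.one ⟨15280, 2, 15⟩) (.one ⟨15281, 2, 15⟩)) (.node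 1 (.one ⟨761, 4, 16⟩) (.one ⟨5602, 3, 14⟩))))) (.node 8 (.node 4 (.node 2 (.node 1 (.one ⟨2288, 2, 15⟩) (.one ⟨3167, 5, 14⟩)) (.node 1 (.one ⟨14518, 2, 15⟩) (.one ⟨9644, 6, 15⟩))) (.node 2 (.node 1 (.one ⟨10674, 2, 12⟩) (.one ⟨13114, 3, 15⟩)) (.node 1 (.one ⟨11807, 5, 14⟩) (.one ⟨11087, 1, 10⟩)))) (.node 4 (.node 2 (.node 1 (.one ⟨4619, 6, 16⟩) (.one ⟨14636, 3, 12⟩)) (.node 1 (.one ⟨5402, 6, 12⟩) (.one ⟨2533, 6, 15⟩))) (.node 2 (.node 1 (.one ⟨6900, 4, 16⟩) (.one ⟨2277, 3, 12⟩)) (.node 1 (.one ⟨5818, 2, 17⟩) (.one ⟨314, 4, 16⟩)))))))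
def par0_10_14 : Arr Par :=
  (.node 32 (.node 16 (.node 8 (.node 4 (.node 2 (.node 1 (.one ⟨4642, 6, 16⟩) (.one ⟨830, 2, 15⟩)) (.node 1 (.one ⟨5410, 5, 14⟩) (.one ⟨89, 2, 11⟩))) (.node 2 (.node 1 (.one ⟨7715, 3, 16⟩) (.one ⟨8297, 3, 15⟩)) (.node 1 (.one ⟨738, 2, 14⟩) (.one ⟨4593, 6, 16⟩)))) (.node 4 (.node 2 (.node 1 (.one ⟨9579, 6, 16⟩) (.one ⟨8799, 6, 16⟩)) (.node 1 (.one ⟨14283, 6, 14⟩) (.one ⟨12631, 6, 15⟩))) (.node 2 (.node 1 (.one ⟨6599, 5, 15⟩) (.one ⟨896, 4, 15⟩)) (.node 1 (.one ⟨16036, 0, 16⟩) (.one ⟨964, 2, 11⟩))))) (.node 8 (.node 4 (.node 2 (.node 1 (.one ⟨574, 2, 12⟩) (.one ⟨1002, 2, 13⟩)) (.node 1 (.one ⟨383, 2, 10⟩) (.one ⟨10642, 6, 14⟩))) (.node 2 (.node 1 (.one ⟨17141, 5, 14⟩) (.one ⟨15262, 5, 13⟩)) (.node 1 (.one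 ⟨3743, 5, 13⟩) (.one ⟨5558, 5, 15⟩)))) (.node 4 (.node 2 (.node 1 (.one ⟨636, 4, 15⟩) (.one ⟨5057, 3, 11⟩)) (.node 1 (.one ⟨2065, 4, 13⟩) (.one ⟨9077, 5, 16⟩))) (.node 2 (.node 1 (.one ⟨14609, 3, 14⟩) (.one ⟨16038, 5, 14⟩)) (.node 1 (.one ⟨6997, 4, 16⟩) (.one ⟨179, 5, 16⟩)))))) (.node 16 (.node 8 (.node 4 (.node 2 (.node 1 (.one ⟨9572, 6, 16⟩) (.one ⟨6853, 4, 14⟩)) (.node 1 (.one ⟨15584, 3, 14⟩) (.one ⟨1841, 2, 11⟩))) (.node 2 (.node 1 (.one ⟨3221, 3, 15⟩) (.one ⟨4566, 6, 16⟩)) (.node 1 (.one ⟨8272, 3, 15⟩) (.one ⟨11071, 1, 14⟩)))) (.node 4 (.node 2 (.node 1 (.one ⟨13790, 2, 15⟩) (.one ⟨15730, 3, 17⟩)) (.node 1 (.one ⟨11285, 3, 15⟩) (.one ⟨15277, 5, 13⟩))) (.node 2 (.node 1 (.one ⟨473, 5, 16⟩) (.one ⟨13068, 5, 10⟩)) (.node 1 (.one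 ⟨8336, 5, 13⟩) (.one ⟨10445, 4, 15⟩))))) (.node 8 (.node 4 (.node 2 (.node 1 (.one ⟨15493, 4, 16⟩) (.one ⟨14865, 3, 13⟩)) (.node 1 (.one ⟨15604, 3, 17⟩) (.one ⟨12689, 5, 13⟩))) (.node 2 (.node 1 (.one ⟨5746, 3, 14⟩) (.one ⟨11919, 5, 12⟩)) (.node 1 (.one ⟨10997, 5, 14⟩) (.one ⟨14727, 5, 15⟩)))) (.node 4 (.node 2 (.node 1 (.one ⟨13745, 3, 15⟩) (.one ⟨6269, 2, 11⟩)) (.node 1 (.one ⟨16001, 2, 15⟩) (.one ⟨17106, 6, 16⟩))) (.node 2 (.node 1 (.one ⟨464, 6, 14⟩) (.one ⟨6865, 6, 16⟩)) (.node 1 (.one ⟨4852, 2, 10⟩) (.one ⟨1911, 3, 12⟩)))))))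
def par0_10_15 : Arr Par :=
  (.node 32 (.node 16 (.node 8 (.node 4 (.node 2 (.node 1 (.one ⟨2440, 4, 16⟩) (.one ⟨15571, 4, 15⟩)) (.node 1 (.one ⟨12010, 6, 10⟩) (.one ⟨11827, 5, 12⟩))) (.node 2 (.node 1 (.one ⟨6876, 6, 13⟩) (.one ⟨14253, 5, 14⟩)) (.node 1 (.one ⟨2579, 6, 14⟩) (.one ⟨3247, 3, 15⟩)))) (.node 4 (.node 2 (.node 1 (.one ⟨6657, 5, 15⟩) (.one ⟨17080, 6, 15⟩)) (.node 1 (.one ⟨14815, 3, 14⟩) (.one ⟨5679, 3, 8⟩))) (.node 2 (.node 1 (.one ⟨11975, 6, 7⟩) (.one ⟨3696, 6, 10⟩)) (.node 1 (.one ⟨3763, 5, 7⟩) (.one ⟨5776, 3, 12⟩))))) (.node 8 (.node 4 (.node 2 (.node 1 (.one ⟨11048, 5, 14⟩) (.one ⟨17093, 6, 16⟩)) (.node 1 (.one ⟨15474, 4, 16⟩) (.one ⟨3845, 5, 9⟩))) (.node 2 (.node 1 (.one ⟨4627, 5, 11⟩) (.one ⟨8459, 6, 14⟩)) (.node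 1 (.one ⟨2557, 4, 14⟩) (.one ⟨6708, 3, 14⟩)))) (.node 4 (.node 2 (.node 1 (.one ⟨13780, 3, 13⟩) (.one ⟨11910, 5, 11⟩)) (.node 1 (.one ⟨6869, 6, 16⟩) (.one ⟨11989, 6, 14⟩))) (.node 2 (.node 1 (.one ⟨7547, 3, 17⟩) (.one ⟨10520, 4, 17⟩)) (.node 1 (.one ⟨11041, 5, 12⟩) (.one ⟨11767, 2, 14⟩)))))) (.node 16 (.node 8 (.node 4 (.node 2 (.node 1 (.one ⟨8470, 2, 13⟩) (.one ⟨1957, 3, 13⟩)) (.node 1 (.one ⟨6677, 5, 15⟩) (.one ⟨16660, 5, 16⟩))) (.node 2 (.node 1 (.one ⟨3160, 1, 11⟩) (.one ⟨3161, 1, 14⟩)) (.node 1 (.one ⟨3813, 5, 10⟩) (.one ⟨11874, 5, 13⟩)))) (.node 4 (.node 2 (.node 1 (.one ⟨11959, 6, 13⟩) (.one ⟨11038, 3, 14⟩)) (.node 1 (.one ⟨3153, 1, 14⟩) (.one ⟨1964, 3, 13⟩))) (.node 2 (.node 1 (.one ⟨2517, 6, 16⟩) (.one ⟨7435, 4, 12⟩))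 (.node 1 (.one ⟨15544, 4, 15⟩) (.one ⟨7411, 4, 16⟩))))) (.node 8 (.node 4 (.node 2 (.node 1 (.one ⟨7191, 4, 16⟩) (.one ⟨16206, 5, 15⟩)) (.node 1 (.one ⟨16448, 5, 13⟩) (.one ⟨6281, 4, 15⟩))) (.node 2 (.node 1 (.one ⟨13878, 5, 14⟩) (.one ⟨14849, 6, 15⟩)) (.node 1 (.one ⟨12529, 6, 13⟩) (.one ⟨6759, 6, 12⟩)))) (.node 4 (.node 2 (.node 1 (.one ⟨6249, 4, 15⟩) (.one ⟨6424, 5, 14⟩)) (.node 1 (.one ⟨13906, 5, 14⟩) (.one ⟨8409, 5, 14⟩))) (.node 2 (.node 1 (.one ⟨15217, 0, 10⟩) (.one ⟨6785, 3, 11⟩)) (.node 1 (.one ⟨7238, 2, 17⟩) (.one ⟨14874, 6, 16⟩)))))))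
def par0_10 : Arr Par :=
  (.node 512 (.node 256 (.node 128 (.node 64 par0_10_0 par0_10_1) (.node 64 par0_10_2 par0_10_3)) (.node 128 (.node 64 par0_10_4 par0_10_5) (.node 64 par0_10_6 par0_10_7))) (.node 256 (.node 128 (.node 64 par0_10_8 par0_10_9) (.node 64 par0_10_10 par0_10_11)) (.node 128 (.node 64 par0_10_12 par0_10_13) (.node 64 par0_10_14 par0_10_15))))
def par0_11_0 : Arr Par :=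
  (.node 32 (.node 16 (.node 8 (.node 4 (.node 2 (.node 1 (.one ⟨16791, 6, 14⟩) (.one ⟨3968, 3, 14⟩)) (.node 1 (.one ⟨5872, 5, 15⟩) (.one ⟨4499, 6, 12⟩))) (.node 2 (.node 1 (.one ⟨3237, 3, 17⟩) (.one ⟨16197, 5, 14⟩)) (.node 1 (.one ⟨14343, 4, 14⟩) (.one ⟨15496, 4, 7⟩)))) (.node 4 (.node 2 (.node 1 (.one ⟨3990, 3, 11⟩) (.one ⟨12554, 6, 9⟩)) (.node 1 (.one ⟨14318, 4, 10⟩) (.one ⟨10428, 4, 16⟩))) (.node 2 (.node 1 (.one ⟨5909, 5, 13⟩) (.one ⟨3243, 3, 16⟩)) (.node 1 (.one ⟨14630, 2, 15⟩) (.one ⟨13968, 5, 15⟩))))) (.node 8 (.node 4 (.node 2 (.node 1 (.one ⟨14366, 4, 14⟩) (.one ⟨8123, 5, 16⟩)) (.node 1 (.one ⟨3977, 3, 15⟩) (.one ⟨15080, 2, 16⟩))) (.node 2 (.node 1 (.one ⟨3237, 1, 17⟩) (.one ⟨3232, 1, 14⟩)) (.node 1 (.one ⟨6755, 6, 17⟩)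 (.one ⟨3991, 3, 13⟩)))) (.node 4 (.node 2 (.node 1 (.one ⟨8714, 6, 16⟩) (.one ⟨16874, 5, 16⟩)) (.node 1 (.one ⟨16185, 5, 16⟩) (.one ⟨9217, 0, 15⟩))) (.node 2 (.node 1 (.one ⟨13941, 5, 14⟩) (.one ⟨14263, 4, 13⟩)) (.node 1 (.one ⟨12589, 6, 14⟩) (.one ⟨5843, 5, 14⟩)))))) (.node 16 (.node 8 (.node 4 (.node 2 (.node 1 (.one ⟨10406, 4, 13⟩) (.one ⟨14825, 3, 16⟩)) (.node 1 (.one ⟨15517, 4, 14⟩) (.one ⟨10066, 0, 15⟩))) (.node 2 (.node 1 (.one ⟨3218, 1, 15⟩) (.one ⟨6703, 0, 16⟩)) (.node 1 (.one ⟨12041, 3, 12⟩) (.one ⟨4492, 6, 14⟩)))) (.node 4 (.node 2 (.node 1 (.one ⟨14470, 2, 14⟩) (.one ⟨5814, 5, 15⟩)) (.node 1 (.one ⟨12058, 3, 15⟩) (.one ⟨6206, 4, 14⟩))) (.node 2 (.node 1 (.one ⟨6464, 2, 14⟩) (.one ⟨12138, 2, 17⟩)) (.node 1 (.one ⟨3225,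 1, 15⟩) (.one ⟨2690, 5, 14⟩))))) (.node 8 (.node 4 (.node 2 (.node 1 (.one ⟨3562, 5, 14⟩) (.one ⟨15093, 5, 9⟩)) (.node 1 (.one ⟨2803, 2, 14⟩) (.one ⟨12250, 5, 14⟩))) (.node 2 (.node 1 (.one ⟨9762, 5, 13⟩) (.one ⟨12403, 2, 13⟩)) (.node 1 (.one ⟨7302, 5, 14⟩) (.one ⟨8795, 2, 13⟩)))) (.node 4 (.node 2 (.node 1 (.one ⟨13926, 3, 12⟩) (.one ⟨4563, 2, 14⟩)) (.node 1 (.one ⟨9891, 2, 14⟩) (.one ⟨12242, 5, 10⟩))) (.node 2 (.node 1 (.one ⟨5284, 3, 17⟩) (.one ⟨16672, 5, 15⟩)) (.node 1 (.one ⟨14205, 5, 16⟩) (.one ⟨15167, 4, 14⟩)))))))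
def par0_11_1 : Arr Par :=
  (.node 32 (.node 16 (.node 8 (.node 4 (.node 2 (.node 1 (.one ⟨3533, 5, 16⟩) (.one ⟨5073, 4, 14⟩)) (.node 1 (.one ⟨5130, 4, 13⟩) (.one ⟨15121, 5, 14⟩))) (.node 2 (.node 1 (.one ⟨15395, 5, 15⟩) (.one ⟨16577, 6, 15⟩)) (.node 1 (.one ⟨7679, 6, 16⟩) (.one ⟨7223, 5, 15⟩)))) (.node 4 (.node 2 (.node 1 (.one ⟨3185, 4, 14⟩) (.one ⟨11519, 5, 16⟩)) (.node 1 (.one ⟨4145, 5, 15⟩) (.one ⟨13955, 3, 14⟩))) (.node 2 (.node 1 (.one ⟨1705, 5, 15⟩) (.one ⟨7528, 4, 17⟩)) (.node 1 (.one ⟨10879, 0, 16⟩) (.one ⟨17163, 2, 15⟩))))) (.node 8 (.node 4 (.node 2 (.node 1 (.one ⟨7674, 6, 15⟩) (.one ⟨5931, 3, 16⟩)) (.node 1 (.one ⟨5488, 2, 15⟩) (.one ⟨3298, 1, 15⟩))) (.node 2 (.node 1 (.one ⟨15382, 5, 15⟩) (.one ⟨5163, 4, 13⟩)) (.node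 1 (.one ⟨3300, 1, 10⟩) (.one ⟨3244, 4, 15⟩)))) (.node 4 (.node 2 (.node 1 (.one ⟨4688, 6, 13⟩) (.one ⟨7639, 6, 15⟩)) (.node 1 (.one ⟨6459, 3, 16⟩) (.one ⟨4166, 5, 13⟩))) (.node 2 (.node 1 (.one ⟨11539, 5, 15⟩) (.one ⟨16970, 2, 17⟩)) (.node 1 (.one ⟨2526, 4, 14⟩) (.one ⟨12264, 5, 5⟩)))))) (.node 16 (.node 8 (.node 4 (.node 2 (.node 1 (.one ⟨15327, 4, 15⟩) (.one ⟨1586, 5, 11⟩)) (.node 1 (.one ⟨7695, 6, 16⟩) (.one ⟨7025, 5, 8⟩))) (.node 2 (.node 1 (.one ⟨7281, 5, 13⟩) (.one ⟨6612, 6, 12⟩)) (.node 1 (.one ⟨5956, 6, 13⟩) (.one ⟨11272, 4, 12⟩)))) (.node 4 (.node 2 (.node 1 (.one ⟨16391, 3, 5⟩) (.one ⟨3293, 1, 15⟩)) (.node 1 (.one ⟨11385, 0, 14⟩) (.one ⟨6483, 3, 13⟩))) (.node 2 (.node 1 (.one ⟨5236, 3, 13⟩) (.one ⟨5825, 3, 10⟩)) (.node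 1 (.one ⟨12255, 5, 10⟩) (.one ⟨14952, 0, 15⟩))))) (.node 8 (.node 4 (.node 2 (.node 1 (.one ⟨15344, 5, 15⟩) (.one ⟨15105, 5, 13⟩)) (.node 1 (.one ⟨8540, 5, 16⟩) (.one ⟨5292, 3, 16⟩))) (.node 2 (.node 1 (.one ⟨1848, 2, 13⟩) (.one ⟨11709, 6, 12⟩)) (.node 1 (.one ⟨9730, 5, 14⟩) (.one ⟨4095, 0, 14⟩)))) (.node 4 (.node 2 (.node 1 (.one ⟨5877, 3, 13⟩) (.one ⟨3341, 1, 13⟩)) (.node 1 (.one ⟨16409, 3, 14⟩) (.one ⟨4193, 5, 11⟩))) (.node 2 (.node 1 (.one ⟨6318, 4, 17⟩) (.one ⟨3222, 4, 14⟩)) (.node 1 (.one ⟨3483, 5, 17⟩) (.one ⟨11406, 3, 15⟩)))))))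
def par0_11_2 : Arr Par :=
  (.node 32 (.node 16 (.node 8 (.node 4 (.node 2 (.node 1 (.one ⟨12231, 5, 11⟩) (.one ⟨3513, 5, 16⟩)) (.node 1 (.one ⟨16602, 5, 15⟩) (.one ⟨15139, 5, 7⟩))) (.node 2 (.node 1 (.one ⟨13169, 3, 14⟩) (.one ⟨10782, 5, 15⟩)) (.node 1 (.one ⟨7317, 5, 15⟩) (.one ⟨16338, 4, 13⟩)))) (.node 4 (.node 2 (.node 1 (.one ⟨12228, 5, 15⟩) (.one ⟨7520, 4, 16⟩)) (.node 1 (.one ⟨15871, 3, 16⟩) (.one ⟨5840, 3, 14⟩))) (.node 2 (.node 1 (.one ⟨1673, 5, 16⟩) (.one ⟨10999, 3, 15⟩)) (.node 1 (.one ⟨11250, 4, 14⟩) (.one ⟨4662, 6, 16⟩))))) (.node 8 (.node 4 (.node 2 (.node 1 (.one ⟨14606, 4, 14⟩) (.one ⟨14052, 6, 17⟩)) (.node 1 (.one ⟨7072, 5, 13⟩) (.one ⟨13129, 4, 16⟩))) (.node 2 (.node 1 (.one ⟨7610, 3, 14⟩) (.one ⟨3692, 6, 14⟩))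 (.node 1 (.one ⟨16613, 6, 15⟩) (.one ⟨8360, 3, 13⟩)))) (.node 4 (.node 2 (.node 1 (.one ⟨4000, 4, 14⟩) (.one ⟨11306, 4, 16⟩)) (.node 1 (.one ⟨3476, 5, 15⟩) (.one ⟨6188, 5, 16⟩))) (.node 2 (.node 1 (.one ⟨7655, 6, 12⟩) (.one ⟨11043, 3, 16⟩)) (.node 1 (.one ⟨12213, 5, 11⟩) (.one ⟨5100, 4, 13⟩)))))) (.node 16 (.node 8 (.node 4 (.node 2 (.node 1 (.one ⟨16649, 5, 15⟩) (.one ⟨4185, 5, 13⟩)) (.node 1 (.one ⟨11613, 5, 15⟩) (.one ⟨3347, 1, 15⟩))) (.node 2 (.node 1 (.one ⟨1618, 5, 14⟩) (.one ⟨213, 6, 14⟩)) (.node 1 (.one ⟨3349, 1, 11⟩) (.one ⟨1626, 5, 15⟩)))) (.node 4 (.node 2 (.node 1 (.one ⟨8302, 4, 16⟩) (.one ⟨14330, 4, 16⟩)) (.node 1 (.one ⟨13996, 0, 13⟩) (.one ⟨13969, 3, 14⟩))) (.node 2 (.node 1 (.one ⟨4179, 5, 14⟩) (.one ⟨3209, 4, 14⟩))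 (.node 1 (.one ⟨16672, 6, 15⟩) (.one ⟨11444, 2, 16⟩))))) (.node 8 (.node 4 (.node 2 (.node 1 (.one ⟨12529, 4, 13⟩) (.one ⟨13982, 5, 13⟩)) (.node 1 (.one ⟨11445, 2, 15⟩) (.one ⟨15278, 4, 14⟩))) (.node 2 (.node 1 (.one ⟨945, 3, 15⟩) (.one ⟨14148, 3, 14⟩)) (.node 1 (.one ⟨3566, 5, 12⟩) (.one ⟨4422, 4, 14⟩)))) (.node 4 (.node 2 (.node 1 (.one ⟨10618, 6, 15⟩) (.one ⟨11573, 5, 15⟩)) (.node 1 (.one ⟨6923, 6, 14⟩) (.one ⟨7215, 5, 15⟩))) (.node 2 (.node 1 (.one ⟨6746, 2, 12⟩) (.one ⟨3276, 2, 14⟩)) (.node 1 (.one ⟨12048, 6, 14⟩) (.one ⟨4499, 4, 12⟩)))))))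
def par0_11_3 : Arr Par :=
  (.node 32 (.node 16 (.node 8 (.node 4 (.node 2 (.node 1 (.one ⟨5085, 5, 17⟩) (.one ⟨11609, 5, 13⟩)) (.node 1 (.one ⟨1794, 5, 17⟩) (.one ⟨12848, 2, 15⟩))) (.node 2 (.node 1 (.one ⟨8760, 5, 14⟩) (.one ⟨10638, 6, 16⟩)) (.node 1 (.one ⟨12499, 4, 14⟩) (.one ⟨12480, 4, 11⟩)))) (.node 4 (.node 2 (.node 1 (.one ⟨15877, 5, 15⟩) (.one ⟨12554, 4, 9⟩)) (.node 1 (.one ⟨7156, 3, 15⟩) (.one ⟨7860, 3, 7⟩))) (.node 2 (.node 1 (.one ⟨3666, 6, 13⟩) (.one ⟨3586, 3, 11⟩)) (.node 1 (.one ⟨6920, 6, 15⟩) (.one ⟨16452, 6, 15⟩))))) (.node 8 (.node 4 (.node 2 (.node 1 (.one ⟨6912, 6, 16⟩) (.one ⟨12257, 2, 13⟩)) (.node 1 (.one ⟨15498, 4, 15⟩) (.one ⟨10057, 2, 15⟩))) (.node 2 (.node 1 (.one ⟨12487, 4, 15⟩) (.one ⟨11746, 6, 14⟩))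 (.node 1 (.one ⟨3503, 5, 14⟩) (.one ⟨8877, 5, 16⟩)))) (.node 4 (.node 2 (.node 1 (.one ⟨1778, 5, 15⟩) (.one ⟨17170, 6, 16⟩)) (.node 1 (.one ⟨12510, 4, 15⟩) (.one ⟨11882, 0, 16⟩))) (.node 2 (.node 1 (.one ⟨12024, 6, 13⟩) (.one ⟨11623, 5, 15⟩)) (.node 1 (.one ⟨4353, 4, 16⟩) (.one ⟨16828, 5, 15⟩)))))) (.node 16 (.node 8 (.node 4 (.node 2 (.node 1 (.one ⟨8975, 3, 15⟩) (.one ⟨4469, 4, 14⟩)) (.node 1 (.one ⟨11672, 3, 13⟩) (.one ⟨6915, 6, 14⟩))) (.node 2 (.node 1 (.one ⟨7350, 4, 15⟩) (.one ⟨2570, 6, 13⟩)) (.node 1 (.one ⟨4292, 4, 16⟩) (.one ⟨7869, 3, 15⟩)))) (.node 4 (.node 2 (.node 1 (.one ⟨12589, 4, 14⟩) (.one ⟨3543, 5, 15⟩)) (.node 1 (.one ⟨8990, 3, 15⟩) (.one ⟨3419, 3, 17⟩))) (.node 2 (.node 1 (.one ⟨6925, 6, 13⟩) (.one ⟨15247, 3,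 15⟩)) (.node 1 (.one ⟨11703, 6, 15⟩) (.one ⟨14630, 4, 15⟩))))) (.node 8 (.node 4 (.node 2 (.node 1 (.one ⟨12513, 6, 13⟩) (.one ⟨9105, 4, 11⟩)) (.node 1 (.one ⟨16648, 3, 15⟩) (.one ⟨11561, 4, 14⟩))) (.node 2 (.node 1 (.one ⟨2775, 3, 12⟩) (.one ⟨6020, 3, 16⟩)) (.node 1 (.one ⟨13213, 4, 16⟩) (.one ⟨5004, 2, 16⟩)))) (.node 4 (.node 2 (.node 1 (.one ⟨6529, 4, 17⟩) (.one ⟨3479, 1, 15⟩)) (.node 1 (.one ⟨11299, 5, 16⟩) (.one ⟨2740, 3, 12⟩))) (.node 2 (.node 1 (.one ⟨12484, 6, 9⟩) (.one ⟨11363, 6, 9⟩)) (.node 1 (.one ⟨13192, 4, 12⟩) (.one ⟨2682, 5, 15⟩)))))))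
def par0_11_4 : Arr Par :=
  (.node 32 (.node 16 (.node 8 (.node 4 (.node 2 (.node 1 (.one ⟨3492, 1, 10⟩) (.one ⟨16725, 6, 14⟩)) (.node 1 (.one ⟨2449, 6, 15⟩) (.one ⟨12489, 6, 12⟩))) (.node 2 (.node 1 (.one ⟨4548, 5, 14⟩) (.one ⟨11884, 5, 12⟩)) (.node 1 (.one ⟨13179, 4, 14⟩) (.one ⟨11395, 6, 8⟩)))) (.node 4 (.node 2 (.node 1 (.one ⟨12521, 6, 11⟩) (.one ⟨3442, 4, 15⟩)) (.node 1 (.one ⟨12559, 4, 16⟩) (.one ⟨3016, 2, 15⟩))) (.node 2 (.node 1 (.one ⟨2726, 5, 14⟩) (.one ⟨8675, 6, 13⟩)) (.node 1 (.one ⟨5771, 6, 14⟩) (.one ⟨16908, 2, 13⟩))))) (.node 8 (.node 4 (.node 2 (.node 1 (.one ⟨16731, 6, 15⟩) (.one ⟨12677, 5, 14⟩)) (.node 1 (.one ⟨3443, 1, 10⟩) (.one ⟨11683, 3, 14⟩))) (.node 2 (.node 1 (.one ⟨12506, 6, 13⟩) (.one ⟨10420, 6, 15⟩))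 (.node 1 (.one ⟨8619, 5, 16⟩) (.one ⟨11525, 4, 13⟩)))) (.node 4 (.node 2 (.node 1 (.one ⟨2765, 3, 11⟩) (.one ⟨17140, 4, 12⟩)) (.node 1 (.one ⟨1294, 2, 9⟩) (.one ⟨14633, 4, 17⟩))) (.node 2 (.node 1 (.one ⟨14318, 2, 10⟩) (.one ⟨12569, 4, 16⟩)) (.node 1 (.one ⟨11287, 2, 14⟩) (.one ⟨15507, 4, 12⟩)))))) (.node 16 (.node 8 (.node 4 (.node 2 (.node 1 (.one ⟨14603, 4, 15⟩) (.one ⟨3822, 5, 17⟩)) (.node 1 (.one ⟨10831, 3, 13⟩) (.one ⟨16599, 3, 15⟩))) (.node 2 (.node 1 (.one ⟨17153, 4, 13⟩) (.one ⟨5971, 3, 17⟩)) (.node 1 (.one ⟨4961, 2, 13⟩) (.one ⟨7422, 4, 14⟩)))) (.node 4 (.node 2 (.node 1 (.one ⟨3334, 6, 13⟩) (.one ⟨11849, 5, 13⟩)) (.node 1 (.one ⟨3208, 5, 12⟩) (.one ⟨4624, 5, 15⟩))) (.node 2 (.node 1 (.one ⟨3579, 3, 17⟩) (.one ⟨16636,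 5, 15⟩)) (.node 1 (.one ⟨6437, 5, 14⟩) (.one ⟨15982, 3, 15⟩))))) (.node 8 (.node 4 (.node 2 (.node 1 (.one ⟨896, 5, 15⟩) (.one ⟨1788, 3, 16⟩)) (.node 1 (.one ⟨8666, 6, 14⟩) (.one ⟨3578, 4, 14⟩))) (.node 2 (.node 1 (.one ⟨14346, 3, 15⟩) (.one ⟨13702, 4, 14⟩)) (.node 1 (.one ⟨4448, 3, 16⟩) (.one ⟨14182, 5, 17⟩)))) (.node 4 (.node 2 (.node 1 (.one ⟨14190, 4, 16⟩) (.one ⟨13751, 5, 14⟩)) (.node 1 (.one ⟨5258, 6, 12⟩) (.one ⟨13878, 6, 14⟩))) (.node 2 (.node 1 (.one ⟨16103, 3, 12⟩) (.one ⟨799, 5, 16⟩)) (.node 1 (.one ⟨8642, 6, 13⟩) (.one ⟨7790, 6, 17⟩)))))))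
def par0_11_5 : Arr Par :=
  (.node 32 (.node 16 (.node 8 (.node 4 (.node 2 (.node 1 (.one ⟨14160, 5, 16⟩) (.one ⟨13846, 5, 15⟩)) (.node 1 (.one ⟨13304, 6, 11⟩) (.one ⟨13990, 6, 15⟩))) (.node 2 (.node 1 (.one ⟨16080, 3, 13⟩) (.one ⟨8632, 6, 14⟩)) (.node 1 (.one ⟨202, 5, 15⟩) (.one ⟨449, 5, 14⟩)))) (.node 4 (.node 2 (.node 1 (.one ⟨15980, 3, 15⟩) (.one ⟨1794, 3, 17⟩)) (.node 1 (.one ⟨8671, 6, 13⟩) (.one ⟨3594, 4, 13⟩))) (.node 2 (.node 1 (.one ⟨6234, 3, 14⟩) (.one ⟨13819, 5, 16⟩)) (.node 1 (.one ⟨13727, 4, 15⟩) (.one ⟨13721, 4, 15⟩))))) (.node 8 (.node 4 (.node 2 (.node 1 (.one ⟨16735, 6, 16⟩) (.one ⟨12476, 3, 15⟩)) (.node 1 (.one ⟨10697, 6, 16⟩) (.one ⟨5843, 6, 14⟩))) (.node 2 (.node 1 (.one ⟨4207, 2, 15⟩) (.one ⟨14913, 5, 15⟩))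 (.node 1 (.one ⟨3878, 2, 14⟩) (.one ⟨11741, 4, 13⟩)))) (.node 4 (.node 2 (.node 1 (.one ⟨6298, 3, 15⟩) (.one ⟨16074, 3, 12⟩)) (.node 1 (.one ⟨11414, 6, 16⟩) (.one ⟨6431, 3, 14⟩))) (.node 2 (.node 1 (.one ⟨442, 3, 14⟩) (.one ⟨12508, 3, 14⟩)) (.node 1 (.one ⟨6074, 4, 12⟩) (.one ⟨11709, 4, 12⟩)))))) (.node 16 (.node 8 (.node 4 (.node 2 (.node 1 (.one ⟨14281, 3, 14⟩) (.one ⟨3362, 6, 15⟩)) (.node 1 (.one ⟨16051, 3, 11⟩) (.one ⟨14468, 3, 15⟩))) (.node 2 (.node 1 (.one ⟨509, 3, 15⟩) (.one ⟨6093, 4, 13⟩)) (.node 1 (.one ⟨4409, 3, 15⟩) (.one ⟨13687, 4, 14⟩)))) (.node 4 (.node 2 (.node 1 (.one ⟨16730, 6, 15⟩) (.one ⟨2657, 6, 15⟩)) (.node 1 (.one ⟨5755, 5, 15⟩) (.one ⟨13727, 2, 15⟩))) (.node 2 (.node 1 (.one ⟨5890, 6, 15⟩) (.one ⟨14914, 5,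 14⟩)) (.node 1 (.one ⟨11606, 1, 15⟩) (.one ⟨2397, 5, 11⟩))))) (.node 8 (.node 4 (.node 2 (.node 1 (.one ⟨4719, 5, 15⟩) (.one ⟨7787, 2, 17⟩)) (.node 1 (.one ⟨14158, 5, 14⟩) (.one ⟨14537, 6, 14⟩))) (.node 2 (.node 1 (.one ⟨5167, 5, 16⟩) (.one ⟨16760, 5, 11⟩)) (.node 1 (.one ⟨1989, 4, 11⟩) (.one ⟨13331, 5, 16⟩)))) (.node 4 (.node 2 (.node 1 (.one ⟨14551, 6, 15⟩) (.one ⟨8494, 6, 14⟩)) (.node 1 (.one ⟨7171, 6, 14⟩) (.one ⟨4723, 5, 12⟩))) (.node 2 (.node 1 (.one ⟨11612, 4, 15⟩) (.one ⟨3569, 0, 15⟩)) (.node 1 (.one ⟨2081, 4, 13⟩) (.one ⟨10474, 5, 12⟩)))))))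
def par0_11_6 : Arr Par :=
  (.node 32 (.node 16 (.node 8 (.node 4 (.node 2 (.node 1 (.one ⟨16775, 5, 12⟩) (.one ⟨14135, 5, 15⟩)) (.node 1 (.one ⟨3483, 3, 17⟩) (.one ⟨12846, 3, 16⟩))) (.node 2 (.node 1 (.one ⟨6453, 6, 15⟩) (.one ⟨4722, 5, 16⟩)) (.node 1 (.one ⟨2094, 4, 12⟩) (.one ⟨6502, 6, 14⟩)))) (.node 4 (.node 2 (.node 1 (.one ⟨8701, 5, 15⟩) (.one ⟨15190, 6, 13⟩)) (.node 1 (.one ⟨4726, 5, 11⟩) (.one ⟨8455, 6, 15⟩))) (.node 2 (.node 1 (.one ⟨2445, 5, 15⟩) (.one ⟨16709, 4, 17⟩)) (.node 1 (.one ⟨1997, 4, 14⟩) (.one ⟨12507, 3, 11⟩))))) (.node 8 (.node 4 (.node 2 (.node 1 (.one ⟨16789, 5, 14⟩) (.one ⟨8636, 4, 12⟩)) (.node 1 (.one ⟨4498, 3, 13⟩) (.one ⟨17136, 5, 15⟩))) (.node 2 (.node 1 (.one ⟨9677, 3, 16⟩) (.one ⟨11207, 2, 16⟩)) (.node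 1 (.one ⟨6912, 4, 16⟩) (.one ⟨14547, 6, 15⟩)))) (.node 4 (.node 2 (.node 1 (.one ⟨8735, 5, 12⟩) (.one ⟨1159, 0, 16⟩)) (.node 1 (.one ⟨3686, 4, 16⟩) (.one ⟨12833, 3, 13⟩))) (.node 2 (.node 1 (.one ⟨10461, 5, 15⟩) (.one ⟨975, 3, 15⟩)) (.node 1 (.one ⟨16718, 4, 16⟩) (.one ⟨6913, 4, 15⟩)))))) (.node 16 (.node 8 (.node 4 (.node 2 (.node 1 (.one ⟨4414, 3, 12⟩) (.one ⟨12540, 3, 14⟩)) (.node 1 (.one ⟨9097, 5, 14⟩) (.one ⟨8643, 4, 13⟩))) (.node 2 (.node 1 (.one ⟨9656, 3, 15⟩) (.one ⟨10051, 4, 16⟩)) (.node 1 (.one ⟨16803, 5, 15⟩) (.one ⟨4929, 2, 16⟩)))) (.node 4 (.node 2 (.node 1 (.one ⟨16693, 4, 15⟩) (.one ⟨12837, 3, 14⟩)) (.node 1 (.one ⟨14953, 2, 17⟩) (.one ⟨11991, 0, 17⟩))) (.node 2 (.node 1 (.one ⟨2407, 5, 14⟩) (.one ⟨6489, 5, 15⟩))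 (.node 1 (.one ⟨8719, 5, 11⟩) (.one ⟨10536, 5, 16⟩))))) (.node 8 (.node 4 (.node 2 (.node 1 (.one ⟨2748, 4, 12⟩) (.one ⟨4100, 3, 15⟩)) (.node 1 (.one ⟨13173, 3, 14⟩) (.one ⟨8719, 6, 11⟩))) (.node 2 (.node 1 (.one ⟨720, 4, 14⟩) (.one ⟨13288, 5, 13⟩)) (.node 1 (.one ⟨15509, 2, 15⟩) (.one ⟨557, 5, 14⟩)))) (.node 4 (.node 2 (.node 1 (.one ⟨16351, 0, 14⟩) (.one ⟨9669, 4, 17⟩)) (.node 1 (.one ⟨4721, 4, 17⟩) (.one ⟨3331, 6, 15⟩))) (.node 2 (.node 1 (.one ⟨12499, 6, 14⟩) (.one ⟨2441, 5, 11⟩)) (.node 1 (.one ⟨2771, 4, 15⟩) (.one ⟨1670, 4, 16⟩)))))))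
def par0_11_7 : Arr Par :=
  (.node 32 (.node 16 (.node 8 (.node 4 (.node 2 (.node 1 (.one ⟨4000, 3, 14⟩) (.one ⟨11666, 4, 14⟩)) (.node 1 (.one ⟨10519, 5, 16⟩) (.one ⟨16760, 6, 11⟩))) (.node 2 (.node 1 (.one ⟨15855, 6, 17⟩) (.one ⟨5003, 5, 14⟩)) (.node 1 (.one ⟨13275, 5, 14⟩) (.one ⟨5180, 5, 12⟩)))) (.node 4 (.node 2 (.node 1 (.one ⟨3311, 6, 13⟩) (.one ⟨8276, 0, 11⟩)) (.node 1 (.one ⟨7004, 6, 16⟩) (.one ⟨4988, 5, 15⟩))) (.node 2 (.node 1 (.one ⟨2688, 6, 15⟩) (.one ⟨16803, 6, 15⟩)) (.node 1 (.one ⟨427, 4, 15⟩) (.one ⟨5208, 5, 14⟩))))) (.node 8 (.node 4 (.node 2 (.node 1 (.one ⟨8735, 6, 12⟩) (.one ⟨2759, 4, 13⟩)) (.node 1 (.one ⟨5130, 3, 13⟩) (.one ⟨2459, 5, 15⟩))) (.node 2 (.node 1 (.one ⟨12144, 3, 16⟩) (.one ⟨11702, 1, 16⟩)) (.node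 1 (.one ⟨695, 4, 15⟩) (.one ⟨2789, 4, 14⟩)))) (.node 4 (.node 2 (.node 1 (.one ⟨871, 5, 15⟩) (.one ⟨12100, 3, 16⟩)) (.node 1 (.one ⟨4404, 6, 15⟩) (.one ⟨5123, 3, 17⟩))) (.node 2 (.node 1 (.one ⟨11380, 6, 14⟩) (.one ⟨10491, 5, 12⟩)) (.node 1 (.one ⟨6205, 0, 15⟩) (.one ⟨2642, 5, 16⟩)))))) (.node 16 (.node 8 (.node 4 (.node 2 (.node 1 (.one ⟨5225, 5, 15⟩) (.one ⟨5032, 5, 15⟩)) (.node 1 (.one ⟨12059, 3, 13⟩) (.one ⟨16775, 6, 12⟩))) (.node 2 (.node 1 (.one ⟨17165, 2, 16⟩) (.one ⟨11681, 4, 15⟩)) (.node 1 (.one ⟨4753, 5, 17⟩) (.one ⟨11392, 6, 12⟩)))) (.node 4 (.node 2 (.node 1 (.one ⟨16789, 6, 14⟩) (.one ⟨5020, 5, 15⟩)) (.node 1 (.one ⟨7017, 6, 15⟩) (.one ⟨13918, 0, 12⟩))) (.node 2 (.node 1 (.one ⟨7827, 2, 16⟩) (.one ⟨448, 4, 14⟩)) (.node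 1 (.one ⟨13260, 5, 13⟩) (.one ⟨10732, 5, 14⟩))))) (.node 8 (.node 4 (.node 2 (.node 1 (.one ⟨10108, 4, 16⟩) (.one ⟨11042, 6, 15⟩)) (.node 1 (.one ⟨10203, 4, 16⟩) (.one ⟨8422, 6, 17⟩))) (.node 2 (.node 1 (.one ⟨2179, 4, 14⟩) (.one ⟨9678, 4, 12⟩)) (.node 1 (.one ⟨2027, 4, 15⟩) (.one ⟨13839, 3, 13⟩)))) (.node 4 (.node 2 (.node 1 (.one ⟨13627, 3, 12⟩) (.one ⟨14991, 5, 15⟩)) (.node 1 (.one ⟨5822, 2, 16⟩) (.one ⟨1988, 4, 15⟩))) (.node 2 (.node 1 (.one ⟨5722, 5, 14⟩) (.one ⟨10688, 5, 11⟩)) (.node 1 (.one ⟨10994, 6, 14⟩) (.one ⟨14998, 5, 14⟩)))))))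
def par0_11_8 : Arr Par :=
  (.node 32 (.node 16 (.node 8 (.node 4 (.node 2 (.node 1 (.one ⟨2646, 5, 14⟩) (.one ⟨13785, 5, 16⟩)) (.node 1 (.one ⟨10113, 4, 12⟩) (.one ⟨14573, 5, 16⟩))) (.node 2 (.node 1 (.one ⟨3056, 5, 14⟩) (.one ⟨15426, 5, 13⟩)) (.node 1 (.one ⟨2971, 6, 14⟩) (.one ⟨9644, 4, 15⟩)))) (.node 4 (.node 2 (.node 1 (.one ⟨15154, 6, 17⟩) (.one ⟨10205, 3, 12⟩)) (.node 1 (.one ⟨1980, 4, 15⟩) (.one ⟨5301, 6, 13⟩))) (.node 2 (.node 1 (.one ⟨2956, 6, 15⟩) (.one ⟨10151, 4, 14⟩)) (.node 1 (.one ⟨1624, 4, 11⟩) (.one ⟨11012, 6, 14⟩))))) (.node 8 (.node 4 (.node 2 (.node 1 (.one ⟨2623, 5, 15⟩) (.one ⟨7187, 6, 16⟩)) (.node 1 (.one ⟨10068, 4, 15⟩) (.one ⟨2129, 4, 13⟩))) (.node 2 (.node 1 (.one ⟨2050, 4, 14⟩) (.one ⟨8384, 6, 16⟩)) (.node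 1 (.one ⟨9660, 4, 13⟩) (.one ⟨13753, 3, 12⟩)))) (.node 4 (.node 2 (.node 1 (.one ⟨13658, 3, 11⟩) (.one ⟨5622, 3, 16⟩)) (.node 1 (.one ⟨5898, 3, 16⟩) (.one ⟨5750, 5, 15⟩))) (.node 2 (.node 1 (.one ⟨2092, 4, 16⟩) (.one ⟨11029, 6, 15⟩)) (.node 1 (.one ⟨2669, 5, 12⟩) (.one ⟨10093, 4, 13⟩)))))) (.node 16 (.node 8 (.node 4 (.node 2 (.node 1 (.one ⟨14995, 5, 15⟩) (.one ⟨10683, 5, 15⟩)) (.node 1 (.one ⟨15251, 6, 17⟩) (.one ⟨7401, 5, 14⟩))) (.node 2 (.node 1 (.one ⟨5391, 6, 13⟩) (.one ⟨6480, 5, 17⟩)) (.node 1 (.one ⟨2942, 6, 15⟩) (.one ⟨9639, 4, 14⟩)))) (.node 4 (.node 2 (.node 1 (.one ⟨7205, 6, 16⟩) (.one ⟨2070, 4, 16⟩)) (.node 1 (.one ⟨10253, 3, 13⟩) (.one ⟨13476, 6, 12⟩))) (.node 2 (.node 1 (.one ⟨2989, 6, 14⟩) (.one ⟨1645, 4, 12⟩)) (.node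 1 (.one ⟨10047, 4, 13⟩) (.one ⟨14575, 3, 13⟩))))) (.node 8 (.node 4 (.node 2 (.node 1 (.one ⟨15752, 3, 17⟩) (.one ⟨6604, 4, 14⟩)) (.node 1 (.one ⟨8905, 6, 13⟩) (.one ⟨3829, 6, 11⟩))) (.node 2 (.node 1 (.one ⟨3051, 5, 16⟩) (.one ⟨11162, 6, 14⟩)) (.node 1 (.one ⟨15879, 6, 16⟩) (.one ⟨15873, 6, 14⟩)))) (.node 4 (.node 2 (.node 1 (.one ⟨15996, 4, 15⟩) (.one ⟨5303, 5, 12⟩)) (.node 1 (.one ⟨15637, 2, 14⟩) (.one ⟨13955, 4, 14⟩))) (.node 2 (.node 1 (.one ⟨5381, 2, 14⟩) (.one ⟨3242, 3, 14⟩)) (.node 1 (.one ⟨2820, 4, 15⟩) (.one ⟨5600, 3, 13⟩)))))))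
def par0_11_9 : Arr Par :=
  (.node 32 (.node 16 (.node 8 (.node 4 (.node 2 (.node 1 (.one ⟨5310, 5, 12⟩) (.one ⟨7046, 4, 12⟩)) (.node 1 (.one ⟨4110, 5, 12⟩) (.one ⟨746, 5, 13⟩))) (.node 2 (.node 1 (.one ⟨15950, 4, 14⟩) (.one ⟨3059, 5, 10⟩)) (.node 1 (.one ⟨7758, 4, 15⟩) (.one ⟨8893, 0, 9⟩)))) (.node 4 (.node 2 (.node 1 (.one ⟨14244, 0, 14⟩) (.one ⟨10491, 3, 12⟩)) (.node 1 (.one ⟨3036, 0, 13⟩) (.one ⟨2031, 5, 12⟩))) (.node 2 (.node 1 (.one ⟨13439, 5, 17⟩) (.one ⟨16695, 4, 14⟩)) (.node 1 (.one ⟨13147, 3, 15⟩) (.one ⟨4799, 4, 13⟩))))) (.node 8 (.node 4 (.node 2 (.node 1 (.one ⟨5036, 4, 15⟩) (.one ⟨15865, 4, 14⟩)) (.node 1 (.one ⟨8264, 3, 15⟩) (.one ⟨10415, 3, 14⟩))) (.node 2 (.node 1 (.one ⟨183, 5, 17⟩) (.one ⟨10206, 3, 11⟩)) (.node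 1 (.one ⟨13645, 3, 12⟩) (.one ⟨5028, 3, 16⟩)))) (.node 4 (.node 2 (.node 1 (.one ⟨179, 4, 16⟩) (.one ⟨11080, 6, 13⟩)) (.node 1 (.one ⟨10256, 3, 14⟩) (.one ⟨1568, 5, 13⟩))) (.node 2 (.node 1 (.one ⟨8948, 6, 16⟩) (.one ⟨10898, 4, 12⟩)) (.node 1 (.one ⟨2073, 5, 16⟩) (.one ⟨5420, 5, 13⟩)))))) (.node 16 (.node 8 (.node 4 (.node 2 (.node 1 (.one ⟨5453, 6, 16⟩) (.one ⟨3109, 5, 16⟩)) (.node 1 (.one ⟨11861, 6, 12⟩) (.one ⟨11087, 6, 10⟩))) (.node 2 (.node 1 (.one ⟨12105, 5, 16⟩) (.one ⟨2624, 6, 13⟩)) (.node 1 (.one ⟨13326, 2, 13⟩) (.one ⟨11901, 1, 14⟩)))) (.node 4 (.node 2 (.node 1 (.one ⟨4111, 3, 14⟩) (.one ⟨8682, 4, 14⟩)) (.node 1 (.one ⟨11896, 1, 15⟩) (.one ⟨5506, 6, 12⟩))) (.node 2 (.node 1 (.one ⟨10560, 2, 11⟩) (.one ⟨11898, 1, 10⟩))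 (.node 1 (.one ⟨14455, 6, 15⟩) (.one ⟨13373, 5, 12⟩))))) (.node 8 (.node 4 (.node 2 (.node 1 (.one ⟨11910, 6, 11⟩) (.one ⟨11878, 1, 14⟩)) (.node 1 (.one ⟨11127, 6, 11⟩) (.one ⟨3020, 5, 15⟩))) (.node 2 (.node 1 (.one ⟨13550, 6, 16⟩) (.one ⟨4029, 5, 16⟩)) (.node 1 (.one ⟨10728, 6, 14⟩) (.one ⟨12635, 2, 15⟩)))) (.node 4 (.node 2 (.node 1 (.one ⟨5655, 2, 14⟩) (.one ⟨13607, 6, 13⟩)) (.node 1 (.one ⟨7052, 2, 9⟩) (.one ⟨12157, 2, 12⟩))) (.node 2 (.node 1 (.one ⟨6428, 6, 16⟩) (.one ⟨13403, 2, 13⟩)) (.node 1 (.one ⟨8655, 4, 13⟩) (.one ⟨4796, 4, 12⟩)))))))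
def par0_11_10 : Arr Par :=
  (.node 32 (.node 16 (.node 8 (.node 4 (.node 2 (.node 1 (.one ⟨7710, 3, 16⟩) (.one ⟨825, 5, 16⟩)) (.node 1 (.one ⟨2368, 3, 13⟩) (.one ⟨15851, 4, 15⟩))) (.node 2 (.node 1 (.one ⟨16312, 3, 14⟩) (.one ⟨13676, 3, 13⟩)) (.node 1 (.one ⟨10254, 3, 10⟩) (.one ⟨10921, 4, 11⟩)))) (.node 4 (.node 2 (.node 1 (.one ⟨11171, 6, 12⟩) (.one ⟨2911, 3, 16⟩)) (.node 1 (.one ⟨409, 4, 15⟩) (.one ⟨2410, 3, 15⟩))) (.node 2 (.node 1 (.one ⟨10175, 3, 13⟩) (.one ⟨13103, 3, 13⟩)) (.node 1 (.one ⟨4994, 3, 15⟩) (.one ⟨7031, 4, 11⟩))))) (.node 8 (.node 4 (.node 2 (.node 1 (.one ⟨13484, 5, 13⟩) (.one ⟨12158, 5, 13⟩)) (.node 1 (.one ⟨5567, 3, 12⟩) (.one ⟨7834, 4, 16⟩))) (.node 2 (.node 1 (.one ⟨46, 5, 14⟩) (.one ⟨3035, 5, 11⟩)) (.node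 1 (.one ⟨15949, 4, 13⟩) (.one ⟨5332, 5, 16⟩)))) (.node 4 (.node 2 (.node 1 (.one ⟨15130, 0, 8⟩) (.one ⟨12686, 0, 14⟩)) (.node 1 (.one ⟨8459, 0, 14⟩) (.one ⟨2441, 3, 11⟩))) (.node 2 (.node 1 (.one ⟨5098, 3, 14⟩) (.one ⟨2013, 5, 13⟩)) (.node 1 (.one ⟨3211, 3, 14⟩) (.one ⟨5387, 5, 18⟩)))))) (.node 16 (.node 8 (.node 4 (.node 2 (.node 1 (.one ⟨6636, 4, 13⟩) (.one ⟨3813, 6, 10⟩)) (.node 1 (.one ⟨12903, 4, 16⟩) (.one ⟨6527, 3, 14⟩))) (.node 2 (.node 1 (.one ⟨17006, 6, 14⟩) (.one ⟨6731, 6, 16⟩)) (.node 1 (.one ⟨11062, 6, 13⟩) (.one ⟨11292, 3, 15⟩)))) (.node 4 (.node 2 (.node 1 (.one ⟨4930, 2, 15⟩) (.one ⟨13910, 4, 13⟩)) (.node 1 (.one ⟨15995, 4, 16⟩) (.one ⟨5217, 5, 14⟩))) (.node 2 (.node 1 (.one ⟨11836, 1, 15⟩) (.one ⟨13481, 5, 11⟩))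 (.node 1 (.one ⟨2812, 4, 16⟩) (.one ⟨11953, 2, 15⟩))))) (.node 8 (.node 4 (.node 2 (.node 1 (.one ⟨3906, 1, 14⟩) (.one ⟨14625, 3, 14⟩)) (.node 1 (.one ⟨3909, 1, 15⟩) (.one ⟨3488, 5, 14⟩))) (.node 2 (.node 1 (.one ⟨11008, 5, 12⟩) (.one ⟨13028, 5, 13⟩)) (.node 1 (.one ⟨5444, 5, 11⟩) (.one ⟨13505, 5, 12⟩)))) (.node 4 (.node 2 (.node 1 (.one ⟨8291, 4, 14⟩) (.one ⟨2967, 5, 15⟩)) (.node 1 (.one ⟨4920, 5, 14⟩) (.one ⟨5388, 4, 13⟩))) (.node 2 (.node 1 (.one ⟨2533, 5, 15⟩) (.one ⟨8138, 4, 12⟩)) (.node 1 (.one ⟨10200, 3, 16⟩) (.one ⟨3495, 5, 15⟩)))))))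
def par0_11_11 : Arr Par :=
  (.node 32 (.node 16 (.node 8 (.node 4 (.node 2 (.node 1 (.one ⟨6463, 3, 14⟩) (.one ⟨2192, 5, 16⟩)) (.node 1 (.one ⟨12260, 5, 15⟩) (.one ⟨14593, 3, 12⟩))) (.node 2 (.node 1 (.one ⟨2141, 3, 14⟩) (.one ⟨11164, 6, 15⟩)) (.node 1 (.one ⟨5451, 5, 13⟩) (.one ⟨13515, 5, 6⟩)))) (.node 4 (.node 2 (.node 1 (.one ⟨14602, 3, 8⟩) (.one ⟨4948, 5, 11⟩)) (.node 1 (.one ⟨2163, 5, 16⟩) (.one ⟨4850, 6, 10⟩))) (.node 2 (.node 1 (.one ⟨2995, 6, 4⟩) (.one ⟨2319, 3, 15⟩)) (.node 1 (.one ⟨11561, 5, 14⟩) (.one ⟨6478, 3, 13⟩))))) (.node 8 (.node 4 (.node 2 (.node 1 (.one ⟨3877, 2, 11⟩) (.one ⟨11508, 2, 13⟩)) (.node 1 (.one ⟨14607, 3, 11⟩) (.one ⟨12959, 6, 13⟩))) (.node 2 (.node 1 (.one ⟨5823, 3, 15⟩) (.one ⟨13490, 5, 13⟩)) (.node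 1 (.one ⟨4213, 2, 13⟩) (.one ⟨3947, 1, 16⟩)))) (.node 4 (.node 2 (.node 1 (.one ⟨4877, 6, 16⟩) (.one ⟨6494, 3, 13⟩)) (.node 1 (.one ⟨11129, 6, 13⟩) (.one ⟨13467, 4, 16⟩))) (.node 2 (.node 1 (.one ⟨14618, 3, 10⟩) (.one ⟨3477, 5, 14⟩)) (.node 1 (.one ⟨3950, 1, 11⟩) (.one ⟨13758, 3, 10⟩)))))) (.node 16 (.node 8 (.node 4 (.node 2 (.node 1 (.one ⟨10642, 5, 14⟩) (.one ⟨2102, 5, 13⟩)) (.node 1 (.one ⟨14542, 3, 12⟩) (.one ⟨8368, 2, 15⟩))) (.node 2 (.node 1 (.one ⟨11543, 5, 14⟩) (.one ⟨2258, 3, 16⟩)) (.node 1 (.one ⟨2168, 3, 14⟩) (.one ⟨2340, 3, 15⟩)))) (.node 4 (.node 2 (.node 1 (.one ⟨11032, 5, 11⟩) (.one ⟨11688, 6, 16⟩)) (.node 1 (.one ⟨5436, 5, 9⟩) (.one ⟨4118, 6, 16⟩))) (.node 2 (.node 1 (.one ⟨12990, 5, 14⟩) (.one ⟨2203, 3, 13⟩)) (.node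 1 (.one ⟨8242, 4, 16⟩) (.one ⟨5875, 5, 14⟩))))) (.node 8 (.node 4 (.node 2 (.node 1 (.one ⟨11700, 3, 15⟩) (.one ⟨12885, 5, 16⟩)) (.node 1 (.one ⟨1709, 5, 15⟩) (.one ⟨3072, 3, 17⟩))) (.node 2 (.node 1 (.one ⟨10326, 4, 13⟩) (.one ⟨2180, 5, 15⟩)) (.node 1 (.one ⟨3719, 6, 14⟩) (.one ⟨16295, 0, 16⟩)))) (.node 4 (.node 2 (.node 1 (.one ⟨5998, 5, 12⟩) (.one ⟨15184, 0, 10⟩)) (.node 1 (.one ⟨13030, 3, 14⟩) (.one ⟨4021, 3, 15⟩))) (.node 2 (.node 1 (.one ⟨7536, 6, 13⟩) (.one ⟨8457, 0, 14⟩)) (.node 1 (.one ⟨11703, 3, 15⟩) (.one ⟨11385, 4, 14⟩)))))))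
def par0_11_12 : Arr Par :=
  (.node 32 (.node 16 (.node 8 (.node 4 (.node 2 (.node 1 (.one ⟨7545, 6, 12⟩) (.one ⟨10075, 3, 11⟩)) (.node 1 (.one ⟨5842, 5, 14⟩) (.one ⟨4961, 5, 13⟩))) (.node 2 (.node 1 (.one ⟨11250, 3, 14⟩) (.one ⟨12825, 2, 14⟩)) (.node 1 (.one ⟨7629, 2, 13⟩) (.one ⟨7575, 6, 14⟩)))) (.node 4 (.node 2 (.node 1 (.one ⟨3956, 1, 10⟩) (.one ⟨14014, 5, 11⟩)) (.node 1 (.one ⟨8665, 5, 15⟩) (.one ⟨4969, 5, 16⟩))) (.node 2 (.node 1 (.one ⟨10214, 5, 14⟩) (.one ⟨11319, 4, 14⟩)) (.node 1 (.one ⟨3958, 1, 15⟩) (.one ⟨13986, 5, 15⟩))))) (.node 8 (.node 4 (.node 2 (.node 1 (.one ⟨4010, 1, 13⟩) (.one ⟨13304, 4, 11⟩)) (.node 1 (.one ⟨4011, 1, 12⟩) (.one ⟨1825, 2, 15⟩))) (.node 2 (.node 1 (.one ⟨16431, 5, 14⟩) (.one ⟨7583, 6, 15⟩))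 (.node 1 (.one ⟨10256, 5, 14⟩) (.one ⟨6946, 6, 16⟩)))) (.node 4 (.node 2 (.node 1 (.one ⟨13241, 4, 14⟩) (.one ⟨1300, 2, 11⟩)) (.node 1 (.one ⟨14058, 5, 14⟩) (.one ⟨16440, 5, 12⟩))) (.node 2 (.node 1 (.one ⟨2191, 5, 15⟩) (.one ⟨7554, 6, 15⟩)) (.node 1 (.one ⟨8657, 5, 16⟩) (.one ⟨5182, 4, 10⟩)))))) (.node 16 (.node 8 (.node 4 (.node 2 (.node 1 (.one ⟨16859, 4, 16⟩) (.one ⟨12145, 3, 13⟩)) (.node 1 (.one ⟨6027, 5, 13⟩) (.one ⟨3672, 3, 15⟩))) (.node 2 (.node 1 (.one ⟨10809, 2, 16⟩) (.one ⟨10166, 5, 13⟩)) (.node 1 (.one ⟨7561, 6, 14⟩) (.one ⟨8470, 6, 13⟩)))) (.node 4 (.node 2 (.node 1 (.one ⟨2101, 5, 13⟩) (.one ⟨4911, 5, 16⟩)) (.node 1 (.one ⟨6417, 4, 15⟩) (.one ⟨5948, 5, 11⟩))) (.node 2 (.node 1 (.one ⟨12981, 2, 13⟩) (.one ⟨7595, 6,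 15⟩)) (.node 1 (.one ⟨4199, 6, 16⟩) (.one ⟨2913, 6, 14⟩))))) (.node 8 (.node 4 (.node 2 (.node 1 (.one ⟨13529, 2, 16⟩) (.one ⟨11851, 3, 13⟩)) (.node 1 (.one ⟨4007, 3, 15⟩) (.one ⟨2259, 3, 12⟩))) (.node 2 (.node 1 (.one ⟨10199, 3, 13⟩) (.one ⟨10579, 5, 16⟩)) (.node 1 (.one ⟨10421, 3, 12⟩) (.one ⟨6614, 2, 12⟩)))) (.node 4 (.node 2 (.node 1 (.one ⟨8018, 5, 13⟩) (.one ⟨7625, 0, 15⟩)) (.node 1 (.one ⟨14136, 2, 17⟩) (.one ⟨9108, 3, 14⟩))) (.node 2 (.node 1 (.one ⟨6276, 4, 16⟩) (.one ⟨10196, 3, 11⟩)) (.node 1 (.one ⟨7725, 6, 14⟩) (.one ⟨3743, 6, 13⟩)))))))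
def par0_11_13 : Arr Par :=
  (.node 32 (.node 16 (.node 8 (.node 4 (.node 2 (.node 1 (.one ⟨2484, 5, 12⟩) (.one ⟨9132, 4, 14⟩)) (.node 1 (.one ⟨11040, 6, 11⟩) (.one ⟨2893, 6, 16⟩))) (.node 2 (.node 1 (.one ⟨8797, 5, 15⟩) (.one ⟨12709, 2, 13⟩)) (.node 1 (.one ⟨16746, 5, 14⟩) (.one ⟨7984, 5, 15⟩)))) (.node 4 (.node 2 (.node 1 (.one ⟨14751, 6, 13⟩) (.one ⟨15574, 3, 15⟩)) (.node 1 (.one ⟨3177, 4, 16⟩) (.one ⟨7684, 6, 11⟩))) (.node 2 (.node 1 (.one ⟨6627, 6, 15⟩) (.one ⟨10638, 5, 16⟩)) (.node 1 (.one ⟨13376, 4, 11⟩) (.one ⟨2869, 6, 15⟩))))) (.node 8 (.node 4 (.node 2 (.node 1 (.one ⟨7148, 4, 16⟩) (.one ⟨3674, 6, 13⟩)) (.node 1 (.one ⟨1585, 6, 17⟩) (.one ⟨9967, 3, 14⟩))) (.node 2 (.node 1 (.one ⟨13519, 5, 14⟩) (.one ⟨10335, 3, 13⟩))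 (.node 1 (.one ⟨1812, 5, 15⟩) (.one ⟨16054, 5, 16⟩)))) (.node 4 (.node 2 (.node 1 (.one ⟨8774, 5, 15⟩) (.one ⟨7673, 6, 10⟩)) (.node 1 (.one ⟨3150, 4, 16⟩) (.one ⟨6615, 6, 15⟩))) (.node 2 (.node 1 (.one ⟨7498, 3, 14⟩) (.one ⟨6648, 6, 14⟩)) (.node 1 (.one ⟨10618, 5, 15⟩) (.one ⟨16844, 5, 16⟩)))))) (.node 16 (.node 8 (.node 4 (.node 2 (.node 1 (.one ⟨1776, 5, 3⟩) (.one ⟨2910, 6, 15⟩)) (.node 1 (.one ⟨10313, 3, 7⟩) (.one ⟨10591, 5, 8⟩))) (.node 2 (.node 1 (.one ⟨8648, 5, 11⟩) (.one ⟨3698, 6, 8⟩)) (.node 1 (.one ⟨12015, 3, 15⟩) (.one ⟨2096, 3, 8⟩)))) (.node 4 (.node 2 (.node 1 (.one ⟨16081, 5, 16⟩) (.one ⟨13410, 4, 11⟩)) (.node 1 (.one ⟨16477, 3, 16⟩) (.one ⟨6579, 6, 5⟩))) (.node 2 (.node 1 (.one ⟨7701, 6, 11⟩) (.one ⟨1586, 6, 11⟩))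 (.node 1 (.one ⟨4595, 6, 14⟩) (.one ⟨9039, 4, 15⟩))))) (.node 8 (.node 4 (.node 2 (.node 1 (.one ⟨8779, 5, 15⟩) (.one ⟨4927, 2, 12⟩)) (.node 1 (.one ⟨2564, 2, 9⟩) (.one ⟨3865, 3, 13⟩))) (.node 2 (.node 1 (.one ⟨10327, 3, 11⟩) (.one ⟨2531, 5, 13⟩)) (.node 1 (.one ⟨10950, 6, 13⟩) (.one ⟨3921, 4, 16⟩)))) (.node 4 (.node 2 (.node 1 (.one ⟨15433, 2, 16⟩) (.one ⟨1618, 6, 14⟩)) (.node 1 (.one ⟨10138, 0, 15⟩) (.one ⟨4105, 1, 13⟩))) (.node 2 (.node 1 (.one ⟨15756, 6, 10⟩) (.one ⟨2181, 3, 11⟩)) (.node 1 (.one ⟨4110, 1, 12⟩) (.one ⟨10984, 6, 16⟩)))))))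
def par0_11_14 : Arr Par :=
  (.node 32 (.node 16 (.node 8 (.node 4 (.node 2 (.node 1 (.one ⟨6058, 5, 16⟩) (.one ⟨4083, 1, 13⟩)) (.node 1 (.one ⟨10497, 3, 11⟩) (.one ⟨3663, 3, 15⟩))) (.node 2 (.node 1 (.one ⟨3773, 3, 13⟩) (.one ⟨9887, 5, 13⟩)) (.node 1 (.one ⟨10560, 5, 11⟩) (.one ⟨16459, 3, 16⟩)))) (.node 4 (.node 2 (.node 1 (.one ⟨3174, 4, 14⟩) (.one ⟨10920, 5, 14⟩)) (.node 1 (.one ⟨2361, 3, 15⟩) (.one ⟨11956, 4, 13⟩))) (.node 2 (.node 1 (.one ⟨11923, 3, 17⟩) (.one ⟨4575, 6, 15⟩)) (.node 1 (.one ⟨6689, 3, 15⟩) (.one ⟨4132, 1, 15⟩))))) (.node 8 (.node 4 (.node 2 (.node 1 (.one ⟨4130, 1, 12⟩) (.one ⟨4131, 1, 9⟩)) (.node 1 (.one ⟨4129, 1, 16⟩) (.one ⟨14013, 5, 16⟩))) (.node 2 (.node 1 (.one ⟨10516, 3, 12⟩) (.one ⟨4297, 4, 14⟩)) (.node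 1 (.one ⟨3694, 6, 14⟩) (.one ⟨12008, 4, 12⟩)))) (.node 4 (.node 2 (.node 1 (.one ⟨8362, 4, 15⟩) (.one ⟨2570, 5, 13⟩)) (.node 1 (.one ⟨10178, 3, 12⟩) (.one ⟨16816, 5, 14⟩))) (.node 2 (.node 1 (.one ⟨16831, 4, 15⟩) (.one ⟨2407, 3, 14⟩)) (.node 1 (.one ⟨9128, 3, 14⟩) (.one ⟨4776, 6, 15⟩)))))) (.node 16 (.node 8 (.node 4 (.node 2 (.node 1 (.one ⟨4112, 1, 16⟩) (.one ⟨2515, 5, 13⟩)) (.node 1 (.one ⟨9036, 4, 14⟩) (.one ⟨1474, 2, 16⟩))) (.node 2 (.node 1 (.one ⟨8632, 5, 14⟩) (.one ⟨2245, 3, 13⟩)) (.node 1 (.one ⟨10283, 3, 16⟩) (.one ⟨3918, 4, 17⟩)))) (.node 4 (.node 2 (.node 1 (.one ⟨11199, 4, 13⟩) (.one ⟨2196, 2, 12⟩)) (.node 1 (.one ⟨2829, 5, 15⟩) (.one ⟨14337, 4, 15⟩))) (.node 2 (.node 1 (.one ⟨16102, 5, 17⟩) (.one ⟨9486, 2, 10⟩)) (.node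 1 (.one ⟨2865, 2, 17⟩) (.one ⟨16581, 3, 14⟩))))) (.node 8 (.node 4 (.node 2 (.node 1 (.one ⟨6661, 5, 16⟩) (.one ⟨13499, 6, 16⟩)) (.node 1 (.one ⟨13598, 4, 14⟩) (.one ⟨1090, 3, 15⟩))) (.node 2 (.node 1 (.one ⟨15260, 4, 14⟩) (.one ⟨3300, 4, 10⟩)) (.node 1 (.one ⟨14031, 5, 14⟩) (.one ⟨4247, 1, 17⟩)))) (.node 4 (.node 2 (.node 1 (.one ⟨12326, 3, 12⟩) (.one ⟨9652, 3, 16⟩)) (.node 1 (.one ⟨15150, 6, 16⟩) (.one ⟨8929, 6, 14⟩))) (.node 2 (.node 1 (.one ⟨7012, 6, 13⟩) (.one ⟨2513, 5, 13⟩)) (.node 1 (.one ⟨3626, 6, 15⟩) (.one ⟨15219, 3, 15⟩)))))))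
def par0_11_15 : Arr Par :=
  (.node 32 (.node 16 (.node 8 (.node 4 (.node 2 (.node 1 (.one ⟨16609, 3, 16⟩) (.one ⟨13580, 4, 16⟩)) (.node 1 (.one ⟨10918, 6, 16⟩) (.one ⟨12540, 4, 14⟩))) (.node 2 (.node 1 (.one ⟨11377, 4, 14⟩) (.one ⟨15227, 3, 12⟩)) (.node 1 (.one ⟨14004, 5, 13⟩) (.one ⟨4061, 2, 10⟩)))) (.node 4 (.node 2 (.node 1 (.one ⟨4334, 3, 13⟩) (.one ⟨13275, 4, 14⟩)) (.node 1 (.one ⟨2015, 2, 14⟩) (.one ⟨3148, 4, 14⟩))) (.node 2 (.node 1 (.one ⟨10679, 4, 12⟩) (.one ⟨14078, 5, 13⟩)) (.node 1 (.one ⟨3602, 6, 14⟩) (.one ⟨15261, 3, 11⟩))))) (.node 8 (.node 4 (.node 2 (.node 1 (.one ⟨14424, 6, 17⟩) (.one ⟨7175, 2, 14⟩)) (.node 1 (.one ⟨3318, 4, 9⟩) (.one ⟨2763, 6, 14⟩))) (.node 2 (.node 1 (.one ⟨6787, 2, 13⟩) (.one ⟨5012, 2, 16⟩))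 (.node 1 (.one ⟨8553, 3, 13⟩) (.one ⟨2596, 5, 15⟩)))) (.node 4 (.node 2 (.node 1 (.one ⟨12289, 3, 12⟩) (.one ⟨1219, 2, 10⟩)) (.node 1 (.one ⟨4085, 4, 13⟩) (.one ⟨8959, 6, 15⟩))) (.node 2 (.node 1 (.one ⟨10711, 4, 12⟩) (.one ⟨2633, 6, 16⟩)) (.node 1 (.one ⟨13303, 2, 15⟩) (.one ⟨11363, 4, 9⟩)))))) (.node 16 (.node 8 (.node 4 (.node 2 (.node 1 (.one ⟨2129, 2, 13⟩) (.one ⟨7164, 3, 12⟩)) (.node 1 (.one ⟨8243, 5, 13⟩) (.one ⟨12556, 4, 7⟩))) (.node 2 (.node 1 (.one ⟨14271, 4, 14⟩) (.one ⟨5940, 5, 12⟩)) (.node 1 (.one ⟨10444, 4, 17⟩) (.one ⟨10330, 4, 15⟩)))) (.node 4 (.node 2 (.node 1 (.one ⟨12128, 4, 4⟩) (.one ⟨11211, 4, 9⟩)) (.node 1 (.one ⟨4223, 3, 11⟩) (.one ⟨10699, 4, 10⟩))) (.node 2 (.node 1 (.one ⟨4355, 3, 13⟩) (.one ⟨11480, 4, 16⟩))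 (.node 1 (.one ⟨16969, 6, 9⟩) (.one ⟨1618, 0, 14⟩))))) (.node 8 (.node 4 (.node 2 (.node 1 (.one ⟨3843, 0, 10⟩) (.one ⟨16129, 6, 14⟩)) (.node 1 (.one ⟨4504, 4, 15⟩) (.one ⟨10668, 5, 15⟩))) (.node 2 (.node 1 (.one ⟨6437, 6, 14⟩) (.one ⟨3038, 0, 14⟩)) (.node 1 (.one ⟨4181, 1, 16⟩) (.one ⟨2244, 4, 15⟩)))) (.node 4 (.node 2 (.node 1 (.one ⟨11658, 6, 12⟩) (.one ⟨13471, 4, 15⟩)) (.node 1 (.one ⟨12176, 4, 13⟩) (.one ⟨8983, 6, 15⟩))) (.node 2 (.node 1 (.one ⟨2345, 5, 14⟩) (.one ⟨12359, 4, 16⟩)) (.node 1 (.one ⟨4179, 3, 14⟩) (.one ⟨7177, 3, 12⟩)))))))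
def par0_11 : Arr Par :=
  (.node 512 (.node 256 (.node 128 (.node 64 par0_11_0 par0_11_1) (.node 64 par0_11_2 par0_11_3)) (.node 128 (.node 64 par0_11_4 par0_11_5) (.node 64 par0_11_6 par0_11_7))) (.node 256 (.node 128 (.node 64 par0_11_8 par0_11_9) (.node 64 par0_11_10 par0_11_11)) (.node 128 (.node 64 par0_11_12 par0_11_13) (.node 64 par0_11_14 par0_11_15))))
def par0_12_0 : Arr Par :=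
  (.node 32 (.node 16 (.node 8 (.node 4 (.node 2 (.node 1 (.one ⟨2600, 5, 13⟩) (.one ⟨3270, 4, 11⟩)) (.node 1 (.one ⟨14711, 5, 13⟩) (.one ⟨16305, 5, 13⟩))) (.node 2 (.node 1 (.one ⟨4494, 4, 18⟩) (.one ⟨6345, 6, 14⟩)) (.node 1 (.one ⟨12856, 2, 14⟩) (.one ⟨12242, 3, 10⟩)))) (.node 4 (.node 2 (.node 1 (.one ⟨8711, 2, 16⟩) (.one ⟨4204, 1, 14⟩)) (.node 1 (.one ⟨4203, 1, 11⟩) (.one ⟨4217, 3, 15⟩))) (.node 2 (.node 1 (.one ⟨7552, 2, 15⟩) (.one ⟨14009, 5, 15⟩)) (.node 1 (.one ⟨10546, 5, 16⟩) (.one ⟨11931, 2, 12⟩))))) (.node 8 (.node 4 (.node 2 (.node 1 (.one ⟨11331, 4, 15⟩) (.one ⟨12676, 5, 13⟩)) (.node 1 (.one ⟨8618, 3, 14⟩) (.one ⟨5531, 4, 16⟩))) (.node 2 (.node 1 (.one ⟨10859, 6, 15⟩) (.one ⟨12877, 2, 14⟩)) (.node 1 (.one ⟨7208, 3, 11⟩)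 (.one ⟨16993, 6, 10⟩)))) (.node 4 (.node 2 (.node 1 (.one ⟨9572, 3, 16⟩) (.one ⟨10304, 4, 15⟩)) (.node 1 (.one ⟨15095, 6, 12⟩) (.one ⟨4372, 3, 15⟩))) (.node 2 (.node 1 (.one ⟨10389, 5, 14⟩) (.one ⟨11215, 4, 13⟩)) (.node 1 (.one ⟨13352, 4, 14⟩) (.one ⟨15198, 4, 14⟩)))))) (.node 16 (.node 8 (.node 4 (.node 2 (.node 1 (.one ⟨16687, 2, 14⟩) (.one ⟨16414, 4, 15⟩)) (.node 1 (.one ⟨14440, 6, 16⟩) (.one ⟨2191, 2, 15⟩))) (.node 2 (.node 1 (.one ⟨4477, 4, 16⟩) (.one ⟨2424, 4, 16⟩)) (.node 1 (.one ⟨9485, 2, 11⟩) (.one ⟨11224, 4, 14⟩)))) (.node 4 (.node 2 (.node 1 (.one ⟨12213, 3, 11⟩) (.one ⟨10241, 2, 16⟩)) (.node 1 (.one ⟨4316, 3, 13⟩) (.one ⟨10317, 4, 15⟩))) (.node 2 (.node 1 (.one ⟨12982, 2, 16⟩) (.one ⟨10352, 5, 16⟩)) (.node 1 (.one ⟨2716,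 6, 17⟩) (.one ⟨4635, 6, 15⟩))))) (.node 8 (.node 4 (.node 2 (.node 1 (.one ⟨4925, 5, 17⟩) (.one ⟨4386, 1, 15⟩)) (.node 1 (.one ⟨735, 6, 15⟩) (.one ⟨10708, 3, 15⟩))) (.node 2 (.node 1 (.one ⟨10386, 6, 14⟩) (.one ⟨8805, 4, 14⟩)) (.node 1 (.one ⟨16729, 3, 16⟩) (.one ⟨12572, 3, 13⟩)))) (.node 4 (.node 2 (.node 1 (.one ⟨12221, 4, 14⟩) (.one ⟨2425, 4, 14⟩)) (.node 1 (.one ⟨4733, 6, 16⟩) (.one ⟨11996, 4, 11⟩))) (.node 2 (.node 1 (.one ⟨10876, 5, 15⟩) (.one ⟨12193, 4, 14⟩)) (.node 1 (.one ⟨193, 6, 11⟩) (.one ⟨219, 3, 15⟩)))))))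
def par0_12_1 : Arr Par :=
  (.node 32 (.node 16 (.node 8 (.node 4 (.node 2 (.node 1 (.one ⟨3901, 2, 10⟩) (.one ⟨92, 6, 14⟩)) (.node 1 (.one ⟨16697, 5, 13⟩) (.one ⟨8301, 5, 15⟩))) (.node 2 (.node 1 (.one ⟨5134, 6, 13⟩) (.one ⟨1928, 2, 15⟩)) (.node 1 (.one ⟨15440, 3, 14⟩) (.one ⟨4376, 1, 15⟩)))) (.node 4 (.node 2 (.node 1 (.one ⟨1013, 2, 15⟩) (.one ⟨10867, 5, 14⟩)) (.node 1 (.one ⟨4377, 1, 17⟩) (.one ⟨14904, 3, 14⟩))) (.node 2 (.node 1 (.one ⟨8970, 3, 14⟩) (.one ⟨12096, 4, 13⟩)) (.node 1 (.one ⟨12552, 3, 16⟩) (.one ⟨11717, 5, 15⟩))))) (.node 8 (.node 4 (.node 2 (.node 1 (.one ⟨624, 2, 10⟩) (.one ⟨13539, 5, 13⟩)) (.node 1 (.one ⟨1589, 6, 14⟩) (.one ⟨772, 2, 15⟩))) (.node 2 (.node 1 (.one ⟨9048, 5, 14⟩) (.one ⟨193, 2, 11⟩)) (.node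 1 (.one ⟨748, 2, 13⟩) (.one ⟨7038, 3, 13⟩)))) (.node 4 (.node 2 (.node 1 (.one ⟨2334, 5, 12⟩) (.one ⟨6672, 5, 16⟩)) (.node 1 (.one ⟨4510, 3, 15⟩) (.one ⟨9893, 5, 16⟩))) (.node 2 (.node 1 (.one ⟨8845, 3, 15⟩) (.one ⟨12166, 4, 12⟩)) (.node 1 (.one ⟨17053, 3, 12⟩) (.one ⟨3632, 5, 14⟩)))))) (.node 16 (.node 8 (.node 4 (.node 2 (.node 1 (.one ⟨5523, 4, 15⟩) (.one ⟨8629, 5, 15⟩)) (.node 1 (.one ⟨7377, 3, 12⟩) (.one ⟨2626, 3, 16⟩))) (.node 2 (.node 1 (.one ⟨5108, 6, 13⟩) (.one ⟨308, 6, 13⟩)) (.node 1 (.one ⟨4913, 5, 15⟩) (.one ⟨9901, 5, 16⟩)))) (.node 4 (.node 2 (.node 1 (.one ⟨4722, 6, 16⟩) (.one ⟨10597, 4, 10⟩)) (.node 1 (.one ⟨928, 6, 10⟩) (.one ⟨2365, 4, 15⟩))) (.node 2 (.node 1 (.one ⟨4493, 3, 15⟩) (.one ⟨12131, 4, 9⟩)) (.node 1 (.one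 ⟨17034, 3, 9⟩) (.one ⟨4549, 2, 10⟩))))) (.node 8 (.node 4 (.node 2 (.node 1 (.one ⟨7536, 2, 13⟩) (.one ⟨5508, 2, 14⟩)) (.node 1 (.one ⟨4320, 1, 16⟩) (.one ⟨7386, 3, 12⟩))) (.node 2 (.node 1 (.one ⟨3649, 5, 15⟩) (.one ⟨16096, 5, 16⟩)) (.node 1 (.one ⟨17119, 5, 17⟩) (.one ⟨4102, 4, 15⟩)))) (.node 4 (.node 2 (.node 1 (.one ⟨7437, 5, 14⟩) (.one ⟨10524, 4, 13⟩)) (.node 1 (.one ⟨4483, 3, 15⟩) (.one ⟨4728, 6, 15⟩))) (.node 2 (.node 1 (.one ⟨6508, 6, 16⟩) (.one ⟨10403, 5, 11⟩)) (.node 1 (.one ⟨3120, 2, 14⟩) (.one ⟨5477, 5, 14⟩)))))))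
def par0_12_2 : Arr Par :=
  (.node 32 (.node 16 (.node 8 (.node 4 (.node 2 (.node 1 (.one ⟨2654, 3, 15⟩) (.one ⟨4304, 1, 15⟩)) (.node 1 (.one ⟨12419, 2, 15⟩) (.one ⟨16705, 3, 14⟩))) (.node 2 (.node 1 (.one ⟨4307, 1, 16⟩) (.one ⟨12416, 2, 16⟩)) (.node 1 (.one ⟨11696, 5, 13⟩) (.one ⟨2300, 4, 16⟩)))) (.node 4 (.node 2 (.node 1 (.one ⟨10913, 5, 14⟩) (.one ⟨13686, 5, 15⟩)) (.node 1 (.one ⟨11301, 5, 17⟩) (.one ⟨12649, 6, 14⟩))) (.node 2 (.node 1 (.one ⟨10681, 4, 13⟩) (.one ⟨17043, 3, 12⟩)) (.node 1 (.one ⟨12268, 4, 14⟩) (.one ⟨3064, 0, 12⟩))))) (.node 8 (.node 4 (.node 2 (.node 1 (.one ⟨16153, 2, 16⟩) (.one ⟨8638, 3, 15⟩)) (.node 1 (.one ⟨12988, 5, 12⟩) (.one ⟨9031, 5, 14⟩))) (.node 2 (.node 1 (.one ⟨15449, 3, 14⟩) (.one ⟨11952, 0, 15⟩))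 (.node 1 (.one ⟨13213, 6, 16⟩) (.one ⟨413, 3, 14⟩)))) (.node 4 (.node 2 (.node 1 (.one ⟨2312, 5, 12⟩) (.one ⟨6697, 5, 15⟩)) (.node 1 (.one ⟨16891, 3, 15⟩) (.one ⟨9901, 3, 16⟩))) (.node 2 (.node 1 (.one ⟨15877, 2, 15⟩) (.one ⟨15876, 2, 13⟩)) (.node 1 (.one ⟨8961, 3, 12⟩) (.one ⟨15432, 3, 12⟩)))))) (.node 16 (.node 8 (.node 4 (.node 2 (.node 1 (.one ⟨5135, 6, 14⟩) (.one ⟨3123, 2, 10⟩)) (.node 1 (.one ⟨8629, 3, 15⟩) (.one ⟨6938, 3, 14⟩))) (.node 2 (.node 1 (.one ⟨11001, 2, 14⟩) (.one ⟨2759, 2, 13⟩)) (.node 1 (.one ⟨16890, 3, 15⟩) (.one ⟨5646, 5, 15⟩)))) (.node 4 (.node 2 (.node 1 (.one ⟨14554, 6, 14⟩) (.one ⟨4723, 6, 12⟩)) (.node 1 (.one ⟨9036, 6, 14⟩) (.one ⟨10609, 4, 13⟩))) (.node 2 (.node 1 (.one ⟨10457, 4, 14⟩) (.one ⟨13657, 0,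 12⟩)) (.node 1 (.one ⟨10672, 4, 14⟩) (.one ⟨5462, 5, 15⟩))))) (.node 8 (.node 4 (.node 2 (.node 1 (.one ⟨14010, 5, 15⟩) (.one ⟨14540, 4, 14⟩)) (.node 1 (.one ⟨4437, 1, 11⟩) (.one ⟨15225, 2, 13⟩))) (.node 2 (.node 1 (.one ⟨4432, 1, 12⟩) (.one ⟨4601, 3, 14⟩)) (.node 1 (.one ⟨10208, 5, 12⟩) (.one ⟨1803, 2, 11⟩)))) (.node 4 (.node 2 (.node 1 (.one ⟨15453, 2, 14⟩) (.one ⟨2725, 6, 12⟩)) (.node 1 (.one ⟨11692, 3, 15⟩) (.one ⟨11614, 6, 13⟩))) (.node 2 (.node 1 (.one ⟨12497, 4, 14⟩) (.one ⟨9696, 5, 15⟩)) (.node 1 (.one ⟨12617, 3, 13⟩) (.one ⟨5931, 5, 16⟩)))))))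
def par0_12_3 : Arr Par :=
  (.node 32 (.node 16 (.node 8 (.node 4 (.node 2 (.node 1 (.one ⟨17098, 5, 10⟩) (.one ⟨3514, 6, 14⟩)) (.node 1 (.one ⟨1584, 5, 10⟩) (.one ⟨13140, 5, 16⟩))) (.node 2 (.node 1 (.one ⟨2096, 5, 8⟩) (.one ⟨12795, 3, 15⟩)) (.node 1 (.one ⟨16969, 5, 9⟩) (.one ⟨12684, 3, 14⟩)))) (.node 4 (.node 2 (.node 1 (.one ⟨12855, 6, 13⟩) (.one ⟨10196, 5, 11⟩)) (.node 1 (.one ⟨1654, 5, 12⟩) (.one ⟨1699, 3, 15⟩))) (.node 2 (.node 1 (.one ⟨13514, 5, 15⟩) (.one ⟨12518, 4, 15⟩)) (.node 1 (.one ⟨2086, 6, 16⟩) (.one ⟨427, 3, 15⟩))))) (.node 8 (.node 4 (.node 2 (.node 1 (.one ⟨13327, 6, 12⟩) (.one ⟨3549, 3, 13⟩)) (.node 1 (.one ⟨16951, 5, 15⟩) (.one ⟨9059, 5, 13⟩))) (.node 2 (.node 1 (.one ⟨10106, 6, 17⟩) (.one ⟨15327, 2, 15⟩))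 (.node 1 (.one ⟨8122, 4, 13⟩) (.one ⟨9648, 5, 16⟩)))) (.node 4 (.node 2 (.node 1 (.one ⟨5202, 6, 15⟩) (.one ⟨13499, 5, 16⟩)) (.node 1 (.one ⟨10178, 5, 12⟩) (.one ⟨16993, 5, 10⟩))) (.node 2 (.node 1 (.one ⟨4436, 4, 13⟩) (.one ⟨12783, 3, 13⟩)) (.node 1 (.one ⟨17131, 5, 14⟩) (.one ⟨720, 3, 14⟩)))))) (.node 16 (.node 8 (.node 4 (.node 2 (.node 1 (.one ⟨1546, 2, 11⟩) (.one ⟨8140, 4, 12⟩)) (.node 1 (.one ⟨17087, 5, 14⟩) (.one ⟨4417, 1, 14⟩))) (.node 2 (.node 1 (.one ⟨6982, 2, 16⟩) (.one ⟨13235, 6, 11⟩)) (.node 1 (.one ⟨13280, 2, 14⟩) (.one ⟨760, 3, 14⟩)))) (.node 4 (.node 2 (.node 1 (.one ⟨4869, 2, 11⟩) (.one ⟨2127, 5, 10⟩)) (.node 1 (.one ⟨11606, 6, 15⟩) (.one ⟨12698, 3, 13⟩))) (.node 2 (.node 1 (.one ⟨5947, 5, 15⟩) (.one ⟨8929, 5, 14⟩))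 (.node 1 (.one ⟨3522, 3, 15⟩) (.one ⟨3175, 2, 14⟩))))) (.node 8 (.node 4 (.node 2 (.node 1 (.one ⟨7894, 3, 15⟩) (.one ⟨17114, 5, 12⟩)) (.node 1 (.one ⟨15655, 5, 13⟩) (.one ⟨8676, 5, 15⟩))) (.node 2 (.node 1 (.one ⟨4150, 2, 13⟩) (.one ⟨2771, 2, 15⟩)) (.node 1 (.one ⟨16299, 3, 11⟩) (.one ⟨16827, 6, 16⟩)))) (.node 4 (.node 2 (.node 1 (.one ⟨185, 3, 15⟩) (.one ⟨3640, 6, 16⟩)) (.node 1 (.one ⟨16291, 3, 11⟩) (.one ⟨15542, 6, 16⟩))) (.node 2 (.node 1 (.one ⟨15103, 5, 13⟩) (.one ⟨14163, 3, 15⟩)) (.node 1 (.one ⟨17103, 5, 12⟩) (.one ⟨4152, 5, 15⟩)))))))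
def par0_12_4 : Arr Par :=
  (.node 32 (.node 16 (.node 8 (.node 4 (.node 2 (.node 1 (.one ⟨2512, 5, 16⟩) (.one ⟨17090, 5, 13⟩)) (.node 1 (.one ⟨15599, 5, 16⟩) (.one ⟨546, 2, 16⟩))) (.node 2 (.node 1 (.one ⟨15150, 5, 16⟩) (.one ⟨10673, 3, 16⟩)) (.node 1 (.one ⟨12233, 6, 15⟩) (.one ⟨12265, 5, 10⟩)))) (.node 4 (.node 2 (.node 1 (.one ⟨15613, 5, 15⟩) (.one ⟨7892, 3, 15⟩)) (.node 1 (.one ⟨17097, 5, 8⟩) (.one ⟨8839, 6, 14⟩))) (.node 2 (.node 1 (.one ⟨7023, 5, 6⟩) (.one ⟨4237, 6, 11⟩)) (.node 1 (.one ⟨8650, 5, 13⟩) (.one ⟨4471, 1, 15⟩))))) (.node 8 (.node 4 (.node 2 (.node 1 (.one ⟨12283, 5, 16⟩) (.one ⟨7039, 5, 16⟩)) (.node 1 (.one ⟨7536, 5, 13⟩) (.one ⟨9025, 5, 12⟩))) (.node 2 (.node 1 (.one ⟨15734, 0, 15⟩) (.one ⟨4377, 4, 17⟩)) (.node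 1 (.one ⟨12286, 6, 15⟩) (.one ⟨7170, 4, 15⟩)))) (.node 4 (.node 2 (.node 1 (.one ⟨219, 6, 15⟩) (.one ⟨11879, 5, 15⟩)) (.node 1 (.one ⟨16865, 2, 12⟩) (.one ⟨16211, 4, 15⟩))) (.node 2 (.node 1 (.one ⟨7545, 5, 12⟩) (.one ⟨11730, 6, 14⟩)) (.node 1 (.one ⟨6841, 6, 13⟩) (.one ⟨3468, 4, 14⟩)))))) (.node 16 (.node 8 (.node 4 (.node 2 (.node 1 (.one ⟨16457, 6, 16⟩) (.one ⟨8190, 4, 13⟩)) (.node 1 (.one ⟨4371, 2, 16⟩) (.one ⟨4492, 1, 14⟩))) (.node 2 (.node 1 (.one ⟨16713, 5, 15⟩) (.one ⟨16249, 3, 12⟩)) (.node 1 (.one ⟨11721, 6, 12⟩) (.one ⟨12295, 6, 11⟩)))) (.node 4 (.node 2 (.node 1 (.one ⟨16440, 6, 12⟩) (.one ⟨8662, 5, 14⟩)) (.node 1 (.one ⟨7583, 5, 15⟩) (.one ⟨2496, 5, 17⟩))) (.node 2 (.node 1 (.one ⟨16903, 6, 17⟩) (.one ⟨9044, 5, 13⟩))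 (.node 1 (.one ⟨7079, 5, 14⟩) (.one ⟨6617, 4, 13⟩))))) (.node 8 (.node 4 (.node 2 (.node 1 (.one ⟨12971, 5, 13⟩) (.one ⟨14225, 6, 16⟩)) (.node 1 (.one ⟨14777, 6, 12⟩) (.one ⟨10685, 5, 15⟩))) (.node 2 (.node 1 (.one ⟨745, 4, 15⟩) (.one ⟨15857, 6, 15⟩)) (.node 1 (.one ⟨16761, 6, 17⟩) (.one ⟨6021, 4, 13⟩)))) (.node 4 (.node 2 (.node 1 (.one ⟨8957, 5, 16⟩) (.one ⟨3626, 5, 15⟩)) (.node 1 (.one ⟨14804, 6, 13⟩) (.one ⟨15934, 5, 13⟩))) (.node 2 (.node 1 (.one ⟨15298, 3, 15⟩) (.one ⟨7186, 5, 16⟩)) (.node 1 (.one ⟨12616, 1, 14⟩) (.one ⟨6587, 4, 12⟩)))))))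
def par0_12_5 : Arr Par :=
  (.node 32 (.node 16 (.node 8 (.node 4 (.node 2 (.node 1 (.one ⟨2640, 5, 14⟩) (.one ⟨562, 4, 14⟩)) (.node 1 (.one ⟨12957, 5, 14⟩) (.one ⟨15845, 6, 16⟩))) (.node 2 (.node 1 (.one ⟨14249, 6, 17⟩) (.one ⟨14865, 6, 13⟩)) (.node 1 (.one ⟨7957, 5, 17⟩) (.one ⟨14839, 6, 12⟩)))) (.node 4 (.node 2 (.node 1 (.one ⟨2566, 2, 13⟩) (.one ⟨6003, 4, 12⟩)) (.node 1 (.one ⟨15930, 5, 14⟩) (.one ⟨7334, 3, 16⟩))) (.node 2 (.node 1 (.one ⟨17044, 5, 15⟩) (.one ⟨15173, 5, 15⟩)) (.node 1 (.one ⟨6890, 2, 14⟩) (.one ⟨12642, 1, 10⟩))))) (.node 8 (.node 4 (.node 2 (.node 1 (.one ⟨10571, 3, 13⟩) (.one ⟨3262, 2, 16⟩)) (.node 1 (.one ⟨7956, 5, 15⟩) (.one ⟨10773, 3, 11⟩))) (.node 2 (.node 1 (.one ⟨3093, 6, 13⟩) (.one ⟨16301, 5, 15⟩))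 (.node 1 (.one ⟨6982, 5, 16⟩) (.one ⟨11440, 5, 14⟩)))) (.node 4 (.node 2 (.node 1 (.one ⟨8534, 4, 14⟩) (.one ⟨11673, 5, 17⟩)) (.node 1 (.one ⟨8733, 3, 15⟩) (.one ⟨2524, 3, 14⟩))) (.node 2 (.node 1 (.one ⟨937, 4, 17⟩) (.one ⟨523, 3, 15⟩)) (.node 1 (.one ⟨14699, 4, 12⟩) (.one ⟨6804, 6, 15⟩)))))) (.node 16 (.node 8 (.node 4 (.node 2 (.node 1 (.one ⟨7954, 5, 14⟩) (.one ⟨2675, 3, 10⟩)) (.node 1 (.one ⟨9402, 2, 9⟩) (.one ⟨6909, 3, 17⟩))) (.node 2 (.node 1 (.one ⟨8191, 5, 14⟩) (.one ⟨2605, 3, 12⟩)) (.node 1 (.one ⟨14716, 4, 14⟩) (.one ⟨11673, 3, 17⟩)))) (.node 4 (.node 2 (.node 1 (.one ⟨14663, 4, 13⟩) (.one ⟨10617, 3, 13⟩)) (.node 1 (.one ⟨8544, 4, 15⟩) (.one ⟨3417, 5, 13⟩))) (.node 2 (.node 1 (.one ⟨201, 5, 16⟩) (.one ⟨12882, 6, 15⟩))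 (.node 1 (.one ⟨11704, 4, 15⟩) (.one ⟨4534, 4, 15⟩))))) (.node 8 (.node 4 (.node 2 (.node 1 (.one ⟨6754, 6, 12⟩) (.one ⟨10593, 2, 11⟩)) (.node 1 (.one ⟨3063, 6, 16⟩) (.one ⟨6900, 3, 16⟩))) (.node 2 (.node 1 (.one ⟨8886, 0, 13⟩) (.one ⟨914, 3, 13⟩)) (.node 1 (.one ⟨248, 4, 15⟩) (.one ⟨11021, 4, 15⟩)))) (.node 4 (.node 2 (.node 1 (.one ⟨6733, 6, 13⟩) (.one ⟨9822, 6, 15⟩)) (.node 1 (.one ⟨12679, 1, 15⟩) (.one ⟨15836, 6, 16⟩))) (.node 2 (.node 1 (.one ⟨10377, 2, 12⟩) (.one ⟨8629, 6, 15⟩)) (.node 1 (.one ⟨13704, 2, 12⟩) (.one ⟨4547, 4, 14⟩)))))))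
def par0_12_6 : Arr Par :=
  (.node 32 (.node 16 (.node 8 (.node 4 (.node 2 (.node 1 (.one ⟨12942, 5, 16⟩) (.one ⟨997, 4, 16⟩)) (.node 1 (.one ⟨6902, 3, 16⟩) (.one ⟨688, 3, 12⟩))) (.node 2 (.node 1 (.one ⟨14427, 0, 12⟩) (.one ⟨6792, 6, 13⟩)) (.node 1 (.one ⟨12657, 1, 12⟩) (.one ⟨6218, 2, 14⟩)))) (.node 4 (.node 2 (.node 1 (.one ⟨8652, 6, 16⟩) (.one ⟨6822, 6, 12⟩)) (.node 1 (.one ⟨15881, 6, 17⟩) (.one ⟨11054, 4, 16⟩))) (.node 2 (.node 1 (.one ⟨12668, 1, 13⟩) (.one ⟨9834, 6, 14⟩)) (.node 1 (.one ⟨12670, 1, 13⟩) (.one ⟨15810, 6, 15⟩))))) (.node 8 (.node 4 (.node 2 (.node 1 (.one ⟨15297, 3, 16⟩) (.one ⟨1637, 4, 12⟩)) (.node 1 (.one ⟨763, 5, 15⟩) (.one ⟨4894, 2, 14⟩))) (.node 2 (.node 1 (.one ⟨14815, 6, 14⟩) (.one ⟨13461, 5, 14⟩)) (.node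 1 (.one ⟨1737, 3, 11⟩) (.one ⟨15932, 5, 15⟩)))) (.node 4 (.node 2 (.node 1 (.one ⟨8989, 5, 14⟩) (.one ⟨198, 4, 16⟩)) (.node 1 (.one ⟨5986, 4, 12⟩) (.one ⟨14939, 3, 15⟩))) (.node 2 (.node 1 (.one ⟨11181, 6, 11⟩) (.one ⟨489, 3, 16⟩)) (.node 1 (.one ⟨6087, 5, 14⟩) (.one ⟨15888, 6, 16⟩)))))) (.node 16 (.node 8 (.node 4 (.node 2 (.node 1 (.one ⟨14857, 6, 13⟩) (.one ⟨7958, 5, 16⟩)) (.node 1 (.one ⟨1797, 2, 14⟩) (.one ⟨5318, 5, 13⟩))) (.node 2 (.node 1 (.one ⟨158, 5, 14⟩) (.one ⟨1725, 3, 12⟩)) (.node 1 (.one ⟨1616, 4, 13⟩) (.one ⟨5969, 4, 13⟩)))) (.node 4 (.node 2 (.node 1 (.one ⟨14937, 3, 14⟩) (.one ⟨5241, 0, 16⟩)) (.node 1 (.one ⟨11077, 6, 12⟩) (.one ⟨6076, 5, 15⟩))) (.node 2 (.node 1 (.one ⟨15928, 5, 16⟩) (.one ⟨650, 3, 15⟩)) (.node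 1 (.one ⟨17013, 5, 15⟩) (.one ⟨12915, 3, 13⟩))))) (.node 8 (.node 4 (.node 2 (.node 1 (.one ⟨12724, 1, 15⟩) (.one ⟨4910, 3, 14⟩)) (.node 1 (.one ⟨12919, 3, 15⟩) (.one ⟨12929, 3, 14⟩))) (.node 2 (.node 1 (.one ⟨16864, 2, 14⟩) (.one ⟨4887, 3, 13⟩)) (.node 1 (.one ⟨12937, 3, 16⟩) (.one ⟨4620, 4, 14⟩)))) (.node 4 (.node 2 (.node 1 (.one ⟨14753, 6, 16⟩) (.one ⟨4602, 4, 13⟩)) (.node 1 (.one ⟨12947, 3, 16⟩) (.one ⟨13594, 5, 15⟩))) (.node 2 (.node 1 (.one ⟨4856, 3, 12⟩) (.one ⟨12955, 3, 15⟩)) (.node 1 (.one ⟨4878, 3, 13⟩) (.one ⟨2923, 6, 15⟩)))))))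
def par0_12_7 : Arr Par :=
  (.node 32 (.node 16 (.node 8 (.node 4 (.node 2 (.node 1 (.one ⟨8108, 5, 15⟩) (.one ⟨3448, 3, 12⟩)) (.node 1 (.one ⟨13409, 2, 12⟩) (.one ⟨11545, 3, 13⟩))) (.node 2 (.node 1 (.one ⟨12738, 1, 13⟩) (.one ⟨2888, 6, 14⟩)) (.node 1 (.one ⟨8093, 5, 14⟩) (.one ⟨3472, 3, 11⟩)))) (.node 4 (.node 2 (.node 1 (.one ⟨8069, 5, 14⟩) (.one ⟨10982, 6, 14⟩)) (.node 1 (.one ⟨16142, 5, 15⟩) (.one ⟨10944, 6, 13⟩))) (.node 2 (.node 1 (.one ⟨16119, 5, 14⟩) (.one ⟨11505, 3, 12⟩)) (.node 1 (.one ⟨8051, 5, 15⟩) (.one ⟨5312, 2, 14⟩))))) (.node 8 (.node 4 (.node 2 (.node 1 (.one ⟨15441, 5, 16⟩) (.one ⟨16136, 3, 15⟩)) (.node 1 (.one ⟨9721, 4, 16⟩) (.one ⟨16127, 3, 17⟩))) (.node 2 (.node 1 (.one ⟨16125, 3, 14⟩) (.one ⟨7351, 5, 15⟩))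 (.node 1 (.one ⟨15411, 5, 15⟩) (.one ⟨16154, 3, 15⟩)))) (.node 4 (.node 2 (.node 1 (.one ⟨7345, 5, 16⟩) (.one ⟨7378, 5, 15⟩)) (.node 1 (.one ⟨11031, 6, 15⟩) (.one ⟨11006, 6, 16⟩))) (.node 2 (.node 1 (.one ⟨15415, 5, 14⟩) (.one ⟨15450, 5, 15⟩)) (.node 1 (.one ⟨14109, 2, 14⟩) (.one ⟨6393, 3, 13⟩)))))) (.node 16 (.node 8 (.node 4 (.node 2 (.node 1 (.one ⟨14488, 3, 14⟩) (.one ⟨2069, 2, 15⟩)) (.node 1 (.one ⟨9794, 5, 16⟩) (.one ⟨1891, 2, 11⟩))) (.node 2 (.node 1 (.one ⟨12771, 1, 12⟩) (.one ⟨14499, 3, 16⟩)) (.node 1 (.one ⟨5918, 2, 16⟩) (.one ⟨12776, 1, 15⟩)))) (.node 4 (.node 2 (.node 1 (.one ⟨12925, 2, 14⟩) (.one ⟨1926, 4, 15⟩)) (.node 1 (.one ⟨1749, 5, 16⟩) (.one ⟨1934, 4, 17⟩))) (.node 2 (.node 1 (.one ⟨14458, 3, 16⟩) (.one ⟨17021,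 0, 16⟩)) (.node 1 (.one ⟨13697, 0, 15⟩) (.one ⟨17114, 0, 12⟩))))) (.node 8 (.node 4 (.node 2 (.node 1 (.one ⟨6569, 0, 11⟩) (.one ⟨16533, 6, 16⟩)) (.node 1 (.one ⟨16498, 6, 16⟩) (.one ⟨12788, 1, 16⟩))) (.node 2 (.node 1 (.one ⟨5192, 2, 15⟩) (.one ⟨4429, 3, 15⟩)) (.node 1 (.one ⟨12524, 3, 16⟩) (.one ⟨8441, 6, 16⟩)))) (.node 4 (.node 2 (.node 1 (.one ⟨8474, 6, 16⟩) (.one ⟨7602, 4, 14⟩)) (.node 1 (.one ⟨7632, 4, 15⟩) (.one ⟨7658, 4, 14⟩))) (.node 2 (.node 1 (.one ⟨7625, 4, 15⟩) (.one ⟨7014, 5, 15⟩)) (.node 1 (.one ⟨12472, 3, 15⟩) (.one ⟨12806, 1, 16⟩)))))))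
def par0_12_8 : Arr Par :=
  (.node 32 (.node 16 (.node 8 (.node 4 (.node 2 (.node 1 (.one ⟨13202, 0, 14⟩) (.one ⟨12960, 5, 17⟩)) (.node 1 (.one ⟨8892, 3, 12⟩) (.one ⟨16984, 3, 11⟩))) (.node 2 (.node 1 (.one ⟨12946, 5, 16⟩) (.one ⟨2281, 0, 13⟩)) (.node 1 (.one ⟨5110, 2, 15⟩) (.one ⟨5036, 6, 15⟩)))) (.node 4 (.node 2 (.node 1 (.one ⟨6657, 4, 15⟩) (.one ⟨8911, 3, 16⟩)) (.node 1 (.one ⟨16963, 3, 15⟩) (.one ⟨4992, 6, 14⟩))) (.node 2 (.node 1 (.one ⟨13085, 6, 16⟩) (.one ⟨6691, 4, 14⟩)) (.node 1 (.one ⟨12968, 5, 16⟩) (.one ⟨8218, 5, 15⟩))))) (.node 8 (.node 4 (.node 2 (.node 1 (.one ⟨4928, 6, 15⟩) (.one ⟨16246, 5, 16⟩)) (.node 1 (.one ⟨16258, 5, 16⟩) (.one ⟨5430, 0, 12⟩))) (.node 2 (.node 1 (.one ⟨16288, 5, 17⟩) (.one ⟨10773, 0, 11⟩))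 (.node 1 (.one ⟨8205, 5, 17⟩) (.one ⟨16279, 5, 16⟩)))) (.node 4 (.node 2 (.node 1 (.one ⟨15235, 2, 16⟩) (.one ⟨16755, 3, 13⟩)) (.node 1 (.one ⟨15640, 2, 13⟩) (.one ⟨16252, 5, 16⟩))) (.node 2 (.node 1 (.one ⟨6805, 2, 16⟩) (.one ⟨12826, 1, 14⟩)) (.node 1 (.one ⟨16768, 3, 12⟩) (.one ⟨8414, 6, 15⟩)))))) (.node 16 (.node 8 (.node 4 (.node 2 (.node 1 (.one ⟨16486, 6, 15⟩) (.one ⟨14421, 0, 12⟩)) (.node 1 (.one ⟨8405, 6, 16⟩) (.one ⟨8375, 6, 16⟩))) (.node 2 (.node 1 (.one ⟨9666, 4, 15⟩) (.one ⟨8954, 0, 13⟩)) (.node 1 (.one ⟨8368, 6, 15⟩) (.one ⟨16473, 6, 15⟩)))) (.node 4 (.node 2 (.node 1 (.one ⟨4149, 2, 16⟩) (.one ⟨1619, 4, 16⟩)) (.node 1 (.one ⟨16463, 6, 14⟩) (.one ⟨1702, 4, 15⟩))) (.node 2 (.node 1 (.one ⟨16445, 6, 16⟩) (.one ⟨16438,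 6, 15⟩)) (.node 1 (.one ⟨1634, 4, 15⟩) (.one ⟨2797, 4, 11⟩))))) (.node 8 (.node 4 (.node 2 (.node 1 (.one ⟨15153, 3, 14⟩) (.one ⟨8163, 3, 15⟩)) (.node 1 (.one ⟨12905, 3, 14⟩) (.one ⟨845, 5, 14⟩))) (.node 2 (.node 1 (.one ⟨8732, 4, 16⟩) (.one ⟨4963, 4, 14⟩)) (.node 1 (.one ⟨7993, 6, 12⟩) (.one ⟨2743, 4, 12⟩)))) (.node 4 (.node 2 (.node 1 (.one ⟨2694, 3, 13⟩) (.one ⟨13028, 4, 13⟩)) (.node 1 (.one ⟨6899, 5, 15⟩) (.one ⟨12867, 1, 15⟩))) (.node 2 (.node 1 (.one ⟨11921, 4, 14⟩) (.one ⟨11879, 0, 15⟩)) (.node 1 (.one ⟨300, 5, 14⟩) (.one ⟨12992, 4, 12⟩)))))))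
def par0_12_9 : Arr Par :=
  (.node 32 (.node 16 (.node 8 (.node 4 (.node 2 (.node 1 (.one ⟨11842, 4, 13⟩) (.one ⟨2765, 4, 11⟩)) (.node 1 (.one ⟨998, 4, 14⟩) (.one ⟨16000, 2, 14⟩))) (.node 2 (.node 1 (.one ⟨6901, 5, 16⟩) (.one ⟨2904, 0, 16⟩)) (.node 1 (.one ⟨10788, 3, 14⟩) (.one ⟨2775, 4, 12⟩)))) (.node 4 (.node 2 (.node 1 (.one ⟨8001, 6, 13⟩) (.one ⟨254, 5, 15⟩)) (.node 1 (.one ⟨12886, 3, 15⟩) (.one ⟨15811, 6, 16⟩))) (.node 2 (.node 1 (.one ⟨16197, 3, 14⟩) (.one ⟨7200, 3, 13⟩)) (.node 1 (.one ⟨4930, 4, 15⟩) (.one ⟨15346, 2, 16⟩))))) (.node 8 (.node 4 (.node 2 (.node 1 (.one ⟨6900, 5, 16⟩) (.one ⟨10749, 3, 15⟩)) (.node 1 (.one ⟨341, 5, 14⟩) (.one ⟨16782, 4, 15⟩))) (.node 2 (.node 1 (.one ⟨4920, 4, 14⟩) (.one ⟨10813, 4, 15⟩)) (.node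 1 (.one ⟨1629, 0, 14⟩) (.one ⟨14734, 4, 17⟩)))) (.node 4 (.node 2 (.node 1 (.one ⟨808, 5, 14⟩) (.one ⟨11330, 6, 14⟩)) (.node 1 (.one ⟨12990, 4, 14⟩) (.one ⟨3856, 4, 16⟩))) (.node 2 (.node 1 (.one ⟨16791, 4, 14⟩) (.one ⟨5839, 2, 15⟩)) (.node 1 (.one ⟨10156, 5, 15⟩) (.one ⟨3776, 4, 16⟩)))))) (.node 16 (.node 8 (.node 4 (.node 2 (.node 1 (.one ⟨13021, 4, 15⟩) (.one ⟨10049, 5, 14⟩)) (.node 1 (.one ⟨16112, 2, 16⟩) (.one ⟨16808, 4, 15⟩))) (.node 2 (.node 1 (.one ⟨3247, 6, 15⟩) (.one ⟨13060, 5, 16⟩)) (.node 1 (.one ⟨373, 5, 15⟩) (.one ⟨8151, 3, 15⟩)))) (.node 4 (.node 2 (.node 1 (.one ⟨790, 5, 15⟩) (.one ⟨5101, 0, 13⟩)) (.node 1 (.one ⟨16762, 4, 14⟩) (.one ⟨10367, 2, 14⟩))) (.node 2 (.node 1 (.one ⟨4953, 4, 13⟩) (.one ⟨6902, 5, 16⟩)) (.node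 1 (.one ⟨2712, 3, 14⟩) (.one ⟨4714, 5, 16⟩))))) (.node 8 (.node 4 (.node 2 (.node 1 (.one ⟨6594, 2, 16⟩) (.one ⟨776, 5, 15⟩)) (.node 1 (.one ⟨10001, 4, 16⟩) (.one ⟨12049, 5, 12⟩))) (.node 2 (.node 1 (.one ⟨4118, 5, 16⟩) (.one ⟨11230, 5, 13⟩)) (.node 1 (.one ⟨4579, 2, 16⟩) (.one ⟨14873, 4, 14⟩)))) (.node 4 (.node 2 (.node 1 (.one ⟨12086, 5, 13⟩) (.one ⟨14089, 2, 14⟩)) (.node 1 (.one ⟨5466, 3, 17⟩) (.one ⟨9004, 0, 15⟩))) (.node 2 (.node 1 (.one ⟨120, 5, 15⟩) (.one ⟨14439, 3, 13⟩)) (.node 1 (.one ⟨16605, 3, 14⟩) (.one ⟨12194, 5, 15⟩)))))))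
def par0_12_10 : Arr Par :=
  (.node 32 (.node 16 (.node 8 (.node 4 (.node 2 (.node 1 (.one ⟨9973, 4, 15⟩) (.one ⟨4014, 5, 13⟩)) (.node 1 (.one ⟨302, 5, 14⟩) (.one ⟨4712, 5, 15⟩))) (.node 2 (.node 1 (.one ⟨3174, 5, 14⟩) (.one ⟨12921, 5, 15⟩)) (.node 1 (.one ⟨5433, 3, 15⟩) (.one ⟨4038, 5, 12⟩)))) (.node 4 (.node 2 (.node 1 (.one ⟨16621, 3, 15⟩) (.one ⟨14770, 4, 15⟩)) (.node 1 (.one ⟨6338, 3, 14⟩) (.one ⟨12921, 1, 15⟩))) (.node 2 (.node 1 (.one ⟨13895, 0, 14⟩) (.one ⟨7978, 6, 16⟩)) (.node 1 (.one ⟨5992, 3, 15⟩) (.one ⟨1917, 4, 15⟩))))) (.node 8 (.node 4 (.node 2 (.node 1 (.one ⟨271, 2, 13⟩) (.one ⟨917, 3, 12⟩)) (.node 1 (.one ⟨5455, 3, 15⟩) (.one ⟨6804, 4, 15⟩))) (.node 2 (.node 1 (.one ⟨10771, 3, 13⟩) (.one ⟨807, 2, 12⟩)) (.node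 1 (.one ⟨14946, 4, 14⟩) (.one ⟨686, 3, 12⟩)))) (.node 4 (.node 2 (.node 1 (.one ⟨1826, 4, 16⟩) (.one ⟨16680, 3, 14⟩)) (.node 1 (.one ⟨13442, 6, 15⟩) (.one ⟨6708, 4, 14⟩))) (.node 2 (.node 1 (.one ⟨12180, 5, 13⟩) (.one ⟨271, 5, 13⟩)) (.node 1 (.one ⟨10010, 4, 16⟩) (.one ⟨2677, 3, 12⟩)))))) (.node 16 (.node 8 (.node 4 (.node 2 (.node 1 (.one ⟨13489, 3, 16⟩) (.one ⟨12965, 2, 12⟩)) (.node 1 (.one ⟨14949, 4, 15⟩) (.one ⟨12959, 2, 13⟩))) (.node 2 (.node 1 (.one ⟨5596, 6, 16⟩) (.one ⟨14392, 3, 11⟩)) (.node 1 (.one ⟨1944, 4, 16⟩) (.one ⟨4128, 5, 12⟩)))) (.node 4 (.node 2 (.node 1 (.one ⟨1816, 4, 15⟩) (.one ⟨880, 3, 13⟩)) (.node 1 (.one ⟨6811, 4, 15⟩) (.one ⟨807, 5, 12⟩))) (.node 2 (.node 1 (.one ⟨16665, 3, 15⟩) (.one ⟨4899, 5, 15⟩)) (.node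 1 (.one ⟨9980, 4, 15⟩) (.one ⟨2374, 3, 16⟩))))) (.node 8 (.node 4 (.node 2 (.node 1 (.one ⟨16544, 3, 15⟩) (.one ⟨11355, 3, 14⟩)) (.node 1 (.one ⟨4456, 2, 17⟩) (.one ⟨15799, 6, 14⟩))) (.node 2 (.node 1 (.one ⟨13774, 3, 15⟩) (.one ⟨12049, 3, 12⟩)) (.node 1 (.one ⟨6766, 3, 15⟩) (.one ⟨12725, 5, 14⟩)))) (.node 4 (.node 2 (.node 1 (.one ⟨5601, 2, 17⟩) (.one ⟨8984, 5, 14⟩)) (.node 1 (.one ⟨248, 5, 15⟩) (.one ⟨3468, 6, 14⟩))) (.node 2 (.node 1 (.one ⟨13334, 6, 11⟩) (.one ⟨14664, 5, 15⟩)) (.node 1 (.one ⟨12186, 5, 13⟩) (.one ⟨3336, 3, 13⟩)))))))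
def par0_12_11 : Arr Par :=
  (.node 32 (.node 16 (.node 8 (.node 4 (.node 2 (.node 1 (.one ⟨4108, 5, 11⟩) (.one ⟨13030, 1, 14⟩)) (.node 1 (.one ⟨5234, 6, 14⟩) (.one ⟨14406, 5, 13⟩))) (.node 2 (.node 1 (.one ⟨2908, 0, 16⟩) (.one ⟨5327, 2, 14⟩)) (.node 1 (.one ⟨6633, 5, 13⟩) (.one ⟨14142, 4, 15⟩)))) (.node 4 (.node 2 (.node 1 (.one ⟨5800, 3, 16⟩) (.one ⟨7818, 6, 15⟩)) (.node 1 (.one ⟨6342, 5, 16⟩) (.one ⟨17019, 2, 16⟩))) (.node 2 (.node 1 (.one ⟨5460, 6, 15⟩) (.one ⟨13032, 1, 16⟩)) (.node 1 (.one ⟨16675, 4, 14⟩) (.one ⟨3340, 5, 14⟩))))) (.node 8 (.node 4 (.node 2 (.node 1 (.one ⟨3303, 3, 13⟩) (.one ⟨7704, 5, 17⟩)) (.node 1 (.one ⟨15915, 6, 15⟩) (.one ⟨14046, 4, 16⟩))) (.node 2 (.node 1 (.one ⟨6786, 3, 14⟩) (.one ⟨4014, 3, 13⟩)) (.node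 1 (.one ⟨16515, 3, 14⟩) (.one ⟨17010, 5, 13⟩)))) (.node 4 (.node 2 (.node 1 (.one ⟨14697, 5, 16⟩) (.one ⟨12721, 5, 15⟩)) (.node 1 (.one ⟨11562, 6, 13⟩) (.one ⟨5280, 6, 12⟩))) (.node 2 (.node 1 (.one ⟨6326, 5, 17⟩) (.one ⟨4139, 5, 14⟩)) (.node 1 (.one ⟨15849, 6, 16⟩) (.one ⟨6602, 5, 14⟩)))))) (.node 16 (.node 8 (.node 4 (.node 2 (.node 1 (.one ⟨4021, 0, 15⟩) (.one ⟨14109, 4, 14⟩)) (.node 1 (.one ⟨41, 5, 15⟩) (.one ⟨13312, 6, 15⟩))) (.node 2 (.node 1 (.one ⟨12157, 5, 12⟩) (.one ⟨11387, 3, 12⟩)) (.node 1 (.one ⟨15648, 2, 13⟩) (.one ⟨439, 2, 16⟩)))) (.node 4 (.node 2 (.node 1 (.one ⟨232, 2, 15⟩) (.one ⟨14442, 5, 15⟩)) (.node 1 (.one ⟨560, 2, 16⟩) (.one ⟨13494, 6, 14⟩))) (.node 2 (.node 1 (.one ⟨9000, 5, 14⟩) (.one ⟨7772, 6, 14⟩)) (.node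 1 (.one ⟨14157, 4, 16⟩) (.one ⟨6802, 4, 16⟩))))) (.node 8 (.node 4 (.node 2 (.node 1 (.one ⟨1031, 5, 13⟩) (.one ⟨1312, 2, 11⟩)) (.node 1 (.one ⟨4484, 5, 11⟩) (.one ⟨7869, 6, 15⟩))) (.node 2 (.node 1 (.one ⟨11122, 3, 16⟩) (.one ⟨1164, 4, 15⟩)) (.node 1 (.one ⟨6827, 4, 13⟩) (.one ⟨7208, 6, 11⟩)))) (.node 4 (.node 2 (.node 1 (.one ⟨216, 5, 15⟩) (.one ⟨6703, 5, 16⟩)) (.node 1 (.one ⟨1907, 3, 16⟩) (.one ⟨1026, 6, 16⟩))) (.node 2 (.node 1 (.one ⟨12037, 5, 15⟩) (.one ⟨13084, 1, 13⟩)) (.node 1 (.one ⟨4934, 2, 15⟩) (.one ⟨13712, 3, 16⟩)))))))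
def par0_12_12 : Arr Par :=
  (.node 32 (.node 16 (.node 8 (.node 4 (.node 2 (.node 1 (.one ⟨13092, 1, 17⟩) (.one ⟨11887, 4, 13⟩)) (.node 1 (.one ⟨2651, 2, 15⟩) (.one ⟨14790, 4, 15⟩))) (.node 2 (.node 1 (.one ⟨6795, 3, 15⟩) (.one ⟨12538, 5, 12⟩)) (.node 1 (.one ⟨15107, 2, 15⟩) (.one ⟨4883, 0, 15⟩)))) (.node 4 (.node 2 (.node 1 (.one ⟨1917, 3, 15⟩) (.one ⟨14776, 5, 16⟩)) (.node 1 (.one ⟨6904, 0, 14⟩) (.one ⟨6779, 4, 14⟩))) (.node 2 (.node 1 (.one ⟨6709, 0, 9⟩) (.one ⟨11850, 3, 14⟩)) (.node 1 (.one ⟨8953, 5, 14⟩) (.one ⟨413, 5, 14⟩))))) (.node 8 (.node 4 (.node 2 (.node 1 (.one ⟨7864, 6, 16⟩) (.one ⟨13041, 1, 12⟩)) (.node 1 (.one ⟨6719, 4, 14⟩) (.one ⟨1165, 4, 16⟩))) (.node 2 (.node 1 (.one ⟨12583, 5, 12⟩) (.one ⟨3873, 4, 16⟩)) (.node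 1 (.one ⟨11304, 6, 15⟩) (.one ⟨17173, 5, 14⟩)))) (.node 4 (.node 2 (.node 1 (.one ⟨676, 5, 14⟩) (.one ⟨3960, 5, 15⟩)) (.node 1 (.one ⟨1937, 3, 15⟩) (.one ⟨15159, 6, 12⟩))) (.node 2 (.node 1 (.one ⟨7166, 2, 12⟩) (.one ⟨6812, 5, 15⟩)) (.node 1 (.one ⟨12550, 5, 16⟩) (.one ⟨11871, 4, 14⟩)))))) (.node 16 (.node 8 (.node 4 (.node 2 (.node 1 (.one ⟨13686, 3, 15⟩) (.one ⟨4501, 5, 13⟩)) (.node 1 (.one ⟨14889, 4, 16⟩) (.one ⟨8591, 2, 16⟩))) (.node 2 (.node 1 (.one ⟨15404, 2, 16⟩) (.one ⟨13062, 1, 16⟩)) (.node 1 (.one ⟨2026, 5, 15⟩) (.one ⟨14864, 5, 17⟩)))) (.node 4 (.node 2 (.node 1 (.one ⟨10572, 0, 14⟩) (.one ⟨15757, 0, 13⟩)) (.node 1 (.one ⟨14990, 5, 16⟩) (.one ⟨17041, 5, 13⟩))) (.node 2 (.node 1 (.one ⟨8260, 0, 10⟩) (.one ⟨12, 0, 14⟩))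 (.node 1 (.one ⟨6737, 4, 13⟩) (.one ⟨13540, 4, 12⟩))))) (.node 8 (.node 4 (.node 2 (.node 1 (.one ⟨15262, 4, 13⟩) (.one ⟨8271, 4, 9⟩)) (.node 1 (.one ⟨2417, 4, 15⟩) (.one ⟨13916, 5, 13⟩))) (.node 2 (.node 1 (.one ⟨5058, 1, 15⟩) (.one ⟨4483, 6, 15⟩)) (.node 1 (.one ⟨3694, 5, 14⟩) (.one ⟨3734, 2, 11⟩)))) (.node 4 (.node 2 (.node 1 (.one ⟨2234, 3, 14⟩) (.one ⟨12572, 6, 13⟩)) (.node 1 (.one ⟨3456, 5, 14⟩) (.one ⟨2765, 6, 11⟩))) (.node 2 (.node 1 (.one ⟨11946, 3, 17⟩) (.one ⟨15160, 4, 14⟩)) (.node 1 (.one ⟨13825, 0, 16⟩) (.one ⟨10120, 6, 12⟩)))))))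
def par0_12_13 : Arr Par :=
  (.node 32 (.node 16 (.node 8 (.node 4 (.node 2 (.node 1 (.one ⟨15898, 5, 16⟩) (.one ⟨11528, 5, 12⟩)) (.node 1 (.one ⟨7198, 4, 14⟩) (.one ⟨12577, 6, 14⟩))) (.node 2 (.node 1 (.one ⟨12684, 0, 14⟩) (.one ⟨10345, 3, 14⟩)) (.node 1 (.one ⟨7780, 3, 15⟩) (.one ⟨5466, 4, 17⟩)))) (.node 4 (.node 2 (.node 1 (.one ⟨14331, 4, 15⟩) (.one ⟨10299, 3, 15⟩)) (.node 1 (.one ⟨13589, 6, 12⟩) (.one ⟨2020, 6, 11⟩))) (.node 2 (.node 1 (.one ⟨4478, 6, 15⟩) (.one ⟨10826, 6, 14⟩)) (.node 1 (.one ⟨7096, 4, 12⟩) (.one ⟨16318, 4, 13⟩))))) (.node 8 (.node 4 (.node 2 (.node 1 (.one ⟨13488, 5, 16⟩) (.one ⟨5094, 1, 16⟩)) (.node 1 (.one ⟨4414, 4, 12⟩) (.one ⟨10338, 3, 14⟩))) (.node 2 (.node 1 (.one ⟨1972, 6, 15⟩) (.one ⟨5043, 3, 14⟩))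 (.node 1 (.one ⟨7175, 4, 14⟩) (.one ⟨3674, 5, 13⟩)))) (.node 4 (.node 2 (.node 1 (.one ⟨10136, 6, 11⟩) (.one ⟨7150, 4, 12⟩)) (.node 1 (.one ⟨5097, 1, 16⟩) (.one ⟨7835, 5, 14⟩))) (.node 2 (.node 1 (.one ⟨9238, 2, 11⟩) (.one ⟨4510, 6, 15⟩)) (.node 1 (.one ⟨8249, 4, 11⟩) (.one ⟨2023, 6, 11⟩)))))) (.node 16 (.node 8 (.node 4 (.node 2 (.node 1 (.one ⟨12525, 4, 15⟩) (.one ⟨15240, 4, 14⟩)) (.node 1 (.one ⟨4518, 6, 15⟩) (.one ⟨5078, 1, 14⟩))) (.node 2 (.node 1 (.one ⟨5077, 1, 10⟩) (.one ⟨11758, 5, 14⟩)) (.node 1 (.one ⟨15803, 5, 14⟩) (.one ⟨12486, 4, 10⟩)))) (.node 4 (.node 2 (.node 1 (.one ⟨9977, 5, 15⟩) (.one ⟨16321, 4, 8⟩)) (.node 1 (.one ⟨9863, 2, 16⟩) (.one ⟨6748, 3, 15⟩))) (.node 2 (.node 1 (.one ⟨15209, 4, 11⟩) (.one ⟨11037, 2, 13⟩))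 (.node 1 (.one ⟨3011, 6, 11⟩) (.one ⟨5132, 1, 14⟩))))) (.node 8 (.node 4 (.node 2 (.node 1 (.one ⟨5189, 4, 15⟩) (.one ⟨5134, 1, 13⟩)) (.node 1 (.one ⟨13156, 6, 11⟩) (.one ⟨12655, 5, 16⟩))) (.node 2 (.node 1 (.one ⟨15802, 5, 14⟩) (.one ⟨11755, 5, 13⟩)) (.node 1 (.one ⟨6823, 3, 11⟩) (.one ⟨17141, 4, 14⟩)))) (.node 4 (.node 2 (.node 1 (.one ⟨8858, 4, 16⟩) (.one ⟨14807, 3, 10⟩)) (.node 1 (.one ⟨11373, 2, 11⟩) (.one ⟨14643, 2, 13⟩))) (.node 2 (.node 1 (.one ⟨3314, 4, 16⟩) (.one ⟨2327, 2, 14⟩)) (.node 1 (.one ⟨14490, 2, 13⟩) (.one ⟨4642, 5, 16⟩)))))))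
def par0_12_14 : Arr Par :=
  (.node 32 (.node 16 (.node 8 (.node 4 (.node 2 (.node 1 (.one ⟨12495, 2, 16⟩) (.one ⟨11902, 5, 14⟩)) (.node 1 (.one ⟨4558, 2, 14⟩) (.one ⟨10970, 6, 16⟩))) (.node 2 (.node 1 (.one ⟨7525, 4, 13⟩) (.one ⟨5116, 1, 14⟩)) (.node 1 (.one ⟨15902, 5, 15⟩) (.one ⟨17078, 3, 15⟩)))) (.node 4 (.node 2 (.node 1 (.one ⟨3836, 5, 11⟩) (.one ⟨6744, 3, 12⟩)) (.node 1 (.one ⟨4914, 3, 12⟩) (.one ⟨9031, 2, 14⟩))) (.node 2 (.node 1 (.one ⟨5696, 3, 6⟩) (.one ⟨5105, 1, 14⟩)) (.node 1 (.one ⟨13161, 6, 9⟩) (.one ⟨551, 6, 15⟩))))) (.node 8 (.node 4 (.node 2 (.node 1 (.one ⟨11755, 3, 13⟩) (.one ⟨16748, 5, 15⟩)) (.node 1 (.one ⟨5165, 1, 13⟩) (.one ⟨4593, 5, 16⟩))) (.node 2 (.node 1 (.one ⟨5160, 1, 14⟩) (.one ⟨15691, 5, 15⟩)) (.node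 1 (.one ⟨13200, 2, 14⟩) (.one ⟨14795, 3, 15⟩)))) (.node 4 (.node 2 (.node 1 (.one ⟨2302, 2, 13⟩) (.one ⟨13105, 6, 10⟩)) (.node 1 (.one ⟨4547, 5, 14⟩) (.one ⟨5572, 6, 17⟩))) (.node 2 (.node 1 (.one ⟨5263, 4, 16⟩) (.one ⟨11853, 5, 15⟩)) (.node 1 (.one ⟨13499, 4, 16⟩) (.one ⟨3884, 5, 16⟩)))))) (.node 16 (.node 8 (.node 4 (.node 2 (.node 1 (.one ⟨7822, 5, 15⟩) (.one ⟨3640, 5, 16⟩)) (.node 1 (.one ⟨4965, 3, 14⟩) (.one ⟨14839, 3, 12⟩))) (.node 2 (.node 1 (.one ⟨13861, 3, 16⟩) (.one ⟨8270, 3, 14⟩)) (.node 1 (.one ⟨17193, 4, 14⟩) (.one ⟨13506, 4, 15⟩)))) (.node 4 (.node 2 (.node 1 (.one ⟨7629, 5, 13⟩) (.one ⟨7500, 4, 11⟩)) (.node 1 (.one ⟨8675, 5, 13⟩) (.one ⟨9088, 4, 15⟩))) (.node 2 (.node 1 (.one ⟨4177, 6, 15⟩) (.one ⟨5135, 1, 14⟩)) (.node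 1 (.one ⟨5562, 6, 14⟩) (.one ⟨4148, 5, 14⟩))))) (.node 8 (.node 4 (.node 2 (.node 1 (.one ⟨17108, 4, 16⟩) (.one ⟨6233, 4, 14⟩)) (.node 1 (.one ⟨5019, 6, 14⟩) (.one ⟨10882, 5, 10⟩))) (.node 2 (.node 1 (.one ⟨12606, 6, 15⟩) (.one ⟨8020, 5, 13⟩)) (.node 1 (.one ⟨12509, 2, 14⟩) (.one ⟨12012, 4, 15⟩)))) (.node 4 (.node 2 (.node 1 (.one ⟨5674, 6, 15⟩) (.one ⟨17153, 3, 13⟩)) (.node 1 (.one ⟨12434, 4, 13⟩) (.one ⟨3671, 3, 13⟩))) (.node 2 (.node 1 (.one ⟨16594, 5, 14⟩) (.one ⟨15836, 3, 16⟩)) (.node 1 (.one ⟨5558, 6, 15⟩) (.one ⟨6449, 4, 16⟩)))))))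
def par0_12_15 : Arr Par :=
  (.node 32 (.node 16 (.node 8 (.node 4 (.node 2 (.node 1 (.one ⟨10915, 5, 15⟩) (.one ⟨13503, 5, 16⟩)) (.node 1 (.one ⟨15099, 2, 12⟩) (.one ⟨1610, 6, 12⟩))) (.node 2 (.node 1 (.one ⟨4915, 6, 10⟩) (.one ⟨10380, 4, 11⟩)) (.node 1 (.one ⟨7288, 5, 12⟩) (.one ⟨16707, 2, 13⟩)))) (.node 4 (.node 2 (.node 1 (.one ⟨4186, 5, 15⟩) (.one ⟨9998, 3, 15⟩)) (.node 1 (.one ⟨3914, 4, 14⟩) (.one ⟨7800, 0, 10⟩))) (.node 2 (.node 1 (.one ⟨13918, 3, 12⟩) (.one ⟨1752, 0, 12⟩)) (.node 1 (.one ⟨15359, 0, 16⟩) (.one ⟨3876, 2, 12⟩))))) (.node 8 (.node 4 (.node 2 (.node 1 (.one ⟨6484, 4, 14⟩) (.one ⟨16048, 5, 14⟩)) (.node 1 (.one ⟨13224, 4, 14⟩) (.one ⟨13416, 4, 16⟩))) (.node 2 (.node 1 (.one ⟨9966, 6, 15⟩) (.one ⟨767, 6, 13⟩))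 (.node 1 (.one ⟨10386, 4, 14⟩) (.one ⟨4200, 5, 10⟩)))) (.node 4 (.node 2 (.node 1 (.one ⟨7526, 3, 16⟩) (.one ⟨4438, 5, 16⟩)) (.node 1 (.one ⟨7350, 2, 15⟩) (.one ⟨9855, 5, 13⟩))) (.node 2 (.node 1 (.one ⟨3920, 4, 14⟩) (.one ⟨3961, 4, 13⟩)) (.node 1 (.one ⟨12400, 4, 14⟩) (.one ⟨8617, 5, 13⟩)))))) (.node 16 (.node 8 (.node 4 (.node 2 (.node 1 (.one ⟨15860, 3, 13⟩) (.one ⟨3321, 3, 15⟩)) (.node 1 (.one ⟨11915, 2, 16⟩) (.one ⟨14549, 4, 16⟩))) (.node 2 (.node 1 (.one ⟨5871, 3, 13⟩) (.one ⟨2288, 4, 15⟩)) (.node 1 (.one ⟨15192, 2, 15⟩) (.one ⟨12233, 5, 15⟩)))) (.node 4 (.node 2 (.node 1 (.one ⟨5916, 3, 12⟩) (.one ⟨9116, 3, 14⟩)) (.node 1 (.one ⟨5213, 1, 16⟩) (.one ⟨15342, 4, 16⟩))) (.node 2 (.node 1 (.one ⟨1938, 3, 14⟩) (.one ⟨11957, 4,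 14⟩)) (.node 1 (.one ⟨3694, 2, 14⟩) (.one ⟨8034, 5, 14⟩))))) (.node 8 (.node 4 (.node 2 (.node 1 (.one ⟨10412, 4, 15⟩) (.one ⟨12226, 5, 17⟩)) (.node 1 (.one ⟨1652, 5, 15⟩) (.one ⟨5829, 3, 16⟩))) (.node 2 (.node 1 (.one ⟨5466, 5, 17⟩) (.one ⟨6218, 4, 14⟩)) (.node 1 (.one ⟨16601, 5, 14⟩) (.one ⟨7516, 3, 14⟩)))) (.node 4 (.node 2 (.node 1 (.one ⟨6806, 2, 10⟩) (.one ⟨3783, 2, 16⟩)) (.node 1 (.one ⟨3945, 4, 15⟩) (.one ⟨16441, 6, 15⟩))) (.node 2 (.node 1 (.one ⟨5655, 6, 14⟩) (.one ⟨432, 6, 13⟩)) (.node 1 (.one ⟨7577, 2, 15⟩) (.one ⟨8537, 5, 15⟩)))))))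
def par0_12 : Arr Par :=
  (.node 512 (.node 256 (.node 128 (.node 64 par0_12_0 par0_12_1) (.node 64 par0_12_2 par0_12_3)) (.node 128 (.node 64 par0_12_4 par0_12_5) (.node 64 par0_12_6 par0_12_7))) (.node 256 (.node 128 (.node 64 par0_12_8 par0_12_9) (.node 64 par0_12_10 par0_12_11)) (.node 128 (.node 64 par0_12_12 par0_12_13) (.node 64 par0_12_14 par0_12_15))))
def par0_13_0 : Arr Par :=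
  (.node 32 (.node 16 (.node 8 (.node 4 (.node 2 (.node 1 (.one ⟨5234, 1, 14⟩) (.one ⟨15370, 5, 16⟩)) (.node 1 (.one ⟨9712, 5, 16⟩) (.one ⟨10898, 5, 12⟩))) (.node 2 (.node 1 (.one ⟨2313, 4, 15⟩) (.one ⟨5446, 5, 13⟩)) (.node 1 (.one ⟨8001, 5, 13⟩) (.one ⟨12266, 5, 12⟩)))) (.node 4 (.node 2 (.node 1 (.one ⟨7293, 4, 16⟩) (.one ⟨11977, 4, 12⟩)) (.node 1 (.one ⟨9124, 3, 17⟩) (.one ⟨11243, 2, 14⟩))) (.node 2 (.node 1 (.one ⟨2770, 2, 14⟩) (.one ⟨4342, 4, 15⟩)) (.node 1 (.one ⟨5899, 3, 12⟩) (.one ⟨2832, 5, 11⟩))))) (.node 8 (.node 4 (.node 2 (.node 1 (.one ⟨2324, 4, 14⟩) (.one ⟨6252, 4, 15⟩)) (.node 1 (.one ⟨12712, 6, 15⟩) (.one ⟨5455, 5, 15⟩))) (.node 2 (.node 1 (.one ⟨7808, 3, 15⟩) (.one ⟨1642, 6, 14⟩)) (.node 1 (.one ⟨4178, 5, 10⟩) (.one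 ⟨13336, 2, 11⟩)))) (.node 4 (.node 2 (.node 1 (.one ⟨13995, 3, 10⟩) (.one ⟨9752, 5, 16⟩)) (.node 1 (.one ⟨13587, 0, 16⟩) (.one ⟨5216, 3, 14⟩))) (.node 2 (.node 1 (.one ⟨12248, 5, 13⟩) (.one ⟨13342, 2, 14⟩)) (.node 1 (.one ⟨1950, 3, 13⟩) (.one ⟨5485, 2, 11⟩)))))) (.node 16 (.node 8 (.node 4 (.node 2 (.node 1 (.one ⟨4008, 3, 14⟩) (.one ⟨5265, 1, 16⟩)) (.node 1 (.one ⟨5209, 3, 14⟩) (.one ⟨9032, 4, 15⟩))) (.node 2 (.node 1 (.one ⟨7321, 5, 16⟩) (.one ⟨12638, 6, 13⟩)) (.node 1 (.one ⟨7778, 3, 14⟩) (.one ⟨11408, 3, 15⟩)))) (.node 4 (.node 2 (.node 1 (.one ⟨13902, 3, 13⟩) (.one ⟨4153, 5, 16⟩)) (.node 1 (.one ⟨784, 2, 14⟩) (.one ⟨8607, 5, 14⟩))) (.node 2 (.node 1 (.one ⟨10012, 3, 15⟩) (.one ⟨7243, 4, 15⟩)) (.node 1 (.one ⟨3888, 4, 14⟩) (.one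 ⟨271, 6, 13⟩))))) (.node 8 (.node 4 (.node 2 (.node 1 (.one ⟨7382, 4, 14⟩) (.one ⟨5407, 1, 16⟩)) (.node 1 (.one ⟨11799, 2, 13⟩) (.one ⟨11440, 3, 14⟩))) (.node 2 (.node 1 (.one ⟨5408, 1, 12⟩) (.one ⟨4203, 4, 11⟩)) (.node 1 (.one ⟨2840, 5, 16⟩) (.one ⟨8295, 6, 14⟩)))) (.node 4 (.node 2 (.node 1 (.one ⟨12851, 3, 15⟩) (.one ⟨11436, 4, 15⟩)) (.node 1 (.one ⟨4098, 2, 15⟩) (.one ⟨11985, 4, 14⟩))) (.node 2 (.node 1 (.one ⟨16053, 5, 16⟩) (.one ⟨13334, 4, 11⟩)) (.node 1 (.one ⟨5415, 1, 15⟩) (.one ⟨3972, 6, 15⟩)))))))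
def par0_13_1 : Arr Par :=
  (.node 32 (.node 16 (.node 8 (.node 4 (.node 2 (.node 1 (.one ⟨660, 3, 10⟩) (.one ⟨13128, 5, 16⟩)) (.node 1 (.one ⟨6347, 3, 13⟩) (.one ⟨11189, 6, 13⟩))) (.node 2 (.node 1 (.one ⟨1951, 5, 15⟩) (.one ⟨3942, 5, 13⟩)) (.node 1 (.one ⟨12469, 5, 15⟩) (.one ⟨6894, 3, 15⟩)))) (.node 4 (.node 2 (.node 1 (.one ⟨16055, 5, 16⟩) (.one ⟨16458, 5, 16⟩)) (.node 1 (.one ⟨7499, 6, 15⟩) (.one ⟨16261, 4, 15⟩))) (.node 2 (.node 1 (.one ⟨16301, 3, 15⟩) (.one ⟨12800, 6, 15⟩)) (.node 1 (.one ⟨13589, 3, 12⟩) (.one ⟨5376, 1, 15⟩))))) (.node 8 (.node 4 (.node 2 (.node 1 (.one ⟨76, 3, 14⟩) (.one ⟨14429, 3, 14⟩)) (.node 1 (.one ⟨11265, 6, 15⟩) (.one ⟨12015, 6, 15⟩))) (.node 2 (.node 1 (.one ⟨6136, 3, 12⟩) (.one ⟨120, 6, 15⟩)) (.node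 1 (.one ⟨4932, 2, 15⟩) (.one ⟨7994, 3, 15⟩)))) (.node 4 (.node 2 (.node 1 (.one ⟨12040, 0, 11⟩) (.one ⟨16043, 0, 14⟩)) (.node 1 (.one ⟨2510, 3, 16⟩) (.one ⟨5509, 3, 12⟩))) (.node 2 (.node 1 (.one ⟨8646, 5, 16⟩) (.one ⟨8179, 4, 15⟩)) (.node 1 (.one ⟨15677, 5, 18⟩) (.one ⟨5092, 5, 16⟩)))))) (.node 16 (.node 8 (.node 4 (.node 2 (.node 1 (.one ⟨11214, 6, 8⟩) (.one ⟨3423, 3, 11⟩)) (.node 1 (.one ⟨2931, 5, 10⟩) (.one ⟨14407, 3, 4⟩))) (.node 2 (.node 1 (.one ⟨14975, 3, 15⟩) (.one ⟨121, 6, 9⟩)) (.node 1 (.one ⟨3962, 6, 16⟩) (.one ⟨16391, 6, 5⟩)))) (.node 4 (.node 2 (.node 1 (.one ⟨5370, 1, 15⟩) (.one ⟨8231, 3, 16⟩)) (.node 1 (.one ⟨7569, 5, 12⟩) (.one ⟨11374, 4, 11⟩))) (.node 2 (.node 1 (.one ⟨12725, 2, 14⟩) (.one ⟨12803, 6, 12⟩)) (.node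 1 (.one ⟨5520, 3, 10⟩) (.one ⟨3434, 3, 14⟩))))) (.node 8 (.node 4 (.node 2 (.node 1 (.one ⟨4105, 4, 13⟩) (.one ⟨4221, 4, 12⟩)) (.node 1 (.one ⟨12793, 6, 15⟩) (.one ⟨11051, 2, 13⟩))) (.node 2 (.node 1 (.one ⟨2495, 4, 16⟩) (.one ⟨2356, 4, 15⟩)) (.node 1 (.one ⟨14402, 3, 15⟩) (.one ⟨3336, 4, 13⟩)))) (.node 4 (.node 2 (.node 1 (.one ⟨8347, 6, 18⟩) (.one ⟨15585, 6, 15⟩)) (.node 1 (.one ⟨13878, 2, 14⟩) (.one ⟨6350, 4, 15⟩))) (.node 2 (.node 1 (.one ⟨7065, 2, 14⟩) (.one ⟨2312, 4, 12⟩)) (.node 1 (.one ⟨8195, 4, 14⟩) (.one ⟨1643, 6, 16⟩)))))))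
def par0_13_2 : Arr Par :=
  (.node 32 (.node 16 (.node 8 (.node 4 (.node 2 (.node 1 (.one ⟨11219, 6, 10⟩) (.one ⟨2559, 4, 15⟩)) (.node 1 (.one ⟨10991, 5, 14⟩) (.one ⟨5330, 1, 13⟩))) (.node 2 (.node 1 (.one ⟨5334, 1, 16⟩) (.one ⟨2503, 3, 14⟩)) (.node 1 (.one ⟨12487, 5, 15⟩) (.one ⟨9659, 6, 13⟩)))) (.node 4 (.node 2 (.node 1 (.one ⟨16721, 5, 16⟩) (.one ⟨5342, 1, 16⟩)) (.node 1 (.one ⟨15498, 5, 15⟩) (.one ⟨16403, 6, 14⟩))) (.node 2 (.node 1 (.one ⟨15692, 5, 16⟩) (.one ⟨14462, 5, 13⟩)) (.node 1 (.one ⟨5336, 1, 16⟩) (.one ⟨5313, 1, 15⟩))))) (.node 8 (.node 4 (.node 2 (.node 1 (.one ⟨925, 3, 14⟩) (.one ⟨302, 6, 14⟩)) (.node 1 (.one ⟨3204, 6, 15⟩) (.one ⟨13155, 5, 15⟩))) (.node 2 (.node 1 (.one ⟨13528, 5, 12⟩) (.one ⟨3173, 6, 13⟩)) (.node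 1 (.one ⟨1937, 5, 15⟩) (.one ⟨3368, 4, 13⟩)))) (.node 4 (.node 2 (.node 1 (.one ⟨8352, 6, 13⟩) (.one ⟨4817, 3, 14⟩)) (.node 1 (.one ⟨5837, 2, 15⟩) (.one ⟨9644, 0, 15⟩))) (.node 2 (.node 1 (.one ⟨12808, 6, 16⟩) (.one ⟨51, 6, 14⟩)) (.node 1 (.one ⟨16311, 6, 13⟩) (.one ⟨1824, 5, 14⟩)))))) (.node 16 (.node 8 (.node 4 (.node 2 (.node 1 (.one ⟨10015, 5, 17⟩) (.one ⟨2951, 5, 16⟩)) (.node 1 (.one ⟨3994, 6, 15⟩) (.one ⟨11259, 6, 15⟩))) (.node 2 (.node 1 (.one ⟨11996, 5, 11⟩) (.one ⟨12784, 6, 12⟩)) (.node 1 (.one ⟨6356, 3, 14⟩) (.one ⟨2532, 2, 16⟩)))) (.node 4 (.node 2 (.node 1 (.one ⟨16880, 4, 13⟩) (.one ⟨3271, 4, 10⟩)) (.node 1 (.one ⟨5307, 1, 17⟩) (.one ⟨13575, 3, 12⟩))) (.node 2 (.node 1 (.one ⟨5310, 1, 12⟩) (.one ⟨7508, 6, 13⟩)) (.node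 1 (.one ⟨5305, 1, 13⟩) (.one ⟨9838, 3, 12⟩))))) (.node 8 (.node 4 (.node 2 (.node 1 (.one ⟨4409, 6, 15⟩) (.one ⟨13147, 4, 15⟩)) (.node 1 (.one ⟨8912, 4, 12⟩) (.one ⟨13197, 4, 15⟩))) (.node 2 (.node 1 (.one ⟨4034, 6, 15⟩) (.one ⟨374, 3, 14⟩)) (.node 1 (.one ⟨16560, 3, 13⟩) (.one ⟨12165, 6, 14⟩)))) (.node 4 (.node 2 (.node 1 (.one ⟨16948, 5, 16⟩) (.one ⟨16342, 5, 15⟩)) (.node 1 (.one ⟨1830, 6, 15⟩) (.one ⟨4712, 3, 15⟩))) (.node 2 (.node 1 (.one ⟨13541, 6, 10⟩) (.one ⟨12709, 5, 13⟩)) (.node 1 (.one ⟨4441, 6, 16⟩) (.one ⟨5083, 4, 15⟩)))))))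
def par0_13_3 : Arr Par :=
  (.node 32 (.node 16 (.node 8 (.node 4 (.node 2 (.node 1 (.one ⟨3903, 5, 12⟩) (.one ⟨8927, 4, 11⟩)) (.node 1 (.one ⟨14816, 2, 14⟩) (.one ⟨16311, 5, 13⟩))) (.node 2 (.node 1 (.one ⟨1751, 3, 14⟩) (.one ⟨4592, 5, 13⟩)) (.node 1 (.one ⟨4436, 6, 13⟩) (.one ⟨12128, 6, 4⟩)))) (.node 4 (.node 2 (.node 1 (.one ⟨4401, 6, 15⟩) (.one ⟨1714, 3, 9⟩)) (.node 1 (.one ⟨13182, 4, 14⟩) (.one ⟨6127, 3, 5⟩))) (.node 2 (.node 1 (.one ⟨8241, 5, 12⟩) (.one ⟨25, 3, 9⟩)) (.node 1 (.one ⟨4855, 3, 16⟩) (.one ⟨13542, 5, 13⟩))))) (.node 8 (.node 4 (.node 2 (.node 1 (.one ⟨834, 2, 11⟩) (.one ⟨5205, 6, 13⟩)) (.node 1 (.one ⟨8920, 5, 15⟩) (.one ⟨4420, 6, 14⟩))) (.node 2 (.node 1 (.one ⟨8558, 5, 14⟩) (.one ⟨12592, 5, 14⟩)) (.node 1 (.one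 ⟨701, 2, 10⟩) (.one ⟨5433, 1, 15⟩)))) (.node 4 (.node 2 (.node 1 (.one ⟨4096, 6, 11⟩) (.one ⟨8592, 3, 15⟩)) (.node 1 (.one ⟨9783, 3, 13⟩) (.one ⟨5162, 4, 15⟩))) (.node 2 (.node 1 (.one ⟨5436, 1, 9⟩) (.one ⟨4448, 6, 16⟩)) (.node 1 (.one ⟨11057, 6, 15⟩) (.one ⟨1761, 3, 13⟩)))))) (.node 16 (.node 8 (.node 4 (.node 2 (.node 1 (.one ⟨14108, 3, 15⟩) (.one ⟨5147, 4, 16⟩)) (.node 1 (.one ⟨4462, 6, 15⟩) (.one ⟨16304, 5, 12⟩))) (.node 2 (.node 1 (.one ⟨16984, 5, 11⟩) (.one ⟨3793, 5, 9⟩)) (.node 1 (.one ⟨4640, 5, 12⟩) (.one ⟨5435, 4, 17⟩)))) (.node 4 (.node 2 (.node 1 (.one ⟨8251, 5, 13⟩) (.one ⟨11175, 0, 15⟩)) (.node 1 (.one ⟨5074, 4, 14⟩) (.one ⟨13490, 6, 13⟩))) (.node 2 (.node 1 (.one ⟨11973, 5, 16⟩) (.one ⟨387, 3, 16⟩)) (.node 1 (.one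 ⟨1738, 3, 15⟩) (.one ⟨6400, 4, 16⟩))))) (.node 8 (.node 4 (.node 2 (.node 1 (.one ⟨4372, 4, 15⟩) (.one ⟨6351, 4, 10⟩)) (.node 1 (.one ⟨15147, 5, 14⟩) (.one ⟨23, 3, 16⟩))) (.node 2 (.node 1 (.one ⟨7383, 3, 16⟩) (.one ⟨14899, 6, 14⟩)) (.node 1 (.one ⟨16332, 5, 16⟩) (.one ⟨15315, 5, 15⟩)))) (.node 4 (.node 2 (.node 1 (.one ⟨13516, 4, 13⟩) (.one ⟨15207, 4, 13⟩)) (.node 1 (.one ⟨12290, 6, 14⟩) (.one ⟨7145, 3, 16⟩))) (.node 2 (.node 1 (.one ⟨7028, 5, 13⟩) (.one ⟨14412, 4, 10⟩)) (.node 1 (.one ⟨7290, 4, 15⟩) (.one ⟨5463, 4, 15⟩)))))))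
def par0_13_4 : Arr Par :=
  (.node 32 (.node 16 (.node 8 (.node 4 (.node 2 (.node 1 (.one ⟨4278, 4, 16⟩) (.one ⟨15277, 3, 13⟩)) (.node 1 (.one ⟨536, 6, 14⟩) (.one ⟨5640, 6, 13⟩))) (.node 2 (.node 1 (.one ⟨12272, 6, 11⟩) (.one ⟨9834, 3, 14⟩)) (.node 1 (.one ⟨5165, 6, 13⟩) (.one ⟨5542, 1, 11⟩)))) (.node 4 (.node 2 (.node 1 (.one ⟨11003, 6, 15⟩) (.one ⟨15245, 4, 16⟩)) (.node 1 (.one ⟨16348, 5, 16⟩) (.one ⟨4148, 6, 14⟩))) (.node 2 (.node 1 (.one ⟨15107, 5, 15⟩) (.one ⟨16708, 5, 13⟩)) (.node 1 (.one ⟨5450, 4, 13⟩) (.one ⟨7113, 4, 12⟩))))) (.node 8 (.node 4 (.node 2 (.node 1 (.one ⟨16689, 5, 12⟩) (.one ⟨8272, 5, 15⟩)) (.node 1 (.one ⟨5443, 4, 14⟩) (.one ⟨5499, 1, 15⟩))) (.node 2 (.node 1 (.one ⟨15087, 5, 14⟩) (.one ⟨6320, 4, 11⟩)) (.node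 1 (.one ⟨4176, 2, 15⟩) (.one ⟨7144, 4, 11⟩)))) (.node 4 (.node 2 (.node 1 (.one ⟨14446, 4, 14⟩) (.one ⟨16113, 2, 15⟩)) (.node 1 (.one ⟨14905, 6, 14⟩) (.one ⟨7957, 3, 17⟩))) (.node 2 (.node 1 (.one ⟨10564, 2, 15⟩) (.one ⟨16897, 6, 14⟩)) (.node 1 (.one ⟨16126, 3, 13⟩) (.one ⟨8265, 5, 15⟩)))))) (.node 16 (.node 8 (.node 4 (.node 2 (.node 1 (.one ⟨5516, 1, 13⟩) (.one ⟨8639, 5, 13⟩)) (.node 1 (.one ⟨16888, 5, 11⟩) (.one ⟨5514, 1, 14⟩))) (.node 2 (.node 1 (.one ⟨5512, 1, 15⟩) (.one ⟨4210, 6, 15⟩)) (.node 1 (.one ⟨5515, 1, 13⟩) (.one ⟨7177, 4, 12⟩)))) (.node 4 (.node 2 (.node 1 (.one ⟨1715, 3, 14⟩) (.one ⟨8758, 6, 14⟩)) (.node 1 (.one ⟨13585, 4, 16⟩) (.one ⟨11041, 2, 12⟩))) (.node 2 (.node 1 (.one ⟨12241, 4, 15⟩) (.one ⟨5533, 3, 16⟩))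 (.node 1 (.one ⟨6346, 4, 10⟩) (.one ⟨5721, 4, 16⟩))))) (.node 8 (.node 4 (.node 2 (.node 1 (.one ⟨3432, 5, 16⟩) (.one ⟨13817, 5, 15⟩)) (.node 1 (.one ⟨15697, 6, 13⟩) (.one ⟨10021, 6, 13⟩))) (.node 2 (.node 1 (.one ⟨713, 2, 16⟩) (.one ⟨6045, 4, 15⟩)) (.node 1 (.one ⟨440, 2, 17⟩) (.one ⟨14292, 2, 14⟩)))) (.node 4 (.node 2 (.node 1 (.one ⟨362, 5, 13⟩) (.one ⟨13661, 1, 14⟩)) (.node 1 (.one ⟨12373, 6, 12⟩) (.one ⟨13658, 1, 11⟩))) (.node 2 (.node 1 (.one ⟨9181, 2, 10⟩) (.one ⟨6053, 4, 17⟩)) (.node 1 (.one ⟨11785, 2, 13⟩) (.one ⟨2111, 4, 16⟩)))))))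
def par0_13_5 : Arr Par :=
  (.node 32 (.node 16 (.node 8 (.node 4 (.node 2 (.node 1 (.one ⟨12003, 6, 16⟩) (.one ⟨10435, 2, 13⟩)) (.node 1 (.one ⟨11024, 3, 15⟩) (.one ⟨9160, 4, 15⟩))) (.node 2 (.node 1 (.one ⟨14064, 4, 15⟩) (.one ⟨14607, 6, 11⟩)) (.node 1 (.one ⟨14277, 6, 13⟩) (.one ⟨5687, 4, 13⟩)))) (.node 4 (.node 2 (.node 1 (.one ⟨3899, 6, 15⟩) (.one ⟨5721, 2, 16⟩)) (.node 1 (.one ⟨14899, 5, 14⟩) (.one ⟨6191, 6, 12⟩))) (.node 2 (.node 1 (.one ⟨13678, 1, 16⟩) (.one ⟨6331, 5, 11⟩)) (.node 1 (.one ⟨15909, 3, 14⟩) (.one ⟨13777, 5, 14⟩))))) (.node 8 (.node 4 (.node 2 (.node 1 (.one ⟨5744, 4, 15⟩) (.one ⟨15889, 3, 17⟩)) (.node 1 (.one ⟨15670, 6, 14⟩) (.one ⟨9987, 6, 14⟩))) (.node 2 (.node 1 (.one ⟨6061, 4, 14⟩) (.one ⟨15779, 3, 17⟩))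 (.node 1 (.one ⟨10798, 2, 15⟩) (.one ⟨13623, 1, 15⟩)))) (.node 4 (.node 2 (.node 1 (.one ⟨39, 5, 14⟩) (.one ⟨13628, 1, 11⟩)) (.node 1 (.one ⟨9471, 2, 10⟩) (.one ⟨13630, 1, 14⟩))) (.node 2 (.node 1 (.one ⟨6032, 4, 17⟩) (.one ⟨7839, 2, 13⟩)) (.node 1 (.one ⟨4355, 6, 13⟩) (.one ⟨10991, 3, 14⟩)))))) (.node 16 (.node 8 (.node 4 (.node 2 (.node 1 (.one ⟨3925, 6, 17⟩) (.one ⟨3839, 3, 14⟩)) (.node 1 (.one ⟨11100, 5, 16⟩) (.one ⟨6294, 6, 12⟩))) (.node 2 (.node 1 (.one ⟨14083, 4, 16⟩) (.one ⟨6560, 6, 12⟩)) (.node 1 (.one ⟨9165, 4, 14⟩) (.one ⟨5777, 4, 14⟩)))) (.node 4 (.node 2 (.node 1 (.one ⟨857, 4, 15⟩) (.one ⟨14896, 5, 15⟩)) (.node 1 (.one ⟨7532, 5, 15⟩) (.one ⟨14367, 6, 11⟩))) (.node 2 (.node 1 (.one ⟨14421, 5, 12⟩) (.one ⟨15798, 3, 13⟩))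 (.node 1 (.one ⟨14929, 2, 15⟩) (.one ⟨691, 4, 13⟩))))) (.node 8 (.node 4 (.node 2 (.node 1 (.one ⟨8539, 4, 14⟩) (.one ⟨5733, 3, 13⟩)) (.node 1 (.one ⟨12126, 6, 16⟩) (.one ⟨10218, 6, 15⟩))) (.node 2 (.node 1 (.one ⟨11343, 3, 16⟩) (.one ⟨16067, 0, 16⟩)) (.node 1 (.one ⟨10972, 5, 14⟩) (.one ⟨5759, 3, 13⟩)))) (.node 4 (.node 2 (.node 1 (.one ⟨13071, 3, 15⟩) (.one ⟨8354, 3, 12⟩)) (.node 1 (.one ⟨3416, 5, 14⟩) (.one ⟨6924, 0, 14⟩))) (.node 2 (.node 1 (.one ⟨4040, 6, 16⟩) (.one ⟨4705, 4, 17⟩)) (.node 1 (.one ⟨11768, 2, 13⟩) (.one ⟨14135, 6, 15⟩)))))))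
def par0_13_6 : Arr Par :=
  (.node 32 (.node 16 (.node 8 (.node 4 (.node 2 (.node 1 (.one ⟨9109, 3, 15⟩) (.one ⟨13733, 1, 14⟩)) (.node 1 (.one ⟨12584, 5, 13⟩) (.one ⟨6788, 2, 14⟩))) (.node 2 (.node 1 (.one ⟨5032, 3, 15⟩) (.one ⟨11775, 3, 15⟩)) (.node 1 (.one ⟨13793, 3, 13⟩) (.one ⟨4024, 6, 16⟩)))) (.node 4 (.node 2 (.node 1 (.one ⟨13823, 3, 11⟩) (.one ⟨16261, 2, 15⟩)) (.node 1 (.one ⟨14112, 4, 14⟩) (.one ⟨2843, 4, 15⟩))) (.node 2 (.node 1 (.one ⟨16135, 4, 14⟩) (.one ⟨2313, 2, 15⟩)) (.node 1 (.one ⟨13742, 1, 12⟩) (.one ⟨3296, 3, 16⟩))))) (.node 8 (.node 4 (.node 2 (.node 1 (.one ⟨8076, 4, 15⟩) (.one ⟨8554, 4, 15⟩)) (.node 1 (.one ⟨4072, 6, 15⟩) (.one ⟨12297, 0, 15⟩))) (.node 2 (.node 1 (.one ⟨12842, 5, 15⟩) (.one ⟨5773, 3, 14⟩))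 (.node 1 (.one ⟨775, 4, 14⟩) (.one ⟨11443, 5, 15⟩)))) (.node 4 (.node 2 (.node 1 (.one ⟨12846, 5, 16⟩) (.one ⟨5735, 3, 14⟩)) (.node 1 (.one ⟨7020, 4, 17⟩) (.one ⟨13694, 1, 14⟩))) (.node 2 (.node 1 (.one ⟨16408, 3, 13⟩) (.one ⟨10999, 0, 15⟩)) (.node 1 (.one ⟨13040, 3, 14⟩) (.one ⟨13833, 3, 14⟩)))))) (.node 16 (.node 8 (.node 4 (.node 2 (.node 1 (.one ⟨5003, 3, 14⟩) (.one ⟨17197, 3, 14⟩)) (.node 1 (.one ⟨4479, 5, 14⟩) (.one ⟨6707, 3, 13⟩))) (.node 2 (.node 1 (.one ⟨11775, 5, 15⟩) (.one ⟨1350, 2, 13⟩)) (.node 1 (.one ⟨11380, 3, 14⟩) (.one ⟨2853, 4, 14⟩)))) (.node 4 (.node 2 (.node 1 (.one ⟨12109, 6, 17⟩) (.one ⟨16685, 4, 15⟩)) (.node 1 (.one ⟨17186, 3, 16⟩) (.one ⟨13799, 3, 12⟩))) (.node 2 (.node 1 (.one ⟨16126, 4, 13⟩) (.one ⟨14101,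 4, 15⟩)) (.node 1 (.one ⟨1420, 2, 11⟩) (.one ⟨14108, 6, 15⟩))))) (.node 8 (.node 4 (.node 2 (.node 1 (.one ⟨385, 4, 14⟩) (.one ⟨13639, 5, 14⟩)) (.node 1 (.one ⟨3941, 3, 13⟩) (.one ⟨3697, 5, 16⟩))) (.node 2 (.node 1 (.one ⟨16476, 0, 13⟩) (.one ⟨14113, 6, 12⟩)) (.node 1 (.one ⟨15971, 5, 14⟩) (.one ⟨15655, 3, 13⟩)))) (.node 4 (.node 2 (.node 1 (.one ⟨5574, 5, 14⟩) (.one ⟨897, 4, 11⟩)) (.node 1 (.one ⟨3099, 2, 10⟩) (.one ⟨10323, 5, 13⟩))) (.node 2 (.node 1 (.one ⟨15968, 5, 14⟩) (.one ⟨11771, 5, 16⟩)) (.node 1 (.one ⟨9145, 2, 9⟩) (.one ⟨2974, 0, 12⟩)))))))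
def par0_13_7 : Arr Par :=
  (.node 32 (.node 16 (.node 8 (.node 4 (.node 2 (.node 1 (.one ⟨2342, 3, 15⟩) (.one ⟨5388, 6, 13⟩)) (.node 1 (.one ⟨16853, 6, 15⟩) (.one ⟨14111, 6, 14⟩))) (.node 2 (.node 1 (.one ⟨6114, 4, 17⟩) (.one ⟨13102, 5, 14⟩)) (.node 1 (.one ⟨2095, 2, 11⟩) (.one ⟨551, 4, 15⟩)))) (.node 4 (.node 2 (.node 1 (.one ⟨6594, 5, 16⟩) (.one ⟨6869, 4, 16⟩)) (.node 1 (.one ⟨5030, 5, 15⟩) (.one ⟨12446, 5, 13⟩))) (.node 2 (.node 1 (.one ⟨17174, 5, 13⟩) (.one ⟨14294, 5, 15⟩)) (.node 1 (.one ⟨10139, 4, 14⟩) (.one ⟨6945, 4, 17⟩))))) (.node 8 (.node 4 (.node 2 (.node 1 (.one ⟨3928, 3, 11⟩) (.one ⟨336, 4, 13⟩)) (.node 1 (.one ⟨2893, 4, 16⟩) (.one ⟨16419, 5, 14⟩))) (.node 2 (.node 1 (.one ⟨5576, 5, 12⟩) (.one ⟨11008, 3, 12⟩)) (.node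 1 (.one ⟨11760, 5, 17⟩) (.one ⟨5711, 4, 13⟩)))) (.node 4 (.node 2 (.node 1 (.one ⟨867, 4, 14⟩) (.one ⟨6943, 4, 15⟩)) (.node 1 (.one ⟨13814, 1, 13⟩) (.one ⟨6207, 6, 11⟩))) (.node 2 (.node 1 (.one ⟨894, 6, 12⟩) (.one ⟨8304, 3, 15⟩)) (.node 1 (.one ⟨15636, 3, 14⟩) (.one ⟨8810, 6, 16⟩)))))) (.node 16 (.node 8 (.node 4 (.node 2 (.node 1 (.one ⟨13388, 6, 16⟩) (.one ⟨9113, 5, 12⟩)) (.node 1 (.one ⟨6601, 5, 13⟩) (.one ⟨2332, 3, 15⟩))) (.node 2 (.node 1 (.one ⟨8805, 6, 14⟩) (.one ⟨5037, 5, 14⟩)) (.node 1 (.one ⟨3133, 5, 15⟩) (.one ⟨6818, 4, 11⟩)))) (.node 4 (.node 2 (.node 1 (.one ⟨4397, 5, 13⟩) (.one ⟨800, 6, 16⟩)) (.node 1 (.one ⟨6870, 4, 17⟩) (.one ⟨13467, 6, 16⟩))) (.node 2 (.node 1 (.one ⟨4918, 3, 17⟩) (.one ⟨13930, 2, 14⟩)) (.node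 1 (.one ⟨14660, 5, 14⟩) (.one ⟨5754, 4, 14⟩))))) (.node 8 (.node 4 (.node 2 (.node 1 (.one ⟨7583, 3, 15⟩) (.one ⟨10787, 2, 14⟩)) (.node 1 (.one ⟨16392, 3, 14⟩) (.one ⟨913, 6, 13⟩))) (.node 2 (.node 1 (.one ⟨6947, 4, 16⟩) (.one ⟨14351, 6, 10⟩)) (.node 1 (.one ⟨11272, 2, 12⟩) (.one ⟨11794, 5, 16⟩)))) (.node 4 (.node 2 (.node 1 (.one ⟨8348, 5, 13⟩) (.one ⟨40, 4, 14⟩)) (.node 1 (.one ⟨12010, 3, 10⟩) (.one ⟨14268, 6, 15⟩))) (.node 2 (.node 1 (.one ⟨6949, 4, 16⟩) (.one ⟨11040, 3, 11⟩)) (.node 1 (.one ⟨5607, 5, 11⟩) (.one ⟨6730, 4, 10⟩)))))))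
def par0_13_8 : Arr Par :=
  (.node 32 (.node 16 (.node 8 (.node 4 (.node 2 (.node 1 (.one ⟨12347, 5, 12⟩) (.one ⟨13805, 1, 15⟩)) (.node 1 (.one ⟨1094, 6, 14⟩) (.one ⟨6865, 4, 16⟩))) (.node 2 (.node 1 (.one ⟨333, 6, 15⟩) (.one ⟨4943, 3, 16⟩)) (.node 1 (.one ⟨5326, 6, 17⟩) (.one ⟨11201, 5, 16⟩)))) (.node 4 (.node 2 (.node 1 (.one ⟨6864, 4, 16⟩) (.one ⟨17190, 5, 13⟩)) (.node 1 (.one ⟨13836, 2, 15⟩) (.one ⟨6638, 5, 14⟩))) (.node 2 (.node 1 (.one ⟨10408, 3, 14⟩) (.one ⟨5000, 5, 15⟩)) (.node 1 (.one ⟨5401, 6, 15⟩) (.one ⟨645, 4, 12⟩))))) (.node 8 (.node 4 (.node 2 (.node 1 (.one ⟨15970, 5, 15⟩) (.one ⟨5606, 5, 15⟩)) (.node 1 (.one ⟨11804, 5, 17⟩) (.one ⟨2952, 3, 13⟩))) (.node 2 (.node 1 (.one ⟨13754, 1, 11⟩) (.one ⟨13758, 1, 10⟩)) (.node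 1 (.one ⟨7575, 3, 14⟩) (.one ⟨140, 4, 15⟩)))) (.node 4 (.node 2 (.node 1 (.one ⟨13671, 5, 15⟩) (.one ⟨3730, 5, 15⟩)) (.node 1 (.one ⟨15973, 5, 15⟩) (.one ⟨10344, 5, 15⟩))) (.node 2 (.node 1 (.one ⟨11989, 3, 14⟩) (.one ⟨13169, 0, 14⟩)) (.node 1 (.one ⟨14098, 6, 13⟩) (.one ⟨10035, 4, 13⟩)))))) (.node 16 (.node 8 (.node 4 (.node 2 (.node 1 (.one ⟨6272, 5, 14⟩) (.one ⟨4991, 5, 14⟩)) (.node 1 (.one ⟨6866, 4, 16⟩) (.one ⟨9130, 5, 12⟩))) (.node 2 (.node 1 (.one ⟨4301, 5, 14⟩) (.one ⟨6627, 5, 15⟩)) (.node 1 (.one ⟨47, 5, 15⟩) (.one ⟨1901, 3, 12⟩)))) (.node 4 (.node 2 (.node 1 (.one ⟨10385, 3, 16⟩) (.one ⟨14100, 6, 15⟩)) (.node 1 (.one ⟨5122, 3, 16⟩) (.one ⟨11026, 0, 16⟩))) (.node 2 (.node 1 (.one ⟨13400, 6, 12⟩) (.one ⟨13766, 1, 12⟩)) (.node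 1 (.one ⟨13067, 5, 15⟩) (.one ⟨15982, 4, 15⟩))))) (.node 8 (.node 4 (.node 2 (.node 1 (.one ⟨10272, 6, 14⟩) (.one ⟨12349, 5, 15⟩)) (.node 1 (.one ⟨5908, 4, 15⟩) (.one ⟨13754, 6, 11⟩))) (.node 2 (.node 1 (.one ⟨7387, 6, 15⟩) (.one ⟨12145, 5, 13⟩)) (.node 1 (.one ⟨2338, 3, 13⟩) (.one ⟨1272, 2, 11⟩)))) (.node 4 (.node 2 (.node 1 (.one ⟨4349, 5, 15⟩) (.one ⟨7800, 4, 10⟩)) (.node 1 (.one ⟨2173, 6, 14⟩) (.one ⟨10035, 6, 13⟩))) (.node 2 (.node 1 (.one ⟨10889, 4, 13⟩) (.one ⟨16043, 4, 14⟩)) (.node 1 (.one ⟨9929, 3, 15⟩) (.one ⟨10094, 5, 12⟩)))))))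
def par0_13_9 : Arr Par :=
  (.node 32 (.node 16 (.node 8 (.node 4 (.node 2 (.node 1 (.one ⟨13877, 3, 14⟩) (.one ⟨26, 4, 15⟩)) (.node 1 (.one ⟨4321, 5, 15⟩) (.one ⟨5183, 3, 10⟩))) (.node 2 (.node 1 (.one ⟨2149, 6, 15⟩) (.one ⟨3476, 6, 15⟩)) (.node 1 (.one ⟨2920, 4, 16⟩) (.one ⟨13981, 1, 13⟩)))) (.node 4 (.node 2 (.node 1 (.one ⟨13335, 5, 12⟩) (.one ⟨3344, 3, 17⟩)) (.node 1 (.one ⟨8184, 6, 15⟩) (.one ⟨10172, 6, 16⟩))) (.node 2 (.node 1 (.one ⟨16039, 4, 15⟩) (.one ⟨13982, 1, 13⟩)) (.node 1 (.one ⟨11171, 5, 12⟩) (.one ⟨14611, 0, 11⟩))))) (.node 8 (.node 4 (.node 2 (.node 1 (.one ⟨16531, 3, 16⟩) (.one ⟨1157, 5, 17⟩)) (.node 1 (.one ⟨137, 4, 13⟩) (.one ⟨4021, 5, 15⟩))) (.node 2 (.node 1 (.one ⟨12881, 4, 16⟩) (.one ⟨5281, 3, 11⟩)) (.node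 1 (.one ⟨10129, 5, 12⟩) (.one ⟨13236, 5, 16⟩)))) (.node 4 (.node 2 (.node 1 (.one ⟨13456, 2, 15⟩) (.one ⟨11765, 3, 13⟩)) (.node 1 (.one ⟨10182, 4, 17⟩) (.one ⟨5893, 6, 15⟩))) (.node 2 (.node 1 (.one ⟨294, 4, 12⟩) (.one ⟨12422, 5, 14⟩)) (.node 1 (.one ⟨13964, 1, 11⟩) (.one ⟨4365, 5, 12⟩)))))) (.node 16 (.node 8 (.node 4 (.node 2 (.node 1 (.one ⟨415, 4, 12⟩) (.one ⟨4342, 5, 15⟩)) (.node 1 (.one ⟨1153, 5, 14⟩) (.one ⟨13951, 3, 15⟩))) (.node 2 (.node 1 (.one ⟨13343, 3, 12⟩) (.one ⟨4106, 5, 14⟩)) (.node 1 (.one ⟨5364, 2, 11⟩) (.one ⟨8659, 2, 13⟩)))) (.node 4 (.node 2 (.node 1 (.one ⟨12507, 6, 11⟩) (.one ⟨15892, 3, 15⟩)) (.node 1 (.one ⟨11821, 3, 13⟩) (.one ⟨9010, 3, 15⟩))) (.node 2 (.node 1 (.one ⟨13859, 6, 13⟩) (.one ⟨4383, 5, 15⟩))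 (.node 1 (.one ⟨10204, 6, 15⟩) (.one ⟨12856, 4, 14⟩))))) (.node 8 (.node 4 (.node 2 (.node 1 (.one ⟨7041, 4, 16⟩) (.one ⟨12390, 5, 16⟩)) (.node 1 (.one ⟨12381, 5, 13⟩) (.one ⟨5268, 3, 12⟩))) (.node 2 (.node 1 (.one ⟨13926, 1, 12⟩) (.one ⟨292, 4, 13⟩)) (.node 1 (.one ⟨1156, 5, 15⟩) (.one ⟨15814, 3, 14⟩)))) (.node 4 (.node 2 (.node 1 (.one ⟨11790, 3, 12⟩) (.one ⟨5819, 3, 15⟩)) (.node 1 (.one ⟨4520, 6, 15⟩) (.one ⟨13772, 6, 14⟩))) (.node 2 (.node 1 (.one ⟨9576, 5, 16⟩) (.one ⟨8907, 2, 14⟩)) (.node 1 (.one ⟨4414, 6, 12⟩) (.one ⟨12101, 5, 14⟩)))))))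
def par0_13_10 : Arr Par :=
  (.node 32 (.node 16 (.node 8 (.node 4 (.node 2 (.node 1 (.one ⟨12910, 4, 15⟩) (.one ⟨474, 4, 12⟩)) (.node 1 (.one ⟨3447, 6, 17⟩) (.one ⟨10043, 5, 13⟩))) (.node 2 (.node 1 (.one ⟨13327, 3, 12⟩) (.one ⟨10727, 0, 12⟩)) (.node 1 (.one ⟨6529, 0, 17⟩) (.one ⟨11798, 3, 14⟩)))) (.node 4 (.node 2 (.node 1 (.one ⟨5184, 5, 15⟩) (.one ⟨5846, 6, 14⟩)) (.node 1 (.one ⟨14079, 2, 15⟩) (.one ⟨326, 4, 11⟩))) (.node 2 (.node 1 (.one ⟨6644, 2, 10⟩) (.one ⟨10258, 4, 16⟩)) (.node 1 (.one ⟨9577, 5, 16⟩) (.one ⟨2894, 4, 15⟩))))) (.node 8 (.node 4 (.node 2 (.node 1 (.one ⟨477, 4, 14⟩) (.one ⟨10118, 5, 13⟩)) (.node 1 (.one ⟨4844, 4, 15⟩) (.one ⟨13235, 3, 11⟩))) (.node 2 (.node 1 (.one ⟨15119, 4, 15⟩) (.one ⟨12400, 5, 14⟩)) (.node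 1 (.one ⟨11503, 6, 16⟩) (.one ⟨11080, 5, 13⟩)))) (.node 4 (.node 2 (.node 1 (.one ⟨5293, 5, 13⟩) (.one ⟨17095, 3, 15⟩)) (.node 1 (.one ⟨16278, 6, 14⟩) (.one ⟨11426, 3, 16⟩))) (.node 2 (.node 1 (.one ⟨5895, 3, 15⟩) (.one ⟨1349, 2, 12⟩)) (.node 1 (.one ⟨3566, 2, 12⟩) (.one ⟨15980, 4, 15⟩)))))) (.node 16 (.node 8 (.node 4 (.node 2 (.node 1 (.one ⟨5829, 4, 16⟩) (.one ⟨8441, 4, 16⟩)) (.node 1 (.one ⟨4095, 5, 14⟩) (.one ⟨10166, 6, 13⟩))) (.node 2 (.node 1 (.one ⟨4396, 5, 14⟩) (.one ⟨13844, 6, 12⟩)) (.node 1 (.one ⟨10389, 3, 14⟩) (.one ⟨10139, 6, 14⟩)))) (.node 4 (.node 2 (.node 1 (.one ⟨16046, 4, 13⟩) (.one ⟨2901, 4, 14⟩)) (.node 1 (.one ⟨2157, 6, 15⟩) (.one ⟨7789, 4, 9⟩))) (.node 2 (.node 1 (.one ⟨13879, 1, 12⟩) (.one ⟨16521, 4, 15⟩))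 (.node 1 (.one ⟨10865, 4, 12⟩) (.one ⟨7901, 5, 14⟩))))) (.node 8 (.node 4 (.node 2 (.node 1 (.one ⟨10075, 6, 11⟩) (.one ⟨5556, 4, 16⟩)) (.node 1 (.one ⟨1595, 4, 16⟩) (.one ⟨10859, 5, 15⟩))) (.node 2 (.node 1 (.one ⟨7342, 3, 12⟩) (.one ⟨5542, 5, 11⟩)) (.node 1 (.one ⟨449, 3, 14⟩) (.one ⟨14024, 1, 13⟩)))) (.node 4 (.node 2 (.node 1 (.one ⟨12944, 3, 14⟩) (.one ⟨14148, 6, 14⟩)) (.node 1 (.one ⟨1057, 2, 14⟩) (.one ⟨347, 3, 12⟩))) (.node 2 (.node 1 (.one ⟨10199, 6, 13⟩) (.one ⟨8466, 4, 15⟩)) (.node 1 (.one ⟨13995, 6, 10⟩) (.one ⟨7899, 5, 15⟩)))))))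
def par0_13_11 : Arr Par :=
  (.node 32 (.node 16 (.node 8 (.node 4 (.node 2 (.node 1 (.one ⟨10100, 6, 12⟩) (.one ⟨15305, 3, 13⟩)) (.node 1 (.one ⟨10579, 2, 16⟩) (.one ⟨1607, 4, 17⟩))) (.node 2 (.node 1 (.one ⟨5588, 4, 15⟩) (.one ⟨13575, 5, 12⟩)) (.node 1 (.one ⟨896, 3, 15⟩) (.one ⟨8437, 4, 16⟩)))) (.node 4 (.node 2 (.node 1 (.one ⟨10453, 2, 12⟩) (.one ⟨9821, 5, 13⟩)) (.node 1 (.one ⟨13881, 6, 11⟩) (.one ⟨14010, 1, 15⟩))) (.node 2 (.node 1 (.one ⟨10248, 6, 14⟩) (.one ⟨530, 3, 13⟩)) (.node 1 (.one ⟨14133, 6, 15⟩) (.one ⟨437, 4, 13⟩))))) (.node 8 (.node 4 (.node 2 (.node 1 (.one ⟨8747, 5, 16⟩) (.one ⟨6869, 3, 16⟩)) (.node 1 (.one ⟨13955, 6, 14⟩) (.one ⟨5797, 6, 15⟩))) (.node 2 (.node 1 (.one ⟨7900, 5, 15⟩) (.one ⟨3450, 3, 16⟩)) (.node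 1 (.one ⟨8489, 4, 14⟩) (.one ⟨922, 3, 10⟩)))) (.node 4 (.node 2 (.node 1 (.one ⟨13520, 3, 12⟩) (.one ⟨14062, 1, 13⟩)) (.node 1 (.one ⟨5776, 6, 12⟩) (.one ⟨8485, 4, 16⟩))) (.node 2 (.node 1 (.one ⟨4506, 5, 12⟩) (.one ⟨7306, 3, 16⟩)) (.node 1 (.one ⟨16124, 3, 15⟩) (.one ⟨8733, 5, 15⟩)))))) (.node 16 (.node 8 (.node 4 (.node 2 (.node 1 (.one ⟨10258, 6, 16⟩) (.one ⟨13910, 6, 13⟩)) (.node 1 (.one ⟨5706, 6, 14⟩) (.one ⟨7902, 5, 14⟩))) (.node 2 (.node 1 (.one ⟨6866, 3, 16⟩) (.one ⟨8461, 4, 15⟩)) (.node 1 (.one ⟨75, 4, 12⟩) (.one ⟨12450, 5, 16⟩)))) (.node 4 (.node 2 (.node 1 (.one ⟨15337, 3, 17⟩) (.one ⟨16140, 3, 16⟩)) (.node 1 (.one ⟨12529, 5, 13⟩) (.one ⟨5690, 6, 13⟩))) (.node 2 (.node 1 (.one ⟨5424, 3, 13⟩) (.one ⟨1058, 3, 11⟩)) (.node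 1 (.one ⟨2156, 2, 12⟩) (.one ⟨1989, 6, 11⟩))))) (.node 8 (.node 4 (.node 2 (.node 1 (.one ⟨2324, 2, 14⟩) (.one ⟨12966, 6, 17⟩)) (.node 1 (.one ⟨9675, 4, 16⟩) (.one ⟨13422, 2, 11⟩))) (.node 2 (.node 1 (.one ⟨2090, 2, 14⟩) (.one ⟨8672, 6, 14⟩)) (.node 1 (.one ⟨5643, 4, 17⟩) (.one ⟨13676, 4, 13⟩)))) (.node 4 (.node 2 (.node 1 (.one ⟨8500, 2, 17⟩) (.one ⟨12930, 3, 15⟩)) (.node 1 (.one ⟨1978, 6, 14⟩) (.one ⟨5472, 3, 14⟩))) (.node 2 (.node 1 (.one ⟨4476, 5, 14⟩) (.one ⟨627, 5, 13⟩)) (.node 1 (.one ⟨7228, 3, 12⟩) (.one ⟨15368, 3, 14⟩)))))))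
def par0_13_12 : Arr Par :=
  (.node 32 (.node 16 (.node 8 (.node 4 (.node 2 (.node 1 (.one ⟨5671, 4, 16⟩) (.one ⟨12943, 6, 16⟩)) (.node 1 (.one ⟨2094, 6, 12⟩) (.one ⟨14064, 1, 15⟩))) (.node 2 (.node 1 (.one ⟨9655, 4, 15⟩) (.one ⟨16519, 4, 14⟩)) (.node 1 (.one ⟨14067, 1, 12⟩) (.one ⟨13645, 4, 12⟩)))) (.node 4 (.node 2 (.node 1 (.one ⟨12563, 5, 13⟩) (.one ⟨15387, 3, 13⟩)) (.node 1 (.one ⟨12913, 3, 16⟩) (.one ⟨4387, 5, 16⟩))) (.node 2 (.node 1 (.one ⟨13504, 3, 13⟩) (.one ⟨664, 5, 12⟩)) (.node 1 (.one ⟨2068, 6, 15⟩) (.one ⟨5935, 0, 14⟩))))) (.node 8 (.node 4 (.node 2 (.node 1 (.one ⟨6874, 3, 16⟩) (.one ⟨7262, 3, 14⟩)) (.node 1 (.one ⟨5509, 5, 12⟩) (.one ⟨4772, 4, 17⟩))) (.node 2 (.node 1 (.one ⟨3468, 3, 14⟩) (.one ⟨2763, 3, 14⟩)) (.node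 1 (.one ⟨4695, 0, 15⟩) (.one ⟨13657, 4, 12⟩)))) (.node 4 (.node 2 (.node 1 (.one ⟨339, 5, 14⟩) (.one ⟨14124, 1, 14⟩)) (.node 1 (.one ⟨16005, 5, 16⟩) (.one ⟨1737, 5, 11⟩))) (.node 2 (.node 1 (.one ⟨14429, 5, 14⟩) (.one ⟨16167, 3, 13⟩)) (.node 1 (.one ⟨13918, 6, 12⟩) (.one ⟨11562, 3, 13⟩)))))) (.node 16 (.node 8 (.node 4 (.node 2 (.node 1 (.one ⟨2744, 3, 13⟩) (.one ⟨13614, 5, 11⟩)) (.node 1 (.one ⟨6087, 3, 14⟩) (.one ⟨15357, 3, 15⟩))) (.node 2 (.node 1 (.one ⟨6878, 3, 17⟩) (.one ⟨4770, 4, 17⟩)) (.node 1 (.one ⟨8637, 6, 15⟩) (.one ⟨13964, 6, 11⟩)))) (.node 4 (.node 2 (.node 1 (.one ⟨360, 4, 15⟩) (.one ⟨13628, 4, 11⟩)) (.node 1 (.one ⟨16151, 3, 14⟩) (.one ⟨1725, 5, 12⟩))) (.node 2 (.node 1 (.one ⟨12732, 2, 13⟩) (.one ⟨13518, 2, 17⟩))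 (.node 1 (.one ⟨6323, 5, 15⟩) (.one ⟨15809, 2, 15⟩))))) (.node 8 (.node 4 (.node 2 (.node 1 (.one ⟨12808, 5, 16⟩) (.one ⟨16121, 5, 14⟩)) (.node 1 (.one ⟨3521, 4, 15⟩) (.one ⟨8354, 5, 12⟩))) (.node 2 (.node 1 (.one ⟨3956, 6, 10⟩) (.one ⟨7599, 4, 14⟩)) (.node 1 (.one ⟨8667, 4, 12⟩) (.one ⟨15543, 5, 14⟩)))) (.node 4 (.node 2 (.node 1 (.one ⟨8126, 3, 16⟩) (.one ⟨98, 3, 14⟩)) (.node 1 (.one ⟨13270, 5, 15⟩) (.one ⟨14152, 1, 13⟩))) (.node 2 (.node 1 (.one ⟨14360, 6, 15⟩) (.one ⟨8547, 3, 16⟩)) (.node 1 (.one ⟨4480, 3, 14⟩) (.one ⟨8675, 4, 13⟩)))))))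
def par0_13_13 : Arr Par :=
  (.node 32 (.node 16 (.node 8 (.node 4 (.node 2 (.node 1 (.one ⟨4935, 4, 15⟩) (.one ⟨16408, 5, 13⟩)) (.node 1 (.one ⟨6930, 4, 15⟩) (.one ⟨3514, 4, 14⟩))) (.node 2 (.node 1 (.one ⟨7638, 4, 13⟩) (.one ⟨7520, 5, 16⟩)) (.node 1 (.one ⟨12040, 6, 11⟩) (.one ⟨5216, 5, 14⟩)))) (.node 4 (.node 2 (.node 1 (.one ⟨1076, 2, 12⟩) (.one ⟨6217, 6, 14⟩)) (.node 1 (.one ⟨313, 3, 15⟩) (.one ⟨10428, 5, 16⟩))) (.node 2 (.node 1 (.one ⟨8528, 3, 15⟩) (.one ⟨12585, 3, 15⟩)) (.node 1 (.one ⟨4660, 3, 13⟩) (.one ⟨13835, 4, 15⟩))))) (.node 8 (.node 4 (.node 2 (.node 1 (.one ⟨6251, 6, 15⟩) (.one ⟨8112, 3, 18⟩)) (.node 1 (.one ⟨1063, 4, 13⟩) (.one ⟨12998, 4, 14⟩))) (.node 2 (.node 1 (.one ⟨16823, 2, 16⟩) (.one ⟨12811, 5, 15⟩)) (.node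 1 (.one ⟨8683, 4, 12⟩) (.one ⟨1880, 6, 14⟩)))) (.node 4 (.node 2 (.node 1 (.one ⟨12753, 2, 16⟩) (.one ⟨14190, 1, 16⟩)) (.node 1 (.one ⟨4309, 6, 15⟩) (.one ⟨4011, 6, 12⟩))) (.node 2 (.node 1 (.one ⟨7676, 6, 16⟩) (.one ⟨6295, 6, 15⟩)) (.node 1 (.one ⟨442, 6, 14⟩) (.one ⟨2829, 2, 15⟩)))))) (.node 16 (.node 8 (.node 4 (.node 2 (.node 1 (.one ⟨8659, 4, 13⟩) (.one ⟨16565, 3, 15⟩)) (.node 1 (.one ⟨16421, 5, 15⟩) (.one ⟨13794, 4, 14⟩))) (.node 2 (.node 1 (.one ⟨889, 4, 12⟩) (.one ⟨16207, 3, 17⟩)) (.node 1 (.one ⟨14330, 6, 16⟩) (.one ⟨12050, 6, 13⟩)))) (.node 4 (.node 2 (.node 1 (.one ⟨14282, 6, 14⟩) (.one ⟨12422, 6, 14⟩)) (.node 1 (.one ⟨13129, 2, 16⟩) (.one ⟨509, 6, 15⟩))) (.node 2 (.node 1 (.one ⟨11115, 4, 16⟩) (.one ⟨1847, 6, 13⟩)) (.node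 1 (.one ⟨7126, 2, 15⟩) (.one ⟨5413, 3, 13⟩))))) (.node 8 (.node 4 (.node 2 (.node 1 (.one ⟨15007, 5, 17⟩) (.one ⟨9871, 3, 15⟩)) (.node 1 (.one ⟨14215, 1, 16⟩) (.one ⟨13505, 3, 12⟩))) (.node 2 (.node 1 (.one ⟨1757, 0, 14⟩) (.one ⟨10270, 6, 13⟩)) (.node 1 (.one ⟨15945, 3, 13⟩) (.one ⟨10022, 4, 10⟩)))) (.node 4 (.node 2 (.node 1 (.one ⟨2862, 2, 14⟩) (.one ⟨14766, 2, 13⟩)) (.node 1 (.one ⟨40, 5, 14⟩) (.one ⟨5687, 2, 13⟩))) (.node 2 (.node 1 (.one ⟨16149, 4, 14⟩) (.one ⟨7769, 4, 15⟩)) (.node 1 (.one ⟨9146, 2, 8⟩) (.one ⟨14206, 1, 9⟩)))))))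
def par0_13_14 : Arr Par :=
  (.node 32 (.node 16 (.node 8 (.node 4 (.node 2 (.node 1 (.one ⟨9984, 4, 9⟩) (.one ⟨7822, 4, 15⟩)) (.node 1 (.one ⟨14200, 1, 15⟩) (.one ⟨14203, 1, 14⟩))) (.node 2 (.node 1 (.one ⟨336, 5, 13⟩) (.one ⟨16160, 4, 13⟩)) (.node 1 (.one ⟨14201, 1, 14⟩) (.one ⟨10293, 2, 15⟩)))) (.node 4 (.node 2 (.node 1 (.one ⟨9895, 3, 14⟩) (.one ⟨13365, 3, 12⟩)) (.node 1 (.one ⟨10294, 2, 17⟩) (.one ⟨10190, 6, 14⟩))) (.node 2 (.node 1 (.one ⟨15946, 3, 14⟩) (.one ⟨14105, 0, 15⟩)) (.node 1 (.one ⟨5473, 3, 11⟩) (.one ⟨1915, 4, 14⟩))))) (.node 8 (.node 4 (.node 2 (.node 1 (.one ⟨9806, 4, 12⟩) (.one ⟨15011, 5, 15⟩)) (.node 1 (.one ⟨3021, 5, 16⟩) (.one ⟨16295, 6, 16⟩))) (.node 2 (.node 1 (.one ⟨14253, 1, 14⟩) (.one ⟨2465, 6, 11⟩))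 (.node 1 (.one ⟨14207, 6, 10⟩) (.one ⟨9820, 4, 13⟩)))) (.node 4 (.node 2 (.node 1 (.one ⟨14240, 1, 16⟩) (.one ⟨13425, 3, 13⟩)) (.node 1 (.one ⟨3040, 5, 16⟩) (.one ⟨5436, 3, 9⟩))) (.node 2 (.node 1 (.one ⟨4110, 6, 12⟩) (.one ⟨9472, 2, 9⟩)) (.node 1 (.one ⟨11618, 2, 12⟩) (.one ⟨5345, 3, 12⟩)))))) (.node 16 (.node 8 (.node 4 (.node 2 (.node 1 (.one ⟨11612, 2, 15⟩) (.one ⟨9838, 4, 12⟩)) (.node 1 (.one ⟨15879, 4, 16⟩) (.one ⟨13532, 3, 10⟩))) (.node 2 (.node 1 (.one ⟨14238, 1, 13⟩) (.one ⟨14237, 1, 10⟩)) (.node 1 (.one ⟨12158, 6, 13⟩) (.one ⟨9783, 4, 13⟩)))) (.node 4 (.node 2 (.node 1 (.one ⟨10498, 2, 14⟩) (.one ⟨15010, 5, 16⟩)) (.node 1 (.one ⟨7783, 4, 16⟩) (.one ⟨10512, 6, 10⟩))) (.node 2 (.node 1 (.one ⟨14206, 6, 9⟩) (.one ⟨8642, 2,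 13⟩)) (.node 1 (.one ⟨8192, 6, 15⟩) (.one ⟨1912, 5, 13⟩))))) (.node 8 (.node 4 (.node 2 (.node 1 (.one ⟨14191, 5, 14⟩) (.one ⟨7033, 5, 14⟩)) (.node 1 (.one ⟨4291, 2, 14⟩) (.one ⟨1286, 2, 9⟩))) (.node 2 (.node 1 (.one ⟨135, 6, 14⟩) (.one ⟨7542, 5, 13⟩)) (.node 1 (.one ⟨11509, 5, 17⟩) (.one ⟨4506, 3, 12⟩)))) (.node 4 (.node 2 (.node 1 (.one ⟨8613, 6, 16⟩) (.one ⟨15330, 4, 14⟩)) (.node 1 (.one ⟨12768, 6, 15⟩) (.one ⟨8389, 5, 17⟩))) (.node 2 (.node 1 (.one ⟨14041, 0, 14⟩) (.one ⟨13142, 5, 15⟩)) (.node 1 (.one ⟨12851, 5, 15⟩) (.one ⟨10580, 2, 13⟩)))))))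
def par0_13_15 : Arr Par :=
  (.node 32 (.node 16 (.node 8 (.node 4 (.node 2 (.node 1 (.one ⟨9996, 5, 11⟩) (.one ⟨2638, 3, 11⟩)) (.node 1 (.one ⟨6233, 2, 14⟩) (.one ⟨6292, 1, 17⟩))) (.node 2 (.node 1 (.one ⟨9861, 3, 14⟩) (.one ⟨6560, 5, 12⟩)) (.node 1 (.one ⟨5952, 2, 16⟩) (.one ⟨12862, 5, 15⟩)))) (.node 4 (.node 2 (.node 1 (.one ⟨759, 3, 15⟩) (.one ⟨15392, 4, 13⟩)) (.node 1 (.one ⟨6918, 3, 13⟩) (.one ⟨8152, 5, 13⟩))) (.node 2 (.node 1 (.one ⟨5062, 5, 15⟩) (.one ⟨13141, 4, 15⟩)) (.node 1 (.one ⟨8948, 4, 16⟩) (.one ⟨10499, 4, 11⟩))))) (.node 8 (.node 4 (.node 2 (.node 1 (.one ⟨6321, 4, 14⟩) (.one ⟨6276, 1, 16⟩)) (.node 1 (.one ⟨15642, 5, 12⟩) (.one ⟨6136, 5, 12⟩))) (.node 2 (.node 1 (.one ⟨10718, 3, 13⟩) (.one ⟨15104, 3, 15⟩)) (.node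 1 (.one ⟨16351, 4, 14⟩) (.one ⟨17196, 6, 10⟩)))) (.node 4 (.node 2 (.node 1 (.one ⟨942, 3, 16⟩) (.one ⟨12772, 6, 13⟩)) (.node 1 (.one ⟨16227, 5, 13⟩) (.one ⟨16445, 5, 16⟩))) (.node 2 (.node 1 (.one ⟨8637, 3, 15⟩) (.one ⟨14086, 0, 13⟩)) (.node 1 (.one ⟨5047, 5, 14⟩) (.one ⟨14602, 5, 8⟩)))))) (.node 16 (.node 8 (.node 4 (.node 2 (.node 1 (.one ⟨10463, 4, 8⟩) (.one ⟨594, 2, 6⟩)) (.node 1 (.one ⟨10313, 6, 7⟩) (.one ⟨13940, 0, 13⟩))) (.node 2 (.node 1 (.one ⟨5129, 6, 15⟩) (.one ⟨7565, 5, 14⟩)) (.node 1 (.one ⟨4141, 4, 15⟩) (.one ⟨13164, 5, 12⟩)))) (.node 4 (.node 2 (.node 1 (.one ⟨203, 3, 11⟩) (.one ⟨3273, 4, 16⟩)) (.node 1 (.one ⟨11952, 5, 15⟩) (.one ⟨13901, 0, 14⟩))) (.node 2 (.node 1 (.one ⟨3327, 2, 16⟩) (.one ⟨14567, 6, 12⟩)) (.node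 1 (.one ⟨12554, 3, 9⟩) (.one ⟨2263, 6, 12⟩))))) (.node 8 (.node 4 (.node 2 (.node 1 (.one ⟨7588, 5, 13⟩) (.one ⟨14062, 6, 13⟩)) (.node 1 (.one ⟨7358, 3, 16⟩) (.one ⟨14627, 6, 14⟩))) (.node 2 (.node 1 (.one ⟨14945, 3, 16⟩) (.one ⟨14625, 5, 14⟩)) (.node 1 (.one ⟨13214, 6, 17⟩) (.one ⟨2529, 3, 16⟩)))) (.node 4 (.node 2 (.node 1 (.one ⟨8136, 5, 13⟩) (.one ⟨6459, 6, 16⟩)) (.node 1 (.one ⟨6926, 3, 15⟩) (.one ⟨17069, 3, 14⟩))) (.node 2 (.node 1 (.one ⟨13122, 5, 15⟩) (.one ⟨7647, 5, 13⟩)) (.node 1 (.one ⟨17140, 6, 12⟩) (.one ⟨14239, 2, 13⟩)))))))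
def par0_13 : Arr Par :=
  (.node 512 (.node 256 (.node 128 (.node 64 par0_13_0 par0_13_1) (.node 64 par0_13_2 par0_13_3)) (.node 128 (.node 64 par0_13_4 par0_13_5) (.node 64 par0_13_6 par0_13_7))) (.node 256 (.node 128 (.node 64 par0_13_8 par0_13_9) (.node 64 par0_13_10 par0_13_11)) (.node 128 (.node 64 par0_13_12 par0_13_13) (.node 64 par0_13_14 par0_13_15))))
def par0_14_0 : Arr Par :=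
  (.node 32 (.node 16 (.node 8 (.node 4 (.node 2 (.node 1 (.one ⟨1453, 2, 10⟩) (.one ⟨14946, 3, 14⟩)) (.node 1 (.one ⟨7402, 3, 16⟩) (.one ⟨14391, 4, 12⟩))) (.node 2 (.node 1 (.one ⟨10325, 6, 10⟩) (.one ⟨12744, 6, 15⟩)) (.node 1 (.one ⟨6228, 1, 16⟩) (.one ⟨12563, 3, 13⟩)))) (.node 4 (.node 2 (.node 1 (.one ⟨3916, 5, 13⟩) (.one ⟨245, 3, 14⟩)) (.node 1 (.one ⟨15285, 4, 14⟩) (.one ⟨7219, 3, 15⟩))) (.node 2 (.node 1 (.one ⟨5058, 4, 15⟩) (.one ⟨14512, 6, 16⟩)) (.node 1 (.one ⟨16455, 5, 14⟩) (.one ⟨10778, 5, 9⟩))))) (.node 8 (.node 4 (.node 2 (.node 1 (.one ⟨15138, 5, 15⟩) (.one ⟨2469, 4, 15⟩)) (.node 1 (.one ⟨15626, 5, 12⟩) (.one ⟨6343, 4, 15⟩))) (.node 2 (.node 1 (.one ⟨6214, 1, 15⟩) (.one ⟨2271, 6, 12⟩)) (.node 1 (.one ⟨3486, 5, 17⟩)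 (.one ⟨17019, 4, 16⟩)))) (.node 4 (.node 2 (.node 1 (.one ⟨6924, 3, 14⟩) (.one ⟨889, 3, 12⟩)) (.node 1 (.one ⟨5102, 5, 14⟩) (.one ⟨13569, 2, 14⟩))) (.node 2 (.node 1 (.one ⟨3506, 5, 15⟩) (.one ⟨6465, 6, 15⟩)) (.node 1 (.one ⟨4485, 3, 13⟩) (.one ⟨14618, 5, 10⟩)))))) (.node 16 (.node 8 (.node 4 (.node 2 (.node 1 (.one ⟨12749, 6, 13⟩) (.one ⟨2371, 4, 14⟩)) (.node 1 (.one ⟨11011, 5, 16⟩) (.one ⟨10622, 4, 12⟩))) (.node 2 (.node 1 (.one ⟨5162, 6, 15⟩) (.one ⟨2640, 3, 14⟩)) (.node 1 (.one ⟨16317, 4, 17⟩) (.one ⟨529, 6, 14⟩)))) (.node 4 (.node 2 (.node 1 (.one ⟨6200, 1, 16⟩) (.one ⟨16626, 6, 13⟩)) (.node 1 (.one ⟨8957, 3, 16⟩) (.one ⟨12003, 5, 16⟩))) (.node 2 (.node 1 (.one ⟨14382, 2, 13⟩) (.one ⟨8368, 5, 15⟩)) (.node 1 (.one ⟨4499, 3,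 12⟩) (.one ⟨7533, 6, 13⟩))))) (.node 8 (.node 4 (.node 2 (.node 1 (.one ⟨14367, 4, 11⟩) (.one ⟨6361, 1, 15⟩)) (.node 1 (.one ⟨8178, 3, 14⟩) (.one ⟨5408, 3, 12⟩))) (.node 2 (.node 1 (.one ⟨12322, 5, 17⟩) (.one ⟨7020, 3, 17⟩)) (.node 1 (.one ⟨10584, 6, 12⟩) (.one ⟨6352, 1, 11⟩)))) (.node 4 (.node 2 (.node 1 (.one ⟨14208, 5, 10⟩) (.one ⟨14609, 5, 14⟩)) (.node 1 (.one ⟨2587, 6, 15⟩) (.one ⟨3812, 5, 17⟩))) (.node 2 (.node 1 (.one ⟨15265, 3, 10⟩) (.one ⟨14949, 6, 15⟩)) (.node 1 (.one ⟨17058, 2, 17⟩) (.one ⟨2489, 5, 13⟩)))))))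
def par0_14_1 : Arr Par :=
  (.node 32 (.node 16 (.node 8 (.node 4 (.node 2 (.node 1 (.one ⟨10189, 2, 13⟩) (.one ⟨2603, 6, 9⟩)) (.node 1 (.one ⟨6356, 4, 14⟩) (.one ⟨11976, 2, 9⟩))) (.node 2 (.node 1 (.one ⟨15923, 2, 17⟩) (.one ⟨6375, 1, 16⟩)) (.node 1 (.one ⟨4490, 2, 12⟩) (.one ⟨14599, 5, 3⟩)))) (.node 4 (.node 2 (.node 1 (.one ⟨0, 2, 9⟩) (.one ⟨6128, 5, 8⟩)) (.node 1 (.one ⟨10600, 6, 7⟩) (.one ⟨14727, 6, 15⟩))) (.node 2 (.node 1 (.one ⟨8240, 5, 9⟩) (.one ⟨11871, 5, 14⟩)) (.node 1 (.one ⟨16063, 5, 15⟩) (.one ⟨6532, 5, 14⟩))))) (.node 8 (.node 4 (.node 2 (.node 1 (.one ⟨16318, 5, 13⟩) (.one ⟨9988, 6, 15⟩)) (.node 1 (.one ⟨6650, 6, 17⟩) (.one ⟨6149, 5, 14⟩))) (.node 2 (.node 1 (.one ⟨15077, 3, 14⟩) (.one ⟨6331, 1, 11⟩)) (.node 1 (.one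 ⟨16945, 4, 16⟩) (.one ⟨660, 6, 10⟩)))) (.node 4 (.node 2 (.node 1 (.one ⟨14945, 6, 16⟩) (.one ⟨2605, 5, 12⟩)) (.node 1 (.one ⟨5422, 4, 17⟩) (.one ⟨6324, 1, 11⟩))) (.node 2 (.node 1 (.one ⟨3405, 2, 13⟩) (.one ⟨6347, 4, 13⟩)) (.node 1 (.one ⟨16308, 5, 9⟩) (.one ⟨10553, 5, 15⟩)))))) (.node 16 (.node 8 (.node 4 (.node 2 (.node 1 (.one ⟨10683, 3, 15⟩) (.one ⟨11920, 5, 14⟩)) (.node 1 (.one ⟨6350, 1, 15⟩) (.one ⟨14193, 5, 16⟩))) (.node 2 (.node 1 (.one ⟨6557, 5, 13⟩) (.one ⟨16353, 5, 10⟩)) (.node 1 (.one ⟨6345, 1, 14⟩) (.one ⟨6185, 5, 12⟩)))) (.node 4 (.node 2 (.node 1 (.one ⟨16852, 4, 15⟩) (.one ⟨6245, 4, 14⟩)) (.node 1 (.one ⟨6691, 6, 14⟩) (.one ⟨2539, 6, 15⟩))) (.node 2 (.node 1 (.one ⟨8933, 4, 15⟩) (.one ⟨5311, 3, 12⟩)) (.node 1 (.one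 ⟨16363, 5, 13⟩) (.one ⟨8050, 3, 14⟩))))) (.node 8 (.node 4 (.node 2 (.node 1 (.one ⟨1609, 5, 15⟩) (.one ⟨7467, 6, 12⟩)) (.node 1 (.one ⟨10462, 6, 16⟩) (.one ⟨14503, 6, 16⟩))) (.node 2 (.node 1 (.one ⟨5955, 3, 12⟩) (.one ⟨9860, 6, 16⟩)) (.node 1 (.one ⟨5937, 5, 13⟩) (.one ⟨3242, 4, 14⟩)))) (.node 4 (.node 2 (.node 1 (.one ⟨7436, 6, 12⟩) (.one ⟨2459, 6, 15⟩)) (.node 1 (.one ⟨3972, 4, 15⟩) (.one ⟨14475, 6, 12⟩))) (.node 2 (.node 1 (.one ⟨12509, 5, 14⟩) (.one ⟨15631, 2, 15⟩)) (.node 1 (.one ⟨14067, 3, 12⟩) (.one ⟨9874, 6, 16⟩)))))))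
def par0_14_2 : Arr Par :=
  (.node 32 (.node 16 (.node 8 (.node 4 (.node 2 (.node 1 (.one ⟨3211, 4, 14⟩) (.one ⟨10491, 6, 12⟩)) (.node 1 (.one ⟨6021, 3, 13⟩) (.one ⟨2858, 3, 10⟩))) (.node 2 (.node 1 (.one ⟨10221, 5, 14⟩) (.one ⟨3958, 4, 15⟩)) (.node 1 (.one ⟨423, 3, 13⟩) (.one ⟨16364, 5, 15⟩)))) (.node 4 (.node 2 (.node 1 (.one ⟨7014, 3, 15⟩) (.one ⟨14005, 3, 12⟩)) (.node 1 (.one ⟨8150, 5, 15⟩) (.one ⟨10921, 3, 11⟩))) (.node 2 (.node 1 (.one ⟨13750, 6, 15⟩) (.one ⟨2126, 5, 13⟩)) (.node 1 (.one ⟨16382, 4, 16⟩) (.one ⟨12771, 3, 12⟩))))) (.node 8 (.node 4 (.node 2 (.node 1 (.one ⟨7445, 6, 12⟩) (.one ⟨2395, 6, 13⟩)) (.node 1 (.one ⟨8125, 5, 15⟩) (.one ⟨15044, 3, 15⟩))) (.node 2 (.node 1 (.one ⟨5969, 3, 13⟩) (.one ⟨10871, 3, 9⟩)) (.node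 1 (.one ⟨775, 3, 14⟩) (.one ⟨5857, 5, 14⟩)))) (.node 4 (.node 2 (.node 1 (.one ⟨1693, 5, 13⟩) (.one ⟨8101, 3, 15⟩)) (.node 1 (.one ⟨14113, 3, 12⟩) (.one ⟨8603, 3, 16⟩))) (.node 2 (.node 1 (.one ⟨1832, 6, 16⟩) (.one ⟨14773, 6, 14⟩)) (.node 1 (.one ⟨7412, 6, 13⟩) (.one ⟨2848, 3, 13⟩)))))) (.node 16 (.node 8 (.node 4 (.node 2 (.node 1 (.one ⟨11384, 6, 14⟩) (.one ⟨891, 3, 11⟩)) (.node 1 (.one ⟨11300, 0, 16⟩) (.one ⟨12034, 4, 15⟩))) (.node 2 (.node 1 (.one ⟨16189, 5, 15⟩) (.one ⟨7422, 6, 14⟩)) (.node 1 (.one ⟨16682, 3, 14⟩) (.one ⟨14487, 6, 15⟩)))) (.node 4 (.node 2 (.node 1 (.one ⟨10770, 4, 14⟩) (.one ⟨1996, 0, 15⟩)) (.node 1 (.one ⟨3205, 4, 16⟩) (.one ⟨3255, 6, 14⟩))) (.node 2 (.node 1 (.one ⟨8536, 3, 16⟩) (.one ⟨14000, 5, 12⟩)) (.node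 1 (.one ⟨11265, 2, 15⟩) (.one ⟨2108, 5, 15⟩))))) (.node 8 (.node 4 (.node 2 (.node 1 (.one ⟨11416, 3, 15⟩) (.one ⟨1604, 5, 14⟩)) (.node 1 (.one ⟨16405, 4, 13⟩) (.one ⟨14679, 6, 16⟩))) (.node 2 (.node 1 (.one ⟨16431, 3, 14⟩) (.one ⟨11172, 2, 16⟩)) (.node 1 (.one ⟨5703, 3, 14⟩) (.one ⟨13998, 5, 13⟩)))) (.node 4 (.node 2 (.node 1 (.one ⟨14798, 3, 14⟩) (.one ⟨13298, 4, 16⟩)) (.node 1 (.one ⟨5986, 5, 12⟩) (.one ⟨10411, 6, 11⟩))) (.node 2 (.node 1 (.one ⟨16440, 3, 12⟩) (.one ⟨14834, 2, 15⟩)) (.node 1 (.one ⟨2700, 4, 16⟩) (.one ⟨9060, 2, 16⟩)))))))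
def par0_14_3 : Arr Par :=
  (.node 32 (.node 16 (.node 8 (.node 4 (.node 2 (.node 1 (.one ⟨6455, 1, 12⟩) (.one ⟨16847, 4, 14⟩)) (.node 1 (.one ⟨3680, 5, 15⟩) (.one ⟨13770, 3, 16⟩))) (.node 2 (.node 1 (.one ⟨5237, 4, 16⟩) (.one ⟨5834, 5, 14⟩)) (.node 1 (.one ⟨10402, 6, 14⟩) (.one ⟨3688, 5, 14⟩)))) (.node 4 (.node 2 (.node 1 (.one ⟨7602, 5, 14⟩) (.one ⟨3563, 5, 13⟩)) (.node 1 (.one ⟨12478, 2, 14⟩) (.one ⟨10265, 5, 15⟩))) (.node 2 (.node 1 (.one ⟨13896, 5, 13⟩) (.one ⟨10371, 6, 13⟩)) (.node 1 (.one ⟨1801, 2, 11⟩) (.one ⟨10360, 6, 12⟩))))) (.node 8 (.node 4 (.node 2 (.node 1 (.one ⟨7578, 6, 13⟩) (.one ⟨7415, 2, 15⟩)) (.node 1 (.one ⟨16228, 2, 15⟩) (.one ⟨11595, 5, 14⟩))) (.node 2 (.node 1 (.one ⟨16918, 4, 16⟩) (.one ⟨3392, 2, 15⟩))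 (.node 1 (.one ⟨11700, 5, 15⟩) (.one ⟨3555, 5, 14⟩)))) (.node 4 (.node 2 (.node 1 (.one ⟨14699, 6, 12⟩) (.one ⟨16379, 4, 13⟩)) (.node 1 (.one ⟨6496, 1, 13⟩) (.one ⟨1865, 6, 15⟩))) (.node 2 (.node 1 (.one ⟨14811, 3, 17⟩) (.one ⟨5885, 5, 16⟩)) (.node 1 (.one ⟨10398, 6, 12⟩) (.one ⟨5063, 3, 13⟩)))))) (.node 16 (.node 8 (.node 4 (.node 2 (.node 1 (.one ⟨10508, 3, 15⟩) (.one ⟨14888, 3, 15⟩)) (.node 1 (.one ⟨5435, 2, 17⟩) (.one ⟨11428, 4, 15⟩))) (.node 2 (.node 1 (.one ⟨15307, 6, 16⟩) (.one ⟨896, 6, 15⟩)) (.node 1 (.one ⟨6494, 1, 13⟩) (.one ⟨5848, 5, 11⟩)))) (.node 4 (.node 2 (.node 1 (.one ⟨16397, 4, 10⟩) (.one ⟨10358, 6, 15⟩)) (.node 1 (.one ⟨14967, 6, 17⟩) (.one ⟨3636, 5, 12⟩))) (.node 2 (.node 1 (.one ⟨3524, 5, 12⟩) (.one ⟨8783, 4,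 15⟩)) (.node 1 (.one ⟨12310, 2, 12⟩) (.one ⟨2677, 4, 12⟩))))) (.node 8 (.node 4 (.node 2 (.node 1 (.one ⟨12521, 5, 11⟩) (.one ⟨9984, 5, 9⟩)) (.node 1 (.one ⟨7088, 4, 15⟩) (.one ⟨6275, 4, 15⟩))) (.node 2 (.node 1 (.one ⟨3692, 5, 14⟩) (.one ⟨2687, 5, 12⟩)) (.node 1 (.one ⟨12358, 2, 15⟩) (.one ⟨3143, 3, 15⟩)))) (.node 4 (.node 2 (.node 1 (.one ⟨4455, 5, 13⟩) (.one ⟨16345, 3, 14⟩)) (.node 1 (.one ⟨10232, 5, 16⟩) (.one ⟨14841, 6, 17⟩))) (.node 2 (.node 1 (.one ⟨10752, 5, 14⟩) (.one ⟨10484, 6, 16⟩)) (.node 1 (.one ⟨15803, 3, 14⟩) (.one ⟨6356, 6, 14⟩)))))))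
def par0_14_4 : Arr Par :=
  (.node 32 (.node 16 (.node 8 (.node 4 (.node 2 (.node 1 (.one ⟨15432, 6, 12⟩) (.one ⟨14336, 4, 11⟩)) (.node 1 (.one ⟨4189, 5, 16⟩) (.one ⟨9820, 6, 13⟩))) (.node 2 (.node 1 (.one ⟨11532, 4, 15⟩) (.one ⟨13852, 6, 15⟩)) (.node 1 (.one ⟨12553, 2, 16⟩) (.one ⟨10759, 5, 2⟩)))) (.node 4 (.node 2 (.node 1 (.one ⟨10760, 4, 9⟩) (.one ⟨5681, 6, 6⟩)) (.node 1 (.one ⟨14305, 4, 7⟩) (.one ⟨11917, 5, 14⟩))) (.node 2 (.node 1 (.one ⟨4453, 5, 10⟩) (.one ⟨6574, 0, 15⟩)) (.node 1 (.one ⟨11741, 5, 13⟩) (.one ⟨14351, 4, 10⟩))))) (.node 8 (.node 4 (.node 2 (.node 1 (.one ⟨3489, 4, 15⟩) (.one ⟨6557, 4, 13⟩)) (.node 1 (.one ⟨11397, 4, 16⟩) (.one ⟨6566, 1, 10⟩))) (.node 2 (.node 1 (.one ⟨6561, 1, 12⟩) (.one ⟨2695, 4, 14⟩)) (.node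 1 (.one ⟨12268, 5, 14⟩) (.one ⟨15898, 3, 16⟩)))) (.node 4 (.node 2 (.node 1 (.one ⟨9022, 2, 13⟩) (.one ⟨13818, 6, 11⟩)) (.node 1 (.one ⟨1493, 2, 9⟩) (.one ⟨11418, 6, 16⟩))) (.node 2 (.node 1 (.one ⟨8640, 2, 15⟩) (.one ⟨14445, 6, 13⟩)) (.node 1 (.one ⟨1738, 6, 15⟩) (.one ⟨11067, 3, 13⟩)))))) (.node 16 (.node 8 (.node 4 (.node 2 (.node 1 (.one ⟨4435, 5, 14⟩) (.one ⟨6288, 4, 13⟩)) (.node 1 (.one ⟨7140, 4, 17⟩) (.one ⟨5687, 6, 13⟩))) (.node 2 (.node 1 (.one ⟨7434, 2, 15⟩) (.one ⟨10779, 4, 13⟩)) (.node 1 (.one ⟨7835, 3, 14⟩) (.one ⟨10588, 5, 15⟩)))) (.node 4 (.node 2 (.node 1 (.one ⟨4266, 5, 16⟩) (.one ⟨11882, 5, 16⟩)) (.node 1 (.one ⟨1322, 2, 12⟩) (.one ⟨14886, 3, 13⟩))) (.node 2 (.node 1 (.one ⟨2683, 5, 11⟩) (.one ⟨10011, 5, 10⟩))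 (.node 1 (.one ⟨6722, 6, 16⟩) (.one ⟨16299, 5, 11⟩))))) (.node 8 (.node 4 (.node 2 (.node 1 (.one ⟨14673, 1, 15⟩) (.one ⟨14674, 1, 14⟩)) (.node 1 (.one ⟨5122, 5, 16⟩) (.one ⟨10140, 3, 12⟩))) (.node 2 (.node 1 (.one ⟨15958, 6, 15⟩) (.one ⟨3227, 6, 14⟩)) (.node 1 (.one ⟨14754, 6, 14⟩) (.one ⟨6231, 6, 15⟩)))) (.node 4 (.node 2 (.node 1 (.one ⟨6976, 2, 12⟩) (.one ⟨10133, 3, 11⟩)) (.node 1 (.one ⟨10941, 3, 15⟩) (.one ⟨13284, 2, 14⟩))) (.node 2 (.node 1 (.one ⟨257, 5, 16⟩) (.one ⟨12707, 4, 14⟩)) (.node 1 (.one ⟨4931, 6, 16⟩) (.one ⟨8209, 5, 11⟩)))))))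
def par0_14_5 : Arr Par :=
  (.node 32 (.node 16 (.node 8 (.node 4 (.node 2 (.node 1 (.one ⟨16386, 5, 15⟩) (.one ⟨706, 4, 15⟩)) (.node 1 (.one ⟨14689, 1, 16⟩) (.one ⟨15954, 6, 16⟩))) (.node 2 (.node 1 (.one ⟨11124, 4, 13⟩) (.one ⟨11031, 3, 15⟩)) (.node 1 (.one ⟨11839, 4, 14⟩) (.one ⟨13572, 5, 12⟩)))) (.node 4 (.node 2 (.node 1 (.one ⟨536, 5, 14⟩) (.one ⟨14951, 5, 17⟩)) (.node 1 (.one ⟨12675, 4, 13⟩) (.one ⟨3103, 4, 16⟩))) (.node 2 (.node 1 (.one ⟨11909, 4, 14⟩) (.one ⟨14702, 1, 13⟩)) (.node 1 (.one ⟨12450, 2, 16⟩) (.one ⟨15955, 6, 14⟩))))) (.node 8 (.node 4 (.node 2 (.node 1 (.one ⟨11307, 6, 15⟩) (.one ⟨5378, 2, 14⟩)) (.node 1 (.one ⟨12675, 2, 13⟩) (.one ⟨14725, 6, 13⟩))) (.node 2 (.node 1 (.one ⟨10032, 3, 13⟩) (.one ⟨9050, 6, 16⟩))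 (.node 1 (.one ⟨8198, 5, 12⟩) (.one ⟨14651, 1, 15⟩)))) (.node 4 (.node 2 (.node 1 (.one ⟨14344, 6, 14⟩) (.one ⟨10045, 3, 12⟩)) (.node 1 (.one ⟨12693, 4, 15⟩) (.one ⟨10968, 3, 16⟩))) (.node 2 (.node 1 (.one ⟨2987, 3, 16⟩) (.one ⟨356, 5, 15⟩)) (.node 1 (.one ⟨14648, 1, 13⟩) (.one ⟨247, 4, 14⟩)))))) (.node 16 (.node 8 (.node 4 (.node 2 (.node 1 (.one ⟨4585, 4, 16⟩) (.one ⟨4170, 2, 15⟩)) (.node 1 (.one ⟨9055, 6, 13⟩) (.one ⟨16249, 5, 12⟩))) (.node 2 (.node 1 (.one ⟨11006, 3, 16⟩) (.one ⟨10978, 3, 14⟩)) (.node 1 (.one ⟨11922, 4, 13⟩) (.one ⟨14956, 5, 16⟩)))) (.node 4 (.node 2 (.node 1 (.one ⟨3087, 4, 16⟩) (.one ⟨134, 5, 15⟩)) (.node 1 (.one ⟨3016, 4, 15⟩) (.one ⟨5548, 5, 11⟩))) (.node 2 (.node 1 (.one ⟨11862, 4, 13⟩) (.one ⟨12661, 4,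 14⟩)) (.node 1 (.one ⟨2310, 2, 12⟩) (.one ⟨2022, 3, 15⟩))))) (.node 8 (.node 4 (.node 2 (.node 1 (.one ⟨2472, 6, 12⟩) (.one ⟨12120, 3, 16⟩)) (.node 1 (.one ⟨3860, 6, 16⟩) (.one ⟨1686, 0, 15⟩))) (.node 2 (.node 1 (.one ⟨16505, 5, 14⟩) (.one ⟨16796, 6, 17⟩)) (.node 1 (.one ⟨9132, 3, 14⟩) (.one ⟨1883, 2, 12⟩)))) (.node 4 (.node 2 (.node 1 (.one ⟨9822, 4, 15⟩) (.one ⟨2049, 3, 11⟩)) (.node 1 (.one ⟨10210, 6, 14⟩) (.one ⟨4128, 2, 12⟩))) (.node 2 (.node 1 (.one ⟨12201, 3, 13⟩) (.one ⟨12803, 4, 12⟩)) (.node 1 (.one ⟨7441, 6, 16⟩) (.one ⟨10084, 3, 11⟩)))))))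
def par0_14_6 : Arr Par :=
  (.node 32 (.node 16 (.node 8 (.node 4 (.node 2 (.node 1 (.one ⟨14726, 2, 11⟩) (.one ⟨15483, 6, 17⟩)) (.node 1 (.one ⟨5566, 3, 15⟩) (.one ⟨5222, 3, 16⟩))) (.node 2 (.node 1 (.one ⟨14722, 2, 16⟩) (.one ⟨14719, 2, 12⟩)) (.node 1 (.one ⟨17147, 3, 10⟩) (.one ⟨11871, 6, 14⟩)))) (.node 4 (.node 2 (.node 1 (.one ⟨10510, 6, 13⟩) (.one ⟨147, 5, 12⟩)) (.node 1 (.one ⟨12925, 4, 14⟩) (.one ⟨12709, 4, 13⟩))) (.node 2 (.node 1 (.one ⟨10118, 3, 13⟩) (.one ⟨15437, 5, 16⟩)) (.node 1 (.one ⟨12188, 5, 16⟩) (.one ⟨16540, 5, 15⟩))))) (.node 8 (.node 4 (.node 2 (.node 1 (.one ⟨14669, 0, 14⟩) (.one ⟨2058, 3, 14⟩)) (.node 1 (.one ⟨10524, 6, 13⟩) (.one ⟨17171, 3, 13⟩))) (.node 2 (.node 1 (.one ⟨9673, 4, 17⟩) (.one ⟨4078, 3, 15⟩))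 (.node 1 (.one ⟨4696, 5, 17⟩) (.one ⟨4119, 3, 14⟩)))) (.node 4 (.node 2 (.node 1 (.one ⟨9834, 4, 14⟩) (.one ⟨9850, 0, 16⟩)) (.node 1 (.one ⟨10230, 6, 13⟩) (.one ⟨14711, 1, 13⟩))) (.node 2 (.node 1 (.one ⟨14715, 1, 13⟩) (.one ⟨2024, 3, 12⟩)) (.node 1 (.one ⟨12802, 4, 13⟩) (.one ⟨10126, 3, 12⟩)))))) (.node 16 (.node 8 (.node 4 (.node 2 (.node 1 (.one ⟨12804, 4, 17⟩) (.one ⟨5570, 5, 15⟩)) (.node 1 (.one ⟨14725, 1, 13⟩) (.one ⟨4278, 0, 16⟩))) (.node 2 (.node 1 (.one ⟨9093, 3, 11⟩) (.one ⟨14720, 1, 12⟩)) (.node 1 (.one ⟨9741, 4, 16⟩) (.one ⟨15030, 0, 16⟩)))) (.node 4 (.node 2 (.node 1 (.one ⟨2425, 6, 14⟩) (.one ⟨432, 5, 13⟩)) (.node 1 (.one ⟨12694, 4, 12⟩) (.one ⟨7397, 5, 17⟩))) (.node 2 (.node 1 (.one ⟨11887, 6, 13⟩) (.one ⟨12938, 4,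 15⟩)) (.node 1 (.one ⟨10094, 3, 12⟩) (.one ⟨14554, 0, 14⟩))))) (.node 8 (.node 4 (.node 2 (.node 1 (.one ⟨16363, 3, 13⟩) (.one ⟨8350, 3, 16⟩)) (.node 1 (.one ⟨14873, 1, 14⟩) (.one ⟨8584, 6, 15⟩))) (.node 2 (.node 1 (.one ⟨14514, 5, 14⟩) (.one ⟨4150, 6, 13⟩)) (.node 1 (.one ⟨12221, 6, 14⟩) (.one ⟨4009, 5, 15⟩)))) (.node 4 (.node 2 (.node 1 (.one ⟨7968, 5, 15⟩) (.one ⟨16497, 5, 11⟩)) (.node 1 (.one ⟨13371, 5, 15⟩) (.one ⟨15265, 5, 10⟩))) (.node 2 (.node 1 (.one ⟨10990, 5, 14⟩) (.one ⟨292, 5, 13⟩)) (.node 1 (.one ⟨14870, 1, 13⟩) (.one ⟨1887, 5, 15⟩)))))))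
def par0_14_7 : Arr Par :=
  (.node 32 (.node 16 (.node 8 (.node 4 (.node 2 (.node 1 (.one ⟨15950, 5, 14⟩) (.one ⟨5116, 3, 14⟩)) (.node 1 (.one ⟨15287, 6, 16⟩) (.one ⟨13222, 5, 15⟩))) (.node 2 (.node 1 (.one ⟨12343, 6, 14⟩) (.one ⟨14892, 1, 12⟩)) (.node 1 (.one ⟨14616, 3, 14⟩) (.one ⟨12461, 6, 13⟩)))) (.node 4 (.node 2 (.node 1 (.one ⟨15715, 3, 15⟩) (.one ⟨13833, 4, 14⟩)) (.node 1 (.one ⟨13390, 5, 13⟩) (.one ⟨7725, 5, 14⟩))) (.node 2 (.node 1 (.one ⟨617, 5, 16⟩) (.one ⟨7301, 6, 15⟩)) (.node 1 (.one ⟨10704, 2, 13⟩) (.one ⟨4347, 6, 15⟩))))) (.node 8 (.node 4 (.node 2 (.node 1 (.one ⟨7533, 5, 13⟩) (.one ⟨6461, 3, 14⟩)) (.node 1 (.one ⟨14843, 1, 15⟩) (.one ⟨15944, 5, 14⟩))) (.node 2 (.node 1 (.one ⟨7717, 5, 12⟩) (.one ⟨13227, 5, 16⟩))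 (.node 1 (.one ⟨5321, 5, 15⟩) (.one ⟨15785, 5, 9⟩)))) (.node 4 (.node 2 (.node 1 (.one ⟨14915, 4, 13⟩) (.one ⟨11156, 4, 15⟩)) (.node 1 (.one ⟨5306, 5, 12⟩) (.one ⟨11667, 4, 16⟩))) (.node 2 (.node 1 (.one ⟨282, 5, 14⟩) (.one ⟨4850, 2, 10⟩)) (.node 1 (.one ⟨4330, 6, 17⟩) (.one ⟨16508, 5, 13⟩)))))) (.node 16 (.node 8 (.node 4 (.node 2 (.node 1 (.one ⟨4997, 3, 13⟩) (.one ⟨5307, 5, 17⟩)) (.node 1 (.one ⟨16560, 6, 13⟩) (.one ⟨12070, 5, 15⟩))) (.node 2 (.node 1 (.one ⟨16337, 3, 14⟩) (.one ⟨14964, 4, 16⟩)) (.node 1 (.one ⟨10978, 5, 14⟩) (.one ⟨6793, 4, 14⟩)))) (.node 4 (.node 2 (.node 1 (.one ⟨3185, 2, 14⟩) (.one ⟨12606, 0, 15⟩)) (.node 1 (.one ⟨4235, 6, 13⟩) (.one ⟨9566, 2, 7⟩))) (.node 2 (.node 1 (.one ⟨12287, 6, 13⟩) (.one ⟨2807, 2,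 10⟩)) (.node 1 (.one ⟨3926, 2, 14⟩) (.one ⟨14813, 1, 11⟩))))) (.node 8 (.node 4 (.node 2 (.node 1 (.one ⟨11682, 4, 15⟩) (.one ⟨12410, 6, 16⟩)) (.node 1 (.one ⟨15733, 3, 14⟩) (.one ⟨15756, 5, 10⟩))) (.node 2 (.node 1 (.one ⟨11063, 4, 16⟩) (.one ⟨14916, 4, 12⟩)) (.node 1 (.one ⟨13483, 5, 13⟩) (.one ⟨7684, 5, 11⟩)))) (.node 4 (.node 2 (.node 1 (.one ⟨15943, 5, 13⟩) (.one ⟨12396, 6, 16⟩)) (.node 1 (.one ⟨15568, 5, 14⟩) (.one ⟨2398, 2, 14⟩))) (.node 2 (.node 1 (.one ⟨11675, 4, 14⟩) (.one ⟨5138, 5, 16⟩)) (.node 1 (.one ⟨13470, 5, 14⟩) (.one ⟨14829, 1, 11⟩)))))))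
def par0_14_8 : Arr Par :=
  (.node 32 (.node 16 (.node 8 (.node 4 (.node 2 (.node 1 (.one ⟨6752, 4, 15⟩) (.one ⟨7835, 0, 14⟩)) (.node 1 (.one ⟨14827, 1, 8⟩) (.one ⟨4194, 6, 12⟩))) (.node 2 (.node 1 (.one ⟨12268, 6, 14⟩) (.one ⟨4870, 4, 14⟩)) (.node 1 (.one ⟨2887, 5, 15⟩) (.one ⟨8289, 3, 13⟩)))) (.node 4 (.node 2 (.node 1 (.one ⟨8547, 0, 16⟩) (.one ⟨16538, 5, 12⟩)) (.node 1 (.one ⟨16386, 3, 15⟩) (.one ⟨3997, 5, 16⟩))) (.node 2 (.node 1 (.one ⟨16575, 6, 14⟩) (.one ⟨5029, 3, 12⟩)) (.node 1 (.one ⟨14965, 4, 15⟩) (.one ⟨12053, 5, 16⟩))))) (.node 8 (.node 4 (.node 2 (.node 1 (.one ⟨14963, 4, 16⟩) (.one ⟨16532, 5, 12⟩)) (.node 1 (.one ⟨3245, 3, 16⟩) (.one ⟨7092, 5, 9⟩))) (.node 2 (.node 1 (.one ⟨7451, 2, 15⟩) (.one ⟨415, 5, 12⟩)) (.node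 1 (.one ⟨5243, 2, 12⟩) (.one ⟨6478, 5, 13⟩)))) (.node 4 (.node 2 (.node 1 (.one ⟨12310, 6, 12⟩) (.one ⟨4947, 2, 13⟩)) (.node 1 (.one ⟨5401, 5, 15⟩) (.one ⟨8569, 6, 16⟩))) (.node 2 (.node 1 (.one ⟨4253, 6, 15⟩) (.one ⟨159, 6, 16⟩)) (.node 1 (.one ⟨8281, 3, 14⟩) (.one ⟨15330, 6, 14⟩)))))) (.node 16 (.node 8 (.node 4 (.node 2 (.node 1 (.one ⟨13793, 4, 13⟩) (.one ⟨4284, 6, 14⟩)) (.node 1 (.one ⟨7691, 5, 15⟩) (.one ⟨15682, 3, 14⟩))) (.node 2 (.node 1 (.one ⟨184, 4, 16⟩) (.one ⟨14798, 1, 14⟩)) (.node 1 (.one ⟨5402, 5, 12⟩) (.one ⟨5144, 5, 16⟩)))) (.node 4 (.node 2 (.node 1 (.one ⟨1855, 5, 14⟩) (.one ⟨6574, 3, 15⟩)) (.node 1 (.one ⟨877, 5, 16⟩) (.one ⟨15745, 5, 15⟩))) (.node 2 (.node 1 (.one ⟨3761, 2, 11⟩) (.one ⟨15949, 5, 13⟩)) (.node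 1 (.one ⟨4393, 6, 15⟩) (.one ⟨11765, 5, 13⟩))))) (.node 8 (.node 4 (.node 2 (.node 1 (.one ⟨2524, 6, 14⟩) (.one ⟨11781, 5, 14⟩)) (.node 1 (.one ⟨14901, 1, 15⟩) (.one ⟨10617, 6, 13⟩))) (.node 2 (.node 1 (.one ⟨11798, 5, 14⟩) (.one ⟨11371, 2, 14⟩)) (.node 1 (.one ⟨11811, 5, 15⟩) (.one ⟨4392, 3, 14⟩)))) (.node 4 (.node 2 (.node 1 (.one ⟨11821, 5, 13⟩) (.one ⟨7006, 4, 13⟩)) (.node 1 (.one ⟨3402, 2, 15⟩) (.one ⟨11790, 5, 12⟩))) (.node 2 (.node 1 (.one ⟨12345, 3, 15⟩) (.one ⟨10650, 6, 15⟩)) (.node 1 (.one ⟨7019, 4, 14⟩) (.one ⟨14840, 4, 14⟩)))))))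
def par0_14_9 : Arr Par :=
  (.node 32 (.node 16 (.node 8 (.node 4 (.node 2 (.node 1 (.one ⟨14803, 4, 15⟩) (.one ⟨14914, 1, 14⟩)) (.node 1 (.one ⟨7028, 2, 13⟩) (.one ⟨17140, 5, 12⟩))) (.node 2 (.node 1 (.one ⟨9096, 5, 11⟩) (.one ⟨9116, 5, 14⟩)) (.node 1 (.one ⟨17188, 5, 15⟩) (.one ⟨6725, 4, 14⟩)))) (.node 4 (.node 2 (.node 1 (.one ⟨13808, 2, 16⟩) (.one ⟨6824, 4, 15⟩)) (.node 1 (.one ⟨6727, 4, 15⟩) (.one ⟨9105, 5, 11⟩))) (.node 2 (.node 1 (.one ⟨6747, 4, 15⟩) (.one ⟨17196, 5, 10⟩)) (.node 1 (.one ⟨17165, 5, 16⟩) (.one ⟨14934, 1, 15⟩))))) (.node 8 (.node 4 (.node 2 (.node 1 (.one ⟨10096, 4, 14⟩) (.one ⟨12648, 3, 14⟩)) (.node 1 (.one ⟨12616, 3, 14⟩) (.one ⟨12606, 3, 15⟩))) (.node 2 (.node 1 (.one ⟨12638, 3, 13⟩) (.one ⟨10077, 4, 15⟩))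 (.node 1 (.one ⟨2557, 2, 14⟩) (.one ⟨4274, 6, 16⟩)))) (.node 4 (.node 2 (.node 1 (.one ⟨12385, 6, 16⟩) (.one ⟨6496, 5, 13⟩)) (.node 1 (.one ⟨2008, 4, 16⟩) (.one ⟨14554, 5, 14⟩))) (.node 2 (.node 1 (.one ⟨14539, 5, 16⟩) (.one ⟨12450, 6, 16⟩)) (.node 1 (.one ⟨4338, 6, 16⟩) (.one ⟨4144, 6, 15⟩)))))) (.node 16 (.node 8 (.node 4 (.node 2 (.node 1 (.one ⟨12972, 4, 16⟩) (.one ⟨16502, 5, 15⟩)) (.node 1 (.one ⟨8488, 5, 13⟩) (.one ⟨12953, 4, 15⟩))) (.node 2 (.node 1 (.one ⟨12305, 6, 14⟩) (.one ⟨8459, 5, 14⟩)) (.node 1 (.one ⟨12931, 4, 16⟩) (.one ⟨14956, 1, 16⟩)))) (.node 4 (.node 2 (.node 1 (.one ⟨14955, 1, 14⟩) (.one ⟨14310, 3, 16⟩)) (.node 1 (.one ⟨16509, 5, 16⟩) (.one ⟨13396, 2, 13⟩))) (.node 2 (.node 1 (.one ⟨4988, 2, 15⟩) (.one ⟨4553,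 2, 16⟩)) (.node 1 (.one ⟨4903, 4, 15⟩) (.one ⟨12015, 5, 15⟩))))) (.node 8 (.node 4 (.node 2 (.node 1 (.one ⟨4315, 6, 14⟩) (.one ⟨12430, 6, 15⟩)) (.node 1 (.one ⟨5995, 3, 14⟩) (.one ⟨9790, 2, 15⟩))) (.node 2 (.node 1 (.one ⟨3994, 5, 15⟩) (.one ⟨12065, 5, 14⟩)) (.node 1 (.one ⟨14963, 1, 16⟩) (.one ⟨12074, 5, 16⟩)))) (.node 4 (.node 2 (.node 1 (.one ⟨4343, 6, 17⟩) (.one ⟨3654, 2, 17⟩)) (.node 1 (.one ⟨14013, 3, 16⟩) (.one ⟨12086, 2, 13⟩))) (.node 2 (.node 1 (.one ⟨3972, 5, 15⟩) (.one ⟨12027, 5, 16⟩)) (.node 1 (.one ⟨14971, 1, 14⟩) (.one ⟨16151, 4, 14⟩)))))))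
def par0_14_10 : Arr Par :=
  (.node 32 (.node 16 (.node 8 (.node 4 (.node 2 (.node 1 (.one ⟨3427, 2, 17⟩) (.one ⟨16165, 4, 15⟩)) (.node 1 (.one ⟨10896, 2, 15⟩) (.one ⟨16167, 4, 13⟩))) (.node 2 (.node 1 (.one ⟨10934, 5, 16⟩) (.one ⟨16150, 4, 16⟩)) (.node 1 (.one ⟨2876, 5, 15⟩) (.one ⟨8064, 4, 16⟩)))) (.node 4 (.node 2 (.node 1 (.one ⟨4270, 6, 15⟩) (.one ⟨8049, 4, 16⟩)) (.node 1 (.one ⟨12237, 6, 14⟩) (.one ⟨16317, 2, 17⟩))) (.node 2 (.node 1 (.one ⟨12279, 6, 16⟩) (.one ⟨16788, 2, 16⟩)) (.node 1 (.one ⟨4184, 6, 15⟩) (.one ⟨5562, 5, 14⟩))))) (.node 8 (.node 4 (.node 2 (.node 1 (.one ⟨2512, 6, 16⟩) (.one ⟨10611, 6, 16⟩)) (.node 1 (.one ⟨5594, 5, 15⟩) (.one ⟨9835, 4, 14⟩))) (.node 2 (.node 1 (.one ⟨9796, 4, 16⟩) (.one ⟨8759, 0, 16⟩))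 (.node 1 (.one ⟨9817, 4, 13⟩) (.one ⟨13677, 5, 14⟩)))) (.node 4 (.node 2 (.node 1 (.one ⟨11285, 0, 15⟩) (.one ⟨13646, 5, 15⟩)) (.node 1 (.one ⟨14139, 0, 14⟩) (.one ⟨3925, 0, 17⟩))) (.node 2 (.node 1 (.one ⟨1721, 4, 17⟩) (.one ⟨1772, 4, 16⟩)) (.node 1 (.one ⟨1739, 4, 16⟩) (.one ⟨8540, 3, 16⟩)))))) (.node 16 (.node 8 (.node 4 (.node 2 (.node 1 (.one ⟨3354, 2, 14⟩) (.one ⟨15012, 1, 14⟩)) (.node 1 (.one ⟨10138, 4, 15⟩) (.one ⟨10034, 4, 14⟩))) (.node 2 (.node 1 (.one ⟨3168, 2, 13⟩) (.one ⟨15008, 1, 15⟩)) (.node 1 (.one ⟨8551, 3, 17⟩) (.one ⟨13789, 2, 16⟩)))) (.node 4 (.node 2 (.node 1 (.one ⟨3151, 5, 13⟩) (.one ⟨13646, 2, 15⟩)) (.node 1 (.one ⟨1968, 4, 15⟩) (.one ⟨3125, 5, 15⟩))) (.node 2 (.node 1 (.one ⟨16620, 3, 15⟩) (.one ⟨11245,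 5, 13⟩)) (.node 1 (.one ⟨11178, 2, 16⟩) (.one ⟨12737, 5, 13⟩))))) (.node 8 (.node 4 (.node 2 (.node 1 (.one ⟨4777, 3, 16⟩) (.one ⟨3353, 5, 16⟩)) (.node 1 (.one ⟨11662, 5, 15⟩) (.one ⟨14697, 6, 16⟩))) (.node 2 (.node 1 (.one ⟨448, 5, 14⟩) (.one ⟨13980, 2, 16⟩)) (.node 1 (.one ⟨15044, 1, 15⟩) (.one ⟨13810, 4, 15⟩)))) (.node 4 (.node 2 (.node 1 (.one ⟨15051, 1, 17⟩) (.one ⟨3166, 6, 15⟩)) (.node 1 (.one ⟨7085, 4, 15⟩) (.one ⟨695, 5, 15⟩))) (.node 2 (.node 1 (.one ⟨20, 6, 14⟩) (.one ⟨3055, 4, 13⟩)) (.node 1 (.one ⟨11020, 4, 12⟩) (.one ⟨11646, 5, 14⟩)))))))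
def par0_14_11 : Arr Par :=
  (.node 32 (.node 16 (.node 8 (.node 4 (.node 2 (.node 1 (.one ⟨12739, 5, 14⟩) (.one ⟨427, 5, 15⟩)) (.node 1 (.one ⟨6246, 6, 17⟩) (.one ⟨14664, 6, 15⟩))) (.node 2 (.node 1 (.one ⟨4252, 2, 14⟩) (.one ⟨11437, 5, 15⟩)) (.node 1 (.one ⟨4779, 3, 15⟩) (.one ⟨720, 5, 14⟩)))) (.node 4 (.node 2 (.node 1 (.one ⟨11232, 6, 14⟩) (.one ⟨7062, 4, 16⟩)) (.node 1 (.one ⟨9875, 4, 14⟩) (.one ⟨1881, 2, 16⟩))) (.node 2 (.node 1 (.one ⟨11052, 4, 13⟩) (.one ⟨3038, 4, 14⟩)) (.node 1 (.one ⟨5012, 6, 16⟩) (.one ⟨9648, 3, 16⟩))))) (.node 8 (.node 4 (.node 2 (.node 1 (.one ⟨3142, 6, 13⟩) (.one ⟨11010, 4, 15⟩)) (.node 1 (.one ⟨2783, 5, 12⟩) (.one ⟨7412, 0, 13⟩))) (.node 2 (.node 1 (.one ⟨16981, 3, 16⟩) (.one ⟨2276, 5, 15⟩)) (.node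 1 (.one ⟨11133, 4, 13⟩) (.one ⟨9883, 4, 15⟩)))) (.node 4 (.node 2 (.node 1 (.one ⟨4112, 5, 16⟩) (.one ⟨760, 5, 14⟩)) (.node 1 (.one ⟨654, 2, 14⟩) (.one ⟨255, 2, 15⟩))) (.node 2 (.node 1 (.one ⟨3605, 5, 14⟩) (.one ⟨4768, 3, 16⟩)) (.node 1 (.one ⟨11096, 4, 14⟩) (.one ⟨10334, 5, 16⟩)))))) (.node 16 (.node 8 (.node 4 (.node 2 (.node 1 (.one ⟨11039, 4, 14⟩) (.one ⟨8884, 3, 15⟩)) (.node 1 (.one ⟨11193, 6, 12⟩) (.one ⟨9665, 3, 15⟩))) (.node 2 (.node 1 (.one ⟨10622, 0, 12⟩) (.one ⟨2773, 5, 13⟩)) (.node 1 (.one ⟨11088, 4, 14⟩) (.one ⟨15987, 6, 17⟩)))) (.node 4 (.node 2 (.node 1 (.one ⟨4774, 3, 15⟩) (.one ⟨15066, 1, 15⟩)) (.node 1 (.one ⟨15067, 1, 16⟩) (.one ⟨3621, 5, 15⟩))) (.node 2 (.node 1 (.one ⟨735, 5, 15⟩) (.one ⟨11126, 4, 15⟩)) (.node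 1 (.one ⟨9891, 4, 14⟩) (.one ⟨8742, 5, 13⟩))))) (.node 8 (.node 4 (.node 2 (.node 1 (.one ⟨16750, 6, 17⟩) (.one ⟨3783, 6, 16⟩)) (.node 1 (.one ⟨6864, 5, 16⟩) (.one ⟨533, 5, 15⟩))) (.node 2 (.node 1 (.one ⟨10261, 6, 14⟩) (.one ⟨6809, 5, 8⟩)) (.node 1 (.one ⟨3599, 5, 16⟩) (.one ⟨11040, 4, 11⟩)))) (.node 4 (.node 2 (.node 1 (.one ⟨4089, 6, 14⟩) (.one ⟨7014, 4, 15⟩)) (.node 1 (.one ⟨13877, 4, 14⟩) (.one ⟨16992, 3, 11⟩))) (.node 2 (.node 1 (.one ⟨47, 3, 15⟩) (.one ⟨6863, 5, 14⟩)) (.node 1 (.one ⟨12863, 3, 13⟩) (.one ⟨11008, 4, 12⟩)))))))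
def par0_14_12 : Arr Par :=
  (.node 32 (.node 16 (.node 8 (.node 4 (.node 2 (.node 1 (.one ⟨6868, 5, 14⟩) (.one ⟨8897, 3, 12⟩)) (.node 1 (.one ⟨6998, 4, 16⟩) (.one ⟨12857, 3, 14⟩))) (.node 2 (.node 1 (.one ⟨12168, 6, 15⟩) (.one ⟨3449, 3, 15⟩)) (.node 1 (.one ⟨4858, 4, 15⟩) (.one ⟨754, 4, 14⟩)))) (.node 4 (.node 2 (.node 1 (.one ⟨6709, 5, 9⟩) (.one ⟨3863, 6, 15⟩)) (.node 1 (.one ⟨8723, 5, 14⟩) (.one ⟨15150, 3, 16⟩))) (.node 2 (.node 1 (.one ⟨10176, 6, 15⟩) (.one ⟨16726, 6, 16⟩)) (.node 1 (.one ⟨5657, 2, 16⟩) (.one ⟨2017, 2, 14⟩))))) (.node 8 (.node 4 (.node 2 (.node 1 (.one ⟨6865, 5, 16⟩) (.one ⟨15105, 6, 13⟩)) (.node 1 (.one ⟨12424, 3, 15⟩) (.one ⟨2936, 4, 16⟩))) (.node 2 (.node 1 (.one ⟨12935, 4, 13⟩) (.one ⟨8409, 4, 14⟩)) (.node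 1 (.one ⟨15076, 4, 13⟩) (.one ⟨16478, 4, 16⟩)))) (.node 4 (.node 2 (.node 1 (.one ⟨15135, 1, 12⟩) (.one ⟨8461, 0, 15⟩)) (.node 1 (.one ⟨15139, 1, 7⟩) (.one ⟨16324, 2, 15⟩))) (.node 2 (.node 1 (.one ⟨12956, 4, 14⟩) (.one ⟨10482, 6, 14⟩)) (.node 1 (.one ⟨44, 5, 15⟩) (.one ⟨6676, 2, 11⟩)))))) (.node 16 (.node 8 (.node 4 (.node 2 (.node 1 (.one ⟨192, 5, 16⟩) (.one ⟨16446, 4, 15⟩)) (.node 1 (.one ⟨2438, 6, 14⟩) (.one ⟨9283, 2, 6⟩))) (.node 2 (.node 1 (.one ⟨12967, 4, 13⟩) (.one ⟨4331, 0, 16⟩)) (.node 1 (.one ⟨11896, 6, 15⟩) (.one ⟨17107, 2, 16⟩)))) (.node 4 (.node 2 (.node 1 (.one ⟨15059, 4, 14⟩) (.one ⟨12920, 4, 14⟩)) (.node 1 (.one ⟨12190, 6, 15⟩) (.one ⟨8376, 4, 13⟩))) (.node 2 (.node 1 (.one ⟨11525, 3, 13⟩) (.one ⟨15099, 6, 12⟩))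 (.node 1 (.one ⟨2967, 4, 15⟩) (.one ⟨4951, 5, 15⟩))))) (.node 8 (.node 4 (.node 2 (.node 1 (.one ⟨2721, 5, 17⟩) (.one ⟨8825, 4, 13⟩)) (.node 1 (.one ⟨10388, 5, 16⟩) (.one ⟨11251, 5, 16⟩))) (.node 2 (.node 1 (.one ⟨12069, 6, 14⟩) (.one ⟨15611, 6, 14⟩)) (.node 1 (.one ⟨3642, 5, 14⟩) (.one ⟨8267, 5, 11⟩)))) (.node 4 (.node 2 (.node 1 (.one ⟨8881, 5, 13⟩) (.one ⟨12100, 4, 16⟩)) (.node 1 (.one ⟨4194, 4, 12⟩) (.one ⟨17151, 2, 16⟩))) (.node 2 (.node 1 (.one ⟨6651, 5, 14⟩) (.one ⟨11277, 4, 17⟩)) (.node 1 (.one ⟨4671, 6, 15⟩) (.one ⟨6841, 3, 13⟩)))))))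
def par0_14_13 : Arr Par :=
  (.node 32 (.node 16 (.node 8 (.node 4 (.node 2 (.node 1 (.one ⟨12543, 4, 16⟩) (.one ⟨6006, 6, 16⟩)) (.node 1 (.one ⟨4714, 6, 16⟩) (.one ⟨3294, 2, 15⟩))) (.node 2 (.node 1 (.one ⟨15339, 0, 15⟩) (.one ⟨4008, 6, 14⟩)) (.node 1 (.one ⟨7190, 1, 9⟩) (.one ⟨9055, 5, 13⟩)))) (.node 4 (.node 2 (.node 1 (.one ⟨7498, 6, 14⟩) (.one ⟨8200, 3, 14⟩)) (.node 1 (.one ⟨6001, 6, 16⟩) (.one ⟨16225, 5, 16⟩))) (.node 2 (.node 1 (.one ⟨14730, 5, 15⟩) (.one ⟨16343, 5, 15⟩)) (.node 1 (.one ⟨4260, 4, 12⟩) (.one ⟨532, 3, 14⟩))))) (.node 8 (.node 4 (.node 2 (.node 1 (.one ⟨7172, 1, 9⟩) (.one ⟨4197, 3, 15⟩)) (.node 1 (.one ⟨7169, 1, 14⟩) (.one ⟨16830, 4, 16⟩))) (.node 2 (.node 1 (.one ⟨3227, 5, 14⟩) (.one ⟨8455, 0, 15⟩)) (.node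 1 (.one ⟨11392, 4, 12⟩) (.one ⟨10634, 4, 17⟩)))) (.node 4 (.node 2 (.node 1 (.one ⟨16281, 3, 14⟩) (.one ⟨5985, 6, 16⟩)) (.node 1 (.one ⟨3380, 4, 16⟩) (.one ⟨16355, 5, 10⟩))) (.node 2 (.node 1 (.one ⟨14720, 5, 12⟩) (.one ⟨5518, 3, 16⟩)) (.node 1 (.one ⟨7038, 5, 13⟩) (.one ⟨11359, 4, 6⟩)))))) (.node 16 (.node 8 (.node 4 (.node 2 (.node 1 (.one ⟨15311, 4, 12⟩) (.one ⟨13319, 4, 13⟩)) (.node 1 (.one ⟨5434, 2, 13⟩) (.one ⟨6370, 3, 9⟩))) (.node 2 (.node 1 (.one ⟨11274, 5, 11⟩) (.one ⟨14614, 4, 15⟩)) (.node 1 (.one ⟨4228, 3, 16⟩) (.one ⟨8246, 5, 12⟩)))) (.node 4 (.node 2 (.node 1 (.one ⟨7029, 5, 11⟩) (.one ⟨16263, 3, 10⟩)) (.node 1 (.one ⟨14998, 3, 14⟩) (.one ⟨17099, 5, 6⟩))) (.node 2 (.node 1 (.one ⟨7476, 6, 13⟩) (.one ⟨7159, 1, 16⟩))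 (.node 1 (.one ⟨6646, 5, 11⟩) (.one ⟨12038, 6, 14⟩))))) (.node 8 (.node 4 (.node 2 (.node 1 (.one ⟨12848, 5, 15⟩) (.one ⟨7141, 1, 9⟩)) (.node 1 (.one ⟨2713, 5, 17⟩) (.one ⟨10367, 5, 14⟩))) (.node 2 (.node 1 (.one ⟨1056, 6, 14⟩) (.one ⟨5224, 4, 12⟩)) (.node 1 (.one ⟨16622, 6, 15⟩) (.one ⟨2376, 4, 16⟩)))) (.node 4 (.node 2 (.node 1 (.one ⟨17123, 5, 16⟩) (.one ⟨16259, 3, 12⟩)) (.node 1 (.one ⟨4213, 4, 13⟩) (.one ⟨8285, 5, 11⟩))) (.node 2 (.node 1 (.one ⟨15000, 3, 16⟩) (.one ⟨15583, 6, 15⟩)) (.node 1 (.one ⟨3226, 4, 16⟩) (.one ⟨12858, 5, 16⟩)))))))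
def par0_14_14 : Arr Par :=
  (.node 32 (.node 16 (.node 8 (.node 4 (.node 2 (.node 1 (.one ⟨3296, 4, 16⟩) (.one ⟨6334, 3, 13⟩)) (.node 1 (.one ⟨2319, 5, 15⟩) (.one ⟨16932, 3, 15⟩))) (.node 2 (.node 1 (.one ⟨3385, 3, 15⟩) (.one ⟨14004, 6, 13⟩)) (.node 1 (.one ⟨16106, 3, 16⟩) (.one ⟨14708, 5, 15⟩)))) (.node 4 (.node 2 (.node 1 (.one ⟨8930, 5, 13⟩) (.one ⟨4150, 4, 13⟩)) (.node 1 (.one ⟨11452, 4, 13⟩) (.one ⟨13701, 2, 16⟩))) (.node 2 (.node 1 (.one ⟨4419, 0, 13⟩) (.one ⟨16333, 5, 15⟩)) (.node 1 (.one ⟨7529, 6, 15⟩) (.one ⟨7557, 0, 14⟩))))) (.node 8 (.node 4 (.node 2 (.node 1 (.one ⟨11560, 5, 14⟩) (.one ⟨11184, 6, 17⟩)) (.node 1 (.one ⟨15296, 4, 16⟩) (.one ⟨2346, 5, 16⟩))) (.node 2 (.node 1 (.one ⟨3213, 5, 15⟩) (.one ⟨5192, 4, 15⟩))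 (.node 1 (.one ⟨6832, 3, 16⟩) (.one ⟨14715, 5, 13⟩)))) (.node 4 (.node 2 (.node 1 (.one ⟨11133, 2, 13⟩) (.one ⟨3403, 4, 17⟩)) (.node 1 (.one ⟨16729, 0, 16⟩) (.one ⟨15006, 3, 17⟩))) (.node 2 (.node 1 (.one ⟨5708, 2, 13⟩) (.one ⟨16309, 5, 10⟩)) (.node 1 (.one ⟨16990, 5, 12⟩) (.one ⟨3267, 4, 16⟩)))))) (.node 16 (.node 8 (.node 4 (.node 2 (.node 1 (.one ⟨11293, 5, 14⟩) (.one ⟨7092, 1, 9⟩)) (.node 1 (.one ⟨3957, 6, 15⟩) (.one ⟨5294, 4, 13⟩))) (.node 2 (.node 1 (.one ⟨10366, 5, 16⟩) (.one ⟨11453, 3, 15⟩)) (.node 1 (.one ⟨7091, 1, 14⟩) (.one ⟨536, 3, 14⟩)))) (.node 4 (.node 2 (.node 1 (.one ⟨5261, 2, 16⟩) (.one ⟨4132, 4, 15⟩)) (.node 1 (.one ⟨16025, 0, 15⟩) (.one ⟨8211, 3, 12⟩))) (.node 2 (.node 1 (.one ⟨480, 6, 14⟩) (.one ⟨13575, 0, 12⟩))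 (.node 1 (.one ⟨17112, 5, 13⟩) (.one ⟨10424, 4, 15⟩))))) (.node 8 (.node 4 (.node 2 (.node 1 (.one ⟨16942, 3, 14⟩) (.one ⟨12660, 3, 14⟩)) (.node 1 (.one ⟨9652, 5, 16⟩) (.one ⟨9009, 5, 14⟩))) (.node 2 (.node 1 (.one ⟨11113, 2, 17⟩) (.one ⟨7313, 1, 13⟩)) (.node 1 (.one ⟨12316, 5, 15⟩) (.one ⟨13438, 3, 15⟩)))) (.node 4 (.node 2 (.node 1 (.one ⟨12147, 4, 14⟩) (.one ⟨5230, 4, 16⟩)) (.node 1 (.one ⟨6135, 0, 14⟩) (.one ⟨5127, 4, 11⟩))) (.node 2 (.node 1 (.one ⟨1044, 3, 14⟩) (.one ⟨8247, 5, 14⟩)) (.node 1 (.one ⟨14732, 2, 14⟩) (.one ⟨11505, 6, 12⟩)))))))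
def par0_14_15 : Arr Par :=
  (.node 32 (.node 16 (.node 8 (.node 4 (.node 2 (.node 1 (.one ⟨7329, 1, 15⟩) (.one ⟨15579, 4, 15⟩)) (.node 1 (.one ⟨9680, 5, 14⟩) (.one ⟨9045, 5, 14⟩))) (.node 2 (.node 1 (.one ⟨7328, 1, 15⟩) (.one ⟨15125, 6, 15⟩)) (.node 1 (.one ⟨11615, 6, 13⟩) (.one ⟨5406, 3, 15⟩)))) (.node 4 (.node 2 (.node 1 (.one ⟨3375, 6, 15⟩) (.one ⟨5125, 4, 12⟩)) (.node 1 (.one ⟨8291, 2, 14⟩) (.one ⟨12585, 4, 15⟩))) (.node 2 (.node 1 (.one ⟨16100, 6, 16⟩) (.one ⟨10907, 6, 13⟩)) (.node 1 (.one ⟨7019, 6, 14⟩) (.one ⟨12267, 5, 11⟩))))) (.node 8 (.node 4 (.node 2 (.node 1 (.one ⟨15772, 2, 14⟩) (.one ⟨17100, 5, 11⟩)) (.node 1 (.one ⟨1517, 3, 15⟩) (.one ⟨7510, 4, 14⟩))) (.node 2 (.node 1 (.one ⟨1590, 5, 11⟩) (.one ⟨3511, 6, 15⟩))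 (.node 1 (.one ⟨6645, 5, 11⟩) (.one ⟨4916, 5, 14⟩)))) (.node 4 (.node 2 (.node 1 (.one ⟨12649, 2, 14⟩) (.one ⟨15314, 5, 16⟩)) (.node 1 (.one ⟨12132, 4, 12⟩) (.one ⟨1611, 5, 16⟩))) (.node 2 (.node 1 (.one ⟨12558, 4, 14⟩) (.one ⟨16324, 5, 15⟩)) (.node 1 (.one ⟨13193, 4, 13⟩) (.one ⟨8839, 3, 14⟩)))))) (.node 16 (.node 8 (.node 4 (.node 2 (.node 1 (.one ⟨14754, 5, 14⟩) (.one ⟨4086, 2, 13⟩)) (.node 1 (.one ⟨6304, 3, 13⟩) (.one ⟨17130, 5, 14⟩))) (.node 2 (.node 1 (.one ⟨13393, 2, 15⟩) (.one ⟨15450, 6, 15⟩)) (.node 1 (.one ⟨12585, 6, 15⟩) (.one ⟨15518, 6, 13⟩)))) (.node 4 (.node 2 (.node 1 (.one ⟨7308, 1, 13⟩) (.one ⟨1643, 5, 16⟩)) (.node 1 (.one ⟨12401, 4, 15⟩) (.one ⟨7309, 1, 14⟩))) (.node 2 (.node 1 (.one ⟨3575, 6, 14⟩) (.one ⟨5508,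 4, 14⟩)) (.node 1 (.one ⟨13025, 5, 15⟩) (.one ⟨5537, 2, 17⟩))))) (.node 8 (.node 4 (.node 2 (.node 1 (.one ⟨2443, 4, 14⟩) (.one ⟨10395, 5, 14⟩)) (.node 1 (.one ⟨14302, 3, 15⟩) (.one ⟨3405, 4, 13⟩))) (.node 2 (.node 1 (.one ⟨11545, 6, 13⟩) (.one ⟨6225, 0, 15⟩)) (.node 1 (.one ⟨8797, 3, 15⟩) (.one ⟨12342, 4, 17⟩)))) (.node 4 (.node 2 (.node 1 (.one ⟨4035, 4, 15⟩) (.one ⟨3211, 5, 14⟩)) (.node 1 (.one ⟨3396, 6, 15⟩) (.one ⟨3953, 2, 17⟩))) (.node 2 (.node 1 (.one ⟨12273, 5, 15⟩) (.one ⟨12084, 2, 14⟩)) (.node 1 (.one ⟨13584, 4, 13⟩) (.one ⟨7266, 1, 15⟩)))))))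
def par0_14 : Arr Par :=
  (.node 512 (.node 256 (.node 128 (.node 64 par0_14_0 par0_14_1) (.node 64 par0_14_2 par0_14_3)) (.node 128 (.node 64 par0_14_4 par0_14_5) (.node 64 par0_14_6 par0_14_7))) (.node 256 (.node 128 (.node 64 par0_14_8 par0_14_9) (.node 64 par0_14_10 par0_14_11)) (.node 128 (.node 64 par0_14_12 par0_14_13) (.node 64 par0_14_14 par0_14_15))))
def par0_15_0 : Arr Par :=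
  (.node 32 (.node 16 (.node 8 (.node 4 (.node 2 (.node 1 (.one ⟨8157, 6, 14⟩) (.one ⟨10362, 5, 16⟩)) (.node 1 (.one ⟨10459, 4, 15⟩) (.one ⟨3418, 4, 12⟩))) (.node 2 (.node 1 (.one ⟨3264, 4, 16⟩) (.one ⟨9748, 5, 15⟩)) (.node 1 (.one ⟨7265, 1, 16⟩) (.one ⟨7277, 1, 14⟩)))) (.node 4 (.node 2 (.node 1 (.one ⟨5140, 4, 13⟩) (.one ⟨3242, 5, 14⟩)) (.node 1 (.one ⟨2845, 6, 15⟩) (.one ⟨9773, 5, 16⟩))) (.node 2 (.node 1 (.one ⟨5414, 3, 16⟩) (.one ⟨5197, 4, 17⟩)) (.node 1 (.one ⟨9165, 3, 14⟩) (.one ⟨7218, 1, 16⟩))))) (.node 8 (.node 4 (.node 2 (.node 1 (.one ⟨8759, 3, 16⟩) (.one ⟨1509, 3, 15⟩)) (.node 1 (.one ⟨6262, 3, 14⟩) (.one ⟨3386, 4, 14⟩))) (.node 2 (.node 1 (.one ⟨12236, 5, 13⟩) (.one ⟨1649, 5, 15⟩)) (.node 1 (.one ⟨2398, 4, 14⟩) (.one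 ⟨12225, 5, 17⟩)))) (.node 4 (.node 2 (.node 1 (.one ⟨13207, 4, 16⟩) (.one ⟨50, 3, 15⟩)) (.node 1 (.one ⟨4111, 4, 14⟩) (.one ⟨3971, 4, 12⟩))) (.node 2 (.node 1 (.one ⟨5375, 3, 16⟩) (.one ⟨13261, 4, 13⟩)) (.node 1 (.one ⟨3425, 2, 13⟩) (.one ⟨16559, 5, 15⟩)))))) (.node 16 (.node 8 (.node 4 (.node 2 (.node 1 (.one ⟨7469, 2, 12⟩) (.one ⟨9786, 2, 16⟩)) (.node 1 (.one ⟨16167, 6, 13⟩) (.one ⟨14731, 5, 14⟩))) (.node 2 (.node 1 (.one ⟨3437, 4, 13⟩) (.one ⟨4635, 3, 15⟩)) (.node 1 (.one ⟨14269, 3, 16⟩) (.one ⟨12102, 4, 15⟩)))) (.node 4 (.node 2 (.node 1 (.one ⟨4408, 6, 13⟩) (.one ⟨12881, 2, 16⟩)) (.node 1 (.one ⟨11279, 5, 16⟩) (.one ⟨5415, 3, 15⟩))) (.node 2 (.node 1 (.one ⟨16815, 3, 15⟩) (.one ⟨15074, 6, 13⟩)) (.node 1 (.one ⟨8208, 6, 15⟩)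 (.one ⟨4933, 6, 15⟩))))) (.node 8 (.node 4 (.node 2 (.node 1 (.one ⟨8211, 4, 12⟩) (.one ⟨7387, 1, 15⟩)) (.node 1 (.one ⟨12454, 2, 16⟩) (.one ⟨6890, 6, 14⟩))) (.node 2 (.node 1 (.one ⟨2566, 6, 13⟩) (.one ⟨16103, 5, 12⟩)) (.node 1 (.one ⟨15511, 4, 14⟩) (.one ⟨12186, 2, 13⟩)))) (.node 4 (.node 2 (.node 1 (.one ⟨4914, 6, 12⟩) (.one ⟨15502, 4, 11⟩)) (.node 1 (.one ⟨17106, 5, 16⟩) (.one ⟨16263, 4, 10⟩))) (.node 2 (.node 1 (.one ⟨13880, 5, 16⟩) (.one ⟨7382, 1, 14⟩)) (.node 1 (.one ⟨7985, 5, 11⟩) (.one ⟨5493, 3, 15⟩)))))))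
def par0_15_1 : Arr Par :=
  (.node 32 (.node 16 (.node 8 (.node 4 (.node 2 (.node 1 (.one ⟨4970, 6, 13⟩) (.one ⟨7632, 6, 15⟩)) (.node 1 (.one ⟨12471, 4, 12⟩) (.one ⟨3407, 4, 14⟩))) (.node 2 (.node 1 (.one ⟨6893, 6, 16⟩) (.one ⟨689, 6, 12⟩)) (.node 1 (.one ⟨16405, 6, 13⟩) (.one ⟨12520, 4, 12⟩)))) (.node 4 (.node 2 (.node 1 (.one ⟨8234, 4, 11⟩) (.one ⟨29, 3, 15⟩)) (.node 1 (.one ⟨6158, 5, 14⟩) (.one ⟨7437, 4, 14⟩))) (.node 2 (.node 1 (.one ⟨6272, 3, 14⟩) (.one ⟨5314, 4, 15⟩)) (.node 1 (.one ⟨16066, 5, 15⟩) (.one ⟨7342, 5, 12⟩))))) (.node 8 (.node 4 (.node 2 (.node 1 (.one ⟨15622, 5, 13⟩) (.one ⟨7906, 2, 15⟩)) (.node 1 (.one ⟨10623, 6, 12⟩) (.one ⟨12387, 2, 17⟩))) (.node 2 (.node 1 (.one ⟨11475, 4, 16⟩) (.one ⟨16051, 5, 11⟩)) (.node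 1 (.one ⟨7810, 5, 14⟩) (.one ⟨12468, 4, 13⟩)))) (.node 4 (.node 2 (.node 1 (.one ⟨15357, 5, 15⟩) (.one ⟨16297, 4, 13⟩)) (.node 1 (.one ⟨6472, 2, 14⟩) (.one ⟨7253, 6, 16⟩))) (.node 2 (.node 1 (.one ⟨5712, 0, 11⟩) (.one ⟨6260, 3, 13⟩)) (.node 1 (.one ⟨7118, 0, 15⟩) (.one ⟨7276, 5, 14⟩)))))) (.node 16 (.node 8 (.node 4 (.node 2 (.node 1 (.one ⟨15878, 5, 13⟩) (.one ⟨14215, 5, 16⟩)) (.node 1 (.one ⟨9047, 5, 16⟩) (.one ⟨16866, 5, 16⟩))) (.node 2 (.node 1 (.one ⟨5898, 5, 16⟩) (.one ⟨8003, 5, 10⟩)) (.node 1 (.one ⟨15643, 5, 13⟩) (.one ⟨15291, 5, 12⟩)))) (.node 4 (.node 2 (.node 1 (.one ⟨15635, 5, 13⟩) (.one ⟨10607, 6, 12⟩)) (.node 1 (.one ⟨16794, 3, 16⟩) (.one ⟨15961, 3, 15⟩))) (.node 2 (.node 1 (.one ⟨11501, 4, 16⟩) (.one ⟨15395, 6, 15⟩))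 (.node 1 (.one ⟨759, 6, 15⟩) (.one ⟨16611, 5, 16⟩))))) (.node 8 (.node 4 (.node 2 (.node 1 (.one ⟨16193, 6, 12⟩) (.one ⟨7434, 4, 15⟩)) (.node 1 (.one ⟨4634, 5, 15⟩) (.one ⟨7440, 1, 15⟩))) (.node 2 (.node 1 (.one ⟨2443, 6, 14⟩) (.one ⟨12629, 3, 16⟩)) (.node 1 (.one ⟨11612, 6, 15⟩) (.one ⟨15592, 4, 12⟩)))) (.node 4 (.node 2 (.node 1 (.one ⟨5697, 6, 14⟩) (.one ⟨16226, 6, 12⟩)) (.node 1 (.one ⟨2089, 2, 16⟩) (.one ⟨4642, 3, 16⟩))) (.node 2 (.node 1 (.one ⟨1674, 3, 15⟩) (.one ⟨7584, 4, 13⟩)) (.node 1 (.one ⟨6481, 2, 17⟩) (.one ⟨15575, 4, 15⟩)))))))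
def par0_15_2 : Arr Par :=
  (.node 32 (.node 16 (.node 8 (.node 4 (.node 2 (.node 1 (.one ⟨12867, 6, 15⟩) (.one ⟨11464, 4, 16⟩)) (.node 1 (.one ⟨14209, 3, 16⟩) (.one ⟨9726, 3, 14⟩))) (.node 2 (.node 1 (.one ⟨16237, 6, 13⟩) (.one ⟨12622, 5, 15⟩)) (.node 1 (.one ⟨7553, 4, 14⟩) (.one ⟨879, 3, 12⟩)))) (.node 4 (.node 2 (.node 1 (.one ⟨16199, 5, 6⟩) (.one ⟨15810, 5, 15⟩)) (.node 1 (.one ⟨9027, 5, 14⟩) (.one ⟨11237, 4, 15⟩))) (.node 2 (.node 1 (.one ⟨4450, 5, 12⟩) (.one ⟨8626, 3, 10⟩)) (.node 1 (.one ⟨1612, 3, 10⟩) (.one ⟨11383, 6, 15⟩))))) (.node 8 (.node 4 (.node 2 (.node 1 (.one ⟨2012, 2, 17⟩) (.one ⟨16562, 5, 14⟩)) (.node 1 (.one ⟨9705, 3, 14⟩) (.one ⟨3574, 2, 11⟩))) (.node 2 (.node 1 (.one ⟨16223, 5, 14⟩) (.one ⟨14176, 3, 14⟩))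 (.node 1 (.one ⟨15497, 4, 16⟩) (.one ⟨1687, 3, 13⟩)))) (.node 4 (.node 2 (.node 1 (.one ⟨3885, 5, 14⟩) (.one ⟨15825, 5, 17⟩)) (.node 1 (.one ⟨15993, 0, 15⟩) (.one ⟨4719, 3, 15⟩))) (.node 2 (.node 1 (.one ⟨12248, 2, 13⟩) (.one ⟨6803, 2, 13⟩)) (.node 1 (.one ⟨16627, 5, 12⟩) (.one ⟨9771, 3, 13⟩)))))) (.node 16 (.node 8 (.node 4 (.node 2 (.node 1 (.one ⟨8162, 5, 14⟩) (.one ⟨8614, 5, 15⟩)) (.node 1 (.one ⟨3865, 5, 13⟩) (.one ⟨15845, 5, 16⟩))) (.node 2 (.node 1 (.one ⟨764, 2, 16⟩) (.one ⟨12490, 5, 13⟩)) (.node 1 (.one ⟨11358, 6, 15⟩) (.one ⟨15906, 0, 13⟩)))) (.node 4 (.node 2 (.node 1 (.one ⟨8714, 3, 16⟩) (.one ⟨8548, 5, 15⟩)) (.node 1 (.one ⟨6154, 3, 13⟩) (.one ⟨3451, 4, 12⟩))) (.node 2 (.node 1 (.one ⟨11350, 0, 11⟩) (.one ⟨3555, 6,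 14⟩)) (.node 1 (.one ⟨1629, 3, 14⟩) (.one ⟨7501, 1, 17⟩))))) (.node 8 (.node 4 (.node 2 (.node 1 (.one ⟨7235, 6, 15⟩) (.one ⟨15633, 3, 11⟩)) (.node 1 (.one ⟨15892, 5, 15⟩) (.one ⟨11614, 5, 13⟩))) (.node 2 (.node 1 (.one ⟨15780, 6, 15⟩) (.one ⟨11855, 5, 14⟩)) (.node 1 (.one ⟨12632, 5, 15⟩) (.one ⟨3372, 4, 13⟩)))) (.node 4 (.node 2 (.node 1 (.one ⟨14606, 3, 14⟩) (.one ⟨5198, 4, 16⟩)) (.node 1 (.one ⟨13178, 4, 12⟩) (.one ⟨489, 6, 16⟩))) (.node 2 (.node 1 (.one ⟨7218, 4, 16⟩) (.one ⟨16996, 4, 16⟩)) (.node 1 (.one ⟨15347, 6, 14⟩) (.one ⟨6899, 6, 15⟩)))))))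
def par0_15_3 : Arr Par :=
  (.node 32 (.node 16 (.node 8 (.node 4 (.node 2 (.node 1 (.one ⟨13123, 6, 15⟩) (.one ⟨6725, 2, 14⟩)) (.node 1 (.one ⟨16353, 6, 10⟩) (.one ⟨7333, 6, 16⟩))) (.node 2 (.node 1 (.one ⟨13053, 6, 14⟩) (.one ⟨11576, 5, 17⟩)) (.node 1 (.one ⟨13262, 4, 17⟩) (.one ⟨11058, 2, 11⟩)))) (.node 4 (.node 2 (.node 1 (.one ⟨4950, 5, 13⟩) (.one ⟨13154, 6, 16⟩)) (.node 1 (.one ⟨15359, 4, 16⟩) (.one ⟨11368, 4, 6⟩))) (.node 2 (.node 1 (.one ⟨7730, 5, 12⟩) (.one ⟨16865, 4, 12⟩)) (.node 1 (.one ⟨16321, 6, 8⟩) (.one ⟨10620, 6, 14⟩))))) (.node 8 (.node 4 (.node 2 (.node 1 (.one ⟨16318, 6, 13⟩) (.one ⟨7813, 5, 15⟩)) (.node 1 (.one ⟨7709, 6, 16⟩) (.one ⟨6819, 2, 14⟩))) (.node 2 (.node 1 (.one ⟨15283, 6, 15⟩) (.one ⟨3319, 2, 16⟩))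 (.node 1 (.one ⟨8409, 2, 14⟩) (.one ⟨15873, 5, 14⟩)))) (.node 4 (.node 2 (.node 1 (.one ⟨8552, 5, 11⟩) (.one ⟨13113, 6, 14⟩)) (.node 1 (.one ⟨6910, 6, 13⟩) (.one ⟨3548, 5, 14⟩))) (.node 2 (.node 1 (.one ⟨167, 2, 13⟩) (.one ⟨16483, 5, 14⟩)) (.node 1 (.one ⟨7299, 6, 14⟩) (.one ⟨3878, 5, 14⟩)))))) (.node 16 (.node 8 (.node 4 (.node 2 (.node 1 (.one ⟨8801, 4, 13⟩) (.one ⟨7775, 5, 14⟩)) (.node 1 (.one ⟨11606, 5, 15⟩) (.one ⟨16337, 6, 14⟩))) (.node 2 (.node 1 (.one ⟨7718, 6, 15⟩) (.one ⟨13109, 6, 16⟩)) (.node 1 (.one ⟨11386, 4, 15⟩) (.one ⟨16308, 6, 9⟩)))) (.node 4 (.node 2 (.node 1 (.one ⟨10363, 2, 11⟩) (.one ⟨4200, 2, 10⟩)) (.node 1 (.one ⟨2619, 2, 12⟩) (.one ⟨3164, 4, 16⟩))) (.node 2 (.node 1 (.one ⟨3573, 2, 17⟩) (.one ⟨13070, 6, 15⟩))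 (.node 1 (.one ⟨8024, 5, 14⟩) (.one ⟨4409, 5, 15⟩))))) (.node 8 (.node 4 (.node 2 (.node 1 (.one ⟨4337, 2, 12⟩) (.one ⟨15828, 5, 14⟩)) (.node 1 (.one ⟨4908, 6, 13⟩) (.one ⟨14827, 6, 8⟩))) (.node 2 (.node 1 (.one ⟨12980, 5, 16⟩) (.one ⟨10518, 6, 15⟩)) (.node 1 (.one ⟨5442, 2, 13⟩) (.one ⟨3320, 6, 16⟩)))) (.node 4 (.node 2 (.node 1 (.one ⟨11663, 6, 12⟩) (.one ⟨13893, 5, 16⟩)) (.node 1 (.one ⟨4287, 4, 12⟩) (.one ⟨6787, 6, 13⟩))) (.node 2 (.node 1 (.one ⟨16281, 6, 14⟩) (.one ⟨15615, 4, 14⟩)) (.node 1 (.one ⟨7559, 1, 16⟩) (.one ⟨5685, 3, 13⟩)))))))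
def par0_15_4 : Arr Par :=
  (.node 32 (.node 16 (.node 8 (.node 4 (.node 2 (.node 1 (.one ⟨12449, 4, 11⟩) (.one ⟨6441, 4, 15⟩)) (.node 1 (.one ⟨13868, 6, 13⟩) (.one ⟨15546, 3, 13⟩))) (.node 2 (.node 1 (.one ⟨11237, 0, 15⟩) (.one ⟨11437, 6, 15⟩)) (.node 1 (.one ⟨6561, 4, 12⟩) (.one ⟨6809, 6, 8⟩)))) (.node 4 (.node 2 (.node 1 (.one ⟨5208, 2, 14⟩) (.one ⟨3037, 2, 12⟩)) (.node 1 (.one ⟨4348, 2, 11⟩) (.one ⟨7544, 1, 15⟩))) (.node 2 (.node 1 (.one ⟨5394, 4, 15⟩) (.one ⟨4932, 5, 15⟩)) (.node 1 (.one ⟨5888, 5, 14⟩) (.one ⟨3227, 3, 14⟩))))) (.node 8 (.node 4 (.node 2 (.node 1 (.one ⟨12399, 4, 11⟩) (.one ⟨7587, 1, 10⟩)) (.node 1 (.one ⟨13255, 4, 14⟩) (.one ⟨16259, 6, 12⟩))) (.node 2 (.node 1 (.one ⟨15655, 4, 13⟩) (.one ⟨13996, 3, 13⟩)) (.node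 1 (.one ⟨12946, 6, 16⟩) (.one ⟨6756, 0, 15⟩)))) (.node 4 (.node 2 (.node 1 (.one ⟨13963, 3, 12⟩) (.one ⟨15693, 2, 15⟩)) (.node 1 (.one ⟨6678, 2, 11⟩) (.one ⟨14576, 4, 12⟩))) (.node 2 (.node 1 (.one ⟨13853, 3, 15⟩) (.one ⟨13838, 6, 16⟩)) (.node 1 (.one ⟨11013, 5, 15⟩) (.one ⟨8225, 6, 11⟩)))))) (.node 16 (.node 8 (.node 4 (.node 2 (.node 1 (.one ⟨3197, 3, 12⟩) (.one ⟨3590, 6, 12⟩)) (.node 1 (.one ⟨6806, 6, 10⟩) (.one ⟨5823, 5, 15⟩))) (.node 2 (.node 1 (.one ⟨7574, 1, 16⟩) (.one ⟨8945, 6, 16⟩)) (.node 1 (.one ⟨15665, 2, 14⟩) (.one ⟨5393, 2, 12⟩)))) (.node 4 (.node 2 (.node 1 (.one ⟨10260, 3, 16⟩) (.one ⟨16932, 5, 15⟩)) (.node 1 (.one ⟨14779, 6, 11⟩) (.one ⟨15610, 3, 13⟩))) (.node 2 (.node 1 (.one ⟨13856, 6, 15⟩) (.one ⟨16253, 6, 11⟩))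 (.node 1 (.one ⟨15525, 4, 14⟩) (.one ⟨5874, 6, 16⟩))))) (.node 8 (.node 4 (.node 2 (.node 1 (.one ⟨7361, 5, 14⟩) (.one ⟨9957, 3, 13⟩)) (.node 1 (.one ⟨2405, 5, 16⟩) (.one ⟨3323, 6, 15⟩))) (.node 2 (.node 1 (.one ⟨5718, 3, 13⟩) (.one ⟨15793, 6, 15⟩)) (.node 1 (.one ⟨10524, 3, 13⟩) (.one ⟨7522, 3, 15⟩)))) (.node 4 (.node 2 (.node 1 (.one ⟨2747, 6, 13⟩) (.one ⟨12815, 5, 16⟩)) (.node 1 (.one ⟨4548, 4, 14⟩) (.one ⟨5224, 6, 12⟩))) (.node 2 (.node 1 (.one ⟨5748, 3, 15⟩) (.one ⟨11433, 6, 17⟩)) (.node 1 (.one ⟨10438, 5, 16⟩) (.one ⟨12351, 2, 16⟩)))))))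
def par0_15_5 : Arr Par :=
  (.node 32 (.node 16 (.node 8 (.node 4 (.node 2 (.node 1 (.one ⟨4910, 6, 14⟩) (.one ⟨11998, 0, 12⟩)) (.node 1 (.one ⟨2390, 5, 13⟩) (.one ⟨16801, 4, 15⟩))) (.node 2 (.node 1 (.one ⟨15448, 5, 16⟩) (.one ⟨15712, 1, 17⟩)) (.node 1 (.one ⟨13779, 3, 15⟩) (.one ⟨3253, 3, 15⟩)))) (.node 4 (.node 2 (.node 1 (.one ⟨13229, 0, 15⟩) (.one ⟨13890, 6, 16⟩)) (.node 1 (.one ⟨16781, 4, 15⟩) (.one ⟨7810, 6, 14⟩))) (.node 2 (.node 1 (.one ⟨2871, 3, 15⟩) (.one ⟨2425, 3, 14⟩)) (.node 1 (.one ⟨5238, 5, 13⟩) (.one ⟨5056, 2, 16⟩))))) (.node 8 (.node 4 (.node 2 (.node 1 (.one ⟨9921, 3, 14⟩) (.one ⟨2472, 3, 12⟩)) (.node 1 (.one ⟨5758, 3, 14⟩) (.one ⟨15904, 6, 16⟩))) (.node 2 (.node 1 (.one ⟨10980, 3, 15⟩) (.one ⟨15463, 5, 13⟩))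 (.node 1 (.one ⟨6731, 3, 16⟩) (.one ⟨6828, 3, 16⟩)))) (.node 4 (.node 2 (.node 1 (.one ⟨3351, 6, 16⟩) (.one ⟨4529, 4, 15⟩)) (.node 1 (.one ⟨12789, 4, 16⟩) (.one ⟨13271, 6, 11⟩))) (.node 2 (.node 1 (.one ⟨5720, 3, 14⟩) (.one ⟨15580, 3, 14⟩)) (.node 1 (.one ⟨2761, 6, 12⟩) (.one ⟨4887, 6, 13⟩)))))) (.node 16 (.node 8 (.node 4 (.node 2 (.node 1 (.one ⟨1966, 2, 16⟩) (.one ⟨6310, 0, 11⟩)) (.node 1 (.one ⟨7344, 5, 15⟩) (.one ⟨10467, 5, 14⟩))) (.node 2 (.node 1 (.one ⟨16788, 4, 16⟩) (.one ⟨15679, 1, 17⟩)) (.node 1 (.one ⟨13816, 3, 14⟩) (.one ⟨16765, 4, 15⟩)))) (.node 4 (.node 2 (.node 1 (.one ⟨13973, 6, 15⟩) (.one ⟨2908, 3, 16⟩)) (.node 1 (.one ⟨7761, 6, 13⟩) (.one ⟨10510, 3, 13⟩))) (.node 2 (.node 1 (.one ⟨13318, 5, 14⟩) (.one ⟨9751, 4,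 15⟩)) (.node 1 (.one ⟨15296, 0, 16⟩) (.one ⟨13029, 6, 13⟩))))) (.node 8 (.node 4 (.node 2 (.node 1 (.one ⟨5493, 5, 15⟩) (.one ⟨16355, 6, 10⟩)) (.node 1 (.one ⟨7819, 4, 16⟩) (.one ⟨11920, 3, 14⟩))) (.node 2 (.node 1 (.one ⟨15762, 1, 15⟩) (.one ⟨7761, 4, 13⟩)) (.node 1 (.one ⟨15766, 1, 14⟩) (.one ⟨14878, 4, 15⟩)))) (.node 4 (.node 2 (.node 1 (.one ⟨3860, 3, 16⟩) (.one ⟨5528, 5, 16⟩)) (.node 1 (.one ⟨10399, 6, 14⟩) (.one ⟨8388, 3, 14⟩))) (.node 2 (.node 1 (.one ⟨5415, 6, 15⟩) (.one ⟨11169, 3, 15⟩)) (.node 1 (.one ⟨16812, 2, 17⟩) (.one ⟨16285, 5, 15⟩)))))))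
def par0_15_6 : Arr Par :=
  (.node 32 (.node 16 (.node 8 (.node 4 (.node 2 (.node 1 (.one ⟨15175, 6, 14⟩) (.one ⟨14855, 4, 14⟩)) (.node 1 (.one ⟨13031, 3, 17⟩) (.one ⟨16469, 3, 14⟩))) (.node 2 (.node 1 (.one ⟨15779, 1, 17⟩) (.one ⟨5406, 6, 15⟩)) (.node 1 (.one ⟨7761, 3, 13⟩) (.one ⟨7102, 6, 13⟩)))) (.node 4 (.node 2 (.node 1 (.one ⟨5403, 2, 16⟩) (.one ⟨10394, 6, 17⟩)) (.node 1 (.one ⟨4941, 6, 11⟩) (.one ⟨14747, 6, 14⟩))) (.node 2 (.node 1 (.one ⟨15785, 1, 9⟩) (.one ⟨15786, 1, 12⟩)) (.node 1 (.one ⟨15787, 1, 13⟩) (.one ⟨998, 6, 14⟩))))) (.node 8 (.node 4 (.node 2 (.node 1 (.one ⟨9894, 2, 14⟩) (.one ⟨8276, 6, 11⟩)) (.node 1 (.one ⟨14768, 2, 14⟩) (.one ⟨7770, 4, 17⟩))) (.node 2 (.node 1 (.one ⟨11840, 3, 13⟩) (.one ⟨12991, 6, 14⟩))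 (.node 1 (.one ⟨6438, 2, 13⟩) (.one ⟨13292, 2, 15⟩)))) (.node 4 (.node 2 (.node 1 (.one ⟨16294, 5, 16⟩) (.one ⟨14768, 4, 14⟩)) (.node 1 (.one ⟨6661, 6, 16⟩) (.one ⟨2319, 6, 15⟩))) (.node 2 (.node 1 (.one ⟨8420, 3, 13⟩) (.one ⟨13374, 6, 16⟩)) (.node 1 (.one ⟨7779, 3, 16⟩) (.one ⟨14820, 4, 15⟩)))))) (.node 16 (.node 8 (.node 4 (.node 2 (.node 1 (.one ⟨8178, 5, 14⟩) (.one ⟨16433, 3, 13⟩)) (.node 1 (.one ⟨13387, 6, 16⟩) (.one ⟨5042, 2, 16⟩))) (.node 2 (.node 1 (.one ⟨7810, 3, 14⟩) (.one ⟨1579, 4, 17⟩)) (.node 1 (.one ⟨7195, 6, 15⟩) (.one ⟨15752, 1, 17⟩)))) (.node 4 (.node 2 (.node 1 (.one ⟨2346, 6, 16⟩) (.one ⟨1501, 2, 8⟩)) (.node 1 (.one ⟨3542, 2, 11⟩) (.one ⟨11986, 2, 12⟩))) (.node 2 (.node 1 (.one ⟨14711, 6, 13⟩) (.one ⟨4972, 6,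 12⟩)) (.node 1 (.one ⟨15278, 6, 14⟩) (.one ⟨15488, 6, 16⟩))))) (.node 8 (.node 4 (.node 2 (.node 1 (.one ⟨7801, 6, 15⟩) (.one ⟨15237, 5, 14⟩)) (.node 1 (.one ⟨16201, 2, 11⟩) (.one ⟨11855, 6, 14⟩))) (.node 2 (.node 1 (.one ⟨5089, 3, 12⟩) (.one ⟨7747, 4, 15⟩)) (.node 1 (.one ⟨4125, 0, 12⟩) (.one ⟨15463, 6, 13⟩)))) (.node 4 (.node 2 (.node 1 (.one ⟨16314, 3, 15⟩) (.one ⟨14813, 6, 11⟩)) (.node 1 (.one ⟨9916, 0, 13⟩) (.one ⟨7929, 4, 13⟩))) (.node 2 (.node 1 (.one ⟨4990, 3, 16⟩) (.one ⟨3557, 4, 15⟩)) (.node 1 (.one ⟨3762, 4, 16⟩) (.one ⟨9953, 4, 16⟩)))))))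
def par0_15_7 : Arr Par :=
  (.node 32 (.node 16 (.node 8 (.node 4 (.node 2 (.node 1 (.one ⟨15890, 1, 16⟩) (.one ⟨13107, 3, 14⟩)) (.node 1 (.one ⟨6386, 2, 14⟩) (.one ⟨15508, 6, 15⟩))) (.node 2 (.node 1 (.one ⟨14871, 6, 14⟩) (.one ⟨16261, 6, 15⟩)) (.node 1 (.one ⟨1786, 4, 13⟩) (.one ⟨999, 2, 13⟩)))) (.node 4 (.node 2 (.node 1 (.one ⟨10439, 5, 13⟩) (.one ⟨15911, 3, 15⟩)) (.node 1 (.one ⟨7211, 5, 14⟩) (.one ⟨944, 5, 16⟩))) (.node 2 (.node 1 (.one ⟨866, 2, 12⟩) (.one ⟨14863, 5, 17⟩)) (.node 1 (.one ⟨15898, 1, 16⟩) (.one ⟨5781, 5, 13⟩))))) (.node 8 (.node 4 (.node 2 (.node 1 (.one ⟨13884, 3, 14⟩) (.one ⟨192, 2, 16⟩)) (.node 1 (.one ⟨11378, 5, 17⟩) (.one ⟨5594, 3, 15⟩))) (.node 2 (.node 1 (.one ⟨5101, 3, 13⟩) (.one ⟨15757, 3, 13⟩)) (.node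 1 (.one ⟨1102, 5, 17⟩) (.one ⟨10672, 2, 14⟩)))) (.node 4 (.node 2 (.node 1 (.one ⟨1775, 2, 10⟩) (.one ⟨15196, 5, 13⟩)) (.node 1 (.one ⟨6389, 2, 14⟩) (.one ⟨16305, 3, 13⟩))) (.node 2 (.node 1 (.one ⟨14823, 5, 15⟩) (.one ⟨7171, 5, 14⟩)) (.node 1 (.one ⟨10514, 5, 16⟩) (.one ⟨3826, 6, 13⟩)))))) (.node 16 (.node 8 (.node 4 (.node 2 (.node 1 (.one ⟨8195, 6, 14⟩) (.one ⟨4194, 2, 12⟩)) (.node 1 (.one ⟨5572, 3, 17⟩) (.one ⟨13754, 5, 11⟩))) (.node 2 (.node 1 (.one ⟨11544, 6, 12⟩) (.one ⟨13774, 5, 15⟩)) (.node 1 (.one ⟨7881, 4, 17⟩) (.one ⟨13902, 4, 13⟩)))) (.node 4 (.node 2 (.node 1 (.one ⟨214, 5, 15⟩) (.one ⟨7095, 5, 15⟩)) (.node 1 (.one ⟨14221, 4, 16⟩) (.one ⟨6788, 5, 14⟩))) (.node 2 (.node 1 (.one ⟨12501, 6, 16⟩) (.one ⟨7715, 4, 16⟩))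 (.node 1 (.one ⟨11930, 6, 15⟩) (.one ⟨15273, 5, 16⟩))))) (.node 8 (.node 4 (.node 2 (.node 1 (.one ⟨15841, 1, 13⟩) (.one ⟨3340, 3, 14⟩)) (.node 1 (.one ⟨1097, 5, 16⟩) (.one ⟨3453, 6, 13⟩))) (.node 2 (.node 1 (.one ⟨13844, 5, 12⟩) (.one ⟨3810, 6, 14⟩)) (.node 1 (.one ⟨15267, 5, 14⟩) (.one ⟨7089, 5, 16⟩)))) (.node 4 (.node 2 (.node 1 (.one ⟨14608, 3, 16⟩) (.one ⟨6760, 5, 13⟩)) (.node 1 (.one ⟨11611, 4, 15⟩) (.one ⟨10931, 3, 15⟩))) (.node 2 (.node 1 (.one ⟨757, 5, 16⟩) (.one ⟨13975, 4, 14⟩)) (.node 1 (.one ⟨14196, 4, 15⟩) (.one ⟨12439, 2, 15⟩)))))))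
def par0_15_8 : Arr Par :=
  (.node 32 (.node 16 (.node 8 (.node 4 (.node 2 (.node 1 (.one ⟨5693, 5, 14⟩) (.one ⟨13998, 3, 13⟩)) (.node 1 (.one ⟨12442, 2, 16⟩) (.one ⟨12443, 2, 17⟩))) (.node 2 (.node 1 (.one ⟨13148, 3, 12⟩) (.one ⟨5562, 3, 14⟩)) (.node 1 (.one ⟨15786, 3, 12⟩) (.one ⟨2468, 5, 15⟩)))) (.node 4 (.node 2 (.node 1 (.one ⟨8262, 3, 14⟩) (.one ⟨14848, 5, 16⟩)) (.node 1 (.one ⟨15190, 5, 13⟩) (.one ⟨3850, 6, 14⟩))) (.node 2 (.node 1 (.one ⟨15831, 1, 15⟩) (.one ⟨15832, 1, 11⟩)) (.node 1 (.one ⟨7181, 5, 14⟩) (.one ⟨5055, 3, 13⟩))))) (.node 8 (.node 4 (.node 2 (.node 1 (.one ⟨5760, 5, 15⟩) (.one ⟨7326, 0, 16⟩)) (.node 1 (.one ⟨4446, 2, 15⟩) (.one ⟨8238, 6, 14⟩))) (.node 2 (.node 1 (.one ⟨1797, 4, 14⟩) (.one ⟨7411, 6, 16⟩)) (.node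 1 (.one ⟨14772, 6, 15⟩) (.one ⟨14775, 5, 16⟩)))) (.node 4 (.node 2 (.node 1 (.one ⟨408, 5, 15⟩) (.one ⟨15820, 1, 13⟩)) (.node 1 (.one ⟨15902, 2, 15⟩) (.one ⟨15164, 5, 15⟩))) (.node 2 (.node 1 (.one ⟨2363, 5, 14⟩) (.one ⟨15815, 1, 14⟩)) (.node 1 (.one ⟨15802, 3, 14⟩) (.one ⟨7788, 6, 16⟩)))))) (.node 16 (.node 8 (.node 4 (.node 2 (.node 1 (.one ⟨7124, 5, 15⟩) (.one ⟨3203, 3, 16⟩)) (.node 1 (.one ⟨15794, 1, 12⟩) (.one ⟨7827, 4, 16⟩))) (.node 2 (.node 1 (.one ⟨13138, 3, 13⟩) (.one ⟨13869, 0, 13⟩)) (.node 1 (.one ⟨11903, 6, 13⟩) (.one ⟨16374, 0, 14⟩)))) (.node 4 (.node 2 (.node 1 (.one ⟨3875, 4, 15⟩) (.one ⟨8269, 3, 16⟩)) (.node 1 (.one ⟨5018, 3, 17⟩) (.one ⟨7361, 6, 14⟩))) (.node 2 (.node 1 (.one ⟨7928, 4, 12⟩) (.one ⟨14831, 6, 12⟩))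 (.node 1 (.one ⟨3550, 4, 16⟩) (.one ⟨16242, 3, 17⟩))))) (.node 8 (.node 4 (.node 2 (.node 1 (.one ⟨12035, 6, 14⟩) (.one ⟨3995, 6, 12⟩)) (.node 1 (.one ⟨10477, 5, 15⟩) (.one ⟨8220, 3, 16⟩))) (.node 2 (.node 1 (.one ⟨3961, 6, 13⟩) (.one ⟨12063, 6, 11⟩)) (.node 1 (.one ⟨2394, 5, 16⟩) (.one ⟨8177, 3, 14⟩)))) (.node 4 (.node 2 (.node 1 (.one ⟨8193, 3, 15⟩) (.one ⟨16278, 3, 14⟩)) (.node 1 (.one ⟨4014, 6, 13⟩) (.one ⟨16286, 3, 15⟩))) (.node 2 (.node 1 (.one ⟨16300, 3, 14⟩) (.one ⟨2381, 5, 14⟩)) (.node 1 (.one ⟨12049, 6, 12⟩) (.one ⟨6811, 5, 15⟩)))))))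
def par0_15_9 : Arr Par :=
  (.node 32 (.node 16 (.node 8 (.node 4 (.node 2 (.node 1 (.one ⟨15938, 1, 14⟩) (.one ⟨6708, 5, 14⟩)) (.node 1 (.one ⟨8136, 2, 13⟩) (.one ⟨14815, 5, 14⟩))) (.node 2 (.node 1 (.one ⟨15942, 1, 14⟩) (.one ⟨14857, 5, 13⟩)) (.node 1 (.one ⟨8331, 2, 13⟩) (.one ⟨12266, 2, 12⟩)))) (.node 4 (.node 2 (.node 1 (.one ⟨15943, 1, 13⟩) (.one ⟨14777, 5, 12⟩)) (.node 1 (.one ⟨14865, 5, 13⟩) (.one ⟨14213, 3, 14⟩))) (.node 2 (.node 1 (.one ⟨14204, 3, 15⟩) (.one ⟨6754, 5, 12⟩)) (.node 1 (.one ⟨6792, 5, 13⟩) (.one ⟨8638, 4, 15⟩))))) (.node 8 (.node 4 (.node 2 (.node 1 (.one ⟨15409, 3, 16⟩) (.one ⟨7387, 3, 15⟩)) (.node 1 (.one ⟨17167, 2, 15⟩) (.one ⟨14574, 6, 13⟩))) (.node 2 (.node 1 (.one ⟨13250, 5, 13⟩) (.one ⟨5170, 5, 14⟩))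 (.node 1 (.one ⟨6484, 6, 14⟩) (.one ⟨16724, 4, 15⟩)))) (.node 4 (.node 2 (.node 1 (.one ⟨13334, 5, 11⟩) (.one ⟨5186, 5, 14⟩)) (.node 1 (.one ⟨15965, 1, 16⟩) (.one ⟨5280, 5, 12⟩))) (.node 2 (.node 1 (.one ⟨16747, 4, 16⟩) (.one ⟨1930, 2, 15⟩)) (.node 1 (.one ⟨13231, 5, 15⟩) (.one ⟨5878, 4, 16⟩)))))) (.node 16 (.node 8 (.node 4 (.node 2 (.node 1 (.one ⟨1999, 5, 13⟩) (.one ⟨5858, 4, 17⟩)) (.node 1 (.one ⟨2046, 5, 14⟩) (.one ⟨11614, 3, 13⟩))) (.node 2 (.node 1 (.one ⟨11630, 3, 16⟩) (.one ⟨11621, 3, 14⟩)) (.node 1 (.one ⟨11606, 3, 15⟩) (.one ⟨13942, 4, 16⟩)))) (.node 4 (.node 2 (.node 1 (.one ⟨14633, 6, 17⟩) (.one ⟨13922, 4, 15⟩)) (.node 1 (.one ⟨6558, 6, 16⟩) (.one ⟨6546, 6, 14⟩))) (.node 2 (.node 1 (.one ⟨1995, 5, 14⟩) (.one ⟨14630,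 6, 15⟩)) (.node 1 (.one ⟨2084, 5, 14⟩) (.one ⟨10086, 5, 15⟩))))) (.node 8 (.node 4 (.node 2 (.node 1 (.one ⟨3783, 4, 16⟩) (.one ⟨3837, 4, 16⟩)) (.node 1 (.one ⟨3820, 4, 15⟩) (.one ⟨1832, 3, 16⟩))) (.node 2 (.node 1 (.one ⟨1809, 3, 17⟩) (.one ⟨1978, 5, 14⟩)) (.node 1 (.one ⟨2068, 5, 15⟩) (.one ⟨1782, 3, 14⟩)))) (.node 4 (.node 2 (.node 1 (.one ⟨2025, 5, 14⟩) (.one ⟨15994, 1, 14⟩)) (.node 1 (.one ⟨11609, 2, 13⟩) (.one ⟨1789, 3, 15⟩))) (.node 2 (.node 1 (.one ⟨1798, 3, 14⟩) (.one ⟨8171, 2, 16⟩)) (.node 1 (.one ⟨11932, 4, 15⟩) (.one ⟨2280, 6, 17⟩)))))))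
def par0_15_10 : Arr Par :=
  (.node 32 (.node 16 (.node 8 (.node 4 (.node 2 (.node 1 (.one ⟨8972, 3, 13⟩) (.one ⟨17055, 3, 14⟩)) (.node 1 (.one ⟨13257, 5, 16⟩) (.one ⟨13325, 5, 16⟩))) (.node 2 (.node 1 (.one ⟨5275, 5, 16⟩) (.one ⟨2276, 6, 15⟩)) (.node 1 (.one ⟨17040, 3, 16⟩) (.one ⟨5195, 5, 14⟩)))) (.node 4 (.node 2 (.node 1 (.one ⟨5289, 5, 15⟩) (.one ⟨13342, 5, 14⟩)) (.node 1 (.one ⟨13242, 5, 14⟩) (.one ⟨10343, 6, 14⟩))) (.node 2 (.node 1 (.one ⟨13278, 5, 15⟩) (.one ⟨10866, 4, 16⟩)) (.node 1 (.one ⟨2257, 6, 15⟩) (.one ⟨16020, 1, 16⟩))))) (.node 8 (.node 4 (.node 2 (.node 1 (.one ⟨6153, 4, 15⟩) (.one ⟨8325, 6, 17⟩)) (.node 1 (.one ⟨16399, 6, 16⟩) (.one ⟨6131, 4, 15⟩))) (.node 2 (.node 1 (.one ⟨15718, 2, 15⟩) (.one ⟨8362, 6, 15⟩))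 (.node 1 (.one ⟨6326, 3, 17⟩) (.one ⟨4458, 2, 16⟩)))) (.node 4 (.node 2 (.node 1 (.one ⟨4134, 2, 17⟩) (.one ⟨16030, 1, 14⟩)) (.node 1 (.one ⟨16029, 1, 15⟩) (.one ⟨2402, 5, 17⟩))) (.node 2 (.node 1 (.one ⟨2374, 5, 16⟩) (.one ⟨1817, 2, 14⟩)) (.node 1 (.one ⟨2062, 2, 13⟩) (.one ⟨11620, 2, 16⟩)))))) (.node 16 (.node 8 (.node 4 (.node 2 (.node 1 (.one ⟨6735, 5, 16⟩) (.one ⟨10251, 2, 16⟩)) (.node 1 (.one ⟨11988, 6, 16⟩) (.one ⟨5773, 0, 14⟩))) (.node 2 (.node 1 (.one ⟨16037, 1, 15⟩) (.one ⟨11818, 2, 14⟩)) (.node 1 (.one ⟨4166, 0, 13⟩) (.one ⟨8238, 2, 14⟩)))) (.node 4 (.node 2 (.node 1 (.one ⟨14832, 5, 16⟩) (.one ⟨14811, 5, 17⟩)) (.node 1 (.one ⟨16039, 1, 15⟩) (.one ⟨16046, 1, 13⟩))) (.node 2 (.node 1 (.one ⟨13931, 4, 16⟩) (.one ⟨6830,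 5, 16⟩)) (.node 1 (.one ⟨4260, 2, 12⟩) (.one ⟨13279, 6, 14⟩))))) (.node 8 (.node 4 (.node 2 (.node 1 (.one ⟨3005, 5, 13⟩) (.one ⟨6134, 3, 15⟩)) (.node 1 (.one ⟨8750, 4, 14⟩) (.one ⟨2945, 4, 10⟩))) (.node 2 (.node 1 (.one ⟨16038, 3, 14⟩) (.one ⟨7868, 4, 15⟩)) (.node 1 (.one ⟨12876, 6, 15⟩) (.one ⟨7869, 4, 15⟩)))) (.node 4 (.node 2 (.node 1 (.one ⟨16805, 5, 13⟩) (.one ⟨5732, 5, 16⟩)) (.node 1 (.one ⟨8699, 4, 16⟩) (.one ⟨11013, 4, 15⟩))) (.node 2 (.node 1 (.one ⟨15659, 2, 14⟩) (.one ⟨5878, 6, 16⟩)) (.node 1 (.one ⟨3029, 5, 14⟩) (.one ⟨16787, 5, 14⟩)))))))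
def par0_15_11 : Arr Par :=
  (.node 32 (.node 16 (.node 8 (.node 4 (.node 2 (.node 1 (.one ⟨15740, 5, 16⟩) (.one ⟨5858, 6, 17⟩)) (.node 1 (.one ⟨11045, 4, 14⟩) (.one ⟨16060, 1, 15⟩))) (.node 2 (.node 1 (.one ⟨3070, 5, 15⟩) (.one ⟨12528, 2, 16⟩)) (.node 1 (.one ⟨7864, 4, 16⟩) (.one ⟨8728, 4, 15⟩)))) (.node 4 (.node 2 (.node 1 (.one ⟨6158, 3, 14⟩) (.one ⟨4992, 5, 14⟩)) (.node 1 (.one ⟨2981, 4, 11⟩) (.one ⟨7865, 4, 16⟩))) (.node 2 (.node 1 (.one ⟨7777, 4, 15⟩) (.one ⟨5201, 6, 15⟩)) (.node 1 (.one ⟨3092, 5, 14⟩) (.one ⟨3372, 6, 13⟩))))) (.node 8 (.node 4 (.node 2 (.node 1 (.one ⟨2974, 4, 12⟩) (.one ⟨4783, 6, 15⟩)) (.node 1 (.one ⟨10814, 4, 16⟩) (.one ⟨13302, 6, 15⟩))) (.node 2 (.node 1 (.one ⟨16794, 5, 16⟩) (.one ⟨10889, 6, 13⟩)) (.node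 1 (.one ⟨16766, 4, 16⟩) (.one ⟨4843, 6, 16⟩)))) (.node 4 (.node 2 (.node 1 (.one ⟨16262, 6, 15⟩) (.one ⟨13087, 5, 15⟩)) (.node 1 (.one ⟨5018, 0, 17⟩) (.one ⟨16472, 4, 16⟩))) (.node 2 (.node 1 (.one ⟨11089, 5, 14⟩) (.one ⟨1038, 4, 14⟩)) (.node 1 (.one ⟨288, 3, 15⟩) (.one ⟨8236, 6, 16⟩)))))) (.node 16 (.node 8 (.node 4 (.node 2 (.node 1 (.one ⟨753, 4, 15⟩) (.one ⟨11130, 5, 13⟩)) (.node 1 (.one ⟨13057, 5, 14⟩) (.one ⟨7867, 4, 17⟩))) (.node 2 (.node 1 (.one ⟨16441, 4, 15⟩) (.one ⟨15749, 5, 16⟩)) (.node 1 (.one ⟨13838, 5, 16⟩) (.one ⟨2935, 4, 11⟩)))) (.node 4 (.node 2 (.node 1 (.one ⟨10865, 6, 12⟩) (.one ⟨10828, 4, 15⟩)) (.node 1 (.one ⟨523, 5, 15⟩) (.one ⟨8381, 4, 16⟩))) (.node 2 (.node 1 (.one ⟨4812, 6, 14⟩) (.one ⟨7671, 5, 15⟩)) (.node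 1 (.one ⟨11415, 6, 14⟩) (.one ⟨3598, 5, 15⟩))))) (.node 8 (.node 4 (.node 2 (.node 1 (.one ⟨6432, 3, 15⟩) (.one ⟨557, 3, 14⟩)) (.node 1 (.one ⟨6028, 3, 16⟩) (.one ⟨15271, 6, 15⟩))) (.node 2 (.node 1 (.one ⟨10454, 5, 13⟩) (.one ⟨10036, 4, 15⟩)) (.node 1 (.one ⟨14754, 0, 14⟩) (.one ⟨511, 2, 13⟩)))) (.node 4 (.node 2 (.node 1 (.one ⟨1027, 2, 13⟩) (.one ⟨12059, 5, 13⟩)) (.node 1 (.one ⟨626, 2, 14⟩) (.one ⟨291, 2, 14⟩))) (.node 2 (.node 1 (.one ⟨833, 2, 14⟩) (.one ⟨379, 2, 13⟩)) (.node 1 (.one ⟨2761, 5, 12⟩) (.one ⟨11183, 5, 16⟩)))))))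
def par0_15_12 : Arr Par :=
  (.node 32 (.node 16 (.node 8 (.node 4 (.node 2 (.node 1 (.one ⟨3576, 5, 16⟩) (.one ⟨13484, 0, 13⟩)) (.node 1 (.one ⟨13258, 5, 15⟩) (.one ⟨7510, 0, 14⟩))) (.node 2 (.node 1 (.one ⟨7095, 6, 15⟩) (.one ⟨7398, 2, 16⟩)) (.node 1 (.one ⟨2401, 5, 12⟩) (.one ⟨2747, 5, 13⟩)))) (.node 4 (.node 2 (.node 1 (.one ⟨16125, 1, 14⟩) (.one ⟨4000, 5, 14⟩)) (.node 1 (.one ⟨16122, 1, 15⟩) (.one ⟨16123, 1, 15⟩))) (.node 2 (.node 1 (.one ⟨16124, 1, 15⟩) (.one ⟨16120, 1, 14⟩)) (.node 1 (.one ⟨16119, 1, 14⟩) (.one ⟨3615, 5, 16⟩))))) (.node 8 (.node 4 (.node 2 (.node 1 (.one ⟨3121, 5, 15⟩) (.one ⟨14830, 4, 15⟩)) (.node 1 (.one ⟨7211, 6, 14⟩) (.one ⟨1056, 5, 14⟩))) (.node 2 (.node 1 (.one ⟨5276, 5, 16⟩) (.one ⟨10485, 5, 13⟩))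 (.node 1 (.one ⟨5947, 3, 15⟩) (.one ⟨12783, 5, 13⟩)))) (.node 4 (.node 2 (.node 1 (.one ⟨13239, 5, 16⟩) (.one ⟨5496, 3, 15⟩)) (.node 1 (.one ⟨1978, 4, 14⟩) (.one ⟨24, 3, 14⟩))) (.node 2 (.node 1 (.one ⟨11667, 5, 16⟩) (.one ⟨2389, 5, 13⟩)) (.node 1 (.one ⟨8327, 6, 15⟩) (.one ⟨3603, 5, 15⟩)))))) (.node 16 (.node 8 (.node 4 (.node 2 (.node 1 (.one ⟨2434, 5, 12⟩) (.one ⟨3963, 5, 14⟩)) (.node 1 (.one ⟨274, 5, 13⟩) (.one ⟨13358, 5, 15⟩))) (.node 2 (.node 1 (.one ⟨15164, 6, 15⟩) (.one ⟨5965, 3, 14⟩)) (.node 1 (.one ⟨11208, 5, 16⟩) (.one ⟨12784, 5, 12⟩)))) (.node 4 (.node 2 (.node 1 (.one ⟨5196, 5, 16⟩) (.one ⟨5020, 6, 15⟩)) (.node 1 (.one ⟨11682, 5, 15⟩) (.one ⟨16370, 6, 16⟩))) (.node 2 (.node 1 (.one ⟨10468, 5, 14⟩) (.one ⟨2068, 4, 15⟩))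 (.node 1 (.one ⟨2769, 5, 15⟩) (.one ⟨11712, 2, 15⟩))))) (.node 8 (.node 4 (.node 2 (.node 1 (.one ⟨7460, 5, 16⟩) (.one ⟨6424, 6, 14⟩)) (.node 1 (.one ⟨3493, 5, 16⟩) (.one ⟨8224, 4, 16⟩))) (.node 2 (.node 1 (.one ⟨9704, 5, 15⟩) (.one ⟨13336, 6, 11⟩)) (.node 1 (.one ⟨4683, 3, 15⟩) (.one ⟨6027, 3, 13⟩)))) (.node 4 (.node 2 (.node 1 (.one ⟨12046, 0, 16⟩) (.one ⟨8151, 1, 15⟩)) (.node 1 (.one ⟨13902, 5, 13⟩) (.one ⟨8158, 1, 14⟩))) (.node 2 (.node 1 (.one ⟨787, 2, 16⟩) (.one ⟨529, 3, 14⟩)) (.node 1 (.one ⟨14112, 5, 14⟩) (.one ⟨11558, 5, 14⟩)))))))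
def par0_15_13 : Arr Par :=
  (.node 32 (.node 16 (.node 8 (.node 4 (.node 2 (.node 1 (.one ⟨6004, 5, 14⟩) (.one ⟨13881, 5, 11⟩)) (.node 1 (.one ⟨3204, 5, 15⟩) (.one ⟨7078, 2, 15⟩))) (.node 2 (.node 1 (.one ⟨1659, 5, 15⟩) (.one ⟨8135, 4, 13⟩)) (.node 1 (.one ⟨5471, 0, 16⟩) (.one ⟨16391, 4, 5⟩)))) (.node 4 (.node 2 (.node 1 (.one ⟨12484, 4, 9⟩) (.one ⟨5966, 3, 10⟩)) (.node 1 (.one ⟨16320, 4, 12⟩) (.one ⟨16295, 4, 16⟩))) (.node 2 (.node 1 (.one ⟨8328, 2, 14⟩) (.one ⟨1593, 5, 13⟩)) (.node 1 (.one ⟨4812, 3, 14⟩) (.one ⟨7030, 2, 16⟩))))) (.node 8 (.node 4 (.node 2 (.node 1 (.one ⟨8269, 4, 16⟩) (.one ⟨10213, 5, 15⟩)) (.node 1 (.one ⟨12506, 4, 13⟩) (.one ⟨14058, 3, 14⟩))) (.node 2 (.node 1 (.one ⟨16251, 4, 15⟩) (.one ⟨2657, 2, 15⟩)) (.node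 1 (.one ⟨4008, 4, 14⟩) (.one ⟨13275, 6, 14⟩)))) (.node 4 (.node 2 (.node 1 (.one ⟨8597, 3, 16⟩) (.one ⟨2114, 5, 16⟩)) (.node 1 (.one ⟨5833, 5, 13⟩) (.one ⟨8657, 6, 16⟩))) (.node 2 (.node 1 (.one ⟨7997, 6, 14⟩) (.one ⟨4672, 3, 17⟩)) (.node 1 (.one ⟨3964, 4, 14⟩) (.one ⟨8360, 4, 13⟩)))))) (.node 16 (.node 8 (.node 4 (.node 2 (.node 1 (.one ⟨16693, 6, 15⟩) (.one ⟨16671, 3, 15⟩)) (.node 1 (.one ⟨12521, 4, 11⟩) (.one ⟨5180, 6, 12⟩))) (.node 2 (.node 1 (.one ⟨12864, 3, 14⟩) (.one ⟨55, 3, 16⟩)) (.node 1 (.one ⟨8722, 3, 15⟩) (.one ⟨11145, 6, 17⟩)))) (.node 4 (.node 2 (.node 1 (.one ⟨4799, 3, 13⟩) (.one ⟨16584, 0, 12⟩)) (.node 1 (.one ⟨5982, 3, 13⟩) (.one ⟨12298, 0, 12⟩))) (.node 2 (.node 1 (.one ⟨3469, 5, 16⟩) (.one ⟨13918, 5, 12⟩)) (.node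 1 (.one ⟨3996, 4, 15⟩) (.one ⟨4525, 4, 16⟩))))) (.node 8 (.node 4 (.node 2 (.node 1 (.one ⟨12242, 6, 10⟩) (.one ⟨8795, 4, 13⟩)) (.node 1 (.one ⟨2505, 5, 16⟩) (.one ⟨16884, 6, 17⟩))) (.node 2 (.node 1 (.one ⟨14514, 6, 14⟩) (.one ⟨7629, 6, 13⟩)) (.node 1 (.one ⟨10659, 4, 15⟩) (.one ⟨12530, 4, 14⟩)))) (.node 4 (.node 2 (.node 1 (.one ⟨4961, 6, 13⟩) (.one ⟨3452, 4, 11⟩)) (.node 1 (.one ⟨12863, 5, 13⟩) (.one ⟨2989, 2, 14⟩))) (.node 2 (.node 1 (.one ⟨5365, 2, 15⟩) (.one ⟨13105, 5, 10⟩)) (.node 1 (.one ⟨12321, 5, 16⟩) (.one ⟨6262, 4, 14⟩)))))))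
def par0_15_14 : Arr Par :=
  (.node 32 (.node 16 (.node 8 (.node 4 (.node 2 (.node 1 (.one ⟨2175, 5, 16⟩) (.one ⟨12552, 4, 16⟩)) (.node 1 (.one ⟨6936, 6, 15⟩) (.one ⟨13156, 5, 11⟩))) (.node 2 (.node 1 (.one ⟨718, 6, 13⟩) (.one ⟨476, 3, 14⟩)) (.node 1 (.one ⟨4259, 6, 14⟩) (.one ⟨13161, 5, 9⟩)))) (.node 4 (.node 2 (.node 1 (.one ⟨12255, 6, 10⟩) (.one ⟨8227, 1, 15⟩)) (.node 1 (.one ⟨10650, 5, 15⟩) (.one ⟨11269, 5, 15⟩))) (.node 2 (.node 1 (.one ⟨6349, 3, 14⟩) (.one ⟨4785, 5, 11⟩)) (.node 1 (.one ⟨13418, 4, 13⟩) (.one ⟨5090, 5, 13⟩))))) (.node 8 (.node 4 (.node 2 (.node 1 (.one ⟨11988, 2, 16⟩) (.one ⟨3207, 5, 13⟩)) (.node 1 (.one ⟨4179, 6, 14⟩) (.one ⟨2859, 5, 12⟩))) (.node 2 (.node 1 (.one ⟨5202, 2, 15⟩) (.one ⟨8780, 4, 13⟩)) (.node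 1 (.one ⟨14290, 4, 13⟩) (.one ⟨10860, 3, 15⟩)))) (.node 4 (.node 2 (.node 1 (.one ⟨12562, 4, 14⟩) (.one ⟨5099, 5, 13⟩)) (.node 1 (.one ⟨12890, 5, 15⟩) (.one ⟨4255, 5, 15⟩))) (.node 2 (.node 1 (.one ⟨12571, 3, 16⟩) (.one ⟨8139, 4, 14⟩)) (.node 1 (.one ⟨2524, 5, 14⟩) (.one ⟨12586, 4, 16⟩)))))) (.node 16 (.node 8 (.node 4 (.node 2 (.node 1 (.one ⟨6941, 6, 16⟩) (.one ⟨8812, 4, 12⟩)) (.node 1 (.one ⟨5048, 5, 12⟩) (.one ⟨3443, 4, 10⟩))) (.node 2 (.node 1 (.one ⟨12214, 5, 15⟩) (.one ⟨13013, 6, 14⟩)) (.node 1 (.one ⟨16831, 6, 15⟩) (.one ⟨8192, 1, 15⟩)))) (.node 4 (.node 2 (.node 1 (.one ⟨8195, 1, 14⟩) (.one ⟨8197, 1, 12⟩)) (.node 1 (.one ⟨2746, 3, 14⟩) (.one ⟨3492, 4, 10⟩))) (.node 2 (.node 1 (.one ⟨14354, 4, 13⟩) (.one ⟨4464, 4, 14⟩))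 (.node 1 (.one ⟨8196, 1, 14⟩) (.one ⟨17006, 4, 14⟩))))) (.node 8 (.node 4 (.node 2 (.node 1 (.one ⟨3061, 6, 11⟩) (.one ⟨12534, 2, 12⟩)) (.node 1 (.one ⟨2080, 6, 16⟩) (.one ⟨5284, 6, 17⟩))) (.node 2 (.node 1 (.one ⟨3698, 2, 8⟩) (.one ⟨9249, 2, 9⟩)) (.node 1 (.one ⟨12004, 4, 15⟩) (.one ⟨14719, 5, 12⟩)))) (.node 4 (.node 2 (.node 1 (.one ⟨3517, 2, 13⟩) (.one ⟨3307, 4, 15⟩)) (.node 1 (.one ⟨10261, 5, 14⟩) (.one ⟨7172, 4, 9⟩))) (.node 2 (.node 1 (.one ⟨3937, 4, 15⟩) (.one ⟨14605, 3, 16⟩)) (.node 1 (.one ⟨8897, 5, 12⟩) (.one ⟨5167, 6, 16⟩)))))))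
def par0_15_15 : Arr Par :=
  (.node 32 (.node 16 (.node 8 (.node 4 (.node 2 (.node 1 (.one ⟨2100, 5, 11⟩) (.one ⟨16974, 5, 7⟩)) (.node 1 (.one ⟨8386, 5, 17⟩) (.one ⟨15203, 4, 10⟩))) (.node 2 (.node 1 (.one ⟨3846, 3, 14⟩) (.one ⟨15473, 5, 16⟩)) (.node 1 (.one ⟨3099, 6, 10⟩) (.one ⟨8915, 4, 12⟩)))) (.node 4 (.node 2 (.node 1 (.one ⟨8249, 1, 11⟩) (.one ⟨3359, 2, 16⟩)) (.node 1 (.one ⟨11058, 6, 11⟩) (.one ⟨2133, 5, 16⟩))) (.node 2 (.node 1 (.one ⟨15436, 6, 15⟩) (.one ⟨15233, 4, 14⟩)) (.node 1 (.one ⟨17141, 3, 14⟩) (.one ⟨2648, 2, 15⟩))))) (.node 8 (.node 4 (.node 2 (.node 1 (.one ⟨8067, 0, 15⟩) (.one ⟨8886, 5, 13⟩)) (.node 1 (.one ⟨2152, 0, 12⟩) (.one ⟨4119, 0, 14⟩))) (.node 2 (.node 1 (.one ⟨11844, 3, 15⟩) (.one ⟨11179, 3, 14⟩)) (.node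 1 (.one ⟨13188, 3, 14⟩) (.one ⟨4248, 5, 14⟩)))) (.node 4 (.node 2 (.node 1 (.one ⟨16786, 6, 16⟩) (.one ⟨13710, 0, 13⟩)) (.node 1 (.one ⟨16160, 6, 13⟩) (.one ⟨14792, 2, 16⟩))) (.node 2 (.node 1 (.one ⟨11982, 4, 15⟩) (.one ⟨6702, 5, 14⟩)) (.node 1 (.one ⟨14430, 6, 10⟩) (.one ⟨8275, 1, 13⟩)))))) (.node 16 (.node 8 (.node 4 (.node 2 (.node 1 (.one ⟨14749, 5, 13⟩) (.one ⟨8893, 5, 9⟩)) (.node 1 (.one ⟨3846, 5, 14⟩) (.one ⟨9360, 2, 9⟩))) (.node 2 (.node 1 (.one ⟨3258, 4, 16⟩) (.one ⟨11955, 4, 15⟩)) (.node 1 (.one ⟨2193, 5, 15⟩) (.one ⟨15490, 5, 17⟩)))) (.node 4 (.node 2 (.node 1 (.one ⟨2375, 4, 13⟩) (.one ⟨5185, 6, 16⟩)) (.node 1 (.one ⟨8722, 6, 15⟩) (.one ⟨16957, 5, 12⟩))) (.node 2 (.node 1 (.one ⟨11372, 4, 14⟩) (.one ⟨7190, 4, 9⟩)) (.node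 1 (.one ⟨8096, 6, 13⟩) (.one ⟨11401, 3, 17⟩))))) (.node 8 (.node 4 (.node 2 (.node 1 (.one ⟨2363, 3, 14⟩) (.one ⟨2545, 4, 15⟩)) (.node 1 (.one ⟨4255, 4, 15⟩) (.one ⟨13710, 3, 13⟩))) (.node 2 (.node 1 (.one ⟨6691, 3, 14⟩) (.one ⟨3187, 6, 16⟩)) (.node 1 (.one ⟨8334, 1, 13⟩) (.one ⟨2194, 5, 14⟩)))) (.node 4 (.node 2 (.node 1 (.one ⟨2560, 4, 16⟩) (.one ⟨5033, 6, 14⟩)) (.node 1 (.one ⟨3216, 6, 16⟩) (.one ⟨9702, 5, 12⟩))) (.node 2 (.node 1 (.one ⟨4029, 4, 16⟩) (.one ⟨7059, 5, 14⟩)) (.node 1 (.one ⟨5810, 5, 15⟩) (.one ⟨10475, 4, 15⟩)))))))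
def par0_15 : Arr Par :=
  (.node 512 (.node 256 (.node 128 (.node 64 par0_15_0 par0_15_1) (.node 64 par0_15_2 par0_15_3)) (.node 128 (.node 64 par0_15_4 par0_15_5) (.node 64 par0_15_6 par0_15_7))) (.node 256 (.node 128 (.node 64 par0_15_8 par0_15_9) (.node 64 par0_15_10 par0_15_11)) (.node 128 (.node 64 par0_15_12 par0_15_13) (.node 64 par0_15_14 par0_15_15))))
def par0_16_0 : Arr Par :=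
  (.node 32 (.node 16 (.node 8 (.node 4 (.node 2 (.node 1 (.one ⟨10165, 5, 16⟩) (.one ⟨6463, 4, 14⟩)) (.node 1 (.one ⟨12246, 4, 14⟩) (.one ⟨5683, 3, 16⟩))) (.node 2 (.node 1 (.one ⟨5983, 5, 16⟩) (.one ⟨6389, 4, 14⟩)) (.node 1 (.one ⟨11567, 2, 16⟩) (.one ⟨2099, 5, 4⟩)))) (.node 4 (.node 2 (.node 1 (.one ⟨15796, 2, 13⟩) (.one ⟨7027, 5, 11⟩)) (.node 1 (.one ⟨2458, 3, 13⟩) (.one ⟨6644, 5, 10⟩))) (.node 2 (.node 1 (.one ⟨3193, 6, 16⟩) (.one ⟨1588, 5, 9⟩)) (.node 1 (.one ⟨12158, 4, 13⟩) (.one ⟨11003, 5, 15⟩))))) (.node 8 (.node 4 (.node 2 (.node 1 (.one ⟨15124, 5, 14⟩) (.one ⟨13126, 2, 16⟩)) (.node 1 (.one ⟨14761, 5, 14⟩) (.one ⟨2176, 5, 13⟩))) (.node 2 (.node 1 (.one ⟨3201, 6, 17⟩) (.one ⟨8366, 1, 12⟩)) (.node 1 (.one ⟨341, 6, 14⟩) (.one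 ⟨2857, 5, 15⟩)))) (.node 4 (.node 2 (.node 1 (.one ⟨14756, 5, 12⟩) (.one ⟨10244, 5, 13⟩)) (.node 1 (.one ⟨6020, 5, 16⟩) (.one ⟨1637, 5, 12⟩))) (.node 2 (.node 1 (.one ⟨5349, 2, 14⟩) (.one ⟨15764, 6, 14⟩)) (.node 1 (.one ⟨7035, 5, 14⟩) (.one ⟨6405, 4, 13⟩)))))) (.node 16 (.node 8 (.node 4 (.node 2 (.node 1 (.one ⟨7713, 6, 15⟩) (.one ⟨5713, 3, 16⟩)) (.node 1 (.one ⟨3245, 6, 16⟩) (.one ⟨14528, 4, 13⟩))) (.node 2 (.node 1 (.one ⟨15092, 5, 15⟩) (.one ⟨6690, 5, 14⟩)) (.node 1 (.one ⟨2146, 5, 16⟩) (.one ⟨8335, 1, 16⟩)))) (.node 4 (.node 2 (.node 1 (.one ⟨7508, 0, 13⟩) (.one ⟨9744, 2, 17⟩)) (.node 1 (.one ⟨12273, 6, 15⟩) (.one ⟨9653, 5, 12⟩))) (.node 2 (.node 1 (.one ⟨14470, 4, 14⟩) (.one ⟨10207, 5, 13⟩)) (.node 1 (.one ⟨3207, 6, 13⟩) (.one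 ⟨416, 5, 13⟩))))) (.node 8 (.node 4 (.node 2 (.node 1 (.one ⟨5973, 4, 14⟩) (.one ⟨9947, 5, 12⟩)) (.node 1 (.one ⟨8004, 4, 15⟩) (.one ⟨4141, 3, 15⟩))) (.node 2 (.node 1 (.one ⟨4662, 5, 16⟩) (.one ⟨12164, 5, 14⟩)) (.node 1 (.one ⟨8444, 3, 14⟩) (.one ⟨11444, 5, 16⟩)))) (.node 4 (.node 2 (.node 1 (.one ⟨12295, 2, 11⟩) (.one ⟨15615, 2, 14⟩)) (.node 1 (.one ⟨3336, 6, 13⟩) (.one ⟨7520, 3, 16⟩))) (.node 2 (.node 1 (.one ⟨16605, 4, 14⟩) (.one ⟨8455, 3, 15⟩)) (.node 1 (.one ⟨4127, 5, 14⟩) (.one ⟨791, 5, 16⟩)))))))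
def par0_16_1 : Arr Par :=
  (.node 32 (.node 16 (.node 8 (.node 4 (.node 2 (.node 1 (.one ⟨10048, 3, 12⟩) (.one ⟨13278, 6, 15⟩)) (.node 1 (.one ⟨11646, 6, 14⟩) (.one ⟨11381, 5, 13⟩))) (.node 2 (.node 1 (.one ⟨15543, 3, 14⟩) (.one ⟨8602, 4, 16⟩)) (.node 1 (.one ⟨11436, 6, 15⟩) (.one ⟨10823, 4, 13⟩)))) (.node 4 (.node 2 (.node 1 (.one ⟨4658, 5, 17⟩) (.one ⟨281, 4, 15⟩)) (.node 1 (.one ⟨3326, 6, 15⟩) (.one ⟨16665, 4, 15⟩))) (.node 2 (.node 1 (.one ⟨4111, 5, 14⟩) (.one ⟨3344, 5, 17⟩)) (.node 1 (.one ⟨14095, 4, 15⟩) (.one ⟨2764, 4, 13⟩))))) (.node 8 (.node 4 (.node 2 (.node 1 (.one ⟨7996, 4, 14⟩) (.one ⟨12185, 3, 14⟩)) (.node 1 (.one ⟨1050, 5, 14⟩) (.one ⟨5990, 4, 15⟩))) (.node 2 (.node 1 (.one ⟨15573, 3, 17⟩) (.one ⟨9916, 5, 13⟩))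 (.node 1 (.one ⟨4082, 5, 15⟩) (.one ⟨3420, 5, 15⟩)))) (.node 4 (.node 2 (.node 1 (.one ⟨16441, 1, 15⟩) (.one ⟨8494, 3, 14⟩)) (.node 1 (.one ⟨15581, 3, 15⟩) (.one ⟨11387, 6, 12⟩))) (.node 2 (.node 1 (.one ⟨16440, 1, 12⟩) (.one ⟨16621, 4, 15⟩)) (.node 1 (.one ⟨12182, 5, 15⟩) (.one ⟨3332, 5, 14⟩)))))) (.node 16 (.node 8 (.node 4 (.node 2 (.node 1 (.one ⟨188, 5, 15⟩) (.one ⟨3358, 6, 15⟩)) (.node 1 (.one ⟨11662, 6, 15⟩) (.one ⟨4660, 5, 13⟩))) (.node 2 (.node 1 (.one ⟨10157, 3, 13⟩) (.one ⟨4040, 3, 16⟩)) (.node 1 (.one ⟨16527, 3, 14⟩) (.one ⟨12196, 5, 15⟩)))) (.node 4 (.node 2 (.node 1 (.one ⟨16680, 4, 14⟩) (.one ⟨981, 5, 15⟩)) (.node 1 (.one ⟨11400, 6, 16⟩) (.one ⟨11426, 5, 16⟩))) (.node 2 (.node 1 (.one ⟨14114, 4, 15⟩) (.one ⟨4657,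 5, 16⟩)) (.node 1 (.one ⟨10812, 4, 12⟩) (.one ⟨11498, 5, 16⟩))))) (.node 8 (.node 4 (.node 2 (.node 1 (.one ⟨5299, 2, 16⟩) (.one ⟨10033, 4, 10⟩)) (.node 1 (.one ⟨13973, 4, 15⟩) (.one ⟨3273, 0, 16⟩))) (.node 2 (.node 1 (.one ⟨13134, 6, 13⟩) (.one ⟨6924, 5, 14⟩)) (.node 1 (.one ⟨14124, 4, 14⟩) (.one ⟨6923, 5, 14⟩)))) (.node 4 (.node 2 (.node 1 (.one ⟨13862, 3, 16⟩) (.one ⟨718, 5, 13⟩)) (.node 1 (.one ⟨10421, 0, 12⟩) (.one ⟨11462, 5, 15⟩))) (.node 2 (.node 1 (.one ⟨2056, 4, 12⟩) (.one ⟨2134, 3, 15⟩)) (.node 1 (.one ⟨6472, 5, 14⟩) (.one ⟨16455, 3, 14⟩)))))))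
def par0_16_2 : Arr Par :=
  (.node 32 (.node 16 (.node 8 (.node 4 (.node 2 (.node 1 (.one ⟨13933, 4, 16⟩) (.one ⟨16538, 3, 12⟩)) (.node 1 (.one ⟨16547, 1, 15⟩) (.one ⟨765, 5, 13⟩))) (.node 2 (.node 1 (.one ⟨2008, 3, 16⟩) (.one ⟨10148, 4, 14⟩)) (.node 1 (.one ⟨7958, 6, 16⟩) (.one ⟨13919, 3, 13⟩)))) (.node 4 (.node 2 (.node 1 (.one ⟨6011, 4, 16⟩) (.one ⟨13494, 2, 14⟩)) (.node 1 (.one ⟨5414, 6, 16⟩) (.one ⟨9228, 4, 14⟩))) (.node 2 (.node 1 (.one ⟨13487, 2, 13⟩) (.one ⟨10080, 4, 13⟩)) (.node 1 (.one ⟨5102, 6, 14⟩) (.one ⟨6925, 5, 13⟩))))) (.node 8 (.node 4 (.node 2 (.node 1 (.one ⟨15252, 6, 16⟩) (.one ⟨5047, 6, 14⟩)) (.node 1 (.one ⟨14105, 4, 15⟩) (.one ⟨3391, 5, 15⟩))) (.node 2 (.node 1 (.one ⟨10136, 4, 11⟩) (.one ⟨10153, 3, 15⟩))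 (.node 1 (.one ⟨984, 5, 15⟩) (.one ⟨3436, 5, 16⟩)))) (.node 4 (.node 2 (.node 1 (.one ⟨17059, 2, 16⟩) (.one ⟨10072, 4, 15⟩)) (.node 1 (.one ⟨2020, 4, 11⟩) (.one ⟨6926, 5, 15⟩))) (.node 2 (.node 1 (.one ⟨389, 5, 14⟩) (.one ⟨17070, 0, 13⟩)) (.node 1 (.one ⟨7201, 6, 16⟩) (.one ⟨10057, 4, 15⟩)))))) (.node 16 (.node 8 (.node 4 (.node 2 (.node 1 (.one ⟨542, 5, 14⟩) (.one ⟨14883, 2, 15⟩)) (.node 1 (.one ⟨4619, 2, 16⟩) (.one ⟨11384, 2, 14⟩))) (.node 2 (.node 1 (.one ⟨5736, 3, 16⟩) (.one ⟨16494, 3, 13⟩)) (.node 1 (.one ⟨16508, 3, 13⟩) (.one ⟨13145, 6, 13⟩)))) (.node 4 (.node 2 (.node 1 (.one ⟨10120, 4, 12⟩) (.one ⟨9227, 4, 13⟩)) (.node 1 (.one ⟨904, 2, 14⟩) (.one ⟨13938, 3, 14⟩))) (.node 2 (.node 1 (.one ⟨6025, 4, 15⟩) (.one ⟨13360, 6, 15⟩))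 (.node 1 (.one ⟨16521, 1, 15⟩) (.one ⟨4756, 4, 14⟩))))) (.node 8 (.node 4 (.node 2 (.node 1 (.one ⟨15432, 5, 12⟩) (.one ⟨15182, 5, 13⟩)) (.node 1 (.one ⟨4923, 4, 13⟩) (.one ⟨11873, 6, 17⟩))) (.node 2 (.node 1 (.one ⟨511, 5, 13⟩) (.one ⟨1938, 4, 14⟩)) (.node 1 (.one ⟨16576, 1, 17⟩) (.one ⟨8411, 4, 15⟩)))) (.node 4 (.node 2 (.node 1 (.one ⟨12734, 2, 14⟩) (.one ⟨4987, 4, 13⟩)) (.node 1 (.one ⟨1849, 4, 14⟩) (.one ⟨4239, 3, 14⟩))) (.node 2 (.node 1 (.one ⟨14420, 2, 15⟩) (.one ⟨13513, 2, 10⟩)) (.node 1 (.one ⟨8569, 4, 16⟩) (.one ⟨7391, 5, 13⟩)))))))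
def par0_16_3 : Arr Par :=
  (.node 32 (.node 16 (.node 8 (.node 4 (.node 2 (.node 1 (.one ⟨8634, 2, 16⟩) (.one ⟨7196, 5, 14⟩)) (.node 1 (.one ⟨11891, 6, 16⟩) (.one ⟨4957, 4, 14⟩))) (.node 2 (.node 1 (.one ⟨833, 5, 14⟩) (.one ⟨4758, 4, 13⟩)) (.node 1 (.one ⟨1909, 4, 15⟩) (.one ⟨12214, 3, 15⟩)))) (.node 4 (.node 2 (.node 1 (.one ⟨16573, 1, 11⟩) (.one ⟨8378, 4, 14⟩)) (.node 1 (.one ⟨5015, 4, 14⟩) (.one ⟨1884, 4, 15⟩))) (.node 2 (.node 1 (.one ⟨16568, 1, 15⟩) (.one ⟨8584, 4, 15⟩)) (.node 1 (.one ⟨8442, 2, 16⟩) (.one ⟨9974, 4, 16⟩))))) (.node 8 (.node 4 (.node 2 (.node 1 (.one ⟨626, 5, 14⟩) (.one ⟨15860, 6, 13⟩)) (.node 1 (.one ⟨7130, 5, 13⟩) (.one ⟨13015, 4, 14⟩))) (.node 2 (.node 1 (.one ⟨16609, 1, 16⟩) (.one ⟨12718, 4, 16⟩)) (.node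 1 (.one ⟨6853, 3, 14⟩) (.one ⟨14058, 4, 14⟩)))) (.node 4 (.node 2 (.node 1 (.one ⟨11899, 6, 13⟩) (.one ⟨4999, 4, 13⟩)) (.node 1 (.one ⟨5666, 2, 14⟩) (.one ⟨4255, 3, 15⟩))) (.node 2 (.node 1 (.one ⟨13390, 2, 13⟩) (.one ⟨8745, 5, 13⟩)) (.node 1 (.one ⟨13694, 4, 14⟩) (.one ⟨15843, 6, 12⟩)))))) (.node 16 (.node 8 (.node 4 (.node 2 (.node 1 (.one ⟨10154, 2, 13⟩) (.one ⟨10387, 2, 15⟩)) (.node 1 (.one ⟨6110, 3, 16⟩) (.one ⟨12985, 4, 15⟩))) (.node 2 (.node 1 (.one ⟨379, 5, 13⟩) (.one ⟨15241, 5, 14⟩)) (.node 1 (.one ⟨12696, 4, 15⟩) (.one ⟨13723, 4, 15⟩)))) (.node 4 (.node 2 (.node 1 (.one ⟨12230, 3, 14⟩) (.one ⟨11884, 6, 12⟩)) (.node 1 (.one ⟨5033, 4, 14⟩) (.one ⟨14044, 4, 13⟩))) (.node 2 (.node 1 (.one ⟨4978, 2, 14⟩) (.one ⟨8729, 5, 14⟩))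 (.node 1 (.one ⟨16604, 1, 14⟩) (.one ⟨9739, 4, 13⟩))))) (.node 8 (.node 4 (.node 2 (.node 1 (.one ⟨1746, 5, 16⟩) (.one ⟨15198, 5, 14⟩)) (.node 1 (.one ⟨8798, 3, 12⟩) (.one ⟨4941, 4, 11⟩))) (.node 2 (.node 1 (.one ⟨12620, 4, 16⟩) (.one ⟨4181, 3, 16⟩)) (.node 1 (.one ⟨6856, 3, 14⟩) (.one ⟨7863, 5, 15⟩)))) (.node 4 (.node 2 (.node 1 (.one ⟨16755, 0, 13⟩) (.one ⟨13069, 4, 15⟩)) (.node 1 (.one ⟨9930, 4, 15⟩) (.one ⟨2613, 2, 16⟩))) (.node 2 (.node 1 (.one ⟨12155, 0, 14⟩) (.one ⟨11849, 6, 13⟩)) (.node 1 (.one ⟨6334, 5, 13⟩) (.one ⟨13585, 5, 16⟩)))))))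
def par0_16_4 : Arr Par :=
  (.node 32 (.node 16 (.node 8 (.node 4 (.node 2 (.node 1 (.one ⟨16888, 3, 11⟩) (.one ⟨14146, 3, 16⟩)) (.node 1 (.one ⟨6858, 3, 15⟩) (.one ⟨7180, 5, 15⟩))) (.node 2 (.node 1 (.one ⟨16640, 2, 12⟩) (.one ⟨12278, 3, 17⟩)) (.node 1 (.one ⟨9726, 4, 14⟩) (.one ⟨2249, 0, 14⟩)))) (.node 4 (.node 2 (.node 1 (.one ⟨14416, 5, 14⟩) (.one ⟨9959, 4, 14⟩)) (.node 1 (.one ⟨16129, 3, 14⟩) (.one ⟨16635, 1, 17⟩))) (.node 2 (.node 1 (.one ⟨13101, 4, 15⟩) (.one ⟨11931, 6, 12⟩)) (.node 1 (.one ⟨11634, 6, 15⟩) (.one ⟨16676, 1, 15⟩))))) (.node 8 (.node 4 (.node 2 (.node 1 (.one ⟨16674, 1, 12⟩) (.one ⟨16675, 1, 14⟩)) (.node 1 (.one ⟨16673, 1, 13⟩) (.one ⟨927, 5, 12⟩))) (.node 2 (.node 1 (.one ⟨4632, 4, 15⟩) (.one ⟨9986, 4, 15⟩))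 (.node 1 (.one ⟨13084, 4, 13⟩) (.one ⟨4464, 5, 14⟩)))) (.node 4 (.node 2 (.node 1 (.one ⟨6320, 5, 11⟩) (.one ⟨8698, 5, 14⟩)) (.node 1 (.one ⟨2750, 5, 15⟩) (.one ⟨16686, 1, 15⟩))) (.node 2 (.node 1 (.one ⟨16679, 1, 15⟩) (.one ⟨5320, 5, 16⟩)) (.node 1 (.one ⟨7112, 5, 15⟩) (.one ⟨4649, 4, 14⟩)))))) (.node 16 (.node 8 (.node 4 (.node 2 (.node 1 (.one ⟨13053, 4, 14⟩) (.one ⟨9839, 2, 12⟩)) (.node 1 (.one ⟨5616, 2, 11⟩) (.one ⟨6383, 2, 13⟩))) (.node 2 (.node 1 (.one ⟨10356, 2, 14⟩) (.one ⟨43, 5, 13⟩)) (.node 1 (.one ⟨10018, 4, 16⟩) (.one ⟨386, 2, 14⟩)))) (.node 4 (.node 2 (.node 1 (.one ⟨8713, 5, 13⟩) (.one ⟨15256, 5, 14⟩)) (.node 1 (.one ⟨12572, 5, 13⟩) (.one ⟨14430, 5, 10⟩))) (.node 2 (.node 1 (.one ⟨13465, 5, 15⟩) (.one ⟨2760, 5, 14⟩))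 (.node 1 (.one ⟨266, 2, 14⟩) (.one ⟨10907, 3, 13⟩))))) (.node 8 (.node 4 (.node 2 (.node 1 (.one ⟨13960, 4, 16⟩) (.one ⟨9970, 4, 11⟩)) (.node 1 (.one ⟨1797, 6, 14⟩) (.one ⟨789, 3, 14⟩))) (.node 2 (.node 1 (.one ⟨15961, 4, 15⟩) (.one ⟨7921, 3, 14⟩)) (.node 1 (.one ⟨636, 5, 15⟩) (.one ⟨2062, 5, 13⟩)))) (.node 4 (.node 2 (.node 1 (.one ⟨6297, 3, 16⟩) (.one ⟨15960, 4, 12⟩)) (.node 1 (.one ⟨3562, 6, 14⟩) (.one ⟨97, 3, 11⟩))) (.node 2 (.node 1 (.one ⟨15686, 4, 16⟩) (.one ⟨1910, 4, 13⟩)) (.node 1 (.one ⟨4860, 2, 16⟩) (.one ⟨537, 5, 16⟩)))))))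
def par0_16_5 : Arr Par :=
  (.node 32 (.node 16 (.node 8 (.node 4 (.node 2 (.node 1 (.one ⟨3538, 6, 15⟩) (.one ⟨15963, 4, 13⟩)) (.node 1 (.one ⟨2015, 5, 14⟩) (.one ⟨565, 3, 12⟩))) (.node 2 (.node 1 (.one ⟨1942, 4, 12⟩) (.one ⟨7926, 3, 16⟩)) (.node 1 (.one ⟨15718, 4, 15⟩) (.one ⟨1786, 6, 13⟩)))) (.node 4 (.node 2 (.node 1 (.one ⟨10003, 4, 12⟩) (.one ⟨10917, 3, 14⟩)) (.node 1 (.one ⟨3533, 6, 16⟩) (.one ⟨919, 3, 13⟩))) (.node 2 (.node 1 (.one ⟨14965, 5, 15⟩) (.one ⟨110, 5, 14⟩)) (.node 1 (.one ⟨14820, 2, 15⟩) (.one ⟨9854, 6, 14⟩))))) (.node 8 (.node 4 (.node 2 (.node 1 (.one ⟨16744, 1, 17⟩) (.one ⟨11416, 6, 15⟩)) (.node 1 (.one ⟨7394, 6, 14⟩) (.one ⟨8975, 6, 15⟩))) (.node 2 (.node 1 (.one ⟨12354, 3, 14⟩) (.one ⟨6585, 5, 13⟩)) (.node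 1 (.one ⟨6748, 5, 15⟩) (.one ⟨3628, 4, 17⟩)))) (.node 4 (.node 2 (.node 1 (.one ⟨15708, 4, 15⟩) (.one ⟨16738, 1, 15⟩)) (.node 1 (.one ⟨7422, 3, 14⟩) (.one ⟨51, 2, 14⟩))) (.node 2 (.node 1 (.one ⟨16701, 3, 14⟩) (.one ⟨1068, 5, 16⟩)) (.node 1 (.one ⟨6722, 5, 16⟩) (.one ⟨15512, 3, 15⟩)))))) (.node 16 (.node 8 (.node 4 (.node 2 (.node 1 (.one ⟨3610, 4, 16⟩) (.one ⟨15676, 4, 16⟩)) (.node 1 (.one ⟨16742, 2, 14⟩) (.one ⟨14694, 5, 14⟩))) (.node 2 (.node 1 (.one ⟨11626, 6, 16⟩) (.one ⟨558, 5, 15⟩)) (.node 1 (.one ⟨16708, 3, 13⟩) (.one ⟨3367, 6, 14⟩)))) (.node 4 (.node 2 (.node 1 (.one ⟨4044, 2, 16⟩) (.one ⟨15431, 6, 13⟩)) (.node 1 (.one ⟨9855, 6, 13⟩) (.one ⟨4368, 3, 15⟩))) (.node 2 (.node 1 (.one ⟨6620, 5, 14⟩) (.one ⟨17022, 6, 14⟩)) (.node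 1 (.one ⟨6772, 5, 16⟩) (.one ⟨4123, 5, 17⟩))))) (.node 8 (.node 4 (.node 2 (.node 1 (.one ⟨5140, 6, 13⟩) (.one ⟨7626, 4, 14⟩)) (.node 1 (.one ⟨6822, 4, 12⟩) (.one ⟨16768, 1, 12⟩))) (.node 2 (.node 1 (.one ⟨13484, 6, 13⟩) (.one ⟨16773, 1, 14⟩)) (.node 1 (.one ⟨16769, 1, 13⟩) (.one ⟨12777, 5, 16⟩)))) (.node 4 (.node 2 (.node 1 (.one ⟨17147, 5, 10⟩) (.one ⟨16117, 5, 16⟩)) (.node 1 (.one ⟨12087, 5, 13⟩) (.one ⟨5125, 6, 12⟩))) (.node 2 (.node 1 (.one ⟨16778, 1, 15⟩) (.one ⟨6974, 5, 14⟩)) (.node 1 (.one ⟨3263, 5, 15⟩) (.one ⟨6733, 4, 13⟩)))))))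
def par0_16_6 : Arr Par :=
  (.node 32 (.node 16 (.node 8 (.node 4 (.node 2 (.node 1 (.one ⟨10403, 2, 11⟩) (.one ⟨4220, 2, 12⟩)) (.node 1 (.one ⟨12199, 5, 18⟩) (.one ⟨8216, 3, 14⟩))) (.node 2 (.node 1 (.one ⟨5310, 6, 12⟩) (.one ⟨1833, 2, 13⟩)) (.node 1 (.one ⟨13226, 6, 14⟩) (.one ⟨9093, 5, 11⟩)))) (.node 4 (.node 2 (.node 1 (.one ⟨13177, 6, 11⟩) (.one ⟨6883, 4, 16⟩)) (.node 1 (.one ⟨15619, 2, 14⟩) (.one ⟨11314, 5, 15⟩))) (.node 2 (.node 1 (.one ⟨16127, 5, 17⟩) (.one ⟨6990, 5, 14⟩)) (.node 1 (.one ⟨4043, 5, 14⟩) (.one ⟨12541, 2, 16⟩))))) (.node 8 (.node 4 (.node 2 (.node 1 (.one ⟨5145, 6, 14⟩) (.one ⟨15508, 3, 15⟩)) (.node 1 (.one ⟨11329, 5, 15⟩) (.one ⟨5420, 6, 13⟩))) (.node 2 (.node 1 (.one ⟨8208, 3, 15⟩) (.one ⟨17183, 5, 13⟩))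 (.node 1 (.one ⟨10070, 4, 16⟩) (.one ⟨12183, 5, 13⟩)))) (.node 4 (.node 2 (.node 1 (.one ⟨3366, 5, 16⟩) (.one ⟨7620, 4, 14⟩)) (.node 1 (.one ⟨16154, 5, 15⟩) (.one ⟨17158, 5, 15⟩))) (.node 2 (.node 1 (.one ⟨12339, 2, 16⟩) (.one ⟨193, 5, 11⟩)) (.node 1 (.one ⟨7495, 6, 15⟩) (.one ⟨1627, 2, 15⟩)))))) (.node 16 (.node 8 (.node 4 (.node 2 (.node 1 (.one ⟨7411, 3, 16⟩) (.one ⟨16250, 3, 14⟩)) (.node 1 (.one ⟨15586, 6, 16⟩) (.one ⟨9118, 5, 14⟩))) (.node 2 (.node 1 (.one ⟨3251, 5, 16⟩) (.one ⟨13373, 6, 12⟩)) (.node 1 (.one ⟨13219, 6, 13⟩) (.one ⟨16796, 1, 17⟩)))) (.node 4 (.node 2 (.node 1 (.one ⟨4140, 5, 14⟩) (.one ⟨16173, 5, 16⟩)) (.node 1 (.one ⟨965, 5, 12⟩) (.one ⟨14785, 4, 15⟩))) (.node 2 (.node 1 (.one ⟨8144, 3, 16⟩) (.one ⟨7647, 4,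 13⟩)) (.node 1 (.one ⟨15539, 6, 14⟩) (.one ⟨2953, 5, 14⟩))))) (.node 8 (.node 4 (.node 2 (.node 1 (.one ⟨5190, 4, 13⟩) (.one ⟨15299, 5, 15⟩)) (.node 1 (.one ⟨8162, 6, 14⟩) (.one ⟨11490, 6, 14⟩))) (.node 2 (.node 1 (.one ⟨8945, 2, 16⟩) (.one ⟨15454, 4, 16⟩)) (.node 1 (.one ⟨8850, 1, 16⟩) (.one ⟨15386, 3, 15⟩)))) (.node 4 (.node 2 (.node 1 (.one ⟨4005, 4, 13⟩) (.one ⟨9786, 6, 16⟩)) (.node 1 (.one ⟨4457, 6, 14⟩) (.one ⟨9978, 5, 15⟩))) (.node 2 (.node 1 (.one ⟨16604, 5, 14⟩) (.one ⟨15624, 5, 15⟩)) (.node 1 (.one ⟨12238, 5, 15⟩) (.one ⟨11033, 5, 14⟩)))))))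
def par0_16_7 : Arr Par :=
  (.node 32 (.node 16 (.node 8 (.node 4 (.node 2 (.node 1 (.one ⟨7147, 3, 16⟩) (.one ⟨13332, 4, 16⟩)) (.node 1 (.one ⟨3462, 6, 15⟩) (.one ⟨933, 3, 14⟩))) (.node 2 (.node 1 (.one ⟨8083, 2, 15⟩) (.one ⟨14603, 5, 15⟩)) (.node 1 (.one ⟨3437, 6, 13⟩) (.one ⟨11384, 4, 14⟩)))) (.node 4 (.node 2 (.node 1 (.one ⟨4694, 2, 14⟩) (.one ⟨7121, 4, 17⟩)) (.node 1 (.one ⟨3730, 2, 15⟩) (.one ⟨4011, 4, 12⟩))) (.node 2 (.node 1 (.one ⟨1778, 6, 15⟩) (.one ⟨16250, 4, 14⟩)) (.node 1 (.one ⟨6297, 4, 16⟩) (.one ⟨12678, 0, 13⟩))))) (.node 8 (.node 4 (.node 2 (.node 1 (.one ⟨1640, 3, 16⟩) (.one ⟨12829, 0, 15⟩)) (.node 1 (.one ⟨14240, 6, 16⟩) (.one ⟨6087, 6, 14⟩))) (.node 2 (.node 1 (.one ⟨6546, 5, 14⟩) (.one ⟨15347, 5, 14⟩)) (.node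 1 (.one ⟨7115, 3, 17⟩) (.one ⟨8535, 3, 15⟩)))) (.node 4 (.node 2 (.node 1 (.one ⟨1157, 3, 17⟩) (.one ⟨10024, 5, 16⟩)) (.node 1 (.one ⟨12435, 3, 15⟩) (.one ⟨422, 0, 15⟩))) (.node 2 (.node 1 (.one ⟨472, 3, 15⟩) (.one ⟨15352, 3, 16⟩)) (.node 1 (.one ⟨3452, 0, 11⟩) (.one ⟨16199, 6, 6⟩)))))) (.node 16 (.node 8 (.node 4 (.node 2 (.node 1 (.one ⟨7158, 3, 13⟩) (.one ⟨1608, 3, 11⟩)) (.node 1 (.one ⟨3391, 2, 15⟩) (.one ⟨13159, 5, 11⟩))) (.node 2 (.node 1 (.one ⟨12962, 6, 16⟩) (.one ⟨4785, 6, 11⟩)) (.node 1 (.one ⟨11021, 5, 15⟩) (.one ⟨1598, 5, 12⟩)))) (.node 4 (.node 2 (.node 1 (.one ⟨8843, 1, 13⟩) (.one ⟨1913, 5, 14⟩)) (.node 1 (.one ⟨15270, 4, 15⟩) (.one ⟨12556, 6, 7⟩))) (.node 2 (.node 1 (.one ⟨8692, 6, 11⟩) (.one ⟨11373, 4, 11⟩)) (.node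 1 (.one ⟨12482, 6, 11⟩) (.one ⟨14150, 6, 12⟩))))) (.node 8 (.node 4 (.node 2 (.node 1 (.one ⟨3590, 2, 12⟩) (.one ⟨8784, 1, 14⟩)) (.node 1 (.one ⟨9740, 3, 12⟩) (.one ⟨8783, 1, 15⟩))) (.node 2 (.node 1 (.one ⟨2980, 5, 16⟩) (.one ⟨15264, 3, 15⟩)) (.node 1 (.one ⟨14858, 2, 16⟩) (.one ⟨8797, 1, 15⟩)))) (.node 4 (.node 2 (.node 1 (.one ⟨3956, 4, 10⟩) (.one ⟨513, 3, 13⟩)) (.node 1 (.one ⟨14380, 4, 14⟩) (.one ⟨15202, 4, 14⟩))) (.node 2 (.node 1 (.one ⟨11954, 5, 16⟩) (.one ⟨4504, 6, 15⟩)) (.node 1 (.one ⟨8686, 6, 13⟩) (.one ⟨8802, 1, 12⟩)))))))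
def par0_16_8 : Arr Par :=
  (.node 32 (.node 16 (.node 8 (.node 4 (.node 2 (.node 1 (.one ⟨16626, 5, 13⟩) (.one ⟨11215, 2, 13⟩)) (.node 1 (.one ⟨12274, 5, 16⟩) (.one ⟨10992, 5, 15⟩))) (.node 2 (.node 1 (.one ⟨7267, 5, 14⟩) (.one ⟨10049, 2, 14⟩)) (.node 1 (.one ⟨8194, 6, 14⟩) (.one ⟨2433, 4, 16⟩)))) (.node 4 (.node 2 (.node 1 (.one ⟨7367, 6, 12⟩) (.one ⟨16631, 5, 16⟩)) (.node 1 (.one ⟨3276, 4, 14⟩) (.one ⟨4353, 3, 16⟩))) (.node 2 (.node 1 (.one ⟨246, 3, 12⟩) (.one ⟨11988, 5, 16⟩)) (.node 1 (.one ⟨5401, 2, 15⟩) (.one ⟨13107, 5, 14⟩))))) (.node 8 (.node 4 (.node 2 (.node 1 (.one ⟨16223, 6, 14⟩) (.one ⟨1703, 3, 15⟩)) (.node 1 (.one ⟨13280, 4, 14⟩) (.one ⟨15379, 5, 15⟩))) (.node 2 (.node 1 (.one ⟨6770, 2, 17⟩) (.one ⟨7223, 3, 15⟩))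 (.node 1 (.one ⟨9666, 5, 15⟩) (.one ⟨11339, 4, 15⟩)))) (.node 4 (.node 2 (.node 1 (.one ⟨7184, 4, 16⟩) (.one ⟨12519, 6, 15⟩)) (.node 1 (.one ⟨4324, 2, 14⟩) (.one ⟨1694, 5, 15⟩))) (.node 2 (.node 1 (.one ⟨16810, 6, 13⟩) (.one ⟨3913, 5, 14⟩)) (.node 1 (.one ⟨12540, 6, 14⟩) (.one ⟨7367, 4, 12⟩)))))) (.node 16 (.node 8 (.node 4 (.node 2 (.node 1 (.one ⟨5238, 4, 13⟩) (.one ⟨3378, 6, 15⟩)) (.node 1 (.one ⟨7134, 3, 15⟩) (.one ⟨9700, 5, 17⟩))) (.node 2 (.node 1 (.one ⟨11048, 2, 14⟩) (.one ⟨1981, 2, 14⟩)) (.node 1 (.one ⟨11043, 5, 16⟩) (.one ⟨15493, 6, 16⟩)))) (.node 4 (.node 2 (.node 1 (.one ⟨12029, 4, 15⟩) (.one ⟨5372, 2, 12⟩)) (.node 1 (.one ⟨4439, 6, 15⟩) (.one ⟨8412, 5, 13⟩))) (.node 2 (.node 1 (.one ⟨820, 3, 13⟩) (.one ⟨1162, 3, 15⟩))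 (.node 1 (.one ⟨2390, 4, 13⟩) (.one ⟨11505, 5, 12⟩))))) (.node 8 (.node 4 (.node 2 (.node 1 (.one ⟨12013, 4, 14⟩) (.one ⟨17013, 2, 15⟩)) (.node 1 (.one ⟨4042, 6, 13⟩) (.one ⟨2069, 6, 15⟩))) (.node 2 (.node 1 (.one ⟨7529, 4, 15⟩) (.one ⟨7755, 5, 10⟩)) (.node 1 (.one ⟨8171, 6, 16⟩) (.one ⟨11239, 4, 14⟩)))) (.node 4 (.node 2 (.node 1 (.one ⟨11070, 6, 15⟩) (.one ⟨15045, 3, 16⟩)) (.node 1 (.one ⟨14213, 6, 14⟩) (.one ⟨2349, 5, 14⟩))) (.node 2 (.node 1 (.one ⟨13606, 0, 14⟩) (.one ⟨16992, 6, 11⟩)) (.node 1 (.one ⟨8135, 6, 13⟩) (.one ⟨16341, 2, 15⟩)))))))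
def par0_16_9 : Arr Par :=
  (.node 32 (.node 16 (.node 8 (.node 4 (.node 2 (.node 1 (.one ⟨5654, 2, 12⟩) (.one ⟨11225, 4, 12⟩)) (.node 1 (.one ⟨11211, 2, 9⟩) (.one ⟨7498, 4, 14⟩))) (.node 2 (.node 1 (.one ⟨8133, 6, 16⟩) (.one ⟨10704, 4, 13⟩)) (.node 1 (.one ⟨15505, 5, 15⟩) (.one ⟨7027, 6, 11⟩)))) (.node 4 (.node 2 (.node 1 (.one ⟨8163, 6, 15⟩) (.one ⟨11214, 4, 8⟩)) (.node 1 (.one ⟨12650, 3, 16⟩) (.one ⟨7515, 4, 16⟩))) (.node 2 (.node 1 (.one ⟨12135, 6, 9⟩) (.one ⟨14228, 6, 15⟩)) (.node 1 (.one ⟨13515, 4, 6⟩) (.one ⟨12602, 5, 14⟩))))) (.node 8 (.node 4 (.node 2 (.node 1 (.one ⟨3100, 6, 14⟩) (.one ⟨1590, 2, 11⟩)) (.node 1 (.one ⟨8901, 4, 17⟩) (.one ⟨10717, 4, 13⟩))) (.node 2 (.node 1 (.one ⟨6349, 4, 14⟩) (.one ⟨8884, 1, 15⟩)) (.node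 1 (.one ⟨8880, 1, 14⟩) (.one ⟨3165, 4, 12⟩)))) (.node 4 (.node 2 (.node 1 (.one ⟨1860, 2, 10⟩) (.one ⟨3763, 2, 7⟩)) (.node 1 (.one ⟨8113, 6, 16⟩) (.one ⟨12216, 2, 13⟩))) (.node 2 (.node 1 (.one ⟨15479, 5, 13⟩) (.one ⟨14598, 5, 17⟩)) (.node 1 (.one ⟨4108, 6, 11⟩) (.one ⟨14428, 4, 14⟩)))))) (.node 16 (.node 8 (.node 4 (.node 2 (.node 1 (.one ⟨13541, 4, 10⟩) (.one ⟨3176, 4, 9⟩)) (.node 1 (.one ⟨16157, 3, 14⟩) (.one ⟨11972, 4, 15⟩))) (.node 2 (.node 1 (.one ⟨1164, 2, 15⟩) (.one ⟨8123, 6, 16⟩)) (.node 1 (.one ⟨2313, 5, 15⟩) (.one ⟨1637, 3, 12⟩)))) (.node 4 (.node 2 (.node 1 (.one ⟨7419, 5, 14⟩) (.one ⟨4588, 5, 11⟩)) (.node 1 (.one ⟨16949, 6, 11⟩) (.one ⟨8908, 1, 16⟩))) (.node 2 (.node 1 (.one ⟨8151, 6, 15⟩) (.one ⟨12600, 3, 17⟩)) (.node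 1 (.one ⟨11545, 5, 13⟩) (.one ⟨6438, 4, 13⟩))))) (.node 8 (.node 4 (.node 2 (.node 1 (.one ⟨10674, 4, 12⟩) (.one ⟨8777, 4, 17⟩)) (.node 1 (.one ⟨13476, 4, 12⟩) (.one ⟨9969, 6, 15⟩))) (.node 2 (.node 1 (.one ⟨2837, 5, 15⟩) (.one ⟨14301, 3, 14⟩)) (.node 1 (.one ⟨12250, 6, 14⟩) (.one ⟨12061, 6, 16⟩)))) (.node 4 (.node 2 (.node 1 (.one ⟨5452, 4, 16⟩) (.one ⟨13445, 4, 15⟩)) (.node 1 (.one ⟨4876, 3, 17⟩) (.one ⟨16010, 3, 15⟩))) (.node 2 (.node 1 (.one ⟨10563, 4, 14⟩) (.one ⟨8979, 1, 15⟩)) (.node 1 (.one ⟨6383, 4, 13⟩) (.one ⟨2738, 2, 13⟩)))))))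
def par0_16_10 : Arr Par :=
  (.node 32 (.node 16 (.node 8 (.node 4 (.node 2 (.node 1 (.one ⟨13381, 4, 14⟩) (.one ⟨10917, 5, 14⟩)) (.node 1 (.one ⟨4264, 6, 12⟩) (.one ⟨16839, 6, 15⟩))) (.node 2 (.node 1 (.one ⟨12850, 5, 15⟩) (.one ⟨10008, 6, 14⟩)) (.node 1 (.one ⟨2334, 2, 12⟩) (.one ⟨12264, 6, 5⟩)))) (.node 4 (.node 2 (.node 1 (.one ⟨6644, 6, 10⟩) (.one ⟨452, 6, 11⟩)) (.node 1 (.one ⟨10698, 4, 8⟩) (.one ⟨17013, 4, 15⟩))) (.node 2 (.node 1 (.one ⟨14994, 6, 16⟩) (.one ⟨16571, 2, 15⟩)) (.node 1 (.one ⟨5905, 5, 12⟩) (.one ⟨14726, 6, 11⟩))))) (.node 8 (.node 4 (.node 2 (.node 1 (.one ⟨6266, 4, 15⟩) (.one ⟨778, 2, 12⟩)) (.node 1 (.one ⟨14462, 4, 13⟩) (.one ⟨475, 2, 11⟩))) (.node 2 (.node 1 (.one ⟨17069, 4, 14⟩) (.one ⟨413, 6, 14⟩)) (.node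 1 (.one ⟨12943, 3, 16⟩) (.one ⟨15731, 2, 15⟩)))) (.node 4 (.node 2 (.node 1 (.one ⟨14710, 6, 15⟩) (.one ⟨1606, 2, 12⟩)) (.node 1 (.one ⟨8766, 6, 15⟩) (.one ⟨10055, 2, 16⟩))) (.node 2 (.node 1 (.one ⟨10580, 4, 13⟩) (.one ⟨2638, 4, 11⟩)) (.node 1 (.one ⟨12018, 6, 16⟩) (.one ⟨15387, 5, 13⟩)))))) (.node 16 (.node 8 (.node 4 (.node 2 (.node 1 (.one ⟨14761, 6, 14⟩) (.one ⟨16895, 0, 13⟩)) (.node 1 (.one ⟨15083, 3, 16⟩) (.one ⟨14315, 3, 15⟩))) (.node 2 (.node 1 (.one ⟨2610, 4, 14⟩) (.one ⟨6396, 4, 14⟩)) (.node 1 (.one ⟨5266, 2, 16⟩) (.one ⟨8801, 5, 13⟩)))) (.node 4 (.node 2 (.node 1 (.one ⟨15747, 2, 15⟩) (.one ⟨6440, 4, 14⟩)) (.node 1 (.one ⟨4202, 6, 15⟩) (.one ⟨15038, 3, 13⟩))) (.node 2 (.node 1 (.one ⟨16872, 4, 14⟩) (.one ⟨4598, 2, 13⟩))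 (.node 1 (.one ⟨8961, 1, 12⟩) (.one ⟨17123, 3, 16⟩))))) (.node 8 (.node 4 (.node 2 (.node 1 (.one ⟨5917, 3, 17⟩) (.one ⟨10113, 6, 12⟩)) (.node 1 (.one ⟨8206, 6, 16⟩) (.one ⟨5423, 4, 15⟩))) (.node 2 (.node 1 (.one ⟨4358, 4, 15⟩) (.one ⟨11958, 4, 12⟩)) (.node 1 (.one ⟨13317, 4, 14⟩) (.one ⟨5047, 3, 14⟩)))) (.node 4 (.node 2 (.node 1 (.one ⟨16273, 6, 14⟩) (.one ⟨8799, 5, 16⟩)) (.node 1 (.one ⟨15492, 5, 14⟩) (.one ⟨6093, 6, 13⟩))) (.node 2 (.node 1 (.one ⟨13073, 0, 13⟩) (.one ⟨15025, 6, 17⟩)) (.node 1 (.one ⟨5655, 5, 14⟩) (.one ⟨10142, 6, 13⟩)))))))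
def par0_16_11 : Arr Par :=
  (.node 32 (.node 16 (.node 8 (.node 4 (.node 2 (.node 1 (.one ⟨9010, 1, 15⟩) (.one ⟨7219, 5, 15⟩)) (.node 1 (.one ⟨7436, 5, 12⟩) (.one ⟨13535, 4, 14⟩))) (.node 2 (.node 1 (.one ⟨7605, 5, 16⟩) (.one ⟨16301, 6, 15⟩)) (.node 1 (.one ⟨13443, 4, 14⟩) (.one ⟨13992, 5, 14⟩)))) (.node 4 (.node 2 (.node 1 (.one ⟨5086, 3, 13⟩) (.one ⟨11975, 4, 7⟩)) (.node 1 (.one ⟨1974, 6, 9⟩) (.one ⟨13411, 4, 5⟩))) (.node 2 (.node 1 (.one ⟨13513, 4, 10⟩) (.one ⟨5144, 3, 16⟩)) (.node 1 (.one ⟨13856, 3, 15⟩) (.one ⟨3928, 4, 11⟩))))) (.node 8 (.node 4 (.node 2 (.node 1 (.one ⟨10261, 3, 14⟩) (.one ⟨5927, 5, 16⟩)) (.node 1 (.one ⟨8935, 5, 15⟩) (.one ⟨5062, 3, 15⟩))) (.node 2 (.node 1 (.one ⟨3938, 0, 15⟩) (.one ⟨17174, 3, 13⟩)) (.node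 1 (.one ⟨13460, 4, 13⟩) (.one ⟨17157, 3, 14⟩)))) (.node 4 (.node 2 (.node 1 (.one ⟨9065, 1, 12⟩) (.one ⟨15835, 5, 14⟩)) (.node 1 (.one ⟨9068, 1, 11⟩) (.one ⟨8212, 6, 16⟩))) (.node 2 (.node 1 (.one ⟨5847, 3, 16⟩) (.one ⟨13270, 6, 15⟩)) (.node 1 (.one ⟨5138, 3, 16⟩) (.one ⟨4371, 4, 16⟩)))))) (.node 16 (.node 8 (.node 4 (.node 2 (.node 1 (.one ⟨8231, 6, 16⟩) (.one ⟨13530, 4, 14⟩)) (.node 1 (.one ⟨5636, 5, 13⟩) (.one ⟨5397, 4, 15⟩))) (.node 2 (.node 1 (.one ⟨11999, 4, 11⟩) (.one ⟨9046, 1, 16⟩)) (.node 1 (.one ⟨13183, 3, 17⟩) (.one ⟨3941, 4, 13⟩)))) (.node 4 (.node 2 (.node 1 (.one ⟨13331, 4, 16⟩) (.one ⟨5102, 3, 14⟩)) (.node 1 (.one ⟨9053, 1, 13⟩) (.one ⟨9087, 3, 13⟩))) (.node 2 (.node 1 (.one ⟨5093, 4, 16⟩) (.one ⟨13885, 3, 15⟩)) (.node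 1 (.one ⟨5299, 4, 16⟩) (.one ⟨12168, 3, 15⟩))))) (.node 8 (.node 4 (.node 2 (.node 1 (.one ⟨10008, 5, 14⟩) (.one ⟨15131, 5, 16⟩)) (.node 1 (.one ⟨17090, 6, 13⟩) (.one ⟨14655, 6, 12⟩))) (.node 2 (.node 1 (.one ⟨11885, 5, 11⟩) (.one ⟨16617, 5, 13⟩)) (.node 1 (.one ⟨4158, 6, 14⟩) (.one ⟨13493, 4, 15⟩)))) (.node 4 (.node 2 (.node 1 (.one ⟨12256, 4, 14⟩) (.one ⟨3479, 4, 15⟩)) (.node 1 (.one ⟨2582, 4, 14⟩) (.one ⟨4131, 4, 9⟩))) (.node 2 (.node 1 (.one ⟨16663, 5, 15⟩) (.one ⟨9930, 6, 15⟩)) (.node 1 (.one ⟨11198, 4, 11⟩) (.one ⟨10112, 3, 15⟩)))))))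
def par0_16_12 : Arr Par :=
  (.node 23 (.node 11 (.node 5 (.node 2 (.node 1 (.one ⟨15805, 5, 16⟩) (.one ⟨11911, 5, 12⟩)) (.node 1 (.one ⟨15097, 5, 16⟩) (.node 1 (.one ⟨1849, 6, 14⟩) (.one ⟨3946, 6, 16⟩)))) (.node 3 (.node 1 (.one ⟨4615, 5, 13⟩) (.node 1 (.one ⟨12197, 4, 14⟩) (.one ⟨9909, 6, 16⟩))) (.node 1 (.one ⟨10593, 4, 11⟩) (.node 1 (.one ⟨8584, 5, 15⟩) (.one ⟨13517, 4, 10⟩))))) (.node 6 (.node 3 (.node 1 (.one ⟨11065, 3, 14⟩) (.node 1 (.one ⟨12130, 4, 8⟩) (.one ⟨5226, 3, 15⟩))) (.node 1 (.one ⟨17097, 6, 8⟩) (.node 1 (.one ⟨5660, 3, 14⟩) (.one ⟨3768, 5, 14⟩)))) (.node 3 (.node 1 (.one ⟨11159, 3, 16⟩) (.node 1 (.one ⟨8556, 5, 15⟩) (.one ⟨13742, 5, 12⟩))) (.node 1 (.one ⟨5445, 4, 14⟩) (.node 1 (.one ⟨12236, 6, 13⟩) (.one ⟨11220,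 4, 12⟩)))))) (.node 12 (.node 6 (.node 3 (.node 1 (.one ⟨3922, 6, 16⟩) (.node 1 (.one ⟨11838, 5, 16⟩) (.one ⟨17103, 6, 12⟩))) (.node 1 (.one ⟨619, 6, 14⟩) (.node 1 (.one ⟨10437, 4, 15⟩) (.one ⟨8587, 2, 16⟩)))) (.node 3 (.node 1 (.one ⟨14639, 6, 12⟩) (.node 1 (.one ⟨10662, 4, 14⟩) (.one ⟨12148, 4, 12⟩))) (.node 1 (.one ⟨10130, 3, 16⟩) (.node 1 (.one ⟨15126, 5, 14⟩) (.one ⟨2309, 2, 15⟩))))) (.node 6 (.node 3 (.node 1 (.one ⟨5128, 4, 16⟩) (.node 1 (.one ⟨3867, 5, 14⟩) (.one ⟨636, 6, 15⟩))) (.node 1 (.one ⟨17114, 6, 12⟩) (.node 1 (.one ⟨13501, 4, 14⟩) (.one ⟨16852, 6, 15⟩)))) (.node 3 (.node 1 (.one ⟨16653, 5, 13⟩) (.node 1 (.one ⟨12083, 4, 13⟩) (.one ⟨2516, 4, 14⟩))) (.node 1 (.one ⟨11928, 5, 9⟩) (.node 1 (.one ⟨4169, 2, 13⟩) (.one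 ⟨9103, 1, 13⟩)))))))
def par0_16 : Arr Par :=
  (.node 384 (.node 192 (.node 64 par0_16_0 (.node 64 par0_16_1 par0_16_2)) (.node 64 par0_16_3 (.node 64 par0_16_4 par0_16_5))) (.node 192 (.node 64 par0_16_6 (.node 64 par0_16_7 par0_16_8)) (.node 128 (.node 64 par0_16_9 par0_16_10) (.node 64 par0_16_11 par0_16_12))))
def par0 : Arr Par :=
  (.node 8192 (.node 4096 (.node 2048 (.node 1024 par0_0 par0_1) (.node 1024 par0_2 par0_3)) (.node 2048 (.node 1024 par0_4 par0_5) (.node 1024 par0_6 par0_7))) (.node 4096 (.node 2048 (.node 1024 par0_8 par0_9) (.node 1024 par0_10 par0_11)) (.node 2048 (.node 1024 par0_12 par0_13) (.node 1024 par0_14 (.node 1024 par0_15 par0_16)))))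

end CfsgLib.ThIndex62.Data
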