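import Cfsg.Agent.ThIndex62.Closure

/-! Orbit forest of node 1 on the points. -/

set_option autoImplicit false
set_option maxRecDepth 100000

namespace CfsgLib.ThIndex62.Data

open CfsgLib.ThModel83

def par1_0_0 : Arr Par :=
  (.node 32 (.node 16 (.node 8 (.node 4 (.node 2 (.node 1 (.one ⟨3797, 2, 4⟩) (.one ⟨16310, 2, 3⟩)) (.node 1 (.one ⟨14402, 2, 4⟩) (.one ⟨10179, 2, 6⟩))) (.node 2 (.node 1 (.one ⟨5944, 0, 5⟩) (.one ⟨13686, 1, 6⟩)) (.node 1 (.one ⟨15056, 2, 5⟩) (.one ⟨1905, 0, 5⟩)))) (.node 4 (.node 2 (.node 1 (.one ⟨10951, 0, 5⟩) (.one ⟨8637, 2, 4⟩)) (.node 1 (.one ⟨5553, 0, 6⟩) (.one ⟨3205, 2, 5⟩))) (.node 2 (.node 1 (.one ⟨10242, 2, 4⟩) (.one ⟨14306, 0, 6⟩)) (.node 1 (.one ⟨5501, 2, 5⟩) (.one ⟨4000,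 0, 6⟩))))) (.node 8 (.node 4 (.node 2 (.node 1 (.one ⟨13108, 2, 6⟩) (.one ⟨10312, 1, 5⟩)) (.node 1 (.one ⟨1905, 1, 5⟩) (.one ⟨11889, 2, 5⟩))) (.node 2 (.node 1 (.one ⟨3174, 2, 5⟩) (.one ⟨4239, 1, 6⟩)) (.node 1 (.one ⟨16534, 2, 6⟩) (.one ⟨16421, 1, 5⟩)))) (.node 4 (.node 2 (.node 1 (.one ⟨13740, 1, 5⟩) (.one ⟨10312, 0, 5⟩)) (.node 1 (.one ⟨15215, 0, 6⟩) (.one ⟨12424, 1, 6⟩))) (.node 2 (.node 1 (.one ⟨7123, 3, 5⟩) (.one ⟨5117, 1, 6⟩)) (.node 1 (.one ⟨8283, 1, 5⟩) (.one ⟨7087, 0, 5⟩)))))) (.node 16 (.node 8 (.node 4 (.node 2 (.node 1 (.one ⟨16929, 1, 5⟩) (.one ⟨9704, 1, 6⟩)) (.node 1 (.one ⟨5581, 1, 5⟩) (.one ⟨2545, 4, 4⟩))) (.node 2 (.node 1 (.one ⟨15639, 4, 4⟩) (.one ⟨16986, 2, 3⟩)) (.node 1 (.one ⟨15595, 2,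 3⟩) (.one ⟨10158, 2, 4⟩)))) (.node 4 (.node 2 (.node 1 (.one ⟨10007, 0, 5⟩) (.one ⟨16480, 2, 5⟩)) (.node 1 (.one ⟨13433, 1, 5⟩) (.one ⟨4263, 0, 6⟩))) (.node 2 (.node 1 (.one ⟨7498, 3, 6⟩) (.one ⟨16615, 0, 5⟩)) (.node 1 (.one ⟨1630, 2, 6⟩) (.one ⟨9029, 1, 6⟩))))) (.node 8 (.node 4 (.node 2 (.node 1 (.one ⟨7543, 0, 5⟩) (.one ⟨8711, 2, 5⟩)) (.node 1 (.one ⟨14888, 3, 6⟩) (.one ⟨4998, 2, 5⟩))) (.node 2 (.node 1 (.one ⟨4331, 2, 6⟩) (.one ⟨15430, 4, 6⟩)) (.node 1 (.one ⟨4926, 2, 6⟩) (.one ⟨9949, 1, 6⟩)))) (.node 4 (.node 2 (.node 1 (.one ⟨11305, 0, 6⟩) (.one ⟨3497, 4, 6⟩)) (.node 1 (.one ⟨10590, 2, 5⟩) (.one ⟨5992, 1, 6⟩))) (.node 2 (.node 1 (.one ⟨7263, 0, 5⟩) (.one ⟨10510, 3, 5⟩)) (.node 1 (.one ⟨5017, 2, 5⟩) (.one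 ⟨5308, 2, 6⟩)))))))
def par1_0_1 : Arr Par :=
  (.node 32 (.node 16 (.node 8 (.node 4 (.node 2 (.node 1 (.one ⟨6123, 4, 5⟩) (.one ⟨582, 0, 6⟩)) (.node 1 (.one ⟨6414, 4, 5⟩) (.one ⟨979, 2, 6⟩))) (.node 2 (.node 1 (.one ⟨16303, 2, 5⟩) (.one ⟨595, 1, 5⟩)) (.node 1 (.one ⟨611, 0, 6⟩) (.one ⟨4088, 4, 3⟩)))) (.node 4 (.node 2 (.node 1 (.one ⟨14716, 2, 7⟩) (.one ⟨587, 1, 5⟩)) (.node 1 (.one ⟨16690, 4, 4⟩) (.one ⟨15436, 4, 6⟩))) (.node 2 (.node 1 (.one ⟨5592, 0, 4⟩) (.one ⟨362, 2, 6⟩)) (.node 1 (.one ⟨2550, 4, 4⟩) (.one ⟨13394, 4, 4⟩))))) (.node 8 (.node 4 (.node 2 (.node 1 (.one ⟨9594, 3, 4⟩) (.one ⟨3772, 4, 4⟩)) (.node 1 (.one ⟨6407, 4, 5⟩) (.one ⟨590, 0, 6⟩))) (.node 2 (.node 1 (.one ⟨6119, 4, 3⟩) (.one ⟨16591,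 3, 7⟩)) (.node 1 (.one ⟨2547, 4, 4⟩) (.one ⟨3058, 2, 6⟩)))) (.node 4 (.node 2 (.node 1 (.one ⟨9533, 3, 4⟩) (.one ⟨7062, 4, 6⟩)) (.node 1 (.one ⟨13771, 3, 5⟩) (.one ⟨7315, 1, 5⟩))) (.node 2 (.node 1 (.one ⟨10946, 1, 6⟩) (.one ⟨16331, 1, 6⟩)) (.node 1 (.one ⟨3226, 3, 6⟩) (.one ⟨12948, 4, 6⟩)))))) (.node 16 (.node 8 (.node 4 (.node 2 (.node 1 (.one ⟨9400, 3, 5⟩) (.one ⟨5089, 1, 6⟩)) (.node 1 (.one ⟨16292, 3, 5⟩) (.one ⟨5561, 1, 7⟩))) (.node 2 (.node 1 (.one ⟨10282, 2, 6⟩) (.one ⟨8157, 3, 6⟩)) (.node 1 (.one ⟨4787, 3, 5⟩) (.one ⟨15715, 3, 6⟩)))) (.node 4 (.node 2 (.node 1 (.one ⟨3918, 3, 5⟩) (.one ⟨11167, 2, 6⟩)) (.node 1 (.one ⟨4235, 4, 5⟩) (.one ⟨1300, 2, 5⟩))) (.node 2 (.node 1 (.one ⟨9485, 4, 6⟩) (.one ⟨5568,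 1, 5⟩)) (.node 1 (.one ⟨12414, 1, 4⟩) (.one ⟨10235, 4, 3⟩))))) (.node 8 (.node 4 (.node 2 (.node 1 (.one ⟨14032, 1, 5⟩) (.one ⟨15279, 2, 5⟩)) (.node 1 (.one ⟨7203, 2, 7⟩) (.one ⟨9911, 3, 6⟩))) (.node 2 (.node 1 (.one ⟨1108, 0, 6⟩) (.one ⟨6888, 2, 5⟩)) (.node 1 (.one ⟨4665, 2, 6⟩) (.one ⟨8513, 0, 4⟩)))) (.node 4 (.node 2 (.node 1 (.one ⟨10389, 3, 5⟩) (.one ⟨7372, 3, 6⟩)) (.node 1 (.one ⟨5405, 4, 6⟩) (.one ⟨5612, 0, 5⟩))) (.node 2 (.node 1 (.one ⟨6565, 1, 5⟩) (.one ⟨13617, 1, 6⟩)) (.node 1 (.one ⟨4899, 2, 6⟩) (.one ⟨13726, 4, 4⟩)))))))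
def par1_0_2 : Arr Par :=
  (.node 32 (.node 16 (.node 8 (.node 4 (.node 2 (.node 1 (.one ⟨2037, 2, 6⟩) (.one ⟨4666, 3, 4⟩)) (.node 1 (.one ⟨14412, 3, 5⟩) (.one ⟨2489, 0, 5⟩))) (.node 2 (.node 1 (.one ⟨14568, 3, 4⟩) (.one ⟨5492, 3, 6⟩)) (.node 1 (.one ⟨6645, 2, 5⟩) (.one ⟨11866, 4, 6⟩)))) (.node 4 (.node 2 (.node 1 (.one ⟨14877, 2, 5⟩) (.one ⟨14641, 3, 4⟩)) (.node 1 (.one ⟨6070, 3, 6⟩) (.one ⟨15620, 0, 4⟩))) (.node 2 (.node 1 (.one ⟨1958, 0, 5⟩) (.one ⟨3852, 3, 7⟩)) (.node 1 (.one ⟨7346, 4, 6⟩) (.one ⟨6535, 0, 6⟩))))) (.node 8 (.node 4 (.node 2 (.node 1 (.one ⟨7454, 2, 6⟩) (.one ⟨6282, 3, 5⟩)) (.node 1 (.one ⟨13638, 1, 6⟩) (.one ⟨7647, 1, 5⟩))) (.node 2 (.node 1 (.one ⟨14621, 4, 3⟩) (.one ⟨10917, 2, 3⟩)) (.node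 1 (.one ⟨4642, 4, 5⟩) (.one ⟨316, 3, 6⟩)))) (.node 4 (.node 2 (.node 1 (.one ⟨11009, 4, 6⟩) (.one ⟨15260, 0, 5⟩)) (.node 1 (.one ⟨8841, 4, 6⟩) (.one ⟨7600, 0, 4⟩))) (.node 2 (.node 1 (.one ⟨10538, 3, 5⟩) (.one ⟨7295, 1, 5⟩)) (.node 1 (.one ⟨11230, 1, 4⟩) (.one ⟨16568, 1, 6⟩)))))) (.node 16 (.node 8 (.node 4 (.node 2 (.node 1 (.one ⟨16331, 3, 6⟩) (.one ⟨5810, 3, 5⟩)) (.node 1 (.one ⟨15334, 1, 6⟩) (.one ⟨12237, 4, 6⟩))) (.node 2 (.node 1 (.one ⟨12998, 0, 5⟩) (.one ⟨13212, 1, 4⟩)) (.node 1 (.one ⟨7494, 0, 5⟩) (.one ⟨16666, 0, 6⟩)))) (.node 4 (.node 2 (.node 1 (.one ⟨2310, 2, 5⟩) (.one ⟨595, 2, 5⟩)) (.node 1 (.one ⟨80, 4, 5⟩) (.one ⟨4984, 1, 5⟩))) (.node 2 (.node 1 (.one ⟨3242, 1, 5⟩) (.one ⟨1325, 1, 5⟩)) (.node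 1 (.one ⟨14025, 2, 6⟩) (.one ⟨10397, 1, 6⟩))))) (.node 8 (.node 4 (.node 2 (.node 1 (.one ⟨13098, 2, 5⟩) (.one ⟨17104, 0, 7⟩)) (.node 1 (.one ⟨2864, 0, 3⟩) (.one ⟨3205, 1, 5⟩))) (.node 2 (.node 1 (.one ⟨14553, 2, 6⟩) (.one ⟨15690, 0, 6⟩)) (.node 1 (.one ⟨4778, 2, 6⟩) (.one ⟨7808, 2, 6⟩)))) (.node 4 (.node 2 (.node 1 (.one ⟨9980, 4, 7⟩) (.one ⟨6489, 1, 4⟩)) (.node 1 (.one ⟨14248, 3, 6⟩) (.one ⟨9345, 1, 6⟩))) (.node 2 (.node 1 (.one ⟨5353, 3, 6⟩) (.one ⟨5423, 4, 5⟩)) (.node 1 (.one ⟨6067, 3, 4⟩) (.one ⟨17132, 3, 4⟩)))))))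
def par1_0_3 : Arr Par :=
  (.node 32 (.node 16 (.node 8 (.node 4 (.node 2 (.node 1 (.one ⟨11533, 3, 6⟩) (.one ⟨10946, 2, 6⟩)) (.node 1 (.one ⟨15812, 3, 6⟩) (.one ⟨15540, 1, 6⟩))) (.node 2 (.node 1 (.one ⟨15749, 0, 5⟩) (.one ⟨16155, 4, 5⟩)) (.node 1 (.one ⟨7680, 2, 6⟩) (.one ⟨11295, 0, 5⟩)))) (.node 4 (.node 2 (.node 1 (.one ⟨15560, 1, 5⟩) (.one ⟨15693, 3, 6⟩)) (.node 1 (.one ⟨5669, 0, 6⟩) (.one ⟨7494, 2, 5⟩))) (.node 2 (.node 1 (.one ⟨8329, 3, 4⟩) (.one ⟨9232, 1, 6⟩)) (.node 1 (.one ⟨12764, 2, 4⟩) (.one ⟨16865, 0, 6⟩))))) (.node 8 (.node 4 (.node 2 (.node 1 (.one ⟨5017, 1, 5⟩) (.one ⟨9235, 1, 7⟩)) (.node 1 (.one ⟨9231, 1, 6⟩) (.one ⟨15900, 2, 5⟩))) (.node 2 (.node 1 (.one ⟨11194, 1, 5⟩) (.one ⟨579, 2, 5⟩))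 (.node 1 (.one ⟨16562, 0, 6⟩) (.one ⟨15198, 1, 4⟩)))) (.node 4 (.node 2 (.node 1 (.one ⟨15760, 0, 5⟩) (.one ⟨2948, 1, 5⟩)) (.node 1 (.one ⟨11078, 2, 5⟩) (.one ⟨3421, 3, 4⟩))) (.node 2 (.node 1 (.one ⟨5276, 2, 7⟩) (.one ⟨2860, 2, 5⟩)) (.node 1 (.one ⟨3141, 4, 5⟩) (.one ⟨6236, 0, 5⟩)))))) (.node 16 (.node 8 (.node 4 (.node 2 (.node 1 (.one ⟨1368, 3, 4⟩) (.one ⟨11190, 1, 4⟩)) (.node 1 (.one ⟨593, 4, 5⟩) (.one ⟨15182, 0, 6⟩))) (.node 2 (.node 1 (.one ⟨12348, 3, 6⟩) (.one ⟨3198, 4, 6⟩)) (.node 1 (.one ⟨414, 4, 6⟩) (.one ⟨8157, 2, 6⟩)))) (.node 4 (.node 2 (.node 1 (.one ⟨7512, 2, 4⟩) (.one ⟨612, 3, 6⟩)) (.node 1 (.one ⟨14402, 4, 4⟩) (.one ⟨17113, 0, 4⟩))) (.node 2 (.node 1 (.one ⟨4935, 2, 6⟩) (.one ⟨16605, 4, 7⟩))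 (.node 1 (.one ⟨15956, 2, 4⟩) (.one ⟨10711, 2, 5⟩))))) (.node 8 (.node 4 (.node 2 (.node 1 (.one ⟨9533, 1, 4⟩) (.one ⟨4997, 2, 5⟩)) (.node 1 (.one ⟨11464, 3, 5⟩) (.one ⟨6224, 4, 5⟩))) (.node 2 (.node 1 (.one ⟨4411, 3, 4⟩) (.one ⟨13083, 0, 4⟩)) (.node 1 (.one ⟨4571, 1, 5⟩) (.one ⟨2200, 3, 5⟩)))) (.node 4 (.node 2 (.node 1 (.one ⟨11252, 0, 4⟩) (.one ⟨16421, 0, 5⟩)) (.node 1 (.one ⟨9527, 1, 4⟩) (.one ⟨6851, 2, 5⟩))) (.node 2 (.node 1 (.one ⟨8938, 4, 5⟩) (.one ⟨11402, 3, 6⟩)) (.node 1 (.one ⟨7710, 2, 4⟩) (.one ⟨8448, 4, 6⟩)))))))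
def par1_0_4 : Arr Par :=
  (.node 32 (.node 16 (.node 8 (.node 4 (.node 2 (.node 1 (.one ⟨4621, 4, 5⟩) (.one ⟨4619, 3, 5⟩)) (.node 1 (.one ⟨15683, 1, 6⟩) (.one ⟨10587, 2, 4⟩))) (.node 2 (.node 1 (.one ⟨59, 2, 7⟩) (.one ⟨16311, 3, 4⟩)) (.node 1 (.one ⟨8841, 0, 6⟩) (.one ⟨9691, 0, 6⟩)))) (.node 4 (.node 2 (.node 1 (.one ⟨8602, 4, 5⟩) (.one ⟨8502, 3, 4⟩)) (.node 1 (.one ⟨10848, 4, 7⟩) (.one ⟨8493, 0, 6⟩))) (.node 2 (.node 1 (.one ⟨6980, 4, 4⟩) (.one ⟨1110, 0, 6⟩)) (.node 1 (.one ⟨5309, 0, 5⟩) (.one ⟨12903, 3, 5⟩))))) (.node 8 (.node 4 (.node 2 (.node 1 (.one ⟨1704, 1, 6⟩) (.one ⟨16454, 4, 4⟩)) (.node 1 (.one ⟨8452, 1, 6⟩) (.one ⟨12089, 4, 6⟩))) (.node 2 (.node 1 (.one ⟨7611, 0, 6⟩) (.one ⟨5037, 3, 5⟩)) (.node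 1 (.one ⟨6205, 1, 7⟩) (.one ⟨16521, 2, 5⟩)))) (.node 4 (.node 2 (.node 1 (.one ⟨1104, 1, 5⟩) (.one ⟨13212, 0, 4⟩)) (.node 1 (.one ⟨12361, 0, 6⟩) (.one ⟨10232, 2, 6⟩))) (.node 2 (.node 1 (.one ⟨8393, 2, 6⟩) (.one ⟨15683, 0, 6⟩)) (.node 1 (.one ⟨4307, 0, 5⟩) (.one ⟨16495, 4, 6⟩)))))) (.node 16 (.node 8 (.node 4 (.node 2 (.node 1 (.one ⟨14883, 3, 6⟩) (.one ⟨15198, 4, 4⟩)) (.node 1 (.one ⟨11984, 4, 4⟩) (.one ⟨16390, 4, 5⟩))) (.node 2 (.node 1 (.one ⟨6276, 4, 5⟩) (.one ⟨4786, 3, 4⟩)) (.node 1 (.one ⟨5068, 1, 5⟩) (.one ⟨12093, 3, 5⟩)))) (.node 4 (.node 2 (.node 1 (.one ⟨1523, 4, 5⟩) (.one ⟨9774, 1, 5⟩)) (.node 1 (.one ⟨9462, 2, 5⟩) (.one ⟨4424, 3, 5⟩))) (.node 2 (.node 1 (.one ⟨7699, 4, 6⟩) (.one ⟨1958, 3, 5⟩)) (.node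 1 (.one ⟨4749, 3, 5⟩) (.one ⟨9093, 1, 5⟩))))) (.node 8 (.node 4 (.node 2 (.node 1 (.one ⟨1400, 1, 5⟩) (.one ⟨5089, 4, 6⟩)) (.node 1 (.one ⟨16986, 4, 3⟩) (.one ⟨849, 3, 6⟩))) (.node 2 (.node 1 (.one ⟨2864, 1, 3⟩) (.one ⟨13726, 1, 4⟩)) (.node 1 (.one ⟨9258, 4, 6⟩) (.one ⟨9467, 2, 5⟩)))) (.node 4 (.node 2 (.node 1 (.one ⟨79, 2, 5⟩) (.one ⟨13107, 0, 5⟩)) (.node 1 (.one ⟨13712, 0, 6⟩) (.one ⟨3831, 3, 5⟩))) (.node 2 (.node 1 (.one ⟨16458, 1, 5⟩) (.one ⟨1640, 4, 6⟩)) (.node 1 (.one ⟨5159, 0, 5⟩) (.one ⟨7720, 0, 6⟩)))))))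
def par1_0_5 : Arr Par :=
  (.node 32 (.node 16 (.node 8 (.node 4 (.node 2 (.node 1 (.one ⟨11542, 3, 6⟩) (.one ⟨1136, 3, 6⟩)) (.node 1 (.one ⟨14107, 1, 6⟩) (.one ⟨12258, 3, 5⟩))) (.node 2 (.node 1 (.one ⟨9690, 3, 6⟩) (.one ⟨16843, 1, 6⟩)) (.node 1 (.one ⟨4279, 3, 6⟩) (.one ⟨7582, 2, 6⟩)))) (.node 4 (.node 2 (.node 1 (.one ⟨15968, 2, 6⟩) (.one ⟨2032, 4, 4⟩)) (.node 1 (.one ⟨1539, 2, 5⟩) (.one ⟨9373, 4, 5⟩))) (.node 2 (.node 1 (.one ⟨82, 2, 6⟩) (.one ⟨1672, 1, 6⟩)) (.node 1 (.one ⟨1325, 0, 5⟩) (.one ⟨14998, 3, 7⟩))))) (.node 8 (.node 4 (.node 2 (.node 1 (.one ⟨11708, 2, 5⟩) (.one ⟨12698, 2, 5⟩)) (.node 1 (.one ⟨4620, 4, 6⟩) (.one ⟨15180, 2, 5⟩))) (.node 2 (.node 1 (.one ⟨4313, 0, 5⟩) (.one ⟨3857, 2, 5⟩)) (.node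 1 (.one ⟨8273, 1, 6⟩) (.one ⟨1402, 0, 4⟩)))) (.node 4 (.node 2 (.node 1 (.one ⟨12744, 2, 6⟩) (.one ⟨6202, 4, 6⟩)) (.node 1 (.one ⟨9415, 3, 6⟩) (.one ⟨13365, 1, 7⟩))) (.node 2 (.node 1 (.one ⟨8530, 3, 5⟩) (.one ⟨11468, 3, 5⟩)) (.node 1 (.one ⟨2555, 1, 6⟩) (.one ⟨8150, 3, 4⟩)))))) (.node 16 (.node 8 (.node 4 (.node 2 (.node 1 (.one ⟨13675, 1, 6⟩) (.one ⟨6278, 1, 4⟩)) (.node 1 (.one ⟨6024, 0, 4⟩) (.one ⟨1120, 4, 6⟩))) (.node 2 (.node 1 (.one ⟨12230, 1, 5⟩) (.one ⟨9361, 4, 6⟩)) (.node 1 (.one ⟨16448, 3, 5⟩) (.one ⟨7857, 3, 4⟩)))) (.node 4 (.node 2 (.node 1 (.one ⟨11267, 3, 5⟩) (.one ⟨10379, 0, 6⟩)) (.node 1 (.one ⟨2605, 1, 5⟩) (.one ⟨2113, 3, 5⟩))) (.node 2 (.node 1 (.one ⟨10301, 0, 6⟩) (.one ⟨6490, 4, 3⟩)) (.node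 1 (.one ⟨10968, 2, 4⟩) (.one ⟨12615, 4, 6⟩))))) (.node 8 (.node 4 (.node 2 (.node 1 (.one ⟨9242, 0, 5⟩) (.one ⟨6994, 4, 5⟩)) (.node 1 (.one ⟨16336, 0, 6⟩) (.one ⟨2424, 3, 5⟩))) (.node 2 (.node 1 (.one ⟨12047, 2, 2⟩) (.one ⟨12690, 2, 6⟩)) (.node 1 (.one ⟨5592, 1, 4⟩) (.one ⟨6278, 2, 4⟩)))) (.node 4 (.node 2 (.node 1 (.one ⟨16467, 2, 5⟩) (.one ⟨16996, 2, 5⟩)) (.node 1 (.one ⟨12372, 3, 5⟩) (.one ⟨6893, 3, 5⟩))) (.node 2 (.node 1 (.one ⟨16331, 0, 6⟩) (.one ⟨7512, 0, 4⟩)) (.node 1 (.one ⟨13126, 1, 6⟩) (.one ⟨15101, 4, 6⟩)))))))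
def par1_0_6 : Arr Par :=
  (.node 32 (.node 16 (.node 8 (.node 4 (.node 2 (.node 1 (.one ⟨12294, 1, 5⟩) (.one ⟨4619, 4, 5⟩)) (.node 1 (.one ⟨16228, 4, 6⟩) (.one ⟨5612, 1, 5⟩))) (.node 2 (.node 1 (.one ⟨16200, 3, 4⟩) (.one ⟨3558, 3, 5⟩)) (.node 1 (.one ⟨9597, 0, 5⟩) (.one ⟨2605, 0, 5⟩)))) (.node 4 (.node 2 (.node 1 (.one ⟨3769, 2, 6⟩) (.one ⟨6278, 0, 4⟩)) (.node 1 (.one ⟨14459, 4, 4⟩) (.one ⟨9648, 0, 6⟩))) (.node 2 (.node 1 (.one ⟨15397, 0, 5⟩) (.one ⟨1395, 1, 6⟩)) (.node 1 (.one ⟨14708, 1, 6⟩) (.one ⟨5581, 0, 5⟩))))) (.node 8 (.node 4 (.node 2 (.node 1 (.one ⟨16447, 4, 6⟩) (.one ⟨3963, 1, 6⟩)) (.node 1 (.one ⟨16666, 1, 6⟩) (.one ⟨4289, 4, 6⟩))) (.node 2 (.node 1 (.one ⟨7671, 1, 6⟩) (.one ⟨16631, 2, 5⟩)) (.node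 1 (.one ⟨7686, 1, 5⟩) (.one ⟨1295, 2, 5⟩)))) (.node 4 (.node 2 (.node 1 (.one ⟨15619, 3, 5⟩) (.one ⟨11252, 1, 4⟩)) (.node 1 (.one ⟨14730, 0, 5⟩) (.one ⟨4784, 3, 4⟩))) (.node 2 (.node 1 (.one ⟨4389, 1, 4⟩) (.one ⟨7686, 0, 5⟩)) (.node 1 (.one ⟨13396, 1, 5⟩) (.one ⟨15434, 4, 6⟩)))))) (.node 16 (.node 8 (.node 4 (.node 2 (.node 1 (.one ⟨5367, 4, 6⟩) (.one ⟨7247, 0, 5⟩)) (.node 1 (.one ⟨9499, 3, 5⟩) (.one ⟨16135, 4, 5⟩))) (.node 2 (.node 1 (.one ⟨4951, 1, 6⟩) (.one ⟨9323, 4, 6⟩)) (.node 1 (.one ⟨587, 2, 5⟩) (.one ⟨1230, 2, 5⟩)))) (.node 4 (.node 2 (.node 1 (.one ⟨17152, 2, 5⟩) (.one ⟨7783, 2, 6⟩)) (.node 1 (.one ⟨5642, 2, 6⟩) (.one ⟨3940, 3, 5⟩))) (.node 2 (.node 1 (.one ⟨15920, 2, 6⟩) (.one ⟨16996, 4, 5⟩)) (.node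 1 (.one ⟨7218, 4, 6⟩) (.one ⟨4830, 3, 5⟩))))) (.node 8 (.node 4 (.node 2 (.node 1 (.one ⟨3372, 4, 7⟩) (.one ⟨9033, 2, 4⟩)) (.node 1 (.one ⟨15580, 0, 6⟩) (.one ⟨9856, 4, 4⟩))) (.node 2 (.node 1 (.one ⟨15884, 3, 5⟩) (.one ⟨3940, 0, 5⟩)) (.node 1 (.one ⟨2948, 0, 5⟩) (.one ⟨2149, 2, 5⟩)))) (.node 4 (.node 2 (.node 1 (.one ⟨13985, 4, 5⟩) (.one ⟨14047, 2, 4⟩)) (.node 1 (.one ⟨14380, 0, 4⟩) (.one ⟨5337, 0, 6⟩))) (.node 2 (.node 1 (.one ⟨5365, 3, 4⟩) (.one ⟨16157, 4, 5⟩)) (.node 1 (.one ⟨13684, 3, 6⟩) (.one ⟨16481, 2, 5⟩)))))))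
def par1_0_7 : Arr Par :=
  (.node 32 (.node 16 (.node 8 (.node 4 (.node 2 (.node 1 (.one ⟨11230, 0, 4⟩) (.one ⟨6412, 3, 4⟩)) (.node 1 (.one ⟨7600, 1, 4⟩) (.one ⟨5400, 4, 6⟩))) (.node 2 (.node 1 (.one ⟨7699, 0, 6⟩) (.one ⟨1393, 1, 6⟩)) (.node 1 (.one ⟨15433, 4, 5⟩) (.one ⟨574, 4, 6⟩)))) (.node 4 (.node 2 (.node 1 (.one ⟨11773, 2, 6⟩) (.one ⟨11292, 1, 6⟩)) (.node 1 (.one ⟨11285, 2, 6⟩) (.one ⟨13181, 1, 5⟩))) (.node 2 (.node 1 (.one ⟨16913, 0, 6⟩) (.one ⟨15336, 0, 6⟩)) (.node 1 (.one ⟨13305, 2, 6⟩) (.one ⟨15326, 0, 4⟩))))) (.node 8 (.node 4 (.node 2 (.node 1 (.one ⟨11755, 3, 6⟩) (.one ⟨10675, 4, 6⟩)) (.node 1 (.one ⟨9932, 0, 5⟩) (.one ⟨7227, 1, 6⟩))) (.node 2 (.node 1 (.one ⟨8970, 3, 5⟩) (.one ⟨8513, 1, 4⟩))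 (.node 1 (.one ⟨7153, 0, 3⟩) (.one ⟨11134, 4, 5⟩)))) (.node 4 (.node 2 (.node 1 (.one ⟨4604, 0, 7⟩) (.one ⟨12493, 3, 6⟩)) (.node 1 (.one ⟨16259, 3, 5⟩) (.one ⟨3198, 0, 6⟩))) (.node 2 (.node 1 (.one ⟨15588, 1, 5⟩) (.one ⟨4793, 2, 4⟩)) (.node 1 (.one ⟨2478, 2, 5⟩) (.one ⟨11206, 3, 6⟩)))))) (.node 16 (.node 8 (.node 4 (.node 2 (.node 1 (.one ⟨17160, 2, 5⟩) (.one ⟨14182, 3, 5⟩)) (.node 1 (.one ⟨11194, 0, 5⟩) (.one ⟨8765, 1, 5⟩))) (.node 2 (.node 1 (.one ⟨165, 2, 5⟩) (.one ⟨6876, 2, 4⟩)) (.node 1 (.one ⟨13386, 1, 6⟩) (.one ⟨15716, 1, 5⟩)))) (.node 4 (.node 2 (.node 1 (.one ⟨3738, 3, 6⟩) (.one ⟨4272, 3, 6⟩)) (.node 1 (.one ⟨15716, 0, 5⟩) (.one ⟨9276, 2, 5⟩))) (.node 2 (.node 1 (.one ⟨15397, 1, 5⟩) (.one ⟨590, 4,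 6⟩)) (.node 1 (.one ⟨610, 2, 6⟩) (.one ⟨3220, 1, 6⟩))))) (.node 8 (.node 4 (.node 2 (.node 1 (.one ⟨8958, 4, 6⟩) (.one ⟨1153, 2, 5⟩)) (.node 1 (.one ⟨16454, 0, 4⟩) (.one ⟨13003, 4, 6⟩))) (.node 2 (.node 1 (.one ⟨12867, 4, 5⟩) (.one ⟨12374, 0, 6⟩)) (.node 1 (.one ⟨4084, 2, 5⟩) (.one ⟨10223, 4, 5⟩)))) (.node 4 (.node 2 (.node 1 (.one ⟨4226, 0, 3⟩) (.one ⟨16528, 0, 5⟩)) (.node 1 (.one ⟨16561, 2, 5⟩) (.one ⟨8435, 0, 5⟩))) (.node 2 (.node 1 (.one ⟨14047, 0, 4⟩) (.one ⟨8499, 3, 4⟩)) (.node 1 (.one ⟨16615, 1, 5⟩) (.one ⟨5133, 2, 6⟩)))))))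
def par1_0_8 : Arr Par :=
  (.node 32 (.node 16 (.node 8 (.node 4 (.node 2 (.node 1 (.one ⟨12214, 0, 5⟩) (.one ⟨12664, 1, 6⟩)) (.node 1 (.one ⟨16469, 0, 4⟩) (.one ⟨12246, 1, 5⟩))) (.node 2 (.node 1 (.one ⟨12214, 1, 5⟩) (.one ⟨5045, 4, 7⟩)) (.node 1 (.one ⟨5081, 0, 4⟩) (.one ⟨9589, 1, 7⟩)))) (.node 4 (.node 2 (.node 1 (.one ⟨16153, 4, 6⟩) (.one ⟨1400, 0, 5⟩)) (.node 1 (.one ⟨8832, 0, 4⟩) (.one ⟨4935, 0, 6⟩))) (.node 2 (.node 1 (.one ⟨9941, 1, 7⟩) (.one ⟨5684, 3, 5⟩)) (.node 1 (.one ⟨4183, 4, 4⟩) (.one ⟨7315, 0, 5⟩))))) (.node 8 (.node 4 (.node 2 (.node 1 (.one ⟨15206, 3, 5⟩) (.one ⟨3080, 2, 6⟩)) (.node 1 (.one ⟨5413, 1, 5⟩) (.one ⟨6066, 3, 5⟩))) (.node 2 (.node 1 (.one ⟨15336, 1, 6⟩) (.one ⟨7136, 1, 6⟩)) (.node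 1 (.one ⟨1625, 1, 6⟩) (.one ⟨9319, 4, 6⟩)))) (.node 4 (.node 2 (.node 1 (.one ⟨3720, 0, 5⟩) (.one ⟨4395, 1, 6⟩)) (.node 1 (.one ⟨1299, 2, 5⟩) (.one ⟨8614, 1, 6⟩))) (.node 2 (.node 1 (.one ⟨8918, 3, 5⟩) (.one ⟨9527, 0, 4⟩)) (.node 1 (.one ⟨14286, 2, 2⟩) (.one ⟨9132, 2, 4⟩)))))) (.node 16 (.node 8 (.node 4 (.node 2 (.node 1 (.one ⟨16995, 2, 5⟩) (.one ⟨12306, 1, 5⟩)) (.node 1 (.one ⟨16468, 2, 6⟩) (.one ⟨4752, 3, 5⟩))) (.node 2 (.node 1 (.one ⟨12750, 3, 5⟩) (.one ⟨6773, 3, 5⟩)) (.node 1 (.one ⟨5296, 0, 6⟩) (.one ⟨4307, 1, 5⟩)))) (.node 4 (.node 2 (.node 1 (.one ⟨16123, 3, 5⟩) (.one ⟨8724, 2, 4⟩)) (.node 1 (.one ⟨6789, 2, 6⟩) (.one ⟨3675, 1, 6⟩))) (.node 2 (.node 1 (.one ⟨1493, 4, 5⟩) (.one ⟨2308, 0, 5⟩)) (.node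 1 (.one ⟨604, 4, 6⟩) (.one ⟨74, 2, 5⟩))))) (.node 8 (.node 4 (.node 2 (.node 1 (.one ⟨14516, 0, 6⟩) (.one ⟨12424, 0, 6⟩)) (.node 1 (.one ⟨3772, 3, 4⟩) (.one ⟨5367, 1, 6⟩))) (.node 2 (.node 1 (.one ⟨9355, 1, 4⟩) (.one ⟨6981, 2, 5⟩)) (.node 1 (.one ⟨8428, 1, 6⟩) (.one ⟨6482, 0, 4⟩)))) (.node 4 (.node 2 (.node 1 (.one ⟨7247, 1, 5⟩) (.one ⟨15760, 1, 5⟩)) (.node 1 (.one ⟨12375, 1, 6⟩) (.one ⟨8312, 0, 5⟩))) (.node 2 (.node 1 (.one ⟨9301, 3, 4⟩) (.one ⟨4496, 2, 5⟩)) (.node 1 (.one ⟨2543, 1, 5⟩) (.one ⟨5044, 3, 7⟩)))))))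
def par1_0_9 : Arr Par :=
  (.node 32 (.node 16 (.node 8 (.node 4 (.node 2 (.node 1 (.one ⟨16694, 4, 5⟩) (.one ⟨6121, 4, 3⟩)) (.node 1 (.one ⟨80, 0, 5⟩) (.one ⟨15646, 4, 4⟩))) (.node 2 (.node 1 (.one ⟨74, 1, 5⟩) (.one ⟨2606, 2, 5⟩)) (.node 1 (.one ⟨593, 0, 5⟩) (.one ⟨13623, 0, 6⟩)))) (.node 4 (.node 2 (.node 1 (.one ⟨2958, 3, 6⟩) (.one ⟨16691, 4, 5⟩)) (.node 1 (.one ⟨579, 1, 5⟩) (.one ⟨1, 1, 4⟩))) (.node 2 (.node 1 (.one ⟨8329, 4, 4⟩) (.one ⟨13392, 4, 4⟩)) (.node 1 (.one ⟨9349, 3, 5⟩) (.one ⟨14652, 4, 5⟩))))) (.node 8 (.node 4 (.node 2 (.node 1 (.one ⟨578, 1, 6⟩) (.one ⟨1402, 3, 4⟩)) (.node 1 (.one ⟨12693, 4, 3⟩) (.one ⟨37, 1, 4⟩))) (.node 2 (.node 1 (.one ⟨7653, 2, 6⟩) (.one ⟨15593, 0, 6⟩)) (.node 1 (.one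 ⟨6936, 2, 5⟩) (.one ⟨2212, 4, 4⟩)))) (.node 4 (.node 2 (.node 1 (.one ⟨15741, 3, 6⟩) (.one ⟨17048, 4, 3⟩)) (.node 1 (.one ⟨6412, 4, 4⟩) (.one ⟨578, 0, 6⟩))) (.node 2 (.node 1 (.one ⟨1325, 3, 5⟩) (.one ⟨604, 0, 6⟩)) (.node 1 (.one ⟨2601, 2, 7⟩) (.one ⟨7649, 4, 3⟩)))))) (.node 16 (.node 8 (.node 4 (.node 2 (.node 1 (.one ⟨14532, 3, 6⟩) (.one ⟨582, 1, 6⟩)) (.node 1 (.one ⟨11172, 4, 5⟩) (.one ⟨88, 0, 5⟩))) (.node 2 (.node 1 (.one ⟨16499, 4, 5⟩) (.one ⟨1645, 4, 6⟩)) (.node 1 (.one ⟨10197, 4, 6⟩) (.one ⟨8699, 4, 5⟩)))) (.node 4 (.node 2 (.node 1 (.one ⟨4313, 1, 5⟩) (.one ⟨9738, 3, 6⟩)) (.node 1 (.one ⟨1691, 0, 5⟩) (.one ⟨2655, 3, 4⟩))) (.node 2 (.node 1 (.one ⟨14622, 0, 4⟩) (.one ⟨6769, 3, 5⟩)) (.node 1 (.one ⟨14622,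 1, 4⟩) (.one ⟨6768, 3, 6⟩))))) (.node 8 (.node 4 (.node 2 (.node 1 (.one ⟨12071, 0, 4⟩) (.one ⟨15231, 2, 6⟩)) (.node 1 (.one ⟨4183, 0, 4⟩) (.one ⟨13768, 2, 3⟩))) (.node 2 (.node 1 (.one ⟨4055, 4, 6⟩) (.one ⟨16694, 2, 5⟩)) (.node 1 (.one ⟨1395, 0, 6⟩) (.one ⟨14595, 1, 5⟩)))) (.node 4 (.node 2 (.node 1 (.one ⟨10389, 0, 5⟩) (.one ⟨1912, 1, 5⟩)) (.node 1 (.one ⟨9594, 1, 4⟩) (.one ⟨10325, 2, 5⟩))) (.node 2 (.node 1 (.one ⟨11059, 3, 6⟩) (.one ⟨10629, 1, 6⟩)) (.node 1 (.one ⟨12294, 0, 5⟩) (.one ⟨15773, 1, 6⟩)))))))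
def par1_0_10 : Arr Par :=
  (.node 32 (.node 16 (.node 8 (.node 4 (.node 2 (.node 1 (.one ⟨11465, 3, 5⟩) (.one ⟨12815, 3, 6⟩)) (.node 1 (.one ⟨2489, 1, 5⟩) (.one ⟨2902, 3, 5⟩))) (.node 2 (.node 1 (.one ⟨16499, 0, 5⟩) (.one ⟨5499, 4, 5⟩)) (.node 1 (.one ⟨8587, 0, 6⟩) (.one ⟨2550, 3, 4⟩)))) (.node 4 (.node 2 (.node 1 (.one ⟨16568, 0, 6⟩) (.one ⟨9241, 1, 4⟩)) (.node 1 (.one ⟨940, 2, 5⟩) (.one ⟨2539, 2, 3⟩))) (.node 2 (.node 1 (.one ⟨3062, 4, 5⟩) (.one ⟨9242, 1, 5⟩)) (.node 1 (.one ⟨8832, 1, 4⟩) (.one ⟨2400, 4, 6⟩))))) (.node 8 (.node 4 (.node 2 (.node 1 (.one ⟨13148, 1, 6⟩) (.one ⟨11444, 3, 6⟩)) (.node 1 (.one ⟨13115, 0, 6⟩) (.one ⟨13380, 2, 7⟩))) (.node 2 (.node 1 (.one ⟨3469, 3, 6⟩) (.one ⟨15201, 3, 4⟩)) (.node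 1 (.one ⟨6189, 3, 4⟩) (.one ⟨6565, 0, 5⟩)))) (.node 4 (.node 2 (.node 1 (.one ⟨10206, 3, 4⟩) (.one ⟨16113, 4, 5⟩)) (.node 1 (.one ⟨5279, 2, 4⟩) (.one ⟨16469, 2, 4⟩))) (.node 2 (.node 1 (.one ⟨6035, 0, 6⟩) (.one ⟨14124, 2, 4⟩)) (.node 1 (.one ⟨16048, 3, 5⟩) (.one ⟨5081, 1, 4⟩)))))) (.node 16 (.node 8 (.node 4 (.node 2 (.node 1 (.one ⟨1805, 3, 4⟩) (.one ⟨16481, 1, 5⟩)) (.node 1 (.one ⟨11380, 3, 5⟩) (.one ⟨4292, 4, 5⟩))) (.node 2 (.node 1 (.one ⟨12235, 1, 6⟩) (.one ⟨14317, 0, 5⟩)) (.node 1 (.one ⟨14123, 0, 4⟩) (.one ⟨9716, 0, 4⟩)))) (.node 4 (.node 2 (.node 1 (.one ⟨3643, 3, 4⟩) (.one ⟨11035, 1, 5⟩)) (.node 1 (.one ⟨5235, 3, 6⟩) (.one ⟨4790, 3, 6⟩))) (.node 2 (.node 1 (.one ⟨5937, 1, 5⟩) (.one ⟨6516, 1, 6⟩)) (.node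 1 (.one ⟨3506, 2, 6⟩) (.one ⟨16205, 3, 4⟩))))) (.node 8 (.node 4 (.node 2 (.node 1 (.one ⟨6195, 1, 6⟩) (.one ⟨16888, 1, 6⟩)) (.node 1 (.one ⟨1170, 3, 5⟩) (.one ⟨12210, 3, 6⟩))) (.node 2 (.node 1 (.one ⟨16888, 0, 6⟩) (.one ⟨2629, 2, 6⟩)) (.node 1 (.one ⟨9188, 3, 5⟩) (.one ⟨3177, 0, 6⟩)))) (.node 4 (.node 2 (.node 1 (.one ⟨15305, 0, 5⟩) (.one ⟨8473, 4, 5⟩)) (.node 1 (.one ⟨5367, 0, 6⟩) (.one ⟨1517, 3, 7⟩))) (.node 2 (.node 1 (.one ⟨16526, 4, 5⟩) (.one ⟨4599, 2, 6⟩)) (.node 1 (.one ⟨13039, 3, 6⟩) (.one ⟨8445, 1, 6⟩)))))))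
def par1_0_11 : Arr Par :=
  (.node 32 (.node 16 (.node 8 (.node 4 (.node 2 (.node 1 (.one ⟨15305, 3, 5⟩) (.one ⟨15199, 3, 4⟩)) (.node 1 (.one ⟨15933, 2, 6⟩) (.one ⟨11444, 2, 6⟩))) (.node 2 (.node 1 (.one ⟨2575, 4, 5⟩) (.one ⟨4389, 0, 4⟩)) (.node 1 (.one ⟨9231, 0, 6⟩) (.one ⟨3628, 4, 5⟩)))) (.node 4 (.node 2 (.node 1 (.one ⟨4814, 2, 7⟩) (.one ⟨11482, 2, 5⟩)) (.node 1 (.one ⟨3797, 4, 4⟩) (.one ⟨13675, 4, 6⟩))) (.node 2 (.node 1 (.one ⟨2582, 0, 5⟩) (.one ⟨1831, 4, 6⟩)) (.node 1 (.one ⟨14875, 2, 5⟩) (.one ⟨6477, 4, 5⟩))))) (.node 8 (.node 4 (.node 2 (.node 1 (.one ⟨16176, 3, 6⟩) (.one ⟨4239, 0, 6⟩)) (.node 1 (.one ⟨4077, 3, 6⟩) (.one ⟨7540, 2, 6⟩))) (.node 2 (.node 1 (.one ⟨2189, 2, 5⟩) (.one ⟨16562, 1, 6⟩)) (.node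 1 (.one ⟨6474, 3, 6⟩) (.one ⟨11293, 3, 6⟩)))) (.node 4 (.node 2 (.node 1 (.one ⟨15773, 0, 6⟩) (.one ⟨9349, 1, 5⟩)) (.node 1 (.one ⟨9349, 0, 5⟩) (.one ⟨15381, 0, 5⟩))) (.node 2 (.node 1 (.one ⟨2357, 3, 5⟩) (.one ⟨8608, 3, 5⟩)) (.node 1 (.one ⟨7744, 2, 6⟩) (.one ⟨10936, 1, 5⟩)))))) (.node 16 (.node 8 (.node 4 (.node 2 (.node 1 (.one ⟨12246, 0, 5⟩) (.one ⟨9384, 3, 5⟩)) (.node 1 (.one ⟨4063, 3, 6⟩) (.one ⟨15260, 1, 5⟩))) (.node 2 (.node 1 (.one ⟨10614, 1, 6⟩) (.one ⟨16843, 4, 6⟩)) (.node 1 (.one ⟨2296, 1, 4⟩) (.one ⟨15595, 4, 3⟩)))) (.node 4 (.node 2 (.node 1 (.one ⟨4750, 2, 5⟩) (.one ⟨6658, 1, 5⟩)) (.node 1 (.one ⟨8619, 0, 6⟩) (.one ⟨2306, 2, 6⟩))) (.node 2 (.node 1 (.one ⟨11918, 4, 5⟩) (.one ⟨5954, 0, 6⟩)) (.node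 1 (.one ⟨4841, 3, 6⟩) (.one ⟨13386, 0, 6⟩))))) (.node 8 (.node 4 (.node 2 (.node 1 (.one ⟨12458, 2, 6⟩) (.one ⟨2893, 3, 6⟩)) (.node 1 (.one ⟨8442, 4, 6⟩) (.one ⟨14156, 2, 5⟩))) (.node 2 (.node 1 (.one ⟨2588, 3, 7⟩) (.one ⟨16967, 2, 5⟩)) (.node 1 (.one ⟨9790, 4, 5⟩) (.one ⟨13094, 0, 6⟩)))) (.node 4 (.node 2 (.node 1 (.one ⟨7649, 3, 3⟩) (.one ⟨13686, 0, 6⟩)) (.node 1 (.one ⟨16897, 3, 6⟩) (.one ⟨9062, 3, 5⟩))) (.node 2 (.node 1 (.one ⟨15250, 1, 3⟩) (.one ⟨10974, 0, 4⟩)) (.node 1 (.one ⟨1402, 1, 4⟩) (.one ⟨3099, 4, 7⟩)))))))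
def par1_0_12 : Arr Par :=
  (.node 32 (.node 16 (.node 8 (.node 4 (.node 2 (.node 1 (.one ⟨2835, 4, 5⟩) (.one ⟨5068, 0, 5⟩)) (.node 1 (.one ⟨8724, 4, 4⟩) (.one ⟨8583, 2, 6⟩))) (.node 2 (.node 1 (.one ⟨6821, 3, 4⟩) (.one ⟨3837, 3, 5⟩)) (.node 1 (.one ⟨12190, 4, 5⟩) (.one ⟨9132, 0, 4⟩)))) (.node 4 (.node 2 (.node 1 (.one ⟨5051, 3, 5⟩) (.one ⟨1313, 0, 5⟩)) (.node 1 (.one ⟨6671, 1, 5⟩) (.one ⟨9076, 4, 4⟩))) (.node 2 (.node 1 (.one ⟨6747, 2, 7⟩) (.one ⟨8765, 0, 5⟩)) (.node 1 (.one ⟨14530, 4, 7⟩) (.one ⟨8587, 1, 6⟩))))) (.node 8 (.node 4 (.node 2 (.node 1 (.one ⟨4226, 1, 3⟩) (.one ⟨1646, 4, 5⟩)) (.node 1 (.one ⟨14570, 3, 5⟩) (.one ⟨7540, 1, 6⟩))) (.node 2 (.node 1 (.one ⟨15547, 4, 5⟩) (.one ⟨13107, 1, 5⟩)) (.node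 1 (.one ⟨15247, 3, 6⟩) (.one ⟨6674, 4, 6⟩)))) (.node 4 (.node 2 (.node 1 (.one ⟨15787, 0, 6⟩) (.one ⟨11678, 2, 4⟩)) (.node 1 (.one ⟨4997, 1, 5⟩) (.one ⟨9585, 1, 6⟩))) (.node 2 (.node 1 (.one ⟨16521, 0, 5⟩) (.one ⟨16310, 4, 3⟩)) (.node 1 (.one ⟨4428, 4, 5⟩) (.one ⟨13004, 3, 6⟩)))))) (.node 16 (.node 8 (.node 4 (.node 2 (.node 1 (.one ⟨11915, 3, 5⟩) (.one ⟨11467, 3, 5⟩)) (.node 1 (.one ⟨5053, 0, 3⟩) (.one ⟨1989, 2, 6⟩))) (.node 2 (.node 1 (.one ⟨1108, 1, 6⟩) (.one ⟨15123, 2, 6⟩)) (.node 1 (.one ⟨9908, 2, 5⟩) (.one ⟨4169, 2, 5⟩)))) (.node 4 (.node 2 (.node 1 (.one ⟨15182, 1, 6⟩) (.one ⟨7694, 1, 3⟩)) (.node 1 (.one ⟨4741, 2, 5⟩) (.one ⟨13126, 0, 6⟩))) (.node 2 (.node 1 (.one ⟨15021, 2, 5⟩) (.one ⟨2292, 0, 6⟩))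 (.node 1 (.one ⟨12502, 2, 5⟩) (.one ⟨13712, 1, 6⟩))))) (.node 8 (.node 4 (.node 2 (.node 1 (.one ⟨6515, 2, 6⟩) (.one ⟨10051, 4, 6⟩)) (.node 1 (.one ⟨10649, 2, 5⟩) (.one ⟨15624, 1, 6⟩))) (.node 2 (.node 1 (.one ⟨4571, 0, 5⟩) (.one ⟨8798, 1, 4⟩)) (.node 1 (.one ⟨1625, 2, 6⟩) (.one ⟨1313, 1, 5⟩)))) (.node 4 (.node 2 (.node 1 (.one ⟨809, 2, 4⟩) (.one ⟨4561, 1, 6⟩)) (.node 1 (.one ⟨5657, 0, 6⟩) (.one ⟨14123, 2, 4⟩))) (.node 2 (.node 1 (.one ⟨14283, 3, 4⟩) (.one ⟨8489, 3, 5⟩)) (.node 1 (.one ⟨7611, 1, 6⟩) (.one ⟨11017, 3, 6⟩)))))))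
def par1_0_13 : Arr Par :=
  (.node 32 (.node 16 (.node 8 (.node 4 (.node 2 (.node 1 (.one ⟨9932, 3, 5⟩) (.one ⟨6781, 3, 6⟩)) (.node 1 (.one ⟨15649, 0, 4⟩) (.one ⟨7632, 3, 4⟩))) (.node 2 (.node 1 (.one ⟨6561, 4, 6⟩) (.one ⟨5159, 1, 5⟩)) (.node 1 (.one ⟨2368, 3, 4⟩) (.one ⟨12262, 3, 5⟩)))) (.node 4 (.node 2 (.node 1 (.one ⟨6276, 2, 5⟩) (.one ⟨16405, 3, 5⟩)) (.node 1 (.one ⟨1710, 2, 7⟩) (.one ⟨12185, 4, 5⟩))) (.node 2 (.node 1 (.one ⟨10629, 0, 6⟩) (.one ⟨10421, 3, 4⟩)) (.node 1 (.one ⟨6867, 2, 6⟩) (.one ⟨5141, 2, 4⟩))))) (.node 8 (.node 4 (.node 2 (.node 1 (.one ⟨10589, 0, 4⟩) (.one ⟨1691, 1, 5⟩)) (.node 1 (.one ⟨9976, 1, 6⟩) (.one ⟨11825, 2, 5⟩))) (.node 2 (.node 1 (.one ⟨10054, 4, 6⟩) (.one ⟨14357, 0, 4⟩))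 (.node 1 (.one ⟨9526, 1, 7⟩) (.one ⟨11300, 2, 4⟩)))) (.node 4 (.node 2 (.node 1 (.one ⟨9519, 1, 6⟩) (.one ⟨14025, 0, 6⟩)) (.node 1 (.one ⟨1028, 3, 5⟩) (.one ⟨15606, 3, 6⟩))) (.node 2 (.node 1 (.one ⟨5053, 1, 3⟩) (.one ⟨1116, 1, 6⟩)) (.node 1 (.one ⟨8497, 3, 4⟩) (.one ⟨13107, 2, 5⟩)))))) (.node 16 (.node 8 (.node 4 (.node 2 (.node 1 (.one ⟨5499, 2, 5⟩) (.one ⟨10180, 2, 6⟩)) (.node 1 (.one ⟨10803, 4, 6⟩) (.one ⟨6472, 4, 6⟩))) (.node 2 (.node 1 (.one ⟨16199, 3, 5⟩) (.one ⟨2279, 1, 6⟩)) (.node 1 (.one ⟨7051, 2, 5⟩) (.one ⟨15444, 3, 6⟩)))) (.node 4 (.node 2 (.node 1 (.one ⟨7720, 1, 6⟩) (.one ⟨14083, 4, 5⟩)) (.node 1 (.one ⟨3833, 3, 6⟩) (.one ⟨6535, 1, 6⟩))) (.node 2 (.node 1 (.one ⟨4029, 3, 5⟩) (.one ⟨4395, 0, 6⟩))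 (.node 1 (.one ⟨9597, 1, 5⟩) (.one ⟨7699, 1, 6⟩))))) (.node 8 (.node 4 (.node 2 (.node 1 (.one ⟨14595, 0, 5⟩) (.one ⟨2877, 2, 6⟩)) (.node 1 (.one ⟨5762, 3, 5⟩) (.one ⟨14652, 2, 5⟩))) (.node 2 (.node 1 (.one ⟨9018, 1, 5⟩) (.one ⟨9241, 0, 4⟩)) (.node 1 (.one ⟨14357, 1, 4⟩) (.one ⟨13161, 3, 5⟩)))) (.node 4 (.node 2 (.node 1 (.one ⟨7241, 3, 6⟩) (.one ⟨14164, 3, 4⟩)) (.node 1 (.one ⟨13148, 0, 6⟩) (.one ⟨4803, 3, 5⟩))) (.node 2 (.node 1 (.one ⟨2508, 0, 6⟩) (.one ⟨9625, 3, 5⟩)) (.node 1 (.one ⟨6009, 1, 6⟩) (.one ⟨8498, 3, 5⟩)))))))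
def par1_0_14 : Arr Par :=
  (.node 32 (.node 16 (.node 8 (.node 4 (.node 2 (.node 1 (.one ⟨6315, 1, 5⟩) (.one ⟨11061, 4, 5⟩)) (.node 1 (.one ⟨6489, 0, 4⟩) (.one ⟨14963, 2, 5⟩))) (.node 2 (.node 1 (.one ⟨3864, 3, 5⟩) (.one ⟨10792, 2, 6⟩)) (.node 1 (.one ⟨4564, 3, 5⟩) (.one ⟨12321, 1, 5⟩)))) (.node 4 (.node 2 (.node 1 (.one ⟨7671, 0, 6⟩) (.one ⟨8207, 2, 2⟩)) (.node 1 (.one ⟨14715, 0, 5⟩) (.one ⟨6123, 2, 5⟩))) (.node 2 (.node 1 (.one ⟨13638, 0, 6⟩) (.one ⟨1864, 3, 5⟩)) (.node 1 (.one ⟨17182, 2, 6⟩) (.one ⟨6573, 0, 7⟩))))) (.node 8 (.node 4 (.node 2 (.node 1 (.one ⟨7494, 1, 5⟩) (.one ⟨6024, 1, 4⟩)) (.node 1 (.one ⟨10027, 0, 5⟩) (.one ⟨10647, 1, 6⟩))) (.node 2 (.node 1 (.one ⟨6068, 3, 4⟩) (.one ⟨7188, 2, 6⟩)) (.node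 1 (.one ⟨4311, 3, 5⟩) (.one ⟨5055, 1, 6⟩)))) (.node 4 (.node 2 (.node 1 (.one ⟨14499, 2, 7⟩) (.one ⟨12615, 1, 6⟩)) (.node 1 (.one ⟨8187, 3, 5⟩) (.one ⟨14589, 2, 7⟩))) (.node 2 (.node 1 (.one ⟨1664, 0, 5⟩) (.one ⟨10631, 1, 6⟩)) (.node 1 (.one ⟨14558, 3, 6⟩) (.one ⟨11560, 2, 4⟩)))))) (.node 16 (.node 8 (.node 4 (.node 2 (.node 1 (.one ⟨10239, 3, 7⟩) (.one ⟨4050, 4, 7⟩)) (.node 1 (.one ⟨5629, 4, 5⟩) (.one ⟨6236, 1, 5⟩))) (.node 2 (.node 1 (.one ⟨764, 2, 4⟩) (.one ⟨6121, 3, 3⟩)) (.node 1 (.one ⟨8283, 0, 5⟩) (.one ⟨7543, 1, 5⟩)))) (.node 4 (.node 2 (.node 1 (.one ⟨2361, 2, 3⟩) (.one ⟨785, 3, 6⟩)) (.node 1 (.one ⟨10974, 2, 4⟩) (.one ⟨14365, 1, 7⟩))) (.node 2 (.node 1 (.one ⟨9716, 1, 4⟩) (.one ⟨3054, 3, 6⟩)) (.node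 1 (.one ⟨12045, 3, 5⟩) (.one ⟨14759, 4, 6⟩))))) (.node 8 (.node 4 (.node 2 (.node 1 (.one ⟨3094, 3, 5⟩) (.one ⟨12321, 0, 5⟩)) (.node 1 (.one ⟨15181, 2, 5⟩) (.one ⟨7153, 1, 3⟩))) (.node 2 (.node 1 (.one ⟨2500, 3, 6⟩) (.one ⟨14922, 3, 6⟩)) (.node 1 (.one ⟨5606, 3, 6⟩) (.one ⟨6651, 0, 6⟩)))) (.node 4 (.node 2 (.node 1 (.one ⟨16458, 0, 5⟩) (.one ⟨2473, 2, 5⟩)) (.node 1 (.one ⟨4973, 1, 7⟩) (.one ⟨3236, 0, 5⟩))) (.node 2 (.node 1 (.one ⟨3346, 3, 6⟩) (.one ⟨4360, 2, 6⟩)) (.node 1 (.one ⟨17113, 2, 4⟩) (.one ⟨9533, 0, 4⟩)))))))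
def par1_0_15 : Arr Par :=
  (.node 32 (.node 16 (.node 8 (.node 4 (.node 2 (.node 1 (.one ⟨8445, 0, 6⟩) (.one ⟨1397, 1, 7⟩)) (.node 1 (.one ⟨1566, 3, 5⟩) (.one ⟨9594, 0, 4⟩))) (.node 2 (.node 1 (.one ⟨1875, 0, 5⟩) (.one ⟨15540, 0, 6⟩)) (.node 1 (.one ⟨14124, 4, 4⟩) (.one ⟨7308, 0, 6⟩)))) (.node 4 (.node 2 (.node 1 (.one ⟨15250, 0, 3⟩) (.one ⟨11160, 2, 6⟩)) (.node 1 (.one ⟨13038, 1, 6⟩) (.one ⟨13118, 3, 6⟩))) (.node 2 (.node 1 (.one ⟨16563, 2, 6⟩) (.one ⟨4934, 0, 6⟩)) (.node 1 (.one ⟨860, 2, 4⟩) (.one ⟨8248, 0, 5⟩))))) (.node 8 (.node 4 (.node 2 (.node 1 (.one ⟨9704, 0, 6⟩) (.one ⟨16528, 2, 5⟩)) (.node 1 (.one ⟨16737, 2, 6⟩) (.one ⟨5309, 1, 5⟩))) (.node 2 (.node 1 (.one ⟨12998, 1, 5⟩) (.one ⟨15935, 3, 5⟩))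 (.node 1 (.one ⟨14880, 2, 4⟩) (.one ⟨7881, 2, 5⟩)))) (.node 4 (.node 2 (.node 1 (.one ⟨10042, 3, 6⟩) (.one ⟨4522, 2, 5⟩)) (.node 1 (.one ⟨6475, 4, 6⟩) (.one ⟨2349, 2, 6⟩))) (.node 2 (.node 1 (.one ⟨14270, 0, 5⟩) (.one ⟨1722, 3, 6⟩)) (.node 1 (.one ⟨16548, 0, 6⟩) (.one ⟨7694, 0, 3⟩)))))) (.node 16 (.node 8 (.node 4 (.node 2 (.node 1 (.one ⟨12259, 3, 4⟩) (.one ⟨10587, 4, 4⟩)) (.node 1 (.one ⟨8406, 0, 5⟩) (.one ⟨8197, 4, 6⟩))) (.node 2 (.node 1 (.one ⟨1646, 0, 5⟩) (.one ⟨12297, 3, 5⟩)) (.node 1 (.one ⟨14818, 3, 6⟩) (.one ⟨6482, 1, 4⟩)))) (.node 4 (.node 2 (.node 1 (.one ⟨3905, 0, 6⟩) (.one ⟨12626, 3, 4⟩)) (.node 1 (.one ⟨2879, 3, 6⟩) (.one ⟨2912, 4, 6⟩))) (.node 2 (.node 1 (.one ⟨11631, 2, 6⟩) (.one ⟨1315, 1,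 5⟩)) (.node 1 (.one ⟨2582, 2, 5⟩) (.one ⟨9354, 1, 6⟩))))) (.node 8 (.node 4 (.node 2 (.node 1 (.one ⟨2896, 3, 5⟩) (.one ⟨5141, 0, 4⟩)) (.node 1 (.one ⟨6195, 4, 6⟩) (.one ⟨526, 3, 5⟩))) (.node 2 (.node 1 (.one ⟨12976, 1, 6⟩) (.one ⟨13091, 2, 6⟩)) (.node 1 (.one ⟨8554, 1, 6⟩) (.one ⟨1204, 3, 4⟩)))) (.node 4 (.node 2 (.node 1 (.one ⟨16469, 1, 4⟩) (.one ⟨5101, 1, 5⟩)) (.node 1 (.one ⟨13083, 1, 4⟩) (.one ⟨9132, 1, 4⟩))) (.node 2 (.node 1 (.one ⟨9588, 1, 5⟩) (.one ⟨10589, 2, 4⟩)) (.node 1 (.one ⟨15575, 3, 6⟩) (.one ⟨12356, 1, 5⟩)))))))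
def par1_0 : Arr Par :=
  (.node 512 (.node 256 (.node 128 (.node 64 par1_0_0 par1_0_1) (.node 64 par1_0_2 par1_0_3)) (.node 128 (.node 64 par1_0_4 par1_0_5) (.node 64 par1_0_6 par1_0_7))) (.node 256 (.node 128 (.node 64 par1_0_8 par1_0_9) (.node 64 par1_0_10 par1_0_11)) (.node 128 (.node 64 par1_0_12 par1_0_13) (.node 64 par1_0_14 par1_0_15))))
def par1_1_0 : Arr Par :=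
  (.node 32 (.node 16 (.node 8 (.node 4 (.node 2 (.node 1 (.one ⟨15425, 4, 5⟩) (.one ⟨14380, 2, 4⟩)) (.node 1 (.one ⟨16185, 3, 4⟩) (.one ⟨11915, 4, 5⟩))) (.node 2 (.node 1 (.one ⟨15620, 4, 4⟩) (.one ⟨16606, 1, 6⟩)) (.node 1 (.one ⟨16528, 1, 5⟩) (.one ⟨7712, 0, 7⟩)))) (.node 4 (.node 2 (.node 1 (.one ⟨9062, 4, 5⟩) (.one ⟨11697, 4, 5⟩)) (.node 1 (.one ⟨15749, 1, 5⟩) (.one ⟨1110, 1, 6⟩))) (.node 2 (.node 1 (.one ⟨4088, 3, 3⟩) (.one ⟨12867, 2, 5⟩)) (.node 1 (.one ⟨5133, 1, 6⟩) (.one ⟨13162, 3, 5⟩))))) (.node 8 (.node 4 (.node 2 (.node 1 (.one ⟨47, 2, 7⟩) (.one ⟨10818, 3, 5⟩)) (.node 1 (.one ⟨9119, 0, 5⟩) (.one ⟨9119, 1, 5⟩))) (.node 2 (.node 1 (.one ⟨9691, 1, 6⟩) (.one ⟨3393, 2, 4⟩)) (.node 1 (.one ⟨13425, 1, 6⟩)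 (.one ⟨10449, 4, 6⟩)))) (.node 4 (.node 2 (.node 1 (.one ⟨4636, 0, 4⟩) (.one ⟨16956, 3, 5⟩)) (.node 1 (.one ⟨11729, 1, 6⟩) (.one ⟨12818, 2, 5⟩))) (.node 2 (.node 1 (.one ⟨15152, 3, 6⟩) (.one ⟨12348, 1, 6⟩)) (.node 1 (.one ⟨5505, 3, 6⟩) (.one ⟨7492, 3, 7⟩)))))) (.node 16 (.node 8 (.node 4 (.node 2 (.node 1 (.one ⟨13181, 0, 5⟩) (.one ⟨17194, 1, 6⟩)) (.node 1 (.one ⟨8428, 0, 6⟩) (.one ⟨273, 3, 5⟩))) (.node 2 (.node 1 (.one ⟨8870, 4, 6⟩) (.one ⟨2296, 0, 4⟩)) (.node 1 (.one ⟨9351, 0, 5⟩) (.one ⟨4997, 0, 5⟩)))) (.node 4 (.node 2 (.node 1 (.one ⟨13404, 0, 6⟩) (.one ⟨9355, 0, 4⟩)) (.node 1 (.one ⟨2374, 2, 3⟩) (.one ⟨3675, 0, 6⟩))) (.node 2 (.node 1 (.one ⟨2247, 3, 5⟩) (.one ⟨14516, 1, 6⟩)) (.node 1 (.one ⟨12348, 0,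 6⟩) (.one ⟨1296, 1, 5⟩))))) (.node 8 (.node 4 (.node 2 (.node 1 (.one ⟨12047, 4, 2⟩) (.one ⟨6263, 2, 7⟩)) (.node 1 (.one ⟨12045, 2, 5⟩) (.one ⟨1295, 1, 5⟩))) (.node 2 (.node 1 (.one ⟨1796, 2, 2⟩) (.one ⟨1302, 1, 5⟩)) (.node 1 (.one ⟨1297, 1, 6⟩) (.one ⟨7743, 3, 5⟩)))) (.node 4 (.node 2 (.node 1 (.one ⟨1536, 0, 6⟩) (.one ⟨7722, 3, 3⟩)) (.node 1 (.one ⟨9821, 4, 6⟩) (.one ⟨15739, 2, 6⟩))) (.node 2 (.node 1 (.one ⟨1539, 0, 5⟩) (.one ⟨1548, 0, 5⟩)) (.node 1 (.one ⟨1547, 0, 6⟩) (.one ⟨10715, 2, 3⟩)))))))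
def par1_1_1 : Arr Par :=
  (.node 32 (.node 16 (.node 8 (.node 4 (.node 2 (.node 1 (.one ⟨6016, 0, 2⟩) (.one ⟨4464, 4, 5⟩)) (.node 1 (.one ⟨11225, 2, 6⟩) (.one ⟨5257, 2, 5⟩))) (.node 2 (.node 1 (.one ⟨16162, 4, 5⟩) (.one ⟨14050, 1, 5⟩)) (.node 1 (.one ⟨6016, 1, 2⟩) (.one ⟨15302, 4, 5⟩)))) (.node 4 (.node 2 (.node 1 (.one ⟨14018, 1, 4⟩) (.one ⟨14018, 0, 4⟩)) (.node 1 (.one ⟨14070, 0, 6⟩) (.one ⟨6051, 0, 5⟩))) (.node 2 (.node 1 (.one ⟨14003, 1, 6⟩) (.one ⟨14070, 1, 6⟩)) (.node 1 (.one ⟨5987, 1, 5⟩) (.one ⟨1488, 0, 6⟩))))) (.node 8 (.node 4 (.node 2 (.node 1 (.one ⟨7718, 3, 4⟩) (.one ⟨16260, 4, 4⟩)) (.node 1 (.one ⟨11905, 3, 5⟩) (.one ⟨1487, 0, 5⟩))) (.node 2 (.node 1 (.one ⟨254, 3, 5⟩) (.one ⟨9108, 4, 5⟩)) (.node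 1 (.one ⟨15522, 2, 5⟩) (.one ⟨1499, 0, 6⟩)))) (.node 4 (.node 2 (.node 1 (.one ⟨8459, 2, 6⟩) (.one ⟨12110, 4, 4⟩)) (.node 1 (.one ⟨1493, 0, 5⟩) (.one ⟨14422, 3, 5⟩))) (.node 2 (.node 1 (.one ⟨14632, 4, 5⟩) (.one ⟨5412, 4, 6⟩)) (.node 1 (.one ⟨3049, 4, 6⟩) (.one ⟨3217, 2, 6⟩)))))) (.node 16 (.node 8 (.node 4 (.node 2 (.node 1 (.one ⟨564, 4, 5⟩) (.one ⟨15692, 3, 4⟩)) (.node 1 (.one ⟨959, 0, 5⟩) (.one ⟨248, 4, 5⟩))) (.node 2 (.node 1 (.one ⟨541, 0, 5⟩) (.one ⟨958, 0, 5⟩)) (.node 1 (.one ⟨9369, 1, 6⟩) (.one ⟨933, 4, 4⟩)))) (.node 4 (.node 2 (.node 1 (.one ⟨12613, 2, 5⟩) (.one ⟨12943, 2, 6⟩)) (.node 1 (.one ⟨11027, 3, 5⟩) (.one ⟨643, 0, 6⟩))) (.node 2 (.node 1 (.one ⟨653, 0, 6⟩) (.one ⟨6763, 2, 6⟩)) (.node 1 (.one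 ⟨9364, 1, 6⟩) (.one ⟨13677, 3, 6⟩))))) (.node 8 (.node 4 (.node 2 (.node 1 (.one ⟨9410, 0, 5⟩) (.one ⟨14932, 3, 5⟩)) (.node 1 (.one ⟨1276, 1, 3⟩) (.one ⟨9496, 2, 4⟩))) (.node 2 (.node 1 (.one ⟨10602, 4, 5⟩) (.one ⟨9419, 0, 4⟩)) (.node 1 (.one ⟨9421, 0, 5⟩) (.one ⟨9418, 0, 4⟩)))) (.node 4 (.node 2 (.node 1 (.one ⟨11460, 2, 6⟩) (.one ⟨7025, 3, 4⟩)) (.node 1 (.one ⟨9415, 0, 6⟩) (.one ⟨6542, 3, 3⟩))) (.node 2 (.node 1 (.one ⟨8569, 2, 4⟩) (.one ⟨12936, 4, 5⟩)) (.node 1 (.one ⟨7758, 2, 5⟩) (.one ⟨7795, 4, 6⟩)))))))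
def par1_1_2 : Arr Par :=
  (.node 32 (.node 16 (.node 8 (.node 4 (.node 2 (.node 1 (.one ⟨10176, 3, 4⟩) (.one ⟨1419, 3, 4⟩)) (.node 1 (.one ⟨8651, 3, 4⟩) (.one ⟨2833, 2, 5⟩))) (.node 2 (.node 1 (.one ⟨16521, 3, 5⟩) (.one ⟨9657, 0, 5⟩)) (.node 1 (.one ⟨9654, 1, 5⟩) (.one ⟨7613, 2, 6⟩)))) (.node 4 (.node 2 (.node 1 (.one ⟨1077, 2, 6⟩) (.one ⟨1583, 1, 5⟩)) (.node 1 (.one ⟨10036, 3, 6⟩) (.one ⟨9761, 1, 5⟩))) (.node 2 (.node 1 (.one ⟨9710, 0, 6⟩) (.one ⟨1462, 4, 5⟩)) (.node 1 (.one ⟨1661, 0, 5⟩) (.one ⟨9626, 0, 4⟩))))) (.node 8 (.node 4 (.node 2 (.node 1 (.one ⟨9625, 0, 5⟩) (.one ⟨2496, 4, 5⟩)) (.node 1 (.one ⟨9623, 0, 4⟩) (.one ⟨16348, 2, 6⟩))) (.node 2 (.node 1 (.one ⟨1367, 2, 4⟩) (.one ⟨16950, 2, 5⟩)) (.node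 1 (.one ⟨4954, 4, 4⟩) (.one ⟨9618, 0, 6⟩)))) (.node 4 (.node 2 (.node 1 (.one ⟨1357, 1, 5⟩) (.one ⟨1974, 3, 4⟩)) (.node 1 (.one ⟨4327, 2, 6⟩) (.one ⟨16682, 2, 4⟩))) (.node 2 (.node 1 (.one ⟨12545, 3, 3⟩) (.one ⟨2105, 4, 5⟩)) (.node 1 (.one ⟨9621, 0, 6⟩) (.one ⟨839, 1, 6⟩)))))) (.node 16 (.node 8 (.node 4 (.node 2 (.node 1 (.one ⟨9101, 3, 6⟩) (.one ⟨5306, 2, 4⟩)) (.node 1 (.one ⟨963, 1, 5⟩) (.one ⟨304, 1, 6⟩))) (.node 2 (.node 1 (.one ⟨835, 1, 5⟩) (.one ⟨5305, 2, 5⟩)) (.node 1 (.one ⟨3064, 3, 6⟩) (.one ⟨916, 1, 5⟩)))) (.node 4 (.node 2 (.node 1 (.one ⟨397, 1, 7⟩) (.one ⟨766, 1, 5⟩)) (.node 1 (.one ⟨3795, 2, 5⟩) (.one ⟨3381, 3, 6⟩))) (.node 2 (.node 1 (.one ⟨16195, 3, 6⟩) (.one ⟨12296, 4, 5⟩)) (.node 1 (.one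 ⟨8435, 4, 5⟩) (.one ⟨6255, 2, 2⟩))))) (.node 8 (.node 4 (.node 2 (.node 1 (.one ⟨5942, 4, 6⟩) (.one ⟨6527, 2, 6⟩)) (.node 1 (.one ⟨10945, 3, 7⟩) (.one ⟨5991, 2, 5⟩))) (.node 2 (.node 1 (.one ⟨1556, 0, 3⟩) (.one ⟨5591, 2, 5⟩)) (.node 1 (.one ⟨15693, 4, 6⟩) (.one ⟨10174, 4, 6⟩)))) (.node 4 (.node 2 (.node 1 (.one ⟨10487, 4, 6⟩) (.one ⟨14391, 2, 5⟩)) (.node 1 (.one ⟨1367, 1, 4⟩) (.one ⟨5536, 3, 5⟩))) (.node 2 (.node 1 (.one ⟨12143, 3, 6⟩) (.one ⟨1561, 0, 5⟩)) (.node 1 (.one ⟨6235, 3, 2⟩) (.one ⟨5739, 2, 6⟩)))))))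
def par1_1_3 : Arr Par :=
  (.node 32 (.node 16 (.node 8 (.node 4 (.node 2 (.node 1 (.one ⟨16299, 3, 6⟩) (.one ⟨9420, 1, 5⟩)) (.node 1 (.one ⟨9421, 1, 5⟩) (.one ⟨13153, 2, 5⟩))) (.node 2 (.node 1 (.one ⟨14209, 3, 6⟩) (.one ⟨9419, 1, 4⟩)) (.node 1 (.one ⟨9422, 1, 5⟩) (.one ⟨9412, 1, 6⟩)))) (.node 4 (.node 2 (.node 1 (.one ⟨4042, 4, 5⟩) (.one ⟨8622, 2, 5⟩)) (.node 1 (.one ⟨9552, 0, 5⟩) (.one ⟨11285, 3, 6⟩))) (.node 2 (.node 1 (.one ⟨6861, 3, 6⟩) (.one ⟨9551, 0, 5⟩)) (.node 1 (.one ⟨9418, 1, 4⟩) (.one ⟨9206, 1, 6⟩))))) (.node 8 (.node 4 (.node 2 (.node 1 (.one ⟨14710, 2, 2⟩) (.one ⟨9214, 0, 5⟩)) (.node 1 (.one ⟨9209, 0, 6⟩) (.one ⟨7831, 3, 6⟩))) (.node 2 (.node 1 (.one ⟨9206, 0, 6⟩) (.one ⟨5228, 2, 5⟩)) (.node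 1 (.one ⟨9214, 1, 5⟩) (.one ⟨1958, 2, 5⟩)))) (.node 4 (.node 2 (.node 1 (.one ⟨9203, 1, 6⟩) (.one ⟨12983, 3, 5⟩)) (.node 1 (.one ⟨9207, 0, 6⟩) (.one ⟨14998, 2, 7⟩))) (.node 2 (.node 1 (.one ⟨11433, 3, 3⟩) (.one ⟨9208, 0, 7⟩)) (.node 1 (.one ⟨7710, 4, 4⟩) (.one ⟨11016, 4, 5⟩)))))) (.node 16 (.node 8 (.node 4 (.node 2 (.node 1 (.one ⟨6643, 3, 6⟩) (.one ⟨11241, 4, 5⟩)) (.node 1 (.one ⟨1176, 0, 6⟩) (.one ⟨15820, 3, 4⟩))) (.node 2 (.node 1 (.one ⟨9295, 2, 3⟩) (.one ⟨12655, 2, 6⟩)) (.node 1 (.one ⟨11156, 2, 4⟩) (.one ⟨1169, 0, 6⟩)))) (.node 4 (.node 2 (.node 1 (.one ⟨1471, 1, 4⟩) (.one ⟨1170, 0, 5⟩)) (.node 1 (.one ⟨1472, 1, 3⟩) (.one ⟨10271, 4, 5⟩))) (.node 2 (.node 1 (.one ⟨1180, 0, 4⟩) (.one ⟨1486, 1, 5⟩)) (.node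 1 (.one ⟨10708, 2, 5⟩) (.one ⟨13004, 2, 6⟩))))) (.node 8 (.node 4 (.node 2 (.node 1 (.one ⟨5810, 2, 5⟩) (.one ⟨9547, 0, 5⟩)) (.node 1 (.one ⟨16580, 2, 6⟩) (.one ⟨17009, 3, 5⟩))) (.node 2 (.node 1 (.one ⟨12645, 4, 6⟩) (.one ⟨9462, 1, 5⟩)) (.node 1 (.one ⟨14816, 2, 4⟩) (.one ⟨16784, 2, 6⟩)))) (.node 4 (.node 2 (.node 1 (.one ⟨9537, 0, 6⟩) (.one ⟨9457, 1, 6⟩)) (.node 1 (.one ⟨12297, 2, 5⟩) (.one ⟨9470, 1, 6⟩))) (.node 2 (.node 1 (.one ⟨14286, 4, 2⟩) (.one ⟨9540, 0, 7⟩)) (.node 1 (.one ⟨9458, 1, 5⟩) (.one ⟨6330, 2, 6⟩)))))))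
def par1_1_4 : Arr Par :=
  (.node 32 (.node 16 (.node 8 (.node 4 (.node 2 (.node 1 (.one ⟨9432, 1, 7⟩) (.one ⟨1760, 2, 6⟩)) (.node 1 (.one ⟨9429, 1, 6⟩) (.one ⟨16940, 4, 5⟩))) (.node 2 (.node 1 (.one ⟨7265, 3, 6⟩) (.one ⟨14324, 2, 6⟩)) (.node 1 (.one ⟨14209, 4, 6⟩) (.one ⟨1486, 0, 5⟩)))) (.node 4 (.node 2 (.node 1 (.one ⟨1481, 0, 6⟩) (.one ⟨9437, 1, 4⟩)) (.node 1 (.one ⟨1471, 0, 4⟩) (.one ⟨4581, 4, 6⟩))) (.node 2 (.node 1 (.one ⟨8659, 4, 7⟩) (.one ⟨1472, 0, 3⟩)) (.node 1 (.one ⟨9433, 1, 6⟩) (.one ⟨15189, 3, 4⟩))))) (.node 8 (.node 4 (.node 2 (.node 1 (.one ⟨1293, 0, 4⟩) (.one ⟨9627, 1, 5⟩)) (.node 1 (.one ⟨9630, 1, 6⟩) (.one ⟨13582, 2, 4⟩))) (.node 2 (.node 1 (.one ⟨9626, 1, 4⟩) (.one ⟨9628, 1, 6⟩)) (.node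 1 (.one ⟨10156, 4, 4⟩) (.one ⟨1451, 2, 6⟩)))) (.node 4 (.node 2 (.node 1 (.one ⟨9621, 1, 6⟩) (.one ⟨11596, 2, 5⟩)) (.node 1 (.one ⟨9618, 1, 6⟩) (.one ⟨9552, 4, 5⟩))) (.node 2 (.node 1 (.one ⟨9622, 1, 5⟩) (.one ⟨16302, 3, 6⟩)) (.node 1 (.one ⟨7201, 2, 6⟩) (.one ⟨9369, 0, 6⟩)))))) (.node 16 (.node 8 (.node 4 (.node 2 (.node 1 (.one ⟨9091, 4, 5⟩) (.one ⟨15820, 2, 4⟩)) (.node 1 (.one ⟨9370, 0, 6⟩) (.one ⟨2009, 3, 4⟩))) (.node 2 (.node 1 (.one ⟨16277, 4, 5⟩) (.one ⟨9361, 0, 6⟩)) (.node 1 (.one ⟨9338, 1, 6⟩) (.one ⟨14166, 4, 4⟩)))) (.node 4 (.node 2 (.node 1 (.one ⟨9364, 0, 6⟩) (.one ⟨9363, 0, 7⟩)) (.node 1 (.one ⟨11617, 3, 5⟩) (.one ⟨6596, 4, 5⟩))) (.node 2 (.node 1 (.one ⟨9366, 0, 6⟩) (.one ⟨1066, 3, 4⟩)) (.node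 1 (.one ⟨9373, 0, 5⟩) (.one ⟨349, 1, 6⟩))))) (.node 8 (.node 4 (.node 2 (.node 1 (.one ⟨16410, 4, 6⟩) (.one ⟨16304, 2, 5⟩)) (.node 1 (.one ⟨117, 1, 6⟩) (.one ⟨878, 1, 6⟩))) (.node 2 (.node 1 (.one ⟨16163, 3, 6⟩) (.one ⟨1189, 0, 6⟩)) (.node 1 (.one ⟨634, 1, 5⟩) (.one ⟨265, 1, 5⟩)))) (.node 4 (.node 2 (.node 1 (.one ⟨12068, 3, 6⟩) (.one ⟨1025, 1, 5⟩)) (.node 1 (.one ⟨5794, 4, 6⟩) (.one ⟨476, 2, 6⟩))) (.node 2 (.node 1 (.one ⟨6312, 3, 7⟩) (.one ⟨13194, 4, 6⟩)) (.node 1 (.one ⟨16769, 2, 6⟩) (.one ⟨9277, 0, 6⟩)))))))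
def par1_1_5 : Arr Par :=
  (.node 32 (.node 16 (.node 8 (.node 4 (.node 2 (.node 1 (.one ⟨5037, 2, 5⟩) (.one ⟨6734, 4, 6⟩)) (.node 1 (.one ⟨8926, 3, 6⟩) (.one ⟨1835, 2, 5⟩))) (.node 2 (.node 1 (.one ⟨1550, 1, 5⟩) (.one ⟨5423, 3, 5⟩)) (.node 1 (.one ⟨15809, 2, 4⟩) (.one ⟨13129, 3, 6⟩)))) (.node 4 (.node 2 (.node 1 (.one ⟨5153, 3, 5⟩) (.one ⟨1547, 1, 6⟩)) (.node 1 (.one ⟨9269, 0, 5⟩) (.one ⟨1539, 1, 5⟩))) (.node 2 (.node 1 (.one ⟨1540, 1, 7⟩) (.one ⟨11678, 4, 4⟩)) (.node 1 (.one ⟨9267, 0, 5⟩) (.one ⟨6151, 2, 3⟩))))) (.node 8 (.node 4 (.node 2 (.node 1 (.one ⟨8903, 2, 4⟩) (.one ⟨2047, 3, 7⟩)) (.node 1 (.one ⟨5434, 3, 6⟩) (.one ⟨13463, 2, 5⟩))) (.node 2 (.node 1 (.one ⟨1556, 1, 3⟩) (.one ⟨14517, 4, 6⟩)) (.node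 1 (.one ⟨10121, 2, 6⟩) (.one ⟨8972, 3, 3⟩)))) (.node 4 (.node 2 (.node 1 (.one ⟨1214, 0, 3⟩) (.one ⟨1205, 0, 6⟩)) (.node 1 (.one ⟨15266, 2, 6⟩) (.one ⟨1209, 0, 6⟩))) (.node 2 (.node 1 (.one ⟨1735, 2, 5⟩) (.one ⟨5129, 3, 6⟩)) (.node 1 (.one ⟨1696, 3, 6⟩) (.one ⟨10954, 3, 5⟩)))))) (.node 16 (.node 8 (.node 4 (.node 2 (.node 1 (.one ⟨14619, 2, 6⟩) (.one ⟨10643, 2, 5⟩)) (.node 1 (.one ⟨1350, 0, 5⟩) (.one ⟨1283, 1, 6⟩))) (.node 2 (.node 1 (.one ⟨9883, 4, 6⟩) (.one ⟨2977, 4, 6⟩)) (.node 1 (.one ⟨1293, 1, 4⟩) (.one ⟨15517, 2, 6⟩)))) (.node 4 (.node 2 (.node 1 (.one ⟨17194, 2, 6⟩) (.one ⟨12661, 4, 5⟩)) (.node 1 (.one ⟨13922, 3, 6⟩) (.one ⟨16443, 2, 5⟩))) (.node 2 (.node 1 (.one ⟨1357, 0, 5⟩) (.one ⟨11317, 3, 6⟩)) (.node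 1 (.one ⟨1353, 0, 7⟩) (.one ⟨8344, 4, 5⟩))))) (.node 8 (.node 4 (.node 2 (.node 1 (.one ⟨11073, 4, 6⟩) (.one ⟨12569, 4, 5⟩)) (.node 1 (.one ⟨1185, 1, 5⟩) (.one ⟨5165, 2, 5⟩))) (.node 2 (.node 1 (.one ⟨1424, 4, 6⟩) (.one ⟨8086, 3, 6⟩)) (.node 1 (.one ⟨12123, 3, 5⟩) (.one ⟨9253, 0, 6⟩)))) (.node 4 (.node 2 (.node 1 (.one ⟨1856, 3, 4⟩) (.one ⟨13389, 2, 6⟩)) (.node 1 (.one ⟨905, 3, 3⟩) (.one ⟨13233, 4, 4⟩))) (.node 2 (.node 1 (.one ⟨5591, 4, 5⟩) (.one ⟨9251, 0, 6⟩)) (.node 1 (.one ⟨9247, 0, 6⟩) (.one ⟨7104, 3, 3⟩)))))))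
def par1_1_6 : Arr Par :=
  (.node 32 (.node 16 (.node 8 (.node 4 (.node 2 (.node 1 (.one ⟨1218, 1, 6⟩) (.one ⟨15747, 2, 2⟩)) (.node 1 (.one ⟨9462, 0, 5⟩) (.one ⟨1221, 1, 5⟩))) (.node 2 (.node 1 (.one ⟨1217, 1, 6⟩) (.one ⟨1229, 1, 6⟩)) (.node 1 (.one ⟨14879, 3, 5⟩) (.one ⟨5391, 3, 7⟩)))) (.node 4 (.node 2 (.node 1 (.one ⟨9999, 3, 6⟩) (.one ⟨7927, 2, 7⟩)) (.node 1 (.one ⟨9932, 2, 5⟩) (.one ⟨2374, 4, 3⟩))) (.node 2 (.node 1 (.one ⟨14773, 2, 5⟩) (.one ⟨9458, 0, 5⟩)) (.node 1 (.one ⟨1224, 1, 6⟩) (.one ⟨9336, 0, 6⟩))))) (.node 8 (.node 4 (.node 2 (.node 1 (.one ⟨541, 1, 5⟩) (.one ⟨14317, 4, 5⟩)) (.node 1 (.one ⟨14713, 2, 4⟩) (.one ⟨123, 2, 6⟩))) (.node 2 (.node 1 (.one ⟨5874, 3, 6⟩) (.one ⟨958, 1, 5⟩)) (.node 1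 (.one ⟨959, 1, 5⟩) (.one ⟨661, 1, 5⟩)))) (.node 4 (.node 2 (.node 1 (.one ⟨653, 1, 6⟩) (.one ⟨206, 1, 5⟩)) (.node 1 (.one ⟨14400, 2, 4⟩) (.one ⟨649, 1, 5⟩))) (.node 2 (.node 1 (.one ⟨153, 2, 6⟩) (.one ⟨2954, 3, 6⟩)) (.node 1 (.one ⟨16991, 4, 6⟩) (.one ⟨10238, 2, 6⟩)))))) (.node 16 (.node 8 (.node 4 (.node 2 (.node 1 (.one ⟨10995, 3, 6⟩) (.one ⟨14849, 4, 5⟩)) (.node 1 (.one ⟨1276, 0, 3⟩) (.one ⟨10468, 2, 7⟩))) (.node 2 (.node 1 (.one ⟨14486, 4, 6⟩) (.one ⟨9562, 1, 6⟩)) (.node 1 (.one ⟨5968, 2, 6⟩) (.one ⟨16361, 2, 6⟩)))) (.node 4 (.node 2 (.node 1 (.one ⟨16908, 4, 7⟩) (.one ⟨15330, 2, 6⟩)) (.node 1 (.one ⟨1270, 0, 5⟩) (.one ⟨15734, 2, 5⟩))) (.node 2 (.node 1 (.one ⟨1278, 0, 6⟩) (.one ⟨9551, 1, 5⟩)) (.node 1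 (.one ⟨5005, 2, 5⟩) (.one ⟨13768, 4, 3⟩))))) (.node 8 (.node 4 (.node 2 (.node 1 (.one ⟨7519, 3, 5⟩) (.one ⟨3940, 2, 5⟩)) (.node 1 (.one ⟨1221, 0, 5⟩) (.one ⟨4859, 2, 3⟩))) (.node 2 (.node 1 (.one ⟨9547, 1, 5⟩) (.one ⟨9546, 1, 5⟩)) (.node 1 (.one ⟨11639, 3, 4⟩) (.one ⟨5155, 3, 6⟩)))) (.node 4 (.node 2 (.node 1 (.one ⟨9538, 1, 5⟩) (.one ⟨1224, 0, 6⟩)) (.node 1 (.one ⟨9541, 1, 7⟩) (.one ⟨3054, 2, 6⟩))) (.node 2 (.node 1 (.one ⟨9537, 1, 6⟩) (.one ⟨1517, 2, 7⟩)) (.node 1 (.one ⟨3775, 2, 6⟩) (.one ⟨4562, 2, 3⟩)))))))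
def par1_1_7 : Arr Par :=
  (.node 32 (.node 16 (.node 8 (.node 4 (.node 2 (.node 1 (.one ⟨8207, 4, 2⟩) (.one ⟨9273, 1, 5⟩)) (.node 1 (.one ⟨15686, 3, 6⟩) (.one ⟨1295, 0, 5⟩))) (.node 2 (.node 1 (.one ⟨16810, 2, 5⟩) (.one ⟨1302, 0, 5⟩)) (.node 1 (.one ⟨12795, 2, 7⟩) (.one ⟨10103, 3, 7⟩)))) (.node 4 (.node 2 (.node 1 (.one ⟨1310, 0, 7⟩) (.one ⟨9269, 1, 5⟩)) (.node 1 (.one ⟨8833, 2, 7⟩) (.one ⟨16135, 3, 5⟩))) (.node 2 (.node 1 (.one ⟨9267, 1, 5⟩) (.one ⟨1304, 0, 7⟩)) (.node 1 (.one ⟨13866, 3, 4⟩) (.one ⟨3773, 4, 4⟩))))) (.node 8 (.node 4 (.node 2 (.node 1 (.one ⟨14615, 3, 5⟩) (.one ⟨204, 4, 5⟩)) (.node 1 (.one ⟨9239, 3, 6⟩) (.one ⟨14590, 3, 6⟩))) (.node 2 (.node 1 (.one ⟨3771, 4, 5⟩) (.one ⟨15782, 2, 4⟩)) (.node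 1 (.one ⟨5323, 2, 6⟩) (.one ⟨9251, 1, 6⟩)))) (.node 4 (.node 2 (.node 1 (.one ⟨1025, 0, 5⟩) (.one ⟨448, 4, 5⟩)) (.node 1 (.one ⟨265, 0, 5⟩) (.one ⟨13396, 4, 5⟩))) (.node 2 (.node 1 (.one ⟨1020, 0, 6⟩) (.one ⟨876, 4, 6⟩)) (.node 1 (.one ⟨9253, 1, 6⟩) (.one ⟨506, 2, 6⟩)))))) (.node 16 (.node 8 (.node 4 (.node 2 (.node 1 (.one ⟨9654, 0, 5⟩) (.one ⟨9327, 3, 6⟩)) (.node 1 (.one ⟨3443, 2, 7⟩) (.one ⟨1621, 0, 5⟩))) (.node 2 (.node 1 (.one ⟨5965, 1, 5⟩) (.one ⟨15139, 2, 4⟩)) (.node 1 (.one ⟨15091, 2, 6⟩) (.one ⟨1583, 0, 5⟩)))) (.node 4 (.node 2 (.node 1 (.one ⟨15120, 3, 5⟩) (.one ⟨5996, 1, 6⟩)) (.node 1 (.one ⟨6794, 4, 6⟩) (.one ⟨14094, 1, 5⟩))) (.node 2 (.node 1 (.one ⟨14027, 1, 4⟩) (.one ⟨1653, 0, 6⟩)) (.node 1 (.one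 ⟨12732, 4, 5⟩) (.one ⟨249, 4, 6⟩))))) (.node 8 (.node 4 (.node 2 (.node 1 (.one ⟨304, 0, 6⟩) (.one ⟨4368, 3, 6⟩)) (.node 1 (.one ⟨4387, 3, 4⟩) (.one ⟨14346, 2, 4⟩))) (.node 2 (.node 1 (.one ⟨835, 0, 5⟩) (.one ⟨1487, 1, 5⟩)) (.node 1 (.one ⟨963, 0, 5⟩) (.one ⟨1036, 4, 4⟩)))) (.node 4 (.node 2 (.node 1 (.one ⟨390, 0, 6⟩) (.one ⟨1499, 1, 6⟩)) (.node 1 (.one ⟨8334, 4, 4⟩) (.one ⟨12, 4, 5⟩))) (.node 2 (.node 1 (.one ⟨484, 4, 6⟩) (.one ⟨7155, 3, 6⟩)) (.node 1 (.one ⟨8327, 4, 5⟩) (.one ⟨15066, 2, 5⟩)))))))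
def par1_1_8 : Arr Par :=
  (.node 32 (.node 16 (.node 8 (.node 4 (.node 2 (.node 1 (.one ⟨3812, 3, 5⟩) (.one ⟨9285, 4, 5⟩)) (.node 1 (.one ⟨1172, 1, 5⟩) (.one ⟨3450, 3, 4⟩))) (.node 2 (.node 1 (.one ⟨2469, 3, 6⟩) (.one ⟨1173, 1, 6⟩)) (.node 1 (.one ⟨9281, 2, 6⟩) (.one ⟨9423, 0, 5⟩)))) (.node 4 (.node 2 (.node 1 (.one ⟨1179, 1, 5⟩) (.one ⟨9438, 0, 4⟩)) (.node 1 (.one ⟨4211, 3, 5⟩) (.one ⟨12436, 4, 5⟩))) (.node 2 (.node 1 (.one ⟨1180, 1, 4⟩) (.one ⟨3326, 2, 6⟩)) (.node 1 (.one ⟨9437, 0, 4⟩) (.one ⟨2727, 2, 3⟩))))) (.node 8 (.node 4 (.node 2 (.node 1 (.one ⟨1360, 0, 5⟩) (.one ⟨2200, 4, 5⟩)) (.node 1 (.one ⟨5431, 3, 5⟩) (.one ⟨2003, 4, 5⟩))) (.node 2 (.node 1 (.one ⟨4856, 3, 2⟩) (.one ⟨1211, 1, 6⟩)) (.node 1 (.one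 ⟨1674, 2, 6⟩) (.one ⟨1201, 1, 7⟩)))) (.node 4 (.node 2 (.node 1 (.one ⟨1205, 1, 6⟩) (.one ⟨12623, 2, 4⟩)) (.node 1 (.one ⟨14764, 4, 5⟩) (.one ⟨5128, 3, 6⟩))) (.node 2 (.node 1 (.one ⟨11778, 2, 7⟩) (.one ⟨1214, 1, 3⟩)) (.node 1 (.one ⟨1367, 0, 4⟩) (.one ⟨1179, 4, 5⟩)))))) (.node 16 (.node 8 (.node 4 (.node 2 (.node 1 (.one ⟨5965, 0, 5⟩) (.one ⟨7418, 2, 5⟩)) (.node 1 (.one ⟨1623, 1, 5⟩) (.one ⟨14031, 4, 6⟩))) (.node 2 (.node 1 (.one ⟨10638, 4, 7⟩) (.one ⟨3261, 2, 5⟩)) (.node 1 (.one ⟨14001, 4, 7⟩) (.one ⟨12463, 3, 7⟩)))) (.node 4 (.node 2 (.node 1 (.one ⟨13542, 4, 5⟩) (.one ⟨5601, 2, 5⟩)) (.node 1 (.one ⟨9692, 1, 6⟩) (.one ⟨14094, 0, 5⟩))) (.node 2 (.node 1 (.one ⟨5996, 0, 6⟩) (.one ⟨14027, 0, 4⟩)) (.node 1 (.one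 ⟨12657, 4, 6⟩) (.one ⟨8632, 3, 4⟩))))) (.node 8 (.node 4 (.node 2 (.node 1 (.one ⟨2210, 0, 6⟩) (.one ⟨2830, 1, 5⟩)) (.node 1 (.one ⟨11429, 4, 6⟩) (.one ⟨2042, 0, 6⟩))) (.node 2 (.node 1 (.one ⟨13797, 4, 4⟩) (.one ⟨4946, 4, 6⟩)) (.node 1 (.one ⟨15181, 4, 5⟩) (.one ⟨15147, 3, 5⟩)))) (.node 4 (.node 2 (.node 1 (.one ⟨3520, 1, 7⟩) (.one ⟨12951, 3, 5⟩)) (.node 1 (.one ⟨10069, 3, 4⟩) (.one ⟨6141, 2, 6⟩))) (.node 2 (.node 1 (.one ⟨11341, 4, 6⟩) (.one ⟨2591, 2, 5⟩)) (.node 1 (.one ⟨7705, 4, 2⟩) (.one ⟨958, 2, 5⟩)))))))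
def par1_1_9 : Arr Par :=
  (.node 32 (.node 16 (.node 8 (.node 4 (.node 2 (.node 1 (.one ⟨11998, 3, 7⟩) (.one ⟨5684, 0, 5⟩)) (.node 1 (.one ⟨11468, 0, 5⟩) (.one ⟨2806, 1, 6⟩))) (.node 2 (.node 1 (.one ⟨252, 4, 6⟩) (.one ⟨9774, 3, 5⟩)) (.node 1 (.one ⟨12334, 2, 5⟩) (.one ⟨15624, 2, 6⟩)))) (.node 4 (.node 2 (.node 1 (.one ⟨3586, 1, 7⟩) (.one ⟨2046, 1, 6⟩)) (.node 1 (.one ⟨8008, 1, 6⟩) (.one ⟨10424, 3, 5⟩))) (.node 2 (.node 1 (.one ⟨6242, 2, 5⟩) (.one ⟨691, 3, 7⟩)) (.node 1 (.one ⟨13651, 4, 6⟩) (.one ⟨16469, 4, 4⟩))))) (.node 8 (.node 4 (.node 2 (.node 1 (.one ⟨8671, 2, 6⟩) (.one ⟨2860, 1, 5⟩)) (.node 1 (.one ⟨11451, 0, 5⟩) (.one ⟨8980, 3, 5⟩))) (.node 2 (.node 1 (.one ⟨10181, 4, 6⟩) (.one ⟨9419, 4, 4⟩)) (.node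 1 (.one ⟨10256, 0, 5⟩) (.one ⟨2679, 2, 4⟩)))) (.node 4 (.node 2 (.node 1 (.one ⟨5108, 2, 5⟩) (.one ⟨6596, 3, 5⟩)) (.node 1 (.one ⟨7548, 2, 5⟩) (.one ⟨12948, 2, 6⟩))) (.node 2 (.node 1 (.one ⟨10007, 2, 5⟩) (.one ⟨2206, 1, 6⟩)) (.node 1 (.one ⟨17009, 4, 5⟩) (.one ⟨15217, 3, 5⟩)))))) (.node 16 (.node 8 (.node 4 (.node 2 (.node 1 (.one ⟨5960, 4, 2⟩) (.one ⟨5234, 4, 6⟩)) (.node 1 (.one ⟨6793, 3, 5⟩) (.one ⟨5590, 2, 4⟩))) (.node 2 (.node 1 (.one ⟨7397, 0, 5⟩) (.one ⟨15115, 3, 6⟩)) (.node 1 (.one ⟨8744, 4, 5⟩) (.one ⟨549, 4, 6⟩)))) (.node 4 (.node 2 (.node 1 (.one ⟨705, 4, 5⟩) (.one ⟨10222, 0, 5⟩)) (.node 1 (.one ⟨8044, 1, 4⟩) (.one ⟨9853, 2, 7⟩))) (.node 2 (.node 1 (.one ⟨15564, 3, 6⟩) (.one ⟨8235, 0, 5⟩)) (.node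 1 (.one ⟨13872, 0, 4⟩) (.one ⟨2729, 2, 3⟩))))) (.node 8 (.node 4 (.node 2 (.node 1 (.one ⟨2037, 4, 6⟩) (.one ⟨12537, 2, 6⟩)) (.node 1 (.one ⟨3613, 3, 6⟩) (.one ⟨7399, 4, 4⟩))) (.node 2 (.node 1 (.one ⟨12690, 3, 6⟩) (.one ⟨11172, 3, 5⟩)) (.node 1 (.one ⟨10090, 1, 5⟩) (.one ⟨8833, 4, 7⟩)))) (.node 4 (.node 2 (.node 1 (.one ⟨784, 4, 4⟩) (.one ⟨16966, 4, 6⟩)) (.node 1 (.one ⟨9832, 4, 6⟩) (.one ⟨13801, 1, 6⟩))) (.node 2 (.node 1 (.one ⟨12388, 2, 5⟩) (.one ⟨5653, 4, 4⟩)) (.node 1 (.one ⟨117, 3, 6⟩) (.one ⟨13425, 4, 6⟩)))))))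
def par1_1_10 : Arr Par :=
  (.node 32 (.node 16 (.node 8 (.node 4 (.node 2 (.node 1 (.one ⟨10112, 1, 4⟩) (.one ⟨11758, 2, 6⟩)) (.node 1 (.one ⟨14875, 4, 5⟩) (.one ⟨14367, 3, 6⟩))) (.node 2 (.node 1 (.one ⟨2421, 3, 6⟩) (.one ⟨9138, 2, 5⟩)) (.node 1 (.one ⟨7768, 4, 5⟩) (.one ⟨13212, 3, 4⟩)))) (.node 4 (.node 2 (.node 1 (.one ⟨13828, 1, 5⟩) (.one ⟨12524, 3, 5⟩)) (.node 1 (.one ⟨13162, 4, 5⟩) (.one ⟨9711, 3, 5⟩))) (.node 2 (.node 1 (.one ⟨16948, 4, 5⟩) (.one ⟨9619, 4, 5⟩)) (.node 1 (.one ⟨5882, 3, 7⟩) (.one ⟨15415, 2, 5⟩))))) (.node 8 (.node 4 (.node 2 (.node 1 (.one ⟨7443, 0, 5⟩) (.one ⟨12059, 3, 5⟩)) (.node 1 (.one ⟨7882, 4, 6⟩) (.one ⟨3406, 0, 6⟩))) (.node 2 (.node 1 (.one ⟨5908, 1, 6⟩) (.one ⟨12410, 2, 6⟩))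 (.node 1 (.one ⟨117, 4, 6⟩) (.one ⟨5759, 0, 6⟩)))) (.node 4 (.node 2 (.node 1 (.one ⟨11596, 1, 5⟩) (.one ⟨11360, 2, 5⟩)) (.node 1 (.one ⟨4410, 3, 6⟩) (.one ⟨5859, 0, 4⟩))) (.node 2 (.node 1 (.one ⟨4423, 3, 6⟩) (.one ⟨13955, 3, 6⟩)) (.node 1 (.one ⟨11674, 4, 7⟩) (.one ⟨14075, 4, 5⟩)))))) (.node 16 (.node 8 (.node 4 (.node 2 (.node 1 (.one ⟨10649, 4, 5⟩) (.one ⟨2127, 1, 6⟩)) (.node 1 (.one ⟨15071, 3, 3⟩) (.one ⟨6980, 3, 4⟩))) (.node 2 (.node 1 (.one ⟨11494, 0, 5⟩) (.one ⟨17029, 3, 6⟩)) (.node 1 (.one ⟨10860, 1, 6⟩) (.one ⟨11664, 1, 5⟩)))) (.node 4 (.node 2 (.node 1 (.one ⟨3277, 3, 5⟩) (.one ⟨15766, 4, 6⟩)) (.node 1 (.one ⟨6791, 4, 5⟩) (.one ⟨2045, 3, 4⟩))) (.node 2 (.node 1 (.one ⟨5165, 4, 5⟩) (.one ⟨4903, 4,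 5⟩)) (.node 1 (.one ⟨8910, 3, 6⟩) (.one ⟨1661, 2, 5⟩))))) (.node 8 (.node 4 (.node 2 (.node 1 (.one ⟨2105, 0, 5⟩) (.one ⟨16017, 3, 6⟩)) (.node 1 (.one ⟨11143, 4, 6⟩) (.one ⟨13181, 3, 5⟩))) (.node 2 (.node 1 (.one ⟨8271, 2, 5⟩) (.one ⟨14829, 3, 6⟩)) (.node 1 (.one ⟨16719, 4, 6⟩) (.one ⟨11554, 2, 6⟩)))) (.node 4 (.node 2 (.node 1 (.one ⟨15648, 4, 4⟩) (.one ⟨15657, 4, 5⟩)) (.node 1 (.one ⟨680, 1, 5⟩) (.one ⟨9041, 4, 7⟩))) (.node 2 (.node 1 (.one ⟨9031, 4, 6⟩) (.one ⟨10332, 1, 4⟩)) (.node 1 (.one ⟨5456, 2, 6⟩) (.one ⟨1799, 3, 1⟩)))))))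
def par1_1_11 : Arr Par :=
  (.node 32 (.node 16 (.node 8 (.node 4 (.node 2 (.node 1 (.one ⟨6255, 1, 2⟩) (.one ⟨5360, 2, 2⟩)) (.node 1 (.one ⟨1359, 4, 4⟩) (.one ⟨6846, 3, 3⟩))) (.node 2 (.node 1 (.one ⟨7912, 1, 5⟩) (.one ⟨4385, 4, 5⟩)) (.node 1 (.one ⟨4403, 0, 5⟩) (.one ⟨16725, 4, 4⟩)))) (.node 4 (.node 2 (.node 1 (.one ⟨3376, 2, 6⟩) (.one ⟨13849, 2, 6⟩)) (.node 1 (.one ⟨622, 1, 5⟩) (.one ⟨191, 4, 5⟩))) (.node 2 (.node 1 (.one ⟨4079, 0, 5⟩) (.one ⟨10872, 4, 5⟩)) (.node 1 (.one ⟨13683, 3, 3⟩) (.one ⟨8304, 2, 5⟩))))) (.node 8 (.node 4 (.node 2 (.node 1 (.one ⟨10794, 4, 5⟩) (.one ⟨7812, 4, 5⟩)) (.node 1 (.one ⟨14085, 2, 6⟩) (.one ⟨1755, 0, 6⟩))) (.node 2 (.node 1 (.one ⟨2152, 0, 6⟩) (.one ⟨1411, 3, 6⟩)) (.node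 1 (.one ⟨16416, 4, 5⟩) (.one ⟨375, 1, 5⟩)))) (.node 4 (.node 2 (.node 1 (.one ⟨6287, 1, 5⟩) (.one ⟨11136, 3, 6⟩)) (.node 1 (.one ⟨14658, 4, 6⟩) (.one ⟨9781, 0, 5⟩))) (.node 2 (.node 1 (.one ⟨4761, 4, 6⟩) (.one ⟨12191, 0, 5⟩)) (.node 1 (.one ⟨14898, 3, 6⟩) (.one ⟨4971, 3, 5⟩)))))) (.node 16 (.node 8 (.node 4 (.node 2 (.node 1 (.one ⟨4432, 0, 5⟩) (.one ⟨9065, 3, 4⟩)) (.node 1 (.one ⟨4742, 2, 6⟩) (.one ⟨9571, 4, 6⟩))) (.node 2 (.node 1 (.one ⟨3864, 4, 5⟩) (.one ⟨16913, 3, 6⟩)) (.node 1 (.one ⟨3568, 0, 5⟩) (.one ⟨3730, 4, 6⟩)))) (.node 4 (.node 2 (.node 1 (.one ⟨12377, 1, 6⟩) (.one ⟨1891, 2, 5⟩)) (.node 1 (.one ⟨1550, 3, 5⟩) (.one ⟨15066, 3, 5⟩))) (.node 2 (.node 1 (.one ⟨8357, 3, 5⟩) (.one ⟨6837, 2, 6⟩)) (.node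 1 (.one ⟨3944, 2, 7⟩) (.one ⟨13093, 4, 5⟩))))) (.node 8 (.node 4 (.node 2 (.node 1 (.one ⟨88, 1, 0⟩) (.one ⟨6448, 0, 7⟩)) (.node 1 (.one ⟨15792, 3, 6⟩) (.one ⟨9992, 4, 6⟩))) (.node 2 (.node 1 (.one ⟨1483, 2, 6⟩) (.one ⟨4511, 4, 5⟩)) (.node 1 (.one ⟨10630, 2, 6⟩) (.one ⟨6412, 2, 4⟩)))) (.node 4 (.node 2 (.node 1 (.one ⟨9924, 0, 5⟩) (.one ⟨9559, 3, 6⟩)) (.node 1 (.one ⟨3557, 1, 6⟩) (.one ⟨3775, 1, 6⟩))) (.node 2 (.node 1 (.one ⟨13394, 2, 4⟩) (.one ⟨14350, 0, 6⟩)) (.node 1 (.one ⟨585, 3, 6⟩) (.one ⟨3859, 1, 4⟩)))))))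
def par1_1_12 : Arr Par :=
  (.node 32 (.node 16 (.node 8 (.node 4 (.node 2 (.node 1 (.one ⟨1812, 1, 5⟩) (.one ⟨2471, 1, 5⟩)) (.node 1 (.one ⟨15931, 4, 6⟩) (.one ⟨223, 0, 6⟩))) (.node 2 (.node 1 (.one ⟨2995, 4, 1⟩) (.one ⟨15747, 0, 2⟩)) (.node 1 (.one ⟨5680, 4, 2⟩) (.one ⟨19, 1, 0⟩)))) (.node 4 (.node 2 (.node 1 (.one ⟨9857, 4, 5⟩) (.one ⟨3523, 1, 6⟩)) (.node 1 (.one ⟨10520, 3, 6⟩) (.one ⟨16214, 3, 6⟩))) (.node 2 (.node 1 (.one ⟨3886, 3, 5⟩) (.one ⟨2202, 1, 3⟩)) (.node 1 (.one ⟨742, 0, 5⟩) (.one ⟨1350, 2, 5⟩))))) (.node 8 (.node 4 (.node 2 (.node 1 (.one ⟨11589, 1, 5⟩) (.one ⟨15075, 2, 6⟩)) (.node 1 (.one ⟨4242, 3, 5⟩) (.one ⟨14529, 0, 6⟩))) (.node 2 (.node 1 (.one ⟨14400, 4, 4⟩) (.one ⟨4326, 0, 5⟩)) (.node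 1 (.one ⟨5199, 4, 5⟩) (.one ⟨508, 2, 5⟩)))) (.node 4 (.node 2 (.node 1 (.one ⟨2036, 2, 6⟩) (.one ⟨10732, 1, 6⟩)) (.node 1 (.one ⟨10445, 1, 5⟩) (.one ⟨12083, 1, 6⟩))) (.node 2 (.node 1 (.one ⟨7929, 0, 6⟩) (.one ⟨1104, 4, 5⟩)) (.node 1 (.one ⟨11611, 1, 5⟩) (.one ⟨898, 3, 5⟩)))))) (.node 16 (.node 8 (.node 4 (.node 2 (.node 1 (.one ⟨4037, 1, 5⟩) (.one ⟨252, 0, 6⟩)) (.node 1 (.one ⟨7123, 2, 5⟩) (.one ⟨1867, 0, 5⟩))) (.node 2 (.node 1 (.one ⟨14570, 2, 5⟩) (.one ⟨567, 3, 5⟩)) (.node 1 (.one ⟨11905, 1, 5⟩) (.one ⟨620, 4, 5⟩)))) (.node 4 (.node 2 (.node 1 (.one ⟨10250, 1, 3⟩) (.one ⟨9997, 4, 5⟩)) (.node 1 (.one ⟨12258, 2, 5⟩) (.one ⟨1832, 3, 4⟩))) (.node 2 (.node 1 (.one ⟨4470, 1, 6⟩) (.one ⟨12404, 0, 6⟩)) (.node 1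 (.one ⟨4803, 2, 5⟩) (.one ⟨10377, 0, 6⟩))))) (.node 8 (.node 4 (.node 2 (.node 1 (.one ⟨14965, 2, 5⟩) (.one ⟨10634, 2, 6⟩)) (.node 1 (.one ⟨16703, 3, 6⟩) (.one ⟨5619, 0, 2⟩))) (.node 2 (.node 1 (.one ⟨5536, 4, 5⟩) (.one ⟨2936, 4, 6⟩)) (.node 1 (.one ⟨206, 2, 5⟩) (.one ⟨2870, 4, 2⟩)))) (.node 4 (.node 2 (.node 1 (.one ⟨2320, 1, 5⟩) (.one ⟨7944, 1, 5⟩)) (.node 1 (.one ⟨12732, 3, 5⟩) (.one ⟨2926, 4, 4⟩))) (.node 2 (.node 1 (.one ⟨10392, 0, 6⟩) (.one ⟨12017, 2, 4⟩)) (.node 1 (.one ⟨10968, 4, 4⟩) (.one ⟨7944, 0, 5⟩)))))))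
def par1_1_13 : Arr Par :=
  (.node 32 (.node 16 (.node 8 (.node 4 (.node 2 (.node 1 (.one ⟨8967, 2, 3⟩) (.one ⟨5550, 3, 6⟩)) (.node 1 (.one ⟨4394, 0, 6⟩) (.one ⟨13706, 1, 5⟩))) (.node 2 (.node 1 (.one ⟨4418, 4, 6⟩) (.one ⟨553, 1, 5⟩)) (.node 1 (.one ⟨2320, 0, 5⟩) (.one ⟨16794, 4, 5⟩)))) (.node 4 (.node 2 (.node 1 (.one ⟨7945, 1, 4⟩) (.one ⟨14332, 0, 6⟩)) (.node 1 (.one ⟨2330, 3, 6⟩) (.one ⟨13741, 0, 4⟩))) (.node 2 (.node 1 (.one ⟨2310, 0, 5⟩) (.one ⟨6424, 2, 5⟩)) (.node 1 (.one ⟨8273, 4, 6⟩) (.one ⟨8728, 3, 5⟩))))) (.node 8 (.node 4 (.node 2 (.node 1 (.one ⟨5649, 0, 2⟩) (.one ⟨9241, 2, 4⟩)) (.node 1 (.one ⟨2302, 1, 4⟩) (.one ⟨2302, 0, 4⟩))) (.node 2 (.node 1 (.one ⟨6236, 2, 5⟩) (.one ⟨999, 1, 5⟩)) (.node 1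 (.one ⟨1661, 4, 5⟩) (.one ⟨12346, 1, 6⟩)))) (.node 4 (.node 2 (.node 1 (.one ⟨14376, 4, 4⟩) (.one ⟨5060, 2, 5⟩)) (.node 1 (.one ⟨3682, 1, 6⟩) (.one ⟨844, 0, 7⟩))) (.node 2 (.node 1 (.one ⟨9155, 3, 6⟩) (.one ⟨7945, 0, 4⟩)) (.node 1 (.one ⟨936, 1, 4⟩) (.one ⟨4364, 3, 7⟩)))))) (.node 16 (.node 8 (.node 4 (.node 2 (.node 1 (.one ⟨13741, 1, 4⟩) (.one ⟨14332, 1, 6⟩)) (.node 1 (.one ⟨7219, 3, 5⟩) (.one ⟨936, 0, 4⟩))) (.node 2 (.node 1 (.one ⟨16155, 2, 5⟩) (.one ⟨5289, 4, 6⟩)) (.node 1 (.one ⟨1289, 3, 5⟩) (.one ⟨155, 4, 5⟩)))) (.node 4 (.node 2 (.node 1 (.one ⟨16307, 1, 6⟩) (.one ⟨6283, 1, 6⟩)) (.node 1 (.one ⟨8174, 4, 7⟩) (.one ⟨11339, 2, 4⟩))) (.node 2 (.node 1 (.one ⟨553, 0, 5⟩) (.one ⟨13706, 3, 5⟩)) (.node 1 (.one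 ⟨8203, 4, 6⟩) (.one ⟨3948, 4, 4⟩))))) (.node 8 (.node 4 (.node 2 (.node 1 (.one ⟨2106, 0, 6⟩) (.one ⟨8150, 4, 4⟩)) (.node 1 (.one ⟨2105, 1, 5⟩) (.one ⟨13860, 4, 6⟩))) (.node 2 (.node 1 (.one ⟨14423, 2, 5⟩) (.one ⟨9437, 4, 4⟩)) (.node 1 (.one ⟨13497, 4, 6⟩) (.one ⟨7571, 2, 6⟩)))) (.node 4 (.node 2 (.node 1 (.one ⟨14421, 0, 4⟩) (.one ⟨3568, 1, 5⟩)) (.node 1 (.one ⟨4432, 1, 5⟩) (.one ⟨1429, 3, 6⟩))) (.node 2 (.node 1 (.one ⟨1992, 2, 5⟩) (.one ⟨8642, 2, 7⟩)) (.node 1 (.one ⟨12124, 0, 6⟩) (.one ⟨8981, 3, 7⟩)))))))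
def par1_1_14 : Arr Par :=
  (.node 32 (.node 16 (.node 8 (.node 4 (.node 2 (.node 1 (.one ⟨11878, 0, 4⟩) (.one ⟨1804, 4, 6⟩)) (.node 1 (.one ⟨16054, 0, 6⟩) (.one ⟨3097, 4, 6⟩))) (.node 2 (.node 1 (.one ⟨11036, 4, 5⟩) (.one ⟨3071, 3, 4⟩)) (.node 1 (.one ⟨16765, 3, 5⟩) (.one ⟨15103, 3, 6⟩)))) (.node 4 (.node 2 (.node 1 (.one ⟨15898, 4, 6⟩) (.one ⟨4599, 3, 6⟩)) (.node 1 (.one ⟨6118, 4, 7⟩) (.one ⟨6365, 0, 6⟩))) (.node 2 (.node 1 (.one ⟨8202, 0, 6⟩) (.one ⟨8568, 3, 4⟩)) (.node 1 (.one ⟨12734, 4, 5⟩) (.one ⟨1727, 1, 2⟩))))) (.node 8 (.node 4 (.node 2 (.node 1 (.one ⟨5807, 4, 4⟩) (.one ⟨4683, 3, 3⟩)) (.node 1 (.one ⟨4390, 4, 5⟩) (.one ⟨2729, 1, 3⟩))) (.node 2 (.node 1 (.one ⟨3896, 2, 2⟩) (.one ⟨4088, 0, 3⟩)) (.node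 1 (.one ⟨12322, 4, 5⟩) (.one ⟨2126, 4, 6⟩)))) (.node 4 (.node 2 (.node 1 (.one ⟨6239, 2, 6⟩) (.one ⟨3126, 2, 5⟩)) (.node 1 (.one ⟨4077, 0, 6⟩) (.one ⟨6224, 2, 5⟩))) (.node 2 (.node 1 (.one ⟨10204, 4, 6⟩) (.one ⟨17175, 3, 6⟩)) (.node 1 (.one ⟨5759, 4, 6⟩) (.one ⟨4079, 1, 5⟩)))))) (.node 16 (.node 8 (.node 4 (.node 2 (.node 1 (.one ⟨10334, 4, 5⟩) (.one ⟨1706, 4, 6⟩)) (.node 1 (.one ⟨9831, 1, 5⟩) (.one ⟨11633, 1, 6⟩))) (.node 2 (.node 1 (.one ⟨11889, 0, 5⟩) (.one ⟨1514, 4, 7⟩)) (.node 1 (.one ⟨14443, 0, 4⟩) (.one ⟨308, 3, 4⟩)))) (.node 4 (.node 2 (.node 1 (.one ⟨9781, 1, 5⟩) (.one ⟨4151, 4, 6⟩)) (.node 1 (.one ⟨12191, 1, 5⟩) (.one ⟨14390, 0, 6⟩))) (.node 2 (.node 1 (.one ⟨958, 4, 5⟩) (.one ⟨11689, 1, 6⟩)) (.node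 1 (.one ⟨9363, 2, 7⟩) (.one ⟨2444, 4, 6⟩))))) (.node 8 (.node 4 (.node 2 (.node 1 (.one ⟨1591, 4, 6⟩) (.one ⟨2046, 0, 6⟩)) (.node 1 (.one ⟨3725, 4, 4⟩) (.one ⟨6245, 4, 4⟩))) (.node 2 (.node 1 (.one ⟨16655, 2, 5⟩) (.one ⟨8239, 4, 6⟩)) (.node 1 (.one ⟨8094, 4, 3⟩) (.one ⟨1833, 4, 6⟩)))) (.node 4 (.node 2 (.node 1 (.one ⟨9886, 4, 5⟩) (.one ⟨6985, 3, 6⟩)) (.node 1 (.one ⟨10058, 0, 5⟩) (.one ⟨13801, 0, 6⟩))) (.node 2 (.node 1 (.one ⟨9858, 4, 6⟩) (.one ⟨1810, 4, 6⟩)) (.node 1 (.one ⟨1347, 3, 6⟩) (.one ⟨5784, 3, 3⟩)))))))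
def par1_1_15 : Arr Par :=
  (.node 32 (.node 16 (.node 8 (.node 4 (.node 2 (.node 1 (.one ⟨8598, 2, 6⟩) (.one ⟨2295, 2, 4⟩)) (.node 1 (.one ⟨8798, 2, 4⟩) (.one ⟨5214, 4, 6⟩))) (.node 2 (.node 1 (.one ⟨7088, 1, 5⟩) (.one ⟨6709, 4, 5⟩)) (.node 1 (.one ⟨14565, 2, 5⟩) (.one ⟨13741, 3, 4⟩)))) (.node 4 (.node 2 (.node 1 (.one ⟨16427, 2, 4⟩) (.one ⟨770, 4, 5⟩)) (.node 1 (.one ⟨7206, 1, 5⟩) (.one ⟨12278, 2, 6⟩))) (.node 2 (.node 1 (.one ⟨1706, 1, 6⟩) (.one ⟨6282, 4, 5⟩)) (.node 1 (.one ⟨5908, 0, 6⟩) (.one ⟨366, 3, 5⟩))))) (.node 8 (.node 4 (.node 2 (.node 1 (.one ⟨2830, 0, 5⟩) (.one ⟨15372, 1, 6⟩)) (.node 1 (.one ⟨3272, 2, 5⟩) (.one ⟨2096, 0, 4⟩))) (.node 2 (.node 1 (.one ⟨12214, 3, 5⟩) (.one ⟨15209, 1, 5⟩)) (.node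 1 (.one ⟨12998, 3, 5⟩) (.one ⟨5068, 4, 5⟩)))) (.node 4 (.node 2 (.node 1 (.one ⟨15306, 1, 7⟩) (.one ⟨11433, 2, 3⟩)) (.node 1 (.one ⟨5119, 4, 6⟩) (.one ⟨15463, 3, 4⟩))) (.node 2 (.node 1 (.one ⟨509, 2, 5⟩) (.one ⟨14283, 2, 4⟩)) (.node 1 (.one ⟨5614, 3, 6⟩) (.one ⟨280, 3, 6⟩)))))) (.node 16 (.node 8 (.node 4 (.node 2 (.node 1 (.one ⟨10976, 2, 6⟩) (.one ⟨5115, 2, 6⟩)) (.node 1 (.one ⟨15925, 3, 5⟩) (.one ⟨4208, 1, 5⟩))) (.node 2 (.node 1 (.one ⟨4872, 4, 4⟩) (.one ⟨2786, 2, 6⟩)) (.node 1 (.one ⟨11986, 2, 6⟩) (.one ⟨987, 3, 7⟩)))) (.node 4 (.node 2 (.node 1 (.one ⟨2136, 0, 6⟩) (.one ⟨8710, 3, 5⟩)) (.node 1 (.one ⟨11664, 0, 5⟩) (.one ⟨8067, 2, 5⟩))) (.node 2 (.node 1 (.one ⟨5815, 0, 6⟩) (.one ⟨4844, 3, 6⟩)) (.node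 1 (.one ⟨2585, 3, 6⟩) (.one ⟨2276, 2, 6⟩))))) (.node 8 (.node 4 (.node 2 (.node 1 (.one ⟨5784, 2, 3⟩) (.one ⟨5964, 4, 4⟩)) (.node 1 (.one ⟨1009, 3, 5⟩) (.one ⟨6418, 2, 4⟩))) (.node 2 (.node 1 (.one ⟨6040, 4, 5⟩) (.one ⟨7219, 1, 5⟩)) (.node 1 (.one ⟨6373, 4, 5⟩) (.one ⟨7166, 1, 5⟩)))) (.node 4 (.node 2 (.node 1 (.one ⟨6962, 4, 5⟩) (.one ⟨15201, 4, 4⟩)) (.node 1 (.one ⟨1699, 1, 5⟩) (.one ⟨7286, 1, 5⟩))) (.node 2 (.node 1 (.one ⟨15480, 2, 7⟩) (.one ⟨1214, 3, 3⟩)) (.node 1 (.one ⟨12205, 2, 5⟩) (.one ⟨6674, 3, 6⟩)))))))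
def par1_1 : Arr Par :=
  (.node 512 (.node 256 (.node 128 (.node 64 par1_1_0 par1_1_1) (.node 64 par1_1_2 par1_1_3)) (.node 128 (.node 64 par1_1_4 par1_1_5) (.node 64 par1_1_6 par1_1_7))) (.node 256 (.node 128 (.node 64 par1_1_8 par1_1_9) (.node 64 par1_1_10 par1_1_11)) (.node 128 (.node 64 par1_1_12 par1_1_13) (.node 64 par1_1_14 par1_1_15))))
def par1_2_0 : Arr Par :=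
  (.node 32 (.node 16 (.node 8 (.node 4 (.node 2 (.node 1 (.one ⟨4387, 2, 4⟩) (.one ⟨7373, 2, 7⟩)) (.node 1 (.one ⟨8322, 2, 5⟩) (.one ⟨1509, 1, 5⟩))) (.node 2 (.node 1 (.one ⟨12309, 1, 5⟩) (.one ⟨5739, 0, 6⟩)) (.node 1 (.one ⟨11825, 4, 5⟩) (.one ⟨16138, 0, 7⟩)))) (.node 4 (.node 2 (.node 1 (.one ⟨8412, 4, 6⟩) (.one ⟨940, 1, 5⟩)) (.node 1 (.one ⟨13792, 2, 6⟩) (.one ⟨13072, 4, 6⟩))) (.node 2 (.node 1 (.one ⟨16813, 4, 6⟩) (.one ⟨16500, 3, 6⟩)) (.node 1 (.one ⟨8044, 0, 4⟩) (.one ⟨12816, 2, 6⟩))))) (.node 8 (.node 4 (.node 2 (.node 1 (.one ⟨230, 3, 7⟩) (.one ⟨1630, 4, 6⟩)) (.node 1 (.one ⟨13828, 0, 5⟩) (.one ⟨16629, 4, 6⟩))) (.node 2 (.node 1 (.one ⟨11061, 3, 5⟩) (.one ⟨11916, 3, 7⟩)) (.node 1 (.one ⟨4329, 1, 6⟩)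 (.one ⟨4197, 1, 6⟩)))) (.node 4 (.node 2 (.node 1 (.one ⟨9971, 2, 5⟩) (.one ⟨779, 4, 5⟩)) (.node 1 (.one ⟨5695, 0, 5⟩) (.one ⟨4303, 1, 6⟩))) (.node 2 (.node 1 (.one ⟨9067, 3, 5⟩) (.one ⟨12817, 2, 5⟩)) (.node 1 (.one ⟨2107, 0, 6⟩) (.one ⟨5290, 2, 6⟩)))))) (.node 16 (.node 8 (.node 4 (.node 2 (.node 1 (.one ⟨6040, 3, 5⟩) (.one ⟨12031, 4, 6⟩)) (.node 1 (.one ⟨7625, 2, 6⟩) (.one ⟨9932, 4, 5⟩))) (.node 2 (.node 1 (.one ⟨2045, 2, 4⟩) (.one ⟨4208, 4, 5⟩)) (.node 1 (.one ⟨9509, 2, 6⟩) (.one ⟨8497, 2, 4⟩)))) (.node 4 (.node 2 (.node 1 (.one ⟨5020, 3, 6⟩) (.one ⟨2248, 2, 6⟩)) (.node 1 (.one ⟨341, 3, 6⟩) (.one ⟨3156, 4, 7⟩))) (.node 2 (.node 1 (.one ⟨2860, 0, 5⟩) (.one ⟨1674, 1, 6⟩)) (.node 1 (.one ⟨966, 1, 5⟩) (.one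 ⟨13588, 4, 5⟩))))) (.node 8 (.node 4 (.node 2 (.node 1 (.one ⟨10423, 4, 3⟩) (.one ⟨764, 3, 4⟩)) (.node 1 (.one ⟨5958, 0, 6⟩) (.one ⟨14355, 4, 6⟩))) (.node 2 (.node 1 (.one ⟨17152, 4, 5⟩) (.one ⟨4576, 2, 5⟩)) (.node 1 (.one ⟨5010, 4, 6⟩) (.one ⟨13817, 4, 5⟩)))) (.node 4 (.node 2 (.node 1 (.one ⟨54, 1, 0⟩) (.one ⟨10505, 4, 4⟩)) (.node 1 (.one ⟨10602, 0, 5⟩) (.one ⟨5806, 4, 5⟩))) (.node 2 (.node 1 (.one ⟨1155, 0, 6⟩) (.one ⟨2447, 4, 6⟩)) (.node 1 (.one ⟨2761, 2, 5⟩) (.one ⟨16303, 4, 5⟩)))))))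
def par1_2_1 : Arr Par :=
  (.node 32 (.node 16 (.node 8 (.node 4 (.node 2 (.node 1 (.one ⟨5998, 0, 6⟩) (.one ⟨16682, 4, 4⟩)) (.node 1 (.one ⟨5983, 0, 6⟩) (.one ⟨10519, 2, 6⟩))) (.node 2 (.node 1 (.one ⟨979, 4, 6⟩) (.one ⟨15836, 4, 6⟩)) (.node 1 (.one ⟨3599, 3, 6⟩) (.one ⟨5366, 2, 6⟩)))) (.node 4 (.node 2 (.node 1 (.one ⟨7195, 4, 6⟩) (.one ⟨662, 0, 5⟩)) (.node 1 (.one ⟨2481, 0, 6⟩) (.one ⟨463, 2, 5⟩))) (.node 2 (.node 1 (.one ⟨1835, 4, 5⟩) (.one ⟨13474, 2, 6⟩)) (.node 1 (.one ⟨11969, 2, 5⟩) (.one ⟨6040, 0, 5⟩))))) (.node 8 (.node 4 (.node 2 (.node 1 (.one ⟨11359, 2, 6⟩) (.one ⟨5297, 0, 6⟩)) (.node 1 (.one ⟨5433, 1, 6⟩) (.one ⟨6625, 2, 3⟩))) (.node 2 (.node 1 (.one ⟨2212, 3, 4⟩) (.one ⟨6612, 3, 7⟩)) (.node 1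 (.one ⟨5539, 1, 6⟩) (.one ⟨6626, 2, 6⟩)))) (.node 4 (.node 2 (.node 1 (.one ⟨4915, 2, 5⟩) (.one ⟨4588, 4, 6⟩)) (.node 1 (.one ⟨11923, 3, 6⟩) (.one ⟨6343, 1, 6⟩))) (.node 2 (.node 1 (.one ⟨1589, 2, 7⟩) (.one ⟨16214, 4, 6⟩)) (.node 1 (.one ⟨7056, 2, 7⟩) (.one ⟨17017, 1, 7⟩)))))) (.node 16 (.node 8 (.node 4 (.node 2 (.node 1 (.one ⟨15883, 2, 6⟩) (.one ⟨2127, 4, 6⟩)) (.node 1 (.one ⟨1097, 0, 5⟩) (.one ⟨6008, 0, 6⟩))) (.node 2 (.node 1 (.one ⟨12123, 4, 5⟩) (.one ⟨7739, 2, 4⟩)) (.node 1 (.one ⟨16885, 0, 6⟩) (.one ⟨4722, 4, 6⟩)))) (.node 4 (.node 2 (.node 1 (.one ⟨14391, 1, 5⟩) (.one ⟨10713, 1, 6⟩)) (.node 1 (.one ⟨14367, 2, 6⟩) (.one ⟨3757, 4, 5⟩))) (.node 2 (.node 1 (.one ⟨7100, 3, 7⟩) (.one ⟨13907, 1, 6⟩)) (.node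 1 (.one ⟨1984, 1, 7⟩) (.one ⟨1523, 3, 5⟩))))) (.node 8 (.node 4 (.node 2 (.node 1 (.one ⟨6027, 0, 6⟩) (.one ⟨5499, 1, 5⟩)) (.node 1 (.one ⟨13943, 1, 6⟩) (.one ⟨8793, 0, 6⟩))) (.node 2 (.node 1 (.one ⟨5796, 1, 6⟩) (.one ⟨5056, 4, 6⟩)) (.node 1 (.one ⟨1886, 4, 5⟩) (.one ⟨14259, 0, 6⟩)))) (.node 4 (.node 2 (.node 1 (.one ⟨13618, 3, 4⟩) (.one ⟨11428, 3, 5⟩)) (.node 1 (.one ⟨2613, 1, 6⟩) (.one ⟨5114, 2, 6⟩))) (.node 2 (.node 1 (.one ⟨12102, 4, 6⟩) (.one ⟨2565, 4, 5⟩)) (.node 1 (.one ⟨3237, 3, 6⟩) (.one ⟨12058, 3, 6⟩)))))))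
def par1_2_2 : Arr Par :=
  (.node 32 (.node 16 (.node 8 (.node 4 (.node 2 (.node 1 (.one ⟨14962, 4, 4⟩) (.one ⟨6050, 0, 5⟩)) (.node 1 (.one ⟨14083, 3, 5⟩) (.one ⟨14311, 3, 7⟩))) (.node 2 (.node 1 (.one ⟨15716, 4, 5⟩) (.one ⟨10076, 2, 5⟩)) (.node 1 (.one ⟨11717, 3, 5⟩) (.one ⟨6151, 3, 3⟩)))) (.node 4 (.node 2 (.node 1 (.one ⟨2083, 1, 6⟩) (.one ⟨15794, 3, 6⟩)) (.node 1 (.one ⟨12344, 3, 3⟩) (.one ⟨11062, 3, 5⟩))) (.node 2 (.node 1 (.one ⟨4414, 4, 6⟩) (.one ⟨10332, 4, 4⟩)) (.node 1 (.one ⟨9033, 3, 4⟩) (.one ⟨11197, 2, 6⟩))))) (.node 8 (.node 4 (.node 2 (.node 1 (.one ⟨15139, 4, 4⟩) (.one ⟨6227, 3, 6⟩)) (.node 1 (.one ⟨10207, 1, 4⟩) (.one ⟨5982, 0, 6⟩))) (.node 2 (.node 1 (.one ⟨8861, 2, 6⟩) (.one ⟨612, 4, 6⟩))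 (.node 1 (.one ⟨10625, 3, 5⟩) (.one ⟨16326, 3, 7⟩)))) (.node 4 (.node 2 (.node 1 (.one ⟨1293, 3, 4⟩) (.one ⟨6016, 3, 2⟩)) (.node 1 (.one ⟨12047, 3, 2⟩) (.one ⟨13210, 2, 6⟩))) (.node 2 (.node 1 (.one ⟨1152, 0, 5⟩) (.one ⟨14417, 1, 6⟩)) (.node 1 (.one ⟨2013, 1, 5⟩) (.one ⟨10235, 3, 3⟩)))))) (.node 16 (.node 8 (.node 4 (.node 2 (.node 1 (.one ⟨1025, 2, 5⟩) (.one ⟨9082, 2, 5⟩)) (.node 1 (.one ⟨885, 4, 5⟩) (.one ⟨5948, 0, 6⟩))) (.node 2 (.node 1 (.one ⟨372, 4, 3⟩) (.one ⟨8992, 1, 6⟩)) (.node 1 (.one ⟨599, 4, 5⟩) (.one ⟨18, 1, 0⟩)))) (.node 4 (.node 2 (.node 1 (.one ⟨13821, 4, 4⟩) (.one ⟨2960, 2, 2⟩)) (.node 1 (.one ⟨2751, 2, 3⟩) (.one ⟨1088, 3, 3⟩))) (.node 2 (.node 1 (.one ⟨6284, 0, 5⟩) (.one ⟨664, 4, 5⟩)) (.node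 1 (.one ⟨10545, 2, 5⟩) (.one ⟨1551, 4, 4⟩))))) (.node 8 (.node 4 (.node 2 (.node 1 (.one ⟨14928, 1, 4⟩) (.one ⟨6521, 1, 1⟩)) (.node 1 (.one ⟨15419, 0, 5⟩) (.one ⟨14462, 4, 5⟩))) (.node 2 (.node 1 (.one ⟨8010, 2, 3⟩) (.one ⟨4669, 3, 4⟩)) (.node 1 (.one ⟨14495, 4, 4⟩) (.one ⟨3248, 3, 5⟩)))) (.node 4 (.node 2 (.node 1 (.one ⟨3651, 3, 5⟩) (.one ⟨9811, 0, 5⟩)) (.node 1 (.one ⟨13181, 2, 5⟩) (.one ⟨7873, 2, 6⟩))) (.node 2 (.node 1 (.one ⟨14898, 2, 6⟩) (.one ⟨5751, 0, 6⟩)) (.node 1 (.one ⟨11372, 0, 6⟩) (.one ⟨1939, 2, 4⟩)))))))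
def par1_2_3 : Arr Par :=
  (.node 32 (.node 16 (.node 8 (.node 4 (.node 2 (.node 1 (.one ⟨11975, 2, 5⟩) (.one ⟨2547, 3, 4⟩)) (.node 1 (.one ⟨7652, 3, 5⟩) (.one ⟨5611, 1, 5⟩))) (.node 2 (.node 1 (.one ⟨12025, 2, 5⟩) (.one ⟨483, 3, 6⟩)) (.node 1 (.one ⟨12312, 2, 6⟩) (.one ⟨14402, 0, 4⟩)))) (.node 4 (.node 2 (.node 1 (.one ⟨11267, 1, 5⟩) (.one ⟨13179, 4, 5⟩)) (.node 1 (.one ⟨11235, 3, 5⟩) (.one ⟨17025, 4, 6⟩))) (.node 2 (.node 1 (.one ⟨3238, 3, 6⟩) (.one ⟨1428, 4, 7⟩)) (.node 1 (.one ⟨10063, 3, 6⟩) (.one ⟨11257, 1, 5⟩))))) (.node 8 (.node 4 (.node 2 (.node 1 (.one ⟨2514, 4, 6⟩) (.one ⟨6624, 3, 7⟩)) (.node 1 (.one ⟨6539, 1, 5⟩) (.one ⟨2543, 3, 5⟩))) (.node 2 (.node 1 (.one ⟨6817, 0, 4⟩) (.one ⟨14658, 2, 6⟩)) (.node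 1 (.one ⟨7755, 2, 6⟩) (.one ⟨736, 4, 6⟩)))) (.node 4 (.node 2 (.node 1 (.one ⟨16860, 2, 6⟩) (.one ⟨10421, 0, 4⟩)) (.node 1 (.one ⟨3650, 2, 5⟩) (.one ⟨16451, 2, 7⟩))) (.node 2 (.node 1 (.one ⟨3369, 0, 5⟩) (.one ⟨4187, 2, 7⟩)) (.node 1 (.one ⟨15547, 2, 5⟩) (.one ⟨8639, 3, 5⟩)))))) (.node 16 (.node 8 (.node 4 (.node 2 (.node 1 (.one ⟨6826, 0, 5⟩) (.one ⟨3330, 2, 6⟩)) (.node 1 (.one ⟨82, 4, 6⟩) (.one ⟨1992, 3, 5⟩))) (.node 2 (.node 1 (.one ⟨9137, 3, 5⟩) (.one ⟨10585, 1, 6⟩)) (.node 1 (.one ⟨8393, 3, 6⟩) (.one ⟨5591, 1, 5⟩)))) (.node 4 (.node 2 (.node 1 (.one ⟨3026, 2, 6⟩) (.one ⟨12695, 2, 6⟩)) (.node 1 (.one ⟨11912, 2, 5⟩) (.one ⟨13161, 2, 5⟩))) (.node 2 (.node 1 (.one ⟨15430, 0, 6⟩) (.one ⟨16929, 3, 5⟩)) (.node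 1 (.one ⟨1662, 3, 7⟩) (.one ⟨16041, 4, 7⟩))))) (.node 8 (.node 4 (.node 2 (.node 1 (.one ⟨14838, 1, 6⟩) (.one ⟨4707, 4, 7⟩)) (.node 1 (.one ⟨10461, 1, 6⟩) (.one ⟨1912, 4, 5⟩))) (.node 2 (.node 1 (.one ⟨11016, 2, 5⟩) (.one ⟨7080, 3, 5⟩)) (.node 1 (.one ⟨6955, 4, 5⟩) (.one ⟨13683, 0, 3⟩)))) (.node 4 (.node 2 (.node 1 (.one ⟨7764, 3, 3⟩) (.one ⟨15439, 3, 5⟩)) (.node 1 (.one ⟨9668, 2, 4⟩) (.one ⟨14893, 4, 4⟩))) (.node 2 (.node 1 (.one ⟨2835, 2, 5⟩) (.one ⟨14558, 0, 6⟩)) (.node 1 (.one ⟨2456, 1, 3⟩) (.one ⟨14982, 0, 6⟩)))))))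
def par1_2_4 : Arr Par :=
  (.node 32 (.node 16 (.node 8 (.node 4 (.node 2 (.node 1 (.one ⟨15592, 4, 4⟩) (.one ⟨15302, 0, 5⟩)) (.node 1 (.one ⟨10708, 1, 5⟩) (.one ⟨2149, 3, 5⟩))) (.node 2 (.node 1 (.one ⟨7748, 2, 4⟩) (.one ⟨2279, 2, 6⟩)) (.node 1 (.one ⟨5580, 3, 4⟩) (.one ⟨5960, 3, 2⟩)))) (.node 4 (.node 2 (.node 1 (.one ⟨234, 0, 5⟩) (.one ⟨6919, 2, 5⟩)) (.node 1 (.one ⟨4636, 2, 4⟩) (.one ⟨1925, 3, 5⟩))) (.node 2 (.node 1 (.one ⟨13621, 4, 6⟩) (.one ⟨11700, 2, 6⟩)) (.node 1 (.one ⟨11311, 1, 5⟩) (.one ⟨4082, 3, 6⟩))))) (.node 8 (.node 4 (.node 2 (.node 1 (.one ⟨149, 0, 4⟩) (.one ⟨3384, 1, 6⟩)) (.node 1 (.one ⟨1258, 2, 4⟩) (.one ⟨8601, 3, 6⟩))) (.node 2 (.node 1 (.one ⟨6737, 1, 6⟩) (.one ⟨6101, 1, 6⟩)) (.node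 1 (.one ⟨3716, 4, 6⟩) (.one ⟨113, 4, 6⟩)))) (.node 4 (.node 2 (.node 1 (.one ⟨16888, 4, 6⟩) (.one ⟨8397, 4, 6⟩)) (.node 1 (.one ⟨10345, 4, 5⟩) (.one ⟨10923, 2, 6⟩))) (.node 2 (.node 1 (.one ⟨15209, 2, 5⟩) (.one ⟨5440, 3, 5⟩)) (.node 1 (.one ⟨6700, 2, 6⟩) (.one ⟨2384, 2, 3⟩)))))) (.node 16 (.node 8 (.node 4 (.node 2 (.node 1 (.one ⟨13720, 0, 6⟩) (.one ⟨2361, 1, 3⟩)) (.node 1 (.one ⟨14166, 1, 4⟩) (.one ⟨16690, 3, 4⟩))) (.node 2 (.node 1 (.one ⟨11928, 2, 4⟩) (.one ⟨8018, 3, 6⟩)) (.node 1 (.one ⟨15161, 2, 6⟩) (.one ⟨3393, 1, 4⟩)))) (.node 4 (.node 2 (.node 1 (.one ⟨5660, 0, 6⟩) (.one ⟨5579, 4, 5⟩)) (.node 1 (.one ⟨13153, 3, 5⟩) (.one ⟨10493, 1, 6⟩))) (.node 2 (.node 1 (.one ⟨7217, 0, 6⟩) (.one ⟨7803, 4, 5⟩)) (.node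 1 (.one ⟨6305, 2, 6⟩) (.one ⟨387, 0, 6⟩))))) (.node 8 (.node 4 (.node 2 (.node 1 (.one ⟨4646, 4, 5⟩) (.one ⟨9295, 4, 3⟩)) (.node 1 (.one ⟨12655, 4, 6⟩) (.one ⟨3058, 4, 6⟩))) (.node 2 (.node 1 (.one ⟨12764, 1, 4⟩) (.one ⟨11156, 4, 4⟩)) (.node 1 (.one ⟨2438, 3, 6⟩) (.one ⟨5473, 4, 6⟩)))) (.node 4 (.node 2 (.node 1 (.one ⟨12777, 0, 6⟩) (.one ⟨15496, 2, 2⟩)) (.node 1 (.one ⟨16437, 1, 5⟩) (.one ⟨8601, 1, 6⟩))) (.node 2 (.node 1 (.one ⟨6451, 0, 6⟩) (.one ⟨12734, 1, 5⟩)) (.node 1 (.one ⟨14105, 1, 7⟩) (.one ⟨1139, 3, 5⟩)))))))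
def par1_2_5 : Arr Par :=
  (.node 32 (.node 16 (.node 8 (.node 4 (.node 2 (.node 1 (.one ⟨2739, 3, 3⟩) (.one ⟨8502, 0, 4⟩)) (.node 1 (.one ⟨5399, 2, 6⟩) (.one ⟨2285, 0, 6⟩))) (.node 2 (.node 1 (.one ⟨1107, 2, 6⟩) (.one ⟨12750, 0, 5⟩)) (.node 1 (.one ⟨13511, 3, 2⟩) (.one ⟨55, 0, 7⟩)))) (.node 4 (.node 2 (.node 1 (.one ⟨14565, 0, 5⟩) (.one ⟨8598, 0, 6⟩)) (.node 1 (.one ⟨1611, 3, 6⟩) (.one ⟨2295, 0, 4⟩))) (.node 2 (.node 1 (.one ⟨4916, 3, 6⟩) (.one ⟨1450, 2, 6⟩)) (.node 1 (.one ⟨1569, 4, 6⟩) (.one ⟨14475, 4, 4⟩))))) (.node 8 (.node 4 (.node 2 (.node 1 (.one ⟨7465, 2, 2⟩) (.one ⟨5959, 1, 2⟩)) (.node 1 (.one ⟨1199, 4, 3⟩) (.one ⟨4076, 4, 5⟩))) (.node 2 (.node 1 (.one ⟨12762, 1, 4⟩) (.one ⟨10207, 2, 4⟩)) (.node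 1 (.one ⟨15692, 4, 4⟩) (.one ⟨6897, 3, 5⟩)))) (.node 4 (.node 2 (.node 1 (.one ⟨16226, 3, 6⟩) (.one ⟨3646, 4, 5⟩)) (.node 1 (.one ⟨5496, 4, 5⟩) (.one ⟨1976, 3, 6⟩))) (.node 2 (.node 1 (.one ⟨13121, 3, 6⟩) (.one ⟨16327, 3, 3⟩)) (.node 1 (.one ⟨3022, 4, 6⟩) (.one ⟨6179, 2, 5⟩)))))) (.node 16 (.node 8 (.node 4 (.node 2 (.node 1 (.one ⟨620, 1, 5⟩) (.one ⟨12737, 0, 4⟩)) (.node 1 (.one ⟨5153, 0, 5⟩) (.one ⟨7189, 2, 6⟩))) (.node 2 (.node 1 (.one ⟨16282, 3, 6⟩) (.one ⟨6133, 2, 6⟩)) (.node 1 (.one ⟨10543, 4, 5⟩) (.one ⟨2003, 2, 5⟩)))) (.node 4 (.node 2 (.node 1 (.one ⟨5995, 1, 5⟩) (.one ⟨17152, 3, 5⟩)) (.node 1 (.one ⟨13735, 1, 5⟩) (.one ⟨1814, 3, 6⟩))) (.node 2 (.node 1 (.one ⟨12726, 1, 6⟩) (.one ⟨17190, 4, 5⟩)) (.node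 1 (.one ⟨1812, 3, 5⟩) (.one ⟨6045, 1, 6⟩))))) (.node 8 (.node 4 (.node 2 (.node 1 (.one ⟨16681, 1, 6⟩) (.one ⟨12743, 0, 6⟩)) (.node 1 (.one ⟨14478, 4, 5⟩) (.one ⟨1137, 4, 6⟩))) (.node 2 (.node 1 (.one ⟨3990, 3, 4⟩) (.one ⟨12689, 3, 5⟩)) (.node 1 (.one ⟨14706, 3, 6⟩) (.one ⟨560, 0, 7⟩)))) (.node 4 (.node 2 (.node 1 (.one ⟨14045, 0, 4⟩) (.one ⟨15013, 3, 6⟩)) (.node 1 (.one ⟨3027, 3, 6⟩) (.one ⟨12771, 0, 4⟩))) (.node 2 (.node 1 (.one ⟨16448, 1, 5⟩) (.one ⟨855, 1, 5⟩)) (.node 1 (.one ⟨5963, 1, 6⟩) (.one ⟨293, 2, 5⟩)))))))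
def par1_2_6 : Arr Par :=
  (.node 32 (.node 16 (.node 8 (.node 4 (.node 2 (.node 1 (.one ⟨3439, 3, 5⟩) (.one ⟨16655, 0, 5⟩)) (.node 1 (.one ⟨12087, 4, 4⟩) (.one ⟨11131, 3, 5⟩))) (.node 2 (.node 1 (.one ⟨242, 4, 6⟩) (.one ⟨12758, 1, 6⟩)) (.node 1 (.one ⟨12093, 4, 5⟩) (.one ⟨12781, 0, 6⟩)))) (.node 4 (.node 2 (.node 1 (.one ⟨2304, 0, 5⟩) (.one ⟨5964, 0, 4⟩)) (.node 1 (.one ⟨17153, 0, 4⟩) (.one ⟨16564, 0, 4⟩))) (.node 2 (.node 1 (.one ⟨9987, 3, 5⟩) (.one ⟨11515, 2, 5⟩)) (.node 1 (.one ⟨13129, 0, 6⟩) (.one ⟨10703, 2, 5⟩))))) (.node 8 (.node 4 (.node 2 (.node 1 (.one ⟨14893, 2, 4⟩) (.one ⟨13034, 1, 6⟩)) (.node 1 (.one ⟨9166, 3, 5⟩) (.one ⟨4581, 2, 6⟩))) (.node 2 (.node 1 (.one ⟨11168, 3, 7⟩) (.one ⟨8567, 2, 3⟩))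 (.node 1 (.one ⟨5147, 0, 7⟩) (.one ⟨8399, 1, 5⟩)))) (.node 4 (.node 2 (.node 1 (.one ⟨5680, 2, 2⟩) (.one ⟨11666, 4, 5⟩)) (.node 1 (.one ⟨13978, 4, 5⟩) (.one ⟨6294, 4, 6⟩))) (.node 2 (.node 1 (.one ⟨13285, 2, 6⟩) (.one ⟨4827, 4, 5⟩)) (.node 1 (.one ⟨6820, 4, 6⟩) (.one ⟨1959, 1, 5⟩)))))) (.node 16 (.node 8 (.node 4 (.node 2 (.node 1 (.one ⟨9277, 2, 6⟩) (.one ⟨8487, 4, 5⟩)) (.node 1 (.one ⟨15759, 3, 5⟩) (.one ⟨6589, 4, 5⟩))) (.node 2 (.node 1 (.one ⟨3186, 3, 6⟩) (.one ⟨14672, 4, 5⟩)) (.node 1 (.one ⟨6625, 4, 3⟩) (.one ⟨1856, 2, 4⟩)))) (.node 4 (.node 2 (.node 1 (.one ⟨11591, 2, 4⟩) (.one ⟨14703, 4, 4⟩)) (.node 1 (.one ⟨5042, 0, 6⟩) (.one ⟨13449, 4, 5⟩))) (.node 2 (.node 1 (.one ⟨3055, 4, 6⟩) (.one ⟨8409, 1, 7⟩))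 (.node 1 (.one ⟨8280, 3, 4⟩) (.one ⟨12734, 0, 5⟩))))) (.node 8 (.node 4 (.node 2 (.node 1 (.one ⟨14105, 0, 7⟩) (.one ⟨17163, 2, 5⟩)) (.node 1 (.one ⟨7971, 2, 5⟩) (.one ⟨12597, 3, 6⟩))) (.node 2 (.node 1 (.one ⟨9858, 1, 6⟩) (.one ⟨9952, 0, 5⟩)) (.node 1 (.one ⟨16437, 0, 5⟩) (.one ⟨9971, 0, 5⟩)))) (.node 4 (.node 2 (.node 1 (.one ⟨13598, 3, 5⟩) (.one ⟨4482, 3, 4⟩)) (.node 1 (.one ⟨14943, 4, 7⟩) (.one ⟨10834, 4, 6⟩))) (.node 2 (.node 1 (.one ⟨13566, 1, 5⟩) (.one ⟨5259, 3, 5⟩)) (.node 1 (.one ⟨17003, 1, 6⟩) (.one ⟨13735, 0, 5⟩)))))))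
def par1_2_7 : Arr Par :=
  (.node 32 (.node 16 (.node 8 (.node 4 (.node 2 (.node 1 (.one ⟨8569, 4, 4⟩) (.one ⟨13538, 4, 6⟩)) (.node 1 (.one ⟨5995, 0, 5⟩) (.one ⟨10711, 1, 5⟩))) (.node 2 (.node 1 (.one ⟨7758, 4, 5⟩) (.one ⟨16618, 0, 7⟩)) (.node 1 (.one ⟨362, 4, 6⟩) (.one ⟨1959, 0, 5⟩)))) (.node 4 (.node 2 (.node 1 (.one ⟨8063, 2, 6⟩) (.one ⟨4012, 4, 5⟩)) (.node 1 (.one ⟨8540, 0, 6⟩) (.one ⟨8279, 3, 6⟩))) (.node 2 (.node 1 (.one ⟨14423, 1, 5⟩) (.one ⟨4841, 1, 6⟩)) (.node 1 (.one ⟨9163, 3, 5⟩) (.one ⟨1987, 3, 7⟩))))) (.node 8 (.node 4 (.node 2 (.node 1 (.one ⟨3422, 4, 6⟩) (.one ⟨7376, 2, 4⟩)) (.node 1 (.one ⟨14458, 1, 5⟩) (.one ⟨855, 0, 5⟩))) (.node 2 (.node 1 (.one ⟨10675, 1, 6⟩) (.one ⟨3695, 4, 6⟩)) (.node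 1 (.one ⟨11526, 2, 5⟩) (.one ⟨6160, 1, 4⟩)))) (.node 4 (.node 2 (.node 1 (.one ⟨5383, 3, 5⟩) (.one ⟨14385, 1, 6⟩)) (.node 1 (.one ⟨16948, 1, 5⟩) (.one ⟨9935, 4, 6⟩))) (.node 2 (.node 1 (.one ⟨11301, 2, 5⟩) (.one ⟨5386, 3, 5⟩)) (.node 1 (.one ⟨12764, 0, 4⟩) (.one ⟨4385, 3, 5⟩)))))) (.node 16 (.node 8 (.node 4 (.node 2 (.node 1 (.one ⟨10850, 3, 6⟩) (.one ⟨5532, 3, 6⟩)) (.node 1 (.one ⟨9056, 4, 5⟩) (.one ⟨5437, 2, 4⟩))) (.node 2 (.node 1 (.one ⟨12942, 1, 5⟩) (.one ⟨1027, 4, 6⟩)) (.node 1 (.one ⟨2615, 1, 5⟩) (.one ⟨7753, 2, 5⟩)))) (.node 4 (.node 2 (.node 1 (.one ⟨1094, 4, 3⟩) (.one ⟨12754, 0, 6⟩)) (.node 1 (.one ⟨10222, 4, 5⟩) (.one ⟨13196, 2, 2⟩))) (.node 2 (.node 1 (.one ⟨10793, 1, 5⟩) (.one ⟨5998, 4, 6⟩)) (.node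 1 (.one ⟨4539, 2, 4⟩) (.one ⟨6489, 3, 4⟩))))) (.node 8 (.node 4 (.node 2 (.node 1 (.one ⟨557, 0, 6⟩) (.one ⟨8967, 1, 3⟩)) (.node 1 (.one ⟨988, 3, 6⟩) (.one ⟨4859, 1, 3⟩))) (.node 2 (.node 1 (.one ⟨7968, 2, 4⟩) (.one ⟨14457, 3, 6⟩)) (.node 1 (.one ⟨6393, 1, 3⟩) (.one ⟨9404, 2, 4⟩)))) (.node 4 (.node 2 (.node 1 (.one ⟨15199, 2, 4⟩) (.one ⟨3914, 3, 6⟩)) (.node 1 (.one ⟨12757, 0, 5⟩) (.one ⟨7206, 2, 5⟩))) (.node 2 (.node 1 (.one ⟨9994, 0, 6⟩) (.one ⟨16251, 3, 5⟩)) (.node 1 (.one ⟨4902, 2, 6⟩) (.one ⟨9721, 4, 6⟩)))))))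
def par1_2_8 : Arr Par :=
  (.node 32 (.node 16 (.node 8 (.node 4 (.node 2 (.node 1 (.one ⟨13078, 0, 6⟩) (.one ⟨8399, 0, 5⟩)) (.node 1 (.one ⟨1874, 0, 5⟩) (.one ⟨11603, 3, 5⟩))) (.node 2 (.node 1 (.one ⟨1061, 0, 5⟩) (.one ⟨14177, 1, 4⟩)) (.node 1 (.one ⟨12530, 4, 5⟩) (.one ⟨5959, 0, 2⟩)))) (.node 4 (.node 2 (.node 1 (.one ⟨2335, 4, 4⟩) (.one ⟨8100, 4, 4⟩)) (.node 1 (.one ⟨12762, 0, 4⟩) (.one ⟨10339, 4, 4⟩))) (.node 2 (.node 1 (.one ⟨7842, 2, 3⟩) (.one ⟨1094, 3, 3⟩)) (.node 1 (.one ⟨16104, 4, 5⟩) (.one ⟨9871, 1, 4⟩))))) (.node 8 (.node 4 (.node 2 (.node 1 (.one ⟨8605, 3, 6⟩) (.one ⟨1892, 3, 6⟩)) (.node 1 (.one ⟨2830, 4, 5⟩) (.one ⟨8419, 3, 6⟩))) (.node 2 (.node 1 (.one ⟨254, 2, 5⟩) (.one ⟨14055, 0, 5⟩)) (.node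 1 (.one ⟨1459, 3, 4⟩) (.one ⟨3061, 4, 5⟩)))) (.node 4 (.node 2 (.node 1 (.one ⟨16759, 1, 6⟩) (.one ⟨17098, 4, 5⟩)) (.node 1 (.one ⟨6862, 4, 4⟩) (.one ⟨2005, 2, 6⟩))) (.node 2 (.node 1 (.one ⟨4790, 1, 6⟩) (.one ⟨9981, 0, 5⟩)) (.node 1 (.one ⟨9438, 4, 4⟩) (.one ⟨5631, 3, 4⟩)))))) (.node 16 (.node 8 (.node 4 (.node 2 (.node 1 (.one ⟨9910, 0, 5⟩) (.one ⟨12617, 3, 6⟩)) (.node 1 (.one ⟨9056, 3, 5⟩) (.one ⟨2367, 4, 6⟩))) (.node 2 (.node 1 (.one ⟨14156, 1, 5⟩) (.one ⟨8998, 1, 6⟩)) (.node 1 (.one ⟨7363, 3, 5⟩) (.one ⟨4887, 2, 5⟩)))) (.node 4 (.node 2 (.node 1 (.one ⟨8621, 0, 5⟩) (.one ⟨2469, 2, 6⟩)) (.node 1 (.one ⟨13034, 0, 6⟩) (.one ⟨1402, 2, 4⟩))) (.node 2 (.node 1 (.one ⟨3812, 2, 5⟩) (.one ⟨14400, 1, 4⟩)) (.node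 1 (.one ⟨3450, 2, 4⟩) (.one ⟨5117, 3, 6⟩))))) (.node 8 (.node 4 (.node 2 (.node 1 (.one ⟨7778, 2, 5⟩) (.one ⟨3171, 3, 6⟩)) (.node 1 (.one ⟨11227, 1, 6⟩) (.one ⟨14568, 2, 4⟩))) (.node 2 (.node 1 (.one ⟨16909, 4, 6⟩) (.one ⟨12922, 3, 5⟩)) (.node 1 (.one ⟨4921, 3, 7⟩) (.one ⟨149, 1, 4⟩)))) (.node 4 (.node 2 (.node 1 (.one ⟨16433, 2, 7⟩) (.one ⟨14971, 0, 6⟩)) (.node 1 (.one ⟨2350, 0, 7⟩) (.one ⟨826, 0, 7⟩))) (.node 2 (.node 1 (.one ⟨3137, 1, 6⟩) (.one ⟨14975, 1, 6⟩)) (.node 1 (.one ⟨7361, 3, 6⟩) (.one ⟨10624, 1, 6⟩)))))))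
def par1_2_9 : Arr Par :=
  (.node 32 (.node 16 (.node 8 (.node 4 (.node 2 (.node 1 (.one ⟨9923, 3, 7⟩) (.one ⟨15073, 3, 6⟩)) (.node 1 (.one ⟨2322, 0, 5⟩) (.one ⟨4660, 4, 4⟩))) (.node 2 (.node 1 (.one ⟨6283, 3, 6⟩) (.one ⟨14963, 0, 5⟩)) (.node 1 (.one ⟨14045, 4, 4⟩) (.one ⟨2384, 3, 3⟩)))) (.node 4 (.node 2 (.node 1 (.one ⟨7241, 0, 6⟩) (.one ⟨5712, 3, 5⟩)) (.node 1 (.one ⟨4648, 3, 6⟩) (.one ⟨6418, 4, 4⟩))) (.node 2 (.node 1 (.one ⟨234, 1, 5⟩) (.one ⟨14230, 3, 5⟩)) (.node 1 (.one ⟨13052, 3, 5⟩) (.one ⟨6490, 1, 3⟩))))) (.node 8 (.node 4 (.node 2 (.node 1 (.one ⟨15622, 0, 6⟩) (.one ⟨14421, 4, 4⟩)) (.node 1 (.one ⟨13720, 1, 6⟩) (.one ⟨13434, 3, 5⟩))) (.node 2 (.node 1 (.one ⟨10789, 2, 6⟩) (.one ⟨6324, 4, 7⟩)) (.node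 1 (.one ⟨5965, 3, 5⟩) (.one ⟨14275, 2, 6⟩)))) (.node 4 (.node 2 (.node 1 (.one ⟨15292, 0, 5⟩) (.one ⟨14962, 0, 4⟩)) (.node 1 (.one ⟨13595, 2, 6⟩) (.one ⟨1886, 0, 5⟩))) (.node 2 (.node 1 (.one ⟨14982, 1, 6⟩) (.one ⟨15643, 0, 6⟩)) (.node 1 (.one ⟨14705, 3, 4⟩) (.one ⟨13683, 1, 3⟩)))))) (.node 16 (.node 8 (.node 4 (.node 2 (.node 1 (.one ⟨6193, 3, 5⟩) (.one ⟨10578, 3, 6⟩)) (.node 1 (.one ⟨441, 0, 5⟩) (.one ⟨5432, 4, 5⟩))) (.node 2 (.node 1 (.one ⟨12903, 2, 5⟩) (.one ⟨15647, 0, 5⟩)) (.node 1 (.one ⟨5376, 3, 6⟩) (.one ⟨7307, 0, 6⟩)))) (.node 4 (.node 2 (.node 1 (.one ⟨5553, 4, 6⟩) (.one ⟨10851, 2, 6⟩)) (.node 1 (.one ⟨13434, 2, 5⟩) (.one ⟨7389, 4, 6⟩))) (.node 2 (.node 1 (.one ⟨13871, 2, 6⟩) (.one ⟨13115, 4, 6⟩))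 (.node 1 (.one ⟨7284, 1, 5⟩) (.one ⟨5784, 4, 3⟩))))) (.node 8 (.node 4 (.node 2 (.node 1 (.one ⟨11528, 1, 6⟩) (.one ⟨17137, 3, 6⟩)) (.node 1 (.one ⟨6762, 1, 5⟩) (.one ⟨3339, 2, 6⟩))) (.node 2 (.node 1 (.one ⟨14862, 0, 4⟩) (.one ⟨2420, 0, 5⟩)) (.node 1 (.one ⟨8860, 3, 6⟩) (.one ⟨3289, 3, 3⟩)))) (.node 4 (.node 2 (.node 1 (.one ⟨14826, 0, 5⟩) (.one ⟨11857, 4, 6⟩)) (.node 1 (.one ⟨13892, 3, 6⟩) (.one ⟨3523, 4, 6⟩))) (.node 2 (.node 1 (.one ⟨11559, 1, 6⟩) (.one ⟨15376, 2, 7⟩)) (.node 1 (.one ⟨14672, 3, 5⟩) (.one ⟨2384, 4, 3⟩)))))))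
def par1_2_10 : Arr Par :=
  (.node 32 (.node 16 (.node 8 (.node 4 (.node 2 (.node 1 (.one ⟨11538, 4, 5⟩) (.one ⟨1933, 3, 5⟩)) (.node 1 (.one ⟨5006, 2, 5⟩) (.one ⟨12365, 2, 7⟩))) (.node 2 (.node 1 (.one ⟨11210, 2, 5⟩) (.one ⟨2447, 1, 6⟩)) (.node 1 (.one ⟨14687, 2, 6⟩) (.one ⟨6163, 1, 6⟩)))) (.node 4 (.node 2 (.node 1 (.one ⟨12972, 4, 6⟩) (.one ⟨6163, 0, 6⟩)) (.node 1 (.one ⟨11523, 0, 5⟩) (.one ⟨5224, 2, 6⟩))) (.node 2 (.node 1 (.one ⟨1256, 3, 5⟩) (.one ⟨11128, 4, 6⟩)) (.node 1 (.one ⟨1176, 3, 6⟩) (.one ⟨5018, 2, 6⟩))))) (.node 8 (.node 4 (.node 2 (.node 1 (.one ⟨2761, 3, 5⟩) (.one ⟨4658, 2, 6⟩)) (.node 1 (.one ⟨1992, 4, 5⟩) (.one ⟨1867, 2, 5⟩))) (.node 2 (.node 1 (.one ⟨15131, 0, 5⟩) (.one ⟨10483, 0, 5⟩)) (.node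 1 (.one ⟨14670, 3, 5⟩) (.one ⟨10504, 3, 6⟩)))) (.node 4 (.node 2 (.node 1 (.one ⟨15688, 4, 7⟩) (.one ⟨9226, 2, 6⟩)) (.node 1 (.one ⟨2447, 0, 6⟩) (.one ⟨6151, 4, 3⟩))) (.node 2 (.node 1 (.one ⟨15501, 3, 3⟩) (.one ⟨8285, 2, 4⟩)) (.node 1 (.one ⟨16327, 4, 3⟩) (.one ⟨8856, 4, 5⟩)))))) (.node 16 (.node 8 (.node 4 (.node 2 (.node 1 (.one ⟨3634, 4, 5⟩) (.one ⟨6112, 4, 5⟩)) (.node 1 (.one ⟨90, 2, 6⟩) (.one ⟨9885, 2, 6⟩))) (.node 2 (.node 1 (.one ⟨11848, 3, 7⟩) (.one ⟨13571, 3, 5⟩)) (.node 1 (.one ⟨14826, 1, 5⟩) (.one ⟨5480, 3, 2⟩)))) (.node 4 (.node 2 (.node 1 (.one ⟨7, 0, 0⟩) (.one ⟨7465, 3, 2⟩)) (.node 1 (.one ⟨8522, 2, 3⟩) (.one ⟨2035, 4, 5⟩))) (.node 2 (.node 1 (.one ⟨6493, 4, 4⟩) (.one ⟨765, 4, 5⟩)) (.node 1 (.one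 ⟨6333, 4, 4⟩) (.one ⟨4275, 1, 5⟩))))) (.node 8 (.node 4 (.node 2 (.node 1 (.one ⟨14952, 2, 6⟩) (.one ⟨15956, 3, 4⟩)) (.node 1 (.one ⟨14312, 1, 7⟩) (.one ⟨13196, 1, 2⟩))) (.node 2 (.node 1 (.one ⟨14262, 4, 6⟩) (.one ⟨6117, 3, 6⟩)) (.node 1 (.one ⟨8243, 4, 5⟩) (.one ⟨1561, 4, 5⟩)))) (.node 4 (.node 2 (.node 1 (.one ⟨14046, 2, 5⟩) (.one ⟨4752, 4, 5⟩)) (.node 1 (.one ⟨7442, 4, 6⟩) (.one ⟨1985, 2, 5⟩))) (.node 2 (.node 1 (.one ⟨5468, 3, 7⟩) (.one ⟨15967, 1, 6⟩)) (.node 1 (.one ⟨7519, 1, 5⟩) (.one ⟨5106, 1, 2⟩)))))))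
def par1_2_11 : Arr Par :=
  (.node 32 (.node 16 (.node 8 (.node 4 (.node 2 (.node 1 (.one ⟨1172, 4, 5⟩) (.one ⟨5836, 2, 5⟩)) (.node 1 (.one ⟨671, 1, 5⟩) (.one ⟨12451, 1, 7⟩))) (.node 2 (.node 1 (.one ⟨15565, 1, 5⟩) (.one ⟨1313, 2, 5⟩)) (.node 1 (.one ⟨7480, 2, 6⟩) (.one ⟨6237, 3, 6⟩)))) (.node 4 (.node 2 (.node 1 (.one ⟨4002, 3, 6⟩) (.one ⟨6786, 3, 4⟩)) (.node 1 (.one ⟨6778, 2, 5⟩) (.one ⟨15748, 3, 6⟩))) (.node 2 (.node 1 (.one ⟨9489, 3, 6⟩) (.one ⟨17053, 3, 4⟩)) (.node 1 (.one ⟨864, 2, 6⟩) (.one ⟨8341, 3, 6⟩))))) (.node 8 (.node 4 (.node 2 (.node 1 (.one ⟨10490, 3, 6⟩) (.one ⟨480, 3, 6⟩)) (.node 1 (.one ⟨13186, 1, 5⟩) (.one ⟨15534, 0, 6⟩))) (.node 2 (.node 1 (.one ⟨259, 1, 5⟩) (.one ⟨2879, 1, 6⟩)) (.node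 1 (.one ⟨12015, 2, 4⟩) (.one ⟨9255, 3, 6⟩)))) (.node 4 (.node 2 (.node 1 (.one ⟨10964, 2, 7⟩) (.one ⟨11260, 3, 5⟩)) (.node 1 (.one ⟨5612, 4, 5⟩) (.one ⟨15971, 1, 6⟩))) (.node 2 (.node 1 (.one ⟨11301, 3, 5⟩) (.one ⟨9325, 3, 5⟩)) (.node 1 (.one ⟨15837, 0, 7⟩) (.one ⟨8047, 2, 5⟩)))))) (.node 16 (.node 8 (.node 4 (.node 2 (.node 1 (.one ⟨13006, 3, 5⟩) (.one ⟨3051, 3, 6⟩)) (.node 1 (.one ⟨9142, 3, 5⟩) (.one ⟨4385, 1, 5⟩))) (.node 2 (.node 1 (.one ⟨4621, 2, 5⟩) (.one ⟨15143, 4, 7⟩)) (.node 1 (.one ⟨11569, 3, 6⟩) (.one ⟨6150, 4, 6⟩)))) (.node 4 (.node 2 (.node 1 (.one ⟨14224, 3, 6⟩) (.one ⟨4853, 4, 5⟩)) (.node 1 (.one ⟨12953, 2, 5⟩) (.one ⟨15973, 1, 7⟩))) (.node 2 (.node 1 (.one ⟨4954, 2, 4⟩) (.one ⟨14649, 3, 6⟩))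 (.node 1 (.one ⟨17088, 2, 6⟩) (.one ⟨8101, 2, 5⟩))))) (.node 8 (.node 4 (.node 2 (.node 1 (.one ⟨6159, 3, 6⟩) (.one ⟨1909, 4, 5⟩)) (.node 1 (.one ⟨15737, 2, 5⟩) (.one ⟨4844, 1, 6⟩))) (.node 2 (.node 1 (.one ⟨3375, 4, 6⟩) (.one ⟨13418, 2, 6⟩)) (.node 1 (.one ⟨8283, 3, 5⟩) (.one ⟨1011, 2, 6⟩)))) (.node 4 (.node 2 (.node 1 (.one ⟨5968, 4, 6⟩) (.one ⟨15019, 3, 6⟩)) (.node 1 (.one ⟨4741, 3, 5⟩) (.one ⟨5791, 2, 4⟩))) (.node 2 (.node 1 (.one ⟨5794, 2, 6⟩) (.one ⟨1009, 2, 5⟩)) (.node 1 (.one ⟨9629, 4, 6⟩) (.one ⟨3395, 4, 6⟩)))))))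
def par1_2_12 : Arr Par :=
  (.node 32 (.node 16 (.node 8 (.node 4 (.node 2 (.node 1 (.one ⟨12490, 3, 5⟩) (.one ⟨3061, 3, 5⟩)) (.node 1 (.one ⟨8819, 4, 7⟩) (.one ⟨7796, 4, 5⟩))) (.node 2 (.node 1 (.one ⟨5575, 0, 5⟩) (.one ⟨4102, 3, 6⟩)) (.node 1 (.one ⟨3426, 1, 3⟩) (.one ⟨5453, 3, 6⟩)))) (.node 4 (.node 2 (.node 1 (.one ⟨454, 3, 6⟩) (.one ⟨4832, 2, 5⟩)) (.node 1 (.one ⟨17097, 3, 4⟩) (.one ⟨15233, 4, 6⟩))) (.node 2 (.node 1 (.one ⟨17125, 3, 6⟩) (.one ⟨11814, 0, 6⟩)) (.node 1 (.one ⟨9076, 0, 4⟩) (.one ⟨2302, 2, 4⟩))))) (.node 8 (.node 4 (.node 2 (.node 1 (.one ⟨5557, 0, 6⟩) (.one ⟨7192, 0, 4⟩)) (.node 1 (.one ⟨12488, 3, 5⟩) (.one ⟨306, 4, 4⟩))) (.node 2 (.node 1 (.one ⟨3168, 0, 7⟩) (.one ⟨17088, 3, 6⟩)) (.node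 1 (.one ⟨7825, 4, 6⟩) (.one ⟨13635, 0, 6⟩)))) (.node 4 (.node 2 (.node 1 (.one ⟨4067, 4, 6⟩) (.one ⟨13955, 4, 6⟩)) (.node 1 (.one ⟨2953, 2, 5⟩) (.one ⟨5524, 1, 6⟩))) (.node 2 (.node 1 (.one ⟨2879, 2, 6⟩) (.one ⟨10126, 2, 6⟩)) (.node 1 (.one ⟨9682, 2, 5⟩) (.one ⟨11206, 0, 6⟩)))))) (.node 16 (.node 8 (.node 4 (.node 2 (.node 1 (.one ⟨7034, 3, 5⟩) (.one ⟨12854, 1, 5⟩)) (.node 1 (.one ⟨17180, 0, 6⟩) (.one ⟨11736, 3, 6⟩))) (.node 2 (.node 1 (.one ⟨6244, 3, 6⟩) (.one ⟨11809, 2, 6⟩)) (.node 1 (.one ⟨11017, 4, 6⟩) (.one ⟨3634, 2, 5⟩)))) (.node 4 (.node 2 (.node 1 (.one ⟨11224, 0, 5⟩) (.one ⟨11752, 2, 5⟩)) (.node 1 (.one ⟨5589, 0, 4⟩) (.one ⟨7971, 0, 5⟩))) (.node 2 (.node 1 (.one ⟨5102, 4, 4⟩) (.one ⟨3682, 2, 6⟩)) (.node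 1 (.one ⟨3723, 0, 4⟩) (.one ⟨13282, 2, 5⟩))))) (.node 8 (.node 4 (.node 2 (.node 1 (.one ⟨5086, 0, 2⟩) (.one ⟨6291, 4, 6⟩)) (.node 1 (.one ⟨13241, 4, 5⟩) (.one ⟨4829, 4, 7⟩))) (.node 2 (.node 1 (.one ⟨10711, 3, 5⟩) (.one ⟨12878, 2, 7⟩)) (.node 1 (.one ⟨2104, 2, 1⟩) (.one ⟨8601, 2, 6⟩)))) (.node 4 (.node 2 (.node 1 (.one ⟨7956, 0, 5⟩) (.one ⟨3020, 2, 6⟩)) (.node 1 (.one ⟨1715, 3, 6⟩) (.one ⟨2013, 3, 5⟩))) (.node 2 (.node 1 (.one ⟨3750, 4, 7⟩) (.one ⟨16752, 4, 5⟩)) (.node 1 (.one ⟨8385, 1, 6⟩) (.one ⟨13654, 2, 5⟩)))))))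
def par1_2_13 : Arr Par :=
  (.node 32 (.node 16 (.node 8 (.node 4 (.node 2 (.node 1 (.one ⟨6308, 2, 5⟩) (.one ⟨14091, 2, 5⟩)) (.node 1 (.one ⟨4323, 1, 5⟩) (.one ⟨7953, 0, 4⟩))) (.node 2 (.node 1 (.one ⟨10555, 2, 6⟩) (.one ⟨1180, 2, 4⟩)) (.node 1 (.one ⟨369, 1, 6⟩) (.one ⟨3637, 2, 6⟩)))) (.node 4 (.node 2 (.node 1 (.one ⟨15947, 4, 4⟩) (.one ⟨9142, 2, 5⟩)) (.node 1 (.one ⟨3016, 2, 7⟩) (.one ⟨10040, 4, 5⟩))) (.node 2 (.node 1 (.one ⟨11680, 3, 6⟩) (.one ⟨13162, 1, 5⟩)) (.node 1 (.one ⟨12372, 1, 5⟩) (.one ⟨15253, 4, 6⟩))))) (.node 8 (.node 4 (.node 2 (.node 1 (.one ⟨7945, 3, 4⟩) (.one ⟨16466, 4, 5⟩)) (.node 1 (.one ⟨1671, 4, 5⟩) (.one ⟨12971, 3, 6⟩))) (.node 2 (.node 1 (.one ⟨12463, 2, 7⟩) (.one ⟨599, 3, 5⟩)) (.node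 1 (.one ⟨1455, 4, 4⟩) (.one ⟨16756, 4, 5⟩)))) (.node 4 (.node 2 (.node 1 (.one ⟨16014, 1, 6⟩) (.one ⟨15710, 0, 6⟩)) (.node 1 (.one ⟨6194, 1, 6⟩) (.one ⟨8483, 3, 6⟩))) (.node 2 (.node 1 (.one ⟨11009, 1, 6⟩) (.one ⟨7170, 0, 6⟩)) (.node 1 (.one ⟨5092, 1, 6⟩) (.one ⟨1567, 2, 6⟩)))))) (.node 16 (.node 8 (.node 4 (.node 2 (.node 1 (.one ⟨7119, 0, 5⟩) (.one ⟨13592, 4, 6⟩)) (.node 1 (.one ⟨9997, 3, 5⟩) (.one ⟨5327, 3, 6⟩))) (.node 2 (.node 1 (.one ⟨3515, 2, 6⟩) (.one ⟨5046, 0, 6⟩)) (.node 1 (.one ⟨7596, 0, 5⟩) (.one ⟨7556, 2, 5⟩)))) (.node 4 (.node 2 (.node 1 (.one ⟨4309, 2, 6⟩) (.one ⟨7340, 2, 4⟩)) (.node 1 (.one ⟨4013, 2, 7⟩) (.one ⟨7548, 0, 5⟩))) (.node 2 (.node 1 (.one ⟨16277, 3, 5⟩) (.one ⟨5279, 3, 4⟩)) (.node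 1 (.one ⟨7987, 2, 3⟩) (.one ⟨13511, 1, 2⟩))))) (.node 8 (.node 4 (.node 2 (.node 1 (.one ⟨4603, 2, 5⟩) (.one ⟨1085, 4, 6⟩)) (.node 1 (.one ⟨11164, 2, 6⟩) (.one ⟨5522, 0, 6⟩))) (.node 2 (.node 1 (.one ⟨13142, 3, 6⟩) (.one ⟨3340, 3, 6⟩)) (.node 1 (.one ⟨11868, 2, 6⟩) (.one ⟨13096, 3, 5⟩)))) (.node 4 (.node 2 (.node 1 (.one ⟨11752, 4, 5⟩) (.one ⟨15336, 4, 6⟩)) (.node 1 (.one ⟨9704, 2, 6⟩) (.one ⟨14182, 2, 5⟩))) (.node 2 (.node 1 (.one ⟨3208, 3, 5⟩) (.one ⟨244, 2, 5⟩)) (.node 1 (.one ⟨14152, 2, 5⟩) (.one ⟨12951, 1, 5⟩)))))))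
def par1_2_14 : Arr Par :=
  (.node 32 (.node 16 (.node 8 (.node 4 (.node 2 (.node 1 (.one ⟨4623, 2, 5⟩) (.one ⟨14511, 4, 6⟩)) (.node 1 (.one ⟨12335, 3, 5⟩) (.one ⟨15875, 0, 6⟩))) (.node 2 (.node 1 (.one ⟨13597, 0, 4⟩) (.one ⟨3031, 2, 6⟩)) (.node 1 (.one ⟨2212, 1, 4⟩) (.one ⟨216, 3, 6⟩)))) (.node 4 (.node 2 (.node 1 (.one ⟨7825, 0, 6⟩) (.one ⟨8280, 2, 4⟩)) (.node 1 (.one ⟨564, 3, 5⟩) (.one ⟨11909, 1, 6⟩))) (.node 2 (.node 1 (.one ⟨6216, 2, 7⟩) (.one ⟨16405, 4, 5⟩)) (.node 1 (.one ⟨885, 3, 5⟩) (.one ⟨10034, 4, 6⟩))))) (.node 8 (.node 4 (.node 2 (.node 1 (.one ⟨4049, 4, 1⟩) (.one ⟨16956, 2, 5⟩)) (.node 1 (.one ⟨13324, 0, 5⟩) (.one ⟨13560, 0, 4⟩))) (.node 2 (.node 1 (.one ⟨11317, 0, 6⟩) (.one ⟨8012, 0, 5⟩)) (.node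 1 (.one ⟨11517, 1, 6⟩) (.one ⟨9313, 2, 6⟩)))) (.node 4 (.node 2 (.node 1 (.one ⟨1674, 4, 6⟩) (.one ⟨4790, 2, 6⟩)) (.node 1 (.one ⟨15531, 4, 7⟩) (.one ⟨6933, 4, 4⟩))) (.node 2 (.node 1 (.one ⟨4582, 2, 6⟩) (.one ⟨11464, 0, 5⟩)) (.node 1 (.one ⟨8225, 3, 4⟩) (.one ⟨5293, 0, 6⟩)))))) (.node 16 (.node 8 (.node 4 (.node 2 (.node 1 (.one ⟨5233, 4, 5⟩) (.one ⟨5188, 4, 5⟩)) (.node 1 (.one ⟨4066, 1, 6⟩) (.one ⟨3286, 0, 4⟩))) (.node 2 (.node 1 (.one ⟨589, 2, 5⟩) (.one ⟨11538, 1, 5⟩)) (.node 1 (.one ⟨13285, 4, 6⟩) (.one ⟨7743, 0, 5⟩)))) (.node 4 (.node 2 (.node 1 (.one ⟨5177, 0, 5⟩) (.one ⟨2161, 1, 6⟩)) (.node 1 (.one ⟨3475, 1, 6⟩) (.one ⟨16933, 4, 6⟩))) (.node 2 (.node 1 (.one ⟨8047, 3, 5⟩) (.one ⟨6951, 4, 6⟩)) (.node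 1 (.one ⟨7528, 4, 6⟩) (.one ⟨15980, 4, 6⟩))))) (.node 8 (.node 4 (.node 2 (.node 1 (.one ⟨11291, 3, 6⟩) (.one ⟨10626, 2, 6⟩)) (.node 1 (.one ⟨3618, 4, 6⟩) (.one ⟨119, 1, 0⟩))) (.node 2 (.node 1 (.one ⟨10982, 4, 6⟩) (.one ⟨7731, 0, 5⟩)) (.node 1 (.one ⟨7397, 2, 5⟩) (.one ⟨12667, 1, 7⟩)))) (.node 4 (.node 2 (.node 1 (.one ⟨13191, 3, 7⟩) (.one ⟨4577, 1, 6⟩)) (.node 1 (.one ⟨16981, 3, 6⟩) (.one ⟨7656, 3, 6⟩))) (.node 2 (.node 1 (.one ⟨10656, 1, 7⟩) (.one ⟨5351, 1, 6⟩)) (.node 1 (.one ⟨7013, 0, 6⟩) (.one ⟨3567, 0, 3⟩)))))))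
def par1_2_15 : Arr Par :=
  (.node 32 (.node 16 (.node 8 (.node 4 (.node 2 (.node 1 (.one ⟨15564, 4, 6⟩) (.one ⟨15604, 4, 6⟩)) (.node 1 (.one ⟨15935, 2, 5⟩) (.one ⟨1283, 4, 6⟩))) (.node 2 (.node 1 (.one ⟨4757, 2, 6⟩) (.one ⟨7735, 0, 3⟩)) (.node 1 (.one ⟨14954, 2, 5⟩) (.one ⟨15100, 2, 6⟩)))) (.node 4 (.node 2 (.node 1 (.one ⟨14328, 1, 6⟩) (.one ⟨4586, 1, 6⟩)) (.node 1 (.one ⟨11134, 0, 5⟩) (.one ⟨14858, 0, 6⟩))) (.node 2 (.node 1 (.one ⟨9410, 2, 5⟩) (.one ⟨15143, 0, 7⟩)) (.node 1 (.one ⟨7812, 3, 5⟩) (.one ⟨381, 2, 5⟩))))) (.node 8 (.node 4 (.node 2 (.node 1 (.one ⟨9631, 1, 6⟩) (.one ⟨10634, 1, 6⟩)) (.node 1 (.one ⟨8083, 4, 5⟩) (.one ⟨10811, 0, 5⟩))) (.node 2 (.node 1 (.one ⟨12632, 1, 5⟩) (.one ⟨13367, 1, 6⟩))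 (.node 1 (.one ⟨222, 1, 6⟩) (.one ⟨3258, 4, 5⟩)))) (.node 4 (.node 2 (.node 1 (.one ⟨6735, 0, 7⟩) (.one ⟨2784, 4, 6⟩)) (.node 1 (.one ⟨1246, 2, 5⟩) (.one ⟨2279, 4, 6⟩))) (.node 2 (.node 1 (.one ⟨15347, 3, 6⟩) (.one ⟨11568, 0, 6⟩)) (.node 1 (.one ⟨15182, 4, 6⟩) (.one ⟨2926, 3, 4⟩)))))) (.node 16 (.node 8 (.node 4 (.node 2 (.node 1 (.one ⟨4672, 4, 6⟩) (.one ⟨2711, 2, 7⟩)) (.node 1 (.one ⟨14609, 4, 5⟩) (.one ⟨3236, 4, 5⟩))) (.node 2 (.node 1 (.one ⟨15043, 3, 7⟩) (.one ⟨8787, 1, 7⟩)) (.node 1 (.one ⟨12043, 2, 6⟩) (.one ⟨13249, 3, 7⟩)))) (.node 4 (.node 2 (.node 1 (.one ⟨16164, 0, 5⟩) (.one ⟨6658, 3, 5⟩)) (.node 1 (.one ⟨8069, 3, 5⟩) (.one ⟨12062, 2, 5⟩))) (.node 2 (.node 1 (.one ⟨9704, 4, 6⟩) (.one ⟨11216, 4, 6⟩))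 (.node 1 (.one ⟨10867, 0, 5⟩) (.one ⟨3062, 3, 5⟩))))) (.node 8 (.node 4 (.node 2 (.node 1 (.one ⟨1835, 3, 5⟩) (.one ⟨15067, 0, 6⟩)) (.node 1 (.one ⟨4211, 2, 5⟩) (.one ⟨7762, 0, 6⟩))) (.node 2 (.node 1 (.one ⟨13478, 1, 6⟩) (.one ⟨11591, 0, 4⟩)) (.node 1 (.one ⟨15809, 3, 4⟩) (.one ⟨10901, 4, 5⟩)))) (.node 4 (.node 2 (.node 1 (.one ⟨1302, 4, 5⟩) (.one ⟨221, 3, 6⟩)) (.node 1 (.one ⟨304, 3, 6⟩) (.one ⟨13298, 4, 5⟩))) (.node 2 (.node 1 (.one ⟨3931, 4, 7⟩) (.one ⟨15206, 2, 5⟩)) (.node 1 (.one ⟨709, 3, 5⟩) (.one ⟨4226, 4, 3⟩)))))))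
def par1_2 : Arr Par :=
  (.node 512 (.node 256 (.node 128 (.node 64 par1_2_0 par1_2_1) (.node 64 par1_2_2 par1_2_3)) (.node 128 (.node 64 par1_2_4 par1_2_5) (.node 64 par1_2_6 par1_2_7))) (.node 256 (.node 128 (.node 64 par1_2_8 par1_2_9) (.node 64 par1_2_10 par1_2_11)) (.node 128 (.node 64 par1_2_12 par1_2_13) (.node 64 par1_2_14 par1_2_15))))
def par1_3_0 : Arr Par :=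
  (.node 32 (.node 16 (.node 8 (.node 4 (.node 2 (.node 1 (.one ⟨12425, 3, 7⟩) (.one ⟨4654, 1, 6⟩)) (.node 1 (.one ⟨5005, 4, 5⟩) (.one ⟨3804, 0, 6⟩))) (.node 2 (.node 1 (.one ⟨3140, 4, 6⟩) (.one ⟨1798, 2, 3⟩)) (.node 1 (.one ⟨6794, 0, 6⟩) (.one ⟨16135, 0, 5⟩)))) (.node 4 (.node 2 (.node 1 (.one ⟨8970, 2, 5⟩) (.one ⟨14780, 0, 6⟩)) (.node 1 (.one ⟨3864, 0, 5⟩) (.one ⟨14745, 3, 6⟩))) (.node 2 (.node 1 (.one ⟨7311, 4, 6⟩) (.one ⟨6291, 1, 6⟩)) (.node 1 (.one ⟨8812, 2, 4⟩) (.one ⟨5346, 1, 5⟩))))) (.node 8 (.node 4 (.node 2 (.node 1 (.one ⟨11436, 4, 5⟩) (.one ⟨4564, 1, 5⟩)) (.node 1 (.one ⟨15382, 3, 5⟩) (.one ⟨2500, 1, 6⟩))) (.node 2 (.node 1 (.one ⟨11604, 0, 6⟩) (.one ⟨11115, 0, 6⟩)) (.node 1 (.one ⟨3797, 0, 4⟩)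 (.one ⟨35, 1, 0⟩)))) (.node 4 (.node 2 (.node 1 (.one ⟨7411, 3, 6⟩) (.one ⟨3857, 0, 5⟩)) (.node 1 (.one ⟨11402, 2, 6⟩) (.one ⟨13422, 1, 6⟩))) (.node 2 (.node 1 (.one ⟨11985, 4, 5⟩) (.one ⟨7845, 0, 5⟩)) (.node 1 (.one ⟨3115, 0, 5⟩) (.one ⟨6895, 2, 5⟩)))))) (.node 16 (.node 8 (.node 4 (.node 2 (.node 1 (.one ⟨11094, 0, 6⟩) (.one ⟨377, 1, 6⟩)) (.node 1 (.one ⟨14338, 1, 5⟩) (.one ⟨14815, 2, 3⟩))) (.node 2 (.node 1 (.one ⟨4569, 1, 6⟩) (.one ⟨12655, 1, 6⟩)) (.node 1 (.one ⟨8767, 1, 5⟩) (.one ⟨302, 4, 6⟩)))) (.node 4 (.node 2 (.node 1 (.one ⟨3585, 0, 3⟩) (.one ⟨4557, 1, 5⟩)) (.node 1 (.one ⟨2894, 2, 6⟩) (.one ⟨2718, 3, 4⟩))) (.node 2 (.node 1 (.one ⟨9527, 2, 4⟩) (.one ⟨6017, 2, 7⟩)) (.node 1 (.one ⟨15190, 4, 4⟩) (.one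 ⟨9971, 3, 5⟩))))) (.node 8 (.node 4 (.node 2 (.node 1 (.one ⟨2169, 4, 6⟩) (.one ⟨3558, 2, 5⟩)) (.node 1 (.one ⟨5072, 4, 5⟩) (.one ⟨3118, 0, 5⟩))) (.node 2 (.node 1 (.one ⟨4497, 0, 5⟩) (.one ⟨3918, 2, 5⟩)) (.node 1 (.one ⟨13321, 0, 4⟩) (.one ⟨3283, 2, 6⟩)))) (.node 4 (.node 2 (.node 1 (.one ⟨16568, 2, 6⟩) (.one ⟨6872, 1, 5⟩)) (.node 1 (.one ⟨16556, 1, 4⟩) (.one ⟨5509, 0, 5⟩))) (.node 2 (.node 1 (.one ⟨14632, 2, 5⟩) (.one ⟨12559, 2, 7⟩)) (.node 1 (.one ⟨785, 4, 6⟩) (.one ⟨2532, 1, 6⟩)))))))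
def par1_3_1 : Arr Par :=
  (.node 32 (.node 16 (.node 8 (.node 4 (.node 2 (.node 1 (.one ⟨10485, 4, 4⟩) (.one ⟨13606, 0, 5⟩)) (.node 1 (.one ⟨9875, 3, 6⟩) (.one ⟨2870, 2, 2⟩))) (.node 2 (.node 1 (.one ⟨10256, 2, 5⟩) (.one ⟨9871, 3, 4⟩)) (.node 1 (.one ⟨10080, 0, 6⟩) (.one ⟨5534, 0, 5⟩)))) (.node 4 (.node 2 (.node 1 (.one ⟨10033, 0, 5⟩) (.one ⟨10207, 3, 4⟩)) (.node 1 (.one ⟨7909, 2, 6⟩) (.one ⟨12530, 0, 5⟩))) (.node 2 (.node 1 (.one ⟨5455, 3, 5⟩) (.one ⟨6874, 1, 5⟩)) (.node 1 (.one ⟨11809, 1, 6⟩) (.one ⟨5168, 2, 5⟩))))) (.node 8 (.node 4 (.node 2 (.node 1 (.one ⟨12150, 0, 5⟩) (.one ⟨8406, 4, 5⟩)) (.node 1 (.one ⟨14641, 2, 4⟩) (.one ⟨5595, 4, 6⟩))) (.node 2 (.node 1 (.one ⟨8479, 4, 6⟩) (.one ⟨10694, 3, 6⟩))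 (.node 1 (.one ⟨11078, 0, 5⟩) (.one ⟨16458, 4, 5⟩)))) (.node 4 (.node 2 (.node 1 (.one ⟨12587, 3, 5⟩) (.one ⟨6871, 1, 6⟩)) (.node 1 (.one ⟨10166, 2, 6⟩) (.one ⟨9572, 3, 6⟩))) (.node 2 (.node 1 (.one ⟨6236, 3, 5⟩) (.one ⟨1593, 2, 6⟩)) (.node 1 (.one ⟨5714, 3, 5⟩) (.one ⟨12825, 3, 6⟩)))))) (.node 16 (.node 8 (.node 4 (.node 2 (.node 1 (.one ⟨4649, 2, 6⟩) (.one ⟨15701, 4, 5⟩)) (.node 1 (.one ⟨3273, 2, 7⟩) (.one ⟨6270, 4, 5⟩))) (.node 2 (.node 1 (.one ⟨4552, 4, 5⟩) (.one ⟨10813, 0, 5⟩)) (.node 1 (.one ⟨11792, 1, 4⟩) (.one ⟨7307, 4, 6⟩)))) (.node 4 (.node 2 (.node 1 (.one ⟨6408, 3, 6⟩) (.one ⟨12335, 4, 5⟩)) (.node 1 (.one ⟨480, 4, 6⟩) (.one ⟨8488, 1, 6⟩))) (.node 2 (.node 1 (.one ⟨2885, 2, 5⟩) (.one ⟨1205, 3, 6⟩))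 (.node 1 (.one ⟨7484, 2, 5⟩) (.one ⟨86, 3, 5⟩))))) (.node 8 (.node 4 (.node 2 (.node 1 (.one ⟨2547, 2, 4⟩) (.one ⟨14739, 0, 6⟩)) (.node 1 (.one ⟨10425, 3, 5⟩) (.one ⟨3157, 4, 7⟩))) (.node 2 (.node 1 (.one ⟨1934, 0, 6⟩) (.one ⟨16919, 0, 6⟩)) (.node 1 (.one ⟨6407, 2, 5⟩) (.one ⟨14991, 0, 6⟩)))) (.node 4 (.node 2 (.node 1 (.one ⟨1199, 3, 3⟩) (.one ⟨5536, 1, 5⟩)) (.node 1 (.one ⟨5806, 1, 5⟩) (.one ⟨4787, 4, 5⟩))) (.node 2 (.node 1 (.one ⟨2097, 4, 5⟩) (.one ⟨607, 3, 4⟩)) (.node 1 (.one ⟨9122, 2, 5⟩) (.one ⟨4537, 2, 6⟩)))))))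
def par1_3_2 : Arr Par :=
  (.node 32 (.node 16 (.node 8 (.node 4 (.node 2 (.node 1 (.one ⟨1653, 3, 6⟩) (.one ⟨7787, 4, 7⟩)) (.node 1 (.one ⟨10440, 1, 6⟩) (.one ⟨2295, 4, 4⟩))) (.node 2 (.node 1 (.one ⟨1299, 4, 5⟩) (.one ⟨8106, 1, 4⟩)) (.node 1 (.one ⟨7880, 3, 6⟩) (.one ⟨3989, 0, 7⟩)))) (.node 4 (.node 2 (.node 1 (.one ⟨1941, 0, 4⟩) (.one ⟨14729, 0, 6⟩)) (.node 1 (.one ⟨12545, 1, 3⟩) (.one ⟨5251, 4, 6⟩))) (.node 2 (.node 1 (.one ⟨15000, 0, 5⟩) (.one ⟨13251, 2, 6⟩)) (.node 1 (.one ⟨16090, 3, 6⟩) (.one ⟨6802, 1, 5⟩))))) (.node 8 (.node 4 (.node 2 (.node 1 (.one ⟨5502, 1, 7⟩) (.one ⟨2575, 3, 5⟩)) (.node 1 (.one ⟨1583, 3, 5⟩) (.one ⟨15003, 0, 6⟩))) (.node 2 (.node 1 (.one ⟨8792, 0, 5⟩) (.one ⟨9087, 0, 6⟩)) (.node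 1 (.one ⟨11889, 4, 5⟩) (.one ⟨3224, 2, 6⟩)))) (.node 4 (.node 2 (.node 1 (.one ⟨13771, 1, 5⟩) (.one ⟨12725, 4, 4⟩)) (.node 1 (.one ⟨15001, 0, 5⟩) (.one ⟨3523, 2, 6⟩))) (.node 2 (.node 1 (.one ⟨16123, 1, 5⟩) (.one ⟨10785, 3, 6⟩)) (.node 1 (.one ⟨13089, 3, 5⟩) (.one ⟨10065, 2, 6⟩)))))) (.node 16 (.node 8 (.node 4 (.node 2 (.node 1 (.one ⟨12570, 1, 5⟩) (.one ⟨5770, 1, 7⟩)) (.node 1 (.one ⟨10106, 4, 5⟩) (.one ⟨12218, 0, 5⟩))) (.node 2 (.node 1 (.one ⟨5878, 4, 4⟩) (.one ⟨2427, 1, 5⟩)) (.node 1 (.one ⟨36, 3, 5⟩) (.one ⟨580, 3, 6⟩)))) (.node 4 (.node 2 (.node 1 (.one ⟨1952, 0, 6⟩) (.one ⟨4485, 1, 7⟩)) (.node 1 (.one ⟨8061, 1, 4⟩) (.one ⟨16384, 4, 6⟩))) (.node 2 (.node 1 (.one ⟨14714, 0, 5⟩) (.one ⟨5663, 4, 6⟩)) (.node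 1 (.one ⟨8695, 1, 6⟩) (.one ⟨4366, 3, 6⟩))))) (.node 8 (.node 4 (.node 2 (.node 1 (.one ⟨4669, 1, 4⟩) (.one ⟨4335, 3, 5⟩)) (.node 1 (.one ⟨16057, 2, 7⟩) (.one ⟨6625, 1, 3⟩))) (.node 2 (.node 1 (.one ⟨9410, 4, 5⟩) (.one ⟨14816, 4, 4⟩)) (.node 1 (.one ⟨16561, 1, 5⟩) (.one ⟨4582, 0, 6⟩)))) (.node 4 (.node 2 (.node 1 (.one ⟨14647, 2, 5⟩) (.one ⟨13728, 4, 5⟩)) (.node 1 (.one ⟨16690, 2, 4⟩) (.one ⟨14202, 4, 5⟩))) (.node 2 (.node 1 (.one ⟨9672, 0, 5⟩) (.one ⟨601, 3, 4⟩)) (.node 1 (.one ⟨11196, 0, 5⟩) (.one ⟨13484, 4, 6⟩)))))))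
def par1_3_3 : Arr Par :=
  (.node 32 (.node 16 (.node 8 (.node 4 (.node 2 (.node 1 (.one ⟨4560, 0, 6⟩) (.one ⟨15995, 3, 5⟩)) (.node 1 (.one ⟨10694, 2, 6⟩) (.one ⟨3534, 2, 6⟩))) (.node 2 (.node 1 (.one ⟨14083, 1, 5⟩) (.one ⟨7692, 1, 6⟩)) (.node 1 (.one ⟨8755, 4, 4⟩) (.one ⟨8704, 2, 6⟩)))) (.node 4 (.node 2 (.node 1 (.one ⟨15028, 4, 4⟩) (.one ⟨3100, 3, 6⟩)) (.node 1 (.one ⟨10423, 2, 3⟩) (.one ⟨12788, 0, 7⟩))) (.node 2 (.node 1 (.one ⟨12596, 0, 6⟩) (.one ⟨12652, 4, 4⟩)) (.node 1 (.one ⟨9117, 2, 3⟩) (.one ⟨5950, 2, 6⟩))))) (.node 8 (.node 4 (.node 2 (.node 1 (.one ⟨6042, 2, 3⟩) (.one ⟨1598, 0, 3⟩)) (.node 1 (.one ⟨15564, 0, 6⟩) (.one ⟨11267, 4, 5⟩))) (.node 2 (.node 1 (.one ⟨8241, 0, 4⟩) (.one ⟨5036, 3, 5⟩)) (.node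 1 (.one ⟨13683, 2, 3⟩) (.one ⟨3896, 0, 2⟩)))) (.node 4 (.node 2 (.node 1 (.one ⟨8607, 3, 5⟩) (.one ⟨2870, 1, 2⟩)) (.node 1 (.one ⟨518, 1, 5⟩) (.one ⟨9709, 0, 3⟩))) (.node 2 (.node 1 (.one ⟨11272, 0, 6⟩) (.one ⟨8508, 2, 5⟩)) (.node 1 (.one ⟨16113, 2, 5⟩) (.one ⟨6781, 4, 6⟩)))))) (.node 16 (.node 8 (.node 4 (.node 2 (.node 1 (.one ⟨4657, 1, 6⟩) (.one ⟨6019, 1, 6⟩)) (.node 1 (.one ⟨244, 0, 5⟩) (.one ⟨992, 1, 5⟩))) (.node 2 (.node 1 (.one ⟨14560, 4, 5⟩) (.one ⟨1238, 4, 6⟩)) (.node 1 (.one ⟨17110, 3, 6⟩) (.one ⟨11238, 0, 6⟩)))) (.node 4 (.node 2 (.node 1 (.one ⟨4154, 2, 5⟩) (.one ⟨15576, 2, 6⟩)) (.node 1 (.one ⟨3921, 0, 4⟩) (.one ⟨12145, 4, 5⟩))) (.node 2 (.node 1 (.one ⟨12624, 0, 7⟩) (.one ⟨672, 0, 5⟩)) (.node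 1 (.one ⟨12105, 2, 6⟩) (.one ⟨4670, 1, 6⟩))))) (.node 8 (.node 4 (.node 2 (.node 1 (.one ⟨1526, 2, 6⟩) (.one ⟨571, 0, 6⟩)) (.node 1 (.one ⟨7559, 0, 6⟩) (.one ⟨9912, 2, 6⟩))) (.node 2 (.node 1 (.one ⟨16304, 0, 5⟩) (.one ⟨8740, 3, 4⟩)) (.node 1 (.one ⟨8464, 3, 5⟩) (.one ⟨696, 2, 6⟩)))) (.node 4 (.node 2 (.node 1 (.one ⟨772, 0, 5⟩) (.one ⟨480, 2, 6⟩)) (.node 1 (.one ⟨2307, 4, 6⟩) (.one ⟨7735, 4, 3⟩))) (.node 2 (.node 1 (.one ⟨384, 4, 6⟩) (.one ⟨15481, 4, 5⟩)) (.node 1 (.one ⟨13181, 4, 5⟩) (.one ⟨11451, 4, 5⟩)))))))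
def par1_3_4 : Arr Par :=
  (.node 32 (.node 16 (.node 8 (.node 4 (.node 2 (.node 1 (.one ⟨8281, 2, 6⟩) (.one ⟨12809, 0, 7⟩)) (.node 1 (.one ⟨16349, 0, 5⟩) (.one ⟨4066, 3, 6⟩))) (.node 2 (.node 1 (.one ⟨9625, 4, 5⟩) (.one ⟨16180, 4, 6⟩)) (.node 1 (.one ⟨11036, 1, 5⟩) (.one ⟨4623, 0, 5⟩)))) (.node 4 (.node 2 (.node 1 (.one ⟨11203, 0, 4⟩) (.one ⟨807, 0, 6⟩)) (.node 1 (.one ⟨11984, 0, 4⟩) (.one ⟨4692, 1, 5⟩))) (.node 2 (.node 1 (.one ⟨8435, 3, 5⟩) (.one ⟨2406, 3, 6⟩)) (.node 1 (.one ⟨3094, 4, 5⟩) (.one ⟨9544, 4, 6⟩))))) (.node 8 (.node 4 (.node 2 (.node 1 (.one ⟨15799, 4, 5⟩) (.one ⟨261, 2, 5⟩)) (.node 1 (.one ⟨14672, 1, 5⟩) (.one ⟨15766, 1, 6⟩))) (.node 2 (.node 1 (.one ⟨6044, 2, 6⟩) (.one ⟨2856, 3, 6⟩)) (.node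 1 (.one ⟨980, 1, 6⟩) (.one ⟨16485, 2, 6⟩)))) (.node 4 (.node 2 (.node 1 (.one ⟨14118, 1, 5⟩) (.one ⟨16322, 4, 5⟩)) (.node 1 (.one ⟨2379, 3, 5⟩) (.one ⟨1676, 0, 6⟩))) (.node 2 (.node 1 (.one ⟨16484, 2, 6⟩) (.one ⟨16662, 1, 4⟩)) (.node 1 (.one ⟨13830, 4, 5⟩) (.one ⟨15538, 0, 5⟩)))))) (.node 16 (.node 8 (.node 4 (.node 2 (.node 1 (.one ⟨9516, 2, 5⟩) (.one ⟨4525, 4, 5⟩)) (.node 1 (.one ⟨2241, 3, 5⟩) (.one ⟨8795, 4, 5⟩))) (.node 2 (.node 1 (.one ⟨1671, 0, 5⟩) (.one ⟨11984, 2, 4⟩)) (.node 1 (.one ⟨4819, 2, 6⟩) (.one ⟨12487, 2, 5⟩)))) (.node 4 (.node 2 (.node 1 (.one ⟨8241, 2, 4⟩) (.one ⟨8106, 2, 4⟩)) (.node 1 (.one ⟨11795, 2, 6⟩) (.one ⟨2245, 3, 7⟩))) (.node 2 (.node 1 (.one ⟨9686, 2, 6⟩) (.one ⟨15523, 4, 4⟩)) (.node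 1 (.one ⟨810, 0, 6⟩) (.one ⟨6919, 1, 5⟩))))) (.node 8 (.node 4 (.node 2 (.node 1 (.one ⟨16956, 4, 5⟩) (.one ⟨10590, 1, 5⟩)) (.node 1 (.one ⟨10389, 2, 5⟩) (.one ⟨11866, 3, 6⟩))) (.node 2 (.node 1 (.one ⟨12274, 0, 6⟩) (.one ⟨8795, 0, 5⟩)) (.node 1 (.one ⟨3592, 2, 6⟩) (.one ⟨15019, 4, 6⟩)))) (.node 4 (.node 2 (.node 1 (.one ⟨244, 3, 5⟩) (.one ⟨5298, 3, 5⟩)) (.node 1 (.one ⟨4266, 4, 6⟩) (.one ⟨12372, 2, 5⟩))) (.node 2 (.node 1 (.one ⟨1715, 4, 6⟩) (.one ⟨15422, 2, 6⟩)) (.node 1 (.one ⟨16908, 0, 7⟩) (.one ⟨669, 0, 5⟩)))))))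
def par1_3_5 : Arr Par :=
  (.node 32 (.node 16 (.node 8 (.node 4 (.node 2 (.node 1 (.one ⟨16348, 0, 6⟩) (.one ⟨5053, 2, 3⟩)) (.node 1 (.one ⟨2604, 1, 6⟩) (.one ⟨16443, 1, 5⟩))) (.node 2 (.node 1 (.one ⟨13649, 0, 6⟩) (.one ⟨9706, 4, 6⟩)) (.node 1 (.one ⟨8881, 3, 5⟩) (.one ⟨15021, 0, 5⟩)))) (.node 4 (.node 2 (.node 1 (.one ⟨1958, 4, 5⟩) (.one ⟨12626, 2, 4⟩)) (.node 1 (.one ⟨15386, 1, 5⟩) (.one ⟨12308, 0, 4⟩))) (.node 2 (.node 1 (.one ⟨5373, 2, 4⟩) (.one ⟨15215, 4, 6⟩)) (.node 1 (.one ⟨8322, 4, 5⟩) (.one ⟨424, 2, 6⟩))))) (.node 8 (.node 4 (.node 2 (.node 1 (.one ⟨15881, 2, 6⟩) (.one ⟨6926, 1, 6⟩)) (.node 1 (.one ⟨7340, 1, 4⟩) (.one ⟨9412, 3, 6⟩))) (.node 2 (.node 1 (.one ⟨8431, 2, 6⟩) (.one ⟨2526, 1, 5⟩)) (.node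 1 (.one ⟨796, 1, 6⟩) (.one ⟨5625, 3, 6⟩)))) (.node 4 (.node 2 (.node 1 (.one ⟨1566, 2, 5⟩) (.one ⟨12020, 1, 6⟩)) (.node 1 (.one ⟨930, 1, 6⟩) (.one ⟨15020, 0, 7⟩))) (.node 2 (.node 1 (.one ⟨6287, 4, 5⟩) (.one ⟨16310, 0, 3⟩)) (.node 1 (.one ⟨6916, 1, 5⟩) (.one ⟨12075, 1, 5⟩)))))) (.node 16 (.node 8 (.node 4 (.node 2 (.node 1 (.one ⟨4224, 0, 3⟩) (.one ⟨654, 1, 5⟩)) (.node 1 (.one ⟨5943, 2, 2⟩) (.one ⟨16332, 0, 6⟩))) (.node 2 (.node 1 (.one ⟨444, 4, 5⟩) (.one ⟨8904, 4, 6⟩)) (.node 1 (.one ⟨2290, 2, 7⟩) (.one ⟨3471, 4, 7⟩)))) (.node 4 (.node 2 (.node 1 (.one ⟨974, 3, 5⟩) (.one ⟨7909, 4, 6⟩)) (.node 1 (.one ⟨4790, 4, 6⟩) (.one ⟨12377, 4, 6⟩))) (.node 2 (.node 1 (.one ⟨13411, 2, 3⟩) (.one ⟨15131, 4, 5⟩)) (.node 1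 (.one ⟨9517, 4, 5⟩) (.one ⟨14893, 1, 4⟩))))) (.node 8 (.node 4 (.node 2 (.node 1 (.one ⟨11116, 4, 6⟩) (.one ⟨7674, 2, 5⟩)) (.node 1 (.one ⟨15377, 4, 6⟩) (.one ⟨12337, 4, 6⟩))) (.node 2 (.node 1 (.one ⟨7632, 4, 4⟩) (.one ⟨15884, 4, 5⟩)) (.node 1 (.one ⟨4140, 3, 6⟩) (.one ⟨4577, 3, 6⟩)))) (.node 4 (.node 2 (.node 1 (.one ⟨8223, 4, 4⟩) (.one ⟨16185, 0, 4⟩)) (.node 1 (.one ⟨8236, 4, 3⟩) (.one ⟨6339, 4, 6⟩))) (.node 2 (.node 1 (.one ⟨6800, 3, 5⟩) (.one ⟨9336, 3, 6⟩)) (.node 1 (.one ⟨1302, 2, 5⟩) (.one ⟨1149, 4, 6⟩)))))))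
def par1_3_6 : Arr Par :=
  (.node 32 (.node 16 (.node 8 (.node 4 (.node 2 (.node 1 (.one ⟨10539, 4, 6⟩) (.one ⟨13528, 2, 6⟩)) (.node 1 (.one ⟨2470, 1, 4⟩) (.one ⟨4093, 0, 5⟩))) (.node 2 (.node 1 (.one ⟨12075, 3, 5⟩) (.one ⟨11859, 4, 7⟩)) (.node 1 (.one ⟨8235, 3, 5⟩) (.one ⟨8019, 1, 6⟩)))) (.node 4 (.node 2 (.node 1 (.one ⟨16066, 3, 5⟩) (.one ⟨8644, 1, 5⟩)) (.node 1 (.one ⟨4402, 1, 6⟩) (.one ⟨14797, 1, 5⟩))) (.node 2 (.node 1 (.one ⟨2493, 2, 6⟩) (.one ⟨10901, 2, 5⟩)) (.node 1 (.one ⟨3154, 3, 5⟩) (.one ⟨4418, 1, 6⟩))))) (.node 8 (.node 4 (.node 2 (.node 1 (.one ⟨5369, 2, 4⟩) (.one ⟨4380, 3, 5⟩)) (.node 1 (.one ⟨15116, 2, 5⟩) (.one ⟨855, 4, 5⟩))) (.node 2 (.node 1 (.one ⟨16105, 1, 5⟩) (.one ⟨9512, 2, 6⟩)) (.node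 1 (.one ⟨11281, 3, 7⟩) (.one ⟨1972, 4, 6⟩)))) (.node 4 (.node 2 (.node 1 (.one ⟨3281, 1, 4⟩) (.one ⟨9194, 3, 5⟩)) (.node 1 (.one ⟨11939, 2, 6⟩) (.one ⟨13357, 0, 6⟩))) (.node 2 (.node 1 (.one ⟨16205, 4, 4⟩) (.one ⟨5802, 1, 4⟩)) (.node 1 (.one ⟨6640, 4, 6⟩) (.one ⟨1110, 4, 6⟩)))))) (.node 16 (.node 8 (.node 4 (.node 2 (.node 1 (.one ⟨9418, 2, 4⟩) (.one ⟨16061, 1, 5⟩)) (.node 1 (.one ⟨3489, 3, 6⟩) (.one ⟨11092, 2, 6⟩))) (.node 2 (.node 1 (.one ⟨8051, 4, 6⟩) (.one ⟨2040, 4, 6⟩)) (.node 1 (.one ⟨10532, 1, 6⟩) (.one ⟨5662, 3, 5⟩)))) (.node 4 (.node 2 (.node 1 (.one ⟨273, 4, 5⟩) (.one ⟨13093, 2, 5⟩)) (.node 1 (.one ⟨13052, 2, 5⟩) (.one ⟨6768, 1, 6⟩))) (.node 2 (.node 1 (.one ⟨16420, 3, 5⟩) (.one ⟨5730, 1, 6⟩)) (.node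 1 (.one ⟨10045, 0, 5⟩) (.one ⟨3387, 4, 6⟩))))) (.node 8 (.node 4 (.node 2 (.node 1 (.one ⟨8078, 3, 5⟩) (.one ⟨6276, 0, 5⟩)) (.node 1 (.one ⟨11210, 0, 5⟩) (.one ⟨14416, 4, 5⟩))) (.node 2 (.node 1 (.one ⟨2875, 2, 6⟩) (.one ⟨5826, 3, 6⟩)) (.node 1 (.one ⟨17135, 3, 6⟩) (.one ⟨10694, 1, 6⟩)))) (.node 4 (.node 2 (.node 1 (.one ⟨2488, 2, 6⟩) (.one ⟨17163, 4, 5⟩)) (.node 1 (.one ⟨14258, 0, 6⟩) (.one ⟨8648, 1, 5⟩))) (.node 2 (.node 1 (.one ⟨5909, 1, 3⟩) (.one ⟨577, 3, 4⟩)) (.node 1 (.one ⟨3284, 1, 5⟩) (.one ⟨11664, 2, 5⟩)))))))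
def par1_3_7 : Arr Par :=
  (.node 32 (.node 16 (.node 8 (.node 4 (.node 2 (.node 1 (.one ⟨5290, 1, 6⟩) (.one ⟨15884, 1, 5⟩)) (.node 1 (.one ⟨13075, 0, 6⟩) (.one ⟨7234, 4, 5⟩))) (.node 2 (.node 1 (.one ⟨16650, 3, 6⟩) (.one ⟨17160, 0, 5⟩)) (.node 1 (.one ⟨698, 0, 7⟩) (.one ⟨12534, 1, 6⟩)))) (.node 4 (.node 2 (.node 1 (.one ⟨10505, 3, 4⟩) (.one ⟨5226, 1, 6⟩)) (.node 1 (.one ⟨12423, 4, 7⟩) (.one ⟨4380, 0, 5⟩))) (.node 2 (.node 1 (.one ⟨11428, 1, 5⟩) (.one ⟨15109, 1, 4⟩)) (.node 1 (.one ⟨15995, 0, 5⟩) (.one ⟨11785, 4, 7⟩))))) (.node 8 (.node 4 (.node 2 (.node 1 (.one ⟨17182, 0, 6⟩) (.one ⟨718, 3, 6⟩)) (.node 1 (.one ⟨13098, 0, 5⟩) (.one ⟨12617, 2, 6⟩))) (.node 2 (.node 1 (.one ⟨6224, 0, 5⟩) (.one ⟨5398, 4, 6⟩))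 (.node 1 (.one ⟨4258, 3, 5⟩) (.one ⟨15311, 4, 6⟩)))) (.node 4 (.node 2 (.node 1 (.one ⟨15990, 0, 6⟩) (.one ⟨13259, 1, 6⟩)) (.node 1 (.one ⟨3330, 1, 6⟩) (.one ⟨11428, 4, 5⟩))) (.node 2 (.node 1 (.one ⟨10062, 4, 7⟩) (.one ⟨12071, 3, 4⟩)) (.node 1 (.one ⟨16690, 1, 4⟩) (.one ⟨8632, 2, 4⟩)))))) (.node 16 (.node 8 (.node 4 (.node 2 (.node 1 (.one ⟨610, 3, 6⟩) (.one ⟨999, 2, 5⟩)) (.node 1 (.one ⟨11027, 4, 5⟩) (.one ⟨16054, 4, 6⟩))) (.node 2 (.node 1 (.one ⟨8635, 2, 5⟩) (.one ⟨16219, 3, 5⟩)) (.node 1 (.one ⟨4989, 0, 4⟩) (.one ⟨6270, 2, 5⟩)))) (.node 4 (.node 2 (.node 1 (.one ⟨6024, 2, 4⟩) (.one ⟨16719, 1, 6⟩)) (.node 1 (.one ⟨1959, 4, 5⟩) (.one ⟨6179, 3, 5⟩))) (.node 2 (.node 1 (.one ⟨10592, 2, 5⟩) (.one ⟨2635, 1,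 5⟩)) (.node 1 (.one ⟨797, 0, 4⟩) (.one ⟨13511, 0, 2⟩))))) (.node 8 (.node 4 (.node 2 (.node 1 (.one ⟨10176, 2, 4⟩) (.one ⟨2437, 0, 7⟩)) (.node 1 (.one ⟨1141, 4, 5⟩) (.one ⟨10643, 4, 5⟩))) (.node 2 (.node 1 (.one ⟨5369, 1, 4⟩) (.one ⟨1507, 3, 6⟩)) (.node 1 (.one ⟨12958, 3, 6⟩) (.one ⟨3654, 3, 6⟩)))) (.node 4 (.node 2 (.node 1 (.one ⟨15950, 2, 5⟩) (.one ⟨3889, 4, 6⟩)) (.node 1 (.one ⟨12115, 0, 6⟩) (.one ⟨5708, 4, 6⟩))) (.node 2 (.node 1 (.one ⟨9433, 4, 6⟩) (.one ⟨12951, 0, 5⟩)) (.node 1 (.one ⟨2212, 0, 4⟩) (.one ⟨13555, 2, 6⟩)))))))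
def par1_3_8 : Arr Par :=
  (.node 32 (.node 16 (.node 8 (.node 4 (.node 2 (.node 1 (.one ⟨17142, 3, 5⟩) (.one ⟨5480, 0, 2⟩)) (.node 1 (.one ⟨11517, 0, 6⟩) (.one ⟨16990, 3, 5⟩))) (.node 2 (.node 1 (.one ⟨10835, 0, 7⟩) (.one ⟨4335, 2, 5⟩)) (.node 1 (.one ⟨470, 1, 4⟩) (.one ⟨16786, 2, 6⟩)))) (.node 4 (.node 2 (.node 1 (.one ⟨2097, 0, 5⟩) (.one ⟨16919, 3, 6⟩)) (.node 1 (.one ⟨477, 1, 5⟩) (.one ⟨11538, 0, 5⟩))) (.node 2 (.node 1 (.one ⟨14915, 3, 6⟩) (.one ⟨2891, 1, 6⟩)) (.node 1 (.one ⟨15583, 4, 6⟩) (.one ⟨16448, 4, 5⟩))))) (.node 8 (.node 4 (.node 2 (.node 1 (.one ⟨551, 4, 6⟩) (.one ⟨7185, 3, 5⟩)) (.node 1 (.one ⟨16449, 4, 6⟩) (.one ⟨7197, 3, 7⟩))) (.node 2 (.node 1 (.one ⟨5754, 3, 6⟩) (.one ⟨10972, 1, 5⟩)) (.node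 1 (.one ⟨835, 2, 5⟩) (.one ⟨7185, 1, 5⟩)))) (.node 4 (.node 2 (.node 1 (.one ⟨3475, 0, 6⟩) (.one ⟨15994, 4, 5⟩)) (.node 1 (.one ⟨7499, 3, 5⟩) (.one ⟨4012, 1, 5⟩))) (.node 2 (.node 1 (.one ⟨2957, 2, 6⟩) (.one ⟨5808, 4, 5⟩)) (.node 1 (.one ⟨4597, 4, 5⟩) (.one ⟨11417, 3, 5⟩)))))) (.node 16 (.node 8 (.node 4 (.node 2 (.node 1 (.one ⟨2516, 4, 7⟩) (.one ⟨13622, 2, 6⟩)) (.node 1 (.one ⟨13470, 4, 5⟩) (.one ⟨4832, 3, 5⟩))) (.node 2 (.node 1 (.one ⟨15910, 2, 6⟩) (.one ⟨12632, 4, 5⟩)) (.node 1 (.one ⟨448, 2, 5⟩) (.one ⟨10493, 2, 6⟩)))) (.node 4 (.node 2 (.node 1 (.one ⟨15167, 1, 6⟩) (.one ⟨4264, 4, 6⟩)) (.node 1 (.one ⟨13881, 3, 6⟩) (.one ⟨10272, 2, 3⟩))) (.node 2 (.node 1 (.one ⟨13884, 3, 4⟩) (.one ⟨5403, 1, 6⟩)) (.node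 1 (.one ⟨8419, 2, 6⟩) (.one ⟨11359, 1, 6⟩))))) (.node 8 (.node 4 (.node 2 (.node 1 (.one ⟨5168, 1, 5⟩) (.one ⟨5262, 3, 6⟩)) (.node 1 (.one ⟨7025, 0, 4⟩) (.one ⟨15827, 1, 7⟩))) (.node 2 (.node 1 (.one ⟨5612, 3, 5⟩) (.one ⟨15147, 4, 5⟩)) (.node 1 (.one ⟨11946, 0, 6⟩) (.one ⟨5894, 1, 6⟩)))) (.node 4 (.node 2 (.node 1 (.one ⟨16863, 3, 4⟩) (.one ⟨7372, 0, 6⟩)) (.node 1 (.one ⟨14407, 3, 2⟩) (.one ⟨7987, 3, 3⟩))) (.node 2 (.node 1 (.one ⟨3837, 0, 5⟩) (.one ⟨5349, 4, 6⟩)) (.node 1 (.one ⟨1252, 3, 4⟩) (.one ⟨7008, 1, 5⟩)))))))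
def par1_3_9 : Arr Par :=
  (.node 32 (.node 16 (.node 8 (.node 4 (.node 2 (.node 1 (.one ⟨13873, 1, 6⟩) (.one ⟨8365, 4, 5⟩)) (.node 1 (.one ⟨10242, 0, 4⟩) (.one ⟨1138, 4, 4⟩))) (.node 2 (.node 1 (.one ⟨16145, 4, 7⟩) (.one ⟨16061, 2, 5⟩)) (.node 1 (.one ⟨15149, 0, 5⟩) (.one ⟨13269, 1, 6⟩)))) (.node 4 (.node 2 (.node 1 (.one ⟨13061, 4, 6⟩) (.one ⟨15432, 2, 5⟩)) (.node 1 (.one ⟨3089, 2, 6⟩) (.one ⟨7743, 2, 5⟩))) (.node 2 (.node 1 (.one ⟨13476, 4, 6⟩) (.one ⟨13121, 2, 6⟩)) (.node 1 (.one ⟨11854, 0, 6⟩) (.one ⟨16734, 0, 5⟩))))) (.node 8 (.node 4 (.node 2 (.node 1 (.one ⟨1551, 3, 4⟩) (.one ⟨12142, 4, 5⟩)) (.node 1 (.one ⟨14412, 4, 5⟩) (.one ⟨15031, 2, 6⟩))) (.node 2 (.node 1 (.one ⟨4454, 1, 5⟩) (.one ⟨11942, 2,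 6⟩)) (.node 1 (.one ⟨1364, 3, 4⟩) (.one ⟨8294, 3, 6⟩)))) (.node 4 (.node 2 (.node 1 (.one ⟨888, 2, 7⟩) (.one ⟨9839, 4, 5⟩)) (.node 1 (.one ⟨10811, 3, 5⟩) (.one ⟨5199, 1, 5⟩))) (.node 2 (.node 1 (.one ⟨2713, 1, 7⟩) (.one ⟨15071, 1, 3⟩)) (.node 1 (.one ⟨6438, 4, 6⟩) (.one ⟨14151, 4, 6⟩)))))) (.node 16 (.node 8 (.node 4 (.node 2 (.node 1 (.one ⟨13988, 1, 6⟩) (.one ⟨7797, 1, 5⟩)) (.node 1 (.one ⟨2543, 2, 5⟩) (.one ⟨13233, 1, 4⟩))) (.node 2 (.node 1 (.one ⟨10197, 0, 6⟩) (.one ⟨2110, 2, 6⟩)) (.node 1 (.one ⟨17066, 0, 6⟩) (.one ⟨3724, 4, 6⟩)))) (.node 4 (.node 2 (.node 1 (.one ⟨5413, 2, 5⟩) (.one ⟨2265, 2, 5⟩)) (.node 1 (.one ⟨5653, 2, 4⟩) (.one ⟨9920, 2, 6⟩))) (.node 2 (.node 1 (.one ⟨15658, 4, 5⟩) (.one ⟨16824,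 2, 5⟩)) (.node 1 (.one ⟨12732, 2, 5⟩) (.one ⟨1509, 4, 5⟩))))) (.node 8 (.node 4 (.node 2 (.node 1 (.one ⟨10008, 4, 6⟩) (.one ⟨4575, 4, 6⟩)) (.node 1 (.one ⟨8491, 2, 6⟩) (.one ⟨1456, 2, 6⟩))) (.node 2 (.node 1 (.one ⟨11026, 0, 7⟩) (.one ⟨5640, 2, 5⟩)) (.node 1 (.one ⟨7135, 1, 6⟩) (.one ⟨3022, 3, 6⟩)))) (.node 4 (.node 2 (.node 1 (.one ⟨4101, 2, 5⟩) (.one ⟨15568, 4, 5⟩)) (.node 1 (.one ⟨2898, 2, 6⟩) (.one ⟨2976, 1, 6⟩))) (.node 2 (.node 1 (.one ⟨14614, 1, 5⟩) (.one ⟨14705, 4, 4⟩)) (.node 1 (.one ⟨13162, 0, 5⟩) (.one ⟨12477, 2, 6⟩)))))))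
def par1_3_10 : Arr Par :=
  (.node 32 (.node 16 (.node 8 (.node 4 (.node 2 (.node 1 (.one ⟨16014, 0, 6⟩) (.one ⟨9172, 4, 6⟩)) (.node 1 (.one ⟨15206, 1, 5⟩) (.one ⟨12417, 0, 6⟩))) (.node 2 (.node 1 (.one ⟨7765, 3, 5⟩) (.one ⟨11017, 1, 6⟩)) (.node 1 (.one ⟨11009, 0, 6⟩) (.one ⟨3077, 2, 4⟩)))) (.node 4 (.node 2 (.node 1 (.one ⟨8044, 2, 4⟩) (.one ⟨2953, 0, 5⟩)) (.node 1 (.one ⟨9710, 3, 6⟩) (.one ⟨1076, 2, 3⟩))) (.node 2 (.node 1 (.one ⟨8728, 4, 5⟩) (.one ⟨1797, 4, 3⟩)) (.node 1 (.one ⟨5043, 0, 5⟩) (.one ⟨12389, 0, 5⟩))))) (.node 8 (.node 4 (.node 2 (.node 1 (.one ⟨8164, 2, 6⟩) (.one ⟨522, 0, 5⟩)) (.node 1 (.one ⟨16712, 3, 5⟩) (.one ⟨12533, 4, 6⟩))) (.node 2 (.node 1 (.one ⟨8403, 0, 5⟩) (.one ⟨4204, 4, 7⟩)) (.node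 1 (.one ⟨15648, 0, 4⟩) (.one ⟨15606, 0, 6⟩)))) (.node 4 (.node 2 (.node 1 (.one ⟨2941, 0, 6⟩) (.one ⟨9275, 4, 6⟩)) (.node 1 (.one ⟨12000, 1, 5⟩) (.one ⟨5551, 2, 6⟩))) (.node 2 (.node 1 (.one ⟨6434, 3, 5⟩) (.one ⟨6790, 3, 6⟩)) (.node 1 (.one ⟨6562, 1, 7⟩) (.one ⟨3910, 1, 6⟩)))))) (.node 16 (.node 8 (.node 4 (.node 2 (.node 1 (.one ⟨15286, 3, 7⟩) (.one ⟨11188, 3, 6⟩)) (.node 1 (.one ⟨7152, 1, 6⟩) (.one ⟨8066, 4, 7⟩))) (.node 2 (.node 1 (.one ⟨4574, 2, 7⟩) (.one ⟨11043, 0, 6⟩)) (.node 1 (.one ⟨8385, 0, 6⟩) (.one ⟨9772, 3, 6⟩)))) (.node 4 (.node 2 (.node 1 (.one ⟨9628, 3, 6⟩) (.one ⟨4787, 2, 5⟩)) (.node 1 (.one ⟨1591, 3, 6⟩) (.one ⟨12537, 3, 6⟩))) (.node 2 (.node 1 (.one ⟨6556, 1, 6⟩) (.one ⟨4452, 3, 4⟩)) (.node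 1 (.one ⟨4516, 3, 6⟩) (.one ⟨8505, 0, 4⟩))))) (.node 8 (.node 4 (.node 2 (.node 1 (.one ⟨15366, 0, 7⟩) (.one ⟨5691, 3, 7⟩)) (.node 1 (.one ⟨4140, 2, 6⟩) (.one ⟨4587, 4, 6⟩))) (.node 2 (.node 1 (.one ⟨13388, 2, 5⟩) (.one ⟨1458, 4, 6⟩)) (.node 1 (.one ⟨14350, 4, 6⟩) (.one ⟨556, 4, 6⟩)))) (.node 4 (.node 2 (.node 1 (.one ⟨199, 3, 6⟩) (.one ⟨6397, 1, 5⟩)) (.node 1 (.one ⟨11619, 2, 6⟩) (.one ⟨15005, 2, 4⟩))) (.node 2 (.node 1 (.one ⟨8972, 1, 3⟩) (.one ⟨8560, 0, 3⟩)) (.node 1 (.one ⟨491, 4, 6⟩) (.one ⟨12329, 3, 5⟩)))))))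
def par1_3_11 : Arr Par :=
  (.node 32 (.node 16 (.node 8 (.node 4 (.node 2 (.node 1 (.one ⟨16608, 3, 6⟩) (.one ⟨4584, 4, 5⟩)) (.node 1 (.one ⟨11468, 2, 5⟩) (.one ⟨9785, 3, 6⟩))) (.node 2 (.node 1 (.one ⟨14388, 1, 4⟩) (.one ⟨12403, 0, 7⟩)) (.node 1 (.one ⟨1250, 2, 7⟩) (.one ⟨10794, 2, 5⟩)))) (.node 4 (.node 2 (.node 1 (.one ⟨10757, 2, 5⟩) (.one ⟨1522, 4, 5⟩)) (.node 1 (.one ⟨7813, 1, 5⟩) (.one ⟨1525, 4, 6⟩))) (.node 2 (.node 1 (.one ⟨15165, 0, 5⟩) (.one ⟨74, 4, 5⟩)) (.node 1 (.one ⟨5297, 3, 6⟩) (.one ⟨15850, 1, 5⟩))))) (.node 8 (.node 4 (.node 2 (.node 1 (.one ⟨7117, 4, 6⟩) (.one ⟨14469, 4, 5⟩)) (.node 1 (.one ⟨14854, 2, 6⟩) (.one ⟨9533, 2, 4⟩))) (.node 2 (.node 1 (.one ⟨7341, 0, 4⟩) (.one ⟨4562, 3, 3⟩)) (.node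 1 (.one ⟨16771, 3, 7⟩) (.one ⟨5298, 4, 5⟩)))) (.node 4 (.node 2 (.node 1 (.one ⟨6310, 2, 5⟩) (.one ⟨15611, 4, 6⟩)) (.node 1 (.one ⟨11417, 2, 5⟩) (.one ⟨11073, 3, 6⟩))) (.node 2 (.node 1 (.one ⟨14797, 2, 5⟩) (.one ⟨8371, 2, 4⟩)) (.node 1 (.one ⟨15217, 0, 5⟩) (.one ⟨7309, 4, 6⟩)))))) (.node 16 (.node 8 (.node 4 (.node 2 (.node 1 (.one ⟨9203, 2, 6⟩) (.one ⟨7279, 0, 4⟩)) (.node 1 (.one ⟨15386, 4, 5⟩) (.one ⟨0, 2, 5⟩))) (.node 2 (.node 1 (.one ⟨594, 2, 4⟩) (.one ⟨7340, 4, 4⟩)) (.node 1 (.one ⟨15367, 0, 6⟩) (.one ⟨827, 3, 5⟩)))) (.node 4 (.node 2 (.node 1 (.one ⟨10311, 2, 2⟩) (.one ⟨8767, 4, 5⟩)) (.node 1 (.one ⟨3144, 4, 6⟩) (.one ⟨12629, 4, 6⟩))) (.node 2 (.node 1 (.one ⟨14646, 4, 6⟩) (.one ⟨6365, 2, 6⟩)) (.node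 1 (.one ⟨14875, 1, 5⟩) (.one ⟨6378, 2, 7⟩))))) (.node 8 (.node 4 (.node 2 (.node 1 (.one ⟨2641, 1, 5⟩) (.one ⟨14239, 2, 4⟩)) (.node 1 (.one ⟨10625, 4, 5⟩) (.one ⟨3049, 3, 6⟩))) (.node 2 (.node 1 (.one ⟨3026, 1, 6⟩) (.one ⟨12656, 3, 5⟩)) (.node 1 (.one ⟨4786, 2, 4⟩) (.one ⟨6482, 2, 4⟩)))) (.node 4 (.node 2 (.node 1 (.one ⟨11427, 2, 6⟩) (.one ⟨10274, 4, 5⟩)) (.node 1 (.one ⟨4404, 3, 7⟩) (.one ⟨5521, 1, 6⟩))) (.node 2 (.node 1 (.one ⟨7730, 1, 6⟩) (.one ⟨1419, 4, 4⟩)) (.node 1 (.one ⟨17081, 3, 6⟩) (.one ⟨1703, 2, 6⟩)))))))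
def par1_3_12 : Arr Par :=
  (.node 32 (.node 16 (.node 8 (.node 4 (.node 2 (.node 1 (.one ⟨3018, 4, 6⟩) (.one ⟨1357, 2, 5⟩)) (.node 1 (.one ⟨8664, 2, 5⟩) (.one ⟨5316, 3, 7⟩))) (.node 2 (.node 1 (.one ⟨8637, 3, 4⟩) (.one ⟨12594, 2, 4⟩)) (.node 1 (.one ⟨7222, 0, 5⟩) (.one ⟨12462, 2, 5⟩)))) (.node 4 (.node 2 (.node 1 (.one ⟨7141, 0, 5⟩) (.one ⟨9445, 3, 7⟩)) (.node 1 (.one ⟨11517, 2, 6⟩) (.one ⟨1453, 2, 6⟩))) (.node 2 (.node 1 (.one ⟨3833, 1, 6⟩) (.one ⟨4844, 2, 6⟩)) (.node 1 (.one ⟨9556, 4, 5⟩) (.one ⟨2539, 3, 3⟩))))) (.node 8 (.node 4 (.node 2 (.node 1 (.one ⟨9221, 0, 6⟩) (.one ⟨14887, 1, 4⟩)) (.node 1 (.one ⟨12430, 3, 6⟩) (.one ⟨1409, 2, 3⟩))) (.node 2 (.node 1 (.one ⟨7718, 4, 4⟩) (.one ⟨15295, 0, 5⟩)) (.node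 1 (.one ⟨4324, 0, 6⟩) (.one ⟨14685, 4, 6⟩)))) (.node 4 (.node 2 (.node 1 (.one ⟨16682, 0, 4⟩) (.one ⟨5433, 3, 6⟩)) (.node 1 (.one ⟨14474, 1, 4⟩) (.one ⟨10707, 2, 3⟩))) (.node 2 (.node 1 (.one ⟨14912, 3, 5⟩) (.one ⟨11586, 2, 4⟩)) (.node 1 (.one ⟨7765, 1, 5⟩) (.one ⟨8523, 0, 5⟩)))))) (.node 16 (.node 8 (.node 4 (.node 2 (.node 1 (.one ⟨7265, 0, 6⟩) (.one ⟨9963, 4, 6⟩)) (.node 1 (.one ⟨938, 0, 5⟩) (.one ⟨6107, 3, 6⟩))) (.node 2 (.node 1 (.one ⟨9082, 3, 5⟩) (.one ⟨12386, 0, 5⟩)) (.node 1 (.one ⟨14686, 3, 6⟩) (.one ⟨5549, 2, 5⟩)))) (.node 4 (.node 2 (.node 1 (.one ⟨7557, 2, 6⟩) (.one ⟨15986, 3, 6⟩)) (.node 1 (.one ⟨2717, 1, 5⟩) (.one ⟨3234, 3, 6⟩))) (.node 2 (.node 1 (.one ⟨15892, 1, 5⟩) (.one ⟨16389, 2, 7⟩)) (.node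 1 (.one ⟨3867, 1, 4⟩) (.one ⟨32, 0, 6⟩))))) (.node 8 (.node 4 (.node 2 (.node 1 (.one ⟨11700, 0, 6⟩) (.one ⟨6919, 0, 5⟩)) (.node 1 (.one ⟨16468, 0, 6⟩) (.one ⟨5496, 3, 5⟩))) (.node 2 (.node 1 (.one ⟨9131, 0, 6⟩) (.one ⟨11589, 4, 5⟩)) (.node 1 (.one ⟨10685, 1, 6⟩) (.one ⟨17156, 0, 6⟩)))) (.node 4 (.node 2 (.node 1 (.one ⟨3095, 1, 1⟩) (.one ⟨12075, 0, 5⟩)) (.node 1 (.one ⟨2005, 1, 6⟩) (.one ⟨7596, 3, 5⟩))) (.node 2 (.node 1 (.one ⟨13726, 2, 4⟩) (.one ⟨654, 0, 5⟩)) (.node 1 (.one ⟨1923, 4, 7⟩) (.one ⟨13923, 3, 5⟩)))))))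
def par1_3_13 : Arr Par :=
  (.node 32 (.node 16 (.node 8 (.node 4 (.node 2 (.node 1 (.one ⟨11339, 3, 4⟩) (.one ⟨4909, 1, 5⟩)) (.node 1 (.one ⟨8078, 2, 5⟩) (.one ⟨10148, 1, 5⟩))) (.node 2 (.node 1 (.one ⟨12020, 0, 6⟩) (.one ⟨16495, 3, 6⟩)) (.node 1 (.one ⟨11969, 3, 5⟩) (.one ⟨10690, 1, 6⟩)))) (.node 4 (.node 2 (.node 1 (.one ⟨3932, 3, 5⟩) (.one ⟨1696, 4, 6⟩)) (.node 1 (.one ⟨1992, 1, 5⟩) (.one ⟨15213, 2, 5⟩))) (.node 2 (.node 1 (.one ⟨4975, 2, 4⟩) (.one ⟨15386, 0, 5⟩)) (.node 1 (.one ⟨14380, 4, 4⟩) (.one ⟨12679, 4, 6⟩))))) (.node 8 (.node 4 (.node 2 (.node 1 (.one ⟨2010, 1, 7⟩) (.one ⟨11759, 2, 3⟩)) (.node 1 (.one ⟨8740, 2, 4⟩) (.one ⟨11872, 4, 5⟩))) (.node 2 (.node 1 (.one ⟨12979, 4, 5⟩) (.one ⟨6913, 0, 7⟩))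 (.node 1 (.one ⟨6790, 2, 6⟩) (.one ⟨16479, 4, 6⟩)))) (.node 4 (.node 2 (.node 1 (.one ⟨8711, 4, 5⟩) (.one ⟨12001, 3, 6⟩)) (.node 1 (.one ⟨4885, 4, 6⟩) (.one ⟨414, 3, 6⟩))) (.node 2 (.node 1 (.one ⟨11678, 1, 4⟩) (.one ⟨13772, 4, 7⟩)) (.node 1 (.one ⟨4984, 2, 5⟩) (.one ⟨9396, 2, 5⟩)))))) (.node 16 (.node 8 (.node 4 (.node 2 (.node 1 (.one ⟨11636, 1, 5⟩) (.one ⟨10355, 4, 5⟩)) (.node 1 (.one ⟨6926, 0, 6⟩) (.one ⟨2796, 2, 5⟩))) (.node 2 (.node 1 (.one ⟨7340, 0, 4⟩) (.one ⟨4010, 0, 6⟩)) (.node 1 (.one ⟨796, 0, 6⟩) (.one ⟨7255, 0, 6⟩)))) (.node 4 (.node 2 (.node 1 (.one ⟨13087, 3, 6⟩) (.one ⟨10156, 1, 4⟩)) (.node 1 (.one ⟨15743, 3, 4⟩) (.one ⟨3610, 1, 6⟩))) (.node 2 (.node 1 (.one ⟨10917, 4, 3⟩) (.one ⟨16443, 0, 5⟩))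 (.node 1 (.one ⟨12772, 3, 6⟩) (.one ⟨13622, 3, 6⟩))))) (.node 8 (.node 4 (.node 2 (.node 1 (.one ⟨16982, 2, 6⟩) (.one ⟨12147, 4, 6⟩)) (.node 1 (.one ⟨13238, 3, 6⟩) (.one ⟨13773, 0, 5⟩))) (.node 2 (.node 1 (.one ⟨7823, 3, 6⟩) (.one ⟨433, 1, 5⟩)) (.node 1 (.one ⟨1296, 3, 5⟩) (.one ⟨336, 2, 6⟩)))) (.node 4 (.node 2 (.node 1 (.one ⟨7437, 4, 7⟩) (.one ⟨13943, 3, 6⟩)) (.node 1 (.one ⟨6955, 1, 5⟩) (.one ⟨3277, 0, 5⟩))) (.node 2 (.node 1 (.one ⟨2796, 3, 5⟩) (.one ⟨838, 4, 5⟩)) (.node 1 (.one ⟨6178, 3, 5⟩) (.one ⟨16495, 1, 6⟩)))))))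
def par1_3_14 : Arr Par :=
  (.node 32 (.node 16 (.node 8 (.node 4 (.node 2 (.node 1 (.one ⟨10385, 1, 5⟩) (.one ⟨13374, 2, 6⟩)) (.node 1 (.one ⟨4902, 4, 6⟩) (.one ⟨3025, 4, 7⟩))) (.node 2 (.node 1 (.one ⟨1925, 2, 5⟩) (.one ⟨8630, 3, 6⟩)) (.node 1 (.one ⟨11811, 1, 7⟩) (.one ⟨6957, 1, 5⟩)))) (.node 4 (.node 2 (.node 1 (.one ⟨3400, 4, 6⟩) (.one ⟨11170, 2, 7⟩)) (.node 1 (.one ⟨483, 2, 6⟩) (.one ⟨4906, 4, 6⟩))) (.node 2 (.node 1 (.one ⟨3261, 0, 5⟩) (.one ⟨2453, 0, 4⟩)) (.node 1 (.one ⟨3921, 3, 4⟩) (.one ⟨12296, 1, 5⟩))))) (.node 8 (.node 4 (.node 2 (.node 1 (.one ⟨11549, 4, 7⟩) (.one ⟨3574, 0, 7⟩)) (.node 1 (.one ⟨14951, 2, 6⟩) (.one ⟨14606, 4, 7⟩))) (.node 2 (.node 1 (.one ⟨11700, 3, 6⟩) (.one ⟨6907, 2, 6⟩)) (.node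 1 (.one ⟨10378, 1, 3⟩) (.one ⟨8175, 0, 6⟩)))) (.node 4 (.node 2 (.node 1 (.one ⟨13433, 4, 5⟩) (.one ⟨11406, 0, 5⟩)) (.node 1 (.one ⟨9242, 4, 5⟩) (.one ⟨14098, 3, 7⟩))) (.node 2 (.node 1 (.one ⟨11593, 4, 6⟩) (.one ⟨5702, 2, 6⟩)) (.node 1 (.one ⟨8853, 1, 5⟩) (.one ⟨2521, 2, 7⟩)))))) (.node 16 (.node 8 (.node 4 (.node 2 (.node 1 (.one ⟨15521, 2, 5⟩) (.one ⟨15476, 4, 5⟩)) (.node 1 (.one ⟨8853, 4, 5⟩) (.one ⟨11078, 3, 5⟩))) (.node 2 (.node 1 (.one ⟨10485, 0, 4⟩) (.one ⟨6709, 0, 5⟩)) (.node 1 (.one ⟨15040, 2, 6⟩) (.one ⟨2148, 2, 6⟩)))) (.node 4 (.node 2 (.node 1 (.one ⟨11631, 0, 6⟩) (.one ⟨10525, 4, 6⟩)) (.node 1 (.one ⟨662, 2, 5⟩) (.one ⟨10476, 4, 6⟩))) (.node 2 (.node 1 (.one ⟨4250, 1, 4⟩) (.one ⟨16514, 1, 6⟩))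 (.node 1 (.one ⟨5687, 4, 5⟩) (.one ⟨4003, 0, 6⟩))))) (.node 8 (.node 4 (.node 2 (.node 1 (.one ⟨15946, 2, 6⟩) (.one ⟨8557, 0, 6⟩)) (.node 1 (.one ⟨5972, 0, 6⟩) (.one ⟨6353, 2, 5⟩))) (.node 2 (.node 1 (.one ⟨3557, 4, 6⟩) (.one ⟨13830, 3, 5⟩)) (.node 1 (.one ⟨12588, 4, 6⟩) (.one ⟨16296, 2, 6⟩)))) (.node 4 (.node 2 (.node 1 (.one ⟨12301, 4, 5⟩) (.one ⟨9668, 1, 4⟩)) (.node 1 (.one ⟨16097, 3, 6⟩) (.one ⟨8542, 0, 6⟩))) (.node 2 (.node 1 (.one ⟨1066, 1, 4⟩) (.one ⟨1442, 3, 4⟩)) (.node 1 (.one ⟨10617, 3, 2⟩) (.one ⟨4713, 0, 4⟩)))))))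
def par1_3_15 : Arr Par :=
  (.node 32 (.node 16 (.node 8 (.node 4 (.node 2 (.node 1 (.one ⟨6766, 3, 6⟩) (.one ⟨840, 1, 6⟩)) (.node 1 (.one ⟨11015, 1, 6⟩) (.one ⟨11758, 1, 6⟩))) (.node 2 (.node 1 (.one ⟨11197, 0, 6⟩) (.one ⟨7538, 0, 4⟩)) (.node 1 (.one ⟨11097, 4, 6⟩) (.one ⟨15715, 1, 6⟩)))) (.node 4 (.node 2 (.node 1 (.one ⟨10956, 4, 6⟩) (.one ⟨16406, 0, 4⟩)) (.node 1 (.one ⟨16583, 0, 4⟩) (.one ⟨15222, 2, 5⟩))) (.node 2 (.node 1 (.one ⟨9453, 2, 6⟩) (.one ⟨10181, 3, 6⟩)) (.node 1 (.one ⟨9657, 3, 5⟩) (.one ⟨11990, 4, 5⟩))))) (.node 8 (.node 4 (.node 2 (.node 1 (.one ⟨232, 0, 5⟩) (.one ⟨39, 1, 0⟩)) (.node 1 (.one ⟨3637, 1, 6⟩) (.one ⟨15152, 2, 6⟩))) (.node 2 (.node 1 (.one ⟨12072, 0, 5⟩) (.one ⟨15650, 0, 5⟩))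 (.node 1 (.one ⟨1926, 4, 6⟩) (.one ⟨793, 4, 5⟩)))) (.node 4 (.node 2 (.node 1 (.one ⟨16394, 0, 5⟩) (.one ⟨14621, 3, 3⟩)) (.node 1 (.one ⟨15538, 3, 5⟩) (.one ⟨1885, 3, 5⟩))) (.node 2 (.node 1 (.one ⟨1602, 1, 6⟩) (.one ⟨11157, 2, 5⟩)) (.node 1 (.one ⟨8583, 3, 6⟩) (.one ⟨4705, 0, 5⟩)))))) (.node 16 (.node 8 (.node 4 (.node 2 (.node 1 (.one ⟨1290, 4, 5⟩) (.one ⟨11654, 3, 6⟩)) (.node 1 (.one ⟨11611, 2, 5⟩) (.one ⟨5284, 2, 5⟩))) (.node 2 (.node 1 (.one ⟨3643, 1, 4⟩) (.one ⟨15623, 0, 4⟩)) (.node 1 (.one ⟨11272, 2, 6⟩) (.one ⟨9156, 2, 5⟩)))) (.node 4 (.node 2 (.node 1 (.one ⟨796, 3, 6⟩) (.one ⟨2573, 4, 4⟩)) (.node 1 (.one ⟨7149, 2, 6⟩) (.one ⟨2524, 3, 6⟩))) (.node 2 (.node 1 (.one ⟨8505, 2, 4⟩) (.one ⟨12263, 2, 5⟩))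 (.node 1 (.one ⟨1941, 4, 4⟩) (.one ⟨7718, 2, 4⟩))))) (.node 8 (.node 4 (.node 2 (.node 1 (.one ⟨5395, 2, 6⟩) (.one ⟨10955, 1, 5⟩)) (.node 1 (.one ⟨6896, 2, 5⟩) (.one ⟨1814, 4, 6⟩))) (.node 2 (.node 1 (.one ⟨15130, 4, 4⟩) (.one ⟨9720, 3, 5⟩)) (.node 1 (.one ⟨714, 0, 5⟩) (.one ⟨845, 3, 5⟩)))) (.node 4 (.node 2 (.node 1 (.one ⟨4565, 1, 2⟩) (.one ⟨12777, 2, 6⟩)) (.node 1 (.one ⟨423, 0, 6⟩) (.one ⟨704, 1, 6⟩))) (.node 2 (.node 1 (.one ⟨16318, 2, 6⟩) (.one ⟨14703, 1, 4⟩)) (.node 1 (.one ⟨15596, 0, 6⟩) (.one ⟨3847, 3, 6⟩)))))))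
def par1_3 : Arr Par :=
  (.node 512 (.node 256 (.node 128 (.node 64 par1_3_0 par1_3_1) (.node 64 par1_3_2 par1_3_3)) (.node 128 (.node 64 par1_3_4 par1_3_5) (.node 64 par1_3_6 par1_3_7))) (.node 256 (.node 128 (.node 64 par1_3_8 par1_3_9) (.node 64 par1_3_10 par1_3_11)) (.node 128 (.node 64 par1_3_12 par1_3_13) (.node 64 par1_3_14 par1_3_15))))
def par1_4_0 : Arr Par :=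
  (.node 32 (.node 16 (.node 8 (.node 4 (.node 2 (.node 1 (.one ⟨752, 3, 7⟩) (.one ⟨4581, 1, 6⟩)) (.node 1 (.one ⟨3521, 2, 6⟩) (.one ⟨13212, 4, 4⟩))) (.node 2 (.node 1 (.one ⟨4774, 1, 5⟩) (.one ⟨9635, 4, 4⟩)) (.node 1 (.one ⟨4068, 3, 5⟩) (.one ⟨9349, 2, 5⟩)))) (.node 4 (.node 2 (.node 1 (.one ⟨14756, 3, 6⟩) (.one ⟨15595, 3, 3⟩)) (.node 1 (.one ⟨1475, 3, 6⟩) (.one ⟨14670, 1, 5⟩))) (.node 2 (.node 1 (.one ⟨8618, 0, 4⟩) (.one ⟨7485, 0, 6⟩)) (.node 1 (.one ⟨3234, 0, 6⟩) (.one ⟨3650, 1, 5⟩))))) (.node 8 (.node 4 (.node 2 (.node 1 (.one ⟨4708, 0, 5⟩) (.one ⟨3615, 4, 6⟩)) (.node 1 (.one ⟨12693, 1, 3⟩) (.one ⟨3149, 0, 6⟩))) (.node 2 (.node 1 (.one ⟨9698, 1, 6⟩) (.one ⟨16665, 2, 6⟩)) (.node 1 (.one ⟨11980, 2, 2⟩) (.one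 ⟨8356, 0, 5⟩)))) (.node 4 (.node 2 (.node 1 (.one ⟨11253, 0, 6⟩) (.one ⟨16727, 4, 6⟩)) (.node 1 (.one ⟨3841, 3, 6⟩) (.one ⟨4677, 0, 7⟩))) (.node 2 (.node 1 (.one ⟨7628, 1, 5⟩) (.one ⟨6588, 4, 6⟩)) (.node 1 (.one ⟨14818, 2, 6⟩) (.one ⟨12362, 3, 7⟩)))))) (.node 16 (.node 8 (.node 4 (.node 2 (.node 1 (.one ⟨190, 0, 5⟩) (.one ⟨5479, 4, 6⟩)) (.node 1 (.one ⟨8568, 0, 4⟩) (.one ⟨3899, 4, 6⟩))) (.node 2 (.node 1 (.one ⟨1229, 3, 6⟩) (.one ⟨11609, 2, 6⟩)) (.node 1 (.one ⟨16313, 0, 5⟩) (.one ⟨4876, 2, 5⟩)))) (.node 4 (.node 2 (.node 1 (.one ⟨6018, 0, 3⟩) (.one ⟨6128, 3, 6⟩)) (.node 1 (.one ⟨2654, 3, 5⟩) (.one ⟨15305, 4, 5⟩))) (.node 2 (.node 1 (.one ⟨16940, 3, 5⟩) (.one ⟨13974, 4, 6⟩)) (.node 1 (.one ⟨13497, 3, 6⟩) (.one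 ⟨13531, 1, 6⟩))))) (.node 8 (.node 4 (.node 2 (.node 1 (.one ⟨13421, 2, 6⟩) (.one ⟨7247, 4, 5⟩)) (.node 1 (.one ⟨206, 4, 5⟩) (.one ⟨16158, 1, 6⟩))) (.node 2 (.node 1 (.one ⟨6881, 4, 5⟩) (.one ⟨9830, 3, 5⟩)) (.node 1 (.one ⟨14493, 1, 6⟩) (.one ⟨16948, 2, 5⟩)))) (.node 4 (.node 2 (.node 1 (.one ⟨14656, 0, 6⟩) (.one ⟨14493, 2, 6⟩)) (.node 1 (.one ⟨10505, 2, 4⟩) (.one ⟨6845, 3, 6⟩))) (.node 2 (.node 1 (.one ⟨330, 2, 6⟩) (.one ⟨8408, 2, 3⟩)) (.node 1 (.one ⟨15065, 1, 3⟩) (.one ⟨9634, 4, 6⟩)))))))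
def par1_4_1 : Arr Par :=
  (.node 32 (.node 16 (.node 8 (.node 4 (.node 2 (.node 1 (.one ⟨11760, 0, 7⟩) (.one ⟨6203, 2, 6⟩)) (.node 1 (.one ⟨3994, 2, 6⟩) (.one ⟨5505, 1, 6⟩))) (.node 2 (.node 1 (.one ⟨6018, 2, 3⟩) (.one ⟨5479, 1, 6⟩)) (.node 1 (.one ⟨16312, 2, 3⟩) (.one ⟨1899, 2, 5⟩)))) (.node 4 (.node 2 (.node 1 (.one ⟨8573, 2, 5⟩) (.one ⟨13682, 3, 4⟩)) (.node 1 (.one ⟨2957, 0, 6⟩) (.one ⟨15075, 1, 6⟩))) (.node 2 (.node 1 (.one ⟨7034, 4, 5⟩) (.one ⟨12120, 4, 4⟩)) (.node 1 (.one ⟨16514, 4, 6⟩) (.one ⟨14759, 0, 6⟩))))) (.node 8 (.node 4 (.node 2 (.node 1 (.one ⟨6403, 2, 5⟩) (.one ⟨6644, 2, 5⟩)) (.node 1 (.one ⟨3289, 2, 3⟩) (.one ⟨4154, 3, 5⟩))) (.node 2 (.node 1 (.one ⟨234, 4, 5⟩) (.one ⟨1812, 4, 5⟩)) (.node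 1 (.one ⟨7405, 4, 6⟩) (.one ⟨6625, 0, 3⟩)))) (.node 4 (.node 2 (.node 1 (.one ⟨9609, 3, 6⟩) (.one ⟨4669, 0, 4⟩)) (.node 1 (.one ⟨653, 4, 6⟩) (.one ⟨16946, 2, 6⟩))) (.node 2 (.node 1 (.one ⟨15028, 1, 4⟩) (.one ⟨2708, 1, 6⟩)) (.node 1 (.one ⟨8921, 1, 6⟩) (.one ⟨14961, 4, 5⟩)))))) (.node 16 (.node 8 (.node 4 (.node 2 (.node 1 (.one ⟨10797, 4, 5⟩) (.one ⟨2339, 4, 5⟩)) (.node 1 (.one ⟨10674, 3, 7⟩) (.one ⟨3730, 0, 6⟩))) (.node 2 (.node 1 (.one ⟨10266, 2, 5⟩) (.one ⟨3401, 4, 5⟩)) (.node 1 (.one ⟨2352, 2, 6⟩) (.one ⟨1822, 4, 6⟩)))) (.node 4 (.node 2 (.node 1 (.one ⟨992, 0, 5⟩) (.one ⟨12812, 2, 6⟩)) (.node 1 (.one ⟨4870, 4, 6⟩) (.one ⟨2935, 0, 6⟩))) (.node 2 (.node 1 (.one ⟨4547, 4, 6⟩) (.one ⟨3644, 0, 6⟩)) (.node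 1 (.one ⟨5431, 4, 5⟩) (.one ⟨5488, 1, 6⟩))))) (.node 8 (.node 4 (.node 2 (.node 1 (.one ⟨601, 2, 4⟩) (.one ⟨2302, 4, 4⟩)) (.node 1 (.one ⟨4909, 3, 5⟩) (.one ⟨2337, 4, 4⟩))) (.node 2 (.node 1 (.one ⟨3924, 4, 6⟩) (.one ⟨3910, 4, 6⟩)) (.node 1 (.one ⟨907, 3, 6⟩) (.one ⟨17067, 1, 5⟩)))) (.node 4 (.node 2 (.node 1 (.one ⟨9056, 2, 5⟩) (.one ⟨14055, 4, 5⟩)) (.node 1 (.one ⟨14083, 0, 5⟩) (.one ⟨14800, 2, 6⟩))) (.node 2 (.node 1 (.one ⟨4925, 3, 6⟩) (.one ⟨14879, 2, 5⟩)) (.node 1 (.one ⟨16903, 4, 6⟩) (.one ⟨14407, 2, 2⟩)))))))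
def par1_4_2 : Arr Par :=
  (.node 32 (.node 16 (.node 8 (.node 4 (.node 2 (.node 1 (.one ⟨5106, 4, 2⟩) (.one ⟨15517, 4, 6⟩)) (.node 1 (.one ⟨2870, 0, 2⟩) (.one ⟨5336, 2, 6⟩))) (.node 2 (.node 1 (.one ⟨15881, 4, 6⟩) (.one ⟨136, 4, 6⟩)) (.node 1 (.one ⟨16543, 2, 6⟩) (.one ⟨7664, 0, 6⟩)))) (.node 4 (.node 2 (.node 1 (.one ⟨2631, 2, 4⟩) (.one ⟨8585, 3, 6⟩)) (.node 1 (.one ⟨8937, 1, 6⟩) (.one ⟨1066, 4, 4⟩))) (.node 2 (.node 1 (.one ⟨8498, 0, 5⟩) (.one ⟨9572, 2, 6⟩)) (.node 1 (.one ⟨11190, 3, 4⟩) (.one ⟨13588, 1, 5⟩))))) (.node 8 (.node 4 (.node 2 (.node 1 (.one ⟨2420, 3, 5⟩) (.one ⟨868, 3, 6⟩)) (.node 1 (.one ⟨13769, 3, 4⟩) (.one ⟨1388, 3, 6⟩))) (.node 2 (.node 1 (.one ⟨4692, 0, 5⟩) (.one ⟨14281, 3, 3⟩)) (.node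 1 (.one ⟨6430, 1, 4⟩) (.one ⟨12767, 3, 6⟩)))) (.node 4 (.node 2 (.node 1 (.one ⟨10256, 4, 5⟩) (.one ⟨2149, 4, 5⟩)) (.node 1 (.one ⟨10272, 4, 3⟩) (.one ⟨8530, 0, 5⟩))) (.node 2 (.node 1 (.one ⟨11609, 1, 6⟩) (.one ⟨16479, 3, 6⟩)) (.node 1 (.one ⟨11007, 3, 7⟩) (.one ⟨5531, 1, 6⟩)))))) (.node 16 (.node 8 (.node 4 (.node 2 (.node 1 (.one ⟨308, 4, 4⟩) (.one ⟨14118, 0, 5⟩)) (.node 1 (.one ⟨3291, 4, 4⟩) (.one ⟨7336, 3, 5⟩))) (.node 2 (.node 1 (.one ⟨7956, 3, 5⟩) (.one ⟨7222, 3, 5⟩)) (.node 1 (.one ⟨10910, 1, 6⟩) (.one ⟨14672, 0, 5⟩)))) (.node 4 (.node 2 (.node 1 (.one ⟨5188, 3, 5⟩) (.one ⟨7340, 3, 4⟩)) (.node 1 (.one ⟨9142, 4, 5⟩) (.one ⟨3237, 2, 6⟩))) (.node 2 (.node 1 (.one ⟨3020, 4, 6⟩) (.one ⟨1788, 2, 5⟩)) (.node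 1 (.one ⟨15766, 0, 6⟩) (.one ⟨15056, 0, 5⟩))))) (.node 8 (.node 4 (.node 2 (.node 1 (.one ⟨11406, 3, 5⟩) (.one ⟨2313, 1, 6⟩)) (.node 1 (.one ⟨15786, 3, 5⟩) (.one ⟨5161, 3, 4⟩))) (.node 2 (.node 1 (.one ⟨1021, 1, 5⟩) (.one ⟨15521, 0, 5⟩)) (.node 1 (.one ⟨15156, 3, 5⟩) (.one ⟨16261, 2, 5⟩)))) (.node 4 (.node 2 (.node 1 (.one ⟨7442, 3, 6⟩) (.one ⟨4726, 1, 5⟩)) (.node 1 (.one ⟨11593, 0, 6⟩) (.one ⟨7443, 3, 5⟩))) (.node 2 (.node 1 (.one ⟨7441, 3, 6⟩) (.one ⟨16712, 2, 5⟩)) (.node 1 (.one ⟨15102, 0, 5⟩) (.one ⟨862, 4, 5⟩)))))))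
def par1_4_3 : Arr Par :=
  (.node 32 (.node 16 (.node 8 (.node 4 (.node 2 (.node 1 (.one ⟨4323, 3, 5⟩) (.one ⟨12524, 0, 5⟩)) (.node 1 (.one ⟨16084, 0, 6⟩) (.one ⟨11171, 2, 5⟩))) (.node 2 (.node 1 (.one ⟨15577, 3, 4⟩) (.one ⟨12697, 1, 5⟩)) (.node 1 (.one ⟨10924, 0, 5⟩) (.one ⟨9188, 2, 5⟩)))) (.node 4 (.node 2 (.node 1 (.one ⟨10480, 4, 6⟩) (.one ⟨9831, 4, 5⟩)) (.node 1 (.one ⟨4734, 1, 5⟩) (.one ⟨6512, 1, 5⟩))) (.node 2 (.node 1 (.one ⟨17178, 1, 6⟩) (.one ⟨2778, 0, 6⟩)) (.node 1 (.one ⟨14570, 1, 5⟩) (.one ⟨12230, 3, 5⟩))))) (.node 8 (.node 4 (.node 2 (.node 1 (.one ⟨8196, 0, 6⟩) (.one ⟨4737, 1, 6⟩)) (.node 1 (.one ⟨11303, 2, 6⟩) (.one ⟨10485, 3, 4⟩))) (.node 2 (.node 1 (.one ⟨3342, 4, 6⟩) (.one ⟨12936, 3, 5⟩))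 (.node 1 (.one ⟨10348, 1, 6⟩) (.one ⟨14018, 2, 4⟩)))) (.node 4 (.node 2 (.node 1 (.one ⟨1784, 4, 6⟩) (.one ⟨1805, 2, 4⟩)) (.node 1 (.one ⟨16807, 4, 4⟩) (.one ⟨2161, 3, 6⟩))) (.node 2 (.node 1 (.one ⟨4480, 0, 4⟩) (.one ⟨12635, 1, 5⟩)) (.node 1 (.one ⟨4050, 2, 7⟩) (.one ⟨15040, 0, 6⟩)))))) (.node 16 (.node 8 (.node 4 (.node 2 (.node 1 (.one ⟨6282, 2, 5⟩) (.one ⟨10510, 2, 5⟩)) (.node 1 (.one ⟨8021, 0, 6⟩) (.one ⟨6997, 4, 4⟩))) (.node 2 (.node 1 (.one ⟨620, 3, 5⟩) (.one ⟨663, 3, 6⟩)) (.node 1 (.one ⟨12652, 1, 4⟩) (.one ⟨671, 4, 5⟩)))) (.node 4 (.node 2 (.node 1 (.one ⟨8142, 0, 5⟩) (.one ⟨9276, 4, 5⟩)) (.node 1 (.one ⟨9121, 2, 6⟩) (.one ⟨17189, 1, 5⟩))) (.node 2 (.node 1 (.one ⟨9631, 3, 6⟩) (.one ⟨8565, 2, 5⟩))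 (.node 1 (.one ⟨15516, 4, 6⟩) (.one ⟨12764, 3, 4⟩))))) (.node 8 (.node 4 (.node 2 (.node 1 (.one ⟨2880, 3, 6⟩) (.one ⟨14747, 3, 6⟩)) (.node 1 (.one ⟨8598, 3, 6⟩) (.one ⟨2813, 0, 6⟩))) (.node 2 (.node 1 (.one ⟨14953, 2, 6⟩) (.one ⟨16269, 0, 7⟩)) (.node 1 (.one ⟨7956, 2, 5⟩) (.one ⟨3519, 0, 6⟩)))) (.node 4 (.node 2 (.node 1 (.one ⟨3242, 3, 5⟩) (.one ⟨15415, 0, 5⟩)) (.node 1 (.one ⟨12558, 0, 5⟩) (.one ⟨2615, 3, 5⟩))) (.node 2 (.node 1 (.one ⟨2849, 2, 6⟩) (.one ⟨1880, 3, 5⟩)) (.node 1 (.one ⟨16205, 0, 4⟩) (.one ⟨15479, 0, 6⟩)))))))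
def par1_4_4 : Arr Par :=
  (.node 32 (.node 16 (.node 8 (.node 4 (.node 2 (.node 1 (.one ⟨15033, 0, 6⟩) (.one ⟨2996, 3, 7⟩)) (.node 1 (.one ⟨12355, 4, 6⟩) (.one ⟨4324, 3, 6⟩))) (.node 2 (.node 1 (.one ⟨5119, 1, 6⟩) (.one ⟨16705, 2, 6⟩)) (.node 1 (.one ⟨11652, 0, 6⟩) (.one ⟨12909, 4, 6⟩)))) (.node 4 (.node 2 (.node 1 (.one ⟨10011, 4, 5⟩) (.one ⟨7576, 2, 6⟩)) (.node 1 (.one ⟨14580, 1, 5⟩) (.one ⟨14357, 2, 4⟩))) (.node 2 (.node 1 (.one ⟨16981, 4, 6⟩) (.one ⟨5753, 3, 4⟩)) (.node 1 (.one ⟨12338, 2, 5⟩) (.one ⟨6871, 3, 6⟩))))) (.node 8 (.node 4 (.node 2 (.node 1 (.one ⟨8069, 2, 5⟩) (.one ⟨336, 3, 6⟩)) (.node 1 (.one ⟨3224, 3, 6⟩) (.one ⟨5935, 2, 6⟩))) (.node 2 (.node 1 (.one ⟨4738, 1, 5⟩) (.one ⟨238, 4, 5⟩)) (.node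 1 (.one ⟨2590, 3, 5⟩) (.one ⟨9101, 1, 6⟩)))) (.node 4 (.node 2 (.node 1 (.one ⟨11584, 0, 6⟩) (.one ⟨1999, 3, 6⟩)) (.node 1 (.one ⟨6315, 3, 5⟩) (.one ⟨4951, 4, 6⟩))) (.node 2 (.node 1 (.one ⟨8150, 0, 4⟩) (.one ⟨10838, 0, 6⟩)) (.node 1 (.one ⟨2605, 3, 5⟩) (.one ⟨16071, 3, 6⟩)))))) (.node 16 (.node 8 (.node 4 (.node 2 (.node 1 (.one ⟨5589, 4, 4⟩) (.one ⟨4245, 3, 4⟩)) (.node 1 (.one ⟨442, 3, 5⟩) (.one ⟨6569, 3, 3⟩))) (.node 2 (.node 1 (.one ⟨14480, 4, 5⟩) (.one ⟨10917, 0, 3⟩)) (.node 1 (.one ⟨5520, 2, 4⟩) (.one ⟨7418, 4, 5⟩)))) (.node 4 (.node 2 (.node 1 (.one ⟨10069, 4, 4⟩) (.one ⟨4577, 4, 6⟩)) (.node 1 (.one ⟨10507, 3, 5⟩) (.one ⟨15147, 0, 5⟩))) (.node 2 (.node 1 (.one ⟨13606, 4, 5⟩) (.one ⟨2345, 4, 6⟩)) (.node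 1 (.one ⟨14971, 4, 6⟩) (.one ⟨2667, 2, 7⟩))))) (.node 8 (.node 4 (.node 2 (.node 1 (.one ⟨10069, 1, 4⟩) (.one ⟨11372, 4, 6⟩)) (.node 1 (.one ⟨1221, 4, 5⟩) (.one ⟨14497, 4, 4⟩))) (.node 2 (.node 1 (.one ⟨3304, 3, 6⟩) (.one ⟨4797, 1, 6⟩)) (.node 1 (.one ⟨13937, 2, 6⟩) (.one ⟨6467, 2, 6⟩)))) (.node 4 (.node 2 (.node 1 (.one ⟨4494, 2, 7⟩) (.one ⟨15905, 4, 6⟩)) (.node 1 (.one ⟨4424, 0, 5⟩) (.one ⟨8503, 3, 3⟩))) (.node 2 (.node 1 (.one ⟨6768, 0, 6⟩) (.one ⟨3080, 4, 6⟩)) (.node 1 (.one ⟨1172, 3, 5⟩) (.one ⟨8659, 0, 7⟩)))))))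
def par1_4_5 : Arr Par :=
  (.node 32 (.node 16 (.node 8 (.node 4 (.node 2 (.node 1 (.one ⟨7685, 2, 5⟩) (.one ⟨6841, 3, 5⟩)) (.node 1 (.one ⟨838, 3, 5⟩) (.one ⟨11350, 0, 6⟩))) (.node 2 (.node 1 (.one ⟨8853, 3, 5⟩) (.one ⟨8006, 0, 6⟩)) (.node 1 (.one ⟨4068, 1, 5⟩) (.one ⟨16691, 0, 5⟩)))) (.node 4 (.node 2 (.node 1 (.one ⟨8637, 4, 4⟩) (.one ⟨12196, 1, 6⟩)) (.node 1 (.one ⟨15734, 3, 5⟩) (.one ⟨574, 3, 6⟩))) (.node 2 (.node 1 (.one ⟨809, 4, 4⟩) (.one ⟨12389, 3, 5⟩)) (.node 1 (.one ⟨11553, 1, 7⟩) (.one ⟨12164, 1, 6⟩))))) (.node 8 (.node 4 (.node 2 (.node 1 (.one ⟨14893, 0, 4⟩) (.one ⟨15978, 2, 5⟩)) (.node 1 (.one ⟨11874, 2, 7⟩) (.one ⟨4410, 0, 6⟩))) (.node 2 (.node 1 (.one ⟨13959, 2, 5⟩) (.one ⟨6502, 3, 6⟩)) (.node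 1 (.one ⟨2369, 0, 5⟩) (.one ⟨13455, 4, 3⟩)))) (.node 4 (.node 2 (.node 1 (.one ⟨9463, 4, 6⟩) (.one ⟨11507, 1, 7⟩)) (.node 1 (.one ⟨14888, 2, 6⟩) (.one ⟨14797, 0, 5⟩))) (.node 2 (.node 1 (.one ⟨16416, 2, 5⟩) (.one ⟨556, 3, 6⟩)) (.node 1 (.one ⟨14021, 4, 6⟩) (.one ⟨6131, 2, 6⟩)))))) (.node 16 (.node 8 (.node 4 (.node 2 (.node 1 (.one ⟨10127, 2, 6⟩) (.one ⟨3281, 0, 4⟩)) (.node 1 (.one ⟨5035, 3, 5⟩) (.one ⟨2001, 1, 7⟩))) (.node 2 (.node 1 (.one ⟨9709, 2, 3⟩) (.one ⟨2186, 2, 4⟩)) (.node 1 (.one ⟨5802, 0, 4⟩) (.one ⟨79, 4, 5⟩)))) (.node 4 (.node 2 (.node 1 (.one ⟨2, 4, 5⟩) (.one ⟨3048, 1, 6⟩)) (.node 1 (.one ⟨589, 4, 5⟩) (.one ⟨12865, 1, 6⟩))) (.node 2 (.node 1 (.one ⟨16061, 0, 5⟩) (.one ⟨1499, 4, 6⟩)) (.node 1 (.one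 ⟨11543, 1, 6⟩) (.one ⟨12, 0, 5⟩))))) (.node 8 (.node 4 (.node 2 (.node 1 (.one ⟨9506, 2, 4⟩) (.one ⟨15363, 0, 6⟩)) (.node 1 (.one ⟨5713, 2, 6⟩) (.one ⟨7211, 2, 5⟩))) (.node 2 (.node 1 (.one ⟨10960, 4, 6⟩) (.one ⟨2274, 1, 7⟩)) (.node 1 (.one ⟨16922, 1, 5⟩) (.one ⟨478, 2, 6⟩)))) (.node 4 (.node 2 (.node 1 (.one ⟨16447, 1, 6⟩) (.one ⟨650, 0, 6⟩)) (.node 1 (.one ⟨6867, 3, 6⟩) (.one ⟨552, 1, 6⟩))) (.node 2 (.node 1 (.one ⟨12534, 2, 6⟩) (.one ⟨10032, 2, 6⟩)) (.node 1 (.one ⟨1477, 4, 6⟩) (.one ⟨11143, 3, 6⟩)))))))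
def par1_4_6 : Arr Par :=
  (.node 32 (.node 16 (.node 8 (.node 4 (.node 2 (.node 1 (.one ⟨8972, 4, 3⟩) (.one ⟨5609, 3, 6⟩)) (.node 1 (.one ⟨6846, 1, 3⟩) (.one ⟨9079, 4, 6⟩))) (.node 2 (.node 1 (.one ⟨4200, 1, 6⟩) (.one ⟨13796, 2, 6⟩)) (.node 1 (.one ⟨9622, 4, 5⟩) (.one ⟨6897, 0, 5⟩)))) (.node 4 (.node 2 (.node 1 (.one ⟨12711, 4, 6⟩) (.one ⟨11755, 1, 6⟩)) (.node 1 (.one ⟨12328, 1, 7⟩) (.one ⟨2279, 3, 6⟩))) (.node 2 (.node 1 (.one ⟨2234, 1, 6⟩) (.one ⟨7483, 1, 5⟩)) (.node 1 (.one ⟨13092, 0, 6⟩) (.one ⟨14385, 4, 6⟩))))) (.node 8 (.node 4 (.node 2 (.node 1 (.one ⟨11777, 4, 4⟩) (.one ⟨7497, 1, 4⟩)) (.node 1 (.one ⟨13037, 2, 4⟩) (.one ⟨2361, 3, 3⟩))) (.node 2 (.node 1 (.one ⟨14820, 4, 3⟩) (.one ⟨16416, 3, 5⟩)) (.node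 1 (.one ⟨11590, 2, 6⟩) (.one ⟨7316, 0, 7⟩)))) (.node 4 (.node 2 (.node 1 (.one ⟨8113, 2, 5⟩) (.one ⟨16425, 3, 7⟩)) (.node 1 (.one ⟨8268, 0, 6⟩) (.one ⟨12546, 3, 4⟩))) (.node 2 (.node 1 (.one ⟨827, 1, 5⟩) (.one ⟨5862, 3, 7⟩)) (.node 1 (.one ⟨12331, 4, 5⟩) (.one ⟨2397, 2, 4⟩)))))) (.node 16 (.node 8 (.node 4 (.node 2 (.node 1 (.one ⟨12953, 3, 5⟩) (.one ⟨10411, 2, 4⟩)) (.node 1 (.one ⟨14046, 3, 5⟩) (.one ⟨1081, 2, 4⟩))) (.node 2 (.node 1 (.one ⟨5714, 2, 5⟩) (.one ⟨2488, 0, 6⟩)) (.node 1 (.one ⟨5076, 0, 6⟩) (.one ⟨6833, 1, 6⟩)))) (.node 4 (.node 2 (.node 1 (.one ⟨2294, 3, 6⟩) (.one ⟨6384, 3, 6⟩)) (.node 1 (.one ⟨14746, 4, 4⟩) (.one ⟨12577, 2, 5⟩))) (.node 2 (.node 1 (.one ⟨3653, 1, 6⟩) (.one ⟨16564, 4, 4⟩)) (.node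 1 (.one ⟨6906, 0, 5⟩) (.one ⟨16129, 2, 5⟩))))) (.node 8 (.node 4 (.node 2 (.node 1 (.one ⟨1349, 2, 6⟩) (.one ⟨8878, 3, 6⟩)) (.node 1 (.one ⟨10774, 0, 7⟩) (.one ⟨5694, 3, 6⟩))) (.node 2 (.node 1 (.one ⟨3013, 0, 4⟩) (.one ⟨6184, 1, 6⟩)) (.node 1 (.one ⟨4368, 4, 6⟩) (.one ⟨4302, 4, 6⟩)))) (.node 4 (.node 2 (.node 1 (.one ⟨14120, 2, 6⟩) (.one ⟨963, 3, 5⟩)) (.node 1 (.one ⟨4841, 4, 6⟩) (.one ⟨3426, 3, 3⟩))) (.node 2 (.node 1 (.one ⟨9518, 4, 6⟩) (.one ⟨743, 2, 4⟩)) (.node 1 (.one ⟨14324, 4, 6⟩) (.one ⟨6162, 1, 4⟩)))))))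
def par1_4_7 : Arr Par :=
  (.node 32 (.node 16 (.node 8 (.node 4 (.node 2 (.node 1 (.one ⟨9966, 4, 5⟩) (.one ⟨11157, 3, 5⟩)) (.node 1 (.one ⟨15198, 2, 4⟩) (.one ⟨14875, 0, 5⟩))) (.node 2 (.node 1 (.one ⟨11950, 0, 6⟩) (.one ⟨12621, 3, 6⟩)) (.node 1 (.one ⟨3780, 3, 5⟩) (.one ⟨15239, 2, 6⟩)))) (.node 4 (.node 2 (.node 1 (.one ⟨6430, 2, 4⟩) (.one ⟨14883, 0, 6⟩)) (.node 1 (.one ⟨14442, 0, 7⟩) (.one ⟨8390, 4, 5⟩))) (.node 2 (.node 1 (.one ⟨13619, 3, 3⟩) (.one ⟨11878, 4, 4⟩)) (.node 1 (.one ⟨16304, 3, 5⟩) (.one ⟨14873, 1, 4⟩))))) (.node 8 (.node 4 (.node 2 (.node 1 (.one ⟨16794, 1, 5⟩) (.one ⟨14871, 2, 5⟩)) (.node 1 (.one ⟨11980, 4, 2⟩) (.one ⟨1807, 1, 6⟩))) (.node 2 (.node 1 (.one ⟨3855, 1, 4⟩) (.one ⟨14599, 4,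 1⟩)) (.node 1 (.one ⟨14874, 2, 6⟩) (.one ⟨14157, 1, 6⟩)))) (.node 4 (.node 2 (.node 1 (.one ⟨15931, 2, 6⟩) (.one ⟨2948, 2, 5⟩)) (.node 1 (.one ⟨8938, 0, 5⟩) (.one ⟨15242, 3, 4⟩))) (.node 2 (.node 1 (.one ⟨4670, 2, 6⟩) (.one ⟨2641, 0, 5⟩)) (.node 1 (.one ⟨3506, 4, 6⟩) (.one ⟨4069, 4, 5⟩)))))) (.node 16 (.node 8 (.node 4 (.node 2 (.node 1 (.one ⟨2550, 2, 4⟩) (.one ⟨3533, 3, 5⟩)) (.node 1 (.one ⟨15892, 0, 5⟩) (.one ⟨2083, 4, 6⟩))) (.node 2 (.node 1 (.one ⟨17048, 2, 3⟩) (.one ⟨1835, 1, 5⟩)) (.node 1 (.one ⟨9423, 3, 5⟩) (.one ⟨3063, 2, 6⟩)))) (.node 4 (.node 2 (.node 1 (.one ⟨10422, 4, 4⟩) (.one ⟨16123, 2, 5⟩)) (.node 1 (.one ⟨680, 3, 5⟩) (.one ⟨16421, 3, 5⟩))) (.node 2 (.node 1 (.one ⟨14807, 1, 5⟩) (.one ⟨4846,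 1, 6⟩)) (.node 1 (.one ⟨7768, 1, 5⟩) (.one ⟨12581, 3, 5⟩))))) (.node 8 (.node 4 (.node 2 (.node 1 (.one ⟨12635, 3, 5⟩) (.one ⟨3473, 3, 6⟩)) (.node 1 (.one ⟨3833, 2, 6⟩) (.one ⟨11332, 4, 5⟩))) (.node 2 (.node 1 (.one ⟨3833, 0, 6⟩) (.one ⟨16406, 2, 4⟩)) (.node 1 (.one ⟨4891, 1, 6⟩) (.one ⟨6112, 3, 5⟩)))) (.node 4 (.node 2 (.node 1 (.one ⟨14550, 2, 7⟩) (.one ⟨1037, 3, 6⟩)) (.node 1 (.one ⟨3248, 2, 5⟩) (.one ⟨14388, 0, 4⟩))) (.node 2 (.node 1 (.one ⟨14891, 1, 6⟩) (.one ⟨15372, 4, 6⟩)) (.node 1 (.one ⟨10893, 4, 6⟩) (.one ⟨3316, 4, 6⟩)))))))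
def par1_4_8 : Arr Par :=
  (.node 32 (.node 16 (.node 8 (.node 4 (.node 2 (.node 1 (.one ⟨4239, 2, 6⟩) (.one ⟨4029, 2, 5⟩)) (.node 1 (.one ⟨11515, 4, 5⟩) (.one ⟨6785, 3, 5⟩))) (.node 2 (.node 1 (.one ⟨6437, 3, 6⟩) (.one ⟨14201, 1, 6⟩)) (.node 1 (.one ⟨2106, 2, 6⟩) (.one ⟨3773, 1, 4⟩)))) (.node 4 (.node 2 (.node 1 (.one ⟨6122, 1, 6⟩) (.one ⟨16692, 1, 7⟩)) (.node 1 (.one ⟨16226, 4, 6⟩) (.one ⟨14887, 0, 4⟩))) (.node 2 (.node 1 (.one ⟨666, 4, 5⟩) (.one ⟨12902, 1, 4⟩)) (.node 1 (.one ⟨930, 4, 6⟩) (.one ⟨1455, 2, 4⟩))))) (.node 8 (.node 4 (.node 2 (.node 1 (.one ⟨11911, 0, 5⟩) (.one ⟨1890, 4, 6⟩)) (.node 1 (.one ⟨8850, 4, 5⟩) (.one ⟨12012, 3, 7⟩))) (.node 2 (.node 1 (.one ⟨12570, 3, 5⟩) (.one ⟨16756, 1, 5⟩)) (.node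 1 (.one ⟨7813, 0, 5⟩) (.one ⟨6380, 0, 6⟩)))) (.node 4 (.node 2 (.node 1 (.one ⟨1256, 2, 5⟩) (.one ⟨9790, 1, 5⟩)) (.node 1 (.one ⟨4188, 2, 5⟩) (.one ⟨14175, 1, 6⟩))) (.node 2 (.node 1 (.one ⟨14899, 2, 3⟩) (.one ⟨5172, 4, 6⟩)) (.node 1 (.one ⟨3789, 1, 6⟩) (.one ⟨14213, 2, 5⟩)))))) (.node 16 (.node 8 (.node 4 (.node 2 (.node 1 (.one ⟨7765, 0, 5⟩) (.one ⟨2745, 4, 6⟩)) (.node 1 (.one ⟨14816, 3, 4⟩) (.one ⟨14474, 0, 4⟩))) (.node 2 (.node 1 (.one ⟨3793, 1, 6⟩) (.one ⟨8980, 0, 5⟩)) (.node 1 (.one ⟨2470, 2, 4⟩) (.one ⟨16100, 2, 6⟩)))) (.node 4 (.node 2 (.node 1 (.one ⟨15850, 0, 5⟩) (.one ⟨7758, 1, 5⟩)) (.node 1 (.one ⟨16724, 1, 6⟩) (.one ⟨3795, 0, 5⟩))) (.node 2 (.node 1 (.one ⟨3634, 3, 5⟩) (.one ⟨12866, 1, 4⟩)) (.node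 1 (.one ⟨12857, 3, 5⟩) (.one ⟨3203, 0, 5⟩))))) (.node 8 (.node 4 (.node 2 (.node 1 (.one ⟨1305, 3, 6⟩) (.one ⟨5599, 4, 5⟩)) (.node 1 (.one ⟨2105, 3, 5⟩) (.one ⟨4069, 3, 5⟩))) (.node 2 (.node 1 (.one ⟨2202, 4, 3⟩) (.one ⟨516, 4, 6⟩)) (.node 1 (.one ⟨9662, 4, 5⟩) (.one ⟨10731, 2, 5⟩)))) (.node 4 (.node 2 (.node 1 (.one ⟨11713, 1, 4⟩) (.one ⟨11749, 1, 5⟩)) (.node 1 (.one ⟨2311, 2, 3⟩) (.one ⟨11751, 1, 5⟩))) (.node 2 (.node 1 (.one ⟨3217, 0, 6⟩) (.one ⟨3642, 1, 3⟩)) (.node 1 (.one ⟨3184, 0, 5⟩) (.one ⟨15741, 1, 6⟩)))))))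
def par1_4_9 : Arr Par :=
  (.node 32 (.node 16 (.node 8 (.node 4 (.node 2 (.node 1 (.one ⟨15763, 1, 5⟩) (.one ⟨4993, 3, 6⟩)) (.node 1 (.one ⟨7681, 1, 5⟩) (.one ⟨15543, 0, 6⟩))) (.node 2 (.node 1 (.one ⟨7528, 0, 6⟩) (.one ⟨16447, 3, 6⟩)) (.node 1 (.one ⟨137, 4, 5⟩) (.one ⟨13573, 4, 6⟩)))) (.node 4 (.node 2 (.node 1 (.one ⟨5391, 2, 7⟩) (.one ⟨10268, 2, 4⟩)) (.node 1 (.one ⟨13085, 4, 7⟩) (.one ⟨7705, 1, 2⟩))) (.node 2 (.node 1 (.one ⟨13061, 2, 6⟩) (.one ⟨2472, 4, 5⟩)) (.node 1 (.one ⟨15782, 1, 4⟩) (.one ⟨2261, 4, 7⟩))))) (.node 8 (.node 4 (.node 2 (.node 1 (.one ⟨1671, 3, 5⟩) (.one ⟨7201, 4, 6⟩)) (.node 1 (.one ⟨4191, 2, 6⟩) (.one ⟨5032, 3, 6⟩))) (.node 2 (.node 1 (.one ⟨12866, 3, 4⟩) (.one ⟨15692, 1, 4⟩)) (.node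 1 (.one ⟨7641, 1, 6⟩) (.one ⟨3070, 4, 6⟩)))) (.node 4 (.node 2 (.node 1 (.one ⟨15667, 1, 5⟩) (.one ⟨1874, 3, 5⟩)) (.node 1 (.one ⟨15677, 1, 4⟩) (.one ⟨15639, 0, 4⟩))) (.node 2 (.node 1 (.one ⟨7589, 0, 6⟩) (.one ⟨4307, 4, 5⟩)) (.node 1 (.one ⟨7563, 0, 5⟩) (.one ⟨3159, 0, 6⟩)))))) (.node 16 (.node 8 (.node 4 (.node 2 (.node 1 (.one ⟨11241, 0, 5⟩) (.one ⟨15463, 4, 4⟩)) (.node 1 (.one ⟨3152, 0, 6⟩) (.one ⟨459, 3, 6⟩))) (.node 2 (.node 1 (.one ⟨11777, 1, 4⟩) (.one ⟨3121, 0, 6⟩)) (.node 1 (.one ⟨11200, 0, 6⟩) (.one ⟨5210, 4, 4⟩)))) (.node 4 (.node 2 (.node 1 (.one ⟨9757, 4, 5⟩) (.one ⟨3139, 0, 3⟩)) (.node 1 (.one ⟨1903, 3, 5⟩) (.one ⟨10035, 3, 5⟩))) (.node 2 (.node 1 (.one ⟨1225, 3, 6⟩) (.one ⟨4459, 3, 7⟩)) (.node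 1 (.one ⟨11803, 1, 6⟩) (.one ⟨17159, 0, 5⟩))))) (.node 8 (.node 4 (.node 2 (.node 1 (.one ⟨17186, 0, 7⟩) (.one ⟨9950, 1, 6⟩)) (.node 1 (.one ⟨6211, 4, 5⟩) (.one ⟨1869, 1, 6⟩))) (.node 2 (.node 1 (.one ⟨8271, 3, 5⟩) (.one ⟨17197, 0, 6⟩)) (.node 1 (.one ⟨2296, 2, 4⟩) (.one ⟨1254, 4, 5⟩)))) (.node 4 (.node 2 (.node 1 (.one ⟨10919, 4, 6⟩) (.one ⟨11185, 2, 5⟩)) (.node 1 (.one ⟨2166, 4, 6⟩) (.one ⟨3217, 4, 6⟩))) (.node 2 (.node 1 (.one ⟨1260, 3, 5⟩) (.one ⟨3198, 3, 6⟩)) (.node 1 (.one ⟨13884, 2, 4⟩) (.one ⟨12166, 4, 6⟩)))))))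
def par1_4_10 : Arr Par :=
  (.node 32 (.node 16 (.node 8 (.node 4 (.node 2 (.node 1 (.one ⟨9990, 2, 6⟩) (.one ⟨3488, 2, 5⟩)) (.node 1 (.one ⟨5590, 1, 4⟩) (.one ⟨13200, 0, 6⟩))) (.node 2 (.node 1 (.one ⟨3074, 4, 6⟩) (.one ⟨15623, 2, 4⟩)) (.node 1 (.one ⟨13180, 0, 5⟩) (.one ⟨902, 4, 6⟩)))) (.node 4 (.node 2 (.node 1 (.one ⟨7510, 2, 7⟩) (.one ⟨13620, 1, 6⟩)) (.node 1 (.one ⟨14807, 4, 5⟩) (.one ⟨1096, 3, 5⟩))) (.node 2 (.node 1 (.one ⟨3793, 4, 6⟩) (.one ⟨5580, 1, 4⟩)) (.node 1 (.one ⟨7968, 3, 4⟩) (.one ⟨12302, 3, 7⟩))))) (.node 8 (.node 4 (.node 2 (.node 1 (.one ⟨13682, 1, 4⟩) (.one ⟨4692, 2, 5⟩)) (.node 1 (.one ⟨14423, 4, 5⟩) (.one ⟨8806, 3, 6⟩))) (.node 2 (.node 1 (.one ⟨17083, 0, 6⟩) (.one ⟨14932, 2, 5⟩)) (.node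 1 (.one ⟨4226, 3, 3⟩) (.one ⟨15397, 3, 5⟩)))) (.node 4 (.node 2 (.node 1 (.one ⟨4082, 4, 6⟩) (.one ⟨3317, 4, 5⟩)) (.node 1 (.one ⟨5665, 3, 5⟩) (.one ⟨1400, 2, 5⟩))) (.node 2 (.node 1 (.one ⟨17088, 0, 6⟩) (.one ⟨5652, 1, 5⟩)) (.node 1 (.one ⟨9010, 0, 6⟩) (.one ⟨11806, 4, 6⟩)))))) (.node 16 (.node 8 (.node 4 (.node 2 (.node 1 (.one ⟨2435, 2, 6⟩) (.one ⟨2608, 4, 6⟩)) (.node 1 (.one ⟨2945, 2, 7⟩) (.one ⟨3458, 4, 5⟩))) (.node 2 (.node 1 (.one ⟨16415, 3, 6⟩) (.one ⟨13034, 4, 6⟩)) (.node 1 (.one ⟨1937, 1, 4⟩) (.one ⟨1150, 4, 6⟩)))) (.node 4 (.node 2 (.node 1 (.one ⟨14337, 3, 6⟩) (.one ⟨15097, 3, 7⟩)) (.node 1 (.one ⟨15499, 4, 5⟩) (.one ⟨9973, 1, 6⟩))) (.node 2 (.node 1 (.one ⟨6661, 4, 5⟩) (.one ⟨10440, 4, 6⟩)) (.node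 1 (.one ⟨7008, 4, 5⟩) (.one ⟨4314, 2, 5⟩))))) (.node 8 (.node 4 (.node 2 (.node 1 (.one ⟨7728, 1, 3⟩) (.one ⟨5522, 1, 6⟩)) (.node 1 (.one ⟨1276, 4, 3⟩) (.one ⟨8705, 4, 4⟩))) (.node 2 (.node 1 (.one ⟨7983, 1, 6⟩) (.one ⟨14062, 3, 6⟩)) (.node 1 (.one ⟨10073, 4, 5⟩) (.one ⟨5177, 1, 5⟩)))) (.node 4 (.node 2 (.node 1 (.one ⟨7185, 0, 5⟩) (.one ⟨15146, 4, 3⟩)) (.node 1 (.one ⟨11503, 4, 6⟩) (.one ⟨2180, 3, 6⟩))) (.node 2 (.node 1 (.one ⟨6154, 1, 5⟩) (.one ⟨13773, 3, 5⟩)) (.node 1 (.one ⟨4012, 0, 5⟩) (.one ⟨13478, 3, 6⟩)))))))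
def par1_4_11 : Arr Par :=
  (.node 32 (.node 16 (.node 8 (.node 4 (.node 2 (.node 1 (.one ⟨7825, 1, 6⟩) (.one ⟨3561, 2, 7⟩)) (.node 1 (.one ⟨1861, 4, 6⟩) (.one ⟨8867, 2, 4⟩))) (.node 2 (.node 1 (.one ⟨5815, 3, 6⟩) (.one ⟨16148, 2, 5⟩)) (.node 1 (.one ⟨10042, 4, 6⟩) (.one ⟨10325, 3, 5⟩)))) (.node 4 (.node 2 (.node 1 (.one ⟨7465, 4, 2⟩) (.one ⟨8012, 1, 5⟩)) (.node 1 (.one ⟨10759, 2, 1⟩) (.one ⟨16914, 2, 6⟩))) (.node 2 (.node 1 (.one ⟨4928, 2, 6⟩) (.one ⟨424, 4, 6⟩)) (.node 1 (.one ⟨11317, 1, 6⟩) (.one ⟨12922, 2, 5⟩))))) (.node 8 (.node 4 (.node 2 (.node 1 (.one ⟨10935, 0, 6⟩) (.one ⟨2974, 2, 5⟩)) (.node 1 (.one ⟨13892, 2, 6⟩) (.one ⟨15222, 0, 5⟩))) (.node 2 (.node 1 (.one ⟨5984, 4, 6⟩) (.one ⟨9108, 3, 5⟩)) (.node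 1 (.one ⟨3007, 2, 4⟩) (.one ⟨8618, 4, 4⟩)))) (.node 4 (.node 2 (.node 1 (.one ⟨14149, 3, 7⟩) (.one ⟨1856, 4, 4⟩)) (.node 1 (.one ⟨1332, 2, 7⟩) (.one ⟨15245, 2, 4⟩))) (.node 2 (.node 1 (.one ⟨2891, 0, 6⟩) (.one ⟨16766, 2, 6⟩)) (.node 1 (.one ⟨1459, 4, 4⟩) (.one ⟨16104, 1, 5⟩)))))) (.node 16 (.node 8 (.node 4 (.node 2 (.node 1 (.one ⟨13597, 1, 4⟩) (.one ⟨302, 2, 6⟩)) (.node 1 (.one ⟨13834, 3, 6⟩) (.one ⟨13061, 3, 6⟩))) (.node 2 (.node 1 (.one ⟨9122, 3, 5⟩) (.one ⟨5061, 4, 7⟩)) (.node 1 (.one ⟨13712, 2, 6⟩) (.one ⟨16304, 4, 5⟩)))) (.node 4 (.node 2 (.node 1 (.one ⟨15858, 1, 6⟩) (.one ⟨11464, 1, 5⟩)) (.node 1 (.one ⟨13252, 2, 6⟩) (.one ⟨4219, 3, 7⟩))) (.node 2 (.node 1 (.one ⟨16048, 1, 5⟩) (.one ⟨9561, 2, 6⟩))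 (.node 1 (.one ⟨8881, 4, 5⟩) (.one ⟨7396, 2, 7⟩))))) (.node 8 (.node 4 (.node 2 (.node 1 (.one ⟨5609, 1, 6⟩) (.one ⟨5665, 4, 5⟩)) (.node 1 (.one ⟨11882, 4, 6⟩) (.one ⟨7176, 3, 7⟩))) (.node 2 (.node 1 (.one ⟨6416, 0, 6⟩) (.one ⟨4136, 2, 4⟩)) (.node 1 (.one ⟨14517, 2, 6⟩) (.one ⟨15496, 4, 2⟩)))) (.node 4 (.node 2 (.node 1 (.one ⟨10759, 4, 1⟩) (.one ⟨3723, 1, 4⟩)) (.node 1 (.one ⟨5257, 0, 5⟩) (.one ⟨13511, 4, 2⟩))) (.node 2 (.node 1 (.one ⟨6396, 0, 4⟩) (.one ⟨10388, 3, 6⟩)) (.node 1 (.one ⟨17154, 1, 6⟩) (.one ⟨14452, 0, 6⟩)))))))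
def par1_4_12 : Arr Par :=
  (.node 32 (.node 16 (.node 8 (.node 4 (.node 2 (.node 1 (.one ⟨2173, 4, 6⟩) (.one ⟨7385, 3, 5⟩)) (.node 1 (.one ⟨16461, 2, 6⟩) (.one ⟨12334, 3, 5⟩))) (.node 2 (.node 1 (.one ⟨7148, 1, 6⟩) (.one ⟨13319, 0, 5⟩)) (.node 1 (.one ⟨5575, 1, 5⟩) (.one ⟨16721, 2, 5⟩)))) (.node 4 (.node 2 (.node 1 (.one ⟨6121, 2, 3⟩) (.one ⟨11358, 3, 7⟩)) (.node 1 (.one ⟨10413, 4, 6⟩) (.one ⟨1287, 3, 6⟩))) (.node 2 (.node 1 (.one ⟨7192, 1, 4⟩) (.one ⟨1034, 2, 6⟩)) (.node 1 (.one ⟨11715, 4, 5⟩) (.one ⟨9499, 2, 5⟩))))) (.node 8 (.node 4 (.node 2 (.node 1 (.one ⟨15881, 3, 6⟩) (.one ⟨12038, 4, 6⟩)) (.node 1 (.one ⟨11206, 1, 6⟩) (.one ⟨15444, 2, 6⟩))) (.node 2 (.node 1 (.one ⟨14391, 4, 5⟩) (.one ⟨11644, 4, 5⟩))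 (.node 1 (.one ⟨13296, 3, 6⟩) (.one ⟨7854, 4, 4⟩)))) (.node 4 (.node 2 (.node 1 (.one ⟨86, 2, 5⟩) (.one ⟨16920, 3, 5⟩)) (.node 1 (.one ⟨64, 2, 6⟩) (.one ⟨7753, 4, 5⟩))) (.node 2 (.node 1 (.one ⟨15883, 4, 6⟩) (.one ⟨5910, 0, 5⟩)) (.node 1 (.one ⟨1548, 2, 5⟩) (.one ⟨11431, 3, 5⟩)))))) (.node 16 (.node 8 (.node 4 (.node 2 (.node 1 (.one ⟨15515, 2, 6⟩) (.one ⟨6663, 2, 6⟩)) (.node 1 (.one ⟨7795, 0, 6⟩) (.one ⟨2811, 3, 5⟩))) (.node 2 (.node 1 (.one ⟨16874, 4, 6⟩) (.one ⟨16932, 3, 6⟩)) (.node 1 (.one ⟨1299, 3, 5⟩) (.one ⟨9076, 1, 4⟩)))) (.node 4 (.node 2 (.node 1 (.one ⟨13376, 1, 5⟩) (.one ⟨15259, 1, 6⟩)) (.node 1 (.one ⟨16752, 2, 5⟩) (.one ⟨16405, 2, 5⟩))) (.node 2 (.node 1 (.one ⟨12750, 2, 5⟩) (.one ⟨12931, 3, 4⟩))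 (.node 1 (.one ⟨4902, 0, 6⟩) (.one ⟨5290, 0, 6⟩))))) (.node 8 (.node 4 (.node 2 (.node 1 (.one ⟨8605, 4, 6⟩) (.one ⟨7522, 2, 6⟩)) (.node 1 (.one ⟨15154, 4, 6⟩) (.one ⟨12303, 4, 4⟩))) (.node 2 (.node 1 (.one ⟨12284, 4, 5⟩) (.one ⟨8626, 0, 5⟩)) (.node 1 (.one ⟨15884, 0, 5⟩) (.one ⟨4757, 3, 6⟩)))) (.node 4 (.node 2 (.node 1 (.one ⟨9543, 4, 6⟩) (.one ⟨497, 3, 6⟩)) (.node 1 (.one ⟨12071, 2, 4⟩) (.one ⟨15940, 3, 5⟩))) (.node 2 (.node 1 (.one ⟨11664, 4, 5⟩) (.one ⟨6802, 4, 5⟩)) (.node 1 (.one ⟨11332, 1, 5⟩) (.one ⟨4957, 3, 4⟩)))))))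
def par1_4_13 : Arr Par :=
  (.node 32 (.node 16 (.node 8 (.node 4 (.node 2 (.node 1 (.one ⟨15995, 2, 5⟩) (.one ⟨14188, 1, 5⟩)) (.node 1 (.one ⟨5443, 1, 7⟩) (.one ⟨10244, 4, 6⟩))) (.node 2 (.node 1 (.one ⟨7970, 4, 6⟩) (.one ⟨14981, 2, 6⟩)) (.node 1 (.one ⟨5145, 3, 5⟩) (.one ⟨1270, 3, 5⟩)))) (.node 4 (.node 2 (.node 1 (.one ⟨3048, 3, 6⟩) (.one ⟨13277, 0, 6⟩)) (.node 1 (.one ⟨5926, 0, 6⟩) (.one ⟨9624, 4, 5⟩))) (.node 2 (.node 1 (.one ⟨2077, 2, 6⟩) (.one ⟨14131, 1, 5⟩)) (.node 1 (.one ⟨905, 2, 3⟩) (.one ⟨4857, 4, 5⟩))))) (.node 8 (.node 4 (.node 2 (.node 1 (.one ⟨5575, 2, 5⟩) (.one ⟨5854, 1, 6⟩)) (.node 1 (.one ⟨13059, 3, 5⟩) (.one ⟨6068, 1, 4⟩))) (.node 2 (.node 1 (.one ⟨5909, 0, 3⟩) (.one ⟨8683, 3, 5⟩)) (.node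 1 (.one ⟨6016, 4, 2⟩) (.one ⟨3253, 1, 5⟩)))) (.node 4 (.node 2 (.node 1 (.one ⟨8092, 1, 6⟩) (.one ⟨5450, 1, 5⟩)) (.node 1 (.one ⟨8567, 4, 3⟩) (.one ⟨7694, 3, 3⟩))) (.node 2 (.node 1 (.one ⟨3450, 1, 4⟩) (.one ⟨6119, 1, 3⟩)) (.node 1 (.one ⟨5880, 3, 5⟩) (.one ⟨7898, 2, 6⟩)))))) (.node 16 (.node 8 (.node 4 (.node 2 (.node 1 (.one ⟨16719, 0, 6⟩) (.one ⟨11141, 4, 5⟩)) (.node 1 (.one ⟨1853, 3, 5⟩) (.one ⟨5631, 4, 4⟩))) (.node 2 (.node 1 (.one ⟨4245, 2, 4⟩) (.one ⟨4758, 3, 4⟩)) (.node 1 (.one ⟨7717, 2, 3⟩) (.one ⟨15569, 2, 6⟩)))) (.node 4 (.node 2 (.node 1 (.one ⟨3473, 1, 6⟩) (.one ⟨5226, 0, 6⟩)) (.node 1 (.one ⟨12946, 4, 4⟩) (.one ⟨15109, 0, 4⟩))) (.node 2 (.node 1 (.one ⟨5739, 3, 6⟩) (.one ⟨12534, 0, 6⟩)) (.node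 1 (.one ⟨685, 4, 7⟩) (.one ⟨11776, 3, 3⟩))))) (.node 8 (.node 4 (.node 2 (.node 1 (.one ⟨5763, 4, 6⟩) (.one ⟨9022, 1, 6⟩)) (.node 1 (.one ⟨2333, 0, 6⟩) (.one ⟨15149, 2, 5⟩))) (.node 2 (.node 1 (.one ⟨13795, 3, 6⟩) (.one ⟨3534, 3, 6⟩)) (.node 1 (.one ⟨13001, 4, 6⟩) (.one ⟨16022, 0, 5⟩)))) (.node 4 (.node 2 (.node 1 (.one ⟨15245, 1, 4⟩) (.one ⟨13759, 3, 6⟩)) (.node 1 (.one ⟨2927, 2, 3⟩) (.one ⟨5682, 3, 6⟩))) (.node 2 (.node 1 (.one ⟨15250, 3, 3⟩) (.one ⟨10707, 4, 3⟩)) (.node 1 (.one ⟨3353, 3, 6⟩) (.one ⟨5880, 4, 5⟩)))))))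
def par1_4_14 : Arr Par :=
  (.node 32 (.node 16 (.node 8 (.node 4 (.node 2 (.node 1 (.one ⟨15180, 3, 5⟩) (.one ⟨16053, 4, 5⟩)) (.node 1 (.one ⟨15181, 3, 5⟩) (.one ⟨7861, 1, 6⟩))) (.node 2 (.node 1 (.one ⟨15182, 3, 6⟩) (.one ⟨12725, 2, 4⟩)) (.node 1 (.one ⟨5529, 4, 4⟩) (.one ⟨1056, 4, 6⟩)))) (.node 4 (.node 2 (.node 1 (.one ⟨10197, 2, 6⟩) (.one ⟨12089, 2, 6⟩)) (.node 1 (.one ⟨16026, 0, 6⟩) (.one ⟨12240, 2, 6⟩))) (.node 2 (.node 1 (.one ⟨10388, 0, 6⟩) (.one ⟨4183, 2, 4⟩)) (.node 1 (.one ⟨8267, 0, 4⟩) (.one ⟨4564, 4, 5⟩))))) (.node 8 (.node 4 (.node 2 (.node 1 (.one ⟨3642, 4, 3⟩) (.one ⟨14523, 2, 3⟩)) (.node 1 (.one ⟨7801, 3, 5⟩) (.one ⟨16473, 3, 6⟩))) (.node 2 (.node 1 (.one ⟨8764, 4, 6⟩) (.one ⟨13418, 0, 6⟩))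 (.node 1 (.one ⟨14039, 3, 4⟩) (.one ⟨5383, 0, 5⟩)))) (.node 4 (.node 2 (.node 1 (.one ⟨16023, 3, 6⟩) (.one ⟨7133, 1, 4⟩)) (.node 1 (.one ⟨2298, 4, 5⟩) (.one ⟨7149, 3, 6⟩))) (.node 2 (.node 1 (.one ⟨485, 3, 5⟩) (.one ⟨1875, 2, 5⟩)) (.node 1 (.one ⟨16017, 0, 6⟩) (.one ⟨4929, 0, 6⟩)))))) (.node 16 (.node 8 (.node 4 (.node 2 (.node 1 (.one ⟨16509, 2, 4⟩) (.one ⟨4283, 2, 6⟩)) (.node 1 (.one ⟨16018, 0, 6⟩) (.one ⟨14740, 0, 5⟩))) (.node 2 (.node 1 (.one ⟨14815, 4, 3⟩) (.one ⟨6184, 4, 6⟩)) (.node 1 (.one ⟨8499, 2, 4⟩) (.one ⟨15195, 1, 5⟩)))) (.node 4 (.node 2 (.node 1 (.one ⟨4069, 2, 5⟩) (.one ⟨291, 1, 6⟩)) (.node 1 (.one ⟨16355, 4, 6⟩) (.one ⟨8285, 4, 4⟩))) (.node 2 (.node 1 (.one ⟨8267, 4, 4⟩) (.one ⟨1937, 3, 4⟩))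 (.node 1 (.one ⟨2220, 3, 6⟩) (.one ⟨13017, 0, 5⟩))))) (.node 8 (.node 4 (.node 2 (.node 1 (.one ⟨3124, 0, 6⟩) (.one ⟨9214, 4, 5⟩)) (.node 1 (.one ⟨4424, 4, 5⟩) (.one ⟨504, 3, 4⟩))) (.node 2 (.node 1 (.one ⟨390, 3, 6⟩) (.one ⟨736, 3, 6⟩)) (.node 1 (.one ⟨268, 0, 5⟩) (.one ⟨79, 3, 5⟩)))) (.node 4 (.node 2 (.node 1 (.one ⟨14542, 0, 6⟩) (.one ⟨1221, 3, 5⟩)) (.node 1 (.one ⟨10156, 2, 4⟩) (.one ⟨4954, 0, 4⟩))) (.node 2 (.node 1 (.one ⟨16984, 4, 6⟩) (.one ⟨12228, 0, 2⟩)) (.node 1 (.one ⟨10153, 2, 6⟩) (.one ⟨5740, 2, 5⟩)))))))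
def par1_4_15 : Arr Par :=
  (.node 32 (.node 16 (.node 8 (.node 4 (.node 2 (.node 1 (.one ⟨5768, 4, 5⟩) (.one ⟨5509, 1, 5⟩)) (.node 1 (.one ⟨6933, 0, 4⟩) (.one ⟨7674, 3, 5⟩))) (.node 2 (.node 1 (.one ⟨5878, 2, 4⟩) (.one ⟨12066, 2, 6⟩)) (.node 1 (.one ⟨12259, 2, 4⟩) (.one ⟨256, 3, 6⟩)))) (.node 4 (.node 2 (.node 1 (.one ⟨3354, 4, 6⟩) (.one ⟨13225, 3, 6⟩)) (.node 1 (.one ⟨12246, 2, 5⟩) (.one ⟨9166, 2, 5⟩))) (.node 2 (.node 1 (.one ⟨13826, 3, 4⟩) (.one ⟨8784, 2, 6⟩)) (.node 1 (.one ⟨8961, 3, 7⟩) (.one ⟨3615, 3, 6⟩))))) (.node 8 (.node 4 (.node 2 (.node 1 (.one ⟨13032, 0, 4⟩) (.one ⟨11078, 1, 5⟩)) (.node 1 (.one ⟨6363, 4, 5⟩) (.one ⟨4979, 2, 6⟩))) (.node 2 (.node 1 (.one ⟨8938, 3, 5⟩) (.one ⟨14522, 0, 5⟩)) (.node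 1 (.one ⟨10924, 2, 5⟩) (.one ⟨1021, 3, 5⟩)))) (.node 4 (.node 2 (.node 1 (.one ⟨5893, 2, 6⟩) (.one ⟨4223, 0, 3⟩)) (.node 1 (.one ⟨7669, 3, 6⟩) (.one ⟨10058, 2, 5⟩))) (.node 2 (.node 1 (.one ⟨3118, 1, 5⟩) (.one ⟨4497, 1, 5⟩)) (.node 1 (.one ⟨14599, 2, 1⟩) (.one ⟨590, 3, 6⟩)))))) (.node 16 (.node 8 (.node 4 (.node 2 (.node 1 (.one ⟨10683, 2, 6⟩) (.one ⟨185, 4, 5⟩)) (.node 1 (.one ⟨5078, 3, 6⟩) (.one ⟨9796, 2, 7⟩))) (.node 2 (.node 1 (.one ⟨16288, 4, 5⟩) (.one ⟨4525, 1, 5⟩)) (.node 1 (.one ⟨1534, 3, 6⟩) (.one ⟨10033, 1, 5⟩)))) (.node 4 (.node 2 (.node 1 (.one ⟨12530, 1, 5⟩) (.one ⟨9137, 2, 5⟩)) (.node 1 (.one ⟨16448, 2, 5⟩) (.one ⟨5534, 1, 5⟩))) (.node 2 (.node 1 (.one ⟨15722, 0, 6⟩) (.one ⟨4166, 0, 4⟩)) (.node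 1 (.one ⟨542, 0, 3⟩) (.one ⟨8568, 4, 4⟩))))) (.node 8 (.node 4 (.node 2 (.node 1 (.one ⟨14417, 2, 6⟩) (.one ⟨7291, 2, 7⟩)) (.node 1 (.one ⟨3095, 0, 1⟩) (.one ⟨2005, 0, 6⟩))) (.node 2 (.node 1 (.one ⟨3071, 4, 4⟩) (.one ⟨11591, 3, 4⟩)) (.node 1 (.one ⟨16332, 1, 6⟩) (.one ⟨5614, 1, 6⟩)))) (.node 4 (.node 2 (.node 1 (.one ⟨8121, 4, 5⟩) (.one ⟨11636, 0, 5⟩)) (.node 1 (.one ⟨5575, 3, 5⟩) (.one ⟨412, 1, 5⟩))) (.node 2 (.node 1 (.one ⟨6506, 4, 6⟩) (.one ⟨1899, 3, 5⟩)) (.node 1 (.one ⟨4610, 2, 6⟩) (.one ⟨4832, 4, 5⟩)))))))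
def par1_4 : Arr Par :=
  (.node 512 (.node 256 (.node 128 (.node 64 par1_4_0 par1_4_1) (.node 64 par1_4_2 par1_4_3)) (.node 128 (.node 64 par1_4_4 par1_4_5) (.node 64 par1_4_6 par1_4_7))) (.node 256 (.node 128 (.node 64 par1_4_8 par1_4_9) (.node 64 par1_4_10 par1_4_11)) (.node 128 (.node 64 par1_4_12 par1_4_13) (.node 64 par1_4_14 par1_4_15))))
def par1_5_0 : Arr Par :=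
  (.node 32 (.node 16 (.node 8 (.node 4 (.node 2 (.node 1 (.one ⟨6705, 3, 6⟩) (.one ⟨9457, 2, 6⟩)) (.node 1 (.one ⟨84, 2, 4⟩) (.one ⟨883, 3, 6⟩))) (.node 2 (.node 1 (.one ⟨9458, 2, 5⟩) (.one ⟨9453, 3, 6⟩)) (.node 1 (.one ⟨3421, 0, 4⟩) (.one ⟨1992, 0, 5⟩)))) (.node 4 (.node 2 (.node 1 (.one ⟨4235, 3, 5⟩) (.one ⟨15021, 1, 5⟩)) (.node 1 (.one ⟨10744, 4, 5⟩) (.one ⟨5077, 1, 6⟩))) (.node 2 (.node 1 (.one ⟨12308, 1, 4⟩) (.one ⟨15222, 3, 5⟩)) (.node 1 (.one ⟨1023, 1, 6⟩) (.one ⟨390, 2, 6⟩))))) (.node 8 (.node 4 (.node 2 (.node 1 (.one ⟨6675, 2, 6⟩) (.one ⟨1066, 2, 4⟩)) (.node 1 (.one ⟨11481, 0, 6⟩) (.one ⟨6674, 2, 6⟩))) (.node 2 (.node 1 (.one ⟨8795, 1, 5⟩) (.one ⟨1409, 3, 3⟩)) (.node 1 (.one ⟨5099, 1, 6⟩) (.one ⟨5549,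 3, 5⟩)))) (.node 4 (.node 2 (.node 1 (.one ⟨16348, 1, 6⟩) (.one ⟨10156, 0, 4⟩)) (.node 1 (.one ⟨5066, 1, 6⟩) (.one ⟨3610, 0, 6⟩))) (.node 2 (.node 1 (.one ⟨12086, 0, 7⟩) (.one ⟨669, 1, 5⟩)) (.node 1 (.one ⟨2833, 3, 5⟩) (.one ⟨1434, 2, 5⟩)))))) (.node 16 (.node 8 (.node 4 (.node 2 (.node 1 (.one ⟨7227, 3, 6⟩) (.one ⟨11678, 0, 4⟩)) (.node 1 (.one ⟨8479, 3, 6⟩) (.one ⟨11134, 2, 5⟩))) (.node 2 (.node 1 (.one ⟨6502, 4, 6⟩) (.one ⟨5057, 1, 6⟩)) (.node 1 (.one ⟨16454, 3, 4⟩) (.one ⟨17026, 3, 4⟩)))) (.node 4 (.node 2 (.node 1 (.one ⟨4256, 1, 5⟩) (.one ⟨16310, 1, 3⟩)) (.node 1 (.one ⟨11305, 2, 6⟩) (.one ⟨13677, 1, 6⟩))) (.node 2 (.node 1 (.one ⟨10148, 0, 5⟩) (.one ⟨3436, 3, 4⟩)) (.node 1 (.one ⟨4909, 0, 5⟩) (.one ⟨9904,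 1, 6⟩))))) (.node 8 (.node 4 (.node 2 (.node 1 (.one ⟨1367, 3, 4⟩) (.one ⟨8691, 4, 4⟩)) (.node 1 (.one ⟨11937, 2, 5⟩) (.one ⟨9383, 3, 5⟩))) (.node 2 (.node 1 (.one ⟨16973, 4, 5⟩) (.one ⟨17159, 4, 5⟩)) (.node 1 (.one ⟨4948, 1, 4⟩) (.one ⟨15072, 4, 6⟩)))) (.node 4 (.node 2 (.node 1 (.one ⟨2270, 0, 6⟩) (.one ⟨2453, 2, 4⟩)) (.node 1 (.one ⟨427, 0, 6⟩) (.one ⟨487, 1, 6⟩))) (.node 2 (.node 1 (.one ⟨12697, 0, 5⟩) (.one ⟨6176, 2, 6⟩)) (.node 1 (.one ⟨6801, 2, 4⟩) (.one ⟨12603, 0, 5⟩)))))))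
def par1_5_1 : Arr Par :=
  (.node 32 (.node 16 (.node 8 (.node 4 (.node 2 (.node 1 (.one ⟨4246, 2, 5⟩) (.one ⟨4729, 0, 6⟩)) (.node 1 (.one ⟨12816, 1, 6⟩) (.one ⟨17189, 0, 5⟩))) (.node 2 (.node 1 (.one ⟨4986, 1, 4⟩) (.one ⟨356, 3, 6⟩)) (.node 1 (.one ⟨4128, 4, 6⟩) (.one ⟨5587, 1, 5⟩)))) (.node 4 (.node 2 (.node 1 (.one ⟨13169, 0, 6⟩) (.one ⟨13151, 0, 6⟩)) (.node 1 (.one ⟨5641, 1, 5⟩) (.one ⟨10318, 0, 6⟩))) (.node 2 (.node 1 (.one ⟨13432, 3, 7⟩) (.one ⟨16491, 1, 5⟩)) (.node 1 (.one ⟨15360, 4, 7⟩) (.one ⟨14887, 3, 4⟩))))) (.node 8 (.node 4 (.node 2 (.node 1 (.one ⟨4727, 0, 6⟩) (.one ⟨17087, 0, 6⟩)) (.node 1 (.one ⟨7124, 3, 7⟩) (.one ⟨16074, 2, 5⟩))) (.node 2 (.node 1 (.one ⟨5043, 3, 5⟩) (.one ⟨12344, 4, 3⟩))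 (.node 1 (.one ⟨5576, 2, 3⟩) (.one ⟨15588, 2, 5⟩)))) (.node 4 (.node 2 (.node 1 (.one ⟨4780, 3, 6⟩) (.one ⟨1933, 4, 5⟩)) (.node 1 (.one ⟨9709, 3, 3⟩) (.one ⟨11517, 3, 6⟩))) (.node 2 (.node 1 (.one ⟨3981, 4, 5⟩) (.one ⟨5610, 1, 6⟩)) (.node 1 (.one ⟨4653, 1, 5⟩) (.one ⟨9128, 0, 5⟩)))))) (.node 16 (.node 8 (.node 4 (.node 2 (.node 1 (.one ⟨381, 0, 5⟩) (.one ⟨7671, 4, 6⟩)) (.node 1 (.one ⟨13004, 1, 6⟩) (.one ⟨11010, 2, 5⟩))) (.node 2 (.node 1 (.one ⟨8175, 4, 6⟩) (.one ⟨13665, 3, 7⟩)) (.node 1 (.one ⟨14634, 3, 6⟩) (.one ⟨4746, 0, 6⟩)))) (.node 4 (.node 2 (.node 1 (.one ⟨5995, 3, 5⟩) (.one ⟨1180, 3, 4⟩)) (.node 1 (.one ⟨1903, 2, 5⟩) (.one ⟨3659, 2, 6⟩))) (.node 2 (.node 1 (.one ⟨5590, 3, 4⟩) (.one ⟨11728, 2, 5⟩))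 (.node 1 (.one ⟨3646, 2, 5⟩) (.one ⟨10955, 3, 5⟩))))) (.node 8 (.node 4 (.node 2 (.node 1 (.one ⟨15707, 2, 6⟩) (.one ⟨15677, 3, 4⟩)) (.node 1 (.one ⟨14570, 0, 5⟩) (.one ⟨11224, 4, 5⟩))) (.node 2 (.node 1 (.one ⟨13837, 2, 5⟩) (.one ⟨6512, 0, 5⟩)) (.node 1 (.one ⟨4963, 1, 5⟩) (.one ⟨2488, 4, 6⟩)))) (.node 4 (.node 2 (.node 1 (.one ⟨15586, 2, 5⟩) (.one ⟨117, 2, 6⟩)) (.node 1 (.one ⟨4542, 1, 7⟩) (.one ⟨9288, 4, 6⟩))) (.node 2 (.node 1 (.one ⟨7880, 2, 6⟩) (.one ⟨2721, 4, 6⟩)) (.node 1 (.one ⟨4749, 2, 5⟩) (.one ⟨9101, 0, 6⟩)))))))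
def par1_5_2 : Arr Par :=
  (.node 32 (.node 16 (.node 8 (.node 4 (.node 2 (.node 1 (.one ⟨11278, 3, 6⟩) (.one ⟨4903, 2, 5⟩)) (.node 1 (.one ⟨15787, 3, 6⟩) (.one ⟨9597, 3, 5⟩))) (.node 2 (.node 1 (.one ⟨9690, 1, 6⟩) (.one ⟨1854, 1, 5⟩)) (.node 1 (.one ⟨4395, 4, 6⟩) (.one ⟨11307, 2, 4⟩)))) (.node 4 (.node 2 (.node 1 (.one ⟨5592, 3, 4⟩) (.one ⟨11885, 4, 4⟩)) (.node 1 (.one ⟨9660, 1, 6⟩) (.one ⟨12652, 0, 4⟩))) (.node 2 (.node 1 (.one ⟨9723, 2, 6⟩) (.one ⟨4621, 1, 5⟩)) (.node 1 (.one ⟨5598, 3, 5⟩) (.one ⟨14155, 2, 7⟩))))) (.node 8 (.node 4 (.node 2 (.node 1 (.one ⟨155, 3, 5⟩) (.one ⟨1864, 2, 5⟩)) (.node 1 (.one ⟨3928, 4, 6⟩) (.one ⟨14022, 4, 4⟩))) (.node 2 (.node 1 (.one ⟨13033, 4, 5⟩) (.one ⟨9710, 2, 6⟩)) (.node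 1 (.one ⟨106, 0, 6⟩) (.one ⟨3621, 2, 6⟩)))) (.node 4 (.node 2 (.node 1 (.one ⟨6131, 3, 6⟩) (.one ⟨6335, 3, 5⟩)) (.node 1 (.one ⟨13773, 2, 5⟩) (.one ⟨10468, 3, 7⟩))) (.node 2 (.node 1 (.one ⟨3841, 4, 6⟩) (.one ⟨4747, 0, 6⟩)) (.node 1 (.one ⟨217, 4, 6⟩) (.one ⟨13055, 4, 3⟩)))))) (.node 16 (.node 8 (.node 4 (.node 2 (.node 1 (.one ⟨14511, 0, 6⟩) (.one ⟨4602, 0, 6⟩)) (.node 1 (.one ⟨17152, 0, 5⟩) (.one ⟨1626, 1, 6⟩))) (.node 2 (.node 1 (.one ⟨13582, 3, 4⟩) (.one ⟨2805, 3, 7⟩)) (.node 1 (.one ⟨2973, 3, 6⟩) (.one ⟨12404, 2, 6⟩)))) (.node 4 (.node 2 (.node 1 (.one ⟨12619, 0, 6⟩) (.one ⟨12834, 1, 5⟩)) (.node 1 (.one ⟨8909, 3, 5⟩) (.one ⟨4619, 2, 5⟩))) (.node 2 (.node 1 (.one ⟨4737, 0, 6⟩) (.one ⟨15759, 4, 5⟩)) (.node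 1 (.one ⟨774, 1, 6⟩) (.one ⟨13095, 2, 6⟩))))) (.node 8 (.node 4 (.node 2 (.node 1 (.one ⟨16066, 0, 5⟩) (.one ⟨11851, 2, 5⟩)) (.node 1 (.one ⟨9438, 3, 4⟩) (.one ⟨5725, 4, 6⟩))) (.node 2 (.node 1 (.one ⟨1708, 1, 6⟩) (.one ⟨3582, 2, 5⟩)) (.node 1 (.one ⟨12065, 1, 5⟩) (.one ⟨16662, 2, 4⟩)))) (.node 4 (.node 2 (.node 1 (.one ⟨2977, 2, 6⟩) (.one ⟨14402, 3, 4⟩)) (.node 1 (.one ⟨15065, 0, 3⟩) (.one ⟨213, 2, 6⟩))) (.node 2 (.node 1 (.one ⟨15729, 2, 5⟩) (.one ⟨15592, 1, 4⟩)) (.node 1 (.one ⟨5308, 3, 6⟩) (.one ⟨13753, 3, 6⟩)))))))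
def par1_5_3 : Arr Par :=
  (.node 32 (.node 16 (.node 8 (.node 4 (.node 2 (.node 1 (.one ⟨1590, 3, 6⟩) (.one ⟨6690, 3, 5⟩)) (.node 1 (.one ⟨6360, 0, 5⟩) (.one ⟨13545, 0, 6⟩))) (.node 2 (.node 1 (.one ⟨11986, 4, 6⟩) (.one ⟨5531, 0, 6⟩)) (.node 1 (.one ⟨11225, 1, 6⟩) (.one ⟨10101, 2, 6⟩)))) (.node 4 (.node 2 (.node 1 (.one ⟨16731, 2, 5⟩) (.one ⟨6926, 2, 6⟩)) (.node 1 (.one ⟨3675, 2, 6⟩) (.one ⟨15128, 0, 5⟩))) (.node 2 (.node 1 (.one ⟨2343, 3, 5⟩) (.one ⟨12635, 2, 5⟩)) (.node 1 (.one ⟨5284, 3, 5⟩) (.one ⟨666, 1, 5⟩))))) (.node 8 (.node 4 (.node 2 (.node 1 (.one ⟨14106, 3, 6⟩) (.one ⟨12596, 1, 6⟩)) (.node 1 (.one ⟨2033, 2, 5⟩) (.one ⟨3224, 1, 6⟩))) (.node 2 (.node 1 (.one ⟨8489, 2, 5⟩) (.one ⟨11690, 4, 5⟩)) (.node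 1 (.one ⟨1507, 4, 6⟩) (.one ⟨9676, 1, 4⟩)))) (.node 4 (.node 2 (.node 1 (.one ⟨714, 3, 5⟩) (.one ⟨2496, 2, 5⟩)) (.node 1 (.one ⟨16352, 1, 7⟩) (.one ⟨1165, 2, 6⟩))) (.node 2 (.node 1 (.one ⟨7582, 1, 6⟩) (.one ⟨4560, 1, 6⟩)) (.node 1 (.one ⟨9153, 4, 5⟩) (.one ⟨672, 1, 5⟩)))))) (.node 16 (.node 8 (.node 4 (.node 2 (.node 1 (.one ⟨2095, 3, 6⟩) (.one ⟨14131, 2, 5⟩)) (.node 1 (.one ⟨3921, 1, 4⟩) (.one ⟨11581, 4, 6⟩))) (.node 2 (.node 1 (.one ⟨12794, 1, 6⟩) (.one ⟨12, 3, 5⟩)) (.node 1 (.one ⟨10570, 3, 6⟩) (.one ⟨11766, 4, 5⟩)))) (.node 4 (.node 2 (.node 1 (.one ⟨9703, 1, 6⟩) (.one ⟨244, 1, 5⟩)) (.node 1 (.one ⟨3777, 3, 6⟩) (.one ⟨11796, 4, 7⟩))) (.node 2 (.node 1 (.one ⟨2465, 2, 6⟩) (.one ⟨2357, 2, 5⟩)) (.node 1 (.one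 ⟨2404, 2, 7⟩) (.one ⟨8007, 0, 5⟩))))) (.node 8 (.node 4 (.node 2 (.node 1 (.one ⟨3095, 4, 1⟩) (.one ⟨2777, 3, 6⟩)) (.node 1 (.one ⟨13564, 0, 5⟩) (.one ⟨5051, 2, 5⟩))) (.node 2 (.node 1 (.one ⟨11272, 1, 6⟩) (.one ⟨9709, 1, 3⟩)) (.node 1 (.one ⟨5762, 2, 5⟩) (.one ⟨15481, 2, 5⟩)))) (.node 4 (.node 2 (.node 1 (.one ⟨1359, 3, 4⟩) (.one ⟨1598, 1, 3⟩)) (.node 1 (.one ⟨17101, 4, 6⟩) (.one ⟨12268, 4, 6⟩))) (.node 2 (.node 1 (.one ⟨8241, 1, 4⟩) (.one ⟨1556, 3, 3⟩)) (.node 1 (.one ⟨12802, 1, 6⟩) (.one ⟨6375, 0, 7⟩)))))))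
def par1_5_4 : Arr Par :=
  (.node 32 (.node 16 (.node 8 (.node 4 (.node 2 (.node 1 (.one ⟨9672, 1, 5⟩) (.one ⟨3571, 3, 6⟩)) (.node 1 (.one ⟨10781, 2, 6⟩) (.one ⟨2831, 0, 5⟩))) (.node 2 (.node 1 (.one ⟨1205, 2, 6⟩) (.one ⟨11196, 1, 5⟩)) (.node 1 (.one ⟨15082, 2, 6⟩) (.one ⟨809, 1, 4⟩)))) (.node 4 (.node 2 (.node 1 (.one ⟨16375, 1, 5⟩) (.one ⟨8921, 0, 6⟩)) (.node 1 (.one ⟨15028, 0, 4⟩) (.one ⟨2708, 0, 6⟩))) (.node 2 (.node 1 (.one ⟨12755, 3, 6⟩) (.one ⟨10686, 0, 7⟩)) (.node 1 (.one ⟨6965, 4, 6⟩) (.one ⟨438, 4, 6⟩))))) (.node 8 (.node 4 (.node 2 (.node 1 (.one ⟨10892, 0, 6⟩) (.one ⟨4186, 2, 7⟩)) (.node 1 (.one ⟨16162, 0, 5⟩) (.one ⟨16074, 0, 5⟩))) (.node 2 (.node 1 (.one ⟨8699, 2, 5⟩) (.one ⟨3949, 1, 6⟩)) (.node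 1 (.one ⟨9757, 1, 5⟩) (.one ⟨11062, 4, 5⟩)))) (.node 4 (.node 2 (.node 1 (.one ⟨15538, 1, 5⟩) (.one ⟨11057, 4, 6⟩)) (.node 1 (.one ⟨15075, 0, 6⟩) (.one ⟨1671, 1, 5⟩))) (.node 2 (.node 1 (.one ⟨12688, 1, 7⟩) (.one ⟨12805, 1, 5⟩)) (.node 1 (.one ⟨1034, 1, 6⟩) (.one ⟨9721, 1, 6⟩)))))) (.node 16 (.node 8 (.node 4 (.node 2 (.node 1 (.one ⟨11984, 1, 4⟩) (.one ⟨6430, 0, 4⟩)) (.node 1 (.one ⟨8081, 0, 6⟩) (.one ⟨5713, 3, 6⟩))) (.node 2 (.node 1 (.one ⟨13588, 0, 5⟩) (.one ⟨16080, 0, 4⟩)) (.node 1 (.one ⟨9628, 4, 6⟩) (.one ⟨12375, 3, 6⟩)))) (.node 4 (.node 2 (.node 1 (.one ⟨7586, 1, 6⟩) (.one ⟨134, 3, 6⟩)) (.node 1 (.one ⟨11609, 0, 6⟩) (.one ⟨6429, 2, 6⟩))) (.node 2 (.node 1 (.one ⟨4391, 2, 6⟩) (.one ⟨16349, 1, 5⟩)) (.node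 1 (.one ⟨5674, 3, 6⟩) (.one ⟨968, 4, 4⟩))))) (.node 8 (.node 4 (.node 2 (.node 1 (.one ⟨5773, 2, 7⟩) (.one ⟨5982, 2, 6⟩)) (.node 1 (.one ⟨3968, 4, 6⟩) (.one ⟨8627, 0, 6⟩))) (.node 2 (.node 1 (.one ⟨9169, 4, 6⟩) (.one ⟨5534, 2, 5⟩)) (.node 1 (.one ⟨9434, 3, 6⟩) (.one ⟨5279, 1, 4⟩)))) (.node 4 (.node 2 (.node 1 (.one ⟨3071, 0, 4⟩) (.one ⟨10872, 1, 5⟩)) (.node 1 (.one ⟨16631, 4, 5⟩) (.one ⟨4055, 3, 6⟩))) (.node 2 (.node 1 (.one ⟨14480, 0, 5⟩) (.one ⟨8567, 3, 3⟩)) (.node 1 (.one ⟨16058, 0, 6⟩) (.one ⟨4117, 1, 7⟩)))))))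
def par1_5_5 : Arr Par :=
  (.node 32 (.node 16 (.node 8 (.node 4 (.node 2 (.node 1 (.one ⟨15523, 0, 4⟩) (.one ⟨15935, 4, 5⟩)) (.node 1 (.one ⟨8858, 2, 6⟩) (.one ⟨11297, 4, 6⟩))) (.node 2 (.node 1 (.one ⟨14468, 0, 5⟩) (.one ⟨14927, 3, 7⟩)) (.node 1 (.one ⟨9027, 2, 5⟩) (.one ⟨11636, 3, 5⟩)))) (.node 4 (.node 2 (.node 1 (.one ⟨15322, 2, 5⟩) (.one ⟨15841, 2, 7⟩)) (.node 1 (.one ⟨10158, 0, 4⟩) (.one ⟨12745, 3, 6⟩))) (.node 2 (.node 1 (.one ⟨9392, 4, 5⟩) (.one ⟨5259, 0, 5⟩)) (.node 1 (.one ⟨16055, 2, 6⟩) (.one ⟨4136, 0, 4⟩))))) (.node 8 (.node 4 (.node 2 (.node 1 (.one ⟨5225, 0, 5⟩) (.one ⟨3344, 2, 6⟩)) (.node 1 (.one ⟨15568, 2, 5⟩) (.one ⟨5685, 2, 6⟩))) (.node 2 (.node 1 (.one ⟨16492, 3, 6⟩) (.one ⟨7140, 2, 6⟩))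 (.node 1 (.one ⟨11451, 2, 5⟩) (.one ⟨13350, 1, 6⟩)))) (.node 4 (.node 2 (.node 1 (.one ⟨12784, 2, 6⟩) (.one ⟨11305, 4, 6⟩)) (.node 1 (.one ⟨7977, 2, 6⟩) (.one ⟨14013, 3, 6⟩))) (.node 2 (.node 1 (.one ⟨13112, 3, 6⟩) (.one ⟨3027, 1, 6⟩)) (.node 1 (.one ⟨16718, 0, 6⟩) (.one ⟨5346, 3, 5⟩)))))) (.node 16 (.node 8 (.node 4 (.node 2 (.node 1 (.one ⟨2526, 4, 5⟩) (.one ⟨10312, 3, 5⟩)) (.node 1 (.one ⟨3496, 2, 6⟩) (.one ⟨3675, 4, 6⟩))) (.node 2 (.node 1 (.one ⟨15601, 2, 6⟩) (.one ⟨15425, 2, 5⟩)) (.node 1 (.one ⟨5089, 3, 6⟩) (.one ⟨10117, 1, 5⟩)))) (.node 4 (.node 2 (.node 1 (.one ⟨4049, 1, 1⟩) (.one ⟨15510, 0, 6⟩)) (.node 1 (.one ⟨13326, 0, 6⟩) (.one ⟨13521, 3, 5⟩))) (.node 2 (.node 1 (.one ⟨10863, 1, 6⟩) (.one ⟨16845,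 3, 6⟩)) (.node 1 (.one ⟨13252, 1, 6⟩) (.one ⟨16990, 4, 5⟩))))) (.node 8 (.node 4 (.node 2 (.node 1 (.one ⟨13012, 2, 5⟩) (.one ⟨2346, 2, 6⟩)) (.node 1 (.one ⟨2969, 1, 7⟩) (.one ⟨4068, 2, 5⟩))) (.node 2 (.node 1 (.one ⟨12262, 1, 5⟩) (.one ⟨13422, 2, 6⟩)) (.node 1 (.one ⟨11196, 3, 5⟩) (.one ⟨15663, 4, 7⟩)))) (.node 4 (.node 2 (.node 1 (.one ⟨3725, 3, 4⟩) (.one ⟨16928, 1, 5⟩)) (.node 1 (.one ⟨5112, 1, 6⟩) (.one ⟨4250, 0, 4⟩))) (.node 2 (.node 1 (.one ⟨5837, 4, 6⟩) (.one ⟨9683, 4, 4⟩)) (.node 1 (.one ⟨2941, 2, 6⟩) (.one ⟨4244, 1, 6⟩)))))))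
def par1_5_6 : Arr Par :=
  (.node 32 (.node 16 (.node 8 (.node 4 (.node 2 (.node 1 (.one ⟨15655, 0, 6⟩) (.one ⟨838, 1, 5⟩)) (.node 1 (.one ⟨4923, 2, 6⟩) (.one ⟨4218, 0, 6⟩))) (.node 2 (.node 1 (.one ⟨4972, 2, 7⟩) (.one ⟨4957, 2, 4⟩)) (.node 1 (.one ⟨433, 0, 5⟩) (.one ⟨7772, 4, 5⟩)))) (.node 4 (.node 2 (.node 1 (.one ⟨384, 1, 6⟩) (.one ⟨1300, 4, 5⟩)) (.node 1 (.one ⟨2950, 1, 5⟩) (.one ⟨16633, 3, 6⟩))) (.node 2 (.node 1 (.one ⟨8784, 1, 6⟩) (.one ⟨12244, 1, 7⟩)) (.node 1 (.one ⟨13251, 4, 6⟩) (.one ⟨3344, 4, 6⟩))))) (.node 8 (.node 4 (.node 2 (.node 1 (.one ⟨10378, 0, 3⟩) (.one ⟨6888, 3, 5⟩)) (.node 1 (.one ⟨6661, 2, 5⟩) (.one ⟨12296, 0, 5⟩))) (.node 2 (.node 1 (.one ⟨238, 2, 5⟩) (.one ⟨6782, 3, 6⟩)) (.node 1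 (.one ⟨13418, 4, 6⟩) (.one ⟨11497, 4, 6⟩)))) (.node 4 (.node 2 (.node 1 (.one ⟨4928, 3, 6⟩) (.one ⟨5633, 1, 3⟩)) (.node 1 (.one ⟨5180, 2, 6⟩) (.one ⟨13828, 3, 5⟩))) (.node 2 (.node 1 (.one ⟨1851, 4, 5⟩) (.one ⟨4758, 2, 4⟩)) (.node 1 (.one ⟨4988, 2, 4⟩) (.one ⟨545, 1, 6⟩)))))) (.node 16 (.node 8 (.node 4 (.node 2 (.node 1 (.one ⟨9076, 3, 4⟩) (.one ⟨8853, 0, 5⟩)) (.node 1 (.one ⟨13872, 2, 4⟩) (.one ⟨11583, 3, 5⟩))) (.node 2 (.node 1 (.one ⟨7692, 4, 6⟩) (.one ⟨14904, 1, 6⟩)) (.node 1 (.one ⟨9758, 2, 7⟩) (.one ⟨150, 4, 6⟩)))) (.node 4 (.node 2 (.node 1 (.one ⟨11253, 3, 6⟩) (.one ⟨14658, 3, 6⟩)) (.node 1 (.one ⟨1974, 2, 4⟩) (.one ⟨13604, 3, 5⟩))) (.node 2 (.node 1 (.one ⟨2822, 2, 4⟩) (.one ⟨2453, 3, 4⟩)) (.node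 1 (.one ⟨12329, 0, 5⟩) (.one ⟨1903, 0, 5⟩))))) (.node 8 (.node 4 (.node 2 (.node 1 (.one ⟨14602, 1, 6⟩) (.one ⟨4311, 4, 5⟩)) (.node 1 (.one ⟨4946, 2, 6⟩) (.one ⟨12355, 1, 6⟩))) (.node 2 (.node 1 (.one ⟨16676, 3, 5⟩) (.one ⟨12487, 4, 5⟩)) (.node 1 (.one ⟨2764, 2, 7⟩) (.one ⟨6274, 0, 5⟩)))) (.node 4 (.node 2 (.node 1 (.one ⟨442, 4, 5⟩) (.one ⟨2555, 3, 6⟩)) (.node 1 (.one ⟨4651, 3, 6⟩) (.one ⟨3734, 2, 5⟩))) (.node 2 (.node 1 (.one ⟨7891, 0, 6⟩) (.one ⟨664, 0, 5⟩)) (.node 1 (.one ⟨15693, 0, 6⟩) (.one ⟨4944, 2, 6⟩)))))))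
def par1_5_7 : Arr Par :=
  (.node 32 (.node 16 (.node 8 (.node 4 (.node 2 (.node 1 (.one ⟨6245, 1, 4⟩) (.one ⟨13649, 4, 6⟩)) (.node 1 (.one ⟨10804, 2, 6⟩) (.one ⟨4288, 1, 6⟩))) (.node 2 (.node 1 (.one ⟨1354, 3, 6⟩) (.one ⟨1954, 0, 6⟩)) (.node 1 (.one ⟨64, 3, 6⟩) (.one ⟨11678, 3, 4⟩)))) (.node 4 (.node 2 (.node 1 (.one ⟨7705, 3, 2⟩) (.one ⟨7895, 0, 6⟩)) (.node 1 (.one ⟨14920, 4, 5⟩) (.one ⟨627, 1, 4⟩))) (.node 2 (.node 1 (.one ⟨10250, 3, 3⟩) (.one ⟨14288, 1, 4⟩)) (.node 1 (.one ⟨9931, 4, 5⟩) (.one ⟨9500, 4, 3⟩))))) (.node 8 (.node 4 (.node 2 (.node 1 (.one ⟨14445, 4, 4⟩) (.one ⟨5009, 3, 4⟩)) (.node 1 (.one ⟨1799, 2, 1⟩) (.one ⟨16552, 2, 4⟩))) (.node 2 (.node 1 (.one ⟨7901, 1, 4⟩) (.one ⟨15932, 3, 3⟩)) (.node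 1 (.one ⟨14899, 3, 3⟩) (.one ⟨14288, 0, 4⟩)))) (.node 4 (.node 2 (.node 1 (.one ⟨6569, 0, 3⟩) (.one ⟨7437, 2, 7⟩)) (.node 1 (.one ⟨12337, 0, 6⟩) (.one ⟨11985, 1, 5⟩))) (.node 2 (.node 1 (.one ⟨7604, 1, 6⟩) (.one ⟨7983, 2, 6⟩)) (.node 1 (.one ⟨627, 0, 4⟩) (.one ⟨17046, 3, 4⟩)))))) (.node 16 (.node 8 (.node 4 (.node 2 (.node 1 (.one ⟨14339, 0, 5⟩) (.one ⟨16185, 4, 4⟩)) (.node 1 (.one ⟨14325, 1, 7⟩) (.one ⟨9577, 2, 6⟩))) (.node 2 (.node 1 (.one ⟨4765, 4, 6⟩) (.one ⟨15489, 4, 5⟩)) (.node 1 (.one ⟨9242, 3, 5⟩) (.one ⟨918, 0, 6⟩)))) (.node 4 (.node 2 (.node 1 (.one ⟨9082, 4, 5⟩) (.one ⟨3130, 2, 5⟩)) (.node 1 (.one ⟨16810, 4, 5⟩) (.one ⟨6245, 0, 4⟩))) (.node 2 (.node 1 (.one ⟨5365, 2, 4⟩) (.one ⟨10445, 3, 5⟩)) (.node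 1 (.one ⟨12329, 4, 5⟩) (.one ⟨10538, 1, 5⟩))))) (.node 8 (.node 4 (.node 2 (.node 1 (.one ⟨2781, 4, 6⟩) (.one ⟨2893, 4, 6⟩)) (.node 1 (.one ⟨8047, 1, 5⟩) (.one ⟨1776, 0, 1⟩))) (.node 2 (.node 1 (.one ⟨11065, 3, 6⟩) (.one ⟨14471, 1, 6⟩)) (.node 1 (.one ⟨13103, 2, 6⟩) (.one ⟨6120, 1, 7⟩)))) (.node 4 (.node 2 (.node 1 (.one ⟨3771, 1, 5⟩) (.one ⟨4615, 4, 5⟩)) (.node 1 (.one ⟨6433, 3, 6⟩) (.one ⟨2429, 1, 6⟩))) (.node 2 (.node 1 (.one ⟨11872, 0, 5⟩) (.one ⟨12303, 2, 4⟩)) (.node 1 (.one ⟨336, 4, 6⟩) (.one ⟨2456, 2, 3⟩)))))))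
def par1_5_8 : Arr Par :=
  (.node 32 (.node 16 (.node 8 (.node 4 (.node 2 (.node 1 (.one ⟨6027, 3, 6⟩) (.one ⟨11251, 2, 2⟩)) (.node 1 (.one ⟨15978, 4, 5⟩) (.one ⟨14167, 1, 6⟩))) (.node 2 (.node 1 (.one ⟨11905, 0, 5⟩) (.one ⟨6024, 3, 4⟩)) (.node 1 (.one ⟨16155, 1, 5⟩) (.one ⟨2219, 0, 4⟩)))) (.node 4 (.node 2 (.node 1 (.one ⟨4114, 0, 4⟩) (.one ⟨3859, 0, 4⟩)) (.node 1 (.one ⟨2471, 0, 5⟩) (.one ⟨1812, 0, 5⟩))) (.node 2 (.node 1 (.one ⟨8104, 3, 6⟩) (.one ⟨3550, 0, 5⟩)) (.node 1 (.one ⟨13648, 4, 5⟩) (.one ⟨15024, 4, 6⟩))))) (.node 8 (.node 4 (.node 2 (.node 1 (.one ⟨14840, 4, 6⟩) (.one ⟨1799, 0, 1⟩)) (.node 1 (.one ⟨3523, 0, 6⟩) (.one ⟨8618, 3, 4⟩))) (.node 2 (.node 1 (.one ⟨4164, 2, 4⟩) (.one ⟨2202, 0, 3⟩)) (.node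 1 (.one ⟨7211, 3, 5⟩) (.one ⟨10389, 4, 5⟩)))) (.node 4 (.node 2 (.node 1 (.one ⟨10250, 0, 3⟩) (.one ⟨10507, 1, 5⟩)) (.node 1 (.one ⟨4470, 0, 6⟩) (.one ⟨7797, 4, 5⟩))) (.node 2 (.node 1 (.one ⟨8093, 2, 5⟩) (.one ⟨8810, 4, 6⟩)) (.node 1 (.one ⟨12779, 2, 4⟩) (.one ⟨1985, 3, 5⟩)))))) (.node 16 (.node 8 (.node 4 (.node 2 (.node 1 (.one ⟨14189, 1, 4⟩) (.one ⟨10203, 1, 4⟩)) (.node 1 (.one ⟨8131, 1, 7⟩) (.one ⟨1823, 2, 6⟩))) (.node 2 (.node 1 (.one ⟨3186, 4, 6⟩) (.one ⟨2473, 1, 5⟩)) (.node 1 (.one ⟨11611, 0, 5⟩) (.one ⟨1831, 0, 6⟩)))) (.node 4 (.node 2 (.node 1 (.one ⟨12197, 0, 7⟩) (.one ⟨10677, 0, 6⟩)) (.node 1 (.one ⟨14797, 4, 5⟩) (.one ⟨11204, 4, 5⟩))) (.node 2 (.node 1 (.one ⟨2096, 2, 4⟩) (.one ⟨15179, 4, 5⟩))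 (.node 1 (.one ⟨13027, 2, 6⟩) (.one ⟨7283, 2, 6⟩))))) (.node 8 (.node 4 (.node 2 (.node 1 (.one ⟨2104, 0, 1⟩) (.one ⟨9972, 3, 6⟩)) (.node 1 (.one ⟨10602, 1, 5⟩) (.one ⟨14430, 2, 5⟩))) (.node 2 (.node 1 (.one ⟨8241, 4, 4⟩) (.one ⟨6779, 4, 5⟩)) (.node 1 (.one ⟨2765, 2, 5⟩) (.one ⟨14239, 0, 4⟩)))) (.node 4 (.node 2 (.node 1 (.one ⟨12794, 4, 6⟩) (.one ⟨9766, 4, 6⟩)) (.node 1 (.one ⟨13811, 0, 5⟩) (.one ⟨10379, 3, 6⟩))) (.node 2 (.node 1 (.one ⟨12946, 3, 4⟩) (.one ⟨5833, 0, 6⟩)) (.node 1 (.one ⟨1152, 1, 5⟩) (.one ⟨6245, 3, 4⟩)))))))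
def par1_5_9 : Arr Par :=
  (.node 32 (.node 16 (.node 8 (.node 4 (.node 2 (.node 1 (.one ⟨8930, 2, 5⟩) (.one ⟨3528, 3, 5⟩)) (.node 1 (.one ⟨3994, 4, 6⟩) (.one ⟨10426, 2, 5⟩))) (.node 2 (.node 1 (.one ⟨13793, 3, 6⟩) (.one ⟨12150, 4, 5⟩)) (.node 1 (.one ⟨4830, 0, 5⟩) (.one ⟨12015, 4, 4⟩)))) (.node 4 (.node 2 (.node 1 (.one ⟨5982, 1, 6⟩) (.one ⟨15233, 3, 6⟩)) (.node 1 (.one ⟨3323, 2, 4⟩) (.one ⟨4876, 0, 5⟩))) (.node 2 (.node 1 (.one ⟨16503, 2, 5⟩) (.one ⟨16520, 4, 5⟩)) (.node 1 (.one ⟨15937, 3, 7⟩) (.one ⟨444, 2, 5⟩))))) (.node 8 (.node 4 (.node 2 (.node 1 (.one ⟨5206, 4, 4⟩) (.one ⟨10425, 4, 5⟩)) (.node 1 (.one ⟨2453, 4, 4⟩) (.one ⟨847, 4, 5⟩))) (.node 2 (.node 1 (.one ⟨11479, 3, 6⟩) (.one ⟨16061, 3, 5⟩)) (.node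 1 (.one ⟨15031, 3, 6⟩) (.one ⟨15992, 3, 4⟩)))) (.node 4 (.node 2 (.node 1 (.one ⟨12321, 4, 5⟩) (.one ⟨14202, 0, 5⟩)) (.node 1 (.one ⟨12488, 4, 5⟩) (.one ⟨13871, 3, 6⟩))) (.node 2 (.node 1 (.one ⟨9827, 0, 5⟩) (.one ⟨6826, 2, 5⟩)) (.node 1 (.one ⟨2727, 3, 3⟩) (.one ⟨934, 2, 6⟩)))))) (.node 16 (.node 8 (.node 4 (.node 2 (.node 1 (.one ⟨14262, 2, 6⟩) (.one ⟨3299, 2, 6⟩)) (.node 1 (.one ⟨16765, 0, 5⟩) (.one ⟨12958, 0, 6⟩))) (.node 2 (.node 1 (.one ⟨14606, 2, 7⟩) (.one ⟨3444, 2, 5⟩)) (.node 1 (.one ⟨13866, 0, 4⟩) (.one ⟨7774, 4, 6⟩)))) (.node 4 (.node 2 (.node 1 (.one ⟨16817, 1, 6⟩) (.one ⟨15501, 4, 3⟩)) (.node 1 (.one ⟨9889, 3, 6⟩) (.one ⟨12246, 4, 5⟩))) (.node 2 (.node 1 (.one ⟨4499, 4, 4⟩) (.one ⟨2950, 4, 5⟩))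 (.node 1 (.one ⟨11139, 4, 4⟩) (.one ⟨1976, 2, 6⟩))))) (.node 8 (.node 4 (.node 2 (.node 1 (.one ⟨8190, 2, 6⟩) (.one ⟨9813, 0, 5⟩)) (.node 1 (.one ⟨6621, 2, 6⟩) (.one ⟨13922, 2, 6⟩))) (.node 2 (.node 1 (.one ⟨13674, 4, 6⟩) (.one ⟨16933, 2, 6⟩)) (.node 1 (.one ⟨11049, 2, 6⟩) (.one ⟨2011, 4, 5⟩)))) (.node 4 (.node 2 (.node 1 (.one ⟨868, 1, 6⟩) (.one ⟨15074, 3, 3⟩)) (.node 1 (.one ⟨11592, 4, 5⟩) (.one ⟨15803, 4, 7⟩))) (.node 2 (.node 1 (.one ⟨14514, 3, 6⟩) (.one ⟨4136, 3, 4⟩)) (.node 1 (.one ⟨6070, 4, 6⟩) (.one ⟨6040, 1, 5⟩)))))))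
def par1_5_10 : Arr Par :=
  (.node 32 (.node 16 (.node 8 (.node 4 (.node 2 (.node 1 (.one ⟨12483, 2, 5⟩) (.one ⟨1611, 2, 6⟩)) (.node 1 (.one ⟨17113, 4, 4⟩) (.one ⟨9351, 4, 5⟩))) (.node 2 (.node 1 (.one ⟨3237, 4, 6⟩) (.one ⟨10118, 3, 6⟩)) (.node 1 (.one ⟨6997, 3, 4⟩) (.one ⟨10103, 0, 7⟩)))) (.node 4 (.node 2 (.node 1 (.one ⟨9076, 2, 4⟩) (.one ⟨4798, 0, 6⟩)) (.node 1 (.one ⟨11950, 4, 6⟩) (.one ⟨9073, 2, 6⟩))) (.node 2 (.node 1 (.one ⟨8793, 1, 6⟩) (.one ⟨6027, 1, 6⟩)) (.node 1 (.one ⟨11581, 3, 6⟩) (.one ⟨11191, 4, 6⟩))))) (.node 8 (.node 4 (.node 2 (.node 1 (.one ⟨7279, 2, 4⟩) (.one ⟨14233, 0, 6⟩)) (.node 1 (.one ⟨1752, 0, 6⟩) (.one ⟨9850, 0, 6⟩))) (.node 2 (.node 1 (.one ⟨11571, 4, 6⟩) (.one ⟨5986, 1, 6⟩)) (.node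 1 (.one ⟨1554, 2, 6⟩) (.one ⟨5106, 2, 2⟩)))) (.node 4 (.node 2 (.node 1 (.one ⟨5480, 2, 2⟩) (.one ⟨1154, 1, 5⟩)) (.node 1 (.one ⟨508, 4, 5⟩) (.one ⟨9308, 4, 3⟩))) (.node 2 (.node 1 (.one ⟨2215, 0, 1⟩) (.one ⟨9654, 4, 5⟩)) (.node 1 (.one ⟨6121, 0, 3⟩) (.one ⟨6018, 4, 3⟩)))))) (.node 16 (.node 8 (.node 4 (.node 2 (.node 1 (.one ⟨14877, 3, 5⟩) (.one ⟨5998, 1, 6⟩)) (.node 1 (.one ⟨14875, 3, 5⟩) (.one ⟨16445, 2, 6⟩))) (.node 2 (.node 1 (.one ⟨4173, 3, 5⟩) (.one ⟨17184, 4, 6⟩)) (.node 1 (.one ⟨4167, 3, 6⟩) (.one ⟨6233, 4, 5⟩)))) (.node 4 (.node 2 (.node 1 (.one ⟨2132, 0, 5⟩) (.one ⟨14485, 2, 3⟩)) (.node 1 (.one ⟨16312, 4, 3⟩) (.one ⟨1952, 2, 6⟩))) (.node 2 (.node 1 (.one ⟨6170, 2, 5⟩) (.one ⟨10688, 2, 4⟩)) (.node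 1 (.one ⟨8651, 0, 4⟩) (.one ⟨1728, 2, 3⟩))))) (.node 8 (.node 4 (.node 2 (.node 1 (.one ⟨6160, 4, 4⟩) (.one ⟨9803, 2, 4⟩)) (.node 1 (.one ⟨2573, 3, 4⟩) (.one ⟨8027, 4, 6⟩))) (.node 2 (.node 1 (.one ⟨8003, 4, 6⟩) (.one ⟨5781, 1, 7⟩)) (.node 1 (.one ⟨9827, 2, 5⟩) (.one ⟨4830, 2, 5⟩)))) (.node 4 (.node 2 (.node 1 (.one ⟨5859, 1, 4⟩) (.one ⟨8521, 4, 5⟩)) (.node 1 (.one ⟨15372, 2, 6⟩) (.one ⟨1509, 0, 5⟩))) (.node 2 (.node 1 (.one ⟨12045, 4, 5⟩) (.one ⟨12309, 0, 5⟩)) (.node 1 (.one ⟨12458, 0, 6⟩) (.one ⟨15372, 0, 6⟩)))))))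
def par1_5_11 : Arr Par :=
  (.node 32 (.node 16 (.node 8 (.node 4 (.node 2 (.node 1 (.one ⟨2210, 1, 6⟩) (.one ⟨13794, 2, 4⟩)) (.node 1 (.one ⟨15529, 4, 5⟩) (.one ⟨15311, 0, 6⟩))) (.node 2 (.node 1 (.one ⟨4277, 4, 6⟩) (.one ⟨2042, 1, 6⟩)) (.node 1 (.one ⟨15209, 0, 5⟩) (.one ⟨2391, 4, 6⟩)))) (.node 4 (.node 2 (.node 1 (.one ⟨8112, 1, 5⟩) (.one ⟨12942, 2, 5⟩)) (.node 1 (.one ⟨14549, 3, 6⟩) (.one ⟨6499, 4, 6⟩))) (.node 2 (.node 1 (.one ⟨7953, 2, 4⟩) (.one ⟨13396, 2, 5⟩)) (.node 1 (.one ⟨4426, 1, 6⟩) (.one ⟨14889, 3, 6⟩))))) (.node 8 (.node 4 (.node 2 (.node 1 (.one ⟨2036, 4, 6⟩) (.one ⟨7207, 0, 6⟩)) (.node 1 (.one ⟨1567, 0, 6⟩) (.one ⟨14962, 3, 4⟩))) (.node 2 (.node 1 (.one ⟨2727, 4, 3⟩) (.one ⟨2201, 2, 3⟩)) (.node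 1 (.one ⟨10421, 2, 4⟩) (.one ⟨8838, 2, 7⟩)))) (.node 4 (.node 2 (.node 1 (.one ⟨16932, 2, 6⟩) (.one ⟨12270, 0, 6⟩)) (.node 1 (.one ⟨16817, 2, 6⟩) (.one ⟨16885, 2, 6⟩))) (.node 2 (.node 1 (.one ⟨12398, 0, 6⟩) (.one ⟨1588, 0, 5⟩)) (.node 1 (.one ⟨11134, 3, 5⟩) (.one ⟨5720, 1, 6⟩)))))) (.node 16 (.node 8 (.node 4 (.node 2 (.node 1 (.one ⟨10252, 4, 7⟩) (.one ⟨4918, 2, 6⟩)) (.node 1 (.one ⟨8867, 3, 4⟩) (.one ⟨6597, 3, 3⟩))) (.node 2 (.node 1 (.one ⟨11494, 1, 5⟩) (.one ⟨11364, 2, 5⟩)) (.node 1 (.one ⟨9949, 4, 6⟩) (.one ⟨9850, 3, 6⟩)))) (.node 4 (.node 2 (.node 1 (.one ⟨1881, 3, 6⟩) (.one ⟨1646, 3, 5⟩)) (.node 1 (.one ⟨10141, 3, 6⟩) (.one ⟨1515, 0, 6⟩))) (.node 2 (.node 1 (.one ⟨4261, 0, 6⟩) (.one ⟨5830, 4, 6⟩)) (.node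 1 (.one ⟨6366, 4, 6⟩) (.one ⟨3830, 4, 5⟩))))) (.node 8 (.node 4 (.node 2 (.node 1 (.one ⟨7443, 1, 5⟩) (.one ⟨431, 0, 6⟩)) (.node 1 (.one ⟨3039, 4, 5⟩) (.one ⟨134, 2, 6⟩))) (.node 2 (.node 1 (.one ⟨1026, 2, 5⟩) (.one ⟨4654, 4, 6⟩)) (.node 1 (.one ⟨12545, 4, 3⟩) (.one ⟨1621, 4, 5⟩)))) (.node 4 (.node 2 (.node 1 (.one ⟨784, 2, 4⟩) (.one ⟨16300, 1, 4⟩)) (.node 1 (.one ⟨12560, 1, 6⟩) (.one ⟨1548, 3, 5⟩))) (.node 2 (.node 1 (.one ⟨11779, 4, 6⟩) (.one ⟨15213, 4, 5⟩)) (.node 1 (.one ⟨7538, 2, 4⟩) (.one ⟨5101, 4, 5⟩)))))))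
def par1_5_12 : Arr Par :=
  (.node 32 (.node 16 (.node 8 (.node 4 (.node 2 (.node 1 (.one ⟨11224, 3, 5⟩) (.one ⟨6737, 2, 6⟩)) (.node 1 (.one ⟨15360, 0, 7⟩) (.one ⟨15014, 4, 6⟩))) (.node 2 (.node 1 (.one ⟨12728, 2, 6⟩) (.one ⟨10256, 1, 5⟩)) (.node 1 (.one ⟨11451, 1, 5⟩) (.one ⟨3822, 3, 6⟩)))) (.node 4 (.node 2 (.node 1 (.one ⟨15207, 4, 4⟩) (.one ⟨9299, 3, 4⟩)) (.node 1 (.one ⟨4303, 0, 6⟩) (.one ⟨8498, 4, 5⟩))) (.node 2 (.node 1 (.one ⟨8029, 2, 6⟩) (.one ⟨4197, 0, 6⟩)) (.node 1 (.one ⟨4449, 1, 5⟩) (.one ⟨9886, 2, 5⟩))))) (.node 8 (.node 4 (.node 2 (.node 1 (.one ⟨15812, 4, 6⟩) (.one ⟨11468, 1, 5⟩)) (.node 1 (.one ⟨9850, 2, 6⟩) (.one ⟨8814, 3, 6⟩))) (.node 2 (.node 1 (.one ⟨1699, 0, 5⟩) (.one ⟨10617, 4, 2⟩))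 (.node 1 (.one ⟨14177, 2, 4⟩) (.one ⟨8235, 1, 5⟩)))) (.node 4 (.node 2 (.node 1 (.one ⟨17129, 2, 7⟩) (.one ⟨14248, 2, 6⟩)) (.node 1 (.one ⟨13872, 1, 4⟩) (.one ⟨10222, 1, 5⟩))) (.node 2 (.node 1 (.one ⟨14933, 3, 6⟩) (.one ⟨8850, 2, 5⟩)) (.node 1 (.one ⟨4496, 1, 5⟩) (.one ⟨4287, 2, 6⟩)))))) (.node 16 (.node 8 (.node 4 (.node 2 (.node 1 (.one ⟨12560, 2, 6⟩) (.one ⟨1581, 0, 5⟩)) (.node 1 (.one ⟨1646, 2, 5⟩) (.one ⟨5140, 3, 6⟩))) (.node 2 (.node 1 (.one ⟨7343, 2, 6⟩) (.one ⟨10223, 1, 5⟩)) (.node 1 (.one ⟨16678, 2, 5⟩) (.one ⟨13959, 3, 5⟩)))) (.node 4 (.node 2 (.node 1 (.one ⟨5111, 3, 7⟩) (.one ⟨1421, 2, 6⟩)) (.node 1 (.one ⟨16286, 1, 6⟩) (.one ⟨15263, 4, 6⟩))) (.node 2 (.node 1 (.one ⟨3266, 4, 7⟩) (.one ⟨966, 4,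 5⟩)) (.node 1 (.one ⟨13843, 4, 5⟩) (.one ⟨4830, 1, 5⟩))))) (.node 8 (.node 4 (.node 2 (.node 1 (.one ⟨15886, 2, 5⟩) (.one ⟨2045, 1, 4⟩)) (.node 1 (.one ⟨7850, 2, 7⟩) (.one ⟨5696, 1, 6⟩))) (.node 2 (.node 1 (.one ⟨16967, 0, 5⟩) (.one ⟨17032, 0, 6⟩)) (.node 1 (.one ⟨1971, 0, 5⟩) (.one ⟨2104, 1, 1⟩)))) (.node 4 (.node 2 (.node 1 (.one ⟨6189, 4, 4⟩) (.one ⟨10760, 0, 6⟩)) (.node 1 (.one ⟨4086, 3, 6⟩) (.one ⟨2051, 1, 6⟩))) (.node 2 (.node 1 (.one ⟨4454, 4, 5⟩) (.one ⟨665, 2, 6⟩)) (.node 1 (.one ⟨6719, 4, 5⟩) (.one ⟨9308, 3, 3⟩)))))))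
def par1_5_13 : Arr Par :=
  (.node 32 (.node 16 (.node 8 (.node 4 (.node 2 (.node 1 (.one ⟨12669, 2, 6⟩) (.one ⟨8710, 1, 5⟩)) (.node 1 (.one ⟨14592, 2, 5⟩) (.one ⟨12258, 4, 5⟩))) (.node 2 (.node 1 (.one ⟨5514, 0, 6⟩) (.one ⟨8651, 1, 4⟩)) (.node 1 (.one ⟨2132, 1, 5⟩) (.one ⟨3095, 3, 1⟩)))) (.node 4 (.node 2 (.node 1 (.one ⟨4049, 2, 1⟩) (.one ⟨14040, 4, 4⟩)) (.node 1 (.one ⟨2215, 1, 1⟩) (.one ⟨14458, 4, 5⟩))) (.node 2 (.node 1 (.one ⟨6121, 1, 3⟩) (.one ⟨15943, 3, 4⟩)) (.node 1 (.one ⟨2003, 0, 5⟩) (.one ⟨15213, 3, 5⟩))))) (.node 8 (.node 4 (.node 2 (.node 1 (.one ⟨5499, 0, 5⟩) (.one ⟨2022, 0, 7⟩)) (.node 1 (.one ⟨11689, 2, 6⟩) (.one ⟨5796, 0, 6⟩))) (.node 2 (.node 1 (.one ⟨2013, 4, 5⟩) (.one ⟨13943, 0, 6⟩)) (.node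 1 (.one ⟨8977, 0, 6⟩) (.one ⟨10357, 3, 7⟩)))) (.node 4 (.node 2 (.node 1 (.one ⟨6164, 1, 6⟩) (.one ⟨5711, 0, 6⟩)) (.node 1 (.one ⟨3410, 4, 5⟩) (.one ⟨2613, 0, 6⟩))) (.node 2 (.node 1 (.one ⟨11206, 2, 6⟩) (.one ⟨9803, 1, 4⟩)) (.node 1 (.one ⟨11224, 2, 5⟩) (.one ⟨16290, 3, 5⟩)))))) (.node 16 (.node 8 (.node 4 (.node 2 (.node 1 (.one ⟨16765, 1, 5⟩) (.one ⟨12958, 1, 6⟩)) (.node 1 (.one ⟨10867, 3, 5⟩) (.one ⟨13866, 1, 4⟩))) (.node 2 (.node 1 (.one ⟨6184, 3, 6⟩) (.one ⟨5491, 3, 6⟩)) (.node 1 (.one ⟨13929, 0, 6⟩) (.one ⟨4158, 4, 4⟩)))) (.node 4 (.node 2 (.node 1 (.one ⟨12697, 3, 5⟩) (.one ⟨9572, 4, 6⟩)) (.node 1 (.one ⟨10586, 3, 6⟩) (.one ⟨12308, 4, 4⟩))) (.node 2 (.node 1 (.one ⟨10091, 1, 5⟩) (.one ⟨944, 4, 6⟩))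 (.node 1 (.one ⟨10424, 4, 5⟩) (.one ⟨10145, 1, 6⟩))))) (.node 8 (.node 4 (.node 2 (.node 1 (.one ⟨10913, 2, 6⟩) (.one ⟨2862, 4, 5⟩)) (.node 1 (.one ⟨2057, 3, 6⟩) (.one ⟨305, 4, 7⟩))) (.node 2 (.node 1 (.one ⟨10918, 2, 5⟩) (.one ⟨2062, 3, 5⟩)) (.node 1 (.one ⟨8730, 1, 6⟩) (.one ⟨716, 4, 6⟩)))) (.node 4 (.node 2 (.node 1 (.one ⟨1905, 3, 5⟩) (.one ⟨9688, 4, 5⟩)) (.node 1 (.one ⟨2155, 1, 6⟩) (.one ⟨9850, 1, 6⟩))) (.node 2 (.node 1 (.one ⟨8140, 4, 7⟩) (.one ⟨14233, 1, 6⟩)) (.node 1 (.one ⟨10779, 0, 5⟩) (.one ⟨3106, 2, 6⟩)))))))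
def par1_5_14 : Arr Par :=
  (.node 32 (.node 16 (.node 8 (.node 4 (.node 2 (.node 1 (.one ⟨2104, 3, 1⟩) (.one ⟨10056, 1, 6⟩)) (.node 1 (.one ⟨5619, 3, 2⟩) (.one ⟨12877, 1, 5⟩))) (.node 2 (.node 1 (.one ⟨1828, 4, 6⟩) (.one ⟨8921, 4, 6⟩)) (.node 1 (.one ⟨12139, 3, 7⟩) (.one ⟨16847, 4, 6⟩)))) (.node 4 (.node 2 (.node 1 (.one ⟨10220, 0, 3⟩) (.one ⟨9862, 1, 6⟩)) (.node 1 (.one ⟨6423, 0, 5⟩) (.one ⟨2013, 0, 5⟩))) (.node 2 (.node 1 (.one ⟨9954, 3, 6⟩) (.one ⟨14239, 1, 4⟩)) (.node 1 (.one ⟨14923, 4, 7⟩) (.one ⟨1742, 3, 4⟩))))) (.node 8 (.node 4 (.node 2 (.node 1 (.one ⟨12880, 1, 4⟩) (.one ⟨5737, 1, 4⟩)) (.node 1 (.one ⟨14570, 4, 5⟩) (.one ⟨5816, 0, 5⟩))) (.node 2 (.node 1 (.one ⟨11852, 2, 6⟩) (.one ⟨16944, 0, 6⟩))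 (.node 1 (.one ⟨1378, 3, 6⟩) (.one ⟨2186, 0, 4⟩)))) (.node 4 (.node 2 (.node 1 (.one ⟨6489, 4, 4⟩) (.one ⟨2234, 3, 6⟩)) (.node 1 (.one ⟨6255, 3, 2⟩) (.one ⟨9267, 4, 5⟩))) (.node 2 (.node 1 (.one ⟨12698, 3, 5⟩) (.one ⟨7386, 3, 5⟩)) (.node 1 (.one ⟨3869, 4, 5⟩) (.one ⟨9412, 2, 6⟩)))))) (.node 16 (.node 8 (.node 4 (.node 2 (.node 1 (.one ⟨6335, 4, 5⟩) (.one ⟨2598, 3, 6⟩)) (.node 1 (.one ⟨6821, 2, 4⟩) (.one ⟨2131, 0, 4⟩))) (.node 2 (.node 1 (.one ⟨13268, 4, 6⟩) (.one ⟨5539, 0, 6⟩)) (.node 1 (.one ⟨8077, 4, 6⟩) (.one ⟨7007, 2, 5⟩)))) (.node 4 (.node 2 (.node 1 (.one ⟨13785, 2, 5⟩) (.one ⟨12681, 4, 6⟩)) (.node 1 (.one ⟨10312, 4, 5⟩) (.one ⟨7385, 4, 5⟩))) (.node 2 (.node 1 (.one ⟨11363, 2, 6⟩) (.one ⟨6343, 0, 6⟩))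 (.node 1 (.one ⟨2745, 3, 6⟩) (.one ⟨4335, 1, 5⟩))))) (.node 8 (.node 4 (.node 2 (.node 1 (.one ⟨14471, 0, 6⟩) (.one ⟨10538, 0, 5⟩)) (.node 1 (.one ⟨10176, 4, 4⟩) (.one ⟨1843, 1, 3⟩))) (.node 2 (.node 1 (.one ⟨1598, 4, 3⟩) (.one ⟨3708, 2, 6⟩)) (.node 1 (.one ⟨1246, 4, 5⟩) (.one ⟨7596, 2, 5⟩)))) (.node 4 (.node 2 (.node 1 (.one ⟨4293, 1, 6⟩) (.one ⟨6285, 1, 5⟩)) (.node 1 (.one ⟨12185, 0, 5⟩) (.one ⟨11664, 3, 5⟩))) (.node 2 (.node 1 (.one ⟨11918, 0, 5⟩) (.one ⟨11668, 3, 6⟩)) (.node 1 (.one ⟨16155, 0, 5⟩) (.one ⟨15330, 4, 6⟩)))))))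
def par1_5_15 : Arr Par :=
  (.node 32 (.node 16 (.node 8 (.node 4 (.node 2 (.node 1 (.one ⟨742, 1, 5⟩) (.one ⟨5649, 4, 2⟩)) (.node 1 (.one ⟨13913, 4, 6⟩) (.one ⟨14538, 1, 6⟩))) (.node 2 (.node 1 (.one ⟨672, 4, 5⟩) (.one ⟨3278, 4, 4⟩)) (.node 1 (.one ⟨11235, 4, 5⟩) (.one ⟨11863, 0, 6⟩)))) (.node 4 (.node 2 (.node 1 (.one ⟨2473, 0, 5⟩) (.one ⟨14189, 0, 4⟩)) (.node 1 (.one ⟨15588, 4, 5⟩) (.one ⟨12095, 3, 7⟩))) (.node 2 (.node 1 (.one ⟨7688, 1, 7⟩) (.one ⟨12400, 4, 6⟩)) (.node 1 (.one ⟨10203, 0, 4⟩) (.one ⟨4727, 2, 6⟩))))) (.node 8 (.node 4 (.node 2 (.node 1 (.one ⟨12404, 1, 6⟩) (.one ⟨7135, 2, 6⟩)) (.node 1 (.one ⟨14938, 2, 6⟩) (.one ⟨9912, 1, 6⟩))) (.node 2 (.node 1 (.one ⟨5372, 2, 5⟩) (.one ⟨10507, 0, 5⟩))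 (.node 1 (.one ⟨6916, 2, 5⟩) (.one ⟨10791, 2, 6⟩)))) (.node 4 (.node 2 (.node 1 (.one ⟨10682, 3, 6⟩) (.one ⟨16113, 0, 5⟩)) (.node 1 (.one ⟨8605, 2, 6⟩) (.one ⟨9924, 1, 5⟩))) (.node 2 (.node 1 (.one ⟨14350, 1, 6⟩) (.one ⟨16270, 3, 6⟩)) (.node 1 (.one ⟨6507, 1, 5⟩) (.one ⟨14588, 4, 5⟩)))))) (.node 16 (.node 8 (.node 4 (.node 2 (.node 1 (.one ⟨11416, 3, 4⟩) (.one ⟨8105, 0, 4⟩)) (.node 1 (.one ⟨4836, 2, 6⟩) (.one ⟨13777, 4, 6⟩))) (.node 2 (.node 1 (.one ⟨9419, 2, 4⟩) (.one ⟨3771, 0, 5⟩)) (.node 1 (.one ⟨13003, 2, 6⟩) (.one ⟨15747, 1, 2⟩)))) (.node 4 (.node 2 (.node 1 (.one ⟨2036, 3, 6⟩) (.one ⟨6235, 1, 2⟩)) (.node 1 (.one ⟨15011, 2, 5⟩) (.one ⟨12017, 1, 4⟩))) (.node 2 (.node 1 (.one ⟨10400, 2, 6⟩) (.one ⟨223, 1,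 6⟩)) (.node 1 (.one ⟨7932, 1, 6⟩) (.one ⟨5551, 0, 6⟩))))) (.node 8 (.node 4 (.node 2 (.node 1 (.one ⟨10867, 4, 5⟩) (.one ⟨10314, 0, 6⟩)) (.node 1 (.one ⟨11768, 3, 5⟩) (.one ⟨11727, 4, 5⟩))) (.node 2 (.node 1 (.one ⟨3861, 1, 6⟩) (.one ⟨16349, 4, 5⟩)) (.node 1 (.one ⟨14794, 4, 7⟩) (.one ⟨15439, 4, 5⟩)))) (.node 4 (.node 2 (.node 1 (.one ⟨15965, 4, 6⟩) (.one ⟨3184, 4, 5⟩)) (.node 1 (.one ⟨15902, 3, 7⟩) (.one ⟨13950, 4, 5⟩))) (.node 2 (.node 1 (.one ⟨9642, 3, 6⟩) (.one ⟨1026, 4, 5⟩)) (.node 1 (.one ⟨5539, 4, 6⟩) (.one ⟨10162, 2, 7⟩)))))))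
def par1_5 : Arr Par :=
  (.node 512 (.node 256 (.node 128 (.node 64 par1_5_0 par1_5_1) (.node 64 par1_5_2 par1_5_3)) (.node 128 (.node 64 par1_5_4 par1_5_5) (.node 64 par1_5_6 par1_5_7))) (.node 256 (.node 128 (.node 64 par1_5_8 par1_5_9) (.node 64 par1_5_10 par1_5_11)) (.node 128 (.node 64 par1_5_12 par1_5_13) (.node 64 par1_5_14 par1_5_15))))
def par1_6_0 : Arr Par :=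
  (.node 32 (.node 16 (.node 8 (.node 4 (.node 2 (.node 1 (.one ⟨4029, 1, 5⟩) (.one ⟨10230, 2, 6⟩)) (.node 1 (.one ⟨5914, 4, 5⟩) (.one ⟨12377, 0, 6⟩))) (.node 2 (.node 1 (.one ⟨2448, 1, 5⟩) (.one ⟨6365, 1, 6⟩)) (.node 1 (.one ⟨5816, 4, 5⟩) (.one ⟨6255, 0, 2⟩)))) (.node 4 (.node 2 (.node 1 (.one ⟨2239, 4, 5⟩) (.one ⟨4088, 1, 3⟩)) (.node 1 (.one ⟨4387, 4, 4⟩) (.one ⟨3095, 2, 1⟩))) (.node 2 (.node 1 (.one ⟨5649, 2, 2⟩) (.one ⟨16105, 4, 5⟩)) (.node 1 (.one ⟨9065, 2, 4⟩) (.one ⟨5536, 2, 5⟩))))) (.node 8 (.node 4 (.node 2 (.node 1 (.one ⟨3642, 3, 3⟩) (.one ⟨15262, 3, 5⟩)) (.node 1 (.one ⟨2374, 3, 3⟩) (.one ⟨992, 3, 5⟩))) (.node 2 (.node 1 (.one ⟨1516, 4, 5⟩) (.one ⟨14211, 2, 6⟩)) (.node 1 (.one ⟨7916, 0, 6⟩) (.one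 ⟨14443, 1, 4⟩)))) (.node 4 (.node 2 (.node 1 (.one ⟨5845, 4, 4⟩) (.one ⟨11889, 1, 5⟩)) (.node 1 (.one ⟨3867, 4, 4⟩) (.one ⟨16251, 1, 5⟩))) (.node 2 (.node 1 (.one ⟨15474, 3, 6⟩) (.one ⟨9630, 3, 6⟩)) (.node 1 (.one ⟨2277, 0, 7⟩) (.one ⟨680, 0, 5⟩)))))) (.node 16 (.node 8 (.node 4 (.node 2 (.node 1 (.one ⟨13388, 3, 5⟩) (.one ⟨8085, 4, 5⟩)) (.node 1 (.one ⟨11878, 1, 4⟩) (.one ⟨11586, 3, 4⟩))) (.node 2 (.node 1 (.one ⟨1481, 4, 6⟩) (.one ⟨9835, 4, 6⟩)) (.node 1 (.one ⟨11755, 4, 6⟩) (.one ⟨5364, 2, 7⟩)))) (.node 4 (.node 2 (.node 1 (.one ⟨10660, 2, 5⟩) (.one ⟨351, 0, 5⟩)) (.node 1 (.one ⟨15398, 3, 6⟩) (.one ⟨3780, 4, 5⟩))) (.node 2 (.node 1 (.one ⟨3260, 4, 6⟩) (.one ⟨13455, 2, 3⟩)) (.node 1 (.one ⟨16580, 4, 6⟩) (.one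 ⟨1488, 3, 6⟩))))) (.node 8 (.node 4 (.node 2 (.node 1 (.one ⟨17003, 0, 6⟩) (.one ⟨13068, 3, 4⟩)) (.node 1 (.one ⟨13566, 0, 5⟩) (.one ⟨14588, 2, 5⟩))) (.node 2 (.node 1 (.one ⟨13078, 3, 6⟩) (.one ⟨9821, 0, 6⟩)) (.node 1 (.one ⟨16247, 4, 6⟩) (.one ⟨10467, 2, 6⟩)))) (.node 4 (.node 2 (.node 1 (.one ⟨915, 4, 7⟩) (.one ⟨15141, 2, 6⟩)) (.node 1 (.one ⟨898, 1, 5⟩) (.one ⟨17009, 0, 5⟩))) (.node 2 (.node 1 (.one ⟨3445, 2, 6⟩) (.one ⟨9858, 0, 6⟩)) (.node 1 (.one ⟨7229, 3, 6⟩) (.one ⟨8832, 3, 4⟩)))))))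
def par1_6_1 : Arr Par :=
  (.node 32 (.node 16 (.node 8 (.node 4 (.node 2 (.node 1 (.one ⟨8881, 2, 5⟩) (.one ⟨10042, 2, 6⟩)) (.node 1 (.one ⟨14428, 3, 6⟩) (.one ⟨14288, 3, 4⟩))) (.node 2 (.node 1 (.one ⟨14755, 4, 6⟩) (.one ⟨17081, 2, 6⟩)) (.node 1 (.one ⟨9281, 4, 6⟩) (.one ⟨12729, 3, 4⟩)))) (.node 4 (.node 2 (.node 1 (.one ⟨4994, 4, 6⟩) (.one ⟨9547, 4, 5⟩)) (.node 1 (.one ⟨5429, 0, 6⟩) (.one ⟨10821, 2, 4⟩))) (.node 2 (.node 1 (.one ⟨11473, 3, 6⟩) (.one ⟨13999, 3, 5⟩)) (.node 1 (.one ⟨12635, 4, 5⟩) (.one ⟨16178, 3, 6⟩))))) (.node 8 (.node 4 (.node 2 (.node 1 (.one ⟨8502, 1, 4⟩) (.one ⟨14007, 1, 6⟩)) (.node 1 (.one ⟨1725, 0, 5⟩) (.one ⟨12750, 1, 5⟩))) (.node 2 (.node 1 (.one ⟨13223, 1, 5⟩) (.one ⟨12817, 3, 5⟩))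 (.node 1 (.one ⟨5007, 2, 6⟩) (.one ⟨8967, 0, 3⟩)))) (.node 4 (.node 2 (.node 1 (.one ⟨7728, 4, 3⟩) (.one ⟨16564, 1, 4⟩)) (.node 1 (.one ⟨17153, 1, 4⟩) (.one ⟨2104, 4, 1⟩))) (.node 2 (.node 1 (.one ⟨17157, 2, 4⟩) (.one ⟨10731, 0, 5⟩)) (.node 1 (.one ⟨2304, 1, 5⟩) (.one ⟨6167, 0, 5⟩)))))) (.node 16 (.node 8 (.node 4 (.node 2 (.node 1 (.one ⟨17108, 1, 6⟩) (.one ⟨10793, 0, 5⟩)) (.node 1 (.one ⟨12737, 1, 4⟩) (.one ⟨6548, 1, 6⟩))) (.node 2 (.node 1 (.one ⟨15000, 2, 5⟩) (.one ⟨1798, 4, 3⟩)) (.node 1 (.one ⟨13716, 3, 6⟩) (.one ⟨1147, 2, 4⟩)))) (.node 4 (.node 2 (.node 1 (.one ⟨2615, 0, 5⟩) (.one ⟨12942, 0, 5⟩)) (.node 1 (.one ⟨6029, 4, 5⟩) (.one ⟨17003, 2, 6⟩))) (.node 2 (.node 1 (.one ⟨12189, 2, 5⟩) (.one ⟨6644, 4,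 5⟩)) (.node 1 (.one ⟨8731, 2, 5⟩) (.one ⟨4049, 3, 1⟩))))) (.node 8 (.node 4 (.node 2 (.node 1 (.one ⟨9192, 4, 4⟩) (.one ⟨3280, 3, 4⟩)) (.node 1 (.one ⟨6522, 1, 3⟩) (.one ⟨15934, 3, 4⟩))) (.node 2 (.node 1 (.one ⟨7681, 4, 5⟩) (.one ⟨12324, 4, 5⟩)) (.node 1 (.one ⟨12747, 1, 5⟩) (.one ⟨13169, 3, 6⟩)))) (.node 4 (.node 2 (.node 1 (.one ⟨5306, 3, 4⟩) (.one ⟨567, 1, 5⟩)) (.node 1 (.one ⟨5521, 2, 6⟩) (.one ⟨12335, 2, 5⟩))) (.node 2 (.node 1 (.one ⟨3077, 3, 4⟩) (.one ⟨9805, 3, 4⟩)) (.node 1 (.one ⟨14177, 0, 4⟩) (.one ⟨4501, 3, 6⟩)))))))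
def par1_6_2 : Arr Par :=
  (.node 32 (.node 16 (.node 8 (.node 4 (.node 2 (.node 1 (.one ⟨4497, 3, 5⟩) (.one ⟨4496, 3, 5⟩)) (.node 1 (.one ⟨4500, 3, 4⟩) (.one ⟨2268, 2, 6⟩))) (.node 2 (.node 1 (.one ⟨4499, 3, 4⟩) (.one ⟨11058, 2, 6⟩)) (.node 1 (.one ⟨6846, 2, 3⟩) (.one ⟨2013, 2, 5⟩)))) (.node 4 (.node 2 (.node 1 (.one ⟨13834, 4, 6⟩) (.one ⟨7795, 3, 6⟩)) (.node 1 (.one ⟨12771, 1, 4⟩) (.one ⟨13598, 4, 5⟩))) (.node 2 (.node 1 (.one ⟨14039, 4, 4⟩) (.one ⟨14045, 1, 4⟩)) (.node 1 (.one ⟨1810, 0, 6⟩) (.one ⟨11591, 4, 4⟩))))) (.node 8 (.node 4 (.node 2 (.node 1 (.one ⟨2566, 3, 6⟩) (.one ⟨4544, 3, 6⟩)) (.node 1 (.one ⟨14890, 4, 6⟩) (.one ⟨3253, 2, 5⟩))) (.node 2 (.node 1 (.one ⟨14355, 2, 6⟩) (.one ⟨16130, 2, 6⟩)) (.node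 1 (.one ⟨14423, 0, 5⟩) (.one ⟨6417, 0, 6⟩)))) (.node 4 (.node 2 (.node 1 (.one ⟨5180, 3, 6⟩) (.one ⟨6505, 1, 6⟩)) (.node 1 (.one ⟨7175, 4, 6⟩) (.one ⟨4, 2, 6⟩))) (.node 2 (.node 1 (.one ⟨5177, 3, 5⟩) (.one ⟨10711, 0, 5⟩)) (.node 1 (.one ⟨8956, 0, 6⟩) (.one ⟨1499, 2, 6⟩)))))) (.node 16 (.node 8 (.node 4 (.node 2 (.node 1 (.one ⟨13155, 2, 5⟩) (.one ⟨1891, 3, 5⟩)) (.node 1 (.one ⟨10078, 4, 6⟩) (.one ⟨4790, 0, 6⟩))) (.node 2 (.node 1 (.one ⟨8106, 4, 4⟩) (.one ⟨8761, 4, 5⟩)) (.node 1 (.one ⟨13451, 4, 4⟩) (.one ⟨15446, 3, 6⟩)))) (.node 4 (.node 2 (.node 1 (.one ⟨8598, 1, 6⟩) (.one ⟨15231, 4, 6⟩)) (.node 1 (.one ⟨12767, 1, 6⟩) (.one ⟨9871, 0, 4⟩))) (.node 2 (.node 1 (.one ⟨2427, 4, 5⟩) (.one ⟨2295, 1, 4⟩)) (.node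 1 (.one ⟨708, 4, 6⟩) (.one ⟨11205, 2, 6⟩))))) (.node 8 (.node 4 (.node 2 (.node 1 (.one ⟨11257, 0, 5⟩) (.one ⟨10005, 1, 6⟩)) (.node 1 (.one ⟨7165, 2, 5⟩) (.one ⟨6539, 0, 5⟩))) (.node 2 (.node 1 (.one ⟨1653, 4, 6⟩) (.one ⟨14950, 1, 6⟩)) (.node 1 (.one ⟨1581, 4, 5⟩) (.one ⟨2217, 2, 3⟩)))) (.node 4 (.node 2 (.node 1 (.one ⟨16254, 3, 7⟩) (.one ⟨716, 3, 6⟩)) (.node 1 (.one ⟨6523, 4, 5⟩) (.one ⟨8264, 3, 6⟩))) (.node 2 (.node 1 (.one ⟨5790, 4, 4⟩) (.one ⟨4030, 3, 3⟩)) (.node 1 (.one ⟨12313, 2, 6⟩) (.one ⟨1442, 2, 4⟩)))))))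
def par1_6_3 : Arr Par :=
  (.node 32 (.node 16 (.node 8 (.node 4 (.node 2 (.node 1 (.one ⟨7133, 2, 4⟩) (.one ⟨15032, 4, 6⟩)) (.node 1 (.one ⟨7166, 2, 5⟩) (.one ⟨10660, 3, 5⟩))) (.node 2 (.node 1 (.one ⟨8428, 4, 6⟩) (.one ⟨6587, 3, 6⟩)) (.node 1 (.one ⟨13497, 2, 6⟩) (.one ⟨6874, 3, 5⟩)))) (.node 4 (.node 2 (.node 1 (.one ⟨2482, 3, 6⟩) (.one ⟨2897, 0, 6⟩)) (.node 1 (.one ⟨11267, 0, 5⟩) (.one ⟨6396, 3, 4⟩))) (.node 2 (.node 1 (.one ⟨3459, 4, 6⟩) (.one ⟨2376, 2, 6⟩)) (.node 1 (.one ⟨10641, 2, 5⟩) (.one ⟨8074, 3, 5⟩))))) (.node 8 (.node 4 (.node 2 (.node 1 (.one ⟨341, 2, 6⟩) (.one ⟨10558, 1, 4⟩)) (.node 1 (.one ⟨4257, 2, 6⟩) (.one ⟨12668, 3, 6⟩))) (.node 2 (.node 1 (.one ⟨8765, 3, 5⟩) (.one ⟨7162, 2, 6⟩)) (.node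 1 (.one ⟨8901, 4, 7⟩) (.one ⟨1933, 1, 5⟩)))) (.node 4 (.node 2 (.node 1 (.one ⟨7945, 2, 4⟩) (.one ⟨5591, 0, 5⟩)) (.node 1 (.one ⟨9222, 2, 6⟩) (.one ⟨12729, 2, 4⟩))) (.node 2 (.node 1 (.one ⟨4700, 4, 7⟩) (.one ⟨2552, 1, 5⟩)) (.node 1 (.one ⟨4705, 4, 5⟩) (.one ⟨3896, 3, 2⟩)))))) (.node 16 (.node 8 (.node 4 (.node 2 (.node 1 (.one ⟨1647, 4, 4⟩) (.one ⟨14948, 1, 5⟩)) (.node 1 (.one ⟨381, 4, 5⟩) (.one ⟨6521, 0, 1⟩))) (.node 2 (.node 1 (.one ⟨9387, 4, 4⟩) (.one ⟨14928, 0, 4⟩)) (.node 1 (.one ⟨9651, 4, 4⟩) (.one ⟨5926, 2, 6⟩)))) (.node 4 (.node 2 (.node 1 (.one ⟨12080, 4, 6⟩) (.one ⟨14007, 2, 6⟩)) (.node 1 (.one ⟨10585, 0, 6⟩) (.one ⟨11713, 2, 4⟩))) (.node 2 (.node 1 (.one ⟨6791, 3, 5⟩) (.one ⟨39, 1, 5⟩)) (.node 1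 (.one ⟨12375, 4, 6⟩) (.one ⟨15865, 2, 6⟩))))) (.node 8 (.node 4 (.node 2 (.node 1 (.one ⟨8626, 2, 5⟩) (.one ⟨10500, 3, 6⟩)) (.node 1 (.one ⟨14306, 4, 6⟩) (.one ⟨11044, 2, 5⟩))) (.node 2 (.node 1 (.one ⟨13148, 4, 6⟩) (.one ⟨8448, 2, 6⟩)) (.node 1 (.one ⟨6194, 4, 6⟩) (.one ⟨10892, 3, 6⟩)))) (.node 4 (.node 2 (.node 1 (.one ⟨9104, 3, 5⟩) (.one ⟨5943, 4, 2⟩)) (.node 1 (.one ⟨5714, 0, 5⟩) (.one ⟨14872, 1, 5⟩))) (.node 2 (.node 1 (.one ⟨8503, 4, 3⟩) (.one ⟨8499, 4, 4⟩)) (.node 1 (.one ⟨15481, 0, 5⟩) (.one ⟨7076, 2, 5⟩)))))))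
def par1_6_4 : Arr Par :=
  (.node 32 (.node 16 (.node 8 (.node 4 (.node 2 (.node 1 (.one ⟨5721, 4, 6⟩) (.one ⟨8643, 2, 7⟩)) (.node 1 (.one ⟨6753, 0, 6⟩) (.one ⟨1805, 0, 4⟩))) (.node 2 (.node 1 (.one ⟨15618, 2, 6⟩) (.one ⟨16500, 2, 6⟩)) (.node 1 (.one ⟨12965, 3, 6⟩) (.one ⟨11339, 1, 4⟩)))) (.node 4 (.node 2 (.node 1 (.one ⟨15481, 1, 5⟩) (.one ⟨538, 4, 6⟩)) (.node 1 (.one ⟨2275, 4, 6⟩) (.one ⟨5714, 1, 5⟩))) (.node 2 (.node 1 (.one ⟨1798, 1, 3⟩) (.one ⟨12754, 2, 6⟩)) (.node 1 (.one ⟨14816, 1, 4⟩) (.one ⟨9852, 1, 6⟩))))) (.node 8 (.node 4 (.node 2 (.node 1 (.one ⟨3844, 3, 5⟩) (.one ⟨15940, 2, 5⟩)) (.node 1 (.one ⟨15501, 0, 3⟩) (.one ⟨4752, 2, 5⟩))) (.node 2 (.node 1 (.one ⟨14825, 4, 7⟩) (.one ⟨2006, 4, 6⟩)) (.node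 1 (.one ⟨1153, 3, 5⟩) (.one ⟨1805, 1, 4⟩)))) (.node 4 (.node 2 (.node 1 (.one ⟨2368, 2, 4⟩) (.one ⟨14952, 4, 6⟩)) (.node 1 (.one ⟨14854, 4, 6⟩) (.one ⟨10027, 4, 5⟩))) (.node 2 (.node 1 (.one ⟨10893, 1, 6⟩) (.one ⟨992, 2, 5⟩)) (.node 1 (.one ⟨7704, 2, 3⟩) (.one ⟨15522, 1, 5⟩)))))) (.node 16 (.node 8 (.node 4 (.node 2 (.node 1 (.one ⟨16164, 2, 5⟩) (.one ⟨6112, 2, 5⟩)) (.node 1 (.one ⟨5790, 0, 4⟩) (.one ⟨15849, 3, 6⟩))) (.node 2 (.node 1 (.one ⟨7765, 4, 5⟩) (.one ⟨10901, 0, 5⟩)) (.node 1 (.one ⟨14872, 0, 5⟩) (.one ⟨10905, 1, 6⟩)))) (.node 4 (.node 2 (.node 1 (.one ⟨9045, 2, 7⟩) (.one ⟨11238, 3, 6⟩)) (.node 1 (.one ⟨12546, 4, 4⟩) (.one ⟨14595, 4, 5⟩))) (.node 2 (.node 1 (.one ⟨13850, 1, 6⟩) (.one ⟨9551, 2, 5⟩))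 (.node 1 (.one ⟨15486, 4, 6⟩) (.one ⟨6278, 4, 4⟩))))) (.node 8 (.node 4 (.node 2 (.node 1 (.one ⟨14178, 2, 6⟩) (.one ⟨9516, 4, 5⟩)) (.node 1 (.one ⟨7014, 0, 6⟩) (.one ⟨12734, 3, 5⟩))) (.node 2 (.node 1 (.one ⟨11697, 3, 5⟩) (.one ⟨16997, 4, 6⟩)) (.node 1 (.one ⟨11454, 0, 5⟩) (.one ⟨14622, 2, 4⟩)))) (.node 4 (.node 2 (.node 1 (.one ⟨2978, 3, 7⟩) (.one ⟨13434, 4, 5⟩)) (.node 1 (.one ⟨14963, 1, 5⟩) (.one ⟨6071, 0, 6⟩))) (.node 2 (.node 1 (.one ⟨7245, 4, 5⟩) (.one ⟨7376, 3, 4⟩)) (.node 1 (.one ⟨2322, 1, 5⟩) (.one ⟨5701, 2, 6⟩)))))))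
def par1_6_5 : Arr Par :=
  (.node 32 (.node 16 (.node 8 (.node 4 (.node 2 (.node 1 (.one ⟨13667, 4, 6⟩) (.one ⟨13775, 2, 7⟩)) (.node 1 (.one ⟨7307, 1, 6⟩) (.one ⟨7386, 4, 5⟩))) (.node 2 (.node 1 (.one ⟨13999, 2, 5⟩) (.one ⟨14838, 3, 6⟩)) (.node 1 (.one ⟨5995, 2, 5⟩) (.one ⟨6478, 4, 6⟩)))) (.node 4 (.node 2 (.node 1 (.one ⟨5538, 2, 5⟩) (.one ⟨931, 1, 6⟩)) (.node 1 (.one ⟨10708, 0, 5⟩) (.one ⟨1886, 1, 5⟩))) (.node 2 (.node 1 (.one ⟨2549, 1, 7⟩) (.one ⟨14962, 1, 4⟩)) (.node 1 (.one ⟨12357, 3, 5⟩) (.one ⟨15647, 1, 5⟩))))) (.node 8 (.node 4 (.node 2 (.node 1 (.one ⟨14393, 4, 6⟩) (.one ⟨3921, 4, 4⟩)) (.node 1 (.one ⟨2456, 0, 3⟩) (.one ⟨441, 1, 5⟩))) (.node 2 (.node 1 (.one ⟨14546, 2, 6⟩) (.one ⟨2306, 1, 6⟩)) (.node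 1 (.one ⟨3338, 4, 5⟩) (.one ⟨12782, 2, 5⟩)))) (.node 4 (.node 2 (.node 1 (.one ⟨7001, 0, 6⟩) (.one ⟨2361, 0, 3⟩)) (.node 1 (.one ⟨5960, 2, 2⟩) (.one ⟨6575, 2, 6⟩))) (.node 2 (.node 1 (.one ⟨2219, 4, 4⟩) (.one ⟨7717, 3, 3⟩)) (.node 1 (.one ⟨15622, 1, 6⟩) (.one ⟨2478, 0, 5⟩)))))) (.node 16 (.node 8 (.node 4 (.node 2 (.node 1 (.one ⟨14971, 1, 6⟩) (.one ⟨13790, 0, 6⟩)) (.node 1 (.one ⟨3384, 0, 6⟩) (.one ⟨9811, 4, 5⟩))) (.node 2 (.node 1 (.one ⟨6574, 2, 6⟩) (.one ⟨10749, 2, 6⟩)) (.node 1 (.one ⟨2979, 3, 5⟩) (.one ⟨15075, 3, 6⟩)))) (.node 4 (.node 2 (.node 1 (.one ⟨16108, 4, 6⟩) (.one ⟨10708, 3, 5⟩)) (.node 1 (.one ⟨6719, 0, 5⟩) (.one ⟨8204, 2, 4⟩))) (.node 2 (.node 1 (.one ⟨15302, 3, 5⟩) (.one ⟨6255, 4, 2⟩)) (.node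 1 (.one ⟨16080, 2, 4⟩) (.one ⟨3842, 3, 6⟩))))) (.node 8 (.node 4 (.node 2 (.node 1 (.one ⟨6817, 1, 4⟩) (.one ⟨13888, 4, 6⟩)) (.node 1 (.one ⟨10331, 0, 6⟩) (.one ⟨11267, 2, 5⟩))) (.node 2 (.node 1 (.one ⟨8795, 2, 5⟩) (.one ⟨7391, 1, 6⟩)) (.node 1 (.one ⟨9268, 4, 6⟩) (.one ⟨2639, 4, 4⟩)))) (.node 4 (.node 2 (.node 1 (.one ⟨13891, 4, 5⟩) (.one ⟨18, 0, 0⟩)) (.node 1 (.one ⟨5106, 3, 2⟩) (.one ⟨14914, 3, 4⟩))) (.node 2 (.node 1 (.one ⟨17041, 2, 5⟩) (.one ⟨845, 4, 5⟩)) (.node 1 (.one ⟨14615, 4, 5⟩) (.one ⟨2552, 0, 5⟩)))))))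
def par1_6_6 : Arr Par :=
  (.node 32 (.node 16 (.node 8 (.node 4 (.node 2 (.node 1 (.one ⟨12852, 4, 5⟩) (.one ⟨1251, 4, 5⟩)) (.node 1 (.one ⟨6780, 1, 6⟩) (.one ⟨399, 0, 6⟩))) (.node 2 (.node 1 (.one ⟨13107, 4, 5⟩) (.one ⟨11985, 2, 5⟩)) (.node 1 (.one ⟨15568, 0, 5⟩) (.one ⟨15128, 3, 5⟩)))) (.node 4 (.node 2 (.node 1 (.one ⟨12414, 3, 4⟩) (.one ⟨11103, 2, 6⟩)) (.node 1 (.one ⟨2293, 4, 6⟩) (.one ⟨14402, 1, 4⟩))) (.node 2 (.node 1 (.one ⟨3455, 3, 7⟩) (.one ⟨45, 2, 6⟩)) (.node 1 (.one ⟨12896, 3, 2⟩) (.one ⟨6259, 3, 5⟩))))) (.node 8 (.node 4 (.node 2 (.node 1 (.one ⟨2572, 2, 4⟩) (.one ⟨14788, 1, 5⟩)) (.node 1 (.one ⟨2519, 4, 5⟩) (.one ⟨1743, 1, 6⟩))) (.node 2 (.node 1 (.one ⟨4211, 4, 5⟩) (.one ⟨15462, 1, 7⟩)) (.node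 1 (.one ⟨14958, 0, 6⟩) (.one ⟨39, 0, 5⟩)))) (.node 4 (.node 2 (.node 1 (.one ⟨14422, 2, 5⟩) (.one ⟨15934, 2, 4⟩)) (.node 1 (.one ⟨9095, 3, 6⟩) (.one ⟨2046, 4, 6⟩))) (.node 2 (.node 1 (.one ⟨3258, 1, 5⟩) (.one ⟨9393, 2, 5⟩)) (.node 1 (.one ⟨8701, 2, 6⟩) (.one ⟨6837, 3, 6⟩)))))) (.node 16 (.node 8 (.node 4 (.node 2 (.node 1 (.one ⟨7479, 3, 6⟩) (.one ⟨7363, 1, 5⟩)) (.node 1 (.one ⟨11863, 4, 6⟩) (.one ⟨14417, 3, 6⟩))) (.node 2 (.node 1 (.one ⟨6377, 2, 7⟩) (.one ⟨10558, 0, 4⟩)) (.node 1 (.one ⟨7372, 2, 6⟩) (.one ⟨16302, 4, 6⟩)))) (.node 4 (.node 2 (.node 1 (.one ⟨5734, 2, 5⟩) (.one ⟨7705, 2, 2⟩)) (.node 1 (.one ⟨705, 2, 5⟩) (.one ⟨13440, 4, 6⟩))) (.node 2 (.node 1 (.one ⟨7323, 0, 7⟩) (.one ⟨1722, 1, 6⟩)) (.node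 1 (.one ⟨13771, 2, 5⟩) (.one ⟨12436, 3, 5⟩))))) (.node 8 (.node 4 (.node 2 (.node 1 (.one ⟨3879, 2, 6⟩) (.one ⟨14862, 2, 4⟩)) (.node 1 (.one ⟨16792, 4, 4⟩) (.one ⟨7860, 0, 6⟩))) (.node 2 (.node 1 (.one ⟨8308, 4, 6⟩) (.one ⟨9022, 0, 6⟩)) (.node 1 (.one ⟨1233, 2, 6⟩) (.one ⟨13011, 1, 5⟩)))) (.node 4 (.node 2 (.node 1 (.one ⟨6407, 3, 5⟩) (.one ⟨4316, 1, 5⟩)) (.node 1 (.one ⟨16576, 2, 6⟩) (.one ⟨15195, 0, 5⟩))) (.node 2 (.node 1 (.one ⟨2831, 2, 5⟩) (.one ⟨11300, 1, 4⟩)) (.node 1 (.one ⟨13515, 2, 5⟩) (.one ⟨10713, 3, 6⟩)))))))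
def par1_6_7 : Arr Par :=
  (.node 32 (.node 16 (.node 8 (.node 4 (.node 2 (.node 1 (.one ⟨12230, 2, 5⟩) (.one ⟨5405, 3, 6⟩)) (.node 1 (.one ⟨16151, 3, 6⟩) (.one ⟨3159, 3, 6⟩))) (.node 2 (.node 1 (.one ⟨15245, 0, 4⟩) (.one ⟨14286, 1, 2⟩)) (.node 1 (.one ⟨8476, 3, 6⟩) (.one ⟨12301, 3, 5⟩)))) (.node 4 (.node 2 (.node 1 (.one ⟨15623, 4, 4⟩) (.one ⟨9065, 1, 4⟩)) (.node 1 (.one ⟨16569, 2, 7⟩) (.one ⟨4515, 2, 5⟩))) (.node 2 (.node 1 (.one ⟨1516, 3, 5⟩) (.one ⟨318, 4, 6⟩)) (.node 1 (.one ⟨6203, 1, 6⟩) (.one ⟨11277, 0, 6⟩))))) (.node 8 (.node 4 (.node 2 (.node 1 (.one ⟨3780, 2, 5⟩) (.one ⟨13924, 2, 4⟩)) (.node 1 (.one ⟨1516, 2, 5⟩) (.one ⟨15207, 0, 4⟩))) (.node 2 (.node 1 (.one ⟨15965, 2, 6⟩) (.one ⟨13025, 1, 6⟩))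 (.node 1 (.one ⟨7295, 3, 5⟩) (.one ⟨5531, 2, 6⟩)))) (.node 4 (.node 2 (.node 1 (.one ⟨3130, 3, 5⟩) (.one ⟨4948, 2, 4⟩)) (.node 1 (.one ⟨7144, 3, 7⟩) (.one ⟨14636, 4, 6⟩))) (.node 2 (.node 1 (.one ⟨12428, 1, 6⟩) (.one ⟨14807, 3, 5⟩)) (.node 1 (.one ⟨15510, 4, 6⟩) (.one ⟨7133, 0, 4⟩)))))) (.node 16 (.node 8 (.node 4 (.node 2 (.node 1 (.one ⟨12413, 1, 6⟩) (.one ⟨11251, 1, 2⟩)) (.node 1 (.one ⟨2591, 4, 5⟩) (.one ⟨7865, 0, 7⟩))) (.node 2 (.node 1 (.one ⟨4169, 4, 5⟩) (.one ⟨15961, 1, 6⟩)) (.node 1 (.one ⟨11863, 2, 6⟩) (.one ⟨4950, 2, 3⟩)))) (.node 4 (.node 2 (.node 1 (.one ⟨7894, 2, 7⟩) (.one ⟨14716, 1, 7⟩)) (.node 1 (.one ⟨15956, 1, 4⟩) (.one ⟨3260, 2, 6⟩))) (.node 2 (.node 1 (.one ⟨12232, 3, 5⟩) (.one ⟨7497, 4,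 4⟩)) (.node 1 (.one ⟨8272, 4, 6⟩) (.one ⟨15534, 3, 6⟩))))) (.node 8 (.node 4 (.node 2 (.node 1 (.one ⟨5910, 4, 5⟩) (.one ⟨7283, 4, 6⟩)) (.node 1 (.one ⟨15447, 3, 6⟩) (.one ⟨3253, 4, 5⟩))) (.node 2 (.node 1 (.one ⟨4500, 4, 4⟩) (.one ⟨5028, 4, 4⟩)) (.node 1 (.one ⟨1184, 4, 7⟩) (.one ⟨6719, 2, 5⟩)))) (.node 4 (.node 2 (.node 1 (.one ⟨15291, 2, 5⟩) (.one ⟨12572, 4, 5⟩)) (.node 1 (.one ⟨15479, 4, 6⟩) (.one ⟨4028, 1, 5⟩))) (.node 2 (.node 1 (.one ⟨2306, 4, 6⟩) (.one ⟨8107, 2, 6⟩)) (.node 1 (.one ⟨8565, 4, 5⟩) (.one ⟨10181, 1, 6⟩)))))))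
def par1_6_8 : Arr Par :=
  (.node 32 (.node 16 (.node 8 (.node 4 (.node 2 (.node 1 (.one ⟨15447, 0, 6⟩) (.one ⟨3764, 1, 6⟩)) (.node 1 (.one ⟨12120, 1, 4⟩) (.one ⟨1709, 2, 6⟩))) (.node 2 (.node 1 (.one ⟨12903, 4, 5⟩) (.one ⟨8724, 1, 4⟩)) (.node 1 (.one ⟨8585, 4, 6⟩) (.one ⟨11431, 0, 5⟩)))) (.node 4 (.node 2 (.node 1 (.one ⟨13314, 0, 6⟩) (.one ⟨4041, 1, 5⟩)) (.node 1 (.one ⟨10426, 1, 5⟩) (.one ⟨4557, 2, 5⟩))) (.node 2 (.node 1 (.one ⟨13180, 4, 5⟩) (.one ⟨15003, 3, 6⟩)) (.node 1 (.one ⟨7748, 0, 4⟩) (.one ⟨15198, 3, 4⟩))))) (.node 8 (.node 4 (.node 2 (.node 1 (.one ⟨15537, 3, 7⟩) (.one ⟨6981, 1, 5⟩)) (.node 1 (.one ⟨254, 4, 5⟩) (.one ⟨1886, 3, 5⟩))) (.node 2 (.node 1 (.one ⟨5238, 2, 6⟩) (.one ⟨847, 2, 5⟩)) (.node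 1 (.one ⟨10520, 2, 6⟩) (.one ⟨17084, 3, 6⟩)))) (.node 4 (.node 2 (.node 1 (.one ⟨13900, 0, 6⟩) (.one ⟨15646, 3, 4⟩)) (.node 1 (.one ⟨12110, 1, 4⟩) (.one ⟨8138, 2, 5⟩))) (.node 2 (.node 1 (.one ⟨16691, 3, 5⟩) (.one ⟨7408, 2, 5⟩)) (.node 1 (.one ⟨11856, 1, 5⟩) (.one ⟨6008, 4, 6⟩)))))) (.node 16 (.node 8 (.node 4 (.node 2 (.node 1 (.one ⟨4683, 4, 3⟩) (.one ⟨15085, 1, 5⟩)) (.node 1 (.one ⟨5859, 2, 4⟩) (.one ⟨3873, 1, 7⟩))) (.node 2 (.node 1 (.one ⟨6568, 4, 6⟩) (.one ⟨13198, 2, 4⟩)) (.node 1 (.one ⟨8898, 1, 5⟩) (.one ⟨15027, 1, 6⟩)))) (.node 4 (.node 2 (.node 1 (.one ⟨4576, 4, 5⟩) (.one ⟨2381, 1, 7⟩)) (.node 1 (.one ⟨10843, 2, 6⟩) (.one ⟨12089, 1, 6⟩))) (.node 2 (.node 1 (.one ⟨3812, 1, 5⟩) (.one ⟨5383, 2, 5⟩))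 (.node 1 (.one ⟨16965, 1, 6⟩) (.one ⟨3224, 4, 6⟩))))) (.node 8 (.node 4 (.node 2 (.node 1 (.one ⟨14201, 0, 6⟩) (.one ⟨248, 2, 5⟩)) (.node 1 (.one ⟨17066, 2, 6⟩) (.one ⟨13252, 4, 6⟩))) (.node 2 (.node 1 (.one ⟨1889, 4, 7⟩) (.one ⟨8223, 3, 4⟩)) (.node 1 (.one ⟨15738, 2, 6⟩) (.one ⟨16991, 2, 6⟩)))) (.node 4 (.node 2 (.node 1 (.one ⟨2588, 4, 7⟩) (.one ⟨1059, 2, 6⟩)) (.node 1 (.one ⟨13312, 3, 6⟩) (.one ⟨2456, 3, 3⟩))) (.node 2 (.node 1 (.one ⟨5226, 3, 6⟩) (.one ⟨334, 3, 6⟩)) (.node 1 (.one ⟨6811, 0, 7⟩) (.one ⟨12866, 0, 4⟩)))))))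
def par1_6_9 : Arr Par :=
  (.node 32 (.node 16 (.node 8 (.node 4 (.node 2 (.node 1 (.one ⟨12145, 3, 5⟩) (.one ⟨7758, 0, 5⟩)) (.node 1 (.one ⟨16724, 0, 6⟩) (.one ⟨5800, 2, 6⟩))) (.node 2 (.node 1 (.one ⟨7341, 1, 4⟩) (.one ⟨12708, 4, 6⟩)) (.node 1 (.one ⟨4885, 3, 6⟩) (.one ⟨12196, 2, 6⟩)))) (.node 4 (.node 2 (.node 1 (.one ⟨12893, 2, 7⟩) (.one ⟨4390, 1, 5⟩)) (.node 1 (.one ⟨14324, 3, 6⟩) (.one ⟨4561, 3, 6⟩))) (.node 2 (.node 1 (.one ⟨8349, 2, 7⟩) (.one ⟨7282, 2, 6⟩)) (.node 1 (.one ⟨3136, 3, 5⟩) (.one ⟨4586, 3, 6⟩))))) (.node 8 (.node 4 (.node 2 (.node 1 (.one ⟨3480, 2, 5⟩) (.one ⟨10554, 4, 5⟩)) (.node 1 (.one ⟨4422, 3, 6⟩) (.one ⟨7979, 2, 7⟩))) (.node 2 (.node 1 (.one ⟨14891, 0, 6⟩) (.one ⟨5322, 4, 7⟩)) (.node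 1 (.one ⟨6868, 2, 5⟩) (.one ⟨8523, 1, 5⟩)))) (.node 4 (.node 2 (.node 1 (.one ⟨15697, 4, 5⟩) (.one ⟨1720, 4, 5⟩)) (.node 1 (.one ⟨12386, 1, 5⟩) (.one ⟨7265, 1, 6⟩))) (.node 2 (.node 1 (.one ⟨14549, 2, 6⟩) (.one ⟨16563, 1, 6⟩)) (.node 1 (.one ⟨6817, 4, 4⟩) (.one ⟨15518, 2, 6⟩)))))) (.node 16 (.node 8 (.node 4 (.node 2 (.node 1 (.one ⟨1143, 2, 5⟩) (.one ⟨4246, 1, 5⟩)) (.node 1 (.one ⟨4158, 2, 4⟩) (.one ⟨12123, 2, 5⟩))) (.node 2 (.node 1 (.one ⟨8592, 1, 7⟩) (.one ⟨16756, 0, 5⟩)) (.node 1 (.one ⟨14708, 4, 6⟩) (.one ⟨6131, 0, 6⟩)))) (.node 4 (.node 2 (.node 1 (.one ⟨12410, 3, 6⟩) (.one ⟨7025, 2, 4⟩)) (.node 1 (.one ⟨10332, 3, 4⟩) (.one ⟨3709, 3, 5⟩))) (.node 2 (.node 1 (.one ⟨14337, 4, 6⟩) (.one ⟨1835, 0, 5⟩)) (.node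 1 (.one ⟨17094, 3, 5⟩) (.one ⟨6063, 0, 6⟩))))) (.node 8 (.node 4 (.node 2 (.node 1 (.one ⟨1357, 4, 5⟩) (.one ⟨7600, 2, 4⟩)) (.node 1 (.one ⟨8021, 3, 6⟩) (.one ⟨12584, 3, 7⟩))) (.node 2 (.node 1 (.one ⟨14161, 2, 6⟩) (.one ⟨4660, 3, 4⟩)) (.node 1 (.one ⟨8721, 4, 5⟩) (.one ⟨440, 1, 6⟩)))) (.node 4 (.node 2 (.node 1 (.one ⟨9221, 1, 6⟩) (.one ⟨6397, 3, 5⟩)) (.node 1 (.one ⟨3773, 0, 4⟩) (.one ⟨12902, 0, 4⟩))) (.node 2 (.node 1 (.one ⟨5409, 4, 5⟩) (.one ⟨8602, 2, 5⟩)) (.node 1 (.one ⟨13603, 2, 5⟩) (.one ⟨12938, 0, 5⟩)))))))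
def par1_6_10 : Arr Par :=
  (.node 32 (.node 16 (.node 8 (.node 4 (.node 2 (.node 1 (.one ⟨14873, 0, 4⟩) (.one ⟨6153, 0, 4⟩)) (.node 1 (.one ⟨8560, 1, 3⟩) (.one ⟨1807, 0, 6⟩))) (.node 2 (.node 1 (.one ⟨15356, 3, 6⟩) (.one ⟨16794, 0, 5⟩)) (.node 1 (.one ⟨11396, 3, 5⟩) (.one ⟨5656, 4, 4⟩)))) (.node 4 (.node 2 (.node 1 (.one ⟨10040, 2, 5⟩) (.one ⟨16682, 1, 4⟩)) (.node 1 (.one ⟨13588, 3, 5⟩) (.one ⟨14367, 4, 6⟩))) (.node 2 (.node 1 (.one ⟨3087, 4, 6⟩) (.one ⟨17123, 2, 6⟩)) (.node 1 (.one ⟨2296, 3, 4⟩) (.one ⟨8720, 0, 6⟩))))) (.node 8 (.node 4 (.node 2 (.node 1 (.one ⟨13032, 4, 4⟩) (.one ⟨1847, 4, 3⟩)) (.node 1 (.one ⟨6162, 0, 4⟩) (.one ⟨12603, 4, 5⟩))) (.node 2 (.node 1 (.one ⟨6422, 2, 6⟩) (.one ⟨16589, 1, 6⟩))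 (.node 1 (.one ⟨16725, 3, 4⟩) (.one ⟨4124, 2, 6⟩)))) (.node 4 (.node 2 (.node 1 (.one ⟨773, 2, 6⟩) (.one ⟨7803, 3, 5⟩)) (.node 1 (.one ⟨90, 4, 6⟩) (.one ⟨9158, 1, 6⟩))) (.node 2 (.node 1 (.one ⟨15543, 4, 6⟩) (.one ⟨7809, 0, 7⟩)) (.node 1 (.one ⟨15213, 1, 5⟩) (.one ⟨11429, 2, 6⟩)))))) (.node 16 (.node 8 (.node 4 (.node 2 (.node 1 (.one ⟨8542, 4, 6⟩) (.one ⟨8094, 2, 3⟩)) (.node 1 (.one ⟨3079, 4, 6⟩) (.one ⟨4846, 0, 6⟩))) (.node 2 (.node 1 (.one ⟨13588, 2, 5⟩) (.one ⟨1232, 4, 3⟩)) (.node 1 (.one ⟨14807, 0, 5⟩) (.one ⟨15616, 3, 4⟩)))) (.node 4 (.node 2 (.node 1 (.one ⟨7219, 2, 5⟩) (.one ⟨595, 4, 5⟩)) (.node 1 (.one ⟨37, 4, 4⟩) (.one ⟨9313, 4, 6⟩))) (.node 2 (.node 1 (.one ⟨15668, 3, 5⟩) (.one ⟨8805, 2, 5⟩)) (.node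 1 (.one ⟨8864, 2, 5⟩) (.one ⟨8791, 1, 6⟩))))) (.node 8 (.node 4 (.node 2 (.node 1 (.one ⟨9614, 3, 6⟩) (.one ⟨15763, 0, 5⟩)) (.node 1 (.one ⟨8858, 1, 6⟩) (.one ⟨7681, 0, 5⟩))) (.node 2 (.node 1 (.one ⟨3234, 4, 6⟩) (.one ⟨4028, 3, 5⟩)) (.node 1 (.one ⟨337, 4, 6⟩) (.one ⟨6784, 4, 5⟩)))) (.node 4 (.node 2 (.node 1 (.one ⟨6753, 4, 6⟩) (.one ⟨15782, 0, 4⟩)) (.node 1 (.one ⟨14445, 3, 4⟩) (.one ⟨1426, 4, 5⟩))) (.node 2 (.node 1 (.one ⟨5687, 3, 5⟩) (.one ⟨16926, 1, 5⟩)) (.node 1 (.one ⟨7705, 0, 2⟩) (.one ⟨6495, 2, 6⟩)))))))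
def par1_6_11 : Arr Par :=
  (.node 32 (.node 16 (.node 8 (.node 4 (.node 2 (.node 1 (.one ⟨13448, 2, 6⟩) (.one ⟨11845, 3, 6⟩)) (.node 1 (.one ⟨16712, 4, 5⟩) (.one ⟨13451, 1, 4⟩))) (.node 2 (.node 1 (.one ⟨16520, 2, 5⟩) (.one ⟨12767, 4, 6⟩)) (.node 1 (.one ⟨16572, 3, 6⟩) (.one ⟨12350, 2, 6⟩)))) (.node 4 (.node 2 (.node 1 (.one ⟨16791, 4, 4⟩) (.one ⟨1983, 2, 4⟩)) (.node 1 (.one ⟨10103, 2, 7⟩) (.one ⟨11713, 0, 4⟩))) (.node 2 (.node 1 (.one ⟨13080, 4, 5⟩) (.one ⟨11749, 0, 5⟩)) (.node 1 (.one ⟨3642, 0, 3⟩) (.one ⟨6655, 4, 7⟩))))) (.node 8 (.node 4 (.node 2 (.node 1 (.one ⟨10445, 4, 5⟩) (.one ⟨9518, 3, 6⟩)) (.node 1 (.one ⟨11386, 2, 6⟩) (.one ⟨3568, 4, 5⟩))) (.node 2 (.node 1 (.one ⟨1937, 0, 4⟩) (.one ⟨8235, 4,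 5⟩)) (.node 1 (.one ⟨5367, 3, 6⟩) (.one ⟨13904, 4, 5⟩)))) (.node 4 (.node 2 (.node 1 (.one ⟨14380, 3, 4⟩) (.one ⟨4146, 2, 6⟩)) (.node 1 (.one ⟨5791, 3, 4⟩) (.one ⟨8956, 3, 6⟩))) (.node 2 (.node 1 (.one ⟨1276, 3, 3⟩) (.one ⟨9537, 4, 6⟩)) (.node 1 (.one ⟨6326, 2, 6⟩) (.one ⟨360, 4, 6⟩)))))) (.node 16 (.node 8 (.node 4 (.node 2 (.node 1 (.one ⟨7374, 2, 5⟩) (.one ⟨6482, 3, 4⟩)) (.node 1 (.one ⟨14428, 4, 6⟩) (.one ⟨12777, 3, 6⟩))) (.node 2 (.node 1 (.one ⟨1869, 0, 6⟩) (.one ⟨9937, 0, 6⟩)) (.node 1 (.one ⟨9950, 0, 6⟩) (.one ⟨6647, 4, 6⟩)))) (.node 4 (.node 2 (.node 1 (.one ⟨1455, 3, 4⟩) (.one ⟨9953, 0, 5⟩)) (.node 1 (.one ⟨1844, 0, 6⟩) (.one ⟨4955, 3, 4⟩))) (.node 2 (.node 1 (.one ⟨14120, 3, 6⟩) (.one ⟨5141, 3, 4⟩))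 (.node 1 (.one ⟨772, 4, 5⟩) (.one ⟨1742, 4, 4⟩))))) (.node 8 (.node 4 (.node 2 (.node 1 (.one ⟨13682, 0, 4⟩) (.one ⟨5631, 0, 4⟩)) (.node 1 (.one ⟨7149, 1, 6⟩) (.one ⟨6170, 4, 5⟩))) (.node 2 (.node 1 (.one ⟨3958, 3, 6⟩) (.one ⟨387, 4, 6⟩)) (.node 1 (.one ⟨5996, 4, 6⟩) (.one ⟨468, 4, 6⟩)))) (.node 4 (.node 2 (.node 1 (.one ⟨13701, 0, 6⟩) (.one ⟨15272, 1, 6⟩)) (.node 1 (.one ⟨6958, 3, 4⟩) (.one ⟨1152, 2, 5⟩))) (.node 2 (.node 1 (.one ⟨3342, 2, 6⟩) (.one ⟨12743, 2, 6⟩)) (.node 1 (.one ⟨12158, 2, 5⟩) (.one ⟨12524, 4, 5⟩)))))))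
def par1_6_12 : Arr Par :=
  (.node 32 (.node 16 (.node 8 (.node 4 (.node 2 (.node 1 (.one ⟨15337, 1, 6⟩) (.one ⟨8048, 3, 6⟩)) (.node 1 (.one ⟨13719, 2, 5⟩) (.one ⟨10935, 4, 6⟩))) (.node 2 (.node 1 (.one ⟨9871, 2, 4⟩) (.one ⟨7292, 1, 7⟩)) (.node 1 (.one ⟨5590, 0, 4⟩) (.one ⟨5580, 0, 4⟩)))) (.node 4 (.node 2 (.node 1 (.one ⟨11990, 3, 5⟩) (.one ⟨7275, 1, 6⟩)) (.node 1 (.one ⟨1244, 4, 4⟩) (.one ⟨13977, 4, 6⟩))) (.node 2 (.node 1 (.one ⟨13654, 0, 5⟩) (.one ⟨10117, 4, 5⟩)) (.node 1 (.one ⟨10602, 3, 5⟩) (.one ⟨7712, 4, 7⟩))))) (.node 8 (.node 4 (.node 2 (.node 1 (.one ⟨419, 3, 6⟩) (.one ⟨1823, 4, 6⟩)) (.node 1 (.one ⟨7315, 4, 5⟩) (.one ⟨15465, 4, 5⟩))) (.node 2 (.node 1 (.one ⟨16820, 1, 5⟩) (.one ⟨8863, 1, 3⟩)) (.node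 1 (.one ⟨16836, 1, 6⟩) (.one ⟨11803, 0, 6⟩)))) (.node 4 (.node 2 (.node 1 (.one ⟨8757, 1, 4⟩) (.one ⟨8836, 1, 6⟩)) (.node 1 (.one ⟨9351, 2, 5⟩) (.one ⟨6268, 2, 5⟩))) (.node 2 (.node 1 (.one ⟨3757, 0, 5⟩) (.one ⟨14379, 2, 5⟩)) (.node 1 (.one ⟨3611, 3, 6⟩) (.one ⟨573, 2, 6⟩)))))) (.node 16 (.node 8 (.node 4 (.node 2 (.node 1 (.one ⟨7641, 0, 6⟩) (.one ⟨11394, 2, 6⟩)) (.node 1 (.one ⟨11253, 4, 6⟩) (.one ⟨3300, 2, 6⟩))) (.node 2 (.node 1 (.one ⟨11803, 4, 6⟩) (.one ⟨15692, 0, 4⟩)) (.node 1 (.one ⟨8188, 3, 6⟩) (.one ⟨12356, 4, 5⟩)))) (.node 4 (.node 2 (.node 1 (.one ⟨15700, 0, 6⟩) (.one ⟨13395, 1, 5⟩)) (.node 1 (.one ⟨8289, 2, 6⟩) (.one ⟨4439, 4, 4⟩))) (.node 2 (.node 1 (.one ⟨15667, 0, 5⟩) (.one ⟨15648, 3, 4⟩)) (.node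 1 (.one ⟨13455, 1, 3⟩) (.one ⟨14877, 4, 5⟩))))) (.node 8 (.node 4 (.node 2 (.node 1 (.one ⟨16130, 4, 6⟩) (.one ⟨15529, 3, 5⟩)) (.node 1 (.one ⟨860, 3, 4⟩) (.one ⟨15984, 1, 6⟩))) (.node 2 (.node 1 (.one ⟨8245, 4, 6⟩) (.one ⟨10456, 4, 5⟩)) (.node 1 (.one ⟨5944, 2, 5⟩) (.one ⟨6224, 1, 5⟩)))) (.node 4 (.node 2 (.node 1 (.one ⟨11779, 2, 6⟩) (.one ⟨13098, 1, 5⟩)) (.node 1 (.one ⟨12643, 4, 6⟩) (.one ⟨3299, 0, 6⟩))) (.node 2 (.node 1 (.one ⟨2598, 2, 6⟩) (.one ⟨17182, 1, 6⟩)) (.node 1 (.one ⟨14188, 0, 5⟩) (.one ⟨15056, 3, 5⟩)))))))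
def par1_6_13 : Arr Par :=
  (.node 32 (.node 16 (.node 8 (.node 4 (.node 2 (.node 1 (.one ⟨10214, 3, 5⟩) (.one ⟨13250, 0, 5⟩)) (.node 1 (.one ⟨4350, 1, 5⟩) (.one ⟨11364, 0, 5⟩))) (.node 2 (.node 1 (.one ⟨542, 4, 3⟩) (.one ⟨6068, 0, 4⟩)) (.node 1 (.one ⟨279, 2, 6⟩) (.one ⟨15658, 3, 5⟩)))) (.node 4 (.node 2 (.node 1 (.one ⟨17141, 3, 6⟩) (.one ⟨5965, 2, 5⟩)) (.node 1 (.one ⟨797, 1, 4⟩) (.one ⟨13064, 1, 5⟩))) (.node 2 (.node 1 (.one ⟨12567, 3, 6⟩) (.one ⟨6957, 4, 5⟩)) (.node 1 (.one ⟨16143, 3, 6⟩) (.one ⟨3169, 1, 6⟩))))) (.node 8 (.node 4 (.node 2 (.node 1 (.one ⟨7968, 4, 4⟩) (.one ⟨15102, 3, 5⟩)) (.node 1 (.one ⟨860, 4, 4⟩) (.one ⟨13319, 3, 5⟩))) (.node 2 (.node 1 (.one ⟨3253, 0, 5⟩) (.one ⟨6119, 0, 3⟩)) (.node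 1 (.one ⟨12185, 3, 5⟩) (.one ⟨16084, 4, 6⟩)))) (.node 4 (.node 2 (.node 1 (.one ⟨3265, 0, 6⟩) (.one ⟨15995, 1, 5⟩)) (.node 1 (.one ⟨4380, 1, 5⟩) (.one ⟨12908, 2, 4⟩))) (.node 2 (.node 1 (.one ⟨16117, 0, 5⟩) (.one ⟨14145, 0, 7⟩)) (.node 1 (.one ⟨5436, 4, 6⟩) (.one ⟨10688, 4, 4⟩)))))) (.node 16 (.node 8 (.node 4 (.node 2 (.node 1 (.one ⟨4989, 1, 4⟩) (.one ⟨11332, 0, 5⟩)) (.node 1 (.one ⟨14157, 2, 6⟩) (.one ⟨7029, 3, 6⟩))) (.node 2 (.node 1 (.one ⟨4501, 4, 6⟩) (.one ⟨12581, 4, 5⟩)) (.node 1 (.one ⟨13282, 0, 5⟩) (.one ⟨9485, 3, 6⟩)))) (.node 4 (.node 2 (.node 1 (.one ⟨16434, 4, 6⟩) (.one ⟨11729, 2, 6⟩)) (.node 1 (.one ⟨2097, 3, 5⟩) (.one ⟨11210, 1, 5⟩))) (.node 2 (.node 1 (.one ⟨6276, 1, 5⟩) (.one ⟨14131, 0, 5⟩))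 (.node 1 (.one ⟨11575, 4, 6⟩) (.one ⟨7872, 0, 6⟩))))) (.node 8 (.node 4 (.node 2 (.node 1 (.one ⟨12284, 3, 5⟩) (.one ⟨9117, 4, 3⟩)) (.node 1 (.one ⟨7163, 4, 6⟩) (.one ⟨1905, 2, 5⟩))) (.node 2 (.node 1 (.one ⟨15893, 2, 5⟩) (.one ⟨2473, 4, 5⟩)) (.node 1 (.one ⟨4043, 3, 6⟩) (.one ⟨3149, 2, 6⟩)))) (.node 4 (.node 2 (.node 1 (.one ⟨13383, 0, 5⟩) (.one ⟨15415, 4, 5⟩)) (.node 1 (.one ⟨6153, 2, 4⟩) (.one ⟨15169, 0, 6⟩))) (.node 2 (.node 1 (.one ⟨15781, 0, 5⟩) (.one ⟨17136, 3, 6⟩)) (.node 1 (.one ⟨1937, 2, 4⟩) (.one ⟨9966, 2, 5⟩)))))))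
def par1_6_14 : Arr Par :=
  (.node 32 (.node 16 (.node 8 (.node 4 (.node 2 (.node 1 (.one ⟨11854, 1, 6⟩) (.one ⟨16704, 1, 6⟩)) (.node 1 (.one ⟨2413, 4, 6⟩) (.one ⟨8804, 4, 6⟩))) (.node 2 (.node 1 (.one ⟨4628, 4, 6⟩) (.one ⟨12363, 3, 6⟩)) (.node 1 (.one ⟨14388, 4, 4⟩) (.one ⟨11889, 3, 5⟩)))) (.node 4 (.node 2 (.node 1 (.one ⟨16734, 1, 5⟩) (.one ⟨2032, 3, 4⟩)) (.node 1 (.one ⟨7411, 2, 6⟩) (.one ⟨15201, 0, 4⟩))) (.node 2 (.node 1 (.one ⟨13521, 2, 5⟩) (.one ⟨541, 4, 5⟩)) (.node 1 (.one ⟨1006, 2, 6⟩) (.one ⟨9931, 3, 5⟩))))) (.node 8 (.node 4 (.node 2 (.node 1 (.one ⟨2406, 1, 6⟩) (.one ⟨15124, 2, 7⟩)) (.node 1 (.one ⟨17041, 1, 5⟩) (.one ⟨10209, 1, 6⟩))) (.node 2 (.node 1 (.one ⟨7784, 2, 5⟩) (.one ⟨2438, 4, 6⟩))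 (.node 1 (.one ⟨3837, 1, 5⟩) (.one ⟨17066, 1, 6⟩)))) (.node 4 (.node 2 (.node 1 (.one ⟨2468, 1, 7⟩) (.one ⟨3861, 4, 6⟩)) (.node 1 (.one ⟨824, 0, 5⟩) (.one ⟨1783, 4, 5⟩))) (.node 2 (.node 1 (.one ⟨10197, 1, 6⟩) (.one ⟨3851, 1, 7⟩)) (.node 1 (.one ⟨1020, 3, 6⟩) (.one ⟨617, 0, 7⟩)))))) (.node 16 (.node 8 (.node 4 (.node 2 (.node 1 (.one ⟨1899, 0, 5⟩) (.one ⟨4248, 4, 6⟩)) (.node 1 (.one ⟨13948, 2, 6⟩) (.one ⟨6969, 3, 6⟩))) (.node 2 (.node 1 (.one ⟨10242, 1, 4⟩) (.one ⟨7076, 4, 5⟩)) (.node 1 (.one ⟨5158, 0, 5⟩) (.one ⟨10782, 3, 7⟩)))) (.node 4 (.node 2 (.node 1 (.one ⟨10778, 3, 4⟩) (.one ⟨14405, 4, 6⟩)) (.node 1 (.one ⟨1784, 2, 6⟩) (.one ⟨14924, 2, 7⟩))) (.node 2 (.node 1 (.one ⟨10780, 3, 6⟩) (.one ⟨13434, 0, 5⟩))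 (.node 1 (.one ⟨3794, 4, 7⟩) (.one ⟨15130, 3, 4⟩))))) (.node 8 (.node 4 (.node 2 (.node 1 (.one ⟨4872, 0, 4⟩) (.one ⟨6310, 3, 5⟩)) (.node 1 (.one ⟨11538, 3, 5⟩) (.one ⟨11204, 1, 5⟩))) (.node 2 (.node 1 (.one ⟨1762, 2, 7⟩) (.one ⟨11542, 0, 6⟩)) (.node 1 (.one ⟨714, 1, 5⟩) (.one ⟨5837, 2, 6⟩)))) (.node 4 (.node 2 (.node 1 (.one ⟨16797, 0, 5⟩) (.one ⟨1731, 0, 4⟩)) (.node 1 (.one ⟨15799, 2, 5⟩) (.one ⟨423, 1, 6⟩))) (.node 2 (.node 1 (.one ⟨1814, 0, 6⟩) (.one ⟨17022, 4, 7⟩)) (.node 1 (.one ⟨4498, 0, 5⟩) (.one ⟨9341, 2, 5⟩)))))))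
def par1_6_15 : Arr Par :=
  (.node 32 (.node 16 (.node 8 (.node 4 (.node 2 (.node 1 (.one ⟨8207, 0, 2⟩) (.one ⟨7543, 3, 5⟩)) (.node 1 (.one ⟨281, 1, 5⟩) (.one ⟨5888, 4, 6⟩))) (.node 2 (.node 1 (.one ⟨15646, 1, 4⟩) (.one ⟨8357, 4, 5⟩)) (.node 1 (.one ⟨15326, 3, 4⟩) (.one ⟨6887, 3, 7⟩)))) (.node 4 (.node 2 (.node 1 (.one ⟨1991, 3, 5⟩) (.one ⟨15431, 3, 5⟩)) (.node 1 (.one ⟨10295, 3, 6⟩) (.one ⟨16317, 4, 6⟩))) (.node 2 (.node 1 (.one ⟨11253, 1, 6⟩) (.one ⟨4749, 4, 5⟩)) (.node 1 (.one ⟨8356, 1, 5⟩) (.one ⟨12116, 4, 4⟩))))) (.node 8 (.node 4 (.node 2 (.node 1 (.one ⟨4118, 4, 3⟩) (.one ⟨11197, 1, 6⟩)) (.node 1 (.one ⟨12972, 0, 6⟩) (.one ⟨4713, 1, 4⟩))) (.node 2 (.node 1 (.one ⟨3469, 0, 6⟩) (.one ⟨2445, 4, 6⟩)) (.node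 1 (.one ⟨7538, 1, 4⟩) (.one ⟨16583, 1, 4⟩)))) (.node 4 (.node 2 (.node 1 (.one ⟨10703, 4, 5⟩) (.one ⟨7330, 2, 6⟩)) (.node 1 (.one ⟨16406, 1, 4⟩) (.one ⟨8702, 0, 6⟩))) (.node 2 (.node 1 (.one ⟨10763, 2, 5⟩) (.one ⟨11759, 3, 3⟩)) (.node 1 (.one ⟨7072, 2, 6⟩) (.one ⟨4705, 1, 5⟩)))))) (.node 16 (.node 8 (.node 4 (.node 2 (.node 1 (.one ⟨4825, 0, 5⟩) (.one ⟨14210, 0, 5⟩)) (.node 1 (.one ⟨643, 2, 6⟩) (.one ⟨16231, 0, 7⟩))) (.node 2 (.node 1 (.one ⟨16322, 1, 5⟩) (.one ⟨16583, 3, 4⟩)) (.node 1 (.one ⟨10647, 2, 6⟩) (.one ⟨6631, 4, 4⟩)))) (.node 4 (.node 2 (.node 1 (.one ⟨1034, 3, 6⟩) (.one ⟨9852, 2, 6⟩)) (.node 1 (.one ⟨8344, 1, 5⟩) (.one ⟨16814, 3, 5⟩))) (.node 2 (.node 1 (.one ⟨7881, 4, 5⟩) (.one ⟨4093, 3, 5⟩)) (.node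 1 (.one ⟨11381, 3, 5⟩) (.one ⟨946, 4, 6⟩))))) (.node 8 (.node 4 (.node 2 (.node 1 (.one ⟨7628, 4, 5⟩) (.one ⟨4810, 0, 2⟩)) (.node 1 (.one ⟨15650, 1, 5⟩) (.one ⟨8744, 2, 5⟩))) (.node 2 (.node 1 (.one ⟨11238, 4, 6⟩) (.one ⟨8522, 1, 3⟩)) (.node 1 (.one ⟨232, 1, 5⟩) (.one ⟨9323, 3, 6⟩)))) (.node 4 (.node 2 (.node 1 (.one ⟨15748, 4, 6⟩) (.one ⟨10692, 2, 4⟩)) (.node 1 (.one ⟨13376, 3, 5⟩) (.one ⟨5599, 2, 5⟩))) (.node 2 (.node 1 (.one ⟨15422, 0, 6⟩) (.one ⟨14045, 3, 4⟩)) (.node 1 (.one ⟨8705, 0, 4⟩) (.one ⟨4424, 2, 5⟩)))))))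
def par1_6 : Arr Par :=
  (.node 512 (.node 256 (.node 128 (.node 64 par1_6_0 par1_6_1) (.node 64 par1_6_2 par1_6_3)) (.node 128 (.node 64 par1_6_4 par1_6_5) (.node 64 par1_6_6 par1_6_7))) (.node 256 (.node 128 (.node 64 par1_6_8 par1_6_9) (.node 64 par1_6_10 par1_6_11)) (.node 128 (.node 64 par1_6_12 par1_6_13) (.node 64 par1_6_14 par1_6_15))))
def par1_7_0 : Arr Par :=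
  (.node 32 (.node 16 (.node 8 (.node 4 (.node 2 (.node 1 (.one ⟨6248, 4, 6⟩) (.one ⟨4822, 0, 5⟩)) (.node 1 (.one ⟨16503, 3, 5⟩) (.one ⟨8557, 1, 6⟩))) (.node 2 (.node 1 (.one ⟨13389, 4, 6⟩) (.one ⟨8079, 3, 6⟩)) (.node 1 (.one ⟨6872, 2, 5⟩) (.one ⟨16752, 0, 5⟩)))) (.node 4 (.node 2 (.node 1 (.one ⟨16865, 3, 6⟩) (.one ⟨16552, 3, 4⟩)) (.node 1 (.one ⟨4210, 4, 6⟩) (.one ⟨10444, 4, 5⟩))) (.node 2 (.node 1 (.one ⟨8326, 1, 7⟩) (.one ⟨7657, 4, 6⟩)) (.node 1 (.one ⟨15499, 0, 5⟩) (.one ⟨7625, 4, 6⟩))))) (.node 8 (.node 4 (.node 2 (.node 1 (.one ⟨7396, 3, 7⟩) (.one ⟨8568, 1, 4⟩)) (.node 1 (.one ⟨12878, 0, 7⟩) (.one ⟨4712, 1, 6⟩))) (.node 2 (.node 1 (.one ⟨2526, 2, 5⟩) (.one ⟨190, 1, 5⟩)) (.node 1 (.one ⟨11160, 3, 6⟩)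 (.one ⟨945, 4, 6⟩)))) (.node 4 (.node 2 (.node 1 (.one ⟨6018, 1, 3⟩) (.one ⟨3286, 3, 4⟩)) (.node 1 (.one ⟨15169, 2, 6⟩) (.one ⟨9508, 3, 5⟩))) (.node 2 (.node 1 (.one ⟨15873, 2, 6⟩) (.one ⟨12477, 0, 6⟩)) (.node 1 (.one ⟨6078, 2, 6⟩) (.one ⟨6048, 1, 6⟩)))))) (.node 16 (.node 8 (.node 4 (.node 2 (.node 1 (.one ⟨5168, 3, 5⟩) (.one ⟨2948, 4, 5⟩)) (.node 1 (.one ⟨632, 2, 6⟩) (.one ⟨16885, 3, 6⟩))) (.node 2 (.node 1 (.one ⟨3924, 3, 6⟩) (.one ⟨13198, 4, 4⟩)) (.node 1 (.one ⟨3855, 4, 4⟩) (.one ⟨8721, 0, 5⟩)))) (.node 4 (.node 2 (.node 1 (.one ⟨4094, 3, 7⟩) (.one ⟨3088, 3, 6⟩)) (.node 1 (.one ⟨3234, 1, 6⟩) (.one ⟨8618, 1, 4⟩))) (.node 2 (.node 1 (.one ⟨4249, 2, 6⟩) (.one ⟨16816, 2, 5⟩)) (.node 1 (.one ⟨7444, 0, 6⟩) (.one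 ⟨13079, 0, 6⟩))))) (.node 8 (.node 4 (.node 2 (.node 1 (.one ⟨13621, 2, 6⟩) (.one ⟨13416, 3, 5⟩)) (.node 1 (.one ⟨1854, 0, 5⟩) (.one ⟨8150, 1, 4⟩))) (.node 2 (.node 1 (.one ⟨10838, 1, 6⟩) (.one ⟨12230, 4, 5⟩)) (.node 1 (.one ⟨14176, 2, 4⟩) (.one ⟨16673, 4, 7⟩)))) (.node 4 (.node 2 (.node 1 (.one ⟨10875, 1, 6⟩) (.one ⟨9832, 3, 6⟩)) (.node 1 (.one ⟨11668, 1, 6⟩) (.one ⟨4825, 3, 5⟩))) (.node 2 (.node 1 (.one ⟨5373, 3, 4⟩) (.one ⟨5641, 0, 5⟩)) (.node 1 (.one ⟨14592, 4, 5⟩) (.one ⟨7937, 4, 5⟩)))))))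
def par1_7_1 : Arr Par :=
  (.node 32 (.node 16 (.node 8 (.node 4 (.node 2 (.node 1 (.one ⟨4436, 2, 6⟩) (.one ⟨3426, 2, 3⟩)) (.node 1 (.one ⟨10558, 2, 4⟩) (.one ⟨12619, 2, 6⟩))) (.node 2 (.node 1 (.one ⟨14128, 3, 6⟩) (.one ⟨3462, 4, 6⟩)) (.node 1 (.one ⟨16229, 1, 6⟩) (.one ⟨15521, 1, 5⟩)))) (.node 4 (.node 2 (.node 1 (.one ⟨15056, 1, 5⟩) (.one ⟨4653, 0, 5⟩)) (.node 1 (.one ⟨7303, 2, 6⟩) (.one ⟨6935, 4, 7⟩))) (.node 2 (.node 1 (.one ⟨16517, 0, 6⟩) (.one ⟨5653, 3, 4⟩)) (.node 1 (.one ⟨9672, 4, 5⟩) (.one ⟨4986, 0, 4⟩))))) (.node 8 (.node 4 (.node 2 (.node 1 (.one ⟨3448, 1, 5⟩) (.one ⟨8142, 1, 5⟩)) (.node 1 (.one ⟨14561, 3, 6⟩) (.one ⟨16313, 4, 5⟩))) (.node 2 (.node 1 (.one ⟨12436, 2, 5⟩) (.one ⟨82, 3, 6⟩)) (.node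 1 (.one ⟨12437, 2, 5⟩) (.one ⟨6051, 3, 5⟩)))) (.node 4 (.node 2 (.node 1 (.one ⟨15040, 1, 6⟩) (.one ⟨4621, 0, 5⟩)) (.node 1 (.one ⟨3317, 2, 5⟩) (.one ⟨13622, 0, 6⟩))) (.node 2 (.node 1 (.one ⟨8853, 2, 5⟩) (.one ⟨4400, 1, 5⟩)) (.node 1 (.one ⟨16277, 1, 5⟩) (.one ⟨2679, 3, 4⟩)))))) (.node 16 (.node 8 (.node 4 (.node 2 (.node 1 (.one ⟨9156, 4, 5⟩) (.one ⟨15116, 3, 5⟩)) (.node 1 (.one ⟨6360, 4, 5⟩) (.one ⟨15578, 4, 6⟩))) (.node 2 (.node 1 (.one ⟨7082, 1, 7⟩) (.one ⟨3013, 4, 4⟩)) (.node 1 (.one ⟨4603, 0, 5⟩) (.one ⟨8432, 3, 7⟩)))) (.node 4 (.node 2 (.node 1 (.one ⟨6910, 2, 6⟩) (.one ⟨1536, 3, 6⟩)) (.node 1 (.one ⟨1913, 4, 6⟩) (.one ⟨13889, 2, 5⟩))) (.node 2 (.node 1 (.one ⟨8188, 4, 6⟩) (.one ⟨1766, 2, 6⟩)) (.node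 1 (.one ⟨16935, 4, 6⟩) (.one ⟨2202, 2, 3⟩))))) (.node 8 (.node 4 (.node 2 (.node 1 (.one ⟨11337, 4, 6⟩) (.one ⟨6546, 3, 6⟩)) (.node 1 (.one ⟨2641, 3, 5⟩) (.one ⟨7234, 3, 5⟩))) (.node 2 (.node 1 (.one ⟨1244, 2, 4⟩) (.one ⟨5808, 3, 5⟩)) (.node 1 (.one ⟨4948, 0, 4⟩) (.one ⟨12464, 1, 6⟩)))) (.node 4 (.node 2 (.node 1 (.one ⟨7020, 2, 6⟩) (.one ⟨5685, 4, 6⟩)) (.node 1 (.one ⟨4747, 2, 6⟩) (.one ⟨15968, 3, 6⟩))) (.node 2 (.node 1 (.one ⟨3784, 3, 6⟩) (.one ⟨12841, 0, 7⟩)) (.node 1 (.one ⟨15495, 1, 6⟩) (.one ⟨4480, 1, 4⟩)))))))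
def par1_7_2 : Arr Par :=
  (.node 32 (.node 16 (.node 8 (.node 4 (.node 2 (.node 1 (.one ⟨11284, 4, 5⟩) (.one ⟨3534, 1, 6⟩)) (.node 1 (.one ⟨13006, 4, 5⟩) (.one ⟨1418, 3, 6⟩))) (.node 2 (.node 1 (.one ⟨7345, 1, 6⟩) (.one ⟨12430, 4, 6⟩)) (.node 1 (.one ⟨576, 3, 6⟩) (.one ⟨12585, 2, 5⟩)))) (.node 4 (.node 2 (.node 1 (.one ⟨4417, 3, 6⟩) (.one ⟨8319, 2, 6⟩)) (.node 1 (.one ⟨7346, 3, 6⟩) (.one ⟨4692, 3, 5⟩))) (.node 2 (.node 1 (.one ⟨15850, 4, 5⟩) (.one ⟨5987, 3, 5⟩)) (.node 1 (.one ⟨15593, 4, 6⟩) (.one ⟨13593, 2, 5⟩))))) (.node 8 (.node 4 (.node 2 (.node 1 (.one ⟨7390, 1, 6⟩) (.one ⟨11556, 1, 6⟩)) (.node 1 (.one ⟨3438, 3, 6⟩) (.one ⟨11885, 3, 4⟩))) (.node 2 (.node 1 (.one ⟨12900, 3, 6⟩) (.one ⟨8894, 4, 6⟩)) (.node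 1 (.one ⟨4963, 0, 5⟩) (.one ⟨12524, 1, 5⟩)))) (.node 4 (.node 2 (.node 1 (.one ⟨8232, 1, 5⟩) (.one ⟨10924, 1, 5⟩)) (.node 1 (.one ⟨15648, 2, 4⟩) (.one ⟨15614, 2, 6⟩))) (.node 2 (.node 1 (.one ⟨11815, 2, 5⟩) (.one ⟨5636, 0, 6⟩)) (.node 1 (.one ⟨6209, 4, 7⟩) (.one ⟨5995, 4, 5⟩)))))) (.node 16 (.node 8 (.node 4 (.node 2 (.node 1 (.one ⟨14457, 2, 6⟩) (.one ⟨12751, 4, 6⟩)) (.node 1 (.one ⟨15147, 1, 5⟩) (.one ⟨8571, 4, 6⟩))) (.node 2 (.node 1 (.one ⟨5369, 3, 4⟩) (.one ⟨1626, 0, 6⟩)) (.node 1 (.one ⟨3955, 3, 6⟩) (.one ⟨10302, 4, 5⟩)))) (.node 4 (.node 2 (.node 1 (.one ⟨13394, 3, 4⟩) (.one ⟨4750, 4, 5⟩)) (.node 1 (.one ⟨13068, 2, 4⟩) (.one ⟨14928, 3, 4⟩))) (.node 2 (.node 1 (.one ⟨10917, 1, 3⟩) (.one ⟨17048, 3, 3⟩))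 (.node 1 (.one ⟨16289, 1, 4⟩) (.one ⟨3945, 2, 5⟩))))) (.node 8 (.node 4 (.node 2 (.node 1 (.one ⟨12986, 1, 5⟩) (.one ⟨6600, 4, 5⟩)) (.node 1 (.one ⟨6347, 3, 5⟩) (.one ⟨8121, 2, 5⟩))) (.node 2 (.node 1 (.one ⟨14914, 0, 4⟩) (.one ⟨8348, 1, 5⟩)) (.node 1 (.one ⟨156, 4, 6⟩) (.one ⟨6515, 3, 6⟩)))) (.node 4 (.node 2 (.node 1 (.one ⟨12087, 3, 4⟩) (.one ⟨13001, 1, 6⟩)) (.node 1 (.one ⟨8850, 0, 5⟩) (.one ⟨14462, 3, 5⟩))) (.node 2 (.node 1 (.one ⟨7216, 1, 7⟩) (.one ⟨587, 4, 5⟩)) (.node 1 (.one ⟨13175, 1, 6⟩) (.one ⟨7234, 1, 5⟩)))))))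
def par1_7_3 : Arr Par :=
  (.node 32 (.node 16 (.node 8 (.node 4 (.node 2 (.node 1 (.one ⟨11668, 2, 6⟩) (.one ⟨9588, 4, 5⟩)) (.node 1 (.one ⟨7611, 3, 6⟩) (.one ⟨6489, 2, 4⟩))) (.node 2 (.node 1 (.one ⟨13862, 2, 7⟩) (.one ⟨14701, 0, 6⟩)) (.node 1 (.one ⟨14530, 3, 7⟩) (.one ⟨6631, 0, 4⟩)))) (.node 4 (.node 2 (.node 1 (.one ⟨15706, 1, 7⟩) (.one ⟨2466, 4, 6⟩)) (.node 1 (.one ⟨4934, 3, 6⟩) (.one ⟨11990, 0, 5⟩))) (.node 2 (.node 1 (.one ⟨1400, 3, 5⟩) (.one ⟨9044, 0, 6⟩)) (.node 1 (.one ⟨17132, 4, 4⟩) (.one ⟨2598, 1, 6⟩))))) (.node 8 (.node 4 (.node 2 (.node 1 (.one ⟨4950, 1, 3⟩) (.one ⟨6068, 4, 4⟩)) (.node 1 (.one ⟨8027, 2, 6⟩) (.one ⟨5128, 1, 6⟩))) (.node 2 (.node 1 (.one ⟨9496, 3, 4⟩) (.one ⟨588, 3, 5⟩)) (.node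 1 (.one ⟨16901, 0, 6⟩) (.one ⟨15279, 1, 5⟩)))) (.node 4 (.node 2 (.node 1 (.one ⟨9370, 3, 6⟩) (.one ⟨4178, 3, 4⟩)) (.node 1 (.one ⟨12303, 3, 4⟩) (.one ⟨1530, 3, 5⟩))) (.node 2 (.node 1 (.one ⟨12004, 0, 6⟩) (.one ⟨4314, 4, 5⟩)) (.node 1 (.one ⟨6891, 1, 5⟩) (.one ⟨669, 3, 5⟩)))))) (.node 16 (.node 8 (.node 4 (.node 2 (.node 1 (.one ⟨12220, 0, 7⟩) (.one ⟨14529, 3, 6⟩)) (.node 1 (.one ⟨6113, 3, 5⟩) (.one ⟨15889, 2, 6⟩))) (.node 2 (.node 1 (.one ⟨6777, 3, 6⟩) (.one ⟨8755, 0, 4⟩)) (.node 1 (.one ⟨3369, 4, 5⟩) (.one ⟨5909, 2, 3⟩)))) (.node 4 (.node 2 (.node 1 (.one ⟨11899, 3, 6⟩) (.one ⟨11901, 3, 6⟩)) (.node 1 (.one ⟨14640, 2, 7⟩) (.one ⟨14491, 2, 6⟩))) (.node 2 (.node 1 (.one ⟨4643, 4, 5⟩) (.one ⟨6888, 1, 5⟩)) (.node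 1 (.one ⟨16933, 0, 6⟩) (.one ⟨413, 4, 6⟩))))) (.node 8 (.node 4 (.node 2 (.node 1 (.one ⟨13769, 1, 4⟩) (.one ⟨8530, 2, 5⟩)) (.node 1 (.one ⟨1398, 4, 6⟩) (.one ⟨12852, 1, 5⟩))) (.node 2 (.node 1 (.one ⟨12312, 3, 6⟩) (.one ⟨8244, 3, 5⟩)) (.node 1 (.one ⟨9625, 2, 5⟩) (.one ⟨10424, 1, 5⟩)))) (.node 4 (.node 2 (.node 1 (.one ⟨17016, 4, 6⟩) (.one ⟨1458, 3, 6⟩)) (.node 1 (.one ⟨5580, 4, 4⟩) (.one ⟨1239, 3, 6⟩))) (.node 2 (.node 1 (.one ⟨5444, 2, 6⟩) (.one ⟨3531, 1, 6⟩)) (.node 1 (.one ⟨8122, 1, 6⟩) (.one ⟨10766, 3, 7⟩)))))))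
def par1_7_4 : Arr Par :=
  (.node 32 (.node 16 (.node 8 (.node 4 (.node 2 (.node 1 (.one ⟨2136, 3, 6⟩) (.one ⟨10749, 3, 6⟩)) (.node 1 (.one ⟨2109, 3, 7⟩) (.one ⟨5512, 4, 7⟩))) (.node 2 (.node 1 (.one ⟨14729, 4, 6⟩) (.one ⟨13827, 1, 6⟩)) (.node 1 (.one ⟨11628, 1, 7⟩) (.one ⟨11434, 1, 6⟩)))) (.node 4 (.node 2 (.node 1 (.one ⟨4819, 1, 6⟩) (.one ⟨14884, 1, 5⟩)) (.node 1 (.one ⟨486, 4, 7⟩) (.one ⟨11589, 2, 5⟩))) (.node 2 (.node 1 (.one ⟨13418, 3, 6⟩) (.one ⟨6408, 2, 6⟩)) (.node 1 (.one ⟨3547, 1, 6⟩) (.one ⟨1791, 0, 5⟩))))) (.node 8 (.node 4 (.node 2 (.node 1 (.one ⟨1875, 4, 5⟩) (.one ⟨14522, 3, 5⟩)) (.node 1 (.one ⟨15884, 2, 5⟩) (.one ⟨5279, 0, 4⟩))) (.node 2 (.node 1 (.one ⟨10872, 0, 5⟩) (.one ⟨3940, 4, 5⟩)) (.node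 1 (.one ⟨3812, 4, 5⟩) (.one ⟨12141, 3, 6⟩)))) (.node 4 (.node 2 (.node 1 (.one ⟨8129, 1, 6⟩) (.one ⟨11337, 2, 6⟩)) (.node 1 (.one ⟨8909, 1, 5⟩) (.one ⟨15812, 2, 6⟩))) (.node 2 (.node 1 (.one ⟨1549, 3, 7⟩) (.one ⟨3278, 1, 4⟩)) (.node 1 (.one ⟨16752, 3, 5⟩) (.one ⟨6724, 1, 5⟩)))))) (.node 16 (.node 8 (.node 4 (.node 2 (.node 1 (.one ⟨16865, 2, 6⟩) (.one ⟨3924, 2, 6⟩)) (.node 1 (.one ⟨12859, 1, 7⟩) (.one ⟨10459, 1, 7⟩))) (.node 2 (.node 1 (.one ⟨2833, 0, 5⟩) (.one ⟨11571, 1, 6⟩)) (.node 1 (.one ⟨5473, 0, 6⟩) (.one ⟨4108, 3, 5⟩)))) (.node 4 (.node 2 (.node 1 (.one ⟨8932, 1, 6⟩) (.one ⟨4049, 0, 1⟩)) (.node 1 (.one ⟨10117, 0, 5⟩) (.one ⟨15074, 4, 3⟩))) (.node 2 (.node 1 (.one ⟨10843, 3, 6⟩) (.one ⟨4158, 3, 4⟩)) (.node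 1 (.one ⟨13252, 0, 6⟩) (.one ⟨11468, 4, 5⟩))))) (.node 8 (.node 4 (.node 2 (.node 1 (.one ⟨1210, 3, 5⟩) (.one ⟨9192, 3, 4⟩)) (.node 1 (.one ⟨9382, 3, 4⟩) (.one ⟨12668, 2, 6⟩))) (.node 2 (.node 1 (.one ⟨14593, 2, 6⟩) (.one ⟨5076, 1, 6⟩)) (.node 1 (.one ⟨11141, 0, 5⟩) (.one ⟨12852, 2, 5⟩)))) (.node 4 (.node 2 (.node 1 (.one ⟨15737, 1, 5⟩) (.one ⟨15299, 1, 4⟩)) (.node 1 (.one ⟨15895, 4, 6⟩) (.one ⟨11340, 3, 4⟩))) (.node 2 (.node 1 (.one ⟨17053, 0, 4⟩) (.one ⟨1251, 2, 5⟩)) (.node 1 (.one ⟨1666, 4, 6⟩) (.one ⟨2413, 3, 6⟩)))))))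
def par1_7_5 : Arr Par :=
  (.node 32 (.node 16 (.node 8 (.node 4 (.node 2 (.node 1 (.one ⟨7251, 1, 6⟩) (.one ⟨11644, 2, 5⟩)) (.node 1 (.one ⟨14536, 4, 6⟩) (.one ⟨2400, 2, 6⟩))) (.node 2 (.node 1 (.one ⟨8281, 1, 6⟩) (.one ⟨4997, 3, 5⟩)) (.node 1 (.one ⟨16406, 3, 4⟩) (.one ⟨5493, 4, 7⟩)))) (.node 4 (.node 2 (.node 1 (.one ⟨2063, 3, 7⟩) (.one ⟨14815, 3, 3⟩)) (.node 1 (.one ⟨6897, 1, 5⟩) (.one ⟨13597, 4, 4⟩))) (.node 2 (.node 1 (.one ⟨9217, 3, 6⟩) (.one ⟨6896, 3, 5⟩)) (.node 1 (.one ⟨13586, 4, 6⟩) (.one ⟨4965, 2, 5⟩))))) (.node 8 (.node 4 (.node 2 (.node 1 (.one ⟨14062, 2, 6⟩) (.one ⟨13216, 4, 6⟩)) (.node 1 (.one ⟨5872, 2, 6⟩) (.one ⟨6791, 2, 5⟩))) (.node 2 (.node 1 (.one ⟨12, 1, 5⟩) (.one ⟨1980, 3, 7⟩)) (.node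 1 (.one ⟨1630, 3, 6⟩) (.one ⟨4669, 4, 4⟩)))) (.node 4 (.node 2 (.node 1 (.one ⟨10378, 2, 3⟩) (.one ⟨14394, 2, 5⟩)) (.node 1 (.one ⟨8289, 1, 6⟩) (.one ⟨6898, 1, 7⟩))) (.node 2 (.node 1 (.one ⟨2710, 4, 6⟩) (.one ⟨7220, 1, 7⟩)) (.node 1 (.one ⟨14422, 4, 5⟩) (.one ⟨991, 4, 4⟩)))))) (.node 16 (.node 8 (.node 4 (.node 2 (.node 1 (.one ⟨4853, 3, 5⟩) (.one ⟨13188, 2, 5⟩)) (.node 1 (.one ⟨5233, 0, 5⟩) (.one ⟨1430, 4, 6⟩))) (.node 2 (.node 1 (.one ⟨6906, 1, 5⟩) (.one ⟨17060, 0, 6⟩)) (.node 1 (.one ⟨164, 1, 6⟩) (.one ⟨136, 2, 6⟩)))) (.node 4 (.node 2 (.node 1 (.one ⟨6802, 3, 5⟩) (.one ⟨14161, 0, 6⟩)) (.node 1 (.one ⟨5110, 3, 7⟩) (.one ⟨2535, 3, 6⟩))) (.node 2 (.node 1 (.one ⟨3010, 0, 6⟩) (.one ⟨2810, 2, 6⟩)) (.node 1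 (.one ⟨5203, 0, 6⟩) (.one ⟨5155, 4, 6⟩))))) (.node 8 (.node 4 (.node 2 (.node 1 (.one ⟨13229, 2, 7⟩) (.one ⟨8486, 2, 6⟩)) (.node 1 (.one ⟨5633, 0, 3⟩) (.one ⟨257, 0, 6⟩))) (.node 2 (.node 1 (.one ⟨13457, 3, 5⟩) (.one ⟨16469, 3, 4⟩)) (.node 1 (.one ⟨17029, 2, 6⟩) (.one ⟨5279, 4, 4⟩)))) (.node 4 (.node 2 (.node 1 (.one ⟨5097, 2, 6⟩) (.one ⟨11272, 4, 6⟩)) (.node 1 (.one ⟨3474, 4, 6⟩) (.one ⟨2950, 0, 5⟩))) (.node 2 (.node 1 (.one ⟨12011, 3, 4⟩) (.one ⟨3258, 2, 5⟩)) (.node 1 (.one ⟨8465, 3, 3⟩) (.one ⟨1890, 3, 6⟩)))))))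
def par1_7_6 : Arr Par :=
  (.node 32 (.node 16 (.node 8 (.node 4 (.node 2 (.node 1 (.one ⟨3277, 1, 5⟩) (.one ⟨13013, 3, 6⟩)) (.node 1 (.one ⟨4841, 2, 6⟩) (.one ⟨2466, 1, 6⟩))) (.node 2 (.node 1 (.one ⟨6801, 3, 4⟩) (.one ⟨6596, 2, 5⟩)) (.node 1 (.one ⟨12262, 0, 5⟩) (.one ⟨5762, 1, 5⟩)))) (.node 4 (.node 2 (.node 1 (.one ⟨4761, 3, 6⟩) (.one ⟨9835, 2, 6⟩)) (.node 1 (.one ⟨11406, 1, 5⟩) (.one ⟨12303, 0, 4⟩))) (.node 2 (.node 1 (.one ⟨13603, 3, 5⟩) (.one ⟨14904, 0, 6⟩)) (.node 1 (.one ⟨12297, 4, 5⟩) (.one ⟨2132, 4, 5⟩))))) (.node 8 (.node 4 (.node 2 (.node 1 (.one ⟨497, 2, 6⟩) (.one ⟨15488, 2, 6⟩)) (.node 1 (.one ⟨10467, 4, 6⟩) (.one ⟨12158, 3, 5⟩))) (.node 2 (.node 1 (.one ⟨16263, 1, 4⟩) (.one ⟨15422, 4, 6⟩))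 (.node 1 (.one ⟨14961, 2, 5⟩) (.one ⟨8980, 4, 5⟩)))) (.node 4 (.node 2 (.node 1 (.one ⟨838, 0, 5⟩) (.one ⟨4754, 2, 6⟩)) (.node 1 (.one ⟨3837, 4, 5⟩) (.one ⟨12126, 4, 6⟩))) (.node 2 (.node 1 (.one ⟨4244, 0, 6⟩) (.one ⟨14665, 4, 5⟩)) (.node 1 (.one ⟨16251, 2, 5⟩) (.one ⟨16883, 2, 7⟩)))))) (.node 16 (.node 8 (.node 4 (.node 2 (.node 1 (.one ⟨16928, 0, 5⟩) (.one ⟨516, 0, 6⟩)) (.node 1 (.one ⟨9981, 3, 5⟩) (.one ⟨15596, 4, 6⟩))) (.node 2 (.node 1 (.one ⟨9978, 3, 7⟩) (.one ⟨3946, 4, 5⟩)) (.node 1 (.one ⟨3796, 4, 5⟩) (.one ⟨3261, 1, 5⟩)))) (.node 4 (.node 2 (.node 1 (.one ⟨15086, 2, 6⟩) (.one ⟨14750, 3, 6⟩)) (.node 1 (.one ⟨3609, 1, 6⟩) (.one ⟨13034, 3, 6⟩))) (.node 2 (.node 1 (.one ⟨2453, 1, 4⟩) (.one ⟨4178, 0, 4⟩))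 (.node 1 (.one ⟨7222, 2, 5⟩) (.one ⟨16546, 2, 5⟩))))) (.node 8 (.node 4 (.node 2 (.node 1 (.one ⟨3426, 0, 3⟩) (.one ⟨13289, 4, 5⟩)) (.node 1 (.one ⟨6815, 4, 7⟩) (.one ⟨13690, 4, 5⟩))) (.node 2 (.node 1 (.one ⟨3922, 4, 5⟩) (.one ⟨3525, 3, 6⟩)) (.node 1 (.one ⟨14452, 1, 6⟩) (.one ⟨2704, 2, 6⟩)))) (.node 4 (.node 2 (.node 1 (.one ⟨1672, 3, 6⟩) (.one ⟨12919, 1, 6⟩)) (.node 1 (.one ⟨12854, 0, 5⟩) (.one ⟨7548, 3, 5⟩))) (.node 2 (.node 1 (.one ⟨16918, 4, 6⟩) (.one ⟨13985, 1, 5⟩)) (.node 1 (.one ⟨3437, 3, 6⟩) (.one ⟨5921, 3, 6⟩)))))))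
def par1_7_7 : Arr Par :=
  (.node 32 (.node 16 (.node 8 (.node 4 (.node 2 (.node 1 (.one ⟨8124, 1, 5⟩) (.one ⟨5548, 0, 5⟩)) (.node 1 (.one ⟨3048, 2, 6⟩) (.one ⟨11257, 2, 5⟩))) (.node 2 (.node 1 (.one ⟨13309, 1, 6⟩) (.one ⟨3846, 3, 6⟩)) (.node 1 (.one ⟨5845, 1, 4⟩) (.one ⟨8061, 2, 4⟩)))) (.node 4 (.node 2 (.node 1 (.one ⟨4047, 3, 6⟩) (.one ⟨11284, 2, 5⟩)) (.node 1 (.one ⟨6251, 3, 7⟩) (.one ⟨8044, 4, 4⟩))) (.node 2 (.node 1 (.one ⟨13554, 2, 4⟩) (.one ⟨8657, 3, 5⟩)) (.node 1 (.one ⟨8573, 4, 5⟩) (.one ⟨16617, 3, 7⟩))))) (.node 8 (.node 4 (.node 2 (.node 1 (.one ⟨1472, 4, 3⟩) (.one ⟨6416, 1, 6⟩)) (.node 1 (.one ⟨14794, 3, 7⟩) (.one ⟨3795, 3, 5⟩))) (.node 2 (.node 1 (.one ⟨16288, 2, 5⟩) (.one ⟨10541, 0, 6⟩)) (.node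 1 (.one ⟨1429, 2, 6⟩) (.one ⟨14484, 1, 6⟩)))) (.node 4 (.node 2 (.node 1 (.one ⟨7795, 1, 6⟩) (.one ⟨10221, 3, 5⟩)) (.node 1 (.one ⟨5557, 3, 6⟩) (.one ⟨13779, 3, 5⟩))) (.node 2 (.node 1 (.one ⟨1909, 3, 5⟩) (.one ⟨10793, 2, 5⟩)) (.node 1 (.one ⟨2369, 2, 5⟩) (.one ⟨4389, 3, 4⟩)))))) (.node 16 (.node 8 (.node 4 (.node 2 (.node 1 (.one ⟨11335, 1, 4⟩) (.one ⟨4856, 1, 2⟩)) (.node 1 (.one ⟨1097, 2, 5⟩) (.one ⟨6828, 4, 6⟩))) (.node 2 (.node 1 (.one ⟨6396, 1, 4⟩) (.one ⟨15813, 1, 5⟩)) (.node 1 (.one ⟨6829, 4, 6⟩) (.one ⟨10163, 2, 5⟩)))) (.node 4 (.node 2 (.node 1 (.one ⟨14320, 3, 5⟩) (.one ⟨13593, 0, 5⟩)) (.node 1 (.one ⟨3507, 3, 6⟩) (.one ⟨12214, 2, 5⟩))) (.node 2 (.node 1 (.one ⟨6170, 3, 5⟩) (.one ⟨7932, 3, 6⟩)) (.node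 1 (.one ⟨12350, 3, 6⟩) (.one ⟨14758, 1, 7⟩))))) (.node 8 (.node 4 (.node 2 (.node 1 (.one ⟨7443, 2, 5⟩) (.one ⟨5373, 1, 4⟩)) (.node 1 (.one ⟨15516, 2, 6⟩) (.one ⟨15334, 3, 6⟩))) (.node 2 (.node 1 (.one ⟨8923, 2, 6⟩) (.one ⟨6645, 0, 5⟩)) (.node 1 (.one ⟨16981, 2, 6⟩) (.one ⟨13449, 1, 5⟩)))) (.node 4 (.node 2 (.node 1 (.one ⟨3335, 4, 6⟩) (.one ⟨8285, 1, 4⟩)) (.node 1 (.one ⟨15956, 0, 4⟩) (.one ⟨7096, 4, 6⟩))) (.node 2 (.node 1 (.one ⟨14716, 0, 7⟩) (.one ⟨661, 2, 5⟩)) (.node 1 (.one ⟨14379, 0, 5⟩) (.one ⟨5590, 4, 4⟩)))))))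
def par1_7_8 : Arr Par :=
  (.node 32 (.node 16 (.node 8 (.node 4 (.node 2 (.node 1 (.one ⟨13006, 1, 5⟩) (.one ⟨4166, 3, 4⟩)) (.node 1 (.one ⟨235, 3, 5⟩) (.one ⟨2389, 4, 5⟩))) (.node 2 (.node 1 (.one ⟨1393, 2, 6⟩) (.one ⟨6153, 4, 4⟩)) (.node 1 (.one ⟨11300, 0, 4⟩) (.one ⟨450, 2, 5⟩)))) (.node 4 (.node 2 (.node 1 (.one ⟨4043, 2, 6⟩) (.one ⟨16017, 1, 6⟩)) (.node 1 (.one ⟨12413, 0, 6⟩) (.one ⟨74, 3, 5⟩))) (.node 2 (.node 1 (.one ⟨4042, 2, 5⟩) (.one ⟨4645, 4, 6⟩)) (.node 1 (.one ⟨11251, 0, 2⟩) (.one ⟨8514, 3, 6⟩))))) (.node 8 (.node 4 (.node 2 (.node 1 (.one ⟨4947, 1, 5⟩) (.one ⟨9387, 3, 4⟩)) (.node 1 (.one ⟨16025, 1, 6⟩) (.one ⟨8221, 2, 5⟩))) (.node 2 (.node 1 (.one ⟨9295, 3, 3⟩) (.one ⟨602, 3, 5⟩)) (.node 1 (.one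 ⟨13025, 0, 6⟩) (.one ⟨4929, 1, 6⟩)))) (.node 4 (.node 2 (.node 1 (.one ⟨13196, 3, 2⟩) (.one ⟨14599, 3, 1⟩)) (.node 1 (.one ⟨5342, 1, 6⟩) (.one ⟨16365, 1, 6⟩))) (.node 2 (.node 1 (.one ⟨4396, 4, 6⟩) (.one ⟨12376, 0, 6⟩)) (.node 1 (.one ⟨2927, 3, 3⟩) (.one ⟨12975, 0, 6⟩)))))) (.node 16 (.node 8 (.node 4 (.node 2 (.node 1 (.one ⟨5353, 1, 6⟩) (.one ⟨16026, 1, 6⟩)) (.node 1 (.one ⟨2402, 2, 6⟩) (.one ⟨17123, 0, 6⟩))) (.node 2 (.node 1 (.one ⟨14161, 3, 6⟩) (.one ⟨10617, 2, 2⟩)) (.node 1 (.one ⟨7722, 2, 3⟩) (.one ⟨9444, 2, 6⟩)))) (.node 4 (.node 2 (.node 1 (.one ⟨16400, 4, 5⟩) (.one ⟨1704, 3, 6⟩)) (.node 1 (.one ⟨14286, 0, 2⟩) (.one ⟨12985, 1, 6⟩))) (.node 2 (.node 1 (.one ⟨6701, 1, 6⟩) (.one ⟨547, 0, 6⟩)) (.node 1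 (.one ⟨8743, 4, 5⟩) (.one ⟨4507, 1, 5⟩))))) (.node 8 (.node 4 (.node 2 (.node 1 (.one ⟨15496, 1, 2⟩) (.one ⟨8063, 4, 6⟩)) (.node 1 (.one ⟨10445, 2, 5⟩) (.one ⟨6715, 1, 4⟩))) (.node 2 (.node 1 (.one ⟨9581, 0, 7⟩) (.one ⟨16270, 1, 6⟩)) (.node 1 (.one ⟨5014, 4, 5⟩) (.one ⟨2870, 3, 2⟩)))) (.node 4 (.node 2 (.node 1 (.one ⟨5496, 2, 5⟩) (.one ⟨730, 3, 6⟩)) (.node 1 (.one ⟨442, 2, 5⟩) (.one ⟨13411, 0, 3⟩))) (.node 2 (.node 1 (.one ⟨5492, 4, 6⟩) (.one ⟨7376, 1, 4⟩)) (.node 1 (.one ⟨9396, 4, 5⟩) (.one ⟨178, 4, 4⟩)))))))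
def par1_7_9 : Arr Par :=
  (.node 32 (.node 16 (.node 8 (.node 4 (.node 2 (.node 1 (.one ⟨15716, 2, 5⟩) (.one ⟨377, 0, 6⟩)) (.node 1 (.one ⟨8187, 1, 5⟩) (.one ⟨12655, 0, 6⟩))) (.node 2 (.node 1 (.one ⟨11265, 2, 3⟩) (.one ⟨14338, 0, 5⟩)) (.node 1 (.one ⟨3791, 1, 6⟩) (.one ⟨2500, 0, 6⟩)))) (.node 4 (.node 2 (.node 1 (.one ⟨16069, 4, 6⟩) (.one ⟨11777, 3, 4⟩)) (.node 1 (.one ⟨10648, 0, 6⟩) (.one ⟨4564, 0, 5⟩))) (.node 2 (.node 1 (.one ⟨3891, 2, 6⟩) (.one ⟨5346, 0, 5⟩)) (.node 1 (.one ⟨14703, 3, 4⟩) (.one ⟨9623, 3, 4⟩))))) (.node 8 (.node 4 (.node 2 (.node 1 (.one ⟨12956, 2, 6⟩) (.one ⟨8203, 1, 6⟩)) (.node 1 (.one ⟨6791, 1, 5⟩) (.one ⟨11893, 1, 6⟩))) (.node 2 (.node 1 (.one ⟨6235, 2, 2⟩) (.one ⟨1, 3, 4⟩)) (.node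 1 (.one ⟨7600, 4, 4⟩) (.one ⟨11515, 3, 5⟩)))) (.node 4 (.node 2 (.node 1 (.one ⟨11156, 1, 4⟩) (.one ⟨13912, 2, 6⟩)) (.node 1 (.one ⟨3403, 1, 5⟩) (.one ⟨14242, 4, 6⟩))) (.node 2 (.node 1 (.one ⟨5306, 0, 4⟩) (.one ⟨14110, 3, 6⟩)) (.node 1 (.one ⟨13388, 4, 5⟩) (.one ⟨15900, 1, 5⟩)))))) (.node 16 (.node 8 (.node 4 (.node 2 (.node 1 (.one ⟨11114, 1, 6⟩) (.one ⟨14161, 4, 6⟩)) (.node 1 (.one ⟨10950, 3, 4⟩) (.one ⟨10971, 3, 5⟩))) (.node 2 (.node 1 (.one ⟨2921, 3, 5⟩) (.one ⟨13798, 4, 6⟩)) (.node 1 (.one ⟨8787, 0, 7⟩) (.one ⟨7812, 1, 5⟩)))) (.node 4 (.node 2 (.node 1 (.one ⟨11452, 1, 4⟩) (.one ⟨8132, 1, 5⟩)) (.node 1 (.one ⟨12632, 0, 5⟩) (.one ⟨13367, 0, 6⟩))) (.node 2 (.node 1 (.one ⟨11866, 1, 6⟩) (.one ⟨6766, 4, 6⟩))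 (.node 1 (.one ⟨10634, 0, 6⟩) (.one ⟨424, 0, 6⟩))))) (.node 8 (.node 4 (.node 2 (.node 1 (.one ⟨6766, 1, 6⟩) (.one ⟨9571, 0, 6⟩)) (.node 1 (.one ⟨12629, 0, 6⟩) (.one ⟨10334, 2, 5⟩))) (.node 2 (.node 1 (.one ⟨8685, 2, 4⟩) (.one ⟨10077, 2, 4⟩)) (.node 1 (.one ⟨4591, 3, 6⟩) (.one ⟨15433, 1, 5⟩)))) (.node 4 (.node 2 (.node 1 (.one ⟨4597, 0, 5⟩) (.one ⟨2926, 2, 4⟩)) (.node 1 (.one ⟨10126, 3, 6⟩) (.one ⟨3436, 2, 4⟩))) (.node 2 (.node 1 (.one ⟨12530, 2, 5⟩) (.one ⟨10461, 2, 6⟩)) (.node 1 (.one ⟨10123, 3, 6⟩) (.one ⟨4028, 2, 5⟩)))))))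
def par1_7_10 : Arr Par :=
  (.node 32 (.node 16 (.node 8 (.node 4 (.node 2 (.node 1 (.one ⟨5581, 4, 5⟩) (.one ⟨11143, 1, 6⟩)) (.node 1 (.one ⟨16292, 1, 5⟩) (.one ⟨7664, 3, 6⟩))) (.node 2 (.node 1 (.one ⟨11876, 1, 4⟩) (.one ⟨9527, 3, 4⟩)) (.node 1 (.one ⟨6623, 2, 5⟩) (.one ⟨7507, 4, 6⟩)))) (.node 4 (.node 2 (.node 1 (.one ⟨11394, 3, 6⟩) (.one ⟨4458, 1, 6⟩)) (.node 1 (.one ⟨1313, 4, 5⟩) (.one ⟨15214, 2, 7⟩))) (.node 2 (.node 1 (.one ⟨16178, 1, 6⟩) (.one ⟨1167, 2, 5⟩)) (.node 1 (.one ⟨15890, 1, 6⟩) (.one ⟨16655, 3, 5⟩))))) (.node 8 (.node 4 (.node 2 (.node 1 (.one ⟨4586, 0, 6⟩) (.one ⟨7418, 1, 5⟩)) (.node 1 (.one ⟨6467, 3, 6⟩) (.one ⟨7736, 4, 6⟩))) (.node 2 (.node 1 (.one ⟨8117, 3, 6⟩) (.one ⟨17154, 4, 6⟩)) (.node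 1 (.one ⟨3177, 4, 6⟩) (.one ⟨281, 4, 5⟩)))) (.node 4 (.node 2 (.node 1 (.one ⟨4577, 0, 6⟩) (.one ⟨11471, 1, 6⟩)) (.node 1 (.one ⟨9603, 4, 6⟩) (.one ⟨2494, 0, 7⟩))) (.node 2 (.node 1 (.one ⟨17070, 2, 6⟩) (.one ⟨15909, 2, 5⟩)) (.node 1 (.one ⟨11002, 3, 7⟩) (.one ⟨7854, 1, 4⟩)))))) (.node 16 (.node 8 (.node 4 (.node 2 (.node 1 (.one ⟨12528, 1, 7⟩) (.one ⟨11717, 2, 5⟩)) (.node 1 (.one ⟨7465, 1, 2⟩) (.one ⟨12848, 3, 6⟩))) (.node 2 (.node 1 (.one ⟨9515, 4, 4⟩) (.one ⟨6801, 1, 4⟩)) (.node 1 (.one ⟨11515, 1, 5⟩) (.one ⟨10586, 0, 6⟩)))) (.node 4 (.node 2 (.node 1 (.one ⟨13642, 4, 6⟩) (.one ⟨5360, 0, 2⟩)) (.node 1 (.one ⟨13422, 0, 6⟩) (.one ⟨11586, 4, 4⟩))) (.node 2 (.node 1 (.one ⟨11128, 1, 6⟩) (.one ⟨14470, 2, 6⟩))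 (.node 1 (.one ⟨3816, 1, 3⟩) (.one ⟨16926, 0, 5⟩))))) (.node 8 (.node 4 (.node 2 (.node 1 (.one ⟨7511, 1, 5⟩) (.one ⟨9763, 2, 3⟩)) (.node 1 (.one ⟨15597, 1, 6⟩) (.one ⟨17153, 4, 4⟩))) (.node 2 (.node 1 (.one ⟨3136, 2, 5⟩) (.one ⟨9098, 4, 5⟩)) (.node 1 (.one ⟨6682, 3, 5⟩) (.one ⟨15543, 1, 6⟩)))) (.node 4 (.node 2 (.node 1 (.one ⟨7520, 1, 6⟩) (.one ⟨1750, 2, 6⟩)) (.node 1 (.one ⟨15382, 2, 5⟩) (.one ⟨7501, 1, 6⟩))) (.node 2 (.node 1 (.one ⟨16837, 4, 6⟩) (.one ⟨7383, 2, 6⟩)) (.node 1 (.one ⟨794, 4, 6⟩) (.one ⟨16429, 4, 5⟩)))))))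
def par1_7_11 : Arr Par :=
  (.node 32 (.node 16 (.node 8 (.node 4 (.node 2 (.node 1 (.one ⟨9839, 3, 5⟩) (.one ⟨3184, 1, 5⟩)) (.node 1 (.one ⟨2335, 3, 4⟩) (.one ⟨3217, 1, 6⟩))) (.node 2 (.node 1 (.one ⟨3225, 1, 5⟩) (.one ⟨1036, 3, 4⟩)) (.node 1 (.one ⟨5323, 0, 6⟩) (.one ⟨665, 4, 6⟩)))) (.node 4 (.node 2 (.node 1 (.one ⟨7902, 2, 5⟩) (.one ⟨15005, 3, 4⟩)) (.node 1 (.one ⟨3203, 1, 5⟩) (.one ⟨16308, 4, 6⟩))) (.node 2 (.node 1 (.one ⟨11427, 3, 6⟩) (.one ⟨8275, 4, 6⟩)) (.node 1 (.one ⟨13451, 0, 4⟩) (.one ⟨15294, 0, 7⟩))))) (.node 8 (.node 4 (.node 2 (.node 1 (.one ⟨5137, 1, 5⟩) (.one ⟨156, 3, 6⟩)) (.node 1 (.one ⟨6778, 3, 5⟩) (.one ⟨5768, 2, 5⟩))) (.node 2 (.node 1 (.one ⟨7336, 0, 5⟩) (.one ⟨14430, 3, 5⟩)) (.node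 1 (.one ⟨11197, 3, 6⟩) (.one ⟨8721, 3, 5⟩)))) (.node 4 (.node 2 (.node 1 (.one ⟨1295, 4, 5⟩) (.one ⟨7245, 0, 5⟩)) (.node 1 (.one ⟨13180, 1, 5⟩) (.one ⟨4177, 2, 6⟩))) (.node 2 (.node 1 (.one ⟨13200, 1, 6⟩) (.one ⟨5909, 3, 3⟩)) (.node 1 (.one ⟨4988, 3, 4⟩) (.one ⟨5098, 1, 6⟩)))))) (.node 16 (.node 8 (.node 4 (.node 2 (.node 1 (.one ⟨9988, 2, 5⟩) (.one ⟨5751, 2, 6⟩)) (.node 1 (.one ⟨15270, 0, 5⟩) (.one ⟨10785, 4, 6⟩))) (.node 2 (.node 1 (.one ⟨433, 4, 5⟩) (.one ⟨10076, 4, 5⟩)) (.node 1 (.one ⟨2323, 4, 7⟩) (.one ⟨15231, 0, 6⟩)))) (.node 4 (.node 2 (.node 1 (.one ⟨5008, 3, 4⟩) (.one ⟨5550, 2, 6⟩)) (.node 1 (.one ⟨1253, 2, 7⟩) (.one ⟨5177, 4, 5⟩))) (.node 2 (.node 1 (.one ⟨16466, 3, 5⟩) (.one ⟨15171, 0, 6⟩)) (.node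 1 (.one ⟨14379, 3, 5⟩) (.one ⟨17133, 1, 6⟩))))) (.node 8 (.node 4 (.node 2 (.node 1 (.one ⟨17088, 1, 6⟩) (.one ⟨14168, 4, 6⟩)) (.node 1 (.one ⟨9051, 1, 6⟩) (.one ⟨9950, 4, 6⟩))) (.node 2 (.node 1 (.one ⟨17095, 1, 6⟩) (.one ⟨1422, 2, 7⟩)) (.node 1 (.one ⟨5692, 4, 5⟩) (.one ⟨7149, 0, 6⟩)))) (.node 4 (.node 2 (.node 1 (.one ⟨5651, 2, 5⟩) (.one ⟨7193, 0, 5⟩)) (.node 1 (.one ⟨17116, 1, 5⟩) (.one ⟨2313, 4, 6⟩))) (.node 2 (.node 1 (.one ⟨7596, 4, 5⟩) (.one ⟨15163, 0, 6⟩)) (.node 1 (.one ⟨13093, 3, 5⟩) (.one ⟨9094, 1, 6⟩)))))))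
def par1_7_12 : Arr Par :=
  (.node 32 (.node 16 (.node 8 (.node 4 (.node 2 (.node 1 (.one ⟨7579, 2, 7⟩) (.one ⟨14176, 3, 4⟩)) (.node 1 (.one ⟨13424, 3, 6⟩) (.one ⟨15281, 0, 7⟩))) (.node 2 (.node 1 (.one ⟨9745, 4, 6⟩) (.one ⟨15359, 0, 6⟩)) (.node 1 (.one ⟨6753, 2, 6⟩) (.one ⟨5114, 4, 6⟩)))) (.node 4 (.node 2 (.node 1 (.one ⟨7233, 0, 4⟩) (.one ⟨9709, 4, 3⟩)) (.node 1 (.one ⟨7218, 0, 6⟩) (.one ⟨9842, 4, 6⟩))) (.node 2 (.node 1 (.one ⟨8561, 2, 6⟩) (.one ⟨1353, 2, 7⟩)) (.node 1 (.one ⟨17159, 1, 5⟩) (.one ⟨768, 4, 6⟩))))) (.node 8 (.node 4 (.node 2 (.node 1 (.one ⟨3171, 1, 6⟩) (.one ⟨3139, 1, 3⟩)) (.node 1 (.one ⟨16756, 2, 5⟩) (.one ⟨16847, 0, 6⟩))) (.node 2 (.node 1 (.one ⟨6933, 3, 4⟩) (.one ⟨6874, 2, 5⟩)) (.node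 1 (.one ⟨8757, 0, 4⟩) (.one ⟨11035, 4, 5⟩)))) (.node 4 (.node 2 (.node 1 (.one ⟨11200, 1, 6⟩) (.one ⟨2957, 4, 6⟩)) (.node 1 (.one ⟨16820, 0, 5⟩) (.one ⟨11241, 1, 5⟩))) (.node 2 (.node 1 (.one ⟨3159, 1, 6⟩) (.one ⟨8863, 0, 3⟩)) (.node 1 (.one ⟨5759, 2, 6⟩) (.one ⟨15322, 3, 5⟩)))))) (.node 16 (.node 8 (.node 4 (.node 2 (.node 1 (.one ⟨13455, 0, 3⟩) (.one ⟨5043, 4, 5⟩)) (.node 1 (.one ⟨2953, 4, 5⟩) (.one ⟨15639, 1, 4⟩))) (.node 2 (.node 1 (.one ⟨7589, 1, 6⟩) (.one ⟨7563, 1, 5⟩)) (.node 1 (.one ⟨5363, 0, 6⟩) (.one ⟨14035, 4, 6⟩)))) (.node 4 (.node 2 (.node 1 (.one ⟨7085, 3, 6⟩) (.one ⟨5598, 2, 5⟩)) (.node 1 (.one ⟨5315, 4, 7⟩) (.one ⟨3183, 2, 6⟩))) (.node 2 (.node 1 (.one ⟨7253, 2, 7⟩) (.one ⟨1016, 4, 5⟩)) (.node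 1 (.one ⟨140, 2, 6⟩) (.one ⟨16756, 3, 5⟩))))) (.node 8 (.node 4 (.node 2 (.node 1 (.one ⟨16026, 2, 6⟩) (.one ⟨2161, 2, 6⟩)) (.node 1 (.one ⟨485, 2, 5⟩) (.one ⟨13196, 0, 2⟩))) (.node 2 (.node 1 (.one ⟨7886, 2, 5⟩) (.one ⟨12744, 3, 6⟩)) (.node 1 (.one ⟨4275, 0, 5⟩) (.one ⟨11342, 3, 6⟩)))) (.node 4 (.node 2 (.node 1 (.one ⟨13592, 3, 6⟩) (.one ⟨13068, 4, 4⟩)) (.node 1 (.one ⟨8508, 4, 5⟩) (.one ⟨377, 2, 6⟩))) (.node 2 (.node 1 (.one ⟨15971, 0, 6⟩) (.one ⟨16638, 3, 5⟩)) (.node 1 (.one ⟨10870, 4, 6⟩) (.one ⟨3357, 1, 5⟩)))))))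
def par1_7_13 : Arr Par :=
  (.node 32 (.node 16 (.node 8 (.node 4 (.node 2 (.node 1 (.one ⟨15810, 2, 6⟩) (.one ⟨6773, 2, 5⟩)) (.node 1 (.one ⟨12895, 1, 7⟩) (.one ⟨8215, 1, 5⟩))) (.node 2 (.node 1 (.one ⟨10820, 2, 6⟩) (.one ⟨7837, 1, 6⟩)) (.node 1 (.one ⟨4584, 2, 5⟩) (.one ⟨8223, 1, 4⟩)))) (.node 4 (.node 2 (.node 1 (.one ⟨15749, 2, 5⟩) (.one ⟨4258, 4, 5⟩)) (.node 1 (.one ⟨5106, 0, 2⟩) (.one ⟨14090, 3, 6⟩))) (.node 2 (.node 1 (.one ⟨16300, 4, 4⟩) (.one ⟨14093, 3, 5⟩)) (.node 1 (.one ⟨12860, 1, 6⟩) (.one ⟨2266, 2, 6⟩))))) (.node 8 (.node 4 (.node 2 (.node 1 (.one ⟨8554, 4, 6⟩) (.one ⟨3507, 4, 6⟩)) (.node 1 (.one ⟨2641, 4, 5⟩) (.one ⟨5808, 1, 5⟩))) (.node 2 (.node 1 (.one ⟨7518, 4, 6⟩) (.one ⟨2471, 4, 5⟩)) (.node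 1 (.one ⟨11386, 1, 6⟩) (.one ⟨1156, 4, 6⟩)))) (.node 4 (.node 2 (.node 1 (.one ⟨9839, 2, 5⟩) (.one ⟨11547, 3, 7⟩)) (.node 1 (.one ⟨4838, 1, 7⟩) (.one ⟨2241, 4, 5⟩))) (.node 2 (.node 1 (.one ⟨5126, 4, 5⟩) (.one ⟨8312, 4, 5⟩)) (.node 1 (.one ⟨11110, 3, 6⟩) (.one ⟨7519, 0, 5⟩)))))) (.node 16 (.node 8 (.node 4 (.node 2 (.node 1 (.one ⟨12270, 3, 6⟩) (.one ⟨9548, 4, 6⟩)) (.node 1 (.one ⟨9, 3, 5⟩) (.one ⟨4827, 1, 5⟩))) (.node 2 (.node 1 (.one ⟨10869, 4, 5⟩) (.one ⟨5906, 1, 7⟩)) (.node 1 (.one ⟨14039, 2, 4⟩) (.one ⟨119, 4, 5⟩)))) (.node 4 (.node 2 (.node 1 (.one ⟨10877, 1, 5⟩) (.one ⟨259, 0, 5⟩)) (.node 1 (.one ⟨6252, 0, 6⟩) (.one ⟨1170, 4, 5⟩))) (.node 2 (.node 1 (.one ⟨1797, 2, 3⟩) (.one ⟨5922, 1, 6⟩)) (.node 1 (.one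 ⟨15976, 0, 7⟩) (.one ⟨5008, 1, 4⟩))))) (.node 8 (.node 4 (.node 2 (.node 1 (.one ⟨1583, 4, 5⟩) (.one ⟨13429, 2, 7⟩)) (.node 1 (.one ⟨9193, 3, 4⟩) (.one ⟨8215, 2, 5⟩))) (.node 2 (.node 1 (.one ⟨5684, 4, 5⟩) (.one ⟨9488, 3, 5⟩)) (.node 1 (.one ⟨14674, 1, 7⟩) (.one ⟨10337, 1, 6⟩)))) (.node 4 (.node 2 (.node 1 (.one ⟨15947, 1, 4⟩) (.one ⟨15085, 0, 5⟩)) (.node 1 (.one ⟨8898, 0, 5⟩) (.one ⟨12142, 2, 5⟩))) (.node 2 (.node 1 (.one ⟨8284, 4, 7⟩) (.one ⟨8762, 4, 3⟩)) (.node 1 (.one ⟨8357, 1, 5⟩) (.one ⟨15684, 2, 5⟩)))))))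
def par1_7_14 : Arr Par :=
  (.node 32 (.node 16 (.node 8 (.node 4 (.node 2 (.node 1 (.one ⟨2250, 1, 6⟩) (.one ⟨2903, 4, 6⟩)) (.node 1 (.one ⟨12346, 3, 6⟩) (.one ⟨14641, 1, 4⟩))) (.node 2 (.node 1 (.one ⟨16972, 0, 5⟩) (.one ⟨936, 3, 4⟩)) (.node 1 (.one ⟨2095, 0, 6⟩) (.one ⟨14566, 4, 6⟩)))) (.node 4 (.node 2 (.node 1 (.one ⟨3764, 0, 6⟩) (.one ⟨14590, 2, 6⟩)) (.node 1 (.one ⟨8724, 0, 4⟩) (.one ⟨7466, 0, 6⟩))) (.node 2 (.node 1 (.one ⟨15255, 1, 5⟩) (.one ⟨9556, 2, 5⟩)) (.node 1 (.one ⟨12120, 0, 4⟩) (.one ⟨3640, 2, 5⟩))))) (.node 8 (.node 4 (.node 2 (.node 1 (.one ⟨6906, 4, 5⟩) (.one ⟨10091, 3, 5⟩)) (.node 1 (.one ⟨6738, 4, 7⟩) (.one ⟨5365, 1, 4⟩))) (.node 2 (.node 1 (.one ⟨15223, 1, 7⟩) (.one ⟨4439, 3, 4⟩)) (.node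 1 (.one ⟨17009, 2, 5⟩) (.one ⟨1990, 3, 6⟩)))) (.node 4 (.node 2 (.node 1 (.one ⟨8930, 0, 5⟩) (.one ⟨8361, 1, 6⟩)) (.node 1 (.one ⟨11487, 2, 7⟩) (.one ⟨5927, 2, 6⟩))) (.node 2 (.node 1 (.one ⟨1874, 2, 5⟩) (.one ⟨15943, 1, 4⟩)) (.node 1 (.one ⟨1796, 4, 2⟩) (.one ⟨7143, 1, 5⟩)))))) (.node 16 (.node 8 (.node 4 (.node 2 (.node 1 (.one ⟨2365, 0, 6⟩) (.one ⟨2525, 3, 6⟩)) (.node 1 (.one ⟨5587, 4, 5⟩) (.one ⟨2254, 2, 7⟩))) (.node 2 (.node 1 (.one ⟨2201, 3, 3⟩) (.one ⟨1731, 4, 4⟩)) (.node 1 (.one ⟨17095, 2, 6⟩) (.one ⟨14519, 4, 5⟩)))) (.node 4 (.node 2 (.node 1 (.one ⟨3812, 0, 5⟩) (.one ⟨13055, 1, 3⟩)) (.node 1 (.one ⟨8094, 3, 3⟩) (.one ⟨10507, 4, 5⟩))) (.node 2 (.node 1 (.one ⟨8293, 2, 6⟩) (.one ⟨16965, 0, 6⟩)) (.node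 1 (.one ⟨16400, 1, 5⟩) (.one ⟨14468, 1, 5⟩))))) (.node 8 (.node 4 (.node 2 (.node 1 (.one ⟨4989, 2, 4⟩) (.one ⟨15523, 1, 4⟩)) (.node 1 (.one ⟨2362, 0, 6⟩) (.one ⟨8885, 4, 6⟩))) (.node 2 (.node 1 (.one ⟨12136, 1, 6⟩) (.one ⟨11210, 4, 5⟩)) (.node 1 (.one ⟨7977, 4, 6⟩) (.one ⟨16365, 3, 6⟩)))) (.node 4 (.node 2 (.node 1 (.one ⟨12859, 0, 7⟩) (.one ⟨3948, 3, 4⟩)) (.node 1 (.one ⟨13889, 3, 5⟩) (.one ⟨8348, 3, 5⟩))) (.node 2 (.node 1 (.one ⟨4136, 1, 4⟩) (.one ⟨12061, 3, 6⟩)) (.node 1 (.one ⟨6962, 2, 5⟩) (.one ⟨13769, 0, 4⟩)))))))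
def par1_7_15 : Arr Par :=
  (.node 32 (.node 16 (.node 8 (.node 4 (.node 2 (.node 1 (.one ⟨11758, 3, 6⟩) (.one ⟨553, 3, 5⟩)) (.node 1 (.one ⟨12852, 0, 5⟩) (.one ⟨4422, 2, 6⟩))) (.node 2 (.node 1 (.one ⟨6958, 2, 4⟩) (.one ⟨6336, 4, 5⟩)) (.node 1 (.one ⟨10097, 1, 6⟩) (.one ⟨14762, 4, 6⟩)))) (.node 4 (.node 2 (.node 1 (.one ⟨14884, 0, 5⟩) (.one ⟨4819, 0, 6⟩)) (.node 1 (.one ⟨3274, 3, 4⟩) (.one ⟨10509, 4, 6⟩))) (.node 2 (.node 1 (.one ⟨15678, 2, 6⟩) (.one ⟨16678, 4, 5⟩)) (.node 1 (.one ⟨10158, 1, 4⟩) (.one ⟨15513, 1, 7⟩))))) (.node 8 (.node 4 (.node 2 (.node 1 (.one ⟨10424, 0, 5⟩) (.one ⟨11795, 3, 6⟩)) (.node 1 (.one ⟨5987, 2, 5⟩) (.one ⟨3022, 1, 6⟩))) (.node 2 (.node 1 (.one ⟨7657, 2, 6⟩) (.one ⟨3099, 2, 7⟩))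 (.node 1 (.one ⟨8863, 2, 3⟩) (.one ⟨15482, 1, 6⟩)))) (.node 4 (.node 2 (.node 1 (.one ⟨13288, 1, 5⟩) (.one ⟨8111, 0, 6⟩)) (.node 1 (.one ⟨13827, 0, 6⟩) (.one ⟨1219, 3, 6⟩))) (.node 2 (.node 1 (.one ⟨10963, 2, 6⟩) (.one ⟨15499, 3, 5⟩)) (.node 1 (.one ⟨5638, 3, 6⟩) (.one ⟨14480, 1, 5⟩)))))) (.node 16 (.node 8 (.node 4 (.node 2 (.node 1 (.one ⟨5194, 1, 6⟩) (.one ⟨16058, 1, 6⟩)) (.node 1 (.one ⟨3071, 1, 4⟩) (.one ⟨8623, 2, 5⟩))) (.node 2 (.node 1 (.one ⟨5766, 0, 5⟩) (.one ⟨5117, 4, 6⟩)) (.node 1 (.one ⟨1993, 1, 6⟩) (.one ⟨14449, 1, 5⟩)))) (.node 4 (.node 2 (.node 1 (.one ⟨1760, 4, 6⟩) (.one ⟨4808, 0, 3⟩)) (.node 1 (.one ⟨13326, 1, 6⟩) (.one ⟨8932, 0, 6⟩))) (.node 2 (.node 1 (.one ⟨8909, 4, 5⟩) (.one ⟨619, 4, 5⟩))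 (.node 1 (.one ⟨5940, 3, 6⟩) (.one ⟨14522, 1, 5⟩))))) (.node 8 (.node 4 (.node 2 (.node 1 (.one ⟨13300, 4, 6⟩) (.one ⟨13032, 1, 4⟩)) (.node 1 (.one ⟨12558, 2, 5⟩) (.one ⟨5826, 2, 6⟩))) (.node 2 (.node 1 (.one ⟨8863, 3, 3⟩) (.one ⟨16322, 2, 5⟩)) (.node 1 (.one ⟨1106, 4, 6⟩) (.one ⟨8473, 0, 5⟩)))) (.node 4 (.node 2 (.node 1 (.one ⟨13017, 1, 5⟩) (.one ⟨16459, 2, 6⟩)) (.node 1 (.one ⟨16820, 3, 5⟩) (.one ⟨6997, 2, 4⟩))) (.node 2 (.node 1 (.one ⟨268, 1, 5⟩) (.one ⟨17135, 2, 6⟩)) (.node 1 (.one ⟨9062, 0, 5⟩) (.one ⟨15022, 3, 5⟩)))))))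
def par1_7 : Arr Par :=
  (.node 512 (.node 256 (.node 128 (.node 64 par1_7_0 par1_7_1) (.node 64 par1_7_2 par1_7_3)) (.node 128 (.node 64 par1_7_4 par1_7_5) (.node 64 par1_7_6 par1_7_7))) (.node 256 (.node 128 (.node 64 par1_7_8 par1_7_9) (.node 64 par1_7_10 par1_7_11)) (.node 128 (.node 64 par1_7_12 par1_7_13) (.node 64 par1_7_14 par1_7_15))))
def par1_8_0 : Arr Par :=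
  (.node 32 (.node 16 (.node 8 (.node 4 (.node 2 (.node 1 (.one ⟨6871, 0, 6⟩) (.one ⟨12993, 1, 7⟩)) (.node 1 (.one ⟨8445, 4, 6⟩) (.one ⟨7398, 4, 6⟩))) (.node 2 (.node 1 (.one ⟨5742, 3, 5⟩) (.one ⟨6455, 1, 5⟩)) (.node 1 (.one ⟨16346, 3, 5⟩) (.one ⟨542, 1, 3⟩)))) (.node 4 (.node 2 (.node 1 (.one ⟨14566, 1, 6⟩) (.one ⟨14810, 3, 5⟩)) (.node 1 (.one ⟨6874, 0, 5⟩) (.one ⟨190, 3, 5⟩))) (.node 2 (.node 1 (.one ⟨16312, 3, 3⟩) (.one ⟨3936, 4, 6⟩)) (.node 1 (.one ⟨15209, 3, 5⟩) (.one ⟨12128, 3, 1⟩))))) (.node 8 (.node 4 (.node 2 (.node 1 (.one ⟨11806, 0, 6⟩) (.one ⟨9357, 2, 6⟩)) (.node 1 (.one ⟨6872, 0, 5⟩) (.one ⟨9730, 4, 6⟩))) (.node 2 (.node 1 (.one ⟨4979, 3, 6⟩) (.one ⟨4927, 1, 5⟩)) (.node 1 (.one ⟨2330, 2, 6⟩) (.one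 ⟨11416, 4, 4⟩)))) (.node 4 (.node 2 (.node 1 (.one ⟨11, 1, 6⟩) (.one ⟨3827, 3, 7⟩)) (.node 1 (.one ⟨12301, 2, 5⟩) (.one ⟨240, 4, 5⟩))) (.node 2 (.node 1 (.one ⟨4003, 3, 6⟩) (.one ⟨13597, 3, 4⟩)) (.node 1 (.one ⟨11130, 3, 6⟩) (.one ⟨4223, 1, 3⟩)))))) (.node 16 (.node 8 (.node 4 (.node 2 (.node 1 (.one ⟨15271, 2, 5⟩) (.one ⟨8408, 4, 3⟩)) (.node 1 (.one ⟨3140, 1, 6⟩) (.one ⟨2737, 2, 5⟩))) (.node 2 (.node 1 (.one ⟨178, 1, 4⟩) (.one ⟨13580, 3, 6⟩)) (.node 1 (.one ⟨14235, 3, 4⟩) (.one ⟨3777, 4, 6⟩)))) (.node 4 (.node 2 (.node 1 (.one ⟨11792, 0, 4⟩) (.one ⟨16546, 0, 5⟩)) (.node 1 (.one ⟨1476, 3, 6⟩) (.one ⟨4954, 1, 4⟩))) (.node 2 (.node 1 (.one ⟨12228, 1, 2⟩) (.one ⟨6866, 0, 7⟩)) (.node 1 (.one ⟨6959, 3, 6⟩) (.one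 ⟨1791, 4, 5⟩))))) (.node 8 (.node 4 (.node 2 (.node 1 (.one ⟨10409, 2, 5⟩) (.one ⟨4950, 0, 3⟩)) (.node 1 (.one ⟨5128, 0, 6⟩) (.one ⟨14497, 3, 4⟩))) (.node 2 (.node 1 (.one ⟨1407, 2, 4⟩) (.one ⟨5255, 3, 5⟩)) (.node 1 (.one ⟨13375, 3, 6⟩) (.one ⟨1750, 4, 6⟩)))) (.node 4 (.node 2 (.node 1 (.one ⟨16792, 1, 4⟩) (.one ⟨11497, 3, 6⟩)) (.node 1 (.one ⟨8974, 3, 6⟩) (.one ⟨11161, 1, 7⟩))) (.node 2 (.node 1 (.one ⟨5474, 2, 7⟩) (.one ⟨1205, 4, 6⟩)) (.node 1 (.one ⟨4135, 1, 6⟩) (.one ⟨6058, 3, 6⟩)))))))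
def par1_8_1 : Arr Par :=
  (.node 32 (.node 16 (.node 8 (.node 4 (.node 2 (.node 1 (.one ⟨3190, 4, 6⟩) (.one ⟨14093, 2, 5⟩)) (.node 1 (.one ⟨12944, 2, 6⟩) (.one ⟨13001, 0, 6⟩))) (.node 2 (.node 1 (.one ⟨12523, 3, 7⟩) (.one ⟨12056, 3, 4⟩)) (.node 1 (.one ⟨7774, 2, 6⟩) (.one ⟨17, 2, 6⟩)))) (.node 4 (.node 2 (.node 1 (.one ⟨10971, 2, 5⟩) (.one ⟨10972, 2, 5⟩)) (.node 1 (.one ⟨6888, 0, 5⟩) (.one ⟨4030, 1, 3⟩))) (.node 2 (.node 1 (.one ⟨889, 2, 5⟩) (.one ⟨8728, 1, 5⟩)) (.node 1 (.one ⟨6694, 4, 6⟩) (.one ⟨16427, 0, 4⟩))))) (.node 8 (.node 4 (.node 2 (.node 1 (.one ⟨6116, 2, 5⟩) (.one ⟨15279, 0, 5⟩)) (.node 1 (.one ⟨10598, 0, 7⟩) (.one ⟨6891, 0, 5⟩))) (.node 2 (.node 1 (.one ⟨7143, 4, 5⟩) (.one ⟨9394, 4, 6⟩)) (.node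 1 (.one ⟨8505, 3, 4⟩) (.one ⟨1699, 2, 5⟩)))) (.node 4 (.node 2 (.node 1 (.one ⟨6018, 3, 3⟩) (.one ⟨14416, 1, 5⟩)) (.node 1 (.one ⟨3249, 3, 6⟩) (.one ⟨8740, 1, 4⟩))) (.node 2 (.node 1 (.one ⟨2012, 1, 6⟩) (.one ⟨12049, 3, 3⟩)) (.node 1 (.one ⟨4915, 3, 5⟩) (.one ⟨16944, 4, 6⟩)))))) (.node 16 (.node 8 (.node 4 (.node 2 (.node 1 (.one ⟨8056, 1, 5⟩) (.one ⟨3533, 2, 5⟩)) (.node 1 (.one ⟨942, 0, 6⟩) (.one ⟨15453, 1, 7⟩))) (.node 2 (.node 1 (.one ⟨9924, 2, 5⟩) (.one ⟨12986, 0, 5⟩)) (.node 1 (.one ⟨6645, 4, 5⟩) (.one ⟨12111, 4, 7⟩)))) (.node 4 (.node 2 (.node 1 (.one ⟨5333, 3, 6⟩) (.one ⟨5462, 3, 6⟩)) (.node 1 (.one ⟨10578, 0, 6⟩) (.one ⟨10111, 3, 7⟩))) (.node 2 (.node 1 (.one ⟨11101, 3, 6⟩) (.one ⟨3799, 4, 6⟩)) (.node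 1 (.one ⟨15925, 2, 5⟩) (.one ⟨8063, 0, 6⟩))))) (.node 8 (.node 4 (.node 2 (.node 1 (.one ⟨6162, 2, 4⟩) (.one ⟨5726, 2, 4⟩)) (.node 1 (.one ⟨12258, 1, 5⟩) (.one ⟨5536, 0, 5⟩))) (.node 2 (.node 1 (.one ⟨9757, 2, 5⟩) (.one ⟨9910, 2, 5⟩)) (.node 1 (.one ⟨8812, 3, 4⟩) (.one ⟨12570, 0, 5⟩)))) (.node 4 (.node 2 (.node 1 (.one ⟨12880, 4, 4⟩) (.one ⟨16296, 3, 6⟩)) (.node 1 (.one ⟨8203, 3, 6⟩) (.one ⟨2427, 0, 5⟩))) (.node 2 (.node 1 (.one ⟨10335, 2, 6⟩) (.one ⟨16148, 0, 5⟩)) (.node 1 (.one ⟨9410, 3, 5⟩) (.one ⟨6802, 0, 5⟩)))))))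
def par1_8_2 : Arr Par :=
  (.node 32 (.node 16 (.node 8 (.node 4 (.node 2 (.node 1 (.one ⟨11297, 1, 6⟩) (.one ⟨3298, 0, 6⟩)) (.node 1 (.one ⟨9150, 2, 4⟩) (.one ⟨4980, 3, 7⟩))) (.node 2 (.node 1 (.one ⟨4476, 0, 7⟩) (.one ⟨11360, 3, 5⟩)) (.node 1 (.one ⟨8086, 0, 6⟩) (.one ⟨7965, 2, 4⟩)))) (.node 4 (.node 2 (.node 1 (.one ⟨7019, 3, 6⟩) (.one ⟨8762, 1, 3⟩)) (.node 1 (.one ⟨6850, 1, 6⟩) (.one ⟨7686, 3, 5⟩))) (.node 2 (.node 1 (.one ⟨11269, 1, 6⟩) (.one ⟨15743, 1, 4⟩)) (.node 1 (.one ⟨12545, 0, 3⟩) (.one ⟨11727, 3, 5⟩))))) (.node 8 (.node 4 (.node 2 (.node 1 (.one ⟨4956, 3, 5⟩) (.one ⟨16909, 2, 6⟩)) (.node 1 (.one ⟨6643, 2, 6⟩) (.one ⟨11429, 3, 6⟩))) (.node 2 (.node 1 (.one ⟨15503, 4, 6⟩) (.one ⟨16722, 3, 5⟩)) (.node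 1 (.one ⟨13810, 4, 6⟩) (.one ⟨2660, 2, 6⟩)))) (.node 4 (.node 2 (.node 1 (.one ⟨8061, 0, 4⟩) (.one ⟨3683, 3, 5⟩)) (.node 1 (.one ⟨9423, 4, 5⟩) (.one ⟨7408, 4, 5⟩))) (.node 2 (.node 1 (.one ⟨16380, 2, 4⟩) (.one ⟨4994, 1, 6⟩)) (.node 1 (.one ⟨13795, 0, 6⟩) (.one ⟨11613, 3, 6⟩)))))) (.node 16 (.node 8 (.node 4 (.node 2 (.node 1 (.one ⟨10880, 2, 5⟩) (.one ⟨3388, 2, 7⟩)) (.node 1 (.one ⟨1888, 3, 5⟩) (.one ⟨13457, 2, 5⟩))) (.node 2 (.node 1 (.one ⟨12017, 4, 4⟩) (.one ⟨12779, 4, 4⟩)) (.node 1 (.one ⟨10539, 0, 6⟩) (.one ⟨3754, 4, 7⟩)))) (.node 4 (.node 2 (.node 1 (.one ⟨8744, 0, 5⟩) (.one ⟨110, 3, 5⟩)) (.node 1 (.one ⟨8132, 2, 5⟩) (.one ⟨6432, 2, 6⟩))) (.node 2 (.node 1 (.one ⟨1891, 4, 5⟩) (.one ⟨8106, 0, 4⟩)) (.node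 1 (.one ⟨1266, 3, 7⟩) (.one ⟨15031, 4, 6⟩))))) (.node 8 (.node 4 (.node 2 (.node 1 (.one ⟨1699, 4, 5⟩) (.one ⟨12799, 2, 5⟩)) (.node 1 (.one ⟨1581, 2, 5⟩) (.one ⟨11368, 0, 3⟩))) (.node 2 (.node 1 (.one ⟨8894, 3, 6⟩) (.one ⟨3571, 1, 6⟩)) (.node 1 (.one ⟨10765, 4, 7⟩) (.one ⟨5262, 1, 6⟩)))) (.node 4 (.node 2 (.node 1 (.one ⟨14106, 2, 6⟩) (.one ⟨11386, 0, 6⟩)) (.node 1 (.one ⟨5024, 2, 5⟩) (.one ⟨16806, 3, 6⟩))) (.node 2 (.node 1 (.one ⟨5837, 1, 6⟩) (.one ⟨5808, 0, 5⟩)) (.node 1 (.one ⟨5708, 2, 6⟩) (.one ⟨15880, 0, 7⟩)))))))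
def par1_8_3 : Arr Par :=
  (.node 32 (.node 16 (.node 8 (.node 4 (.node 2 (.node 1 (.one ⟨4827, 0, 5⟩) (.one ⟨8611, 2, 5⟩)) (.node 1 (.one ⟨5906, 0, 7⟩) (.one ⟨16760, 3, 6⟩))) (.node 2 (.node 1 (.one ⟨13220, 4, 6⟩) (.one ⟨5318, 3, 7⟩)) (.node 1 (.one ⟨14045, 2, 4⟩) (.one ⟨120, 2, 6⟩)))) (.node 4 (.node 2 (.node 1 (.one ⟨13376, 2, 5⟩) (.one ⟨4564, 2, 5⟩)) (.node 1 (.one ⟨8904, 1, 6⟩) (.one ⟨1215, 3, 7⟩))) (.node 2 (.node 1 (.one ⟨14746, 3, 4⟩) (.one ⟨8215, 0, 5⟩)) (.node 1 (.one ⟨12151, 3, 6⟩) (.one ⟨14388, 3, 4⟩))))) (.node 8 (.node 4 (.node 2 (.node 1 (.one ⟨12052, 2, 7⟩) (.one ⟨547, 4, 6⟩)) (.node 1 (.one ⟨3287, 0, 3⟩) (.one ⟨9404, 4, 4⟩))) (.node 2 (.node 1 (.one ⟨16859, 2, 6⟩) (.one ⟨7699, 2, 6⟩)) (.node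 1 (.one ⟨8223, 0, 4⟩) (.one ⟨4860, 2, 5⟩)))) (.node 4 (.node 2 (.node 1 (.one ⟨5086, 4, 2⟩) (.one ⟨15534, 1, 6⟩)) (.node 1 (.one ⟨5922, 0, 6⟩) (.one ⟨8631, 3, 6⟩))) (.node 2 (.node 1 (.one ⟨5062, 4, 5⟩) (.one ⟨8186, 0, 6⟩)) (.node 1 (.one ⟨16000, 3, 6⟩) (.one ⟨9323, 2, 6⟩)))))) (.node 16 (.node 8 (.node 4 (.node 2 (.node 1 (.one ⟨1492, 3, 6⟩) (.one ⟨8580, 2, 7⟩)) (.node 1 (.one ⟨11693, 1, 7⟩) (.one ⟨10554, 3, 5⟩))) (.node 2 (.node 1 (.one ⟨903, 4, 6⟩) (.one ⟨3937, 4, 6⟩)) (.node 1 (.one ⟨5983, 4, 6⟩) (.one ⟨7540, 3, 6⟩)))) (.node 4 (.node 2 (.node 1 (.one ⟨8619, 4, 6⟩) (.one ⟨11108, 3, 6⟩)) (.node 1 (.one ⟨7898, 4, 6⟩) (.one ⟨16660, 4, 5⟩))) (.node 2 (.node 1 (.one ⟨16375, 3, 5⟩) (.one ⟨15837, 1, 7⟩)) (.node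 1 (.one ⟨14103, 4, 5⟩) (.one ⟨1509, 3, 5⟩))))) (.node 8 (.node 4 (.node 2 (.node 1 (.one ⟨17133, 4, 6⟩) (.one ⟨1260, 4, 5⟩)) (.node 1 (.one ⟨7077, 4, 6⟩) (.one ⟨797, 2, 4⟩))) (.node 2 (.node 1 (.one ⟨796, 2, 6⟩) (.one ⟨7135, 0, 6⟩)) (.node 1 (.one ⟨3852, 4, 7⟩) (.one ⟨10851, 4, 6⟩)))) (.node 4 (.node 2 (.node 1 (.one ⟨3362, 3, 6⟩) (.one ⟨6556, 0, 6⟩)) (.node 1 (.one ⟨14740, 2, 5⟩) (.one ⟨7483, 3, 5⟩))) (.node 2 (.node 1 (.one ⟨9116, 2, 5⟩) (.one ⟨7119, 1, 5⟩)) (.node 1 (.one ⟨7596, 1, 5⟩) (.one ⟨16485, 0, 6⟩)))))))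
def par1_8_4 : Arr Par :=
  (.node 32 (.node 16 (.node 8 (.node 4 (.node 2 (.node 1 (.one ⟨14614, 0, 5⟩) (.one ⟨7575, 3, 6⟩)) (.node 1 (.one ⟨4185, 4, 5⟩) (.one ⟨7453, 2, 5⟩))) (.node 2 (.node 1 (.one ⟨4188, 4, 5⟩) (.one ⟨7797, 3, 5⟩)) (.node 1 (.one ⟨7450, 2, 6⟩) (.one ⟨9828, 4, 6⟩)))) (.node 4 (.node 2 (.node 1 (.one ⟨3764, 3, 6⟩) (.one ⟨8827, 4, 7⟩)) (.node 1 (.one ⟨3910, 0, 6⟩) (.one ⟨7956, 1, 5⟩))) (.node 2 (.node 1 (.one ⟨10491, 2, 7⟩) (.one ⟨638, 1, 6⟩)) (.node 1 (.one ⟨9087, 2, 6⟩) (.one ⟨12500, 4, 6⟩))))) (.node 8 (.node 4 (.node 2 (.node 1 (.one ⟨13037, 3, 4⟩) (.one ⟨5086, 1, 2⟩)) (.node 1 (.one ⟨7989, 2, 7⟩) (.one ⟨11521, 3, 5⟩))) (.node 2 (.node 1 (.one ⟨8079, 2, 6⟩) (.one ⟨3328, 4, 7⟩)) (.node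 1 (.one ⟨504, 1, 4⟩) (.one ⟨14458, 3, 5⟩)))) (.node 4 (.node 2 (.node 1 (.one ⟨927, 4, 5⟩) (.one ⟨7953, 1, 4⟩)) (.node 1 (.one ⟨15432, 4, 5⟩) (.one ⟨7650, 1, 6⟩))) (.node 2 (.node 1 (.one ⟨10872, 2, 5⟩) (.one ⟨774, 4, 6⟩)) (.node 1 (.one ⟨7720, 2, 6⟩) (.one ⟨12000, 0, 5⟩)))))) (.node 16 (.node 8 (.node 4 (.node 2 (.node 1 (.one ⟨3190, 2, 6⟩) (.one ⟨1829, 2, 6⟩)) (.node 1 (.one ⟨736, 1, 6⟩) (.one ⟨10924, 3, 5⟩))) (.node 2 (.node 1 (.one ⟨12083, 4, 6⟩) (.one ⟨7959, 1, 6⟩)) (.node 1 (.one ⟨11718, 4, 5⟩) (.one ⟨16380, 3, 4⟩)))) (.node 4 (.node 2 (.node 1 (.one ⟨15206, 0, 5⟩) (.one ⟨10276, 4, 4⟩)) (.node 1 (.one ⟨7559, 4, 6⟩) (.one ⟨15410, 4, 5⟩))) (.node 2 (.node 1 (.one ⟨12089, 3, 6⟩) (.one ⟨14670, 4, 5⟩)) (.node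 1 (.one ⟨10043, 3, 6⟩) (.one ⟨5926, 3, 6⟩))))) (.node 8 (.node 4 (.node 2 (.node 1 (.one ⟨106, 3, 6⟩) (.one ⟨4226, 2, 3⟩)) (.node 1 (.one ⟨8651, 4, 4⟩) (.one ⟨7987, 1, 3⟩))) (.node 2 (.node 1 (.one ⟨11379, 3, 6⟩) (.one ⟨2683, 3, 7⟩)) (.node 1 (.one ⟨1072, 4, 3⟩) (.one ⟨15496, 0, 2⟩)))) (.node 4 (.node 2 (.node 1 (.one ⟨4753, 2, 6⟩) (.one ⟨7735, 1, 3⟩)) (.node 1 (.one ⟨7958, 2, 5⟩) (.one ⟨6829, 3, 6⟩))) (.node 2 (.node 1 (.one ⟨6876, 3, 4⟩) (.one ⟨6906, 2, 5⟩)) (.node 1 (.one ⟨6133, 4, 6⟩) (.one ⟨7845, 1, 5⟩)))))))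
def par1_8_5 : Arr Par :=
  (.node 32 (.node 16 (.node 8 (.node 4 (.node 2 (.node 1 (.one ⟨6360, 2, 5⟩) (.one ⟨3816, 0, 3⟩)) (.node 1 (.one ⟨3857, 1, 5⟩) (.one ⟨953, 4, 6⟩))) (.node 2 (.node 1 (.one ⟨8880, 4, 6⟩) (.one ⟨7629, 4, 6⟩)) (.node 1 (.one ⟨8010, 1, 3⟩) (.one ⟨12592, 2, 6⟩)))) (.node 4 (.node 2 (.node 1 (.one ⟨13448, 3, 6⟩) (.one ⟨7854, 0, 4⟩)) (.node 1 (.one ⟨7465, 0, 2⟩) (.one ⟨6801, 0, 4⟩))) (.node 2 (.node 1 (.one ⟨11334, 2, 5⟩) (.one ⟨13449, 3, 5⟩)) (.node 1 (.one ⟨8765, 2, 5⟩) (.one ⟨3992, 2, 6⟩))))) (.node 8 (.node 4 (.node 2 (.node 1 (.one ⟨14798, 1, 6⟩) (.one ⟨1722, 4, 6⟩)) (.node 1 (.one ⟨14022, 2, 4⟩) (.one ⟨15701, 3, 5⟩))) (.node 2 (.node 1 (.one ⟨3694, 2, 6⟩) (.one ⟨11073, 1, 6⟩)) (.node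 1 (.one ⟨1177, 2, 5⟩) (.one ⟨11657, 1, 5⟩)))) (.node 4 (.node 2 (.node 1 (.one ⟨3864, 1, 5⟩) (.one ⟨3690, 2, 5⟩)) (.node 1 (.one ⟨11815, 3, 5⟩) (.one ⟨14780, 1, 6⟩))) (.node 2 (.node 1 (.one ⟨13116, 2, 5⟩) (.one ⟨6766, 0, 6⟩)) (.node 1 (.one ⟨16135, 1, 5⟩) (.one ⟨7744, 1, 6⟩)))))) (.node 16 (.node 8 (.node 4 (.node 2 (.node 1 (.one ⟨4591, 2, 6⟩) (.one ⟨10811, 1, 5⟩)) (.node 1 (.one ⟨12505, 0, 6⟩) (.one ⟨7812, 0, 5⟩))) (.node 2 (.node 1 (.one ⟨14176, 4, 4⟩) (.one ⟨16313, 3, 5⟩)) (.node 1 (.one ⟨11452, 0, 4⟩) (.one ⟨669, 2, 5⟩)))) (.node 4 (.node 2 (.node 1 (.one ⟨6786, 0, 4⟩) (.one ⟨11103, 3, 6⟩)) (.node 1 (.one ⟨15900, 0, 5⟩) (.one ⟨11851, 3, 5⟩))) (.node 2 (.node 1 (.one ⟨11114, 0, 6⟩) (.one ⟨4335, 4, 5⟩))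 (.node 1 (.one ⟨11152, 1, 7⟩) (.one ⟨4264, 3, 6⟩))))) (.node 8 (.node 4 (.node 2 (.node 1 (.one ⟨12228, 3, 2⟩) (.one ⟨6994, 1, 5⟩)) (.node 1 (.one ⟨1676, 3, 6⟩) (.one ⟨10554, 2, 5⟩))) (.node 2 (.node 1 (.one ⟨12413, 3, 6⟩) (.one ⟨3797, 1, 4⟩)) (.node 1 (.one ⟨14801, 1, 6⟩) (.one ⟨12228, 4, 2⟩)))) (.node 4 (.node 2 (.node 1 (.one ⟨4223, 4, 3⟩) (.one ⟨4855, 3, 3⟩)) (.node 1 (.one ⟨12271, 4, 6⟩) (.one ⟨6919, 3, 5⟩))) (.node 2 (.node 1 (.one ⟨4179, 4, 6⟩) (.one ⟨11340, 2, 4⟩)) (.node 1 (.one ⟨8187, 0, 5⟩) (.one ⟨16413, 4, 7⟩)))))))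
def par1_8_6 : Arr Par :=
  (.node 32 (.node 16 (.node 8 (.node 4 (.node 2 (.node 1 (.one ⟨3723, 4, 4⟩) (.one ⟨6399, 2, 6⟩)) (.node 1 (.one ⟨2984, 4, 6⟩) (.one ⟨9663, 3, 5⟩))) (.node 2 (.node 1 (.one ⟨7013, 1, 6⟩) (.one ⟨4596, 2, 7⟩)) (.node 1 (.one ⟨2110, 3, 6⟩) (.one ⟨11134, 1, 5⟩)))) (.node 4 (.node 2 (.node 1 (.one ⟨13380, 3, 7⟩) (.one ⟨7418, 0, 5⟩)) (.node 1 (.one ⟨17171, 2, 7⟩) (.one ⟨8898, 2, 5⟩))) (.node 2 (.node 1 (.one ⟨7800, 1, 6⟩) (.one ⟨10257, 2, 6⟩)) (.node 1 (.one ⟨12404, 3, 6⟩) (.one ⟨4293, 3, 6⟩))))) (.node 8 (.node 4 (.node 2 (.node 1 (.one ⟨610, 4, 6⟩) (.one ⟨3786, 0, 6⟩)) (.node 1 (.one ⟨11568, 1, 6⟩) (.one ⟨16055, 1, 6⟩))) (.node 2 (.node 1 (.one ⟨15890, 0, 6⟩) (.one ⟨15611, 3, 6⟩)) (.node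 1 (.one ⟨16765, 2, 5⟩) (.one ⟨8959, 2, 7⟩)))) (.node 4 (.node 2 (.node 1 (.one ⟨11230, 4, 4⟩) (.one ⟨10867, 1, 5⟩)) (.node 1 (.one ⟨11876, 0, 4⟩) (.one ⟨11143, 0, 6⟩))) (.node 2 (.node 1 (.one ⟨15420, 3, 7⟩) (.one ⟨16164, 1, 5⟩)) (.node 1 (.one ⟨13686, 4, 6⟩) (.one ⟨11591, 1, 4⟩)))))) (.node 16 (.node 8 (.node 4 (.node 2 (.node 1 (.one ⟨11156, 0, 4⟩) (.one ⟨7762, 1, 6⟩)) (.node 1 (.one ⟨3403, 0, 5⟩) (.one ⟨11876, 2, 4⟩))) (.node 2 (.node 1 (.one ⟨15067, 1, 6⟩) (.one ⟨8144, 0, 6⟩)) (.node 1 (.one ⟨5816, 2, 5⟩) (.one ⟨11893, 0, 6⟩)))) (.node 4 (.node 2 (.node 1 (.one ⟨6791, 0, 5⟩) (.one ⟨15402, 3, 5⟩)) (.node 1 (.one ⟨6393, 2, 3⟩) (.one ⟨16503, 4, 5⟩))) (.node 2 (.node 1 (.one ⟨2643, 2, 6⟩) (.one ⟨9506, 3, 4⟩))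 (.node 1 (.one ⟨6482, 4, 4⟩) (.one ⟨14641, 0, 4⟩))))) (.node 8 (.node 4 (.node 2 (.node 1 (.one ⟨2924, 2, 6⟩) (.one ⟨12448, 2, 6⟩)) (.node 1 (.one ⟨2131, 4, 4⟩) (.one ⟨351, 3, 5⟩))) (.node 2 (.node 1 (.one ⟨3292, 1, 7⟩) (.one ⟨8121, 3, 5⟩)) (.node 1 (.one ⟨7563, 4, 5⟩) (.one ⟨3558, 1, 5⟩)))) (.node 4 (.node 2 (.node 1 (.one ⟨13055, 0, 3⟩) (.one ⟨3615, 2, 6⟩)) (.node 1 (.one ⟨9953, 3, 5⟩) (.one ⟨10485, 2, 4⟩))) (.node 2 (.node 1 (.one ⟨5880, 1, 5⟩) (.one ⟨7104, 4, 3⟩)) (.node 1 (.one ⟨2260, 0, 5⟩) (.one ⟨15943, 0, 4⟩)))))))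
def par1_8_7 : Arr Par :=
  (.node 32 (.node 16 (.node 8 (.node 4 (.node 2 (.node 1 (.one ⟨3528, 2, 5⟩) (.one ⟨3549, 1, 5⟩)) (.node 1 (.one ⟨15643, 2, 6⟩) (.one ⟨14889, 2, 6⟩))) (.node 2 (.node 1 (.one ⟨7748, 1, 4⟩) (.one ⟨4277, 2, 6⟩)) (.node 1 (.one ⟨190, 4, 5⟩) (.one ⟨9361, 3, 6⟩)))) (.node 4 (.node 2 (.node 1 (.one ⟨5008, 0, 4⟩) (.one ⟨14818, 4, 6⟩)) (.node 1 (.one ⟨10341, 3, 5⟩) (.one ⟨12049, 4, 3⟩))) (.node 2 (.node 1 (.one ⟨9928, 2, 6⟩) (.one ⟨16474, 3, 5⟩)) (.node 1 (.one ⟨15808, 4, 6⟩) (.one ⟨13080, 0, 5⟩))))) (.node 8 (.node 4 (.node 2 (.node 1 (.one ⟨15935, 0, 5⟩) (.one ⟨5365, 0, 4⟩)) (.node 1 (.one ⟨3341, 1, 7⟩) (.one ⟨8364, 4, 6⟩))) (.node 2 (.node 1 (.one ⟨4294, 2, 6⟩) (.one ⟨11585, 1, 6⟩)) (.node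 1 (.one ⟨8958, 1, 6⟩) (.one ⟨15947, 0, 4⟩)))) (.node 4 (.node 2 (.node 1 (.one ⟨17046, 4, 4⟩) (.one ⟨9674, 2, 6⟩)) (.node 1 (.one ⟨14187, 2, 6⟩) (.one ⟨10775, 2, 6⟩))) (.node 2 (.node 1 (.one ⟨11613, 1, 6⟩) (.one ⟨13950, 2, 5⟩)) (.node 1 (.one ⟨10337, 0, 6⟩) (.one ⟨779, 2, 5⟩)))))) (.node 16 (.node 8 (.node 4 (.node 2 (.node 1 (.one ⟨15041, 3, 6⟩) (.one ⟨5398, 0, 6⟩)) (.node 1 (.one ⟨15447, 1, 6⟩) (.one ⟨15255, 0, 5⟩))) (.node 2 (.node 1 (.one ⟨638, 4, 6⟩) (.one ⟨14665, 0, 5⟩)) (.node 1 (.one ⟨13264, 1, 7⟩) (.one ⟨12057, 2, 7⟩)))) (.node 4 (.node 2 (.node 1 (.one ⟨10497, 4, 7⟩) (.one ⟨13900, 1, 6⟩)) (.node 1 (.one ⟨9866, 1, 6⟩) (.one ⟨12121, 4, 4⟩))) (.node 2 (.node 1 (.one ⟨12050, 2, 6⟩) (.one ⟨4030, 4, 3⟩))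 (.node 1 (.one ⟨2229, 3, 5⟩) (.one ⟨12347, 2, 6⟩))))) (.node 8 (.node 4 (.node 2 (.node 1 (.one ⟨15676, 3, 6⟩) (.one ⟨889, 3, 5⟩)) (.node 1 (.one ⟨4702, 4, 6⟩) (.one ⟨16382, 3, 3⟩))) (.node 2 (.node 1 (.one ⟨5830, 0, 6⟩) (.one ⟨6051, 4, 5⟩)) (.node 1 (.one ⟨8717, 4, 6⟩) (.one ⟨15737, 3, 5⟩)))) (.node 4 (.node 2 (.node 1 (.one ⟨12367, 3, 6⟩) (.one ⟨7126, 2, 5⟩)) (.node 1 (.one ⟨12465, 2, 6⟩) (.one ⟨11156, 3, 4⟩))) (.node 2 (.node 1 (.one ⟨15454, 3, 6⟩) (.one ⟨1899, 1, 5⟩)) (.node 1 (.one ⟨5158, 1, 5⟩) (.one ⟨15562, 1, 6⟩)))))))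
def par1_8_8 : Arr Par :=
  (.node 32 (.node 16 (.node 8 (.node 4 (.node 2 (.node 1 (.one ⟨9662, 2, 5⟩) (.one ⟨14281, 4, 3⟩)) (.node 1 (.one ⟨2183, 2, 4⟩) (.one ⟨15031, 0, 6⟩))) (.node 2 (.node 1 (.one ⟨10117, 2, 5⟩) (.one ⟨8685, 3, 4⟩)) (.node 1 (.one ⟨15201, 1, 4⟩) (.one ⟨11639, 4, 4⟩)))) (.node 4 (.node 2 (.node 1 (.one ⟨13233, 0, 4⟩) (.one ⟨7797, 0, 5⟩)) (.node 1 (.one ⟨7091, 4, 6⟩) (.one ⟨8470, 2, 5⟩))) (.node 2 (.node 1 (.one ⟨15253, 1, 6⟩) (.one ⟨15128, 2, 5⟩)) (.node 1 (.one ⟨11879, 2, 6⟩) (.one ⟨2478, 3, 5⟩))))) (.node 8 (.node 4 (.node 2 (.node 1 (.one ⟨13434, 1, 5⟩) (.one ⟨11673, 4, 4⟩)) (.node 1 (.one ⟨2473, 3, 5⟩) (.one ⟨16564, 3, 4⟩))) (.node 2 (.node 1 (.one ⟨15071, 0, 3⟩) (.one ⟨3682, 4, 6⟩))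 (.node 1 (.one ⟨16562, 3, 6⟩) (.one ⟨1848, 3, 6⟩)))) (.node 4 (.node 2 (.node 1 (.one ⟨7497, 3, 4⟩) (.one ⟨7126, 3, 5⟩)) (.node 1 (.one ⟨12487, 0, 5⟩) (.one ⟨13198, 3, 4⟩))) (.node 2 (.node 1 (.one ⟨7886, 1, 5⟩) (.one ⟨15941, 3, 4⟩)) (.node 1 (.one ⟨4030, 2, 3⟩) (.one ⟨9627, 2, 5⟩)))))) (.node 16 (.node 8 (.node 4 (.node 2 (.node 1 (.one ⟨16279, 2, 5⟩) (.one ⟨15889, 0, 6⟩)) (.node 1 (.one ⟨10745, 0, 7⟩) (.one ⟨16195, 2, 6⟩))) (.node 2 (.node 1 (.one ⟨8967, 4, 3⟩) (.one ⟨5894, 0, 6⟩)) (.node 1 (.one ⟨4422, 0, 6⟩) (.one ⟨9921, 1, 4⟩)))) (.node 4 (.node 2 (.node 1 (.one ⟨12771, 2, 4⟩) (.one ⟨12229, 3, 6⟩)) (.node 1 (.one ⟨15447, 4, 6⟩) (.one ⟨13938, 0, 7⟩))) (.node 2 (.node 1 (.one ⟨762, 4, 7⟩) (.one ⟨15746, 1,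 6⟩)) (.node 1 (.one ⟨15000, 4, 5⟩) (.one ⟨11727, 0, 5⟩))))) (.node 8 (.node 4 (.node 2 (.node 1 (.one ⟨1994, 4, 6⟩) (.one ⟨6171, 1, 6⟩)) (.node 1 (.one ⟨14890, 3, 6⟩) (.one ⟨7735, 3, 3⟩))) (.node 2 (.node 1 (.one ⟨6160, 2, 4⟩) (.one ⟨10220, 2, 3⟩)) (.node 1 (.one ⟨8267, 2, 4⟩) (.one ⟨1814, 1, 6⟩)))) (.node 4 (.node 2 (.node 1 (.one ⟨4498, 1, 5⟩) (.one ⟨14703, 0, 4⟩)) (.node 1 (.one ⟨14407, 4, 2⟩) (.one ⟨16797, 1, 5⟩))) (.node 2 (.node 1 (.one ⟨3369, 3, 5⟩) (.one ⟨4499, 2, 4⟩)) (.node 1 (.one ⟨704, 0, 6⟩) (.one ⟨13321, 4, 4⟩)))))))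
def par1_8_9 : Arr Par :=
  (.node 32 (.node 16 (.node 8 (.node 4 (.node 2 (.node 1 (.one ⟨12925, 2, 7⟩) (.one ⟨12965, 2, 6⟩)) (.node 1 (.one ⟨12538, 3, 6⟩) (.one ⟨9744, 0, 6⟩))) (.node 2 (.node 1 (.one ⟨3327, 4, 6⟩) (.one ⟨10818, 2, 5⟩)) (.node 1 (.one ⟨3298, 4, 6⟩) (.one ⟨4001, 4, 6⟩)))) (.node 4 (.node 2 (.node 1 (.one ⟨12477, 1, 6⟩) (.one ⟨12706, 0, 6⟩)) (.node 1 (.one ⟨13116, 3, 5⟩) (.one ⟨11303, 4, 6⟩))) (.node 2 (.node 1 (.one ⟨16806, 1, 6⟩) (.one ⟨4734, 2, 5⟩)) (.node 1 (.one ⟨14686, 0, 6⟩) (.one ⟨2921, 0, 5⟩))))) (.node 8 (.node 4 (.node 2 (.node 1 (.one ⟨4822, 1, 5⟩) (.one ⟨8322, 3, 5⟩)) (.node 1 (.one ⟨547, 2, 6⟩) (.one ⟨12348, 2, 6⟩))) (.node 2 (.node 1 (.one ⟨14592, 3, 5⟩) (.one ⟨15965, 3, 6⟩))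 (.node 1 (.one ⟨5705, 4, 7⟩) (.one ⟨12093, 2, 5⟩)))) (.node 4 (.node 2 (.node 1 (.one ⟨1066, 0, 4⟩) (.one ⟨15499, 1, 5⟩)) (.node 1 (.one ⟨1772, 1, 6⟩) (.one ⟨9668, 0, 4⟩))) (.node 2 (.node 1 (.one ⟨6116, 3, 5⟩) (.one ⟨9552, 2, 5⟩)) (.node 1 (.one ⟨7717, 0, 3⟩) (.one ⟨2801, 2, 6⟩)))))) (.node 16 (.node 8 (.node 4 (.node 2 (.node 1 (.one ⟨4825, 1, 5⟩) (.one ⟨11608, 3, 5⟩)) (.node 1 (.one ⟨14152, 1, 5⟩) (.one ⟨2898, 0, 6⟩))) (.node 2 (.node 1 (.one ⟨17189, 4, 5⟩) (.one ⟨3643, 0, 4⟩)) (.node 1 (.one ⟨14210, 1, 5⟩) (.one ⟨15461, 1, 6⟩)))) (.node 4 (.node 2 (.node 1 (.one ⟨4754, 0, 6⟩) (.one ⟨5552, 4, 7⟩)) (.node 1 (.one ⟨2105, 2, 5⟩) (.one ⟨3869, 2, 5⟩))) (.node 2 (.node 1 (.one ⟨7717, 4, 3⟩) (.one ⟨6523, 3, 5⟩))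 (.node 1 (.one ⟨7673, 4, 5⟩) (.one ⟨11758, 0, 6⟩))))) (.node 8 (.node 4 (.node 2 (.node 1 (.one ⟨840, 0, 6⟩) (.one ⟨12972, 1, 6⟩)) (.node 1 (.one ⟨11497, 1, 6⟩) (.one ⟨10118, 2, 6⟩))) (.node 2 (.node 1 (.one ⟨14232, 1, 6⟩) (.one ⟨10040, 3, 5⟩)) (.node 1 (.one ⟨1720, 3, 5⟩) (.one ⟨168, 2, 6⟩)))) (.node 4 (.node 2 (.node 1 (.one ⟨248, 0, 5⟩) (.one ⟨2057, 2, 6⟩)) (.node 1 (.one ⟨12451, 2, 7⟩) (.one ⟨4778, 3, 6⟩))) (.node 2 (.node 1 (.one ⟨8702, 1, 6⟩) (.one ⟨7346, 1, 6⟩)) (.node 1 (.one ⟨12590, 1, 6⟩) (.one ⟨4180, 2, 6⟩)))))))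
def par1_8_10 : Arr Par :=
  (.node 32 (.node 16 (.node 8 (.node 4 (.node 2 (.node 1 (.one ⟨15065, 3, 3⟩) (.one ⟨10976, 3, 6⟩)) (.node 1 (.one ⟨2960, 0, 2⟩) (.one ⟨4810, 1, 2⟩))) (.node 2 (.node 1 (.one ⟨16086, 2, 5⟩) (.one ⟨14713, 3, 4⟩)) (.node 1 (.one ⟨3637, 0, 6⟩) (.one ⟨4759, 0, 6⟩)))) (.node 4 (.node 2 (.node 1 (.one ⟨71, 3, 4⟩) (.one ⟨3039, 2, 5⟩)) (.node 1 (.one ⟨9500, 3, 3⟩) (.one ⟨9817, 1, 7⟩))) (.node 2 (.node 1 (.one ⟨8705, 1, 4⟩) (.one ⟨12263, 4, 5⟩)) (.node 1 (.one ⟨1565, 3, 4⟩) (.one ⟨16192, 1, 6⟩))))) (.node 8 (.node 4 (.node 2 (.node 1 (.one ⟨16279, 1, 5⟩) (.one ⟨9950, 3, 6⟩)) (.node 1 (.one ⟨12931, 1, 4⟩) (.one ⟨15365, 4, 6⟩))) (.node 2 (.node 1 (.one ⟨13938, 4, 7⟩) (.one ⟨9150, 3, 4⟩)) (.node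 1 (.one ⟨6158, 1, 5⟩) (.one ⟨34, 2, 6⟩)))) (.node 4 (.node 2 (.node 1 (.one ⟨14713, 0, 4⟩) (.one ⟨15785, 0, 5⟩)) (.node 1 (.one ⟨14670, 0, 5⟩) (.one ⟨1451, 4, 6⟩))) (.node 2 (.node 1 (.one ⟨8721, 1, 5⟩) (.one ⟨16638, 4, 5⟩)) (.node 1 (.one ⟨955, 0, 6⟩) (.one ⟨8207, 1, 2⟩)))))) (.node 16 (.node 8 (.node 4 (.node 2 (.node 1 (.one ⟨15005, 4, 4⟩) (.one ⟨3115, 3, 5⟩)) (.node 1 (.one ⟨8472, 3, 6⟩) (.one ⟨12693, 0, 3⟩))) (.node 2 (.node 1 (.one ⟨11619, 4, 6⟩) (.one ⟨11252, 2, 4⟩)) (.node 1 (.one ⟨16155, 3, 5⟩) (.one ⟨7628, 0, 5⟩)))) (.node 4 (.node 2 (.node 1 (.one ⟨3701, 3, 6⟩) (.one ⟨6694, 0, 6⟩)) (.node 1 (.one ⟨12134, 4, 6⟩) (.one ⟨13011, 4, 5⟩))) (.node 2 (.node 1 (.one ⟨5132, 4, 5⟩) (.one ⟨8363, 3, 7⟩)) (.node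 1 (.one ⟨5858, 2, 5⟩) (.one ⟨4260, 2, 6⟩))))) (.node 8 (.node 4 (.node 2 (.node 1 (.one ⟨8007, 4, 5⟩) (.one ⟨16095, 4, 4⟩)) (.node 1 (.one ⟨11535, 0, 6⟩) (.one ⟨3540, 0, 6⟩))) (.node 2 (.node 1 (.one ⟨12164, 0, 6⟩) (.one ⟨16066, 4, 5⟩)) (.node 1 (.one ⟨12229, 2, 6⟩) (.one ⟨1991, 0, 5⟩)))) (.node 4 (.node 2 (.node 1 (.one ⟨12865, 0, 6⟩) (.one ⟨14360, 3, 6⟩)) (.node 1 (.one ⟨9941, 3, 7⟩) (.one ⟨3048, 0, 6⟩))) (.node 2 (.node 1 (.one ⟨7130, 4, 5⟩) (.one ⟨4215, 4, 6⟩)) (.node 1 (.one ⟨8711, 3, 5⟩) (.one ⟨1252, 2, 4⟩)))))))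
def par1_8_11 : Arr Par :=
  (.node 32 (.node 16 (.node 8 (.node 4 (.node 2 (.node 1 (.one ⟨12102, 0, 6⟩) (.one ⟨10749, 0, 6⟩)) (.node 1 (.one ⟨12880, 2, 4⟩) (.one ⟨7230, 2, 6⟩))) (.node 2 (.node 1 (.one ⟨7491, 3, 7⟩) (.one ⟨8916, 3, 6⟩)) (.node 1 (.one ⟨15067, 3, 6⟩) (.one ⟨15065, 4, 3⟩)))) (.node 4 (.node 2 (.node 1 (.one ⟨13828, 2, 5⟩) (.one ⟨16382, 2, 3⟩)) (.node 1 (.one ⟨12831, 2, 6⟩) (.one ⟨12125, 1, 7⟩))) (.node 2 (.node 1 (.one ⟨16163, 2, 6⟩) (.one ⟨14288, 2, 4⟩)) (.node 1 (.one ⟨4068, 0, 5⟩) (.one ⟨16803, 3, 7⟩))))) (.node 8 (.node 4 (.node 2 (.node 1 (.one ⟨10781, 0, 6⟩) (.one ⟨2555, 2, 6⟩)) (.node 1 (.one ⟨11561, 0, 7⟩) (.one ⟨6157, 1, 6⟩))) (.node 2 (.node 1 (.one ⟨12093, 1, 5⟩) (.one ⟨2431, 2,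 6⟩)) (.node 1 (.one ⟨10069, 0, 4⟩) (.one ⟨8406, 3, 5⟩)))) (.node 4 (.node 2 (.node 1 (.one ⟨14078, 4, 5⟩) (.one ⟨16765, 4, 5⟩)) (.node 1 (.one ⟨4093, 1, 5⟩) (.one ⟨16499, 3, 5⟩))) (.node 2 (.node 1 (.one ⟨10770, 0, 6⟩) (.one ⟨15540, 3, 6⟩)) (.node 1 (.one ⟨3141, 2, 5⟩) (.one ⟨10758, 0, 7⟩)))))) (.node 16 (.node 8 (.node 4 (.node 2 (.node 1 (.one ⟨15100, 1, 6⟩) (.one ⟨1913, 3, 6⟩)) (.node 1 (.one ⟨3107, 0, 4⟩) (.one ⟨5219, 0, 6⟩))) (.node 2 (.node 1 (.one ⟨2552, 2, 5⟩) (.one ⟨1912, 3, 5⟩)) (.node 1 (.one ⟨11256, 2, 6⟩) (.one ⟨268, 4, 5⟩)))) (.node 4 (.node 2 (.node 1 (.one ⟨12369, 2, 6⟩) (.one ⟨4787, 0, 5⟩)) (.node 1 (.one ⟨627, 4, 4⟩) (.one ⟨10764, 0, 5⟩))) (.node 2 (.node 1 (.one ⟨13357, 1, 6⟩) (.one ⟨11578,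 3, 6⟩)) (.node 1 (.one ⟨7051, 1, 5⟩) (.one ⟨14997, 1, 7⟩))))) (.node 8 (.node 4 (.node 2 (.node 1 (.one ⟨11895, 2, 6⟩) (.one ⟨5494, 2, 6⟩)) (.node 1 (.one ⟨4151, 1, 6⟩) (.one ⟨596, 1, 7⟩))) (.node 2 (.node 1 (.one ⟨1712, 4, 6⟩) (.one ⟨5247, 2, 7⟩)) (.node 1 (.one ⟨16919, 1, 6⟩) (.one ⟨541, 2, 5⟩)))) (.node 4 (.node 2 (.node 1 (.one ⟨11604, 3, 6⟩) (.one ⟨6860, 0, 6⟩)) (.node 1 (.one ⟨9087, 1, 6⟩) (.one ⟨5246, 3, 6⟩))) (.node 2 (.node 1 (.one ⟨4235, 2, 5⟩) (.one ⟨11297, 0, 6⟩)) (.node 1 (.one ⟨8792, 1, 5⟩) (.one ⟨4994, 0, 6⟩)))))))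
def par1_8_12 : Arr Par :=
  (.node 32 (.node 16 (.node 8 (.node 4 (.node 2 (.node 1 (.one ⟨14714, 1, 5⟩) (.one ⟨8122, 4, 6⟩)) (.node 1 (.one ⟨6852, 0, 6⟩) (.one ⟨7453, 3, 5⟩))) (.node 2 (.node 1 (.one ⟨7682, 0, 6⟩) (.one ⟨845, 0, 5⟩)) (.node 1 (.one ⟨12039, 1, 6⟩) (.one ⟨13196, 4, 2⟩)))) (.node 4 (.node 2 (.node 1 (.one ⟨14729, 1, 6⟩) (.one ⟨2475, 2, 6⟩)) (.node 1 (.one ⟨17157, 1, 4⟩) (.one ⟨13061, 0, 6⟩))) (.node 2 (.node 1 (.one ⟨10311, 4, 2⟩) (.one ⟨12723, 4, 6⟩)) (.node 1 (.one ⟨15357, 3, 5⟩) (.one ⟨38, 3, 4⟩))))) (.node 8 (.node 4 (.node 2 (.node 1 (.one ⟨13051, 0, 6⟩) (.one ⟨14188, 3, 5⟩)) (.node 1 (.one ⟨11308, 0, 6⟩) (.one ⟨17138, 1, 6⟩))) (.node 2 (.node 1 (.one ⟨9418, 3, 4⟩) (.one ⟨14178, 3, 6⟩))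 (.node 1 (.one ⟨5225, 2, 5⟩) (.one ⟨17126, 4, 5⟩)))) (.node 4 (.node 2 (.node 1 (.one ⟨2369, 4, 5⟩) (.one ⟨15529, 2, 5⟩)) (.node 1 (.one ⟨15006, 1, 6⟩) (.one ⟨15534, 2, 6⟩))) (.node 2 (.node 1 (.one ⟨3879, 3, 6⟩) (.one ⟨189, 2, 6⟩)) (.node 1 (.one ⟨579, 3, 5⟩) (.one ⟨15231, 3, 6⟩)))))) (.node 16 (.node 8 (.node 4 (.node 2 (.node 1 (.one ⟨12258, 0, 5⟩) (.one ⟨9992, 1, 6⟩)) (.node 1 (.one ⟨6490, 3, 3⟩) (.one ⟨4975, 0, 4⟩))) (.node 2 (.node 1 (.one ⟨106, 4, 6⟩) (.one ⟨14604, 0, 6⟩)) (.node 1 (.one ⟨2427, 3, 5⟩) (.one ⟨10193, 4, 4⟩)))) (.node 4 (.node 2 (.node 1 (.one ⟨6690, 1, 5⟩) (.one ⟨8827, 0, 7⟩)) (.node 1 (.one ⟨17175, 2, 6⟩) (.one ⟨8112, 3, 5⟩))) (.node 2 (.node 1 (.one ⟨828, 4, 5⟩) (.one ⟨11281, 0, 7⟩))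 (.node 1 (.one ⟨15001, 1, 5⟩) (.one ⟨4076, 3, 5⟩))))) (.node 8 (.node 4 (.node 2 (.node 1 (.one ⟨6506, 2, 6⟩) (.one ⟨14551, 2, 6⟩)) (.node 1 (.one ⟨9285, 3, 5⟩) (.one ⟨15476, 3, 5⟩))) (.node 2 (.node 1 (.one ⟨579, 4, 5⟩) (.one ⟨36, 4, 5⟩)) (.node 1 (.one ⟨6502, 2, 6⟩) (.one ⟨11141, 1, 5⟩)))) (.node 4 (.node 2 (.node 1 (.one ⟨3907, 2, 6⟩) (.one ⟨270, 4, 6⟩)) (.node 1 (.one ⟨13726, 3, 4⟩) (.one ⟨10316, 0, 6⟩))) (.node 2 (.node 1 (.one ⟨4761, 2, 6⟩) (.one ⟨14459, 3, 4⟩)) (.node 1 (.one ⟨1065, 4, 5⟩) (.one ⟨14183, 4, 5⟩)))))))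
def par1_8_13 : Arr Par :=
  (.node 32 (.node 16 (.node 8 (.node 4 (.node 2 (.node 1 (.one ⟨8081, 2, 6⟩) (.one ⟨15676, 4, 6⟩)) (.node 1 (.one ⟨8614, 4, 6⟩) (.one ⟨4580, 4, 4⟩))) (.node 2 (.node 1 (.one ⟨16410, 2, 6⟩) (.one ⟨12986, 3, 5⟩)) (.node 1 (.one ⟨12108, 1, 7⟩) (.one ⟨14188, 4, 5⟩)))) (.node 4 (.node 2 (.node 1 (.one ⟨11755, 0, 6⟩) (.one ⟨15250, 2, 3⟩)) (.node 1 (.one ⟨7599, 4, 6⟩) (.one ⟨4107, 1, 6⟩))) (.node 2 (.node 1 (.one ⟨2050, 1, 6⟩) (.one ⟨7483, 0, 5⟩)) (.node 1 (.one ⟨16942, 0, 5⟩) (.one ⟨16447, 0, 6⟩))))) (.node 8 (.node 4 (.node 2 (.node 1 (.one ⟨10317, 2, 5⟩) (.one ⟨14187, 4, 6⟩)) (.node 1 (.one ⟨6881, 2, 5⟩) (.one ⟨8913, 3, 7⟩))) (.node 2 (.node 1 (.one ⟨10073, 2, 5⟩) (.one ⟨6996, 1, 6⟩))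 (.node 1 (.one ⟨7359, 2, 6⟩) (.one ⟨4805, 4, 6⟩)))) (.node 4 (.node 2 (.node 1 (.one ⟨5233, 1, 5⟩) (.one ⟨17060, 1, 6⟩)) (.node 1 (.one ⟨6833, 0, 6⟩) (.one ⟨13817, 2, 5⟩))) (.node 2 (.node 1 (.one ⟨4894, 2, 6⟩) (.one ⟨7730, 2, 6⟩)) (.node 1 (.one ⟨10040, 1, 5⟩) (.one ⟨16105, 3, 5⟩)))))) (.node 16 (.node 8 (.node 4 (.node 2 (.node 1 (.one ⟨17053, 1, 4⟩) (.one ⟨16634, 3, 7⟩)) (.node 1 (.one ⟨11912, 4, 5⟩) (.one ⟨2062, 1, 5⟩))) (.node 2 (.node 1 (.one ⟨15060, 1, 6⟩) (.one ⟨12357, 2, 5⟩)) (.node 1 (.one ⟨7497, 0, 4⟩) (.one ⟨14338, 2, 5⟩)))) (.node 4 (.node 2 (.node 1 (.one ⟨10765, 2, 7⟩) (.one ⟨6846, 0, 3⟩)) (.node 1 (.one ⟨2148, 3, 6⟩) (.one ⟨9921, 2, 4⟩))) (.node 2 (.node 1 (.one ⟨889, 4, 5⟩) (.one ⟨320, 4, 7⟩))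 (.node 1 (.one ⟨11449, 2, 6⟩) (.one ⟨14412, 0, 5⟩))))) (.node 8 (.node 4 (.node 2 (.node 1 (.one ⟨391, 4, 6⟩) (.one ⟨8069, 0, 5⟩)) (.node 1 (.one ⟨4236, 1, 6⟩) (.one ⟨8691, 0, 4⟩))) (.node 2 (.node 1 (.one ⟨905, 4, 3⟩) (.one ⟨4722, 2, 6⟩)) (.node 1 (.one ⟨5568, 3, 5⟩) (.one ⟨9400, 2, 5⟩)))) (.node 4 (.node 2 (.node 1 (.one ⟨3283, 3, 6⟩) (.one ⟨4460, 3, 6⟩)) (.node 1 (.one ⟨8755, 1, 4⟩) (.one ⟨3411, 2, 7⟩))) (.node 2 (.node 1 (.one ⟨4311, 2, 5⟩) (.one ⟨1148, 3, 5⟩)) (.node 1 (.one ⟨7296, 3, 6⟩) (.one ⟨14416, 0, 5⟩)))))))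
def par1_8_14 : Arr Par :=
  (.node 32 (.node 16 (.node 8 (.node 4 (.node 2 (.node 1 (.one ⟨11990, 1, 5⟩) (.one ⟨15668, 2, 5⟩)) (.node 1 (.one ⟨2012, 0, 6⟩) (.one ⟨8740, 0, 4⟩))) (.node 2 (.node 1 (.one ⟨9421, 4, 5⟩) (.one ⟨12121, 0, 4⟩)) (.node 1 (.one ⟨15619, 2, 5⟩) (.one ⟨8850, 1, 5⟩)))) (.node 4 (.node 2 (.node 1 (.one ⟨8607, 2, 5⟩) (.one ⟨7433, 2, 6⟩)) (.node 1 (.one ⟨9626, 2, 4⟩) (.one ⟨9012, 1, 6⟩))) (.node 2 (.node 1 (.one ⟨4669, 2, 4⟩) (.one ⟨8765, 4, 5⟩)) (.node 1 (.one ⟨1395, 4, 6⟩) (.one ⟨9033, 1, 4⟩))))) (.node 8 (.node 4 (.node 2 (.node 1 (.one ⟨10112, 4, 4⟩) (.one ⟨5234, 3, 6⟩)) (.node 1 (.one ⟨3976, 2, 7⟩) (.one ⟨6658, 4, 5⟩))) (.node 2 (.node 1 (.one ⟨16792, 0, 4⟩) (.one ⟨11143, 2, 6⟩)) (.node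 1 (.one ⟨8802, 2, 6⟩) (.one ⟨4079, 3, 5⟩)))) (.node 4 (.node 2 (.node 1 (.one ⟨3738, 2, 6⟩) (.one ⟨9068, 1, 6⟩)) (.node 1 (.one ⟨11130, 0, 6⟩) (.one ⟨9954, 1, 6⟩))) (.node 2 (.node 1 (.one ⟨14914, 1, 4⟩) (.one ⟨14710, 4, 2⟩)) (.node 1 (.one ⟨6623, 1, 5⟩) (.one ⟨13794, 3, 4⟩)))))) (.node 16 (.node 8 (.node 4 (.node 2 (.node 1 (.one ⟨1873, 1, 5⟩) (.one ⟨634, 4, 5⟩)) (.node 1 (.one ⟨12116, 3, 4⟩) (.one ⟨8017, 3, 7⟩))) (.node 2 (.node 1 (.one ⟨1951, 2, 6⟩) (.one ⟨16481, 3, 5⟩)) (.node 1 (.one ⟨11157, 0, 5⟩) (.one ⟨16933, 1, 6⟩)))) (.node 4 (.node 2 (.node 1 (.one ⟨16792, 3, 4⟩) (.one ⟨16795, 3, 6⟩)) (.node 1 (.one ⟨16798, 3, 6⟩) (.one ⟨16794, 3, 5⟩))) (.node 2 (.node 1 (.one ⟨15932, 2, 3⟩) (.one ⟨9059, 2, 6⟩))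 (.node 1 (.one ⟨16797, 3, 5⟩) (.one ⟨1422, 0, 7⟩))))) (.node 8 (.node 4 (.node 2 (.node 1 (.one ⟨1447, 1, 7⟩) (.one ⟨15189, 4, 4⟩)) (.node 1 (.one ⟨1419, 0, 4⟩) (.one ⟨1421, 0, 6⟩))) (.node 2 (.node 1 (.one ⟨1418, 0, 6⟩) (.one ⟨1441, 1, 6⟩)) (.node 1 (.one ⟨1442, 1, 4⟩) (.one ⟨4073, 2, 5⟩)))) (.node 4 (.node 2 (.node 1 (.one ⟨1407, 0, 4⟩) (.one ⟨16221, 2, 6⟩)) (.node 1 (.one ⟨1454, 1, 6⟩) (.one ⟨1411, 0, 6⟩))) (.node 2 (.node 1 (.one ⟨14210, 2, 5⟩) (.one ⟨13690, 2, 5⟩)) (.node 1 (.one ⟨1409, 0, 3⟩) (.one ⟨10946, 4, 6⟩)))))))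
def par1_8_15 : Arr Par :=
  (.node 32 (.node 16 (.node 8 (.node 4 (.node 2 (.node 1 (.one ⟨12630, 1, 6⟩) (.one ⟨12692, 0, 4⟩)) (.node 1 (.one ⟨10925, 2, 6⟩) (.one ⟨15909, 4, 5⟩))) (.node 2 (.node 1 (.one ⟨13560, 3, 4⟩) (.one ⟨6535, 4, 6⟩)) (.node 1 (.one ⟨16789, 4, 5⟩) (.one ⟨4559, 1, 5⟩)))) (.node 4 (.node 2 (.node 1 (.one ⟨4646, 1, 5⟩) (.one ⟨12613, 0, 5⟩)) (.node 1 (.one ⟨12656, 1, 5⟩) (.one ⟨4580, 0, 4⟩))) (.node 2 (.node 1 (.one ⟨12594, 0, 4⟩) (.one ⟨4498, 4, 5⟩)) (.node 1 (.one ⟨4580, 1, 4⟩) (.one ⟨2603, 2, 5⟩))))) (.node 8 (.node 4 (.node 2 (.node 1 (.one ⟨16865, 4, 6⟩) (.one ⟨343, 1, 5⟩)) (.node 1 (.one ⟨6272, 4, 6⟩) (.one ⟨1035, 1, 7⟩))) (.node 2 (.node 1 (.one ⟨649, 2, 5⟩) (.one ⟨1039, 1, 6⟩)) (.node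 1 (.one ⟨521, 1, 6⟩) (.one ⟨3055, 2, 6⟩)))) (.node 4 (.node 2 (.node 1 (.one ⟨3061, 2, 5⟩) (.one ⟨279, 1, 6⟩)) (.node 1 (.one ⟨16783, 3, 6⟩) (.one ⟨15487, 3, 7⟩))) (.node 2 (.node 1 (.one ⟨102, 1, 6⟩) (.one ⟨7545, 4, 7⟩)) (.node 1 (.one ⟨512, 2, 6⟩) (.one ⟨4029, 4, 5⟩)))))) (.node 16 (.node 8 (.node 4 (.node 2 (.node 1 (.one ⟨9489, 1, 6⟩) (.one ⟨5076, 3, 6⟩)) (.node 1 (.one ⟨10078, 2, 6⟩) (.one ⟨15419, 4, 5⟩))) (.node 2 (.node 1 (.one ⟨9382, 0, 4⟩) (.one ⟨16879, 2, 4⟩)) (.node 1 (.one ⟨9377, 0, 6⟩) (.one ⟨16321, 3, 5⟩)))) (.node 4 (.node 2 (.node 1 (.one ⟨6367, 2, 3⟩) (.one ⟨8762, 3, 3⟩)) (.node 1 (.one ⟨9496, 1, 4⟩) (.one ⟨10877, 3, 5⟩))) (.node 2 (.node 1 (.one ⟨9497, 1, 7⟩) (.one ⟨4484, 2, 7⟩)) (.node 1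 (.one ⟨9501, 1, 6⟩) (.one ⟨9509, 1, 6⟩))))) (.node 8 (.node 4 (.node 2 (.node 1 (.one ⟨9510, 1, 6⟩) (.one ⟨9285, 0, 5⟩)) (.node 1 (.one ⟨9283, 0, 4⟩) (.one ⟨9508, 1, 5⟩))) (.node 2 (.node 1 (.one ⟨5225, 4, 5⟩) (.one ⟨2467, 3, 6⟩)) (.node 1 (.one ⟨14849, 3, 5⟩) (.one ⟨5122, 3, 5⟩)))) (.node 4 (.node 2 (.node 1 (.one ⟨16282, 2, 6⟩) (.one ⟨9516, 1, 5⟩)) (.node 1 (.one ⟨9515, 1, 4⟩) (.one ⟨9294, 0, 6⟩))) (.node 2 (.node 1 (.one ⟨13618, 2, 4⟩) (.one ⟨9137, 4, 5⟩)) (.node 1 (.one ⟨8632, 4, 4⟩) (.one ⟨13741, 4, 4⟩)))))))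
def par1_8 : Arr Par :=
  (.node 512 (.node 256 (.node 128 (.node 64 par1_8_0 par1_8_1) (.node 64 par1_8_2 par1_8_3)) (.node 128 (.node 64 par1_8_4 par1_8_5) (.node 64 par1_8_6 par1_8_7))) (.node 256 (.node 128 (.node 64 par1_8_8 par1_8_9) (.node 64 par1_8_10 par1_8_11)) (.node 128 (.node 64 par1_8_12 par1_8_13) (.node 64 par1_8_14 par1_8_15))))
def par1_9_0 : Arr Par :=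
  (.node 32 (.node 16 (.node 8 (.node 4 (.node 2 (.node 1 (.one ⟨16585, 0, 4⟩) (.one ⟨8602, 0, 5⟩)) (.node 1 (.one ⟨14177, 4, 4⟩) (.one ⟨8538, 0, 6⟩))) (.node 2 (.node 1 (.one ⟨2109, 4, 7⟩) (.one ⟨8611, 1, 5⟩)) (.node 1 (.one ⟨5714, 4, 5⟩) (.one ⟨8583, 0, 6⟩)))) (.node 4 (.node 2 (.node 1 (.one ⟨1001, 4, 5⟩) (.one ⟨9206, 4, 6⟩)) (.node 1 (.one ⟨16678, 1, 5⟩) (.one ⟨8141, 4, 6⟩))) (.node 2 (.node 1 (.one ⟨10452, 3, 6⟩) (.one ⟨10073, 3, 5⟩)) (.node 1 (.one ⟨8579, 1, 6⟩) (.one ⟨793, 3, 5⟩))))) (.node 8 (.node 4 (.node 2 (.node 1 (.one ⟨14565, 3, 5⟩) (.one ⟨6088, 4, 6⟩)) (.node 1 (.one ⟨13457, 4, 5⟩) (.one ⟨8861, 4, 6⟩))) (.node 2 (.node 1 (.one ⟨1433, 1, 6⟩) (.one ⟨17020, 4, 6⟩)) (.node 1 (.one ⟨9485, 0, 6⟩) (.one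 ⟨2011, 2, 5⟩)))) (.node 4 (.node 2 (.node 1 (.one ⟨1426, 1, 5⟩) (.one ⟨12545, 2, 3⟩)) (.node 1 (.one ⟨12652, 3, 4⟩) (.one ⟨10222, 3, 5⟩))) (.node 2 (.node 1 (.one ⟨14511, 2, 6⟩) (.one ⟨13269, 4, 6⟩)) (.node 1 (.one ⟨5611, 4, 5⟩) (.one ⟨1530, 1, 5⟩)))))) (.node 16 (.node 8 (.node 4 (.node 2 (.node 1 (.one ⟨343, 0, 5⟩) (.one ⟨521, 0, 6⟩)) (.node 1 (.one ⟨399, 4, 6⟩) (.one ⟨12689, 4, 5⟩))) (.node 2 (.node 1 (.one ⟨859, 0, 7⟩) (.one ⟨9, 4, 5⟩)) (.node 1 (.one ⟨824, 4, 5⟩) (.one ⟨12322, 3, 5⟩)))) (.node 4 (.node 2 (.node 1 (.one ⟨280, 0, 6⟩) (.one ⟨2524, 2, 6⟩)) (.node 1 (.one ⟨250, 4, 5⟩) (.one ⟨279, 0, 6⟩))) (.node 2 (.node 1 (.one ⟨10211, 2, 6⟩) (.one ⟨562, 4, 5⟩)) (.node 1 (.one ⟨1531, 1, 6⟩) (.one ⟨1388, 0,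 6⟩))))) (.node 8 (.node 4 (.node 2 (.node 1 (.one ⟨2977, 3, 6⟩) (.one ⟨9429, 4, 6⟩)) (.node 1 (.one ⟨14496, 4, 5⟩) (.one ⟨13032, 2, 4⟩))) (.node 2 (.node 1 (.one ⟨15729, 3, 5⟩) (.one ⟨7538, 4, 4⟩)) (.node 1 (.one ⟨1262, 1, 6⟩) (.one ⟨14854, 3, 6⟩)))) (.node 4 (.node 2 (.node 1 (.one ⟨12069, 2, 6⟩) (.one ⟨1252, 1, 4⟩)) (.node 1 (.one ⟨1254, 1, 5⟩) (.one ⟨1256, 1, 5⟩))) (.node 2 (.node 1 (.one ⟨10978, 2, 4⟩) (.one ⟨1251, 1, 5⟩)) (.node 1 (.one ⟨7808, 3, 6⟩) (.one ⟨13926, 3, 6⟩)))))))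
def par1_9_1 : Arr Par :=
  (.node 32 (.node 16 (.node 8 (.node 4 (.node 2 (.node 1 (.one ⟨1239, 0, 6⟩) (.one ⟨14614, 2, 5⟩)) (.node 1 (.one ⟨1244, 0, 4⟩) (.one ⟨1232, 0, 3⟩))) (.node 2 (.node 1 (.one ⟨9286, 1, 6⟩) (.one ⟨3450, 4, 4⟩)) (.node 1 (.one ⟨9285, 1, 5⟩) (.one ⟨7679, 2, 5⟩)))) (.node 4 (.node 2 (.node 1 (.one ⟨6113, 4, 5⟩) (.one ⟨9288, 1, 6⟩)) (.node 1 (.one ⟨1238, 0, 6⟩) (.one ⟨3505, 2, 6⟩))) (.node 2 (.node 1 (.one ⟨13978, 2, 5⟩) (.one ⟨9294, 1, 6⟩)) (.node 1 (.one ⟨1246, 0, 5⟩) (.one ⟨4565, 3, 2⟩))))) (.node 8 (.node 4 (.node 2 (.node 1 (.one ⟨1622, 2, 6⟩) (.one ⟨12591, 2, 5⟩)) (.node 1 (.one ⟨10626, 4, 6⟩) (.one ⟨9295, 1, 3⟩))) (.node 2 (.node 1 (.one ⟨17067, 2, 5⟩) (.one ⟨9295, 0, 3⟩)) (.node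 1 (.one ⟨11036, 3, 5⟩) (.one ⟨10233, 4, 6⟩)))) (.node 4 (.node 2 (.node 1 (.one ⟨5825, 3, 5⟩) (.one ⟨4823, 2, 5⟩)) (.node 1 (.one ⟨10427, 4, 6⟩) (.one ⟨10876, 3, 6⟩))) (.node 2 (.node 1 (.one ⟨1727, 2, 2⟩) (.one ⟨6284, 4, 5⟩)) (.node 1 (.one ⟨2132, 3, 5⟩) (.one ⟨650, 4, 6⟩)))))) (.node 16 (.node 8 (.node 4 (.node 2 (.node 1 (.one ⟨9521, 3, 6⟩) (.one ⟨7647, 4, 5⟩)) (.node 1 (.one ⟨13200, 3, 6⟩) (.one ⟨8264, 2, 6⟩))) (.node 2 (.node 1 (.one ⟨760, 4, 4⟩) (.one ⟨15276, 2, 6⟩)) (.node 1 (.one ⟨4971, 2, 5⟩) (.one ⟨16926, 2, 5⟩)))) (.node 4 (.node 2 (.node 1 (.one ⟨1065, 0, 5⟩) (.one ⟨6493, 3, 4⟩)) (.node 1 (.one ⟨1006, 0, 6⟩) (.one ⟨4004, 2, 5⟩))) (.node 2 (.node 1 (.one ⟨1062, 0, 6⟩) (.one ⟨17053, 4, 4⟩)) (.node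 1 (.one ⟨9325, 1, 5⟩) (.one ⟨885, 1, 5⟩))))) (.node 8 (.node 4 (.node 2 (.node 1 (.one ⟨368, 1, 6⟩) (.one ⟨9444, 0, 6⟩)) (.node 1 (.one ⟨1828, 3, 6⟩) (.one ⟨895, 1, 6⟩))) (.node 2 (.node 1 (.one ⟨9453, 0, 6⟩) (.one ⟨16464, 4, 6⟩)) (.node 1 (.one ⟨4275, 4, 5⟩) (.one ⟨293, 1, 5⟩)))) (.node 4 (.node 2 (.node 1 (.one ⟨250, 2, 5⟩) (.one ⟨4108, 2, 5⟩)) (.node 1 (.one ⟨485, 1, 5⟩) (.one ⟨9441, 0, 6⟩))) (.node 2 (.node 1 (.one ⟨823, 1, 6⟩) (.one ⟨4105, 2, 4⟩)) (.node 1 (.one ⟨10379, 4, 6⟩) (.one ⟨10121, 4, 6⟩)))))))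
def par1_9_2 : Arr Par :=
  (.node 32 (.node 16 (.node 8 (.node 4 (.node 2 (.node 1 (.one ⟨10012, 3, 6⟩) (.one ⟨12338, 3, 5⟩)) (.node 1 (.one ⟨6568, 3, 6⟩) (.one ⟨16289, 4, 4⟩))) (.node 2 (.node 1 (.one ⟨5282, 4, 6⟩) (.one ⟨627, 3, 4⟩)) (.node 1 (.one ⟨9313, 0, 6⟩) (.one ⟨3107, 3, 4⟩)))) (.node 4 (.node 2 (.node 1 (.one ⟨9323, 0, 6⟩) (.one ⟨9321, 0, 5⟩)) (.node 1 (.one ⟨13052, 4, 5⟩) (.one ⟨8560, 2, 3⟩))) (.node 2 (.node 1 (.one ⟨9319, 0, 6⟩) (.one ⟨9325, 0, 5⟩)) (.node 1 (.one ⟨9326, 0, 6⟩) (.one ⟨777, 0, 6⟩))))) (.node 8 (.node 4 (.node 2 (.node 1 (.one ⟨934, 4, 6⟩) (.one ⟨11749, 2, 5⟩)) (.node 1 (.one ⟨773, 0, 6⟩) (.one ⟨10982, 3, 6⟩))) (.node 2 (.node 1 (.one ⟨11171, 4, 5⟩) (.one ⟨2875, 3, 6⟩)) (.node 1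 (.one ⟨847, 0, 5⟩) (.one ⟨5455, 2, 5⟩)))) (.node 4 (.node 2 (.node 1 (.one ⟨9484, 1, 6⟩) (.one ⟨2543, 4, 5⟩)) (.node 1 (.one ⟨7681, 3, 5⟩) (.one ⟨247, 4, 6⟩))) (.node 2 (.node 1 (.one ⟨449, 4, 5⟩) (.one ⟨4580, 2, 4⟩)) (.node 1 (.one ⟨974, 4, 5⟩) (.one ⟨2054, 3, 6⟩)))))) (.node 16 (.node 8 (.node 4 (.node 2 (.node 1 (.one ⟨5435, 3, 7⟩) (.one ⟨9831, 2, 5⟩)) (.node 1 (.one ⟨12484, 3, 5⟩) (.one ⟨9489, 0, 6⟩))) (.node 2 (.node 1 (.one ⟨5412, 2, 6⟩) (.one ⟨10735, 2, 5⟩)) (.node 1 (.one ⟨1798, 3, 3⟩) (.one ⟨9193, 1, 4⟩)))) (.node 4 (.node 2 (.node 1 (.one ⟨9496, 0, 4⟩) (.one ⟨11868, 4, 6⟩)) (.node 1 (.one ⟨10989, 2, 6⟩) (.one ⟨2567, 2, 3⟩))) (.node 2 (.node 1 (.one ⟨4403, 4, 5⟩) (.one ⟨11037, 3, 6⟩)) (.node 1 (.one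 ⟨12355, 3, 6⟩) (.one ⟨15667, 4, 5⟩))))) (.node 8 (.node 4 (.node 2 (.node 1 (.one ⟨1455, 1, 4⟩) (.one ⟨1459, 1, 4⟩)) (.node 1 (.one ⟨6637, 4, 5⟩) (.one ⟨5165, 3, 5⟩))) (.node 2 (.node 1 (.one ⟨1147, 0, 4⟩) (.one ⟨3946, 2, 5⟩)) (.node 1 (.one ⟨1148, 0, 5⟩) (.one ⟨1136, 0, 6⟩)))) (.node 4 (.node 2 (.node 1 (.one ⟨1138, 0, 4⟩) (.one ⟨16972, 3, 5⟩)) (.node 1 (.one ⟨1137, 0, 6⟩) (.one ⟨1141, 0, 5⟩))) (.node 2 (.node 1 (.one ⟨1214, 2, 3⟩) (.one ⟨15577, 2, 4⟩)) (.node 1 (.one ⟨1462, 1, 5⟩) (.one ⟨12398, 3, 6⟩)))))))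
def par1_9_3 : Arr Par :=
  (.node 32 (.node 16 (.node 8 (.node 4 (.node 2 (.node 1 (.one ⟨9229, 3, 6⟩) (.one ⟨9400, 0, 5⟩)) (.node 1 (.one ⟨1419, 1, 4⟩) (.one ⟨6777, 2, 6⟩))) (.node 2 (.node 1 (.one ⟨13523, 2, 5⟩) (.one ⟨9395, 0, 6⟩)) (.node 1 (.one ⟨9396, 0, 5⟩) (.one ⟨9392, 0, 5⟩)))) (.node 4 (.node 2 (.node 1 (.one ⟨1656, 2, 5⟩) (.one ⟨9394, 0, 6⟩)) (.node 1 (.one ⟨1409, 1, 3⟩) (.one ⟨8560, 3, 3⟩))) (.node 2 (.node 1 (.one ⟨9382, 2, 4⟩) (.one ⟨7497, 2, 4⟩)) (.node 1 (.one ⟨1407, 1, 4⟩) (.one ⟨1081, 0, 4⟩))))) (.node 8 (.node 4 (.node 2 (.node 1 (.one ⟨1385, 1, 6⟩) (.one ⟨1388, 1, 6⟩)) (.node 1 (.one ⟨1387, 1, 6⟩) (.one ⟨2648, 4, 6⟩))) (.node 2 (.node 1 (.one ⟨6045, 4, 6⟩) (.one ⟨14610, 4, 5⟩)) (.node 1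 (.one ⟨3338, 2, 5⟩) (.one ⟨16107, 2, 5⟩)))) (.node 4 (.node 2 (.node 1 (.one ⟨2124, 2, 6⟩) (.one ⟨10106, 2, 5⟩)) (.node 1 (.one ⟨8074, 2, 5⟩) (.one ⟨14493, 4, 6⟩))) (.node 2 (.node 1 (.one ⟨1077, 0, 6⟩) (.one ⟨1072, 0, 3⟩)) (.node 1 (.one ⟨1076, 0, 3⟩) (.one ⟨847, 1, 5⟩)))))) (.node 16 (.node 8 (.node 4 (.node 2 (.node 1 (.one ⟨15785, 2, 5⟩) (.one ⟨250, 1, 5⟩)) (.node 1 (.one ⟨10905, 3, 6⟩) (.one ⟨1434, 0, 5⟩))) (.node 2 (.node 1 (.one ⟨15786, 2, 5⟩) (.one ⟨638, 2, 6⟩)) (.node 1 (.one ⟨242, 1, 6⟩) (.one ⟨2410, 4, 6⟩)))) (.node 4 (.node 2 (.node 1 (.one ⟨16990, 2, 5⟩) (.one ⟨14355, 3, 6⟩)) (.node 1 (.one ⟨745, 2, 6⟩) (.one ⟨240, 1, 5⟩))) (.node 2 (.node 1 (.one ⟨5615, 4, 6⟩) (.one ⟨564, 2, 5⟩)) (.node 1 (.one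 ⟨323, 1, 6⟩) (.one ⟨1441, 4, 6⟩))))) (.node 8 (.node 4 (.node 2 (.node 1 (.one ⟨1150, 1, 6⟩) (.one ⟨1148, 1, 5⟩)) (.node 1 (.one ⟨1147, 1, 4⟩) (.one ⟨9150, 0, 4⟩))) (.node 2 (.node 1 (.one ⟨7766, 2, 5⟩) (.one ⟨12927, 2, 6⟩)) (.node 1 (.one ⟨2470, 3, 4⟩) (.one ⟨1141, 1, 5⟩)))) (.node 4 (.node 2 (.node 1 (.one ⟨1142, 1, 6⟩) (.one ⟨9144, 0, 5⟩)) (.node 1 (.one ⟨1139, 1, 5⟩) (.one ⟨10883, 2, 4⟩))) (.node 2 (.node 1 (.one ⟨1137, 1, 6⟩) (.one ⟨9137, 0, 5⟩)) (.node 1 (.one ⟨9138, 0, 5⟩) (.one ⟨10637, 2, 6⟩)))))))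
def par1_9_4 : Arr Par :=
  (.node 32 (.node 16 (.node 8 (.node 4 (.node 2 (.node 1 (.one ⟨368, 0, 6⟩) (.one ⟨10543, 2, 5⟩)) (.node 1 (.one ⟨8512, 3, 6⟩) (.one ⟨647, 4, 5⟩))) (.node 2 (.node 1 (.one ⟨885, 0, 5⟩) (.one ⟨8579, 3, 6⟩)) (.node 1 (.one ⟨1130, 1, 6⟩) (.one ⟨1679, 3, 6⟩)))) (.node 4 (.node 2 (.node 1 (.one ⟨9654, 3, 5⟩) (.one ⟨2923, 2, 6⟩)) (.node 1 (.one ⟨932, 4, 5⟩) (.one ⟨488, 0, 7⟩))) (.node 2 (.node 1 (.one ⟨1621, 3, 5⟩) (.one ⟨3184, 2, 5⟩)) (.node 1 (.one ⟨293, 0, 5⟩) (.one ⟨11381, 4, 5⟩))))) (.node 8 (.node 4 (.node 2 (.node 1 (.one ⟨9382, 1, 4⟩) (.one ⟨9091, 2, 5⟩)) (.node 1 (.one ⟨10861, 3, 7⟩) (.one ⟨15566, 4, 6⟩))) (.node 2 (.node 1 (.one ⟨16814, 4, 5⟩) (.one ⟨8126, 4, 6⟩)) (.node 1 (.one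 ⟨10875, 3, 6⟩) (.one ⟨6287, 2, 5⟩)))) (.node 4 (.node 2 (.node 1 (.one ⟨6393, 3, 3⟩) (.one ⟨15365, 2, 6⟩)) (.node 1 (.one ⟨4077, 4, 6⟩) (.one ⟨9193, 0, 4⟩))) (.node 2 (.node 1 (.one ⟨5959, 2, 2⟩) (.one ⟨1699, 3, 5⟩)) (.node 1 (.one ⟨8335, 4, 6⟩) (.one ⟨17098, 3, 5⟩)))))) (.node 16 (.node 8 (.node 4 (.node 2 (.node 1 (.one ⟨12743, 3, 6⟩) (.one ⟨10348, 3, 6⟩)) (.node 1 (.one ⟨1232, 1, 3⟩) (.one ⟨1244, 1, 4⟩))) (.node 2 (.node 1 (.one ⟨14887, 2, 4⟩) (.one ⟨3904, 2, 5⟩)) (.node 1 (.one ⟨9508, 0, 5⟩) (.one ⟨3710, 4, 6⟩)))) (.node 4 (.node 2 (.node 1 (.one ⟨1246, 1, 5⟩) (.one ⟨9512, 0, 6⟩)) (.node 1 (.one ⟨12892, 2, 5⟩) (.one ⟨1556, 2, 3⟩))) (.node 2 (.node 1 (.one ⟨11139, 3, 4⟩) (.one ⟨10077, 4, 4⟩)) (.node 1 (.one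 ⟨9516, 0, 5⟩) (.one ⟨2774, 3, 5⟩))))) (.node 8 (.node 4 (.node 2 (.node 1 (.one ⟨1128, 0, 6⟩) (.one ⟨14560, 2, 5⟩)) (.node 1 (.one ⟨16142, 2, 6⟩) (.one ⟨10090, 4, 5⟩))) (.node 2 (.node 1 (.one ⟨12462, 4, 5⟩) (.one ⟨16084, 3, 6⟩)) (.node 1 (.one ⟨14419, 3, 6⟩) (.one ⟨6542, 2, 3⟩)))) (.node 4 (.node 2 (.node 1 (.one ⟨9614, 4, 6⟩) (.one ⟨1125, 0, 6⟩)) (.node 1 (.one ⟨1121, 0, 5⟩) (.one ⟨14134, 4, 6⟩))) (.node 2 (.node 1 (.one ⟨16406, 4, 4⟩) (.one ⟨372, 3, 3⟩)) (.node 1 (.one ⟨1126, 0, 7⟩) (.one ⟨9397, 1, 6⟩)))))))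
def par1_9_5 : Arr Par :=
  (.node 32 (.node 16 (.node 8 (.node 4 (.node 2 (.node 1 (.one ⟨9396, 1, 5⟩) (.one ⟨14610, 3, 5⟩)) (.node 1 (.one ⟨1442, 0, 4⟩) (.one ⟨9398, 1, 6⟩))) (.node 2 (.node 1 (.one ⟨9395, 1, 6⟩) (.one ⟨5119, 3, 6⟩)) (.node 1 (.one ⟨16507, 2, 6⟩) (.one ⟨4099, 2, 5⟩)))) (.node 4 (.node 2 (.node 1 (.one ⟨9393, 1, 5⟩) (.one ⟨9405, 1, 5⟩)) (.node 1 (.one ⟨9404, 1, 4⟩) (.one ⟨3071, 2, 4⟩))) (.node 2 (.node 1 (.one ⟨3813, 3, 5⟩) (.one ⟨13382, 4, 5⟩)) (.node 1 (.one ⟨12735, 3, 6⟩) (.one ⟨1455, 0, 4⟩))))) (.node 8 (.node 4 (.node 2 (.node 1 (.one ⟨2470, 4, 4⟩) (.one ⟨16707, 4, 6⟩)) (.node 1 (.one ⟨6986, 3, 5⟩) (.one ⟨3144, 2, 6⟩))) (.node 2 (.node 1 (.one ⟨1459, 0, 4⟩) (.one ⟨14413, 2, 7⟩)) (.node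 1 (.one ⟨2638, 3, 6⟩) (.one ⟨1462, 0, 5⟩)))) (.node 4 (.node 2 (.node 1 (.one ⟨12325, 2, 6⟩) (.one ⟨9138, 1, 5⟩)) (.node 1 (.one ⟨9137, 1, 5⟩) (.one ⟨1457, 0, 6⟩))) (.node 2 (.node 1 (.one ⟨1458, 0, 6⟩) (.one ⟨12587, 2, 5⟩)) (.node 1 (.one ⟨10397, 2, 6⟩) (.one ⟨16582, 0, 5⟩)))))) (.node 16 (.node 8 (.node 4 (.node 2 (.node 1 (.one ⟨8547, 0, 6⟩) (.one ⟨5109, 2, 5⟩)) (.node 1 (.one ⟨17085, 2, 6⟩) (.one ⟨4552, 1, 5⟩))) (.node 2 (.node 1 (.one ⟨8611, 0, 5⟩) (.one ⟨1322, 2, 6⟩)) (.node 1 (.one ⟨14090, 2, 6⟩) (.one ⟨4648, 1, 6⟩)))) (.node 4 (.node 2 (.node 1 (.one ⟨12428, 3, 6⟩) (.one ⟨16678, 0, 5⟩)) (.node 1 (.one ⟨1045, 4, 5⟩) (.one ⟨4956, 4, 5⟩))) (.node 2 (.node 1 (.one ⟨13329, 3, 7⟩) (.one ⟨8579, 0, 6⟩)) (.node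 1 (.one ⟨12663, 1, 6⟩) (.one ⟨1523, 0, 5⟩))))) (.node 8 (.node 4 (.node 2 (.node 1 (.one ⟨17067, 4, 5⟩) (.one ⟨12979, 3, 5⟩)) (.node 1 (.one ⟨14666, 4, 6⟩) (.one ⟨1530, 0, 5⟩))) (.node 2 (.node 1 (.one ⟨12120, 3, 4⟩) (.one ⟨15115, 4, 6⟩)) (.node 1 (.one ⟨1529, 0, 7⟩) (.one ⟨1525, 0, 6⟩)))) (.node 4 (.node 2 (.node 1 (.one ⟨1521, 0, 7⟩) (.one ⟨1522, 0, 5⟩)) (.node 1 (.one ⟨542, 3, 3⟩) (.one ⟨1531, 0, 6⟩))) (.node 2 (.node 1 (.one ⟨4316, 4, 5⟩) (.one ⟨11139, 2, 4⟩)) (.node 1 (.one ⟨11879, 3, 6⟩) (.one ⟨4541, 4, 5⟩)))))))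
def par1_9_6 : Arr Par :=
  (.node 32 (.node 16 (.node 8 (.node 4 (.node 2 (.node 1 (.one ⟨15592, 2, 4⟩) (.one ⟨11884, 4, 7⟩)) (.node 1 (.one ⟨3325, 3, 6⟩) (.one ⟨9600, 0, 5⟩))) (.node 2 (.node 1 (.one ⟨15905, 3, 6⟩) (.one ⟨687, 1, 5⟩)) (.node 1 (.one ⟨4610, 4, 6⟩) (.one ⟨497, 1, 6⟩)))) (.node 4 (.node 2 (.node 1 (.one ⟨14235, 2, 4⟩) (.one ⟨564, 1, 5⟩)) (.node 1 (.one ⟨9609, 0, 6⟩) (.one ⟨5041, 3, 6⟩))) (.node 2 (.node 1 (.one ⟨1006, 1, 6⟩) (.one ⟨1062, 1, 6⟩)) (.node 1 (.one ⟨1065, 1, 5⟩) (.one ⟨4256, 2, 5⟩))))) (.node 8 (.node 4 (.node 2 (.node 1 (.one ⟨1247, 0, 6⟩) (.one ⟨2973, 4, 6⟩)) (.node 1 (.one ⟨7902, 3, 5⟩) (.one ⟨4989, 4, 4⟩))) (.node 2 (.node 1 (.one ⟨13502, 2, 6⟩) (.one ⟨15522, 3, 5⟩)) (.node 1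 (.one ⟨1081, 1, 4⟩) (.one ⟨1072, 1, 3⟩)))) (.node 4 (.node 2 (.node 1 (.one ⟨12135, 3, 4⟩) (.one ⟨1258, 0, 4⟩)) (.node 1 (.one ⟨1076, 1, 3⟩) (.one ⟨9193, 2, 4⟩))) (.node 2 (.node 1 (.one ⟨11873, 2, 5⟩) (.one ⟨1251, 0, 5⟩)) (.node 1 (.one ⟨6347, 2, 5⟩) (.one ⟨8602, 1, 5⟩)))))) (.node 16 (.node 8 (.node 4 (.node 2 (.node 1 (.one ⟨15971, 2, 6⟩) (.one ⟨12714, 0, 6⟩)) (.node 1 (.one ⟨4552, 0, 5⟩) (.one ⟨2864, 3, 3⟩))) (.node 2 (.node 1 (.one ⟨8894, 2, 6⟩) (.one ⟨12633, 0, 7⟩)) (.node 1 (.one ⟨3708, 3, 6⟩) (.one ⟨16680, 1, 6⟩)))) (.node 4 (.node 2 (.node 1 (.one ⟨8507, 1, 7⟩) (.one ⟨7699, 3, 6⟩)) (.node 1 (.one ⟨15586, 4, 5⟩) (.one ⟨8525, 1, 6⟩))) (.node 2 (.node 1 (.one ⟨16665, 1, 6⟩) (.one ⟨16266, 4, 6⟩)) (.node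 1 (.one ⟨8571, 1, 6⟩) (.one ⟨1729, 2, 3⟩))))) (.node 8 (.node 4 (.node 2 (.node 1 (.one ⟨2149, 0, 5⟩) (.one ⟨6296, 3, 7⟩)) (.node 1 (.one ⟨6524, 4, 6⟩) (.one ⟨5576, 3, 3⟩))) (.node 2 (.node 1 (.one ⟨17133, 2, 6⟩) (.one ⟨14689, 2, 6⟩)) (.node 1 (.one ⟨12121, 3, 4⟩) (.one ⟨672, 2, 5⟩)))) (.node 4 (.node 2 (.node 1 (.one ⟨5846, 0, 5⟩) (.one ⟨2295, 3, 4⟩)) (.node 1 (.one ⟨16268, 2, 7⟩) (.one ⟨4459, 0, 7⟩))) (.node 2 (.node 1 (.one ⟨3922, 2, 5⟩) (.one ⟨9509, 3, 6⟩)) (.node 1 (.one ⟨15442, 4, 4⟩) (.one ⟨3643, 2, 4⟩)))))))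
def par1_9_7 : Arr Par :=
  (.node 32 (.node 16 (.node 8 (.node 4 (.node 2 (.node 1 (.one ⟨15940, 4, 5⟩) (.one ⟨10042, 1, 6⟩)) (.node 1 (.one ⟨11503, 0, 6⟩) (.one ⟨13073, 4, 6⟩))) (.node 2 (.node 1 (.one ⟨10250, 2, 3⟩) (.one ⟨5915, 0, 6⟩)) (.node 1 (.one ⟨4314, 3, 5⟩) (.one ⟨2902, 4, 5⟩)))) (.node 4 (.node 2 (.node 1 (.one ⟨5656, 3, 4⟩) (.one ⟨2204, 0, 6⟩)) (.node 1 (.one ⟨4830, 4, 5⟩) (.one ⟨8621, 4, 5⟩))) (.node 2 (.node 1 (.one ⟨1847, 3, 3⟩) (.one ⟨6094, 4, 5⟩)) (.node 1 (.one ⟨11586, 1, 4⟩) (.one ⟨6283, 4, 6⟩))))) (.node 8 (.node 4 (.node 2 (.node 1 (.one ⟨6992, 1, 5⟩) (.one ⟨2796, 1, 5⟩)) (.node 1 (.one ⟨4955, 2, 4⟩) (.one ⟨15146, 1, 3⟩))) (.node 2 (.node 1 (.one ⟨15792, 2, 6⟩) (.one ⟨2066, 1, 6⟩)) (.node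 1 (.one ⟨7499, 4, 5⟩) (.one ⟨13979, 1, 7⟩)))) (.node 4 (.node 2 (.node 1 (.one ⟨15677, 2, 4⟩) (.one ⟨11608, 1, 5⟩)) (.node 1 (.one ⟨16399, 2, 5⟩) (.one ⟨2565, 2, 5⟩))) (.node 2 (.node 1 (.one ⟨9144, 4, 5⟩) (.one ⟨12603, 3, 5⟩)) (.node 1 (.one ⟨14080, 2, 6⟩) (.one ⟨3415, 2, 7⟩)))))) (.node 16 (.node 8 (.node 4 (.node 2 (.node 1 (.one ⟨7009, 4, 6⟩) (.one ⟨16897, 2, 6⟩)) (.node 1 (.one ⟨8007, 2, 5⟩) (.one ⟨5713, 1, 6⟩))) (.node 2 (.node 1 (.one ⟨5300, 2, 7⟩) (.one ⟨6031, 2, 5⟩)) (.node 1 (.one ⟨1155, 3, 6⟩) (.one ⟨12817, 4, 5⟩)))) (.node 4 (.node 2 (.node 1 (.one ⟨5703, 1, 5⟩) (.one ⟨10221, 1, 5⟩)) (.node 1 (.one ⟨509, 3, 5⟩) (.one ⟨11363, 3, 6⟩))) (.node 2 (.node 1 (.one ⟨12992, 3, 5⟩) (.one ⟨14286, 3, 2⟩)) (.node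 1 (.one ⟨16053, 3, 5⟩) (.one ⟨308, 2, 4⟩))))) (.node 8 (.node 4 (.node 2 (.node 1 (.one ⟨15448, 2, 5⟩) (.one ⟨419, 2, 6⟩)) (.node 1 (.one ⟨12124, 3, 6⟩) (.one ⟨4486, 4, 6⟩))) (.node 2 (.node 1 (.one ⟨10272, 0, 3⟩) (.one ⟨15447, 2, 6⟩)) (.node 1 (.one ⟨7078, 1, 6⟩) (.one ⟨13350, 4, 6⟩)))) (.node 4 (.node 2 (.node 1 (.one ⟨13032, 3, 4⟩) (.one ⟨8805, 3, 5⟩)) (.node 1 (.one ⟨15022, 2, 5⟩) (.one ⟨16930, 2, 5⟩))) (.node 2 (.node 1 (.one ⟨13988, 3, 6⟩) (.one ⟨12358, 4, 6⟩)) (.node 1 (.one ⟨13300, 3, 6⟩) (.one ⟨5694, 1, 6⟩)))))))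
def par1_9_8 : Arr Par :=
  (.node 32 (.node 16 (.node 8 (.node 4 (.node 2 (.node 1 (.one ⟨8382, 3, 7⟩) (.one ⟨3937, 3, 6⟩)) (.node 1 (.one ⟨15862, 4, 5⟩) (.one ⟨16615, 3, 5⟩))) (.node 2 (.node 1 (.one ⟨9930, 3, 6⟩) (.one ⟨10823, 1, 6⟩)) (.node 1 (.one ⟨8745, 4, 7⟩) (.one ⟨17088, 4, 6⟩)))) (.node 4 (.node 2 (.node 1 (.one ⟨14760, 4, 6⟩) (.one ⟨12543, 0, 6⟩)) (.node 1 (.one ⟨15386, 3, 5⟩) (.one ⟨10264, 1, 7⟩))) (.node 2 (.node 1 (.one ⟨11637, 1, 7⟩) (.one ⟨14400, 3, 4⟩)) (.node 1 (.one ⟨15821, 3, 6⟩) (.one ⟨10121, 1, 6⟩))))) (.node 8 (.node 4 (.node 2 (.node 1 (.one ⟨15425, 0, 5⟩) (.one ⟨16607, 2, 5⟩)) (.node 1 (.one ⟨11444, 0, 6⟩) (.one ⟨3831, 2, 5⟩))) (.node 2 (.node 1 (.one ⟨7454, 0, 6⟩) (.one ⟨13786, 0,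 6⟩)) (.node 1 (.one ⟨13243, 4, 6⟩) (.one ⟨13837, 1, 5⟩)))) (.node 4 (.node 2 (.node 1 (.one ⟨3506, 1, 6⟩) (.one ⟨343, 2, 5⟩)) (.node 1 (.one ⟨13853, 4, 6⟩) (.one ⟨10035, 0, 5⟩))) (.node 2 (.node 1 (.one ⟨15019, 2, 6⟩) (.one ⟨16556, 3, 4⟩)) (.node 1 (.one ⟨13799, 0, 6⟩) (.one ⟨3784, 2, 6⟩)))))) (.node 16 (.node 8 (.node 4 (.node 2 (.node 1 (.one ⟨2820, 2, 6⟩) (.one ⟨13083, 2, 4⟩)) (.node 1 (.one ⟨9921, 3, 4⟩) (.one ⟨6155, 3, 2⟩))) (.node 2 (.node 1 (.one ⟨5101, 2, 5⟩) (.one ⟨15063, 4, 6⟩)) (.node 1 (.one ⟨5858, 4, 5⟩) (.one ⟨12466, 0, 6⟩)))) (.node 4 (.node 2 (.node 1 (.one ⟨10053, 1, 6⟩) (.one ⟨16567, 4, 6⟩)) (.node 1 (.one ⟨1274, 3, 6⟩) (.one ⟨13004, 4, 6⟩))) (.node 2 (.node 1 (.one ⟨13653, 4, 5⟩) (.one ⟨8601,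 4, 6⟩)) (.node 1 (.one ⟨13797, 1, 4⟩) (.one ⟨2718, 0, 4⟩))))) (.node 8 (.node 4 (.node 2 (.node 1 (.one ⟨16401, 1, 6⟩) (.one ⟨10075, 3, 7⟩)) (.node 1 (.one ⟨4327, 1, 6⟩) (.one ⟨11250, 3, 6⟩))) (.node 2 (.node 1 (.one ⟨9845, 4, 5⟩) (.one ⟨4954, 3, 4⟩)) (.node 1 (.one ⟨7908, 1, 6⟩) (.one ⟨10193, 3, 4⟩)))) (.node 4 (.node 2 (.node 1 (.one ⟨2675, 0, 7⟩) (.one ⟨11815, 1, 5⟩)) (.node 1 (.one ⟨4188, 3, 5⟩) (.one ⟨13651, 1, 6⟩))) (.node 2 (.node 1 (.one ⟨8357, 2, 5⟩) (.one ⟨16400, 2, 5⟩)) (.node 1 (.one ⟨84, 4, 4⟩) (.one ⟨10385, 3, 5⟩)))))))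
def par1_9_9 : Arr Par :=
  (.node 32 (.node 16 (.node 8 (.node 4 (.node 2 (.node 1 (.one ⟨6307, 2, 7⟩) (.one ⟨16806, 4, 6⟩)) (.node 1 (.one ⟨14413, 3, 7⟩) (.one ⟨5950, 3, 6⟩))) (.node 2 (.node 1 (.one ⟨8364, 1, 6⟩) (.one ⟨4614, 4, 7⟩)) (.node 1 (.one ⟨569, 4, 6⟩) (.one ⟨7873, 3, 6⟩)))) (.node 4 (.node 2 (.node 1 (.one ⟨8318, 1, 6⟩) (.one ⟨407, 2, 6⟩)) (.node 1 (.one ⟨4036, 0, 7⟩) (.one ⟨15074, 2, 3⟩))) (.node 2 (.node 1 (.one ⟨2241, 1, 5⟩) (.one ⟨13619, 1, 3⟩)) (.node 1 (.one ⟨8307, 2, 6⟩) (.one ⟨11458, 2, 5⟩))))) (.node 8 (.node 4 (.node 2 (.node 1 (.one ⟨16781, 3, 6⟩) (.one ⟨10340, 1, 5⟩)) (.node 1 (.one ⟨15668, 4, 5⟩) (.one ⟨11560, 3, 4⟩))) (.node 2 (.node 1 (.one ⟨3615, 0, 6⟩) (.one ⟨2679, 0, 4⟩)) (.node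 1 (.one ⟨12462, 3, 5⟩) (.one ⟨981, 2, 6⟩)))) (.node 4 (.node 2 (.node 1 (.one ⟨7915, 1, 6⟩) (.one ⟨11814, 3, 6⟩)) (.node 1 (.one ⟨12590, 3, 6⟩) (.one ⟨11942, 3, 6⟩))) (.node 2 (.node 1 (.one ⟨8310, 2, 5⟩) (.one ⟨10731, 3, 5⟩)) (.node 1 (.one ⟨9951, 3, 6⟩) (.one ⟨4108, 4, 5⟩)))))) (.node 16 (.node 8 (.node 4 (.node 2 (.node 1 (.one ⟨11901, 0, 6⟩) (.one ⟨1436, 3, 7⟩)) (.node 1 (.one ⟨2282, 3, 6⟩) (.one ⟨10778, 0, 4⟩))) (.node 2 (.node 1 (.one ⟨15850, 2, 5⟩) (.one ⟨16407, 4, 6⟩)) (.node 1 (.one ⟨9283, 4, 4⟩) (.one ⟨3077, 4, 4⟩)))) (.node 4 (.node 2 (.node 1 (.one ⟨10739, 0, 5⟩) (.one ⟨6011, 3, 7⟩)) (.node 1 (.one ⟨6245, 2, 4⟩) (.one ⟨7812, 2, 5⟩))) (.node 2 (.node 1 (.one ⟨2750, 4, 6⟩) (.one ⟨6403, 3, 5⟩)) (.node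 1 (.one ⟨2421, 0, 6⟩) (.one ⟨15754, 0, 4⟩))))) (.node 8 (.node 4 (.node 2 (.node 1 (.one ⟨9963, 0, 6⟩) (.one ⟨1507, 2, 6⟩)) (.node 1 (.one ⟨13223, 3, 5⟩) (.one ⟨12001, 4, 6⟩))) (.node 2 (.node 1 (.one ⟨10282, 1, 6⟩) (.one ⟨3421, 4, 4⟩)) (.node 1 (.one ⟨1322, 3, 6⟩) (.one ⟨4083, 1, 7⟩)))) (.node 4 (.node 2 (.node 1 (.one ⟨8165, 3, 7⟩) (.one ⟨442, 0, 5⟩)) (.node 1 (.one ⟨4154, 4, 5⟩) (.one ⟨8112, 2, 5⟩))) (.node 2 (.node 1 (.one ⟨8565, 3, 5⟩) (.one ⟨4309, 0, 6⟩)) (.node 1 (.one ⟨12066, 4, 6⟩) (.one ⟨3537, 1, 7⟩)))))))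
def par1_9_10 : Arr Par :=
  (.node 32 (.node 16 (.node 8 (.node 4 (.node 2 (.node 1 (.one ⟨1847, 0, 3⟩) (.one ⟨1805, 4, 4⟩)) (.node 1 (.one ⟨509, 0, 5⟩) (.one ⟨9576, 2, 7⟩))) (.node 2 (.node 1 (.one ⟨1848, 2, 6⟩) (.one ⟨7766, 3, 5⟩)) (.node 1 (.one ⟨2971, 3, 5⟩) (.one ⟨9928, 0, 6⟩)))) (.node 4 (.node 2 (.node 1 (.one ⟨11569, 4, 6⟩) (.one ⟨4277, 0, 6⟩)) (.node 1 (.one ⟨3528, 1, 5⟩) (.one ⟨12040, 0, 5⟩))) (.node 2 (.node 1 (.one ⟨17018, 4, 6⟩) (.one ⟨69, 3, 6⟩)) (.node 1 (.one ⟨10793, 4, 5⟩) (.one ⟨905, 0, 3⟩))))) (.node 8 (.node 4 (.node 2 (.node 1 (.one ⟨9856, 1, 4⟩) (.one ⟨14561, 0, 6⟩)) (.node 1 (.one ⟨2169, 1, 6⟩) (.one ⟨12335, 0, 5⟩))) (.node 2 (.node 1 (.one ⟨4723, 4, 7⟩) (.one ⟨11594, 1, 7⟩)) (.node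 1 (.one ⟨6481, 3, 5⟩) (.one ⟨3026, 3, 6⟩)))) (.node 4 (.node 2 (.node 1 (.one ⟨2448, 4, 5⟩) (.one ⟨13013, 4, 6⟩)) (.node 1 (.one ⟨2189, 1, 5⟩) (.one ⟨7778, 3, 5⟩))) (.node 2 (.node 1 (.one ⟨11044, 3, 5⟩) (.one ⟨12502, 3, 5⟩)) (.node 1 (.one ⟨7233, 3, 4⟩) (.one ⟨7033, 2, 6⟩)))))) (.node 16 (.node 8 (.node 4 (.node 2 (.node 1 (.one ⟨6193, 4, 5⟩) (.one ⟨4515, 1, 5⟩)) (.node 1 (.one ⟨14360, 0, 6⟩) (.one ⟨12367, 0, 6⟩))) (.node 2 (.node 1 (.one ⟨10830, 2, 6⟩) (.one ⟨6600, 2, 5⟩)) (.node 1 (.one ⟨3464, 2, 6⟩) (.one ⟨1319, 3, 5⟩)))) (.node 4 (.node 2 (.node 1 (.one ⟨12177, 1, 5⟩) (.one ⟨14083, 2, 5⟩)) (.node 1 (.one ⟨6512, 3, 5⟩) (.one ⟨3796, 1, 5⟩))) (.node 2 (.node 1 (.one ⟨16402, 2, 5⟩) (.one ⟨12024, 4, 6⟩)) (.node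 1 (.one ⟨17178, 3, 6⟩) (.one ⟨9216, 3, 5⟩))))) (.node 8 (.node 4 (.node 2 (.node 1 (.one ⟨16607, 3, 5⟩) (.one ⟨2353, 2, 4⟩)) (.node 1 (.one ⟨14880, 3, 4⟩) (.one ⟨11945, 3, 6⟩))) (.node 2 (.node 1 (.one ⟨9803, 4, 4⟩) (.one ⟨9128, 4, 5⟩)) (.node 1 (.one ⟨16585, 3, 4⟩) (.one ⟨261, 1, 5⟩)))) (.node 4 (.node 2 (.node 1 (.one ⟨6167, 4, 5⟩) (.one ⟨12426, 1, 6⟩)) (.node 1 (.one ⟨2578, 2, 6⟩) (.one ⟨10550, 2, 7⟩))) (.node 2 (.node 1 (.one ⟨11728, 1, 5⟩) (.one ⟨2500, 2, 6⟩)) (.node 1 (.one ⟨6175, 4, 6⟩) (.one ⟨2290, 0, 7⟩)))))))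
def par1_9_11 : Arr Par :=
  (.node 32 (.node 16 (.node 8 (.node 4 (.node 2 (.node 1 (.one ⟨261, 0, 5⟩) (.one ⟨8408, 3, 3⟩)) (.node 1 (.one ⟨12426, 0, 6⟩) (.one ⟨801, 1, 6⟩))) (.node 2 (.node 1 (.one ⟨15109, 3, 4⟩) (.one ⟨14958, 2, 6⟩)) (.node 1 (.one ⟨13387, 3, 7⟩) (.one ⟨15984, 4, 6⟩)))) (.node 4 (.node 2 (.node 1 (.one ⟨8611, 4, 5⟩) (.one ⟨667, 1, 5⟩)) (.node 1 (.one ⟨1691, 3, 5⟩) (.one ⟨15592, 3, 4⟩))) (.node 2 (.node 1 (.one ⟨2337, 0, 4⟩) (.one ⟨716, 0, 6⟩)) (.node 1 (.one ⟨8292, 1, 6⟩) (.one ⟨8244, 1, 5⟩))))) (.node 8 (.node 4 (.node 2 (.node 1 (.one ⟨2192, 2, 5⟩) (.one ⟨8244, 0, 5⟩)) (.node 1 (.one ⟨741, 1, 7⟩) (.one ⟨8538, 3, 6⟩))) (.node 2 (.node 1 (.one ⟨11603, 4, 5⟩) (.one ⟨10647, 4, 6⟩)) (.node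 1 (.one ⟨8539, 3, 7⟩) (.one ⟨16361, 1, 6⟩)))) (.node 4 (.node 2 (.node 1 (.one ⟨6179, 4, 5⟩) (.one ⟨185, 1, 5⟩)) (.node 1 (.one ⟨4366, 0, 6⟩) (.one ⟨12792, 4, 6⟩))) (.node 2 (.node 1 (.one ⟨5643, 0, 6⟩) (.one ⟨14884, 3, 5⟩)) (.node 1 (.one ⟨4314, 1, 5⟩) (.one ⟨16722, 4, 5⟩)))))) (.node 16 (.node 8 (.node 4 (.node 2 (.node 1 (.one ⟨2337, 1, 4⟩) (.one ⟨3291, 3, 4⟩)) (.node 1 (.one ⟨3533, 4, 5⟩) (.one ⟨10372, 0, 6⟩))) (.node 2 (.node 1 (.one ⟨716, 1, 6⟩) (.one ⟨1025, 4, 5⟩)) (.node 1 (.one ⟨7258, 2, 6⟩) (.one ⟨9211, 3, 7⟩)))) (.node 4 (.node 2 (.node 1 (.one ⟨2515, 2, 6⟩) (.one ⟨5073, 4, 6⟩)) (.node 1 (.one ⟨6992, 3, 5⟩) (.one ⟨10757, 3, 5⟩))) (.node 2 (.node 1 (.one ⟨11596, 3, 5⟩) (.one ⟨4422, 4, 6⟩)) (.node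 1 (.one ⟨2655, 4, 4⟩) (.one ⟨5309, 4, 5⟩))))) (.node 8 (.node 4 (.node 2 (.node 1 (.one ⟨2346, 4, 6⟩) (.one ⟨13918, 3, 5⟩)) (.node 1 (.one ⟨11311, 3, 5⟩) (.one ⟨2718, 1, 4⟩))) (.node 2 (.node 1 (.one ⟨2357, 0, 5⟩) (.one ⟨15547, 3, 5⟩)) (.node 1 (.one ⟨8035, 0, 6⟩) (.one ⟨8035, 2, 6⟩)))) (.node 4 (.node 2 (.node 1 (.one ⟨13461, 3, 5⟩) (.one ⟨669, 4, 5⟩)) (.node 1 (.one ⟨414, 2, 6⟩) (.one ⟨197, 2, 6⟩))) (.node 2 (.node 1 (.one ⟨16295, 0, 6⟩) (.one ⟨3627, 3, 4⟩)) (.node 1 (.one ⟨9678, 3, 5⟩) (.one ⟨15943, 2, 4⟩)))))))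
def par1_9_12 : Arr Par :=
  (.node 32 (.node 16 (.node 8 (.node 4 (.node 2 (.node 1 (.one ⟨1349, 3, 6⟩) (.one ⟨12158, 0, 5⟩)) (.node 1 (.one ⟨11682, 1, 6⟩) (.one ⟨9241, 4, 4⟩))) (.node 2 (.node 1 (.one ⟨15463, 2, 4⟩) (.one ⟨16084, 2, 6⟩)) (.node 1 (.one ⟨1642, 2, 5⟩) (.one ⟨6492, 2, 5⟩)))) (.node 4 (.node 2 (.node 1 (.one ⟨5581, 3, 5⟩) (.one ⟨5267, 2, 5⟩)) (.node 1 (.one ⟨10739, 1, 5⟩) (.one ⟨6168, 0, 5⟩))) (.node 2 (.node 1 (.one ⟨2421, 1, 6⟩) (.one ⟨10203, 4, 4⟩)) (.node 1 (.one ⟨12740, 3, 6⟩) (.one ⟨679, 4, 5⟩))))) (.node 8 (.node 4 (.node 2 (.node 1 (.one ⟨2469, 1, 6⟩) (.one ⟨5129, 4, 6⟩)) (.node 1 (.one ⟨3576, 1, 6⟩) (.one ⟨11940, 0, 6⟩))) (.node 2 (.node 1 (.one ⟨12206, 0, 7⟩) (.one ⟨15295, 2, 5⟩)) (.node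 1 (.one ⟨10190, 0, 6⟩) (.one ⟨11560, 4, 4⟩)))) (.node 4 (.node 2 (.node 1 (.one ⟨4068, 4, 5⟩) (.one ⟨5043, 2, 5⟩)) (.node 1 (.one ⟨12127, 1, 6⟩) (.one ⟨2822, 3, 4⟩))) (.node 2 (.node 1 (.one ⟨12000, 3, 5⟩) (.one ⟨8982, 2, 6⟩)) (.node 1 (.one ⟨3830, 0, 5⟩) (.one ⟨13630, 3, 6⟩)))))) (.node 16 (.node 8 (.node 4 (.node 2 (.node 1 (.one ⟨5057, 3, 6⟩) (.one ⟨9248, 2, 6⟩)) (.node 1 (.one ⟨16069, 0, 6⟩) (.one ⟨2404, 0, 7⟩))) (.node 2 (.node 1 (.one ⟨1863, 2, 6⟩) (.one ⟨14235, 0, 4⟩)) (.node 1 (.one ⟨4556, 3, 4⟩) (.one ⟨2187, 1, 6⟩)))) (.node 4 (.node 2 (.node 1 (.one ⟨17126, 3, 5⟩) (.one ⟨10285, 0, 6⟩)) (.node 1 (.one ⟨9068, 3, 6⟩) (.one ⟨13557, 3, 4⟩))) (.node 2 (.node 1 (.one ⟨379, 3, 6⟩) (.one ⟨10640, 4, 6⟩)) (.node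 1 (.one ⟨12585, 4, 5⟩) (.one ⟨12382, 1, 6⟩))))) (.node 8 (.node 4 (.node 2 (.node 1 (.one ⟨8622, 3, 5⟩) (.one ⟨11586, 0, 4⟩)) (.node 1 (.one ⟨15862, 3, 5⟩) (.one ⟨13741, 2, 4⟩))) (.node 2 (.node 1 (.one ⟨9538, 3, 5⟩) (.one ⟨11593, 3, 6⟩)) (.node 1 (.one ⟨2320, 2, 5⟩) (.one ⟨13927, 0, 6⟩)))) (.node 4 (.node 2 (.node 1 (.one ⟨3251, 4, 4⟩) (.one ⟨11347, 4, 5⟩)) (.node 1 (.one ⟨828, 1, 5⟩) (.one ⟨12938, 2, 5⟩))) (.node 2 (.node 1 (.one ⟨4891, 2, 6⟩) (.one ⟨4157, 1, 4⟩)) (.node 1 (.one ⟨12949, 2, 6⟩) (.one ⟨7110, 1, 5⟩)))))))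
def par1_9_13 : Arr Par :=
  (.node 32 (.node 16 (.node 8 (.node 4 (.node 2 (.node 1 (.one ⟨9688, 1, 5⟩) (.one ⟨12689, 2, 5⟩)) (.node 1 (.one ⟨1069, 4, 7⟩) (.one ⟨13523, 3, 5⟩))) (.node 2 (.node 1 (.one ⟨1755, 2, 6⟩) (.one ⟨13785, 4, 5⟩)) (.node 1 (.one ⟨509, 4, 5⟩) (.one ⟨7188, 1, 6⟩)))) (.node 4 (.node 2 (.node 1 (.one ⟨4699, 4, 5⟩) (.one ⟨7114, 1, 7⟩)) (.node 1 (.one ⟨4660, 2, 4⟩) (.one ⟨4713, 2, 4⟩))) (.node 2 (.node 1 (.one ⟨1161, 2, 6⟩) (.one ⟨9158, 4, 6⟩)) (.node 1 (.one ⟨3459, 3, 6⟩) (.one ⟨15729, 4, 5⟩))))) (.node 8 (.node 4 (.node 2 (.node 1 (.one ⟨9771, 1, 7⟩) (.one ⟨15785, 4, 5⟩)) (.node 1 (.one ⟨3848, 2, 6⟩) (.one ⟨2218, 2, 4⟩))) (.node 2 (.node 1 (.one ⟨10253, 2, 6⟩) (.one ⟨5576, 4, 3⟩)) (.node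 1 (.one ⟨1570, 1, 6⟩) (.one ⟨5694, 0, 6⟩)))) (.node 4 (.node 2 (.node 1 (.one ⟨15240, 1, 6⟩) (.one ⟨14283, 4, 4⟩)) (.node 1 (.one ⟨13389, 3, 6⟩) (.one ⟨17029, 4, 6⟩))) (.node 2 (.node 1 (.one ⟨15189, 1, 4⟩) (.one ⟨15071, 4, 3⟩)) (.node 1 (.one ⟨11464, 4, 5⟩) (.one ⟨5792, 0, 6⟩)))))) (.node 16 (.node 8 (.node 4 (.node 2 (.node 1 (.one ⟨13461, 2, 5⟩) (.one ⟨16408, 2, 6⟩)) (.node 1 (.one ⟨12298, 1, 5⟩) (.one ⟨8289, 4, 6⟩))) (.node 2 (.node 1 (.one ⟨5944, 3, 5⟩) (.one ⟨13148, 3, 6⟩)) (.node 1 (.one ⟨2034, 0, 6⟩) (.one ⟨9755, 1, 6⟩)))) (.node 4 (.node 2 (.node 1 (.one ⟨4388, 1, 6⟩) (.one ⟨624, 2, 5⟩)) (.node 1 (.one ⟨13797, 0, 4⟩) (.one ⟨1832, 4, 4⟩))) (.node 2 (.node 1 (.one ⟨8059, 0, 6⟩) (.one ⟨4729, 3, 6⟩)) (.node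 1 (.one ⟨6244, 2, 6⟩) (.one ⟨6263, 4, 7⟩))))) (.node 8 (.node 4 (.node 2 (.node 1 (.one ⟨8521, 2, 5⟩) (.one ⟨206, 3, 5⟩)) (.node 1 (.one ⟨3608, 4, 7⟩) (.one ⟨14951, 3, 6⟩))) (.node 2 (.node 1 (.one ⟨11950, 2, 6⟩) (.one ⟨6539, 2, 5⟩)) (.node 1 (.one ⟨7078, 0, 6⟩) (.one ⟨216, 4, 6⟩)))) (.node 4 (.node 2 (.node 1 (.one ⟨15329, 1, 7⟩) (.one ⟨4292, 2, 5⟩)) (.node 1 (.one ⟨15620, 2, 4⟩) (.one ⟨8641, 2, 6⟩))) (.node 2 (.node 1 (.one ⟨6192, 3, 7⟩) (.one ⟨13487, 3, 6⟩)) (.node 1 (.one ⟨15091, 0, 6⟩) (.one ⟨12339, 1, 6⟩)))))))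
def par1_9_14 : Arr Par :=
  (.node 32 (.node 16 (.node 8 (.node 4 (.node 2 (.node 1 (.one ⟨372, 1, 3⟩) (.one ⟨5128, 2, 6⟩)) (.node 1 (.one ⟨4274, 4, 6⟩) (.one ⟨7888, 4, 6⟩))) (.node 2 (.node 1 (.one ⟨8626, 3, 5⟩) (.one ⟨7710, 3, 4⟩)) (.node 1 (.one ⟨9663, 1, 5⟩) (.one ⟨12364, 1, 7⟩)))) (.node 4 (.node 2 (.node 1 (.one ⟨12449, 1, 4⟩) (.one ⟨5703, 0, 5⟩)) (.node 1 (.one ⟨9508, 4, 5⟩) (.one ⟨8083, 0, 5⟩))) (.node 2 (.node 1 (.one ⟨6416, 2, 6⟩) (.one ⟨6279, 4, 6⟩)) (.node 1 (.one ⟨10221, 0, 5⟩) (.one ⟨219, 4, 5⟩))))) (.node 8 (.node 4 (.node 2 (.node 1 (.one ⟨16926, 4, 5⟩) (.one ⟨3528, 4, 5⟩)) (.node 1 (.one ⟨11272, 3, 6⟩) (.one ⟨14863, 2, 7⟩))) (.node 2 (.node 1 (.one ⟨1990, 0, 6⟩) (.one ⟨11637, 0, 7⟩)) (.node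 1 (.one ⟨8029, 0, 6⟩) (.one ⟨863, 1, 6⟩)))) (.node 4 (.node 2 (.node 1 (.one ⟨11578, 0, 6⟩) (.one ⟨9759, 1, 7⟩)) (.node 1 (.one ⟨2259, 2, 6⟩) (.one ⟨16582, 4, 5⟩))) (.node 2 (.node 1 (.one ⟨14921, 4, 7⟩) (.one ⟨16458, 3, 5⟩)) (.node 1 (.one ⟨1141, 2, 5⟩) (.one ⟨16947, 3, 6⟩)))))) (.node 16 (.node 8 (.node 4 (.node 2 (.node 1 (.one ⟨14620, 4, 6⟩) (.one ⟨11873, 3, 5⟩)) (.node 1 (.one ⟨3945, 3, 5⟩) (.one ⟨5959, 4, 2⟩))) (.node 2 (.node 1 (.one ⟨13057, 4, 4⟩) (.one ⟨6881, 3, 5⟩)) (.node 1 (.one ⟨15465, 3, 5⟩) (.one ⟨15247, 1, 6⟩)))) (.node 4 (.node 2 (.node 1 (.one ⟨14582, 4, 6⟩) (.one ⟨2796, 0, 5⟩)) (.node 1 (.one ⟨5727, 2, 7⟩) (.one ⟨11436, 2, 5⟩))) (.node 2 (.node 1 (.one ⟨15146, 0, 3⟩) (.one ⟨3618, 2, 6⟩))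 (.node 1 (.one ⟨11433, 4, 3⟩) (.one ⟨16025, 3, 6⟩))))) (.node 8 (.node 4 (.node 2 (.node 1 (.one ⟨15398, 4, 6⟩) (.one ⟨13002, 3, 5⟩)) (.node 1 (.one ⟨11525, 2, 6⟩) (.one ⟨15326, 2, 4⟩))) (.node 2 (.node 1 (.one ⟨238, 3, 5⟩) (.one ⟨2166, 1, 6⟩)) (.node 1 (.one ⟨6681, 3, 5⟩) (.one ⟨16017, 2, 6⟩)))) (.node 4 (.node 2 (.node 1 (.one ⟨10173, 2, 6⟩) (.one ⟨6185, 3, 6⟩)) (.node 1 (.one ⟨2559, 0, 7⟩) (.one ⟨9158, 2, 6⟩))) (.node 2 (.node 1 (.one ⟨1140, 4, 6⟩) (.one ⟨10757, 1, 5⟩)) (.node 1 (.one ⟨2097, 2, 5⟩) (.one ⟨13961, 1, 5⟩)))))))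
def par1_9_15 : Arr Par :=
  (.node 32 (.node 16 (.node 8 (.node 4 (.node 2 (.node 1 (.one ⟨7704, 4, 3⟩) (.one ⟨14731, 3, 7⟩)) (.node 1 (.one ⟨10129, 1, 6⟩) (.one ⟨15292, 4, 5⟩))) (.node 2 (.node 1 (.one ⟨14730, 3, 5⟩) (.one ⟨5534, 4, 5⟩)) (.node 1 (.one ⟨14733, 3, 5⟩) (.one ⟨10078, 1, 6⟩)))) (.node 4 (.node 2 (.node 1 (.one ⟨4615, 2, 5⟩) (.one ⟨11663, 4, 6⟩)) (.node 1 (.one ⟨6403, 4, 5⟩) (.one ⟨14399, 1, 5⟩))) (.node 2 (.node 1 (.one ⟨6769, 2, 5⟩) (.one ⟨12984, 2, 6⟩)) (.node 1 (.one ⟨10649, 0, 5⟩) (.one ⟨9737, 2, 7⟩))))) (.node 8 (.node 4 (.node 2 (.node 1 (.one ⟨7307, 3, 6⟩) (.one ⟨1094, 0, 3⟩)) (.node 1 (.one ⟨637, 4, 7⟩) (.one ⟨304, 4, 6⟩))) (.node 2 (.node 1 (.one ⟨15422, 3, 6⟩) (.one ⟨992, 4, 5⟩)) (.node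 1 (.one ⟨8712, 3, 5⟩) (.one ⟨1838, 4, 6⟩)))) (.node 4 (.node 2 (.node 1 (.one ⟨2601, 0, 7⟩) (.one ⟨918, 2, 6⟩)) (.node 1 (.one ⟨5641, 4, 5⟩) (.one ⟨10707, 1, 3⟩))) (.node 2 (.node 1 (.one ⟨1153, 0, 5⟩) (.one ⟨9889, 4, 6⟩)) (.node 1 (.one ⟨2201, 1, 3⟩) (.one ⟨1088, 0, 3⟩)))))) (.node 16 (.node 8 (.node 4 (.node 2 (.node 1 (.one ⟨662, 4, 5⟩) (.one ⟨8805, 0, 5⟩)) (.node 1 (.one ⟨13382, 0, 5⟩) (.one ⟨13388, 0, 5⟩))) (.node 2 (.node 1 (.one ⟨8810, 0, 6⟩) (.one ⟨2538, 3, 6⟩)) (.node 1 (.one ⟨9676, 2, 4⟩) (.one ⟨8347, 3, 6⟩)))) (.node 4 (.node 2 (.node 1 (.one ⟨15154, 2, 6⟩) (.one ⟨15554, 4, 7⟩)) (.node 1 (.one ⟨2655, 1, 4⟩) (.one ⟨10667, 4, 6⟩))) (.node 2 (.node 1 (.one ⟨6016, 2, 2⟩) (.one ⟨16311, 2, 4⟩)) (.node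 1 (.one ⟨12946, 2, 4⟩) (.one ⟨13884, 1, 4⟩))))) (.node 8 (.node 4 (.node 2 (.node 1 (.one ⟨4347, 2, 6⟩) (.one ⟨14048, 0, 6⟩)) (.node 1 (.one ⟨13503, 1, 6⟩) (.one ⟨10126, 1, 6⟩))) (.node 2 (.node 1 (.one ⟨4345, 2, 6⟩) (.one ⟨10244, 1, 6⟩)) (.node 1 (.one ⟨17063, 1, 5⟩) (.one ⟨14441, 1, 6⟩)))) (.node 4 (.node 2 (.node 1 (.one ⟨10794, 1, 5⟩) (.one ⟨17159, 2, 5⟩)) (.node 1 (.one ⟨2222, 4, 6⟩) (.one ⟨5586, 2, 2⟩))) (.node 2 (.node 1 (.one ⟨1116, 2, 6⟩) (.one ⟨15163, 2, 6⟩)) (.node 1 (.one ⟨5965, 4, 5⟩) (.one ⟨10118, 1, 6⟩)))))))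
def par1_9 : Arr Par :=
  (.node 512 (.node 256 (.node 128 (.node 64 par1_9_0 par1_9_1) (.node 64 par1_9_2 par1_9_3)) (.node 128 (.node 64 par1_9_4 par1_9_5) (.node 64 par1_9_6 par1_9_7))) (.node 256 (.node 128 (.node 64 par1_9_8 par1_9_9) (.node 64 par1_9_10 par1_9_11)) (.node 128 (.node 64 par1_9_12 par1_9_13) (.node 64 par1_9_14 par1_9_15))))
def par1_10_0 : Arr Par :=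
  (.node 32 (.node 16 (.node 8 (.node 4 (.node 2 (.node 1 (.one ⟨10012, 2, 6⟩) (.one ⟨800, 0, 6⟩)) (.node 1 (.one ⟨7722, 4, 3⟩) (.one ⟨7543, 2, 5⟩))) (.node 2 (.node 1 (.one ⟨4265, 2, 5⟩) (.one ⟨9172, 2, 6⟩)) (.node 1 (.one ⟨15345, 4, 6⟩) (.one ⟨11622, 2, 6⟩)))) (.node 4 (.node 2 (.node 1 (.one ⟨9950, 2, 6⟩) (.one ⟨15347, 4, 6⟩)) (.node 1 (.one ⟨15496, 3, 2⟩) (.one ⟨1156, 0, 6⟩))) (.node 2 (.node 1 (.one ⟨6515, 4, 6⟩) (.one ⟨9627, 3, 5⟩)) (.node 1 (.one ⟨9587, 2, 6⟩) (.one ⟨10043, 1, 6⟩))))) (.node 8 (.node 4 (.node 2 (.node 1 (.one ⟨6067, 2, 4⟩) (.one ⟨1096, 0, 5⟩)) (.node 1 (.one ⟨16193, 2, 6⟩) (.one ⟨137, 2, 5⟩))) (.node 2 (.node 1 (.one ⟨16920, 0, 5⟩) (.one ⟨4754, 3, 6⟩)) (.node 1 (.one ⟨16642, 2, 6⟩) (.one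 ⟨16904, 2, 6⟩)))) (.node 4 (.node 2 (.node 1 (.one ⟨6829, 2, 6⟩) (.one ⟨13923, 1, 5⟩)) (.node 1 (.one ⟨3291, 2, 4⟩) (.one ⟨11595, 2, 6⟩))) (.node 2 (.node 1 (.one ⟨1940, 3, 3⟩) (.one ⟨652, 0, 6⟩)) (.node 1 (.one ⟨5592, 2, 4⟩) (.one ⟨4250, 4, 4⟩)))))) (.node 16 (.node 8 (.node 4 (.node 2 (.node 1 (.one ⟨13511, 2, 2⟩) (.one ⟨248, 3, 5⟩)) (.node 1 (.one ⟨2368, 4, 4⟩) (.one ⟨3833, 4, 6⟩))) (.node 2 (.node 1 (.one ⟨17048, 1, 3⟩) (.one ⟨13552, 1, 5⟩)) (.node 1 (.one ⟨1259, 4, 6⟩) (.one ⟨4585, 4, 6⟩)))) (.node 4 (.node 2 (.node 1 (.one ⟨14098, 0, 7⟩) (.one ⟨8688, 3, 7⟩)) (.node 1 (.one ⟨10592, 0, 5⟩) (.one ⟨13743, 1, 6⟩))) (.node 2 (.node 1 (.one ⟨6794, 3, 6⟩) (.one ⟨9663, 4, 5⟩)) (.node 1 (.one ⟨6270, 0, 5⟩) (.one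 ⟨14591, 1, 7⟩))))) (.node 8 (.node 4 (.node 2 (.node 1 (.one ⟨7182, 2, 6⟩) (.one ⟨3186, 1, 6⟩)) (.node 1 (.one ⟨6111, 4, 6⟩) (.one ⟨5214, 3, 6⟩))) (.node 2 (.node 1 (.one ⟨11176, 4, 6⟩) (.one ⟨15497, 3, 7⟩)) (.node 1 (.one ⟨10867, 2, 5⟩) (.one ⟨11727, 2, 5⟩)))) (.node 4 (.node 2 (.node 1 (.one ⟨12664, 4, 6⟩) (.one ⟨8110, 2, 6⟩)) (.node 1 (.one ⟨4649, 4, 6⟩) (.one ⟨9294, 2, 6⟩))) (.node 2 (.node 1 (.one ⟨6294, 3, 6⟩) (.one ⟨5579, 1, 5⟩)) (.node 1 (.one ⟨3281, 2, 4⟩) (.one ⟨670, 3, 6⟩)))))))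
def par1_10_1 : Arr Par :=
  (.node 32 (.node 16 (.node 8 (.node 4 (.node 2 (.node 1 (.one ⟨4670, 3, 6⟩) (.one ⟨13628, 1, 6⟩)) (.node 1 (.one ⟨11879, 4, 6⟩) (.one ⟨14636, 1, 6⟩))) (.node 2 (.node 1 (.one ⟨5712, 0, 5⟩) (.one ⟨12505, 4, 6⟩)) (.node 1 (.one ⟨3261, 3, 5⟩) (.one ⟨14599, 1, 1⟩)))) (.node 4 (.node 2 (.node 1 (.one ⟨14164, 4, 4⟩) (.one ⟨1591, 2, 6⟩)) (.node 1 (.one ⟨10709, 4, 5⟩) (.one ⟨6300, 4, 6⟩))) (.node 2 (.node 1 (.one ⟨8648, 4, 5⟩) (.one ⟨1442, 4, 4⟩)) (.node 1 (.one ⟨14826, 3, 5⟩) (.one ⟨2697, 2, 7⟩))))) (.node 8 (.node 4 (.node 2 (.node 1 (.one ⟨9983, 2, 5⟩) (.one ⟨6175, 2, 6⟩)) (.node 1 (.one ⟨14629, 2, 6⟩) (.one ⟨5783, 4, 3⟩))) (.node 2 (.node 1 (.one ⟨14419, 2, 6⟩) (.one ⟨7550, 4, 4⟩))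 (.node 1 (.one ⟨9788, 2, 6⟩) (.one ⟨17051, 3, 7⟩)))) (.node 4 (.node 2 (.node 1 (.one ⟨13621, 1, 6⟩) (.one ⟨3232, 1, 6⟩)) (.node 1 (.one ⟨15931, 3, 6⟩) (.one ⟨6347, 0, 5⟩))) (.node 2 (.node 1 (.one ⟨1847, 2, 3⟩) (.one ⟨8572, 2, 7⟩)) (.node 1 (.one ⟨3948, 2, 4⟩) (.one ⟨16976, 3, 5⟩)))))) (.node 16 (.node 8 (.node 4 (.node 2 (.node 1 (.one ⟨12859, 3, 7⟩) (.one ⟨12205, 4, 5⟩)) (.node 1 (.one ⟨7349, 0, 6⟩) (.one ⟨14621, 1, 3⟩))) (.node 2 (.node 1 (.one ⟨10332, 2, 4⟩) (.one ⟨10421, 4, 4⟩)) (.node 1 (.one ⟨1734, 3, 6⟩) (.one ⟨8265, 4, 6⟩)))) (.node 4 (.node 2 (.node 1 (.one ⟨14588, 1, 5⟩) (.one ⟨2131, 3, 4⟩)) (.node 1 (.one ⟨406, 4, 6⟩) (.one ⟨2146, 3, 6⟩))) (.node 2 (.node 1 (.one ⟨14932, 1, 5⟩) (.one ⟨9321, 3,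 5⟩)) (.node 1 (.one ⟨13908, 2, 7⟩) (.one ⟨13705, 0, 6⟩))))) (.node 8 (.node 4 (.node 2 (.node 1 (.one ⟨13339, 2, 6⟩) (.one ⟨7354, 3, 6⟩)) (.node 1 (.one ⟨11397, 1, 7⟩) (.one ⟨8150, 2, 4⟩))) (.node 2 (.node 1 (.one ⟨7257, 2, 6⟩) (.one ⟨5010, 3, 6⟩)) (.node 1 (.one ⟨1136, 2, 6⟩) (.one ⟨14134, 1, 6⟩)))) (.node 4 (.node 2 (.node 1 (.one ⟨11465, 2, 5⟩) (.one ⟨3131, 0, 6⟩)) (.node 1 (.one ⟨13273, 4, 6⟩) (.one ⟨7749, 2, 6⟩))) (.node 2 (.node 1 (.one ⟨5642, 0, 6⟩) (.one ⟨5257, 4, 5⟩)) (.node 1 (.one ⟨12970, 4, 6⟩) (.one ⟨11344, 1, 6⟩)))))))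
def par1_10_2 : Arr Par :=
  (.node 32 (.node 16 (.node 8 (.node 4 (.node 2 (.node 1 (.one ⟨4388, 4, 6⟩) (.one ⟨4672, 2, 6⟩)) (.node 1 (.one ⟨8573, 3, 5⟩) (.one ⟨1727, 4, 2⟩))) (.node 2 (.node 1 (.one ⟨7673, 2, 5⟩) (.one ⟨4166, 2, 4⟩)) (.node 1 (.one ⟨7233, 4, 4⟩) (.one ⟨6273, 2, 6⟩)))) (.node 4 (.node 2 (.node 1 (.one ⟨6272, 2, 6⟩) (.one ⟨235, 2, 5⟩)) (.node 1 (.one ⟨5086, 3, 2⟩) (.one ⟨234, 2, 5⟩))) (.node 2 (.node 1 (.one ⟨11606, 4, 7⟩) (.one ⟨6274, 2, 5⟩)) (.node 1 (.one ⟨343, 3, 5⟩) (.one ⟨2489, 4, 5⟩))))) (.node 8 (.node 4 (.node 2 (.node 1 (.one ⟨15821, 4, 6⟩) (.one ⟨1293, 2, 4⟩)) (.node 1 (.one ⟨9685, 2, 7⟩) (.one ⟨6793, 4, 5⟩))) (.node 2 (.node 1 (.one ⟨17189, 2, 5⟩) (.one ⟨14176, 1, 4⟩)) (.node 1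 (.one ⟨15638, 3, 5⟩) (.one ⟨15479, 2, 6⟩)))) (.node 4 (.node 2 (.node 1 (.one ⟨7563, 3, 5⟩) (.one ⟨7561, 3, 7⟩)) (.node 1 (.one ⟨12568, 2, 6⟩) (.one ⟨15044, 1, 6⟩))) (.node 2 (.node 1 (.one ⟨11496, 1, 7⟩) (.one ⟨2531, 0, 5⟩)) (.node 1 (.one ⟨9624, 2, 5⟩) (.one ⟨14979, 0, 5⟩)))))) (.node 16 (.node 8 (.node 4 (.node 2 (.node 1 (.one ⟨6779, 1, 5⟩) (.one ⟨2515, 0, 6⟩)) (.node 1 (.one ⟨2654, 1, 5⟩) (.one ⟨10521, 1, 7⟩))) (.node 2 (.node 1 (.one ⟨13808, 1, 5⟩) (.one ⟨15273, 3, 6⟩)) (.node 1 (.one ⟨11473, 1, 6⟩) (.one ⟨10923, 3, 6⟩)))) (.node 4 (.node 2 (.node 1 (.one ⟨3400, 1, 6⟩) (.one ⟨13057, 3, 4⟩)) (.node 1 (.one ⟨4569, 3, 6⟩) (.one ⟨2567, 3, 3⟩))) (.node 2 (.node 1 (.one ⟨11608, 4, 5⟩) (.one ⟨2591, 0, 5⟩)) (.node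 1 (.one ⟨12473, 3, 6⟩) (.one ⟨2362, 4, 6⟩))))) (.node 8 (.node 4 (.node 2 (.node 1 (.one ⟨7518, 2, 6⟩) (.one ⟨16859, 3, 6⟩)) (.node 1 (.one ⟨12744, 0, 6⟩) (.one ⟨10325, 0, 5⟩))) (.node 2 (.node 1 (.one ⟨4959, 1, 7⟩) (.one ⟨5576, 1, 3⟩)) (.node 1 (.one ⟨8567, 1, 3⟩) (.one ⟨6235, 4, 2⟩)))) (.node 4 (.node 2 (.node 1 (.one ⟨11876, 3, 4⟩) (.one ⟨5656, 1, 4⟩)) (.node 1 (.one ⟨12725, 1, 4⟩) (.one ⟨16973, 2, 5⟩))) (.node 2 (.node 1 (.one ⟨1181, 4, 6⟩) (.one ⟨15014, 2, 6⟩)) (.node 1 (.one ⟨5060, 0, 5⟩) (.one ⟨9741, 3, 5⟩)))))))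
def par1_10_3 : Arr Par :=
  (.node 32 (.node 16 (.node 8 (.node 4 (.node 2 (.node 1 (.one ⟨8244, 2, 5⟩) (.one ⟨16552, 1, 4⟩)) (.node 1 (.one ⟨12761, 1, 6⟩) (.one ⟨6515, 0, 6⟩))) (.node 2 (.node 1 (.one ⟨11193, 2, 5⟩) (.one ⟨1028, 4, 5⟩)) (.node 1 (.one ⟨11901, 4, 6⟩) (.one ⟨5741, 2, 6⟩)))) (.node 4 (.node 2 (.node 1 (.one ⟨2615, 4, 5⟩) (.one ⟨12732, 1, 5⟩)) (.node 1 (.one ⟨1880, 4, 5⟩) (.one ⟨1664, 2, 5⟩))) (.node 2 (.node 1 (.one ⟨5653, 1, 4⟩) (.one ⟨14124, 1, 4⟩)) (.node 1 (.one ⟨17159, 3, 5⟩) (.one ⟨1065, 2, 5⟩))))) (.node 8 (.node 4 (.node 2 (.node 1 (.one ⟨1177, 4, 5⟩) (.one ⟨5598, 1, 5⟩)) (.node 1 (.one ⟨13001, 3, 6⟩) (.one ⟨14062, 0, 6⟩))) (.node 2 (.node 1 (.one ⟨8938, 2, 5⟩) (.one ⟨6029, 1, 5⟩)) (.node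 1 (.one ⟨12739, 0, 6⟩) (.one ⟨15453, 3, 7⟩)))) (.node 4 (.node 2 (.node 1 (.one ⟨11335, 4, 4⟩) (.one ⟨7205, 2, 5⟩)) (.node 1 (.one ⟨13112, 0, 6⟩) (.one ⟨8393, 1, 6⟩))) (.node 2 (.node 1 (.one ⟨12779, 0, 4⟩) (.one ⟨11467, 2, 5⟩)) (.node 1 (.one ⟨14379, 4, 5⟩) (.one ⟨8245, 2, 6⟩)))))) (.node 16 (.node 8 (.node 4 (.node 2 (.node 1 (.one ⟨15014, 3, 6⟩) (.one ⟨16120, 3, 6⟩)) (.node 1 (.one ⟨25, 0, 6⟩) (.one ⟨16706, 4, 5⟩))) (.node 2 (.node 1 (.one ⟨12745, 0, 6⟩) (.one ⟨4903, 3, 5⟩)) (.node 1 (.one ⟨12246, 3, 5⟩) (.one ⟨305, 1, 7⟩)))) (.node 4 (.node 2 (.node 1 (.one ⟨10995, 2, 6⟩) (.one ⟨6058, 1, 6⟩)) (.node 1 (.one ⟨2508, 4, 6⟩) (.one ⟨10348, 4, 6⟩))) (.node 2 (.node 1 (.one ⟨16357, 3, 5⟩) (.one ⟨1741, 2, 6⟩))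 (.node 1 (.one ⟨11182, 2, 6⟩) (.one ⟨11593, 2, 6⟩))))) (.node 8 (.node 4 (.node 2 (.node 1 (.one ⟨824, 2, 5⟩) (.one ⟨12751, 1, 6⟩)) (.node 1 (.one ⟨1382, 4, 5⟩) (.one ⟨2302, 3, 4⟩))) (.node 2 (.node 1 (.one ⟨15779, 2, 6⟩) (.one ⟨8236, 3, 3⟩)) (.node 1 (.one ⟨16676, 0, 5⟩) (.one ⟨6719, 3, 5⟩)))) (.node 4 (.node 2 (.node 1 (.one ⟨7854, 2, 4⟩) (.one ⟨6309, 3, 6⟩)) (.node 1 (.one ⟨13017, 4, 5⟩) (.one ⟨5950, 0, 6⟩))) (.node 2 (.node 1 (.one ⟨16972, 2, 5⟩) (.one ⟨10334, 3, 5⟩)) (.node 1 (.one ⟨10815, 4, 7⟩) (.one ⟨2373, 4, 6⟩)))))))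
def par1_10_4 : Arr Par :=
  (.node 32 (.node 16 (.node 8 (.node 4 (.node 2 (.node 1 (.one ⟨4956, 1, 5⟩) (.one ⟨6584, 4, 6⟩)) (.node 1 (.one ⟨17136, 2, 6⟩) (.one ⟨15095, 3, 5⟩))) (.node 2 (.node 1 (.one ⟨10538, 2, 5⟩) (.one ⟨2111, 2, 6⟩)) (.node 1 (.one ⟨16980, 2, 5⟩) (.one ⟨3259, 2, 6⟩)))) (.node 4 (.node 2 (.node 1 (.one ⟨1891, 1, 5⟩) (.one ⟨2539, 4, 3⟩)) (.node 1 (.one ⟨16484, 1, 6⟩) (.one ⟨10558, 4, 4⟩))) (.node 2 (.node 1 (.one ⟨10391, 0, 7⟩) (.one ⟨2552, 4, 5⟩)) (.node 1 (.one ⟨12729, 1, 4⟩) (.one ⟨13976, 2, 7⟩))))) (.node 8 (.node 4 (.node 2 (.node 1 (.one ⟨14039, 1, 4⟩) (.one ⟨16645, 0, 6⟩)) (.node 1 (.one ⟨8551, 1, 6⟩) (.one ⟨360, 1, 6⟩))) (.node 2 (.node 1 (.one ⟨16937, 3, 6⟩) (.one ⟨14516, 4, 6⟩))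 (.node 1 (.one ⟨8132, 4, 5⟩) (.one ⟨709, 4, 5⟩)))) (.node 4 (.node 2 (.node 1 (.one ⟨14091, 1, 5⟩) (.one ⟨8245, 3, 6⟩)) (.node 1 (.one ⟨11542, 2, 6⟩) (.one ⟨13081, 1, 7⟩))) (.node 2 (.node 1 (.one ⟨1262, 3, 6⟩) (.one ⟨8187, 2, 5⟩)) (.node 1 (.one ⟨13125, 0, 7⟩) (.one ⟨9369, 4, 6⟩)))))) (.node 16 (.node 8 (.node 4 (.node 2 (.node 1 (.one ⟨6992, 2, 5⟩) (.one ⟨14577, 0, 7⟩)) (.node 1 (.one ⟨16104, 3, 5⟩) (.one ⟨16497, 3, 5⟩))) (.node 2 (.node 1 (.one ⟨35, 4, 5⟩) (.one ⟨13648, 1, 5⟩)) (.node 1 (.one ⟨86, 4, 5⟩) (.one ⟨8073, 3, 7⟩)))) (.node 4 (.node 2 (.node 1 (.one ⟨8347, 2, 6⟩) (.one ⟨10122, 2, 6⟩)) (.node 1 (.one ⟨12771, 3, 4⟩) (.one ⟨12942, 4, 5⟩))) (.node 2 (.node 1 (.one ⟨17197, 3, 6⟩) (.one ⟨8508, 1, 5⟩))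 (.node 1 (.one ⟨5814, 4, 6⟩) (.one ⟨5656, 0, 4⟩))))) (.node 8 (.node 4 (.node 2 (.node 1 (.one ⟨16505, 3, 6⟩) (.one ⟨12725, 0, 4⟩)) (.node 1 (.one ⟨15402, 2, 5⟩) (.one ⟨9977, 2, 6⟩))) (.node 2 (.node 1 (.one ⟨14183, 2, 5⟩) (.one ⟨10209, 4, 6⟩)) (.node 1 (.one ⟨3326, 3, 6⟩) (.one ⟨12191, 2, 5⟩)))) (.node 4 (.node 2 (.node 1 (.one ⟨16971, 1, 6⟩) (.one ⟨12543, 2, 6⟩)) (.node 1 (.one ⟨2337, 2, 4⟩) (.one ⟨9103, 3, 5⟩))) (.node 2 (.node 1 (.one ⟨10011, 0, 5⟩) (.one ⟨8483, 0, 6⟩)) (.node 1 (.one ⟨1843, 2, 3⟩) (.one ⟨14801, 4, 6⟩)))))))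
def par1_10_5 : Arr Par :=
  (.node 32 (.node 16 (.node 8 (.node 4 (.node 2 (.node 1 (.one ⟨13027, 3, 6⟩) (.one ⟨7778, 4, 5⟩)) (.node 1 (.one ⟨6058, 0, 6⟩) (.one ⟨2780, 4, 6⟩))) (.node 2 (.node 1 (.one ⟨17181, 4, 6⟩) (.one ⟨6323, 3, 6⟩)) (.node 1 (.one ⟨6964, 2, 7⟩) (.one ⟨5020, 2, 6⟩)))) (.node 4 (.node 2 (.node 1 (.one ⟨12851, 2, 5⟩) (.one ⟨14365, 3, 7⟩)) (.node 1 (.one ⟨16420, 4, 5⟩) (.one ⟨11523, 2, 5⟩))) (.node 2 (.node 1 (.one ⟨15291, 4, 5⟩) (.one ⟨3225, 2, 5⟩)) (.node 1 (.one ⟨16534, 3, 6⟩) (.one ⟨2627, 1, 5⟩))))) (.node 8 (.node 4 (.node 2 (.node 1 (.one ⟨11568, 2, 6⟩) (.one ⟨2106, 4, 6⟩)) (.node 1 (.one ⟨16722, 1, 5⟩) (.one ⟨4577, 2, 6⟩))) (.node 2 (.node 1 (.one ⟨11204, 3, 5⟩) (.one ⟨14468, 2, 5⟩))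 (.node 1 (.one ⟨13068, 0, 4⟩) (.one ⟨15622, 2, 6⟩)))) (.node 4 (.node 2 (.node 1 (.one ⟨15419, 2, 5⟩) (.one ⟨4169, 3, 5⟩)) (.node 1 (.one ⟨16976, 1, 5⟩) (.one ⟨8567, 0, 3⟩))) (.node 2 (.node 1 (.one ⟨14872, 3, 5⟩) (.one ⟨5576, 0, 3⟩)) (.node 1 (.one ⟨8105, 4, 4⟩) (.one ⟨16679, 2, 6⟩)))))) (.node 16 (.node 8 (.node 4 (.node 2 (.node 1 (.one ⟨15109, 2, 4⟩) (.one ⟨6783, 2, 6⟩)) (.node 1 (.one ⟨14013, 0, 6⟩) (.one ⟨15120, 4, 5⟩))) (.node 2 (.node 1 (.one ⟨9006, 1, 6⟩) (.one ⟨1421, 4, 6⟩)) (.node 1 (.one ⟨13346, 3, 6⟩) (.one ⟨3566, 3, 5⟩)))) (.node 4 (.node 2 (.node 1 (.one ⟨6128, 1, 6⟩) (.one ⟨12210, 4, 6⟩)) (.node 1 (.one ⟨11876, 4, 4⟩) (.one ⟨15255, 2, 5⟩))) (.node 2 (.node 1 (.one ⟨5541, 1, 7⟩) (.one ⟨3181,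 2, 7⟩)) (.node 1 (.one ⟨16798, 1, 6⟩) (.one ⟨12729, 0, 4⟩))))) (.node 8 (.node 4 (.node 2 (.node 1 (.one ⟨5668, 0, 7⟩) (.one ⟨16484, 0, 6⟩)) (.node 1 (.one ⟨11835, 4, 6⟩) (.one ⟨16117, 3, 5⟩))) (.node 2 (.node 1 (.one ⟨7078, 4, 6⟩) (.one ⟨900, 3, 6⟩)) (.node 1 (.one ⟨1891, 0, 5⟩) (.one ⟨6185, 1, 6⟩)))) (.node 4 (.node 2 (.node 1 (.one ⟨5606, 0, 6⟩) (.one ⟨10759, 3, 1⟩)) (.node 1 (.one ⟨12761, 0, 6⟩) (.one ⟨8034, 4, 6⟩))) (.node 2 (.node 1 (.one ⟨3104, 2, 7⟩) (.one ⟨9937, 2, 6⟩)) (.node 1 (.one ⟨9515, 3, 4⟩) (.one ⟨16712, 1, 5⟩)))))))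
def par1_10_6 : Arr Par :=
  (.node 32 (.node 16 (.node 8 (.node 4 (.node 2 (.node 1 (.one ⟨16920, 2, 5⟩) (.one ⟨6933, 2, 4⟩)) (.node 1 (.one ⟨16349, 3, 5⟩) (.one ⟨14091, 0, 5⟩))) (.node 2 (.node 1 (.one ⟨15307, 4, 6⟩) (.one ⟨10703, 1, 5⟩)) (.node 1 (.one ⟨11592, 2, 5⟩) (.one ⟨5598, 0, 5⟩)))) (.node 4 (.node 2 (.node 1 (.one ⟨12263, 3, 5⟩) (.one ⟨8614, 2, 6⟩)) (.node 1 (.one ⟨16996, 1, 5⟩) (.one ⟨6029, 0, 5⟩))) (.node 2 (.node 1 (.one ⟨12860, 4, 6⟩) (.one ⟨16526, 3, 5⟩)) (.node 1 (.one ⟨12755, 0, 6⟩) (.one ⟨24, 0, 6⟩))))) (.node 8 (.node 4 (.node 2 (.node 1 (.one ⟨12732, 0, 5⟩) (.one ⟨5653, 0, 4⟩)) (.node 1 (.one ⟨13542, 1, 5⟩) (.one ⟨14124, 0, 4⟩))) (.node 2 (.node 1 (.one ⟨7641, 2, 6⟩) (.one ⟨9128, 3, 5⟩))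 (.node 1 (.one ⟨7126, 4, 5⟩) (.one ⟨5409, 2, 5⟩)))) (.node 4 (.node 2 (.node 1 (.one ⟨4956, 0, 5⟩) (.one ⟨15754, 3, 4⟩)) (.node 1 (.one ⟨11342, 2, 6⟩) (.one ⟨2340, 4, 5⟩))) (.node 2 (.node 1 (.one ⟨15808, 2, 6⟩) (.one ⟨6645, 3, 5⟩)) (.node 1 (.one ⟨12765, 0, 7⟩) (.one ⟨12043, 3, 6⟩)))))) (.node 16 (.node 8 (.node 4 (.node 2 (.node 1 (.one ⟨8393, 0, 6⟩) (.one ⟨8663, 1, 5⟩)) (.node 1 (.one ⟨526, 4, 5⟩) (.one ⟨6070, 1, 6⟩))) (.node 2 (.node 1 (.one ⟨17046, 1, 4⟩) (.one ⟨12944, 1, 6⟩)) (.node 1 (.one ⟨15397, 2, 5⟩) (.one ⟨360, 0, 6⟩)))) (.node 4 (.node 2 (.node 1 (.one ⟨1387, 4, 6⟩) (.one ⟨2703, 1, 7⟩)) (.node 1 (.one ⟨15834, 2, 6⟩) (.one ⟨11765, 3, 5⟩))) (.node 2 (.node 1 (.one ⟨9163, 2, 5⟩) (.one ⟨14039, 0, 4⟩))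 (.node 1 (.one ⟨13832, 4, 6⟩) (.one ⟨11097, 3, 6⟩))))) (.node 8 (.node 4 (.node 2 (.node 1 (.one ⟨2984, 1, 6⟩) (.one ⟨12608, 4, 6⟩)) (.node 1 (.one ⟨9994, 3, 6⟩) (.one ⟨1851, 0, 5⟩))) (.node 2 (.node 1 (.one ⟨3592, 3, 6⟩) (.one ⟨4584, 3, 5⟩)) (.node 1 (.one ⟨10382, 0, 6⟩) (.one ⟨663, 4, 6⟩)))) (.node 4 (.node 2 (.node 1 (.one ⟨10047, 2, 6⟩) (.one ⟨8640, 2, 6⟩)) (.node 1 (.one ⟨14961, 0, 5⟩) (.one ⟨2575, 1, 5⟩))) (.node 2 (.node 1 (.one ⟨2565, 0, 5⟩) (.one ⟨13824, 2, 5⟩)) (.node 1 (.one ⟨16495, 2, 6⟩) (.one ⟨14979, 3, 5⟩)))))))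
def par1_10_7 : Arr Par :=
  (.node 32 (.node 16 (.node 8 (.node 4 (.node 2 (.node 1 (.one ⟨3139, 3, 3⟩) (.one ⟨14800, 3, 6⟩)) (.node 1 (.one ⟨7686, 4, 5⟩) (.one ⟨13729, 1, 6⟩))) (.node 2 (.node 1 (.one ⟨6367, 3, 3⟩) (.one ⟨15165, 2, 5⟩)) (.node 1 (.one ⟨6455, 3, 5⟩) (.one ⟨14904, 4, 6⟩)))) (.node 4 (.node 2 (.node 1 (.one ⟨7790, 4, 7⟩) (.one ⟨7330, 3, 6⟩)) (.node 1 (.one ⟨7572, 0, 5⟩) (.one ⟨16622, 4, 6⟩))) (.node 2 (.node 1 (.one ⟨13716, 1, 6⟩) (.one ⟨3592, 4, 6⟩)) (.node 1 (.one ⟨7394, 2, 6⟩) (.one ⟨11307, 4, 4⟩))))) (.node 8 (.node 4 (.node 2 (.node 1 (.one ⟨2515, 1, 6⟩) (.one ⟨11256, 4, 6⟩)) (.node 1 (.one ⟨7257, 0, 6⟩) (.one ⟨11251, 4, 2⟩))) (.node 2 (.node 1 (.one ⟨12015, 3, 4⟩) (.one ⟨11300, 4, 4⟩))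 (.node 1 (.one ⟨14979, 1, 5⟩) (.one ⟨2679, 4, 4⟩)))) (.node 4 (.node 2 (.node 1 (.one ⟨9676, 3, 4⟩) (.one ⟨4853, 2, 5⟩)) (.node 1 (.one ⟨2009, 2, 4⟩) (.one ⟨5586, 3, 2⟩))) (.node 2 (.node 1 (.one ⟨7269, 1, 5⟩) (.one ⟨743, 0, 4⟩)) (.node 1 (.one ⟨16743, 2, 6⟩) (.one ⟨10589, 4, 4⟩)))))) (.node 16 (.node 8 (.node 4 (.node 2 (.node 1 (.one ⟨15402, 0, 5⟩) (.one ⟨5642, 1, 6⟩)) (.node 1 (.one ⟨7578, 0, 6⟩) (.one ⟨12768, 3, 6⟩))) (.node 2 (.node 1 (.one ⟨7252, 1, 6⟩) (.one ⟨6380, 4, 6⟩)) (.node 1 (.one ⟨4486, 2, 6⟩) (.one ⟨4729, 2, 6⟩)))) (.node 4 (.node 2 (.node 1 (.one ⟨11604, 2, 6⟩) (.one ⟨4179, 2, 6⟩)) (.node 1 (.one ⟨13586, 2, 6⟩) (.one ⟨17026, 4, 4⟩))) (.node 2 (.node 1 (.one ⟨3805, 2, 5⟩) (.one ⟨11990, 2, 5⟩))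 (.node 1 (.one ⟨5199, 2, 5⟩) (.one ⟨5306, 4, 4⟩))))) (.node 8 (.node 4 (.node 2 (.node 1 (.one ⟨13470, 2, 5⟩) (.one ⟨11360, 0, 5⟩)) (.node 1 (.one ⟨4111, 2, 6⟩) (.one ⟨2368, 1, 4⟩))) (.node 2 (.node 1 (.one ⟨2435, 0, 6⟩) (.one ⟨6088, 2, 6⟩)) (.node 1 (.one ⟨10786, 3, 6⟩) (.one ⟨5753, 1, 4⟩)))) (.node 4 (.node 2 (.node 1 (.one ⟨15992, 2, 4⟩) (.one ⟨15013, 4, 6⟩)) (.node 1 (.one ⟨14967, 2, 7⟩) (.one ⟨956, 4, 7⟩))) (.node 2 (.node 1 (.one ⟨10500, 1, 6⟩) (.one ⟨15001, 4, 5⟩)) (.node 1 (.one ⟨4662, 2, 6⟩) (.one ⟨13118, 2, 6⟩)))))))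
def par1_10_8 : Arr Par :=
  (.node 32 (.node 16 (.node 8 (.node 4 (.node 2 (.node 1 (.one ⟨5492, 2, 6⟩) (.one ⟨6034, 4, 6⟩)) (.node 1 (.one ⟨12080, 3, 6⟩) (.one ⟨13801, 4, 6⟩))) (.node 2 (.node 1 (.one ⟨14094, 4, 5⟩) (.one ⟨2368, 0, 4⟩)) (.node 1 (.one ⟨2204, 4, 6⟩) (.one ⟨32, 1, 0⟩)))) (.node 4 (.node 2 (.node 1 (.one ⟨1854, 4, 5⟩) (.one ⟨3203, 2, 5⟩)) (.node 1 (.one ⟨5682, 0, 6⟩) (.one ⟨1293, 4, 4⟩))) (.node 2 (.node 1 (.one ⟨4948, 4, 4⟩) (.one ⟨6249, 4, 6⟩)) (.node 1 (.one ⟨6561, 3, 6⟩) (.one ⟨9132, 4, 4⟩))))) (.node 8 (.node 4 (.node 2 (.node 1 (.one ⟨6789, 1, 6⟩) (.one ⟨4595, 4, 6⟩)) (.node 1 (.one ⟨3444, 0, 5⟩) (.one ⟨5796, 4, 6⟩))) (.node 2 (.node 1 (.one ⟨3363, 1, 6⟩) (.one ⟨2716, 4, 4⟩)) (.node 1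 (.one ⟨16180, 2, 6⟩) (.one ⟨553, 4, 5⟩)))) (.node 4 (.node 2 (.node 1 (.one ⟨121, 2, 7⟩) (.one ⟨14211, 0, 6⟩)) (.node 1 (.one ⟨13055, 3, 3⟩) (.one ⟨11452, 3, 4⟩))) (.node 2 (.node 1 (.one ⟨927, 2, 5⟩) (.one ⟨680, 4, 5⟩)) (.node 1 (.one ⟨574, 2, 6⟩) (.one ⟨16200, 2, 4⟩)))))) (.node 16 (.node 8 (.node 4 (.node 2 (.node 1 (.one ⟨6789, 0, 6⟩) (.one ⟨7386, 2, 5⟩)) (.node 1 (.one ⟨11062, 2, 5⟩) (.one ⟨12350, 4, 6⟩))) (.node 2 (.node 1 (.one ⟨3497, 0, 6⟩) (.one ⟨12983, 2, 5⟩)) (.node 1 (.one ⟨3437, 4, 6⟩) (.one ⟨14715, 3, 5⟩)))) (.node 4 (.node 2 (.node 1 (.one ⟨16421, 4, 5⟩) (.one ⟨6189, 0, 4⟩)) (.node 1 (.one ⟨6189, 1, 4⟩) (.one ⟨9830, 2, 5⟩))) (.node 2 (.node 1 (.one ⟨13817, 0, 5⟩) (.one ⟨10112, 2, 4⟩)) (.node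 1 (.one ⟨12414, 4, 4⟩) (.one ⟨11422, 0, 6⟩))))) (.node 8 (.node 4 (.node 2 (.node 1 (.one ⟨286, 4, 6⟩) (.one ⟨316, 4, 6⟩)) (.node 1 (.one ⟨12569, 2, 5⟩) (.one ⟨2902, 1, 5⟩))) (.node 2 (.node 1 (.one ⟨16554, 1, 5⟩) (.one ⟨13228, 1, 6⟩)) (.node 1 (.one ⟨788, 4, 6⟩) (.one ⟨15364, 3, 6⟩)))) (.node 4 (.node 2 (.node 1 (.one ⟨11646, 0, 6⟩) (.one ⟨5865, 0, 6⟩)) (.node 1 (.one ⟨1617, 3, 6⟩) (.one ⟨3867, 2, 4⟩))) (.node 2 (.node 1 (.one ⟨8905, 3, 4⟩) (.one ⟨860, 1, 4⟩)) (.node 1 (.one ⟨11123, 4, 6⟩) (.one ⟨15968, 1, 6⟩)))))))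
def par1_10_9 : Arr Par :=
  (.node 32 (.node 16 (.node 8 (.node 4 (.node 2 (.node 1 (.one ⟨16771, 4, 7⟩) (.one ⟨3621, 0, 6⟩)) (.node 1 (.one ⟨15577, 4, 4⟩) (.one ⟨1741, 0, 6⟩))) (.node 2 (.node 1 (.one ⟨16980, 0, 5⟩) (.one ⟨1214, 4, 3⟩)) (.node 1 (.one ⟨15986, 2, 6⟩) (.one ⟨12023, 2, 5⟩)))) (.node 4 (.node 2 (.node 1 (.one ⟨16798, 4, 6⟩) (.one ⟨16496, 1, 6⟩)) (.node 1 (.one ⟨1894, 2, 6⟩) (.one ⟨2889, 1, 6⟩))) (.node 2 (.node 1 (.one ⟨9720, 2, 5⟩) (.one ⟨16642, 4, 6⟩)) (.node 1 (.one ⟨5122, 1, 5⟩) (.one ⟨919, 1, 7⟩))))) (.node 8 (.node 4 (.node 2 (.node 1 (.one ⟨16963, 3, 6⟩) (.one ⟨12762, 3, 4⟩)) (.node 1 (.one ⟨6414, 3, 5⟩) (.one ⟨7653, 3, 6⟩))) (.node 2 (.node 1 (.one ⟨16862, 2, 5⟩) (.one ⟨14764, 3, 5⟩))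 (.node 1 (.one ⟨12329, 2, 5⟩) (.one ⟨8887, 0, 6⟩)))) (.node 4 (.node 2 (.node 1 (.one ⟨12592, 3, 6⟩) (.one ⟨7915, 3, 6⟩)) (.node 1 (.one ⟨15560, 2, 5⟩) (.one ⟨11718, 3, 5⟩))) (.node 2 (.node 1 (.one ⟨9785, 0, 6⟩) (.one ⟨7062, 3, 6⟩)) (.node 1 (.one ⟨5854, 2, 6⟩) (.one ⟨2447, 2, 6⟩)))))) (.node 16 (.node 8 (.node 4 (.node 2 (.node 1 (.one ⟨7128, 2, 6⟩) (.one ⟨626, 2, 5⟩)) (.node 1 (.one ⟨6779, 2, 5⟩) (.one ⟨14423, 3, 5⟩))) (.node 2 (.node 1 (.one ⟨17156, 4, 6⟩) (.one ⟨8648, 2, 5⟩)) (.node 1 (.one ⟨11422, 3, 6⟩) (.one ⟨8108, 2, 7⟩)))) (.node 4 (.node 2 (.node 1 (.one ⟨15980, 1, 6⟩) (.one ⟨16948, 3, 5⟩)) (.node 1 (.one ⟨3326, 0, 6⟩) (.one ⟨5132, 1, 5⟩))) (.node 2 (.node 1 (.one ⟨12357, 1, 5⟩) (.one ⟨7195, 2, 6⟩))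 (.node 1 (.one ⟨15476, 0, 5⟩) (.one ⟨14963, 4, 5⟩))))) (.node 8 (.node 4 (.node 2 (.node 1 (.one ⟨13395, 3, 5⟩) (.one ⟨13018, 3, 6⟩)) (.node 1 (.one ⟨12082, 1, 5⟩) (.one ⟨1832, 2, 4⟩))) (.node 2 (.node 1 (.one ⟨12464, 2, 6⟩) (.one ⟨4178, 2, 4⟩)) (.node 1 (.one ⟨14339, 4, 5⟩) (.one ⟨13618, 0, 4⟩)))) (.node 4 (.node 2 (.node 1 (.one ⟨4250, 3, 4⟩) (.one ⟨5188, 2, 5⟩)) (.node 1 (.one ⟨12145, 1, 5⟩) (.one ⟨5050, 4, 5⟩))) (.node 2 (.node 1 (.one ⟨8396, 4, 5⟩) (.one ⟨4793, 1, 4⟩)) (.node 1 (.one ⟨5298, 0, 5⟩) (.one ⟨15161, 0, 6⟩)))))))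
def par1_10_10 : Arr Par :=
  (.node 32 (.node 16 (.node 8 (.node 4 (.node 2 (.node 1 (.one ⟨7953, 4, 4⟩) (.one ⟨9095, 0, 6⟩)) (.node 1 (.one ⟨927, 3, 5⟩) (.one ⟨5053, 4, 3⟩))) (.node 2 (.node 1 (.one ⟨13473, 0, 6⟩) (.one ⟨13416, 2, 5⟩)) (.node 1 (.one ⟨15425, 3, 5⟩) (.one ⟨16706, 2, 5⟩)))) (.node 4 (.node 2 (.node 1 (.one ⟨13628, 3, 6⟩) (.one ⟨3683, 2, 5⟩)) (.node 1 (.one ⟨6228, 3, 6⟩) (.one ⟨5161, 4, 4⟩))) (.node 2 (.node 1 (.one ⟨11332, 2, 5⟩) (.one ⟨139, 2, 5⟩)) (.node 1 (.one ⟨4497, 4, 5⟩) (.one ⟨3564, 3, 6⟩))))) (.node 8 (.node 4 (.node 2 (.node 1 (.one ⟨15435, 3, 7⟩) (.one ⟨6021, 4, 7⟩)) (.node 1 (.one ⟨147, 3, 6⟩) (.one ⟨4620, 3, 6⟩))) (.node 2 (.node 1 (.one ⟨14271, 3, 6⟩) (.one ⟨13392, 0, 4⟩)) (.node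 1 (.one ⟨10163, 1, 5⟩) (.one ⟨2413, 1, 6⟩)))) (.node 4 (.node 2 (.node 1 (.one ⟨7098, 0, 6⟩) (.one ⟨5409, 0, 5⟩)) (.node 1 (.one ⟨12134, 1, 6⟩) (.one ⟨5051, 4, 5⟩))) (.node 2 (.node 1 (.one ⟨5762, 4, 5⟩) (.one ⟨11578, 4, 6⟩)) (.node 1 (.one ⟨5501, 1, 5⟩) (.one ⟨15273, 0, 6⟩)))))) (.node 16 (.node 8 (.node 4 (.node 2 (.node 1 (.one ⟨3866, 1, 5⟩) (.one ⟨11406, 2, 5⟩)) (.node 1 (.one ⟨15495, 2, 6⟩) (.one ⟨14317, 2, 5⟩))) (.node 2 (.node 1 (.one ⟨3363, 3, 6⟩) (.one ⟨5619, 2, 2⟩)) (.node 1 (.one ⟨7968, 0, 4⟩) (.one ⟨10271, 1, 5⟩)))) (.node 4 (.node 2 (.node 1 (.one ⟨8233, 3, 6⟩) (.one ⟨7038, 3, 5⟩)) (.node 1 (.one ⟨6644, 3, 5⟩) (.one ⟨9910, 4, 5⟩))) (.node 2 (.node 1 (.one ⟨3436, 1, 4⟩) (.one ⟨11768, 4, 5⟩)) (.node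 1 (.one ⟨6413, 2, 7⟩) (.one ⟨5097, 1, 6⟩))))) (.node 8 (.node 4 (.node 2 (.node 1 (.one ⟨13169, 2, 6⟩) (.one ⟨2980, 1, 6⟩)) (.node 1 (.one ⟨932, 0, 5⟩) (.one ⟨378, 1, 6⟩))) (.node 2 (.node 1 (.one ⟨14320, 1, 5⟩) (.one ⟨3809, 4, 5⟩)) (.node 1 (.one ⟨6868, 3, 5⟩) (.one ⟨1493, 3, 5⟩)))) (.node 4 (.node 2 (.node 1 (.one ⟨5102, 0, 4⟩) (.one ⟨15538, 4, 5⟩)) (.node 1 (.one ⟨16000, 1, 6⟩) (.one ⟨1913, 0, 6⟩))) (.node 2 (.node 1 (.one ⟨8583, 4, 6⟩) (.one ⟨7576, 1, 6⟩)) (.node 1 (.one ⟨1885, 4, 5⟩) (.one ⟨9517, 3, 5⟩)))))))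
def par1_10_11 : Arr Par :=
  (.node 32 (.node 16 (.node 8 (.node 4 (.node 2 (.node 1 (.one ⟨10059, 4, 5⟩) (.one ⟨9085, 2, 6⟩)) (.node 1 (.one ⟨15131, 3, 5⟩) (.one ⟨7201, 0, 6⟩))) (.node 2 (.node 1 (.one ⟨5886, 4, 5⟩) (.one ⟨5546, 2, 5⟩)) (.node 1 (.one ⟨8236, 2, 3⟩) (.one ⟨7550, 3, 4⟩)))) (.node 4 (.node 2 (.node 1 (.one ⟨512, 0, 6⟩) (.one ⟨6523, 2, 5⟩)) (.node 1 (.one ⟨306, 1, 4⟩) (.one ⟨5964, 2, 4⟩))) (.node 2 (.node 1 (.one ⟨13282, 4, 5⟩) (.one ⟨6168, 3, 5⟩)) (.node 1 (.one ⟨11525, 3, 6⟩) (.one ⟨165, 1, 5⟩))))) (.node 8 (.node 4 (.node 2 (.node 1 (.one ⟨12435, 1, 5⟩) (.one ⟨6242, 1, 5⟩)) (.node 1 (.one ⟨5396, 0, 6⟩) (.one ⟨15684, 0, 5⟩))) (.node 2 (.node 1 (.one ⟨301, 0, 6⟩) (.one ⟨5757, 2, 5⟩)) (.node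 1 (.one ⟨15263, 3, 6⟩) (.one ⟨2959, 1, 7⟩)))) (.node 4 (.node 2 (.node 1 (.one ⟨3567, 2, 3⟩) (.one ⟨14899, 4, 3⟩)) (.node 1 (.one ⟨11108, 4, 6⟩) (.one ⟨7965, 0, 4⟩))) (.node 2 (.node 1 (.one ⟨8180, 2, 4⟩) (.one ⟨16001, 1, 7⟩)) (.node 1 (.one ⟨15501, 2, 3⟩) (.one ⟨12805, 4, 5⟩)))))) (.node 16 (.node 8 (.node 4 (.node 2 (.node 1 (.one ⟨11146, 3, 5⟩) (.one ⟨4947, 3, 5⟩)) (.node 1 (.one ⟨15250, 4, 3⟩) (.one ⟨14957, 4, 6⟩))) (.node 2 (.node 1 (.one ⟨13465, 3, 5⟩) (.one ⟨15701, 0, 5⟩)) (.node 1 (.one ⟨13250, 2, 5⟩) (.one ⟨2011, 3, 5⟩)))) (.node 4 (.node 2 (.node 1 (.one ⟨5050, 1, 5⟩) (.one ⟨2479, 2, 6⟩)) (.node 1 (.one ⟨11592, 3, 5⟩) (.one ⟨6922, 3, 5⟩))) (.node 2 (.node 1 (.one ⟨8396, 1, 5⟩) (.one ⟨5062, 0, 5⟩))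 (.node 1 (.one ⟨11308, 2, 6⟩) (.one ⟨10011, 3, 5⟩))))) (.node 8 (.node 4 (.node 2 (.node 1 (.one ⟨6209, 3, 7⟩) (.one ⟨2356, 1, 5⟩)) (.node 1 (.one ⟨12782, 4, 5⟩) (.one ⟨8069, 4, 5⟩))) (.node 2 (.node 1 (.one ⟨15893, 0, 5⟩) (.one ⟨2573, 2, 4⟩)) (.node 1 (.one ⟨5603, 2, 7⟩) (.one ⟨14242, 0, 6⟩)))) (.node 4 (.node 2 (.node 1 (.one ⟨218, 3, 6⟩) (.one ⟨13192, 3, 7⟩)) (.node 1 (.one ⟨16177, 4, 6⟩) (.one ⟨11394, 0, 6⟩))) (.node 2 (.node 1 (.one ⟨4102, 1, 6⟩) (.one ⟨10803, 3, 6⟩)) (.node 1 (.one ⟨12339, 3, 6⟩) (.one ⟨15961, 2, 6⟩)))))))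
def par1_10_12 : Arr Par :=
  (.node 32 (.node 16 (.node 8 (.node 4 (.node 2 (.node 1 (.one ⟨15453, 4, 7⟩) (.one ⟨4621, 3, 5⟩)) (.node 1 (.one ⟨13556, 0, 4⟩) (.one ⟨2374, 1, 3⟩))) (.node 2 (.node 1 (.one ⟨14614, 3, 5⟩) (.one ⟨2781, 2, 6⟩)) (.node 1 (.one ⟨9061, 3, 6⟩) (.one ⟨7141, 3, 5⟩)))) (.node 4 (.node 2 (.node 1 (.one ⟨14887, 4, 4⟩) (.one ⟨3904, 4, 5⟩)) (.node 1 (.one ⟨3164, 4, 6⟩) (.one ⟨16770, 4, 7⟩))) (.node 2 (.node 1 (.one ⟨4084, 1, 5⟩) (.one ⟨9144, 2, 5⟩)) (.node 1 (.one ⟨14759, 2, 6⟩) (.one ⟨8731, 4, 5⟩))))) (.node 8 (.node 4 (.node 2 (.node 1 (.one ⟨9790, 3, 5⟩) (.one ⟨11825, 1, 5⟩)) (.node 1 (.one ⟨6163, 2, 6⟩) (.one ⟨1147, 4, 4⟩))) (.node 2 (.node 1 (.one ⟨15811, 0, 7⟩) (.one ⟨9904, 2, 6⟩)) (.node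 1 (.one ⟨17003, 4, 6⟩) (.one ⟨2388, 1, 5⟩)))) (.node 4 (.node 2 (.node 1 (.one ⟨7681, 2, 5⟩) (.one ⟨10857, 1, 6⟩)) (.node 1 (.one ⟨4237, 3, 7⟩) (.one ⟨13582, 0, 4⟩))) (.node 2 (.node 1 (.one ⟨11560, 1, 4⟩) (.one ⟨2860, 4, 5⟩)) (.node 1 (.one ⟨1174, 3, 5⟩) (.one ⟨2446, 2, 7⟩)))))) (.node 16 (.node 8 (.node 4 (.node 2 (.node 1 (.one ⟨1635, 3, 5⟩) (.one ⟨4089, 2, 7⟩)) (.node 1 (.one ⟨158, 3, 5⟩) (.one ⟨4025, 2, 5⟩))) (.node 2 (.node 1 (.one ⟨2186, 4, 4⟩) (.one ⟨7014, 3, 6⟩)) (.node 1 (.one ⟨10972, 3, 5⟩) (.one ⟨4246, 3, 5⟩)))) (.node 4 (.node 2 (.node 1 (.one ⟨675, 4, 6⟩) (.one ⟨9981, 4, 5⟩)) (.node 1 (.one ⟨5664, 2, 5⟩) (.one ⟨15115, 2, 6⟩))) (.node 2 (.node 1 (.one ⟨4395, 2, 6⟩) (.one ⟨2402, 1, 6⟩)) (.node 1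 (.one ⟨849, 4, 6⟩) (.one ⟨16158, 4, 6⟩))))) (.node 8 (.node 4 (.node 2 (.node 1 (.one ⟨218, 4, 6⟩) (.one ⟨2548, 1, 5⟩)) (.node 1 (.one ⟨5386, 1, 5⟩) (.one ⟨11873, 0, 5⟩))) (.node 2 (.node 1 (.one ⟨9731, 2, 6⟩) (.one ⟨9635, 1, 4⟩)) (.node 1 (.one ⟨1698, 3, 4⟩) (.one ⟨9329, 4, 7⟩)))) (.node 4 (.node 2 (.node 1 (.one ⟨1285, 3, 7⟩) (.one ⟨6750, 0, 5⟩)) (.node 1 (.one ⟨706, 1, 7⟩) (.one ⟨8023, 0, 7⟩))) (.node 2 (.node 1 (.one ⟨14098, 4, 7⟩) (.one ⟨14529, 2, 6⟩)) (.node 1 (.one ⟨15032, 0, 6⟩) (.one ⟨12698, 1, 5⟩)))))))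
def par1_10_13 : Arr Par :=
  (.node 32 (.node 16 (.node 8 (.node 4 (.node 2 (.node 1 (.one ⟨16174, 0, 6⟩) (.one ⟨14877, 0, 5⟩)) (.node 1 (.one ⟨15104, 0, 5⟩) (.one ⟨4534, 1, 7⟩))) (.node 2 (.node 1 (.one ⟨11690, 0, 5⟩) (.one ⟨11159, 0, 6⟩)) (.node 1 (.one ⟨3627, 4, 4⟩) (.one ⟨11286, 2, 6⟩)))) (.node 4 (.node 2 (.node 1 (.one ⟨17020, 2, 6⟩) (.one ⟨7807, 2, 6⟩)) (.node 1 (.one ⟨8756, 1, 5⟩) (.one ⟨3230, 2, 6⟩))) (.node 2 (.node 1 (.one ⟨883, 1, 6⟩) (.one ⟨15860, 2, 5⟩)) (.node 1 (.one ⟨14246, 3, 6⟩) (.one ⟨11257, 4, 5⟩))))) (.node 8 (.node 4 (.node 2 (.node 1 (.one ⟨6925, 4, 6⟩) (.one ⟨9104, 4, 5⟩)) (.node 1 (.one ⟨7020, 0, 6⟩) (.one ⟨14148, 2, 7⟩))) (.node 2 (.node 1 (.one ⟨10625, 1, 5⟩) (.one ⟨11857, 0, 6⟩))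 (.node 1 (.one ⟨7119, 3, 5⟩) (.one ⟨4078, 2, 5⟩)))) (.node 4 (.node 2 (.node 1 (.one ⟨10482, 4, 6⟩) (.one ⟨828, 3, 5⟩)) (.node 1 (.one ⟨15470, 2, 7⟩) (.one ⟨4649, 1, 6⟩))) (.node 2 (.node 1 (.one ⟨6962, 0, 5⟩) (.one ⟨13470, 1, 5⟩)) (.node 1 (.one ⟨15775, 3, 5⟩) (.one ⟨15847, 0, 5⟩)))))) (.node 16 (.node 8 (.node 4 (.node 2 (.node 1 (.one ⟨7513, 3, 6⟩) (.one ⟨14230, 2, 5⟩)) (.node 1 (.one ⟨7671, 2, 6⟩) (.one ⟨4610, 1, 6⟩))) (.node 2 (.node 1 (.one ⟨15850, 3, 5⟩) (.one ⟨6088, 3, 6⟩)) (.node 1 (.one ⟨11708, 3, 5⟩) (.one ⟨6222, 1, 6⟩)))) (.node 4 (.node 2 (.node 1 (.one ⟨2935, 4, 6⟩) (.one ⟨3644, 2, 6⟩)) (.node 1 (.one ⟨16797, 4, 5⟩) (.one ⟨2322, 2, 5⟩))) (.node 2 (.node 1 (.one ⟨4380, 2, 5⟩) (.one ⟨9577, 1, 6⟩))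 (.node 1 (.one ⟨3710, 2, 6⟩) (.one ⟨2594, 1, 6⟩))))) (.node 8 (.node 4 (.node 2 (.node 1 (.one ⟨6845, 2, 6⟩) (.one ⟨7169, 2, 6⟩)) (.node 1 (.one ⟨6980, 0, 4⟩) (.one ⟨8898, 4, 5⟩))) (.node 2 (.node 1 (.one ⟨7994, 0, 6⟩) (.one ⟨3507, 0, 6⟩)) (.node 1 (.one ⟨11110, 0, 6⟩) (.one ⟨15860, 0, 5⟩)))) (.node 4 (.node 2 (.node 1 (.one ⟨5062, 2, 5⟩) (.one ⟨5101, 3, 5⟩)) (.node 1 (.one ⟨11617, 0, 5⟩) (.one ⟨4986, 2, 4⟩))) (.node 2 (.node 1 (.one ⟨5099, 3, 6⟩) (.one ⟨8483, 4, 6⟩)) (.node 1 (.one ⟨5102, 3, 4⟩) (.one ⟨8076, 0, 6⟩)))))))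
def par1_10_14 : Arr Par :=
  (.node 32 (.node 16 (.node 8 (.node 4 (.node 2 (.node 1 (.one ⟨4642, 1, 5⟩) (.one ⟨4111, 3, 6⟩)) (.node 1 (.one ⟨2802, 0, 6⟩) (.one ⟨10272, 3, 3⟩))) (.node 2 (.node 1 (.one ⟨8870, 1, 6⟩) (.one ⟨11252, 3, 4⟩)) (.node 1 (.one ⟨9578, 1, 6⟩) (.one ⟨11718, 2, 5⟩)))) (.node 4 (.node 2 (.node 1 (.one ⟨14670, 2, 5⟩) (.one ⟨1289, 2, 5⟩)) (.node 1 (.one ⟨14283, 1, 4⟩) (.one ⟨2627, 3, 5⟩))) (.node 2 (.node 1 (.one ⟨2324, 2, 7⟩) (.one ⟨6146, 4, 6⟩)) (.node 1 (.one ⟨2608, 3, 6⟩) (.one ⟨14578, 3, 5⟩))))) (.node 8 (.node 4 (.node 2 (.node 1 (.one ⟨6774, 0, 6⟩) (.one ⟨13188, 3, 5⟩)) (.node 1 (.one ⟨5546, 4, 5⟩) (.one ⟨10818, 0, 5⟩))) (.node 2 (.node 1 (.one ⟨14820, 3, 3⟩) (.one ⟨13453, 1, 4⟩))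 (.node 1 (.one ⟨12229, 4, 6⟩) (.one ⟨2953, 3, 5⟩)))) (.node 4 (.node 2 (.node 1 (.one ⟨11752, 3, 5⟩) (.one ⟨12102, 2, 6⟩)) (.node 1 (.one ⟨840, 3, 6⟩) (.one ⟨2292, 2, 6⟩))) (.node 2 (.node 1 (.one ⟨14740, 4, 5⟩) (.one ⟨11765, 2, 5⟩)) (.node 1 (.one ⟨12655, 3, 6⟩) (.one ⟨8761, 1, 5⟩)))))) (.node 16 (.node 8 (.node 4 (.node 2 (.node 1 (.one ⟨3058, 0, 6⟩) (.one ⟨8598, 4, 6⟩)) (.node 1 (.one ⟨13850, 3, 6⟩) (.one ⟨15820, 0, 4⟩))) (.node 2 (.node 1 (.one ⟨6232, 1, 4⟩) (.one ⟨2350, 3, 7⟩)) (.node 1 (.one ⟨13772, 2, 7⟩) (.one ⟨12711, 1, 6⟩)))) (.node 4 (.node 2 (.node 1 (.one ⟨779, 1, 5⟩) (.one ⟨6048, 3, 6⟩)) (.node 1 (.one ⟨6050, 3, 5⟩) (.one ⟨4066, 4, 6⟩))) (.node 2 (.node 1 (.one ⟨5505, 4, 6⟩) (.one ⟨11061, 0, 5⟩))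 (.node 1 (.one ⟨11915, 0, 5⟩) (.one ⟨16502, 1, 6⟩))))) (.node 8 (.node 4 (.node 2 (.node 1 (.one ⟨1477, 3, 6⟩) (.one ⟨13682, 4, 4⟩)) (.node 1 (.one ⟨13087, 4, 6⟩) (.one ⟨11974, 1, 7⟩))) (.node 2 (.node 1 (.one ⟨7219, 4, 5⟩) (.one ⟨3286, 2, 4⟩)) (.node 1 (.one ⟨11776, 1, 3⟩) (.one ⟨10266, 3, 5⟩)))) (.node 4 (.node 2 (.node 1 (.one ⟨2495, 3, 6⟩) (.one ⟨15405, 1, 4⟩)) (.node 1 (.one ⟨3725, 1, 4⟩) (.one ⟨12577, 0, 5⟩))) (.node 2 (.node 1 (.one ⟨7945, 4, 4⟩) (.one ⟨10703, 3, 5⟩)) (.node 1 (.one ⟨8341, 4, 6⟩) (.one ⟨10779, 3, 5⟩)))))))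
def par1_10_15 : Arr Par :=
  (.node 32 (.node 16 (.node 8 (.node 4 (.node 2 (.node 1 (.one ⟨11873, 4, 5⟩) (.one ⟨11234, 2, 7⟩)) (.node 1 (.one ⟨14233, 4, 6⟩) (.one ⟨1598, 2, 3⟩))) (.node 2 (.node 1 (.one ⟨6876, 1, 4⟩) (.one ⟨9423, 2, 5⟩)) (.node 1 (.one ⟨6347, 4, 5⟩) (.one ⟨4741, 4, 5⟩)))) (.node 4 (.node 2 (.node 1 (.one ⟨15414, 3, 6⟩) (.one ⟨1679, 4, 6⟩)) (.node 1 (.one ⟨5656, 2, 4⟩) (.one ⟨10595, 1, 6⟩))) (.node 2 (.node 1 (.one ⟨5520, 0, 4⟩) (.one ⟨5240, 0, 6⟩)) (.node 1 (.one ⟨2823, 2, 7⟩) (.one ⟨6738, 3, 7⟩))))) (.node 8 (.node 4 (.node 2 (.node 1 (.one ⟨3709, 1, 5⟩) (.one ⟨12546, 0, 4⟩)) (.node 1 (.one ⟨6877, 1, 7⟩) (.one ⟨1594, 2, 5⟩))) (.node 2 (.node 1 (.one ⟨5549, 0, 5⟩) (.one ⟨16055, 3, 6⟩)) (.node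 1 (.one ⟨13735, 2, 5⟩) (.one ⟨7322, 1, 5⟩)))) (.node 4 (.node 2 (.node 1 (.one ⟨2547, 1, 4⟩) (.one ⟨4265, 4, 5⟩)) (.node 1 (.one ⟨9579, 4, 6⟩) (.one ⟨12262, 4, 5⟩))) (.node 2 (.node 1 (.one ⟨1174, 4, 5⟩) (.one ⟨7687, 3, 6⟩)) (.node 1 (.one ⟨11759, 1, 3⟩) (.one ⟨11146, 0, 5⟩)))))) (.node 16 (.node 8 (.node 4 (.node 2 (.node 1 (.one ⟨13797, 2, 4⟩) (.one ⟨13339, 0, 6⟩)) (.node 1 (.one ⟨11590, 4, 6⟩) (.one ⟨5028, 2, 4⟩))) (.node 2 (.node 1 (.one ⟨5494, 0, 6⟩) (.one ⟨11924, 4, 6⟩)) (.node 1 (.one ⟨2765, 0, 5⟩) (.one ⟨2830, 2, 5⟩)))) (.node 4 (.node 2 (.node 1 (.one ⟨6066, 4, 5⟩) (.one ⟨16509, 1, 4⟩)) (.node 1 (.one ⟨2365, 4, 6⟩) (.one ⟨6527, 4, 6⟩))) (.node 2 (.node 1 (.one ⟨11089, 3, 6⟩) (.one ⟨16635, 2, 6⟩)) (.node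 1 (.one ⟨16128, 2, 6⟩) (.one ⟨15713, 3, 6⟩))))) (.node 8 (.node 4 (.node 2 (.node 1 (.one ⟨932, 3, 5⟩) (.one ⟨14511, 3, 6⟩)) (.node 1 (.one ⟨13824, 1, 5⟩) (.one ⟨1776, 2, 1⟩))) (.node 2 (.node 1 (.one ⟨8094, 1, 3⟩) (.one ⟨14849, 1, 5⟩)) (.node 1 (.one ⟨2898, 4, 6⟩) (.one ⟨1908, 0, 6⟩)))) (.node 4 (.node 2 (.node 1 (.one ⟨8611, 3, 5⟩) (.one ⟨3867, 3, 4⟩)) (.node 1 (.one ⟨8778, 0, 6⟩) (.one ⟨15040, 4, 6⟩))) (.node 2 (.node 1 (.one ⟨8223, 2, 4⟩) (.one ⟨11144, 2, 6⟩)) (.node 1 (.one ⟨12397, 2, 7⟩) (.one ⟨14874, 1, 6⟩)))))))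
def par1_10 : Arr Par :=
  (.node 512 (.node 256 (.node 128 (.node 64 par1_10_0 par1_10_1) (.node 64 par1_10_2 par1_10_3)) (.node 128 (.node 64 par1_10_4 par1_10_5) (.node 64 par1_10_6 par1_10_7))) (.node 256 (.node 128 (.node 64 par1_10_8 par1_10_9) (.node 64 par1_10_10 par1_10_11)) (.node 128 (.node 64 par1_10_12 par1_10_13) (.node 64 par1_10_14 par1_10_15))))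
def par1_11_0 : Arr Par :=
  (.node 32 (.node 16 (.node 8 (.node 4 (.node 2 (.node 1 (.one ⟨16791, 1, 4⟩) (.one ⟨14710, 0, 2⟩)) (.node 1 (.one ⟨2307, 2, 6⟩) (.one ⟨4499, 1, 4⟩))) (.node 2 (.node 1 (.one ⟨2475, 1, 6⟩) (.one ⟨2304, 2, 5⟩)) (.node 1 (.one ⟨196, 0, 6⟩) (.one ⟨5638, 2, 6⟩)))) (.node 4 (.node 2 (.node 1 (.one ⟨13059, 4, 5⟩) (.one ⟨17166, 0, 5⟩)) (.node 1 (.one ⟨452, 0, 7⟩) (.one ⟨10030, 0, 6⟩))) (.node 2 (.node 1 (.one ⟨8050, 1, 5⟩) (.one ⟨15701, 2, 5⟩)) (.node 1 (.one ⟨7627, 2, 5⟩) (.one ⟨16163, 1, 6⟩))))) (.node 8 (.node 4 (.node 2 (.node 1 (.one ⟨9355, 3, 4⟩) (.one ⟨5491, 1, 6⟩)) (.node 1 (.one ⟨6685, 0, 6⟩) (.one ⟨4249, 0, 6⟩))) (.node 2 (.node 1 (.one ⟨10505, 1, 4⟩) (.one ⟨8283, 4, 5⟩)) (.node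 1 (.one ⟨5309, 3, 5⟩) (.one ⟨14746, 0, 4⟩)))) (.node 4 (.node 2 (.node 1 (.one ⟨9579, 2, 6⟩) (.one ⟨2247, 4, 5⟩)) (.node 1 (.one ⟨11633, 4, 6⟩) (.one ⟨14317, 3, 5⟩))) (.node 2 (.node 1 (.one ⟨8078, 1, 5⟩) (.one ⟨9351, 3, 5⟩)) (.node 1 (.one ⟨17190, 0, 5⟩) (.one ⟨16263, 2, 4⟩)))))) (.node 16 (.node 8 (.node 4 (.node 2 (.node 1 (.one ⟨17150, 0, 7⟩) (.one ⟨3277, 2, 5⟩)) (.node 1 (.one ⟨14914, 4, 4⟩) (.one ⟨8435, 2, 5⟩))) (.node 2 (.node 1 (.one ⟨11368, 2, 3⟩) (.one ⟨15005, 0, 4⟩)) (.node 1 (.one ⟨6780, 3, 6⟩) (.one ⟨9103, 0, 5⟩)))) (.node 4 (.node 2 (.node 1 (.one ⟨6589, 2, 5⟩) (.one ⟨9781, 2, 5⟩)) (.node 1 (.one ⟨11481, 3, 6⟩) (.one ⟨7728, 2, 3⟩))) (.node 2 (.node 1 (.one ⟨13017, 2, 5⟩) (.one ⟨13796, 4, 6⟩))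 (.node 1 (.one ⟨4264, 0, 6⟩) (.one ⟨3990, 4, 4⟩))))) (.node 8 (.node 4 (.node 2 (.node 1 (.one ⟨4576, 0, 5⟩) (.one ⟨9167, 4, 6⟩)) (.node 1 (.one ⟨6635, 1, 7⟩) (.one ⟨1959, 3, 5⟩))) (.node 2 (.node 1 (.one ⟨8278, 0, 5⟩) (.one ⟨4653, 3, 5⟩)) (.node 1 (.one ⟨150, 1, 6⟩) (.one ⟨12890, 2, 6⟩)))) (.node 4 (.node 2 (.node 1 (.one ⟨12926, 2, 6⟩) (.one ⟨11558, 2, 6⟩)) (.node 1 (.one ⟨2926, 1, 4⟩) (.one ⟨8243, 2, 5⟩))) (.node 2 (.node 1 (.one ⟨17170, 4, 7⟩) (.one ⟨14168, 3, 6⟩)) (.node 1 (.one ⟨5612, 2, 5⟩) (.one ⟨2062, 2, 5⟩)))))))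
def par1_11_1 : Arr Par :=
  (.node 32 (.node 16 (.node 8 (.node 4 (.node 2 (.node 1 (.one ⟨1715, 2, 6⟩) (.one ⟨11449, 4, 6⟩)) (.node 1 (.one ⟨5719, 4, 5⟩) (.one ⟨1640, 0, 6⟩))) (.node 2 (.node 1 (.one ⟨13554, 3, 4⟩) (.one ⟨14649, 2, 6⟩)) (.node 1 (.one ⟨14962, 2, 4⟩) (.one ⟨3567, 4, 3⟩)))) (.node 4 (.node 2 (.node 1 (.one ⟨120, 0, 6⟩) (.one ⟨526, 2, 5⟩)) (.node 1 (.one ⟨3136, 0, 5⟩) (.one ⟨2739, 4, 3⟩))) (.node 2 (.node 1 (.one ⟨11265, 0, 3⟩) (.one ⟨6336, 3, 5⟩)) (.node 1 (.one ⟨9662, 0, 5⟩) (.one ⟨4658, 1, 6⟩))))) (.node 8 (.node 4 (.node 2 (.node 1 (.one ⟨7674, 1, 5⟩) (.one ⟨6032, 3, 5⟩)) (.node 1 (.one ⟨7464, 3, 7⟩) (.one ⟨6817, 2, 4⟩))) (.node 2 (.node 1 (.one ⟨235, 1, 5⟩) (.one ⟨3906, 2, 6⟩)) (.node 1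 (.one ⟨671, 3, 5⟩) (.one ⟨593, 3, 5⟩)))) (.node 4 (.node 2 (.node 1 (.one ⟨4688, 1, 6⟩) (.one ⟨12645, 0, 6⟩)) (.node 1 (.one ⟨11483, 3, 6⟩) (.one ⟨1121, 3, 5⟩))) (.node 2 (.node 1 (.one ⟨12109, 4, 6⟩) (.one ⟨8123, 4, 6⟩)) (.node 1 (.one ⟨11474, 3, 6⟩) (.one ⟨5259, 2, 5⟩)))))) (.node 16 (.node 8 (.node 4 (.node 2 (.node 1 (.one ⟨12626, 0, 4⟩) (.one ⟨7962, 4, 6⟩)) (.node 1 (.one ⟨1755, 4, 6⟩) (.one ⟨5538, 4, 5⟩))) (.node 2 (.node 1 (.one ⟨13797, 3, 4⟩) (.one ⟨11109, 2, 7⟩)) (.node 1 (.one ⟨15448, 4, 5⟩) (.one ⟨12648, 4, 7⟩)))) (.node 4 (.node 2 (.node 1 (.one ⟨11980, 0, 2⟩) (.one ⟨2408, 2, 6⟩)) (.node 1 (.one ⟨2410, 2, 6⟩) (.one ⟨5957, 1, 5⟩))) (.node 2 (.node 1 (.one ⟨15021, 3, 5⟩) (.one ⟨858, 2, 6⟩)) (.node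 1 (.one ⟨12565, 4, 6⟩) (.one ⟨10685, 2, 6⟩))))) (.node 8 (.node 4 (.node 2 (.node 1 (.one ⟨4003, 4, 6⟩) (.one ⟨6971, 2, 7⟩)) (.node 1 (.one ⟨15407, 3, 6⟩) (.one ⟨3860, 4, 5⟩))) (.node 2 (.node 1 (.one ⟨4660, 1, 4⟩) (.one ⟨8812, 4, 4⟩)) (.node 1 (.one ⟨8549, 1, 6⟩) (.one ⟨7100, 4, 7⟩)))) (.node 4 (.node 2 (.node 1 (.one ⟨4643, 0, 5⟩) (.one ⟨15083, 4, 6⟩)) (.node 1 (.one ⟨4242, 4, 5⟩) (.one ⟨8708, 2, 6⟩))) (.node 2 (.node 1 (.one ⟨1233, 3, 6⟩) (.one ⟨591, 3, 6⟩)) (.node 1 (.one ⟨3050, 4, 6⟩) (.one ⟨13485, 4, 6⟩)))))))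
def par1_11_2 : Arr Par :=
  (.node 32 (.node 16 (.node 8 (.node 4 (.node 2 (.node 1 (.one ⟨9805, 2, 4⟩) (.one ⟨10222, 2, 5⟩)) (.node 1 (.one ⟨6032, 1, 5⟩) (.one ⟨9753, 2, 6⟩))) (.node 2 (.node 1 (.one ⟨9355, 4, 4⟩) (.one ⟨15779, 1, 6⟩)) (.node 1 (.one ⟨9954, 2, 6⟩) (.one ⟨16394, 2, 5⟩)))) (.node 4 (.node 2 (.node 1 (.one ⟨13622, 4, 6⟩) (.one ⟨13740, 4, 5⟩)) (.node 1 (.one ⟨16521, 4, 5⟩) (.one ⟨15668, 1, 5⟩))) (.node 2 (.node 1 (.one ⟨9660, 4, 6⟩) (.one ⟨9519, 4, 6⟩)) (.node 1 (.one ⟨11011, 3, 4⟩) (.one ⟨3384, 3, 6⟩))))) (.node 8 (.node 4 (.node 2 (.node 1 (.one ⟨2704, 4, 6⟩) (.one ⟨14936, 2, 6⟩)) (.node 1 (.one ⟨4818, 4, 7⟩) (.one ⟨13481, 4, 6⟩))) (.node 2 (.node 1 (.one ⟨7499, 0, 5⟩) (.one ⟨6918, 2, 5⟩))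 (.node 1 (.one ⟨16613, 1, 6⟩) (.one ⟨3368, 4, 5⟩)))) (.node 4 (.node 2 (.node 1 (.one ⟨6119, 3, 3⟩) (.one ⟨10968, 1, 4⟩)) (.node 1 (.one ⟨10488, 2, 5⟩) (.one ⟨12296, 2, 5⟩))) (.node 2 (.node 1 (.one ⟨14791, 3, 6⟩) (.one ⟨3759, 2, 5⟩)) (.node 1 (.one ⟨11189, 0, 5⟩) (.one ⟨14645, 1, 5⟩)))))) (.node 16 (.node 8 (.node 4 (.node 2 (.node 1 (.one ⟨13039, 2, 6⟩) (.one ⟨13579, 2, 5⟩)) (.node 1 (.one ⟨2784, 3, 6⟩) (.one ⟨15734, 1, 5⟩))) (.node 2 (.node 1 (.one ⟨16311, 0, 4⟩) (.one ⟨6397, 4, 5⟩)) (.node 1 (.one ⟨10373, 4, 5⟩) (.one ⟨4183, 3, 4⟩)))) (.node 4 (.node 2 (.node 1 (.one ⟨5335, 4, 5⟩) (.one ⟨12047, 0, 2⟩)) (.node 1 (.one ⟨1875, 3, 5⟩) (.one ⟨7652, 1, 5⟩))) (.node 2 (.node 1 (.one ⟨802, 1, 4⟩) (.one ⟨302, 0,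 6⟩)) (.node 1 (.one ⟨5262, 2, 6⟩) (.one ⟨9121, 1, 6⟩))))) (.node 8 (.node 4 (.node 2 (.node 1 (.one ⟨13135, 0, 6⟩) (.one ⟨7309, 1, 6⟩)) (.node 1 (.one ⟨15899, 3, 7⟩) (.one ⟨9543, 3, 6⟩))) (.node 2 (.node 1 (.one ⟨3568, 3, 5⟩) (.one ⟨3633, 4, 7⟩)) (.node 1 (.one ⟨13077, 2, 7⟩) (.one ⟨90, 0, 6⟩)))) (.node 4 (.node 2 (.node 1 (.one ⟨15019, 0, 6⟩) (.one ⟨411, 1, 5⟩)) (.node 1 (.one ⟨5582, 0, 6⟩) (.one ⟨14641, 4, 4⟩))) (.node 2 (.node 1 (.one ⟨8408, 1, 3⟩) (.one ⟨12363, 4, 6⟩)) (.node 1 (.one ⟨8502, 4, 4⟩) (.one ⟨12802, 3, 6⟩)))))))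
def par1_11_3 : Arr Par :=
  (.node 32 (.node 16 (.node 8 (.node 4 (.node 2 (.node 1 (.one ⟨6289, 2, 7⟩) (.one ⟨13078, 2, 6⟩)) (.node 1 (.one ⟨12546, 2, 4⟩) (.one ⟨11231, 4, 6⟩))) (.node 2 (.node 1 (.one ⟨999, 4, 5⟩) (.one ⟨15014, 0, 6⟩)) (.node 1 (.one ⟨6584, 3, 6⟩) (.one ⟨14702, 3, 6⟩)))) (.node 4 (.node 2 (.node 1 (.one ⟨12902, 4, 4⟩) (.one ⟨8513, 2, 4⟩)) (.node 1 (.one ⟨9079, 1, 6⟩) (.one ⟨12259, 0, 4⟩))) (.node 2 (.node 1 (.one ⟨5008, 4, 4⟩) (.one ⟨2896, 0, 5⟩)) (.node 1 (.one ⟨13267, 2, 6⟩) (.one ⟨6841, 2, 5⟩))))) (.node 8 (.node 4 (.node 2 (.node 1 (.one ⟨16437, 4, 5⟩) (.one ⟨15760, 2, 5⟩)) (.node 1 (.one ⟨14672, 2, 5⟩) (.one ⟨4686, 2, 5⟩))) (.node 2 (.node 1 (.one ⟨468, 0, 6⟩) (.one ⟨8812, 0, 4⟩)) (.node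 1 (.one ⟨2925, 0, 5⟩) (.one ⟨8487, 2, 5⟩)))) (.node 4 (.node 2 (.node 1 (.one ⟨6922, 1, 5⟩) (.one ⟨16881, 2, 5⟩)) (.node 1 (.one ⟨16863, 2, 4⟩) (.one ⟨15011, 0, 5⟩))) (.node 2 (.node 1 (.one ⟨12024, 1, 6⟩) (.one ⟨5326, 4, 6⟩)) (.node 1 (.one ⟨10129, 4, 6⟩) (.one ⟨16493, 1, 6⟩)))))) (.node 16 (.node 8 (.node 4 (.node 2 (.node 1 (.one ⟨13736, 3, 7⟩) (.one ⟨12066, 1, 6⟩)) (.node 1 (.one ⟨10976, 0, 6⟩) (.one ⟨5556, 0, 6⟩))) (.node 2 (.node 1 (.one ⟨16423, 2, 6⟩) (.one ⟨1615, 4, 5⟩)) (.node 1 (.one ⟨9283, 3, 4⟩) (.one ⟨16474, 1, 5⟩)))) (.node 4 (.node 2 (.node 1 (.one ⟨3965, 1, 6⟩) (.one ⟨2925, 4, 5⟩)) (.node 1 (.one ⟨13701, 3, 6⟩) (.one ⟨14733, 4, 5⟩))) (.node 2 (.node 1 (.one ⟨6925, 1, 6⟩) (.one ⟨2810, 4, 6⟩))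 (.node 1 (.one ⟨5972, 4, 6⟩) (.one ⟨14468, 3, 5⟩))))) (.node 8 (.node 4 (.node 2 (.node 1 (.one ⟨4179, 3, 6⟩) (.one ⟨6781, 1, 6⟩)) (.node 1 (.one ⟨4711, 2, 5⟩) (.one ⟨13502, 1, 6⟩))) (.node 2 (.node 1 (.one ⟨4042, 0, 5⟩) (.one ⟨16116, 3, 5⟩)) (.node 1 (.one ⟨733, 3, 6⟩) (.one ⟨8910, 2, 6⟩)))) (.node 4 (.node 2 (.node 1 (.one ⟨10734, 3, 6⟩) (.one ⟨6821, 1, 4⟩)) (.node 1 (.one ⟨11122, 0, 5⟩) (.one ⟨12135, 0, 4⟩))) (.node 2 (.node 1 (.one ⟨16974, 0, 4⟩) (.one ⟨5255, 4, 5⟩)) (.node 1 (.one ⟨13358, 4, 6⟩) (.one ⟨30, 2, 6⟩)))))))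
def par1_11_4 : Arr Par :=
  (.node 32 (.node 16 (.node 8 (.node 4 (.node 2 (.node 1 (.one ⟨5651, 3, 5⟩) (.one ⟨16725, 1, 4⟩)) (.node 1 (.one ⟨4299, 4, 6⟩) (.one ⟨4136, 4, 4⟩))) (.node 2 (.node 1 (.one ⟨1375, 4, 6⟩) (.one ⟨13523, 1, 5⟩)) (.node 1 (.one ⟨5791, 1, 4⟩) (.one ⟨15783, 4, 6⟩)))) (.node 4 (.node 2 (.node 1 (.one ⟨14714, 4, 5⟩) (.one ⟨8123, 0, 6⟩)) (.node 1 (.one ⟨6777, 4, 6⟩) (.one ⟨6747, 1, 7⟩))) (.node 2 (.node 1 (.one ⟨2606, 4, 5⟩) (.one ⟨13523, 4, 5⟩)) (.node 1 (.one ⟨15132, 0, 6⟩) (.one ⟨11196, 4, 5⟩))))) (.node 8 (.node 4 (.node 2 (.node 1 (.one ⟨16731, 1, 5⟩) (.one ⟨14393, 2, 6⟩)) (.node 1 (.one ⟨784, 3, 4⟩) (.one ⟨5246, 0, 6⟩))) (.node 2 (.node 1 (.one ⟨11372, 2, 6⟩) (.one ⟨8850, 3, 5⟩)) (.node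 1 (.one ⟨15116, 0, 5⟩) (.one ⟨7937, 3, 5⟩)))) (.node 4 (.node 2 (.node 1 (.one ⟨8683, 1, 5⟩) (.one ⟨14808, 1, 7⟩)) (.node 1 (.one ⟨5606, 2, 6⟩) (.one ⟨17020, 3, 6⟩))) (.node 2 (.node 1 (.one ⟨12473, 1, 6⟩) (.one ⟨3359, 4, 6⟩)) (.node 1 (.one ⟨16259, 2, 5⟩) (.one ⟨10382, 2, 6⟩)))))) (.node 16 (.node 8 (.node 4 (.node 2 (.node 1 (.one ⟨7443, 4, 5⟩) (.one ⟨5670, 4, 6⟩)) (.node 1 (.one ⟨6906, 3, 5⟩) (.one ⟨1219, 4, 6⟩))) (.node 2 (.node 1 (.one ⟨450, 4, 5⟩) (.one ⟨3294, 4, 6⟩)) (.node 1 (.one ⟨7076, 0, 5⟩) (.one ⟨12502, 1, 5⟩)))) (.node 4 (.node 2 (.node 1 (.one ⟨5633, 4, 3⟩) (.one ⟨14224, 2, 6⟩)) (.node 1 (.one ⟨2390, 1, 5⟩) (.one ⟨6178, 0, 5⟩))) (.node 2 (.node 1 (.one ⟨4579, 2, 7⟩) (.one ⟨2369, 3, 5⟩)) (.node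 1 (.one ⟨8635, 1, 5⟩) (.one ⟨11252, 4, 4⟩))))) (.node 8 (.node 4 (.node 2 (.node 1 (.one ⟨11396, 1, 5⟩) (.one ⟨10709, 1, 5⟩)) (.node 1 (.one ⟨2002, 3, 6⟩) (.one ⟨13889, 1, 5⟩))) (.node 2 (.node 1 (.one ⟨5850, 3, 7⟩) (.one ⟨1313, 3, 5⟩)) (.node 1 (.one ⟨15593, 3, 6⟩) (.one ⟨15994, 0, 5⟩)))) (.node 4 (.node 2 (.node 1 (.one ⟨16613, 3, 6⟩) (.one ⟨5035, 0, 5⟩)) (.node 1 (.one ⟨11185, 0, 5⟩) (.one ⟨13878, 1, 6⟩))) (.node 2 (.node 1 (.one ⟨751, 0, 7⟩) (.one ⟨5058, 2, 5⟩)) (.node 1 (.one ⟨5027, 2, 6⟩) (.one ⟨3436, 4, 4⟩)))))))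
def par1_11_5 : Arr Par :=
  (.node 32 (.node 16 (.node 8 (.node 4 (.node 2 (.node 1 (.one ⟨11482, 4, 5⟩) (.one ⟨5005, 0, 5⟩)) (.node 1 (.one ⟨3426, 4, 3⟩) (.one ⟨4279, 0, 6⟩))) (.node 2 (.node 1 (.one ⟨12581, 1, 5⟩) (.one ⟨8632, 1, 4⟩)) (.node 1 (.one ⟨8761, 2, 5⟩) (.one ⟨8972, 2, 3⟩)))) (.node 4 (.node 2 (.node 1 (.one ⟨9626, 3, 4⟩) (.one ⟨14496, 2, 5⟩)) (.node 1 (.one ⟨8932, 4, 6⟩) (.one ⟨11451, 3, 5⟩))) (.node 2 (.node 1 (.one ⟨5081, 4, 4⟩) (.one ⟨14360, 2, 6⟩)) (.node 1 (.one ⟨0, 3, 5⟩) (.one ⟨88, 3, 5⟩))))) (.node 8 (.node 4 (.node 2 (.node 1 (.one ⟨4510, 4, 6⟩) (.one ⟨11950, 3, 6⟩)) (.node 1 (.one ⟨15986, 0, 6⟩) (.one ⟨11928, 3, 4⟩))) (.node 2 (.node 1 (.one ⟨12214, 4, 5⟩) (.one ⟨3166, 0, 6⟩)) (.node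 1 (.one ⟨14275, 0, 6⟩) (.one ⟨2313, 3, 6⟩)))) (.node 4 (.node 2 (.node 1 (.one ⟨5210, 1, 4⟩) (.one ⟨366, 0, 5⟩)) (.node 1 (.one ⟨15433, 2, 5⟩) (.one ⟨651, 4, 4⟩))) (.node 2 (.node 1 (.one ⟨12127, 4, 6⟩) (.one ⟨15085, 3, 5⟩)) (.node 1 (.one ⟨3485, 2, 5⟩) (.one ⟨15992, 0, 4⟩)))))) (.node 16 (.node 8 (.node 4 (.node 2 (.node 1 (.one ⟨13289, 1, 5⟩) (.one ⟨11335, 2, 4⟩)) (.node 1 (.one ⟨3384, 4, 6⟩) (.one ⟨16706, 1, 5⟩))) (.node 2 (.node 1 (.one ⟨757, 3, 6⟩) (.one ⟨10963, 4, 6⟩)) (.node 1 (.one ⟨7080, 1, 5⟩) (.one ⟨444, 0, 5⟩)))) (.node 4 (.node 2 (.node 1 (.one ⟨6916, 4, 5⟩) (.one ⟨15985, 0, 6⟩)) (.node 1 (.one ⟨12209, 2, 6⟩) (.one ⟨9089, 0, 6⟩))) (.node 2 (.node 1 (.one ⟨3764, 4, 6⟩) (.one ⟨5035, 2, 5⟩)) (.node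 1 (.one ⟨15822, 1, 6⟩) (.one ⟨10483, 4, 5⟩))))) (.node 8 (.node 4 (.node 2 (.node 1 (.one ⟨7466, 2, 6⟩) (.one ⟨5766, 4, 5⟩)) (.node 1 (.one ⟨16442, 2, 6⟩) (.one ⟨9093, 2, 5⟩))) (.node 2 (.node 1 (.one ⟨12120, 2, 4⟩) (.one ⟨2475, 4, 6⟩)) (.node 1 (.one ⟨13950, 3, 5⟩) (.one ⟨2374, 0, 3⟩)))) (.node 4 (.node 2 (.node 1 (.one ⟨14551, 1, 6⟩) (.one ⟨16549, 4, 6⟩)) (.node 1 (.one ⟨12346, 2, 6⟩) (.one ⟨10161, 0, 6⟩))) (.node 2 (.node 1 (.one ⟨968, 1, 4⟩) (.one ⟨15545, 3, 6⟩)) (.node 1 (.one ⟨8805, 4, 5⟩) (.one ⟨9949, 3, 6⟩)))))))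
def par1_11_6 : Arr Par :=
  (.node 32 (.node 16 (.node 8 (.node 4 (.node 2 (.node 1 (.one ⟨5303, 1, 5⟩) (.one ⟨16226, 2, 6⟩)) (.node 1 (.one ⟨10097, 3, 6⟩) (.one ⟨12413, 4, 6⟩))) (.node 2 (.node 1 (.one ⟨11825, 0, 5⟩) (.one ⟨3405, 4, 7⟩)) (.node 1 (.one ⟨10345, 2, 5⟩) (.one ⟨6449, 4, 6⟩)))) (.node 4 (.node 2 (.node 1 (.one ⟨5385, 1, 7⟩) (.one ⟨15190, 1, 4⟩)) (.node 1 (.one ⟨947, 2, 4⟩) (.one ⟨12284, 2, 5⟩))) (.node 2 (.node 1 (.one ⟨544, 2, 6⟩) (.one ⟨12285, 2, 6⟩)) (.node 1 (.one ⟨10963, 1, 6⟩) (.one ⟨9906, 3, 5⟩))))) (.node 8 (.node 4 (.node 2 (.node 1 (.one ⟨11560, 0, 4⟩) (.one ⟨7474, 2, 5⟩)) (.node 1 (.one ⟨12071, 4, 4⟩) (.one ⟨10857, 0, 6⟩))) (.node 2 (.node 1 (.one ⟨10385, 4, 5⟩) (.one ⟨4857, 0, 5⟩))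 (.node 1 (.one ⟨1150, 2, 6⟩) (.one ⟨10404, 2, 6⟩)))) (.node 4 (.node 2 (.node 1 (.one ⟨9404, 3, 4⟩) (.one ⟨3567, 3, 3⟩)) (.node 1 (.one ⟨8393, 4, 6⟩) (.one ⟨16549, 1, 6⟩))) (.node 2 (.node 1 (.one ⟨12166, 0, 6⟩) (.one ⟨17031, 3, 7⟩)) (.node 1 (.one ⟨13411, 3, 3⟩) (.one ⟨12068, 1, 6⟩)))))) (.node 16 (.node 8 (.node 4 (.node 2 (.node 1 (.one ⟨11122, 2, 5⟩) (.one ⟨13528, 0, 6⟩)) (.node 1 (.one ⟨16503, 1, 5⟩) (.one ⟨10469, 0, 6⟩))) (.node 2 (.node 1 (.one ⟨429, 4, 6⟩) (.one ⟨1450, 3, 6⟩)) (.node 1 (.one ⟨16965, 3, 6⟩) (.one ⟨6506, 1, 6⟩)))) (.node 4 (.node 2 (.node 1 (.one ⟨10452, 0, 6⟩) (.one ⟨12023, 3, 5⟩)) (.node 1 (.one ⟨7120, 1, 4⟩) (.one ⟨2443, 4, 5⟩))) (.node 2 (.node 1 (.one ⟨4084, 0, 5⟩) (.one ⟨7072, 3,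 6⟩)) (.node 1 (.one ⟨12030, 3, 6⟩) (.one ⟨38, 4, 4⟩))))) (.node 8 (.node 4 (.node 2 (.node 1 (.one ⟨7746, 2, 6⟩) (.one ⟨594, 4, 4⟩)) (.node 1 (.one ⟨7344, 3, 6⟩) (.one ⟨8719, 1, 6⟩))) (.node 2 (.node 1 (.one ⟨15862, 2, 5⟩) (.one ⟨7823, 2, 6⟩)) (.node 1 (.one ⟨17062, 0, 6⟩) (.one ⟨13904, 1, 5⟩)))) (.node 4 (.node 2 (.node 1 (.one ⟨8717, 1, 6⟩) (.one ⟨15024, 1, 6⟩)) (.node 1 (.one ⟨10422, 0, 4⟩) (.one ⟨17016, 0, 6⟩))) (.node 2 (.node 1 (.one ⟨16583, 4, 4⟩) (.one ⟨11867, 0, 5⟩)) (.node 1 (.one ⟨16415, 4, 6⟩) (.one ⟨8623, 0, 5⟩)))))))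
def par1_11_7 : Arr Par :=
  (.node 32 (.node 16 (.node 8 (.node 4 (.node 2 (.node 1 (.one ⟨5351, 4, 6⟩) (.one ⟨1088, 4, 3⟩)) (.node 1 (.one ⟨3539, 3, 7⟩) (.one ⟨15139, 0, 4⟩))) (.node 2 (.node 1 (.one ⟨2438, 0, 6⟩) (.one ⟨12135, 4, 4⟩)) (.node 1 (.one ⟨4411, 1, 4⟩) (.one ⟨2921, 4, 5⟩)))) (.node 4 (.node 2 (.node 1 (.one ⟨6911, 2, 6⟩) (.one ⟨3194, 2, 6⟩)) (.node 1 (.one ⟨12834, 2, 5⟩) (.one ⟨13685, 3, 7⟩))) (.node 2 (.node 1 (.one ⟨16038, 2, 6⟩) (.one ⟨16803, 1, 7⟩)) (.node 1 (.one ⟨13042, 3, 6⟩) (.one ⟨10176, 0, 4⟩))))) (.node 8 (.node 4 (.node 2 (.node 1 (.one ⟨8568, 2, 4⟩) (.one ⟨16066, 2, 5⟩)) (.node 1 (.one ⟨7759, 1, 5⟩) (.one ⟨5556, 2, 6⟩))) (.node 2 (.node 1 (.one ⟨12723, 3, 6⟩) (.one ⟨11584, 2, 6⟩))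 (.node 1 (.one ⟨13894, 1, 5⟩) (.one ⟨5282, 1, 6⟩)))) (.node 4 (.node 2 (.node 1 (.one ⟨12190, 0, 5⟩) (.one ⟨1725, 2, 5⟩)) (.node 1 (.one ⟨2082, 3, 7⟩) (.one ⟨2693, 2, 7⟩))) (.node 2 (.node 1 (.one ⟨11380, 1, 5⟩) (.one ⟨2080, 3, 6⟩)) (.node 1 (.one ⟨5298, 2, 5⟩) (.one ⟨5297, 4, 6⟩)))))) (.node 16 (.node 8 (.node 4 (.node 2 (.node 1 (.one ⟨2159, 0, 6⟩) (.one ⟨7383, 0, 6⟩)) (.node 1 (.one ⟨5809, 1, 5⟩) (.one ⟨15130, 0, 4⟩))) (.node 2 (.node 1 (.one ⟨15671, 4, 6⟩) (.one ⟨17026, 0, 4⟩)) (.node 1 (.one ⟨5282, 3, 6⟩) (.one ⟨2716, 2, 4⟩)))) (.node 4 (.node 2 (.node 1 (.one ⟨14474, 3, 4⟩) (.one ⟨6578, 4, 5⟩)) (.node 1 (.one ⟨11114, 4, 6⟩) (.one ⟨16390, 2, 5⟩))) (.node 2 (.node 1 (.one ⟨14131, 4, 5⟩) (.one ⟨1863, 4,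 6⟩)) (.node 1 (.one ⟨10274, 0, 5⟩) (.one ⟨15747, 4, 2⟩))))) (.node 8 (.node 4 (.node 2 (.node 1 (.one ⟨1994, 2, 6⟩) (.one ⟨11042, 1, 6⟩)) (.node 1 (.one ⟨11526, 4, 5⟩) (.one ⟨15474, 2, 6⟩))) (.node 2 (.node 1 (.one ⟨5187, 4, 6⟩) (.one ⟨15934, 1, 4⟩)) (.node 1 (.one ⟨12011, 1, 4⟩) (.one ⟨3298, 2, 6⟩)))) (.node 4 (.node 2 (.node 1 (.one ⟨306, 0, 4⟩) (.one ⟨6802, 2, 5⟩)) (.node 1 (.one ⟨8086, 2, 6⟩) (.one ⟨14578, 1, 5⟩))) (.node 2 (.node 1 (.one ⟨6553, 2, 5⟩) (.one ⟨15217, 4, 5⟩)) (.node 1 (.one ⟨1912, 2, 5⟩) (.one ⟨16477, 1, 6⟩)))))))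
def par1_11_8 : Arr Par :=
  (.node 32 (.node 16 (.node 8 (.node 4 (.node 2 (.node 1 (.one ⟨4856, 4, 2⟩) (.one ⟨7104, 1, 3⟩)) (.node 1 (.one ⟨11986, 1, 6⟩) (.one ⟨9422, 4, 5⟩))) (.node 2 (.node 1 (.one ⟨15657, 0, 5⟩) (.one ⟨15932, 1, 3⟩)) (.node 1 (.one ⟨2971, 1, 5⟩) (.one ⟨9630, 2, 6⟩)))) (.node 4 (.node 2 (.node 1 (.one ⟨8235, 2, 5⟩) (.one ⟨4263, 4, 6⟩)) (.node 1 (.one ⟨3912, 1, 6⟩) (.one ⟨15984, 3, 6⟩))) (.node 2 (.node 1 (.one ⟨16188, 2, 7⟩) (.one ⟨12830, 2, 7⟩)) (.node 1 (.one ⟨7380, 2, 5⟩) (.one ⟨11012, 1, 6⟩))))) (.node 8 (.node 4 (.node 2 (.node 1 (.one ⟨9117, 3, 3⟩) (.one ⟨5097, 0, 6⟩)) (.node 1 (.one ⟨15941, 2, 4⟩) (.one ⟨13457, 1, 5⟩))) (.node 2 (.node 1 (.one ⟨15569, 4, 6⟩) (.one ⟨2980, 0, 6⟩))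 (.node 1 (.one ⟨5386, 2, 5⟩) (.one ⟨5412, 1, 6⟩)))) (.node 4 (.node 2 (.node 1 (.one ⟨1661, 3, 5⟩) (.one ⟨2081, 4, 7⟩)) (.node 1 (.one ⟨6227, 0, 6⟩) (.one ⟨6455, 2, 5⟩))) (.node 2 (.node 1 (.one ⟨8657, 4, 5⟩) (.one ⟨8396, 0, 5⟩)) (.node 1 (.one ⟨993, 1, 5⟩) (.one ⟨29, 0, 7⟩)))))) (.node 16 (.node 8 (.node 4 (.node 2 (.node 1 (.one ⟨16248, 2, 6⟩) (.one ⟨12338, 0, 5⟩)) (.node 1 (.one ⟨16322, 3, 5⟩) (.one ⟨1378, 2, 6⟩))) (.node 2 (.node 1 (.one ⟨7576, 0, 6⟩) (.one ⟨4729, 4, 6⟩)) (.node 1 (.one ⟨6424, 4, 5⟩) (.one ⟨5210, 3, 4⟩)))) (.node 4 (.node 2 (.node 1 (.one ⟨7205, 1, 5⟩) (.one ⟨9024, 3, 7⟩)) (.node 1 (.one ⟨1864, 4, 5⟩) (.one ⟨15266, 4, 6⟩))) (.node 2 (.node 1 (.one ⟨993, 4, 5⟩) (.one ⟨14309, 0, 6⟩)) (.node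 1 (.one ⟨10719, 4, 5⟩) (.one ⟨704, 2, 6⟩))))) (.node 8 (.node 4 (.node 2 (.node 1 (.one ⟨12410, 0, 6⟩) (.one ⟨14239, 3, 4⟩)) (.node 1 (.one ⟨14497, 2, 4⟩) (.one ⟨7338, 4, 5⟩))) (.node 2 (.node 1 (.one ⟨8608, 0, 5⟩) (.one ⟨13482, 3, 7⟩)) (.node 1 (.one ⟨8696, 3, 7⟩) (.one ⟨15873, 1, 6⟩)))) (.node 4 (.node 2 (.node 1 (.one ⟨5998, 2, 6⟩) (.one ⟨15174, 0, 6⟩)) (.node 1 (.one ⟨6793, 1, 5⟩) (.one ⟨261, 3, 5⟩))) (.node 2 (.node 1 (.one ⟨7855, 3, 6⟩) (.one ⟨14533, 2, 7⟩)) (.node 1 (.one ⟨10470, 4, 6⟩) (.one ⟨12367, 4, 6⟩)))))))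
def par1_11_9 : Arr Par :=
  (.node 32 (.node 16 (.node 8 (.node 4 (.node 2 (.node 1 (.one ⟨4347, 0, 6⟩) (.one ⟨12656, 2, 5⟩)) (.node 1 (.one ⟨9229, 0, 6⟩) (.one ⟨16356, 2, 6⟩))) (.node 2 (.node 1 (.one ⟨15808, 3, 6⟩) (.one ⟨16638, 0, 5⟩)) (.node 1 (.one ⟨8576, 0, 5⟩) (.one ⟨9153, 0, 5⟩)))) (.node 4 (.node 2 (.node 1 (.one ⟨12229, 0, 6⟩) (.one ⟨8504, 0, 7⟩)) (.node 1 (.one ⟨7108, 0, 5⟩) (.one ⟨11139, 1, 4⟩))) (.node 2 (.node 1 (.one ⟨626, 3, 5⟩) (.one ⟨8990, 4, 6⟩)) (.node 1 (.one ⟨4173, 0, 5⟩) (.one ⟨9215, 0, 5⟩))))) (.node 8 (.node 4 (.node 2 (.node 1 (.one ⟨6333, 1, 4⟩) (.one ⟨9392, 2, 5⟩)) (.node 1 (.one ⟨5253, 3, 6⟩) (.one ⟨11097, 1, 6⟩))) (.node 2 (.node 1 (.one ⟨16331, 4, 6⟩) (.one ⟨713, 0, 6⟩)) (.node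 1 (.one ⟨12567, 2, 6⟩) (.one ⟨12757, 2, 5⟩)))) (.node 4 (.node 2 (.node 1 (.one ⟨2796, 4, 5⟩) (.one ⟨377, 3, 6⟩)) (.node 1 (.one ⟨14492, 2, 5⟩) (.one ⟨13557, 2, 4⟩))) (.node 2 (.node 1 (.one ⟨6779, 3, 5⟩) (.one ⟨12661, 3, 5⟩)) (.node 1 (.one ⟨14073, 2, 7⟩) (.one ⟨12431, 3, 6⟩)))))) (.node 16 (.node 8 (.node 4 (.node 2 (.node 1 (.one ⟨14705, 2, 4⟩) (.one ⟨6231, 3, 4⟩)) (.node 1 (.one ⟨4391, 3, 6⟩) (.one ⟨6924, 3, 6⟩))) (.node 2 (.node 1 (.one ⟨2361, 4, 3⟩) (.one ⟨10461, 4, 6⟩)) (.node 1 (.one ⟨2456, 4, 3⟩) (.one ⟨11322, 3, 5⟩)))) (.node 4 (.node 2 (.node 1 (.one ⟨11071, 1, 6⟩) (.one ⟨15890, 2, 6⟩)) (.node 1 (.one ⟨11146, 4, 5⟩) (.one ⟨13300, 2, 6⟩))) (.node 2 (.node 1 (.one ⟨11517, 4, 6⟩) (.one ⟨6625, 3, 3⟩))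 (.node 1 (.one ⟨15465, 2, 5⟩) (.one ⟨6374, 1, 5⟩))))) (.node 8 (.node 4 (.node 2 (.node 1 (.one ⟨11910, 1, 7⟩) (.one ⟨4942, 4, 4⟩)) (.node 1 (.one ⟨16599, 0, 6⟩) (.one ⟨8544, 0, 7⟩))) (.node 2 (.node 1 (.one ⟨2554, 2, 6⟩) (.one ⟨9218, 0, 5⟩)) (.node 1 (.one ⟨3606, 2, 6⟩) (.one ⟨244, 4, 5⟩)))) (.node 4 (.node 2 (.node 1 (.one ⟨12285, 0, 6⟩) (.one ⟨15405, 3, 4⟩)) (.node 1 (.one ⟨15616, 4, 4⟩) (.one ⟨666, 2, 5⟩))) (.node 2 (.node 1 (.one ⟨837, 4, 6⟩) (.one ⟨15619, 4, 5⟩)) (.node 1 (.one ⟨1039, 4, 6⟩) (.one ⟨9216, 0, 5⟩)))))))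
def par1_11_10 : Arr Par :=
  (.node 32 (.node 16 (.node 8 (.node 4 (.node 2 (.node 1 (.one ⟨4393, 0, 7⟩) (.one ⟨15743, 2, 4⟩)) (.node 1 (.one ⟨11256, 3, 6⟩) (.one ⟨6777, 1, 6⟩))) (.node 2 (.node 1 (.one ⟨13064, 3, 5⟩) (.one ⟨12436, 0, 5⟩)) (.node 1 (.one ⟨4586, 4, 6⟩) (.one ⟨9651, 3, 4⟩)))) (.node 4 (.node 2 (.node 1 (.one ⟨5437, 3, 4⟩) (.one ⟨5159, 2, 5⟩)) (.node 1 (.one ⟨12310, 0, 6⟩) (.one ⟨8569, 0, 4⟩))) (.node 2 (.node 1 (.one ⟨15792, 1, 6⟩) (.one ⟨10763, 1, 5⟩)) (.node 1 (.one ⟨2131, 2, 4⟩) (.one ⟨7336, 4, 5⟩))))) (.node 8 (.node 4 (.node 2 (.node 1 (.one ⟨5815, 4, 6⟩) (.one ⟨2495, 2, 6⟩)) (.node 1 (.one ⟨4648, 2, 6⟩) (.one ⟨8565, 0, 5⟩))) (.node 2 (.node 1 (.one ⟨5423, 1, 5⟩) (.one ⟨5711, 4, 6⟩)) (.node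 1 (.one ⟨13375, 2, 6⟩) (.one ⟨2447, 3, 6⟩)))) (.node 4 (.node 2 (.node 1 (.one ⟨8835, 2, 3⟩) (.one ⟨14341, 4, 7⟩)) (.node 1 (.one ⟨15717, 4, 6⟩) (.one ⟨9828, 2, 6⟩))) (.node 2 (.node 1 (.one ⟨9803, 3, 4⟩) (.one ⟨4151, 3, 6⟩)) (.node 1 (.one ⟨4260, 0, 6⟩) (.one ⟨1625, 3, 6⟩)))))) (.node 16 (.node 8 (.node 4 (.node 2 (.node 1 (.one ⟨9813, 3, 5⟩) (.one ⟨7341, 4, 4⟩)) (.node 1 (.one ⟨14933, 4, 6⟩) (.one ⟨15381, 4, 5⟩))) (.node 2 (.node 1 (.one ⟨6893, 4, 5⟩) (.one ⟨14384, 2, 7⟩)) (.node 1 (.one ⟨4822, 3, 5⟩) (.one ⟨8088, 3, 6⟩)))) (.node 4 (.node 2 (.node 1 (.one ⟨12723, 2, 6⟩) (.one ⟨6565, 2, 5⟩)) (.node 1 (.one ⟨4235, 0, 5⟩) (.one ⟨902, 0, 6⟩))) (.node 2 (.node 1 (.one ⟨3252, 3, 6⟩) (.one ⟨13591, 1, 7⟩)) (.node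 1 (.one ⟨12000, 2, 5⟩) (.one ⟨7309, 0, 6⟩))))) (.node 8 (.node 4 (.node 2 (.node 1 (.one ⟨6759, 2, 7⟩) (.one ⟨13881, 2, 6⟩)) (.node 1 (.one ⟨12134, 3, 6⟩) (.one ⟨1186, 4, 6⟩))) (.node 2 (.node 1 (.one ⟨13490, 2, 7⟩) (.one ⟨16337, 4, 6⟩)) (.node 1 (.one ⟨9565, 3, 6⟩) (.one ⟨17138, 4, 6⟩)))) (.node 4 (.node 2 (.node 1 (.one ⟨3401, 1, 5⟩) (.one ⟨15507, 4, 6⟩)) (.node 1 (.one ⟨2670, 3, 6⟩) (.one ⟨13246, 1, 6⟩))) (.node 2 (.node 1 (.one ⟨12143, 1, 6⟩) (.one ⟨7474, 3, 5⟩)) (.node 1 (.one ⟨2343, 4, 5⟩) (.one ⟨7414, 4, 6⟩)))))))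
def par1_11_11 : Arr Par :=
  (.node 32 (.node 16 (.node 8 (.node 4 (.node 2 (.node 1 (.one ⟨10063, 1, 6⟩) (.one ⟨11639, 1, 4⟩)) (.node 1 (.one ⟨9507, 4, 5⟩) (.one ⟨4128, 1, 6⟩))) (.node 2 (.node 1 (.one ⟨7246, 0, 6⟩) (.one ⟨11164, 1, 6⟩)) (.node 1 (.one ⟨5984, 2, 6⟩) (.one ⟨3990, 0, 4⟩)))) (.node 4 (.node 2 (.node 1 (.one ⟨2806, 4, 6⟩) (.one ⟨8309, 4, 6⟩)) (.node 1 (.one ⟨11623, 3, 6⟩) (.one ⟨2856, 2, 6⟩))) (.node 2 (.node 1 (.one ⟨2995, 1, 1⟩) (.one ⟨13122, 3, 6⟩)) (.node 1 (.one ⟨8446, 2, 6⟩) (.one ⟨2090, 1, 7⟩))))) (.node 8 (.node 4 (.node 2 (.node 1 (.one ⟨8408, 0, 3⟩) (.one ⟨5365, 4, 4⟩)) (.node 1 (.one ⟨411, 0, 5⟩) (.one ⟨8864, 3, 5⟩))) (.node 2 (.node 1 (.one ⟨2050, 4, 6⟩) (.one ⟨8982, 3, 6⟩)) (.node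 1 (.one ⟨1742, 2, 4⟩) (.one ⟨3628, 1, 5⟩)))) (.node 4 (.node 2 (.node 1 (.one ⟨10459, 2, 7⟩) (.one ⟨3506, 3, 6⟩)) (.node 1 (.one ⟨16474, 0, 5⟩) (.one ⟨6925, 0, 6⟩))) (.node 2 (.node 1 (.one ⟨960, 0, 7⟩) (.one ⟨9110, 0, 7⟩)) (.node 1 (.one ⟨3965, 0, 6⟩) (.one ⟨3505, 3, 6⟩)))))) (.node 16 (.node 8 (.node 4 (.node 2 (.node 1 (.one ⟨12116, 1, 4⟩) (.one ⟨10554, 0, 5⟩)) (.node 1 (.one ⟨12889, 2, 5⟩) (.one ⟨13066, 2, 6⟩))) (.node 2 (.node 1 (.one ⟨9098, 0, 5⟩) (.one ⟨9691, 2, 6⟩)) (.node 1 (.one ⟨12792, 3, 6⟩) (.one ⟨10717, 4, 5⟩)))) (.node 4 (.node 2 (.node 1 (.one ⟨8390, 0, 5⟩) (.one ⟨16174, 2, 6⟩)) (.node 1 (.one ⟨2638, 1, 6⟩) (.one ⟨4118, 1, 3⟩))) (.node 2 (.node 1 (.one ⟨12534, 4, 6⟩) (.one ⟨16132, 2, 6⟩)) (.node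 1 (.one ⟨12538, 4, 6⟩) (.one ⟨4855, 0, 3⟩))))) (.node 8 (.node 4 (.node 2 (.node 1 (.one ⟨15507, 2, 6⟩) (.one ⟨14820, 0, 3⟩)) (.node 1 (.one ⟨15503, 2, 6⟩) (.one ⟨13972, 3, 5⟩))) (.node 2 (.node 1 (.one ⟨8221, 0, 5⟩) (.one ⟨6861, 4, 6⟩)) (.node 1 (.one ⟨3719, 1, 5⟩) (.one ⟨764, 1, 4⟩)))) (.node 4 (.node 2 (.node 1 (.one ⟨10425, 2, 5⟩) (.one ⟨7467, 2, 4⟩)) (.node 1 (.one ⟨11781, 1, 4⟩) (.one ⟨12968, 0, 7⟩))) (.node 2 (.node 1 (.one ⟨12506, 3, 6⟩) (.one ⟨12240, 4, 6⟩)) (.node 1 (.one ⟨16967, 4, 5⟩) (.one ⟨11322, 0, 5⟩)))))))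
def par1_11_12 : Arr Par :=
  (.node 32 (.node 16 (.node 8 (.node 4 (.node 2 (.node 1 (.one ⟨13422, 4, 6⟩) (.one ⟨7763, 2, 7⟩)) (.node 1 (.one ⟨6951, 1, 6⟩) (.one ⟨2518, 4, 6⟩))) (.node 2 (.node 1 (.one ⟨2343, 1, 5⟩) (.one ⟨6353, 3, 5⟩)) (.node 1 (.one ⟨974, 2, 5⟩) (.one ⟨7193, 4, 5⟩)))) (.node 4 (.node 2 (.node 1 (.one ⟨16879, 1, 4⟩) (.one ⟨2317, 1, 7⟩)) (.node 1 (.one ⟨15946, 3, 6⟩) (.one ⟨5305, 3, 5⟩))) (.node 2 (.node 1 (.one ⟨543, 1, 5⟩) (.one ⟨8180, 3, 4⟩)) (.node 1 (.one ⟨12922, 0, 5⟩) (.one ⟨1776, 3, 1⟩))))) (.node 8 (.node 4 (.node 2 (.node 1 (.one ⟨16259, 0, 5⟩) (.one ⟨5943, 3, 2⟩)) (.node 1 (.one ⟨9420, 3, 5⟩) (.one ⟨9058, 2, 6⟩))) (.node 2 (.node 1 (.one ⟨16547, 1, 6⟩) (.one ⟨5996, 2, 6⟩)) (.node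 1 (.one ⟨759, 2, 7⟩) (.one ⟨15355, 2, 6⟩)))) (.node 4 (.node 2 (.node 1 (.one ⟨6846, 4, 3⟩) (.one ⟨6809, 0, 6⟩)) (.node 1 (.one ⟨16277, 2, 5⟩) (.one ⟨7025, 4, 4⟩))) (.node 2 (.node 1 (.one ⟨2941, 4, 6⟩) (.one ⟨10739, 2, 5⟩)) (.node 1 (.one ⟨9150, 4, 4⟩) (.one ⟨7380, 3, 5⟩)))))) (.node 16 (.node 8 (.node 4 (.node 2 (.node 1 (.one ⟨739, 4, 6⟩) (.one ⟨4539, 4, 4⟩)) (.node 1 (.one ⟨12570, 4, 5⟩) (.one ⟨14645, 3, 5⟩))) (.node 2 (.node 1 (.one ⟨9122, 4, 5⟩) (.one ⟨6565, 4, 5⟩)) (.node 1 (.one ⟨14826, 4, 5⟩) (.one ⟨3289, 0, 3⟩)))) (.node 4 (.node 2 (.node 1 (.one ⟨947, 1, 4⟩) (.one ⟨5199, 3, 5⟩)) (.node 1 (.one ⟨3172, 4, 6⟩) (.one ⟨8225, 0, 4⟩))) (.node 2 (.node 1 (.one ⟨1139, 4, 5⟩) (.one ⟨2585, 2, 6⟩)) (.node 1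 (.one ⟨5709, 0, 6⟩) (.one ⟨4711, 0, 5⟩))))) (.node 8 (.node 4 (.node 2 (.node 1 (.one ⟨3141, 0, 5⟩) (.one ⟨149, 4, 4⟩)) (.node 1 (.one ⟨9651, 1, 4⟩) (.one ⟨4653, 2, 5⟩))) (.node 2 (.node 1 (.one ⟨11571, 3, 6⟩) (.one ⟨9561, 3, 6⟩)) (.node 1 (.one ⟨439, 0, 6⟩) (.one ⟨4683, 0, 3⟩)))) (.node 4 (.node 2 (.node 1 (.one ⟨132, 4, 5⟩) (.one ⟨7758, 3, 5⟩)) (.node 1 (.one ⟨4041, 3, 5⟩) (.one ⟨9730, 1, 6⟩))) (.node 2 (.node 1 (.one ⟨4753, 1, 6⟩) (.one ⟨3773, 2, 4⟩)) (.node 1 (.one ⟨15676, 2, 6⟩) (.one ⟨15564, 2, 6⟩)))))))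
def par1_11_13 : Arr Par :=
  (.node 32 (.node 16 (.node 8 (.node 4 (.node 2 (.node 1 (.one ⟨10012, 4, 6⟩) (.one ⟨15658, 0, 5⟩)) (.node 1 (.one ⟨4384, 2, 5⟩) (.one ⟨2893, 1, 6⟩))) (.node 2 (.node 1 (.one ⟨15892, 3, 5⟩) (.one ⟨15950, 3, 5⟩)) (.node 1 (.one ⟨11718, 1, 5⟩) (.one ⟨12001, 2, 6⟩)))) (.node 4 (.node 2 (.node 1 (.one ⟨6914, 3, 6⟩) (.one ⟨15291, 3, 5⟩)) (.node 1 (.one ⟨11784, 2, 6⟩) (.one ⟨10637, 3, 6⟩))) (.node 2 (.node 1 (.one ⟨3775, 4, 6⟩) (.one ⟨6360, 3, 5⟩)) (.node 1 (.one ⟨16382, 0, 3⟩) (.one ⟨10864, 2, 6⟩))))) (.node 8 (.node 4 (.node 2 (.node 1 (.one ⟨2942, 3, 6⟩) (.one ⟨4714, 2, 6⟩)) (.node 1 (.one ⟨1585, 1, 6⟩) (.one ⟨11608, 2, 5⟩))) (.node 2 (.node 1 (.one ⟨8503, 2, 3⟩) (.one ⟨7550, 0, 4⟩))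 (.node 1 (.one ⟨10173, 4, 6⟩) (.one ⟨190, 2, 5⟩)))) (.node 4 (.node 2 (.node 1 (.one ⟨7104, 2, 3⟩) (.one ⟨12049, 2, 3⟩)) (.node 1 (.one ⟨1667, 1, 7⟩) (.one ⟨17046, 2, 4⟩))) (.node 2 (.node 1 (.one ⟨4543, 1, 5⟩) (.one ⟨2469, 4, 6⟩)) (.node 1 (.one ⟨4752, 1, 5⟩) (.one ⟨15021, 4, 5⟩)))))) (.node 16 (.node 8 (.node 4 (.node 2 (.node 1 (.one ⟨99, 1, 0⟩) (.one ⟨7359, 3, 6⟩)) (.node 1 (.one ⟨7571, 0, 6⟩) (.one ⟨8486, 4, 6⟩))) (.node 2 (.node 1 (.one ⟨5805, 4, 5⟩) (.one ⟨11100, 4, 6⟩)) (.node 1 (.one ⟨8127, 2, 5⟩) (.one ⟨11759, 4, 3⟩)))) (.node 4 (.node 2 (.node 1 (.one ⟨3809, 2, 5⟩) (.one ⟨10581, 2, 6⟩)) (.node 1 (.one ⟨4761, 1, 6⟩) (.one ⟨16163, 4, 6⟩))) (.node 2 (.node 1 (.one ⟨1783, 2, 5⟩) (.one ⟨17172, 4, 5⟩))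 (.node 1 (.one ⟨3286, 4, 4⟩) (.one ⟨3551, 4, 5⟩))))) (.node 8 (.node 4 (.node 2 (.node 1 (.one ⟨16116, 2, 5⟩) (.one ⟨1698, 1, 4⟩)) (.node 1 (.one ⟨15692, 2, 4⟩) (.one ⟨11708, 1, 5⟩))) (.node 2 (.node 1 (.one ⟨15611, 0, 6⟩) (.one ⟨12069, 0, 6⟩)) (.node 1 (.one ⟨12011, 2, 4⟩) (.one ⟨4025, 4, 5⟩)))) (.node 4 (.node 2 (.node 1 (.one ⟨12971, 2, 6⟩) (.one ⟨1618, 1, 6⟩)) (.node 1 (.one ⟨6031, 0, 5⟩) (.one ⟨4167, 4, 6⟩))) (.node 2 (.node 1 (.one ⟨12056, 2, 4⟩) (.one ⟨8605, 0, 6⟩)) (.node 1 (.one ⟨10242, 3, 4⟩) (.one ⟨10684, 4, 6⟩)))))))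
def par1_11_14 : Arr Par :=
  (.node 32 (.node 16 (.node 8 (.node 4 (.node 2 (.node 1 (.one ⟨6478, 2, 6⟩) (.one ⟨15023, 2, 6⟩)) (.node 1 (.one ⟨3203, 3, 5⟩) (.one ⟨10164, 3, 6⟩))) (.node 2 (.node 1 (.one ⟨3136, 4, 5⟩) (.one ⟨16631, 0, 5⟩)) (.node 1 (.one ⟨770, 1, 5⟩) (.one ⟨7504, 0, 7⟩)))) (.node 4 (.node 2 (.node 1 (.one ⟨6938, 3, 6⟩) (.one ⟨9300, 2, 6⟩)) (.node 1 (.one ⟨15775, 1, 5⟩) (.one ⟨14660, 1, 6⟩))) (.node 2 (.node 1 (.one ⟨13002, 2, 5⟩) (.one ⟨4575, 1, 6⟩)) (.node 1 (.one ⟨392, 1, 7⟩) (.one ⟨15410, 2, 5⟩))))) (.node 8 (.node 4 (.node 2 (.node 1 (.one ⟨8585, 0, 6⟩) (.one ⟨12623, 1, 4⟩)) (.node 1 (.one ⟨4714, 0, 6⟩) (.one ⟨9766, 1, 6⟩))) (.node 2 (.node 1 (.one ⟨1009, 0, 5⟩) (.one ⟨241, 1, 6⟩)) (.node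 1 (.one ⟨1260, 2, 5⟩) (.one ⟨12324, 3, 5⟩)))) (.node 4 (.node 2 (.node 1 (.one ⟨7315, 2, 5⟩) (.one ⟨4758, 1, 4⟩)) (.node 1 (.one ⟨8573, 0, 5⟩) (.one ⟨7105, 2, 6⟩))) (.node 2 (.node 1 (.one ⟨2857, 3, 6⟩) (.one ⟨1698, 2, 4⟩)) (.node 1 (.one ⟨10950, 2, 4⟩) (.one ⟨5161, 2, 4⟩)))))) (.node 16 (.node 8 (.node 4 (.node 2 (.node 1 (.one ⟨10937, 1, 6⟩) (.one ⟨12023, 0, 5⟩)) (.node 1 (.one ⟨2242, 3, 6⟩) (.one ⟨9686, 1, 6⟩))) (.node 2 (.node 1 (.one ⟨9467, 4, 5⟩) (.one ⟨14636, 2, 6⟩)) (.node 1 (.one ⟨2300, 4, 6⟩) (.one ⟨1155, 4, 6⟩)))) (.node 4 (.node 2 (.node 1 (.one ⟨12117, 3, 5⟩) (.one ⟨7900, 4, 7⟩)) (.node 1 (.one ⟨3449, 4, 5⟩) (.one ⟨9931, 2, 5⟩))) (.node 2 (.node 1 (.one ⟨7659, 1, 6⟩) (.one ⟨14474, 4, 4⟩)) (.node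 1 (.one ⟨12643, 1, 6⟩) (.one ⟨6661, 3, 5⟩))))) (.node 8 (.node 4 (.node 2 (.node 1 (.one ⟨10925, 1, 6⟩) (.one ⟨7130, 3, 5⟩)) (.node 1 (.one ⟨3932, 2, 5⟩) (.one ⟨5670, 3, 6⟩))) (.node 2 (.node 1 (.one ⟨15676, 0, 6⟩) (.one ⟨98, 0, 6⟩)) (.node 1 (.one ⟨2655, 2, 4⟩) (.one ⟨12965, 4, 6⟩)))) (.node 4 (.node 2 (.node 1 (.one ⟨11618, 1, 7⟩) (.one ⟨12856, 2, 6⟩)) (.node 1 (.one ⟨4660, 0, 4⟩) (.one ⟨13490, 4, 7⟩))) (.node 2 (.node 1 (.one ⟨5055, 2, 6⟩) (.one ⟨14290, 2, 5⟩)) (.node 1 (.one ⟨12477, 3, 6⟩) (.one ⟨8523, 3, 5⟩)))))))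
def par1_11_15 : Arr Par :=
  (.node 32 (.node 16 (.node 8 (.node 4 (.node 2 (.node 1 (.one ⟨3553, 3, 6⟩) (.one ⟨7008, 3, 5⟩)) (.node 1 (.one ⟨824, 3, 5⟩) (.one ⟨16953, 3, 6⟩))) (.node 2 (.node 1 (.one ⟨2995, 2, 1⟩) (.one ⟨7652, 0, 5⟩)) (.node 1 (.one ⟨13554, 1, 4⟩) (.one ⟨8639, 4, 5⟩)))) (.node 4 (.node 2 (.node 1 (.one ⟨14189, 3, 4⟩) (.one ⟨11623, 1, 6⟩)) (.node 1 (.one ⟨8642, 4, 7⟩) (.one ⟨14645, 0, 5⟩))) (.node 2 (.node 1 (.one ⟨7003, 1, 5⟩) (.one ⟨15734, 0, 5⟩)) (.node 1 (.one ⟨950, 2, 7⟩) (.one ⟨14497, 1, 4⟩))))) (.node 8 (.node 4 (.node 2 (.node 1 (.one ⟨16086, 3, 5⟩) (.one ⟨8133, 4, 6⟩)) (.node 1 (.one ⟨6254, 3, 6⟩) (.one ⟨16642, 0, 6⟩))) (.node 2 (.node 1 (.one ⟨16174, 4, 6⟩) (.one ⟨13537, 1, 6⟩))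 (.node 1 (.one ⟨2926, 0, 4⟩) (.one ⟨14059, 2, 5⟩)))) (.node 4 (.node 2 (.node 1 (.one ⟨150, 0, 6⟩) (.one ⟨8977, 2, 6⟩)) (.node 1 (.one ⟨7034, 1, 5⟩) (.one ⟨13943, 2, 6⟩))) (.node 2 (.node 1 (.one ⟨14183, 3, 5⟩) (.one ⟨9100, 2, 5⟩)) (.node 1 (.one ⟨16539, 4, 6⟩) (.one ⟨7251, 4, 6⟩)))))) (.node 16 (.node 8 (.node 4 (.node 2 (.node 1 (.one ⟨9439, 2, 6⟩) (.one ⟨6422, 1, 6⟩)) (.node 1 (.one ⟨5802, 4, 4⟩) (.one ⟨2739, 1, 3⟩))) (.node 2 (.node 1 (.one ⟨5032, 4, 6⟩) (.one ⟨7545, 3, 7⟩)) (.node 1 (.one ⟨4955, 4, 4⟩) (.one ⟨10156, 3, 4⟩)))) (.node 4 (.node 2 (.node 1 (.one ⟨4663, 0, 6⟩) (.one ⟨9501, 3, 6⟩)) (.node 1 (.one ⟨4872, 2, 4⟩) (.one ⟨10312, 2, 5⟩))) (.node 2 (.node 1 (.one ⟨8304, 4, 5⟩) (.one ⟨15448, 3, 5⟩))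 (.node 1 (.one ⟨5703, 4, 5⟩) (.one ⟨15565, 2, 5⟩))))) (.node 8 (.node 4 (.node 2 (.node 1 (.one ⟨4699, 0, 5⟩) (.one ⟨14022, 0, 4⟩)) (.node 1 (.one ⟨7481, 2, 5⟩) (.one ⟨15382, 4, 5⟩))) (.node 2 (.node 1 (.one ⟨15686, 0, 6⟩) (.one ⟨7216, 4, 7⟩)) (.node 1 (.one ⟨7519, 2, 5⟩) (.one ⟨15130, 2, 4⟩)))) (.node 4 (.node 2 (.node 1 (.one ⟨3590, 2, 5⟩) (.one ⟨14739, 3, 6⟩)) (.node 1 (.one ⟨8725, 3, 7⟩) (.one ⟨6996, 3, 6⟩))) (.node 2 (.node 1 (.one ⟨1402, 4, 4⟩) (.one ⟨16995, 3, 5⟩)) (.node 1 (.one ⟨7528, 3, 6⟩) (.one ⟨6343, 4, 6⟩)))))))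
def par1_11 : Arr Par :=
  (.node 512 (.node 256 (.node 128 (.node 64 par1_11_0 par1_11_1) (.node 64 par1_11_2 par1_11_3)) (.node 128 (.node 64 par1_11_4 par1_11_5) (.node 64 par1_11_6 par1_11_7))) (.node 256 (.node 128 (.node 64 par1_11_8 par1_11_9) (.node 64 par1_11_10 par1_11_11)) (.node 128 (.node 64 par1_11_12 par1_11_13) (.node 64 par1_11_14 par1_11_15))))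
def par1_12_0 : Arr Par :=
  (.node 32 (.node 16 (.node 8 (.node 4 (.node 2 (.node 1 (.one ⟨6675, 0, 6⟩) (.one ⟨16346, 2, 5⟩)) (.node 1 (.one ⟨4688, 0, 6⟩) (.one ⟨6431, 3, 6⟩))) (.node 2 (.node 1 (.one ⟨1037, 2, 6⟩) (.one ⟨6345, 1, 7⟩)) (.node 1 (.one ⟨9668, 4, 4⟩) (.one ⟨235, 0, 5⟩)))) (.node 4 (.node 2 (.node 1 (.one ⟨15523, 3, 4⟩) (.one ⟨5859, 3, 4⟩)) (.node 1 (.one ⟨8903, 1, 4⟩) (.one ⟨4658, 0, 6⟩))) (.node 2 (.node 1 (.one ⟨8562, 0, 7⟩) (.one ⟨4105, 3, 4⟩)) (.node 1 (.one ⟨2692, 1, 6⟩) (.one ⟨16833, 2, 3⟩))))) (.node 8 (.node 4 (.node 2 (.node 1 (.one ⟨7252, 4, 6⟩) (.one ⟨14543, 4, 5⟩)) (.node 1 (.one ⟨10978, 0, 4⟩) (.one ⟨5530, 2, 7⟩))) (.node 2 (.node 1 (.one ⟨10707, 3, 3⟩) (.one ⟨5437, 1, 4⟩)) (.node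 1 (.one ⟨15668, 0, 5⟩) (.one ⟨9326, 4, 6⟩)))) (.node 4 (.node 2 (.node 1 (.one ⟨6032, 0, 5⟩) (.one ⟨9325, 4, 5⟩)) (.node 1 (.one ⟨2035, 3, 5⟩) (.one ⟨601, 4, 4⟩))) (.node 2 (.node 1 (.one ⟨15084, 1, 6⟩) (.one ⟨14693, 0, 6⟩)) (.node 1 (.one ⟨8751, 2, 6⟩) (.one ⟨14478, 1, 5⟩)))))) (.node 16 (.node 8 (.node 4 (.node 2 (.node 1 (.one ⟨13860, 3, 6⟩) (.one ⟨10968, 0, 4⟩)) (.node 1 (.one ⟨16080, 3, 4⟩) (.one ⟨14053, 0, 6⟩))) (.node 2 (.node 1 (.one ⟨8285, 3, 4⟩) (.one ⟨6259, 4, 5⟩)) (.node 1 (.one ⟨9354, 2, 6⟩) (.one ⟨8959, 4, 7⟩)))) (.node 4 (.node 2 (.node 1 (.one ⟨4946, 3, 6⟩) (.one ⟨11673, 1, 4⟩)) (.node 1 (.one ⟨5007, 3, 6⟩) (.one ⟨14164, 2, 4⟩))) (.node 2 (.node 1 (.one ⟨12400, 3, 6⟩) (.one ⟨16613, 0, 6⟩)) (.node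 1 (.one ⟨2716, 1, 4⟩) (.one ⟨13769, 2, 4⟩))))) (.node 8 (.node 4 (.node 2 (.node 1 (.one ⟨7956, 4, 5⟩) (.one ⟨4749, 1, 5⟩)) (.node 1 (.one ⟨13866, 2, 4⟩) (.one ⟨411, 2, 5⟩))) (.node 2 (.node 1 (.one ⟨14275, 3, 6⟩) (.one ⟨10008, 3, 6⟩)) (.node 1 (.one ⟨16100, 0, 6⟩) (.one ⟨8798, 3, 4⟩)))) (.node 4 (.node 2 (.node 1 (.one ⟨4810, 2, 2⟩) (.one ⟨4620, 1, 6⟩)) (.node 1 (.one ⟨8792, 3, 5⟩) (.one ⟨2774, 0, 5⟩))) (.node 2 (.node 1 (.one ⟨8795, 3, 5⟩) (.one ⟨8793, 3, 6⟩)) (.node 1 (.one ⟨15128, 4, 5⟩) (.one ⟨15471, 0, 6⟩)))))))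
def par1_12_1 : Arr Par :=
  (.node 32 (.node 16 (.node 8 (.node 4 (.node 2 (.node 1 (.one ⟨14615, 2, 5⟩) (.one ⟨16282, 0, 6⟩)) (.node 1 (.one ⟨2224, 1, 5⟩) (.one ⟨4741, 1, 5⟩))) (.node 2 (.node 1 (.one ⟨10883, 0, 4⟩) (.one ⟨7120, 3, 4⟩)) (.node 1 (.one ⟨14320, 2, 5⟩) (.one ⟨11575, 0, 6⟩)))) (.node 4 (.node 2 (.node 1 (.one ⟨12568, 0, 6⟩) (.one ⟨5742, 4, 5⟩)) (.node 1 (.one ⟨9706, 3, 6⟩) (.one ⟨9393, 3, 5⟩))) (.node 2 (.node 1 (.one ⟨16332, 4, 6⟩) (.one ⟨16180, 0, 6⟩)) (.node 1 (.one ⟨6058, 2, 6⟩) (.one ⟨1152, 3, 5⟩))))) (.node 8 (.node 4 (.node 2 (.node 1 (.one ⟨7269, 3, 5⟩) (.one ⟨10374, 1, 5⟩)) (.node 1 (.one ⟨10286, 2, 6⟩) (.one ⟨4292, 3, 5⟩))) (.node 2 (.node 1 (.one ⟨4957, 4, 4⟩) (.one ⟨11470, 0, 7⟩))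 (.node 1 (.one ⟨5284, 4, 5⟩) (.one ⟨9091, 1, 5⟩)))) (.node 4 (.node 2 (.node 1 (.one ⟨13433, 3, 5⟩) (.one ⟨12191, 3, 5⟩)) (.node 1 (.one ⟨16133, 0, 6⟩) (.one ⟨7363, 2, 5⟩))) (.node 2 (.node 1 (.one ⟨15428, 0, 6⟩) (.one ⟨8157, 0, 6⟩)) (.node 1 (.one ⟨10731, 4, 5⟩) (.one ⟨5533, 2, 5⟩)))))) (.node 16 (.node 8 (.node 4 (.node 2 (.node 1 (.one ⟨9597, 2, 5⟩) (.one ⟨3198, 2, 6⟩)) (.node 1 (.one ⟨16662, 4, 4⟩) (.one ⟨5056, 1, 6⟩))) (.node 2 (.node 1 (.one ⟨2822, 0, 4⟩) (.one ⟨308, 1, 4⟩)) (.node 1 (.one ⟨2882, 2, 6⟩) (.one ⟨16484, 3, 6⟩)))) (.node 4 (.node 2 (.node 1 (.one ⟨4722, 1, 6⟩) (.one ⟨7053, 0, 6⟩)) (.node 1 (.one ⟨4516, 0, 6⟩) (.one ⟨12437, 3, 5⟩))) (.node 2 (.node 1 (.one ⟨14587, 1, 6⟩) (.one ⟨16766, 4, 6⟩))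 (.node 1 (.one ⟨13828, 4, 5⟩) (.one ⟨7263, 3, 5⟩))))) (.node 8 (.node 4 (.node 2 (.node 1 (.one ⟨5159, 3, 5⟩) (.one ⟨16976, 4, 5⟩)) (.node 1 (.one ⟨4750, 1, 5⟩) (.one ⟨5972, 2, 6⟩))) (.node 2 (.node 1 (.one ⟨15529, 0, 5⟩) (.one ⟨15171, 4, 6⟩)) (.node 1 (.one ⟨471, 1, 6⟩) (.one ⟨16837, 3, 6⟩)))) (.node 4 (.node 2 (.node 1 (.one ⟨17122, 1, 6⟩) (.one ⟨13207, 3, 7⟩)) (.node 1 (.one ⟨14610, 1, 5⟩) (.one ⟨5885, 3, 6⟩))) (.node 2 (.node 1 (.one ⟨11658, 3, 5⟩) (.one ⟨15222, 4, 5⟩)) (.node 1 (.one ⟨9117, 1, 3⟩) (.one ⟨10412, 1, 6⟩)))))))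
def par1_12_2 : Arr Par :=
  (.node 32 (.node 16 (.node 8 (.node 4 (.node 2 (.node 1 (.one ⟨16054, 2, 6⟩) (.one ⟨12632, 2, 5⟩)) (.node 1 (.one ⟨4742, 1, 6⟩) (.one ⟨6574, 3, 6⟩))) (.node 2 (.node 1 (.one ⟨10317, 3, 5⟩) (.one ⟨25, 3, 6⟩)) (.node 1 (.one ⟨15518, 0, 6⟩) (.one ⟨6570, 1, 6⟩)))) (.node 4 (.node 2 (.node 1 (.one ⟨17172, 1, 5⟩) (.one ⟨801, 3, 6⟩)) (.node 1 (.one ⟨9741, 4, 5⟩) (.one ⟨13539, 3, 5⟩))) (.node 2 (.node 1 (.one ⟨793, 1, 5⟩) (.one ⟨2132, 2, 5⟩)) (.node 1 (.one ⟨3640, 3, 5⟩) (.one ⟨5051, 1, 5⟩))))) (.node 8 (.node 4 (.node 2 (.node 1 (.one ⟨7266, 4, 6⟩) (.one ⟨13107, 3, 5⟩)) (.node 1 (.one ⟨9711, 1, 5⟩) (.one ⟨16260, 0, 4⟩))) (.node 2 (.node 1 (.one ⟨3627, 0, 4⟩) (.one ⟨9594, 4, 4⟩)) (.node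 1 (.one ⟨2066, 3, 6⟩) (.one ⟨8117, 0, 6⟩)))) (.node 4 (.node 2 (.node 1 (.one ⟨12547, 0, 6⟩) (.one ⟨9276, 3, 5⟩)) (.node 1 (.one ⟨15562, 4, 6⟩) (.one ⟨6481, 1, 5⟩))) (.node 2 (.node 1 (.one ⟨5124, 2, 6⟩) (.one ⟨5522, 2, 6⟩)) (.node 1 (.one ⟨10945, 2, 7⟩) (.one ⟨10365, 1, 6⟩)))))) (.node 16 (.node 8 (.node 4 (.node 2 (.node 1 (.one ⟨16400, 3, 5⟩) (.one ⟨15074, 0, 3⟩)) (.node 1 (.one ⟨10877, 4, 5⟩) (.one ⟨11588, 2, 6⟩))) (.node 2 (.node 1 (.one ⟨9470, 3, 6⟩) (.one ⟨7937, 2, 5⟩)) (.node 1 (.one ⟨1045, 1, 5⟩) (.one ⟨9717, 1, 7⟩)))) (.node 4 (.node 2 (.node 1 (.one ⟨5491, 2, 6⟩) (.one ⟨15578, 3, 6⟩)) (.node 1 (.one ⟨11131, 4, 5⟩) (.one ⟨12428, 4, 6⟩))) (.node 2 (.node 1 (.one ⟨3439, 0, 5⟩) (.one ⟨16167, 0, 5⟩))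 (.node 1 (.one ⟨4500, 0, 4⟩) (.one ⟨3564, 1, 6⟩))))) (.node 8 (.node 4 (.node 2 (.node 1 (.one ⟨6539, 3, 5⟩) (.one ⟨16731, 0, 5⟩)) (.node 1 (.one ⟨4823, 1, 5⟩) (.one ⟨9084, 4, 6⟩))) (.node 2 (.node 1 (.one ⟨7797, 2, 5⟩) (.one ⟨4082, 1, 6⟩)) (.node 1 (.one ⟨12506, 0, 6⟩) (.one ⟨14879, 0, 5⟩)))) (.node 4 (.node 2 (.node 1 (.one ⟨6535, 3, 6⟩) (.one ⟨7686, 2, 5⟩)) (.node 1 (.one ⟨7959, 4, 6⟩) (.one ⟨3485, 3, 5⟩))) (.node 2 (.node 1 (.one ⟨11687, 2, 7⟩) (.one ⟨8635, 0, 5⟩)) (.node 1 (.one ⟨12081, 1, 5⟩) (.one ⟨9976, 2, 6⟩)))))))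
def par1_12_3 : Arr Par :=
  (.node 32 (.node 16 (.node 8 (.node 4 (.node 2 (.node 1 (.one ⟨10873, 4, 6⟩) (.one ⟨8635, 4, 5⟩)) (.node 1 (.one ⟨8630, 0, 6⟩) (.one ⟨9506, 4, 4⟩))) (.node 2 (.node 1 (.one ⟨11781, 2, 4⟩) (.one ⟨918, 3, 6⟩)) (.node 1 (.one ⟨11363, 0, 6⟩) (.one ⟨5791, 0, 4⟩)))) (.node 4 (.node 2 (.node 1 (.one ⟨11878, 2, 4⟩) (.one ⟨5132, 3, 5⟩)) (.node 1 (.one ⟨3077, 1, 4⟩) (.one ⟨10469, 2, 6⟩))) (.node 2 (.node 1 (.one ⟨4686, 3, 5⟩) (.one ⟨13523, 0, 5⟩)) (.node 1 (.one ⟨16065, 0, 6⟩) (.one ⟨5351, 3, 6⟩))))) (.node 8 (.node 4 (.node 2 (.node 1 (.one ⟨6781, 0, 6⟩) (.one ⟨13502, 0, 6⟩)) (.node 1 (.one ⟨4803, 1, 5⟩) (.one ⟨12713, 2, 6⟩))) (.node 2 (.node 1 (.one ⟨10106, 1, 5⟩) (.one ⟨3505, 1, 6⟩)) (.node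 1 (.one ⟨13212, 2, 4⟩) (.one ⟨8136, 3, 6⟩)))) (.node 4 (.node 2 (.node 1 (.one ⟨25, 2, 6⟩) (.one ⟨11583, 1, 5⟩)) (.node 1 (.one ⟨351, 2, 5⟩) (.one ⟨2333, 4, 6⟩))) (.node 2 (.node 1 (.one ⟨13744, 2, 6⟩) (.one ⟨10959, 3, 6⟩)) (.node 1 (.one ⟨8141, 3, 6⟩) (.one ⟨2096, 3, 4⟩)))))) (.node 16 (.node 8 (.node 4 (.node 2 (.node 1 (.one ⟨3300, 0, 6⟩) (.one ⟨16675, 2, 6⟩)) (.node 1 (.one ⟨13834, 0, 6⟩) (.one ⟨5452, 3, 6⟩))) (.node 2 (.node 1 (.one ⟨7855, 2, 6⟩) (.one ⟨197, 3, 6⟩)) (.node 1 (.one ⟨14912, 2, 5⟩) (.one ⟨6578, 3, 5⟩)))) (.node 4 (.node 2 (.node 1 (.one ⟨10997, 3, 5⟩) (.one ⟨1470, 3, 7⟩)) (.node 1 (.one ⟨2515, 4, 6⟩) (.one ⟨4200, 4, 6⟩))) (.node 2 (.node 1 (.one ⟨10077, 1, 4⟩) (.one ⟨2187, 2, 6⟩)) (.node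 1 (.one ⟨12328, 4, 7⟩) (.one ⟨4772, 2, 7⟩))))) (.node 8 (.node 4 (.node 2 (.node 1 (.one ⟨10504, 2, 6⟩) (.one ⟨16318, 0, 6⟩)) (.node 1 (.one ⟨5210, 2, 4⟩) (.one ⟨12581, 2, 5⟩))) (.node 2 (.node 1 (.one ⟨9263, 3, 7⟩) (.one ⟨4543, 4, 5⟩)) (.node 1 (.one ⟨705, 0, 5⟩) (.one ⟨16799, 3, 6⟩)))) (.node 4 (.node 2 (.node 1 (.one ⟨8380, 1, 7⟩) (.one ⟨3640, 1, 5⟩)) (.node 1 (.one ⟨13116, 4, 5⟩) (.one ⟨1170, 2, 5⟩))) (.node 2 (.node 1 (.one ⟨9397, 3, 6⟩) (.one ⟨7241, 2, 6⟩)) (.node 1 (.one ⟨15161, 3, 6⟩) (.one ⟨10271, 3, 5⟩)))))))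
def par1_12_4 : Arr Par :=
  (.node 32 (.node 16 (.node 8 (.node 4 (.node 2 (.node 1 (.one ⟨11289, 4, 6⟩) (.one ⟨11251, 3, 2⟩)) (.node 1 (.one ⟨15595, 1, 3⟩) (.one ⟨15759, 0, 5⟩))) (.node 2 (.node 1 (.one ⟨4000, 2, 6⟩) (.one ⟨11228, 3, 6⟩)) (.node 1 (.one ⟨14747, 4, 6⟩) (.one ⟨15313, 0, 6⟩)))) (.node 4 (.node 2 (.node 1 (.one ⟨8122, 3, 6⟩) (.one ⟨324, 3, 7⟩)) (.node 1 (.one ⟨16375, 2, 5⟩) (.one ⟨2479, 3, 6⟩))) (.node 2 (.node 1 (.one ⟨16330, 2, 6⟩) (.one ⟨12614, 2, 7⟩)) (.node 1 (.one ⟨8061, 3, 4⟩) (.one ⟨429, 3, 6⟩))))) (.node 8 (.node 4 (.node 2 (.node 1 (.one ⟨16480, 1, 5⟩) (.one ⟨11472, 4, 6⟩)) (.node 1 (.one ⟨7491, 1, 7⟩) (.one ⟨13839, 3, 6⟩))) (.node 2 (.node 1 (.one ⟨568, 1, 6⟩) (.one ⟨14118, 4, 5⟩))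 (.node 1 (.one ⟨489, 0, 7⟩) (.one ⟨16466, 1, 5⟩)))) (.node 4 (.node 2 (.node 1 (.one ⟨17172, 3, 5⟩) (.one ⟨6786, 4, 4⟩)) (.node 1 (.one ⟨15109, 4, 4⟩) (.one ⟨14745, 4, 6⟩))) (.node 2 (.node 1 (.one ⟨15577, 1, 4⟩) (.one ⟨9148, 4, 6⟩)) (.node 1 (.one ⟨6841, 1, 5⟩) (.one ⟨6895, 0, 5⟩)))))) (.node 16 (.node 8 (.node 4 (.node 2 (.node 1 (.one ⟨17015, 3, 6⟩) (.one ⟨9623, 2, 4⟩)) (.node 1 (.one ⟨13056, 0, 6⟩) (.one ⟨16328, 0, 7⟩))) (.node 2 (.node 1 (.one ⟨15780, 0, 6⟩) (.one ⟨651, 0, 4⟩)) (.node 1 (.one ⟨5957, 2, 5⟩) (.one ⟨42, 0, 6⟩)))) (.node 4 (.node 2 (.node 1 (.one ⟨8579, 2, 6⟩) (.one ⟨7718, 0, 4⟩)) (.node 1 (.one ⟨13109, 0, 6⟩) (.one ⟨10587, 0, 4⟩))) (.node 2 (.node 1 (.one ⟨6896, 0, 5⟩) (.one ⟨2266, 1, 6⟩))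 (.node 1 (.one ⟨1290, 2, 5⟩) (.one ⟨14235, 4, 4⟩))))) (.node 8 (.node 4 (.node 2 (.node 1 (.one ⟨16972, 4, 5⟩) (.one ⟨14225, 1, 6⟩)) (.node 1 (.one ⟨15932, 4, 3⟩) (.one ⟨14666, 2, 6⟩))) (.node 2 (.node 1 (.one ⟨13288, 4, 5⟩) (.one ⟨11146, 2, 5⟩)) (.node 1 (.one ⟨1382, 2, 5⟩) (.one ⟨11162, 0, 7⟩)))) (.node 4 (.node 2 (.node 1 (.one ⟨6820, 0, 6⟩) (.one ⟨11142, 1, 7⟩)) (.node 1 (.one ⟨2787, 4, 6⟩) (.one ⟨10069, 2, 4⟩))) (.node 2 (.node 1 (.one ⟨8802, 3, 6⟩) (.one ⟨2608, 0, 6⟩)) (.node 1 (.one ⟨13408, 3, 6⟩) (.one ⟨4333, 2, 6⟩)))))))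
def par1_12_5 : Arr Par :=
  (.node 32 (.node 16 (.node 8 (.node 4 (.node 2 (.node 1 (.one ⟨15255, 3, 5⟩) (.one ⟨12954, 1, 5⟩)) (.node 1 (.one ⟨7775, 0, 6⟩) (.one ⟨7825, 2, 6⟩))) (.node 2 (.node 1 (.one ⟨17029, 0, 6⟩) (.one ⟨11885, 0, 4⟩)) (.node 1 (.one ⟨14666, 3, 6⟩) (.one ⟨412, 4, 5⟩)))) (.node 4 (.node 2 (.node 1 (.one ⟨1487, 3, 5⟩) (.one ⟨5538, 3, 5⟩)) (.node 1 (.one ⟨17006, 0, 6⟩) (.one ⟨13593, 3, 5⟩))) (.node 2 (.node 1 (.one ⟨15895, 1, 6⟩) (.one ⟨5548, 3, 5⟩)) (.node 1 (.one ⟨9473, 3, 6⟩) (.one ⟨7764, 4, 3⟩))))) (.node 8 (.node 4 (.node 2 (.node 1 (.one ⟨6309, 2, 6⟩) (.one ⟨17011, 0, 6⟩)) (.node 1 (.one ⟨1409, 4, 3⟩) (.one ⟨8031, 4, 6⟩))) (.node 2 (.node 1 (.one ⟨15873, 0, 6⟩) (.one ⟨5703, 2, 5⟩)) (.node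 1 (.one ⟨1853, 4, 5⟩) (.one ⟨11835, 1, 6⟩)))) (.node 4 (.node 2 (.node 1 (.one ⟨1138, 2, 4⟩) (.one ⟨17018, 3, 6⟩)) (.node 1 (.one ⟨11506, 3, 6⟩) (.one ⟨1742, 1, 4⟩))) (.node 2 (.node 1 (.one ⟨16229, 2, 6⟩) (.one ⟨7809, 3, 7⟩)) (.node 1 (.one ⟨8844, 2, 5⟩) (.one ⟨3802, 0, 6⟩)))))) (.node 16 (.node 8 (.node 4 (.node 2 (.node 1 (.one ⟨4329, 2, 6⟩) (.one ⟨10643, 3, 5⟩)) (.node 1 (.one ⟨11818, 4, 6⟩) (.one ⟨15481, 3, 5⟩))) (.node 2 (.node 1 (.one ⟨14708, 3, 6⟩) (.one ⟨5257, 3, 5⟩)) (.node 1 (.one ⟨13510, 4, 7⟩) (.one ⟨14469, 3, 5⟩)))) (.node 4 (.node 2 (.node 1 (.one ⟨13087, 2, 6⟩) (.one ⟨1720, 1, 5⟩)) (.node 1 (.one ⟨15806, 1, 5⟩) (.one ⟨11945, 1, 6⟩))) (.node 2 (.node 1 (.one ⟨4855, 2, 3⟩) (.one ⟨4402, 4, 6⟩))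 (.node 1 (.one ⟨11861, 0, 7⟩) (.one ⟨15813, 3, 5⟩))))) (.node 8 (.node 4 (.node 2 (.node 1 (.one ⟨14388, 2, 4⟩) (.one ⟨11171, 0, 5⟩)) (.node 1 (.one ⟨15792, 0, 6⟩) (.one ⟨6141, 1, 6⟩))) (.node 2 (.node 1 (.one ⟨10763, 0, 5⟩) (.one ⟨5529, 0, 4⟩)) (.node 1 (.one ⟨8021, 4, 6⟩) (.one ⟨3116, 1, 5⟩)))) (.node 4 (.node 2 (.node 1 (.one ⟨8056, 3, 5⟩) (.one ⟨12761, 4, 6⟩)) (.node 1 (.one ⟨13617, 4, 6⟩) (.one ⟨15836, 1, 6⟩))) (.node 2 (.node 1 (.one ⟨3805, 3, 5⟩) (.one ⟨9811, 3, 5⟩)) (.node 1 (.one ⟨5636, 3, 6⟩) (.one ⟨11106, 4, 7⟩)))))))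
def par1_12_6 : Arr Par :=
  (.node 32 (.node 16 (.node 8 (.node 4 (.node 2 (.node 1 (.one ⟨15903, 0, 6⟩) (.one ⟨12786, 2, 6⟩)) (.node 1 (.one ⟨11100, 3, 6⟩) (.one ⟨13555, 0, 6⟩))) (.node 2 (.node 1 (.one ⟨5174, 2, 5⟩) (.one ⟨3886, 0, 5⟩)) (.node 1 (.one ⟨6352, 4, 7⟩) (.one ⟨5423, 0, 5⟩)))) (.node 4 (.node 2 (.node 1 (.one ⟨8652, 1, 7⟩) (.one ⟨17063, 2, 5⟩)) (.node 1 (.one ⟨6721, 0, 6⟩) (.one ⟨15753, 3, 6⟩))) (.node 2 (.node 1 (.one ⟨8256, 3, 7⟩) (.one ⟨12951, 2, 5⟩)) (.node 1 (.one ⟨6965, 3, 6⟩) (.one ⟨15810, 1, 6⟩))))) (.node 8 (.node 4 (.node 2 (.node 1 (.one ⟨11700, 4, 6⟩) (.one ⟨11139, 0, 4⟩)) (.node 1 (.one ⟨4860, 1, 5⟩) (.one ⟨6170, 1, 5⟩))) (.node 2 (.node 1 (.one ⟨14815, 1, 3⟩) (.one ⟨1796, 1, 2⟩))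 (.node 1 (.one ⟨9648, 3, 6⟩) (.one ⟨518, 4, 5⟩)))) (.node 4 (.node 2 (.node 1 (.one ⟨6777, 0, 6⟩) (.one ⟨14703, 2, 4⟩)) (.node 1 (.one ⟨9716, 2, 4⟩) (.one ⟨8660, 1, 7⟩))) (.node 2 (.node 1 (.one ⟨15802, 0, 5⟩) (.one ⟨6146, 3, 6⟩)) (.node 1 (.one ⟨3777, 0, 6⟩) (.one ⟨12058, 2, 6⟩)))))) (.node 16 (.node 8 (.node 4 (.node 2 (.node 1 (.one ⟨11928, 0, 4⟩) (.one ⟨8734, 1, 4⟩)) (.node 1 (.one ⟨7813, 2, 5⟩) (.one ⟨2356, 3, 5⟩))) (.node 2 (.node 1 (.one ⟨13606, 2, 5⟩) (.one ⟨847, 3, 5⟩)) (.node 1 (.one ⟨3049, 2, 6⟩) (.one ⟨9458, 4, 5⟩)))) (.node 4 (.node 2 (.node 1 (.one ⟨6333, 0, 4⟩) (.one ⟨15260, 4, 5⟩)) (.node 1 (.one ⟨10221, 2, 5⟩) (.one ⟨17180, 4, 6⟩))) (.node 2 (.node 1 (.one ⟨1750, 1, 6⟩) (.one ⟨11814, 4, 6⟩))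 (.node 1 (.one ⟨10381, 4, 6⟩) (.one ⟨7102, 4, 6⟩))))) (.node 8 (.node 4 (.node 2 (.node 1 (.one ⟨14712, 1, 6⟩) (.one ⟨5327, 2, 6⟩)) (.node 1 (.one ⟨6688, 1, 4⟩) (.one ⟨16303, 0, 5⟩))) (.node 2 (.node 1 (.one ⟨3719, 4, 5⟩) (.one ⟨16312, 0, 3⟩)) (.node 1 (.one ⟨3488, 4, 5⟩) (.one ⟨16982, 4, 6⟩)))) (.node 4 (.node 2 (.node 1 (.one ⟨12530, 3, 5⟩) (.one ⟨16327, 0, 3⟩)) (.node 1 (.one ⟨2277, 3, 7⟩) (.one ⟨9966, 3, 5⟩))) (.node 2 (.node 1 (.one ⟨8280, 0, 4⟩) (.one ⟨1238, 2, 6⟩)) (.node 1 (.one ⟨1081, 4, 4⟩) (.one ⟨4004, 0, 5⟩)))))))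
def par1_12_7 : Arr Par :=
  (.node 32 (.node 16 (.node 8 (.node 4 (.node 2 (.node 1 (.one ⟨4632, 4, 6⟩) (.one ⟨12049, 0, 3⟩)) (.node 1 (.one ⟨2338, 3, 5⟩) (.one ⟨9988, 4, 5⟩))) (.node 2 (.node 1 (.one ⟨3981, 0, 5⟩) (.one ⟨12056, 0, 4⟩)) (.node 1 (.one ⟨10969, 1, 4⟩) (.one ⟨10274, 3, 5⟩)))) (.node 4 (.node 2 (.node 1 (.one ⟨1246, 3, 5⟩) (.one ⟨16117, 2, 5⟩)) (.node 1 (.one ⟨16282, 4, 6⟩) (.one ⟨5802, 3, 4⟩))) (.node 2 (.node 1 (.one ⟨10811, 4, 5⟩) (.one ⟨2875, 1, 6⟩)) (.node 1 (.one ⟨17113, 3, 4⟩) (.one ⟨12306, 4, 5⟩))))) (.node 8 (.node 4 (.node 2 (.node 1 (.one ⟨12024, 2, 6⟩) (.one ⟨515, 3, 6⟩)) (.node 1 (.one ⟨6167, 3, 5⟩) (.one ⟨11016, 1, 5⟩))) (.node 2 (.node 1 (.one ⟨6573, 4, 7⟩) (.one ⟨11011, 1, 4⟩))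 (.node 1 (.one ⟨4326, 4, 5⟩) (.one ⟨3367, 4, 6⟩)))) (.node 4 (.node 2 (.node 1 (.one ⟨2946, 1, 6⟩) (.one ⟨2582, 3, 5⟩)) (.node 1 (.one ⟨4950, 3, 3⟩) (.one ⟨16649, 2, 6⟩))) (.node 2 (.node 1 (.one ⟨1472, 3, 3⟩) (.one ⟨10197, 3, 6⟩)) (.node 1 (.one ⟨9411, 2, 7⟩) (.one ⟨16416, 0, 5⟩)))))) (.node 16 (.node 8 (.node 4 (.node 2 (.node 1 (.one ⟨1486, 4, 5⟩) (.one ⟨14689, 1, 6⟩)) (.node 1 (.one ⟨14658, 1, 6⟩) (.one ⟨13683, 4, 3⟩))) (.node 2 (.node 1 (.one ⟨16390, 0, 5⟩) (.one ⟨1263, 2, 7⟩)) (.node 1 (.one ⟨6575, 1, 6⟩) (.one ⟨5042, 4, 6⟩)))) (.node 4 (.node 2 (.node 1 (.one ⟨7611, 4, 6⟩) (.one ⟨9952, 3, 5⟩)) (.node 1 (.one ⟨6637, 1, 5⟩) (.one ⟨6597, 1, 3⟩))) (.node 2 (.node 1 (.one ⟨2721, 3, 6⟩) (.one ⟨14647, 1, 5⟩))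 (.node 1 (.one ⟨13321, 3, 4⟩) (.one ⟨10903, 4, 7⟩))))) (.node 8 (.node 4 (.node 2 (.node 1 (.one ⟨2229, 0, 5⟩) (.one ⟨16533, 1, 5⟩)) (.node 1 (.one ⟨15775, 2, 5⟩) (.one ⟨3379, 4, 7⟩))) (.node 2 (.node 1 (.one ⟨8845, 3, 6⟩) (.one ⟨10634, 4, 6⟩)) (.node 1 (.one ⟨3552, 2, 7⟩) (.one ⟨2276, 0, 6⟩)))) (.node 4 (.node 2 (.node 1 (.one ⟨10334, 0, 5⟩) (.one ⟨1106, 2, 6⟩)) (.node 1 (.one ⟨7484, 3, 5⟩) (.one ⟨2242, 0, 6⟩))) (.node 2 (.node 1 (.one ⟨16522, 1, 6⟩) (.one ⟨16000, 4, 6⟩)) (.node 1 (.one ⟨16516, 1, 5⟩) (.one ⟨14928, 2, 4⟩)))))))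
def par1_12_8 : Arr Par :=
  (.node 32 (.node 16 (.node 8 (.node 4 (.node 2 (.node 1 (.one ⟨13087, 1, 6⟩) (.one ⟨4688, 2, 6⟩)) (.node 1 (.one ⟨7484, 4, 5⟩) (.one ⟨9845, 2, 5⟩))) (.node 2 (.node 1 (.one ⟨14515, 0, 6⟩) (.one ⟨5081, 3, 4⟩)) (.node 1 (.one ⟨2761, 4, 5⟩) (.one ⟨6493, 0, 4⟩)))) (.node 4 (.node 2 (.node 1 (.one ⟨1904, 2, 7⟩) (.one ⟨2493, 3, 6⟩)) (.node 1 (.one ⟨6449, 0, 6⟩) (.one ⟨16162, 2, 5⟩))) (.node 2 (.node 1 (.one ⟨5579, 3, 5⟩) (.one ⟨17191, 3, 7⟩)) (.node 1 (.one ⟨9095, 2, 6⟩) (.one ⟨2339, 0, 5⟩))))) (.node 8 (.node 4 (.node 2 (.node 1 (.one ⟨6919, 4, 5⟩) (.one ⟨4942, 1, 4⟩)) (.node 1 (.one ⟨4966, 1, 4⟩) (.one ⟨10355, 0, 5⟩))) (.node 2 (.node 1 (.one ⟨14813, 3, 6⟩) (.one ⟨4556, 2, 4⟩)) (.node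 1 (.one ⟨1868, 2, 6⟩) (.one ⟨10373, 0, 5⟩)))) (.node 4 (.node 2 (.node 1 (.one ⟨13031, 1, 6⟩) (.one ⟨16350, 4, 5⟩)) (.node 1 (.one ⟨3844, 2, 5⟩) (.one ⟨12754, 3, 6⟩))) (.node 2 (.node 1 (.one ⟨4925, 1, 6⟩) (.one ⟨2298, 0, 5⟩)) (.node 1 (.one ⟨11128, 3, 6⟩) (.one ⟨1141, 3, 5⟩)))))) (.node 16 (.node 8 (.node 4 (.node 2 (.node 1 (.one ⟨353, 4, 5⟩) (.one ⟨6523, 0, 5⟩)) (.node 1 (.one ⟨5102, 2, 4⟩) (.one ⟨8841, 3, 6⟩))) (.node 2 (.node 1 (.one ⟨16449, 1, 6⟩) (.one ⟨8827, 3, 7⟩)) (.node 1 (.one ⟨10637, 4, 6⟩) (.one ⟨14615, 0, 5⟩)))) (.node 4 (.node 2 (.node 1 (.one ⟨982, 4, 5⟩) (.one ⟨14590, 0, 6⟩)) (.node 1 (.one ⟨14582, 0, 6⟩) (.one ⟨12084, 4, 7⟩))) (.node 2 (.node 1 (.one ⟨16445, 1, 6⟩) (.one ⟨6529, 0, 6⟩)) (.node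 1 (.one ⟨12379, 4, 6⟩) (.one ⟨15614, 4, 6⟩))))) (.node 8 (.node 4 (.node 2 (.node 1 (.one ⟨11589, 3, 5⟩) (.one ⟨8574, 3, 6⟩)) (.node 1 (.one ⟨3413, 1, 6⟩) (.one ⟨7953, 3, 4⟩))) (.node 2 (.node 1 (.one ⟨16263, 3, 4⟩) (.one ⟨10206, 2, 4⟩)) (.node 1 (.one ⟨16585, 4, 4⟩) (.one ⟨9420, 2, 5⟩)))) (.node 4 (.node 2 (.node 1 (.one ⟨5742, 2, 5⟩) (.one ⟨4784, 2, 4⟩)) (.node 1 (.one ⟨3982, 0, 5⟩) (.one ⟨5874, 2, 6⟩))) (.node 2 (.node 1 (.one ⟨13298, 3, 5⟩) (.one ⟨16045, 0, 6⟩)) (.node 1 (.one ⟨4746, 3, 6⟩) (.one ⟨11658, 4, 5⟩)))))))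
def par1_12_9 : Arr Par :=
  (.node 32 (.node 16 (.node 8 (.node 4 (.node 2 (.node 1 (.one ⟨2306, 3, 6⟩) (.one ⟨2310, 3, 5⟩)) (.node 1 (.one ⟨10250, 4, 3⟩) (.one ⟨7120, 0, 4⟩))) (.node 2 (.node 1 (.one ⟨2308, 3, 5⟩) (.one ⟨2304, 3, 5⟩)) (.node 1 (.one ⟨8028, 1, 6⟩) (.one ⟨13950, 1, 5⟩)))) (.node 4 (.node 2 (.node 1 (.one ⟨8001, 1, 6⟩) (.one ⟨14969, 2, 6⟩)) (.node 1 (.one ⟨16017, 4, 6⟩) (.one ⟨15263, 0, 6⟩))) (.node 2 (.node 1 (.one ⟨9155, 4, 6⟩) (.one ⟨4114, 3, 4⟩)) (.node 1 (.one ⟨13586, 1, 6⟩) (.one ⟨14871, 4, 5⟩))))) (.node 8 (.node 4 (.node 2 (.node 1 (.one ⟨6542, 4, 3⟩) (.one ⟨9935, 3, 6⟩)) (.node 1 (.one ⟨739, 2, 6⟩) (.one ⟨11231, 3, 6⟩))) (.node 2 (.node 1 (.one ⟨137, 0, 5⟩) (.one ⟨257, 2, 6⟩)) (.node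 1 (.one ⟨3399, 1, 6⟩) (.one ⟨3377, 1, 6⟩)))) (.node 4 (.node 2 (.node 1 (.one ⟨6502, 0, 6⟩) (.one ⟨15649, 2, 4⟩)) (.node 1 (.one ⟨2339, 3, 5⟩) (.one ⟨15482, 2, 6⟩))) (.node 2 (.node 1 (.one ⟨947, 4, 4⟩) (.one ⟨16885, 4, 6⟩)) (.node 1 (.one ⟨10963, 0, 6⟩) (.one ⟨15337, 2, 6⟩)))))) (.node 16 (.node 8 (.node 4 (.node 2 (.node 1 (.one ⟨12128, 2, 1⟩) (.one ⟨13151, 2, 6⟩)) (.node 1 (.one ⟨448, 3, 5⟩) (.one ⟨3352, 3, 6⟩))) (.node 2 (.node 1 (.one ⟨11583, 4, 5⟩) (.one ⟨10919, 3, 6⟩)) (.node 1 (.one ⟨5053, 3, 3⟩) (.one ⟨5141, 4, 4⟩)))) (.node 4 (.node 2 (.node 1 (.one ⟨8281, 3, 6⟩) (.one ⟨15207, 2, 4⟩)) (.node 1 (.one ⟨2296, 4, 4⟩) (.one ⟨11366, 2, 6⟩))) (.node 2 (.node 1 (.one ⟨13455, 3, 3⟩) (.one ⟨10901, 3, 5⟩)) (.node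 1 (.one ⟨16062, 1, 6⟩) (.one ⟨13456, 3, 6⟩))))) (.node 8 (.node 4 (.node 2 (.node 1 (.one ⟨5298, 1, 5⟩) (.one ⟨9705, 3, 6⟩)) (.node 1 (.one ⟨9029, 4, 6⟩) (.one ⟨13618, 1, 4⟩))) (.node 2 (.node 1 (.one ⟨12066, 3, 6⟩) (.one ⟨11820, 1, 6⟩)) (.node 1 (.one ⟨1322, 4, 6⟩) (.one ⟨469, 4, 5⟩)))) (.node 4 (.node 2 (.node 1 (.one ⟨1759, 4, 6⟩) (.one ⟨8910, 4, 6⟩)) (.node 1 (.one ⟨15523, 2, 4⟩) (.one ⟨7128, 1, 6⟩))) (.node 2 (.node 1 (.one ⟨7823, 0, 6⟩) (.one ⟨17141, 2, 6⟩)) (.node 1 (.one ⟨8406, 2, 5⟩) (.one ⟨273, 1, 5⟩)))))))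
def par1_12_10 : Arr Par :=
  (.node 32 (.node 16 (.node 8 (.node 4 (.node 2 (.node 1 (.one ⟨424, 3, 6⟩) (.one ⟨15886, 3, 5⟩)) (.node 1 (.one ⟨3158, 1, 6⟩) (.one ⟨8560, 4, 3⟩))) (.node 2 (.node 1 (.one ⟨3826, 4, 6⟩) (.one ⟨219, 2, 5⟩)) (.node 1 (.one ⟨6715, 4, 4⟩) (.one ⟨1906, 3, 6⟩)))) (.node 4 (.node 2 (.node 1 (.one ⟨7120, 4, 4⟩) (.one ⟨7249, 3, 6⟩)) (.node 1 (.one ⟨13392, 1, 4⟩) (.one ⟨2613, 4, 6⟩))) (.node 2 (.node 1 (.one ⟨15244, 1, 5⟩) (.one ⟨3339, 0, 6⟩)) (.node 1 (.one ⟨9716, 3, 4⟩) (.one ⟨8127, 0, 5⟩))))) (.node 8 (.node 4 (.node 2 (.node 1 (.one ⟨15862, 0, 5⟩) (.one ⟨9789, 3, 6⟩)) (.node 1 (.one ⟨11433, 0, 3⟩) (.one ⟨7, 4, 6⟩))) (.node 2 (.node 1 (.one ⟨709, 1, 5⟩) (.one ⟨14496, 0, 5⟩)) (.node 1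 (.one ⟨7581, 2, 6⟩) (.one ⟨4166, 4, 4⟩)))) (.node 4 (.node 2 (.node 1 (.one ⟨4221, 2, 6⟩) (.one ⟨4245, 4, 4⟩)) (.node 1 (.one ⟨4157, 2, 4⟩) (.one ⟨10600, 4, 7⟩))) (.node 2 (.node 1 (.one ⟨2603, 4, 5⟩) (.one ⟨2589, 2, 6⟩)) (.node 1 (.one ⟨10602, 2, 5⟩) (.one ⟨777, 2, 6⟩)))))) (.node 16 (.node 8 (.node 4 (.node 2 (.node 1 (.one ⟨4055, 2, 6⟩) (.one ⟨12713, 3, 6⟩)) (.node 1 (.one ⟨9090, 1, 7⟩) (.one ⟨2761, 0, 5⟩))) (.node 2 (.node 1 (.one ⟨12970, 0, 6⟩) (.one ⟨5409, 1, 5⟩)) (.node 1 (.one ⟨4058, 2, 6⟩) (.one ⟨935, 4, 6⟩)))) (.node 4 (.node 2 (.node 1 (.one ⟨10051, 2, 6⟩) (.one ⟨13876, 4, 6⟩)) (.node 1 (.one ⟨5599, 1, 5⟩) (.one ⟨15763, 2, 5⟩))) (.node 2 (.node 1 (.one ⟨16499, 2, 5⟩) (.one ⟨4289, 2, 6⟩)) (.node 1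 (.one ⟨16203, 0, 6⟩) (.one ⟨11257, 3, 5⟩))))) (.node 8 (.node 4 (.node 2 (.node 1 (.one ⟨12581, 0, 5⟩) (.one ⟨8632, 0, 4⟩)) (.node 1 (.one ⟨12339, 2, 6⟩) (.one ⟨6231, 2, 4⟩))) (.node 2 (.node 1 (.one ⟨5546, 3, 5⟩) (.one ⟨6762, 3, 5⟩)) (.node 1 (.one ⟨13497, 1, 6⟩) (.one ⟨470, 4, 4⟩)))) (.node 4 (.node 2 (.node 1 (.one ⟨7080, 0, 5⟩) (.one ⟨16706, 0, 5⟩)) (.node 1 (.one ⟨6396, 2, 4⟩) (.one ⟨5674, 2, 6⟩))) (.node 2 (.node 1 (.one ⟨2649, 0, 5⟩) (.one ⟨12538, 0, 6⟩)) (.node 1 (.one ⟨5431, 1, 5⟩) (.one ⟨11338, 3, 6⟩)))))))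
def par1_12_11 : Arr Par :=
  (.node 32 (.node 16 (.node 8 (.node 4 (.node 2 (.node 1 (.one ⟨11928, 4, 4⟩) (.one ⟨5521, 4, 6⟩)) (.node 1 (.one ⟨5234, 1, 6⟩) (.one ⟨16125, 1, 6⟩))) (.node 2 (.node 1 (.one ⟨1247, 4, 6⟩) (.one ⟨11303, 3, 6⟩)) (.node 1 (.one ⟨4164, 4, 4⟩) (.one ⟨4463, 0, 6⟩)))) (.node 4 (.node 2 (.node 1 (.one ⟨7118, 4, 6⟩) (.one ⟨11396, 0, 5⟩)) (.node 1 (.one ⟨8199, 2, 4⟩) (.one ⟨10709, 0, 5⟩))) (.node 2 (.node 1 (.one ⟨13889, 0, 5⟩) (.one ⟨16873, 3, 7⟩)) (.node 1 (.one ⟨14164, 1, 4⟩) (.one ⟨10793, 3, 5⟩))))) (.node 8 (.node 4 (.node 2 (.node 1 (.one ⟨3626, 4, 7⟩) (.one ⟨3050, 3, 6⟩)) (.node 1 (.one ⟨12348, 4, 6⟩) (.one ⟨8100, 1, 4⟩))) (.node 2 (.node 1 (.one ⟨936, 4, 4⟩) (.one ⟨11284, 3, 5⟩))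 (.node 1 (.one ⟨11412, 1, 6⟩) (.one ⟨4893, 3, 6⟩)))) (.node 4 (.node 2 (.node 1 (.one ⟨4501, 0, 6⟩) (.one ⟨5210, 0, 4⟩)) (.node 1 (.one ⟨12951, 4, 5⟩) (.one ⟨14566, 2, 6⟩))) (.node 2 (.node 1 (.one ⟨3268, 2, 6⟩) (.one ⟨15264, 2, 7⟩)) (.node 1 (.one ⟨12998, 4, 5⟩) (.one ⟨13002, 4, 5⟩)))))) (.node 16 (.node 8 (.node 4 (.node 2 (.node 1 (.one ⟨3458, 1, 5⟩) (.one ⟨3154, 4, 5⟩)) (.node 1 (.one ⟨10585, 3, 6⟩) (.one ⟨6031, 3, 5⟩))) (.node 2 (.node 1 (.one ⟨6647, 3, 6⟩) (.one ⟨15554, 3, 7⟩)) (.node 1 (.one ⟨5881, 1, 5⟩) (.one ⟨10891, 4, 5⟩)))) (.node 4 (.node 2 (.node 1 (.one ⟨2864, 4, 3⟩) (.one ⟨1258, 3, 4⟩)) (.node 1 (.one ⟨16443, 4, 5⟩) (.one ⟨13494, 1, 7⟩))) (.node 2 (.node 1 (.one ⟨14178, 1, 6⟩) (.one ⟨8762, 2,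 3⟩)) (.node 1 (.one ⟨3317, 1, 5⟩) (.one ⟨10763, 4, 5⟩))))) (.node 8 (.node 4 (.node 2 (.node 1 (.one ⟨4323, 2, 5⟩) (.one ⟨5027, 3, 6⟩)) (.node 1 (.one ⟨927, 1, 5⟩) (.one ⟨3183, 3, 6⟩))) (.node 2 (.node 1 (.one ⟨2522, 4, 6⟩) (.one ⟨10129, 2, 6⟩)) (.node 1 (.one ⟨2006, 2, 6⟩) (.one ⟨11379, 2, 6⟩)))) (.node 4 (.node 2 (.node 1 (.one ⟨15565, 3, 5⟩) (.one ⟨2346, 0, 6⟩)) (.node 1 (.one ⟨7323, 2, 7⟩) (.one ⟨10456, 3, 5⟩))) (.node 2 (.node 1 (.one ⟨16427, 4, 4⟩) (.one ⟨7855, 1, 6⟩)) (.node 1 (.one ⟨731, 0, 6⟩) (.one ⟨12896, 2, 2⟩)))))))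
def par1_12_12 : Arr Par :=
  (.node 32 (.node 16 (.node 8 (.node 4 (.node 2 (.node 1 (.one ⟨13449, 2, 5⟩) (.one ⟨3816, 2, 3⟩)) (.node 1 (.one ⟨3237, 1, 6⟩) (.one ⟨13597, 2, 4⟩))) (.node 2 (.node 1 (.one ⟨17063, 3, 5⟩) (.one ⟨7548, 4, 5⟩)) (.node 1 (.one ⟨17070, 3, 6⟩) (.one ⟨4923, 0, 6⟩)))) (.node 4 (.node 2 (.node 1 (.one ⟨4157, 3, 4⟩) (.one ⟨14874, 4, 6⟩)) (.node 1 (.one ⟨8657, 2, 5⟩) (.one ⟨15249, 4, 6⟩))) (.node 2 (.node 1 (.one ⟨8465, 2, 3⟩) (.one ⟨16766, 3, 6⟩)) (.node 1 (.one ⟨17098, 2, 5⟩) (.one ⟨13730, 1, 6⟩))))) (.node 8 (.node 4 (.node 2 (.node 1 (.one ⟨5060, 4, 5⟩) (.one ⟨8093, 3, 5⟩)) (.node 1 (.one ⟨15246, 3, 6⟩) (.one ⟨8078, 4, 5⟩))) (.node 2 (.node 1 (.one ⟨5325, 0, 6⟩) (.one ⟨10282, 4, 6⟩))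 (.node 1 (.one ⟨11322, 2, 5⟩) (.one ⟨9, 0, 5⟩)))) (.node 4 (.node 2 (.node 1 (.one ⟨15299, 2, 4⟩) (.one ⟨3190, 1, 6⟩)) (.node 1 (.one ⟨11697, 1, 5⟩) (.one ⟨4683, 2, 3⟩))) (.node 2 (.node 1 (.one ⟨15439, 2, 5⟩) (.one ⟨4293, 2, 6⟩)) (.node 1 (.one ⟨4561, 4, 6⟩) (.one ⟨11185, 4, 5⟩)))))) (.node 16 (.node 8 (.node 4 (.node 2 (.node 1 (.one ⟨5662, 1, 5⟩) (.one ⟨12771, 4, 4⟩)) (.node 1 (.one ⟨17107, 1, 6⟩) (.one ⟨11284, 1, 5⟩))) (.node 2 (.node 1 (.one ⟨1851, 3, 5⟩) (.one ⟨3677, 1, 4⟩)) (.node 1 (.one ⟨15181, 1, 5⟩) (.one ⟨16135, 2, 5⟩)))) (.node 4 (.node 2 (.node 1 (.one ⟨4957, 0, 4⟩) (.one ⟨7813, 4, 5⟩)) (.node 1 (.one ⟨13884, 4, 4⟩) (.one ⟨15175, 0, 5⟩))) (.node 2 (.node 1 (.one ⟨16019, 0, 5⟩) (.one ⟨107, 1, 6⟩))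 (.node 1 (.one ⟨8068, 2, 6⟩) (.one ⟨16561, 3, 5⟩))))) (.node 8 (.node 4 (.node 2 (.node 1 (.one ⟨9711, 4, 5⟩) (.one ⟨16559, 3, 7⟩)) (.node 1 (.one ⟨16563, 3, 6⟩) (.one ⟨6862, 2, 4⟩))) (.node 2 (.node 1 (.one ⟨7127, 4, 5⟩) (.one ⟨2471, 3, 5⟩)) (.node 1 (.one ⟨2475, 3, 6⟩) (.one ⟨6332, 2, 5⟩)))) (.node 4 (.node 2 (.node 1 (.one ⟨11146, 1, 5⟩) (.one ⟨12572, 1, 5⟩)) (.node 1 (.one ⟨90, 3, 6⟩) (.one ⟨2765, 1, 5⟩))) (.node 2 (.node 1 (.one ⟨3677, 4, 4⟩) (.one ⟨13339, 1, 6⟩)) (.node 1 (.one ⟨10317, 4, 5⟩) (.one ⟨12983, 0, 5⟩)))))))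
def par1_12_13 : Arr Par :=
  (.node 32 (.node 16 (.node 8 (.node 4 (.node 2 (.node 1 (.one ⟨1741, 4, 6⟩) (.one ⟨10218, 4, 5⟩)) (.node 1 (.one ⟨5255, 1, 5⟩) (.one ⟨12577, 1, 5⟩))) (.node 2 (.node 1 (.one ⟨6940, 0, 6⟩) (.one ⟨11814, 2, 6⟩)) (.node 1 (.one ⟨9953, 4, 5⟩) (.one ⟨9600, 2, 5⟩)))) (.node 4 (.node 2 (.node 1 (.one ⟨6936, 0, 5⟩) (.one ⟨11172, 1, 5⟩)) (.node 1 (.one ⟨4278, 3, 6⟩) (.one ⟨12388, 3, 5⟩))) (.node 2 (.node 1 (.one ⟨7823, 4, 6⟩) (.one ⟨10007, 3, 5⟩)) (.node 1 (.one ⟨718, 0, 6⟩) (.one ⟨5549, 1, 5⟩))))) (.node 8 (.node 4 (.node 2 (.node 1 (.one ⟨12546, 1, 4⟩) (.one ⟨9782, 1, 7⟩)) (.node 1 (.one ⟨3476, 4, 6⟩) (.one ⟨12834, 4, 5⟩))) (.node 2 (.node 1 (.one ⟨1972, 1, 6⟩) (.one ⟨7552, 3, 6⟩)) (.node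 1 (.one ⟨5766, 2, 5⟩) (.one ⟨3054, 1, 6⟩)))) (.node 4 (.node 2 (.node 1 (.one ⟨16251, 4, 5⟩) (.one ⟨765, 0, 5⟩)) (.node 1 (.one ⟨6941, 0, 6⟩) (.one ⟨235, 4, 5⟩))) (.node 2 (.node 1 (.one ⟨16290, 4, 5⟩) (.one ⟨4510, 1, 6⟩)) (.node 1 (.one ⟨5986, 4, 6⟩) (.one ⟨477, 3, 5⟩)))))) (.node 16 (.node 8 (.node 4 (.node 2 (.node 1 (.one ⟨10843, 1, 6⟩) (.one ⟨9716, 4, 4⟩)) (.node 1 (.one ⟨3154, 0, 5⟩) (.one ⟨15941, 4, 4⟩))) (.node 2 (.node 1 (.one ⟨4956, 2, 5⟩) (.one ⟨11513, 2, 5⟩)) (.node 1 (.one ⟨1999, 2, 6⟩) (.one ⟨11884, 3, 7⟩)))) (.node 4 (.node 2 (.node 1 (.one ⟨5614, 2, 6⟩) (.one ⟨5081, 2, 4⟩)) (.node 1 (.one ⟨4988, 4, 4⟩) (.one ⟨11499, 3, 6⟩))) (.node 2 (.node 1 (.one ⟨5240, 1, 6⟩) (.one ⟨268, 3, 5⟩)) (.node 1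 (.one ⟨3011, 1, 7⟩) (.one ⟨4146, 1, 6⟩))))) (.node 8 (.node 4 (.node 2 (.node 1 (.one ⟨12062, 3, 5⟩) (.one ⟨10739, 3, 5⟩)) (.node 1 (.one ⟨11253, 2, 6⟩) (.one ⟨3401, 0, 5⟩))) (.node 2 (.node 1 (.one ⟨5937, 2, 5⟩) (.one ⟨6429, 3, 6⟩)) (.node 1 (.one ⟨16924, 1, 6⟩) (.one ⟨15978, 3, 5⟩)))) (.node 4 (.node 2 (.node 1 (.one ⟨14745, 2, 6⟩) (.one ⟨8812, 1, 4⟩)) (.node 1 (.one ⟨13121, 1, 6⟩) (.one ⟨5878, 3, 4⟩))) (.node 2 (.node 1 (.one ⟨6430, 3, 4⟩) (.one ⟨12116, 0, 4⟩)) (.node 1 (.one ⟨6893, 2, 5⟩) (.one ⟨8286, 1, 6⟩)))))))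
def par1_12_14 : Arr Par :=
  (.node 32 (.node 16 (.node 8 (.node 4 (.node 2 (.node 1 (.one ⟨5582, 1, 6⟩) (.one ⟨90, 1, 6⟩)) (.node 1 (.one ⟨2397, 3, 4⟩) (.one ⟨2113, 2, 5⟩))) (.node 2 (.node 1 (.one ⟨10276, 2, 4⟩) (.one ⟨7745, 4, 7⟩)) (.node 1 (.one ⟨10210, 2, 6⟩) (.one ⟨10585, 2, 6⟩)))) (.node 4 (.node 2 (.node 1 (.one ⟨653, 2, 6⟩) (.one ⟨8844, 1, 5⟩)) (.node 1 (.one ⟨2896, 1, 5⟩) (.one ⟨16624, 4, 7⟩))) (.node 2 (.node 1 (.one ⟨2995, 0, 1⟩) (.one ⟨10586, 2, 6⟩)) (.node 1 (.one ⟨3816, 3, 3⟩) (.one ⟨11857, 2, 6⟩))))) (.node 8 (.node 4 (.node 2 (.node 1 (.one ⟨6424, 3, 5⟩) (.one ⟨8874, 1, 7⟩)) (.node 1 (.one ⟨2332, 3, 6⟩) (.one ⟨1807, 4, 6⟩))) (.node 2 (.node 1 (.one ⟨1718, 3, 7⟩) (.one ⟨10470, 3, 6⟩)) (.node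 1 (.one ⟨14726, 4, 7⟩) (.one ⟨16860, 1, 6⟩)))) (.node 4 (.node 2 (.node 1 (.one ⟨4209, 1, 5⟩) (.one ⟨2638, 0, 6⟩)) (.node 1 (.one ⟨9458, 3, 5⟩) (.one ⟨6423, 3, 5⟩))) (.node 2 (.node 1 (.one ⟨4118, 0, 3⟩) (.one ⟨3651, 4, 5⟩)) (.node 1 (.one ⟨15014, 1, 6⟩) (.one ⟨1453, 3, 6⟩)))))) (.node 16 (.node 8 (.node 4 (.node 2 (.node 1 (.one ⟨10794, 3, 5⟩) (.one ⟨3090, 4, 6⟩)) (.node 1 (.one ⟨2912, 1, 6⟩) (.one ⟨8860, 2, 6⟩))) (.node 2 (.node 1 (.one ⟨12324, 1, 5⟩) (.one ⟨10727, 0, 7⟩)) (.node 1 (.one ⟨1176, 2, 6⟩) (.one ⟨11639, 0, 4⟩)))) (.node 4 (.node 2 (.node 1 (.one ⟨13808, 2, 5⟩) (.one ⟨351, 4, 5⟩)) (.node 1 (.one ⟨7201, 3, 6⟩) (.one ⟨7518, 3, 6⟩))) (.node 2 (.node 1 (.one ⟨4971, 4, 5⟩) (.one ⟨399, 2, 6⟩)) (.node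 1 (.one ⟨1703, 3, 6⟩) (.one ⟨6477, 3, 5⟩))))) (.node 8 (.node 4 (.node 2 (.node 1 (.one ⟨11917, 3, 6⟩) (.one ⟨9117, 0, 3⟩)) (.node 1 (.one ⟨7657, 3, 6⟩) (.one ⟨455, 3, 7⟩))) (.node 2 (.node 1 (.one ⟨940, 4, 5⟩) (.one ⟨12616, 2, 6⟩)) (.node 1 (.one ⟨1097, 4, 5⟩) (.one ⟨16537, 1, 6⟩)))) (.node 4 (.node 2 (.node 1 (.one ⟨5122, 4, 5⟩) (.one ⟨15326, 4, 4⟩)) (.node 1 (.one ⟨8050, 2, 5⟩) (.one ⟨14152, 3, 5⟩))) (.node 2 (.node 1 (.one ⟨2349, 0, 6⟩) (.one ⟨10690, 3, 6⟩)) (.node 1 (.one ⟨4741, 0, 5⟩) (.one ⟨13056, 3, 6⟩)))))))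
def par1_12_15 : Arr Par :=
  (.node 32 (.node 16 (.node 8 (.node 4 (.node 2 (.node 1 (.one ⟨4570, 0, 6⟩) (.one ⟨4722, 0, 6⟩)) (.node 1 (.one ⟨651, 3, 4⟩) (.one ⟨17098, 0, 5⟩))) (.node 2 (.node 1 (.one ⟨4915, 1, 5⟩) (.one ⟨13962, 2, 7⟩)) (.node 1 (.one ⟨5865, 2, 6⟩) (.one ⟨5595, 1, 6⟩)))) (.node 4 (.node 2 (.node 1 (.one ⟨4609, 4, 6⟩) (.one ⟨9964, 2, 6⟩)) (.node 1 (.one ⟨448, 0, 5⟩) (.one ⟨10813, 2, 5⟩))) (.node 2 (.node 1 (.one ⟨12713, 0, 6⟩) (.one ⟨15781, 4, 5⟩)) (.node 1 (.one ⟨12528, 2, 7⟩) (.one ⟨1920, 1, 5⟩))))) (.node 8 (.node 4 (.node 2 (.node 1 (.one ⟨6570, 0, 6⟩) (.one ⟨9670, 0, 6⟩)) (.node 1 (.one ⟨15476, 2, 5⟩) (.one ⟨1148, 4, 5⟩))) (.node 2 (.node 1 (.one ⟨9966, 1, 5⟩) (.one ⟨17172, 0, 5⟩)) (.node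 1 (.one ⟨793, 0, 5⟩) (.one ⟨510, 4, 6⟩)))) (.node 4 (.node 2 (.node 1 (.one ⟨1645, 2, 6⟩) (.one ⟨4749, 0, 5⟩)) (.node 1 (.one ⟨16842, 3, 7⟩) (.one ⟨3232, 2, 6⟩))) (.node 2 (.node 1 (.one ⟨16526, 1, 5⟩) (.one ⟨14118, 2, 5⟩)) (.node 1 (.one ⟨7346, 2, 6⟩) (.one ⟨9674, 1, 6⟩)))))) (.node 16 (.node 8 (.node 4 (.node 2 (.node 1 (.one ⟨13028, 1, 7⟩) (.one ⟨4730, 0, 7⟩)) (.node 1 (.one ⟨306, 3, 4⟩) (.one ⟨4043, 4, 6⟩))) (.node 2 (.node 1 (.one ⟨12753, 4, 7⟩) (.one ⟨5030, 1, 5⟩)) (.node 1 (.one ⟨9091, 0, 5⟩) (.one ⟨670, 1, 6⟩)))) (.node 4 (.node 2 (.node 1 (.one ⟨13556, 4, 4⟩) (.one ⟨13560, 4, 4⟩)) (.node 1 (.one ⟨5140, 2, 6⟩) (.one ⟨3402, 4, 6⟩))) (.node 2 (.node 1 (.one ⟨13226, 2, 7⟩) (.one ⟨1045, 0, 5⟩)) (.node 1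 (.one ⟨10365, 0, 6⟩) (.one ⟨16589, 4, 6⟩))))) (.node 8 (.node 4 (.node 2 (.node 1 (.one ⟨35, 3, 5⟩) (.one ⟨4241, 3, 7⟩)) (.node 1 (.one ⟨1138, 3, 4⟩) (.one ⟨5922, 4, 6⟩))) (.node 2 (.node 1 (.one ⟨1885, 1, 5⟩) (.one ⟨17135, 0, 6⟩)) (.node 1 (.one ⟨9706, 1, 6⟩) (.one ⟨10820, 3, 6⟩)))) (.node 4 (.node 2 (.node 1 (.one ⟨9678, 1, 5⟩) (.one ⟨13653, 1, 5⟩)) (.node 1 (.one ⟨8442, 1, 6⟩) (.one ⟨17144, 2, 7⟩))) (.node 2 (.node 1 (.one ⟨8548, 4, 5⟩) (.one ⟨9218, 4, 5⟩)) (.node 1 (.one ⟨14891, 3, 6⟩) (.one ⟨417, 4, 6⟩)))))))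
def par1_12 : Arr Par :=
  (.node 512 (.node 256 (.node 128 (.node 64 par1_12_0 par1_12_1) (.node 64 par1_12_2 par1_12_3)) (.node 128 (.node 64 par1_12_4 par1_12_5) (.node 64 par1_12_6 par1_12_7))) (.node 256 (.node 128 (.node 64 par1_12_8 par1_12_9) (.node 64 par1_12_10 par1_12_11)) (.node 128 (.node 64 par1_12_12 par1_12_13) (.node 64 par1_12_14 par1_12_15))))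
def par1_13_0 : Arr Par :=
  (.node 32 (.node 16 (.node 8 (.node 4 (.node 2 (.node 1 (.one ⟨6481, 0, 5⟩) (.one ⟨118, 1, 7⟩)) (.node 1 (.one ⟨5509, 2, 5⟩) (.one ⟨12665, 0, 7⟩))) (.node 2 (.node 1 (.one ⟨6027, 2, 6⟩) (.one ⟨1846, 1, 6⟩)) (.node 1 (.one ⟨4476, 4, 7⟩) (.one ⟨13453, 3, 4⟩)))) (.node 4 (.node 2 (.node 1 (.one ⟨16434, 1, 6⟩) (.one ⟨8465, 1, 3⟩)) (.node 1 (.one ⟨5056, 0, 6⟩) (.one ⟨3203, 4, 5⟩))) (.node 2 (.node 1 (.one ⟨1252, 4, 4⟩) (.one ⟨5018, 4, 6⟩)) (.node 1 (.one ⟨4209, 4, 5⟩) (.one ⟨5488, 4, 6⟩))))) (.node 8 (.node 4 (.node 2 (.node 1 (.one ⟨15700, 3, 6⟩) (.one ⟨2875, 4, 6⟩)) (.node 1 (.one ⟨5981, 2, 5⟩) (.one ⟨6211, 2, 5⟩))) (.node 2 (.node 1 (.one ⟨3401, 3, 5⟩) (.one ⟨1642, 1, 5⟩)) (.node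 1 (.one ⟨6477, 0, 5⟩) (.one ⟨8184, 4, 6⟩)))) (.node 4 (.node 2 (.node 1 (.one ⟨10861, 2, 7⟩) (.one ⟨10381, 3, 6⟩)) (.node 1 (.one ⟨14853, 2, 6⟩) (.one ⟨8487, 1, 5⟩))) (.node 2 (.node 1 (.one ⟨5166, 0, 6⟩) (.one ⟨4742, 0, 6⟩)) (.node 1 (.one ⟨5854, 4, 6⟩) (.one ⟨10951, 3, 5⟩)))))) (.node 16 (.node 8 (.node 4 (.node 2 (.node 1 (.one ⟨4207, 3, 7⟩) (.one ⟨5045, 3, 7⟩)) (.node 1 (.one ⟨13059, 1, 5⟩) (.one ⟨6048, 2, 6⟩))) (.node 2 (.node 1 (.one ⟨7292, 4, 7⟩) (.one ⟨8844, 3, 5⟩)) (.node 1 (.one ⟨13012, 1, 5⟩) (.one ⟨13674, 1, 6⟩)))) (.node 4 (.node 2 (.node 1 (.one ⟨13592, 2, 6⟩) (.one ⟨13179, 0, 5⟩)) (.node 1 (.one ⟨1656, 1, 5⟩) (.one ⟨10374, 0, 5⟩))) (.node 2 (.node 1 (.one ⟨12840, 1, 6⟩) (.one ⟨4984, 3, 5⟩)) (.node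 1 (.one ⟨3844, 4, 5⟩) (.one ⟨5496, 0, 5⟩))))) (.node 8 (.node 4 (.node 2 (.node 1 (.one ⟨15428, 2, 6⟩) (.one ⟨9735, 1, 7⟩)) (.node 1 (.one ⟨4643, 1, 5⟩) (.one ⟨16888, 3, 6⟩))) (.node 2 (.node 1 (.one ⟨8266, 4, 6⟩) (.one ⟨5055, 3, 6⟩)) (.node 1 (.one ⟨1009, 4, 5⟩) (.one ⟨366, 4, 5⟩)))) (.node 4 (.node 2 (.node 1 (.one ⟨3103, 3, 6⟩) (.one ⟨11207, 4, 6⟩)) (.node 1 (.one ⟨10734, 0, 6⟩) (.one ⟨3626, 0, 7⟩))) (.node 2 (.node 1 (.one ⟨13649, 3, 6⟩) (.one ⟨3516, 2, 4⟩)) (.node 1 (.one ⟨1382, 3, 5⟩) (.one ⟨16074, 4, 5⟩)))))))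
def par1_13_1 : Arr Par :=
  (.node 32 (.node 16 (.node 8 (.node 4 (.node 2 (.node 1 (.one ⟨16080, 4, 4⟩) (.one ⟨12785, 1, 6⟩)) (.node 1 (.one ⟨11672, 2, 5⟩) (.one ⟨11189, 1, 5⟩))) (.node 2 (.node 1 (.one ⟨6128, 4, 6⟩) (.one ⟨264, 1, 6⟩)) (.node 1 (.one ⟨1147, 3, 4⟩) (.one ⟨2716, 0, 4⟩)))) (.node 4 (.node 2 (.node 1 (.one ⟨5290, 4, 6⟩) (.one ⟨8913, 0, 7⟩)) (.node 1 (.one ⟨7499, 1, 5⟩) (.one ⟨13502, 3, 6⟩))) (.node 2 (.node 1 (.one ⟨11673, 0, 4⟩) (.one ⟨15909, 3, 5⟩)) (.node 1 (.one ⟨1664, 4, 5⟩) (.one ⟨9662, 1, 5⟩))))) (.node 8 (.node 4 (.node 2 (.node 1 (.one ⟨4562, 1, 3⟩) (.one ⟨4410, 2, 6⟩)) (.node 1 (.one ⟨11265, 1, 3⟩) (.one ⟨12015, 1, 4⟩))) (.node 2 (.node 1 (.one ⟨14622, 3, 4⟩) (.one ⟨120, 1, 6⟩)) (.node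 1 (.one ⟨14405, 0, 6⟩) (.one ⟨8322, 1, 5⟩)))) (.node 4 (.node 2 (.node 1 (.one ⟨14862, 4, 4⟩) (.one ⟨1640, 1, 6⟩)) (.node 1 (.one ⟨2168, 2, 5⟩) (.one ⟨15041, 0, 6⟩))) (.node 2 (.node 1 (.one ⟨2979, 4, 5⟩) (.one ⟨16777, 4, 6⟩)) (.node 1 (.one ⟨12598, 1, 6⟩) (.one ⟨11166, 2, 7⟩)))))) (.node 16 (.node 8 (.node 4 (.node 2 (.node 1 (.one ⟨13096, 2, 5⟩) (.one ⟨1597, 4, 6⟩)) (.node 1 (.one ⟨3339, 3, 6⟩) (.one ⟨11980, 1, 2⟩))) (.node 2 (.node 1 (.one ⟨5462, 0, 6⟩) (.one ⟨3575, 2, 7⟩)) (.node 1 (.one ⟨3962, 1, 6⟩) (.one ⟨11292, 3, 6⟩)))) (.node 4 (.node 2 (.node 1 (.one ⟨12626, 1, 4⟩) (.one ⟨3582, 0, 5⟩)) (.node 1 (.one ⟨15260, 3, 5⟩) (.one ⟨16969, 0, 6⟩))) (.node 2 (.node 1 (.one ⟨7474, 1, 5⟩) (.one ⟨855, 3, 5⟩)) (.node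 1 (.one ⟨7801, 4, 5⟩) (.one ⟨14848, 4, 6⟩))))) (.node 8 (.node 4 (.node 2 (.node 1 (.one ⟨8930, 3, 5⟩) (.one ⟨6242, 3, 5⟩)) (.node 1 (.one ⟨4274, 2, 6⟩) (.one ⟨12749, 4, 7⟩))) (.node 2 (.node 1 (.one ⟨2710, 3, 6⟩) (.one ⟨1611, 1, 6⟩)) (.node 1 (.one ⟨12005, 1, 7⟩) (.one ⟨8903, 0, 4⟩)))) (.node 4 (.node 2 (.node 1 (.one ⟨8347, 1, 6⟩) (.one ⟨15028, 3, 4⟩)) (.node 1 (.one ⟨1698, 4, 4⟩) (.one ⟨14032, 2, 5⟩))) (.node 2 (.node 1 (.one ⟨14738, 4, 5⟩) (.one ⟨11729, 4, 6⟩)) (.node 1 (.one ⟨406, 1, 6⟩) (.one ⟨8916, 4, 6⟩)))))))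
def par1_13_2 : Arr Par :=
  (.node 32 (.node 16 (.node 8 (.node 4 (.node 2 (.node 1 (.one ⟨9116, 3, 5⟩) (.one ⟨2810, 0, 6⟩)) (.node 1 (.one ⟨14497, 0, 4⟩) (.one ⟨548, 3, 6⟩))) (.node 2 (.node 1 (.one ⟨12856, 4, 6⟩) (.one ⟨13598, 0, 5⟩)) (.node 1 (.one ⟨13150, 3, 7⟩) (.one ⟨8888, 0, 7⟩)))) (.node 4 (.node 2 (.node 1 (.one ⟨5346, 4, 5⟩) (.one ⟨8569, 3, 4⟩)) (.node 1 (.one ⟨11587, 3, 7⟩) (.one ⟨6569, 2, 3⟩))) (.node 2 (.node 1 (.one ⟨4539, 3, 4⟩) (.one ⟨3139, 4, 3⟩)) (.node 1 (.one ⟨13999, 4, 5⟩) (.one ⟨12047, 1, 2⟩))))) (.node 8 (.node 4 (.node 2 (.node 1 (.one ⟨6414, 0, 5⟩) (.one ⟨13554, 0, 4⟩)) (.node 1 (.one ⟨3204, 1, 6⟩) (.one ⟨15434, 3, 6⟩))) (.node 2 (.node 1 (.one ⟨7491, 4, 7⟩) (.one ⟨16095, 0, 4⟩)) (.node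 1 (.one ⟨13564, 3, 5⟩) (.one ⟨14713, 4, 4⟩)))) (.node 4 (.node 2 (.node 1 (.one ⟨12737, 4, 4⟩) (.one ⟨1974, 4, 4⟩)) (.node 1 (.one ⟨4594, 1, 7⟩) (.one ⟨11250, 2, 6⟩))) (.node 2 (.node 1 (.one ⟨11239, 3, 6⟩) (.one ⟨12081, 2, 5⟩)) (.node 1 (.one ⟨16311, 1, 4⟩) (.one ⟨4722, 3, 6⟩)))))) (.node 16 (.node 8 (.node 4 (.node 2 (.node 1 (.one ⟨5437, 0, 4⟩) (.one ⟨14320, 4, 5⟩)) (.node 1 (.one ⟨12524, 2, 5⟩) (.one ⟨2980, 4, 6⟩))) (.node 2 (.node 1 (.one ⟨2190, 3, 5⟩) (.one ⟨7700, 2, 4⟩)) (.node 1 (.one ⟨14480, 3, 5⟩) (.one ⟨10671, 0, 7⟩)))) (.node 4 (.node 2 (.node 1 (.one ⟨5843, 2, 5⟩) (.one ⟨6032, 4, 5⟩)) (.node 1 (.one ⟨15779, 4, 6⟩) (.one ⟨15084, 0, 6⟩))) (.node 2 (.node 1 (.one ⟨11523, 3, 5⟩) (.one ⟨12570, 2, 5⟩))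 (.node 1 (.one ⟨16562, 4, 6⟩) (.one ⟨11122, 4, 5⟩))))) (.node 8 (.node 4 (.node 2 (.node 1 (.one ⟨14786, 3, 6⟩) (.one ⟨11568, 3, 6⟩)) (.node 1 (.one ⟨13505, 1, 6⟩) (.one ⟨8657, 0, 5⟩))) (.node 2 (.node 1 (.one ⟨11076, 0, 6⟩) (.one ⟨12619, 3, 6⟩)) (.node 1 (.one ⟨13078, 4, 6⟩) (.one ⟨13509, 4, 6⟩)))) (.node 4 (.node 2 (.node 1 (.one ⟨5001, 3, 7⟩) (.one ⟨10073, 0, 5⟩)) (.node 1 (.one ⟨13894, 3, 5⟩) (.one ⟨10127, 1, 6⟩))) (.node 2 (.node 1 (.one ⟨6408, 0, 6⟩) (.one ⟨2531, 2, 5⟩)) (.node 1 (.one ⟨4860, 3, 5⟩) (.one ⟨2811, 1, 5⟩)))))))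
def par1_13_3 : Arr Par :=
  (.node 32 (.node 16 (.node 8 (.node 4 (.node 2 (.node 1 (.one ⟨4130, 1, 5⟩) (.one ⟨6424, 0, 5⟩)) (.node 1 (.one ⟨10034, 1, 6⟩) (.one ⟨9439, 3, 6⟩))) (.node 2 (.node 1 (.one ⟨15611, 2, 6⟩) (.one ⟨16086, 0, 5⟩)) (.node 1 (.one ⟨1869, 4, 6⟩) (.one ⟨12128, 1, 1⟩)))) (.node 4 (.node 2 (.node 1 (.one ⟨10623, 2, 6⟩) (.one ⟨1775, 1, 6⟩)) (.node 1 (.one ⟨14515, 2, 6⟩) (.one ⟨6418, 0, 4⟩))) (.node 2 (.node 1 (.one ⟨4453, 4, 5⟩) (.one ⟨11090, 4, 7⟩)) (.node 1 (.one ⟨17108, 2, 6⟩) (.one ⟨2605, 4, 5⟩))))) (.node 8 (.node 4 (.node 2 (.node 1 (.one ⟨2635, 3, 5⟩) (.one ⟨5205, 1, 4⟩)) (.node 1 (.one ⟨4124, 0, 6⟩) (.one ⟨6232, 3, 4⟩))) (.node 2 (.node 1 (.one ⟨14697, 3, 6⟩) (.one ⟨11533, 4, 6⟩))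 (.node 1 (.one ⟨6398, 0, 6⟩) (.one ⟨12154, 0, 6⟩)))) (.node 4 (.node 2 (.node 1 (.one ⟨666, 3, 5⟩) (.one ⟨2206, 4, 6⟩)) (.node 1 (.one ⟨15562, 2, 6⟩) (.one ⟨485, 4, 5⟩))) (.node 2 (.node 1 (.one ⟨3458, 2, 5⟩) (.one ⟨7442, 0, 6⟩)) (.node 1 (.one ⟨12748, 3, 6⟩) (.one ⟨9883, 1, 6⟩)))))) (.node 16 (.node 8 (.node 4 (.node 2 (.node 1 (.one ⟨1169, 4, 6⟩) (.one ⟨259, 2, 5⟩)) (.node 1 (.one ⟨6247, 2, 5⟩) (.one ⟨4178, 4, 4⟩))) (.node 2 (.node 1 (.one ⟨4058, 0, 6⟩) (.one ⟨757, 4, 6⟩)) (.node 1 (.one ⟨3210, 3, 4⟩) (.one ⟨15045, 4, 7⟩)))) (.node 4 (.node 2 (.node 1 (.one ⟨10054, 0, 6⟩) (.one ⟨7119, 4, 5⟩)) (.node 1 (.one ⟨9903, 4, 6⟩) (.one ⟨1671, 2, 5⟩))) (.node 2 (.node 1 (.one ⟨1909, 2, 5⟩) (.one ⟨11131, 1, 5⟩)) (.node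 1 (.one ⟨13308, 0, 6⟩) (.one ⟨15666, 2, 7⟩))))) (.node 8 (.node 4 (.node 2 (.node 1 (.one ⟨13560, 2, 4⟩) (.one ⟨13225, 1, 6⟩)) (.node 1 (.one ⟨4859, 4, 3⟩) (.one ⟨766, 3, 5⟩))) (.node 2 (.node 1 (.one ⟨16833, 1, 3⟩) (.one ⟨14899, 1, 3⟩)) (.node 1 (.one ⟨3346, 2, 6⟩) (.one ⟨5020, 4, 6⟩)))) (.node 4 (.node 2 (.node 1 (.one ⟨8835, 1, 3⟩) (.one ⟨4965, 3, 5⟩)) (.node 1 (.one ⟨3171, 4, 6⟩) (.one ⟨3228, 2, 6⟩))) (.node 2 (.node 1 (.one ⟨784, 1, 4⟩) (.one ⟨5103, 1, 5⟩)) (.node 1 (.one ⟨9355, 2, 4⟩) (.one ⟨7691, 4, 6⟩)))))))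
def par1_13_4 : Arr Par :=
  (.node 32 (.node 16 (.node 8 (.node 4 (.node 2 (.node 1 (.one ⟨16938, 2, 5⟩) (.one ⟨11566, 3, 6⟩)) (.node 1 (.one ⟨16826, 3, 6⟩) (.one ⟨8867, 0, 4⟩))) (.node 2 (.node 1 (.one ⟨6953, 0, 6⟩) (.one ⟨3719, 0, 5⟩)) (.node 1 (.one ⟨5165, 1, 5⟩) (.one ⟨2332, 0, 6⟩)))) (.node 4 (.node 2 (.node 1 (.one ⟨497, 4, 6⟩) (.one ⟨5624, 1, 6⟩)) (.node 1 (.one ⟨8307, 1, 6⟩) (.one ⟨4758, 4, 4⟩))) (.node 2 (.node 1 (.one ⟨13470, 3, 5⟩) (.one ⟨14907, 1, 5⟩)) (.node 1 (.one ⟨7694, 4, 3⟩) (.one ⟨3323, 4, 4⟩))))) (.node 8 (.node 4 (.node 2 (.node 1 (.one ⟨12065, 2, 5⟩) (.one ⟨5877, 2, 7⟩)) (.node 1 (.one ⟨16199, 2, 5⟩) (.one ⟨11403, 3, 6⟩))) (.node 2 (.node 1 (.one ⟨6231, 4, 4⟩) (.one ⟨13188, 1, 5⟩)) (.node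 1 (.one ⟨6958, 0, 4⟩) (.one ⟨3172, 2, 6⟩)))) (.node 4 (.node 2 (.node 1 (.one ⟨2343, 0, 5⟩) (.one ⟨14443, 2, 4⟩)) (.node 1 (.one ⟨8269, 2, 6⟩) (.one ⟨4265, 0, 5⟩))) (.node 2 (.node 1 (.one ⟨16410, 1, 6⟩) (.one ⟨2739, 2, 3⟩)) (.node 1 (.one ⟨4793, 3, 4⟩) (.one ⟨9501, 4, 6⟩)))))) (.node 16 (.node 8 (.node 4 (.node 2 (.node 1 (.one ⟨16881, 1, 5⟩) (.one ⟨7377, 4, 5⟩)) (.node 1 (.one ⟨11240, 4, 6⟩) (.one ⟨7133, 4, 4⟩))) (.node 2 (.node 1 (.one ⟨11340, 4, 4⟩) (.one ⟨4210, 1, 6⟩)) (.node 1 (.one ⟨16260, 2, 4⟩) (.one ⟨9805, 4, 4⟩)))) (.node 4 (.node 2 (.node 1 (.one ⟨6658, 2, 5⟩) (.one ⟨5753, 4, 4⟩)) (.node 1 (.one ⟨8720, 3, 6⟩) (.one ⟨10857, 4, 6⟩))) (.node 2 (.node 1 (.one ⟨903, 1, 6⟩) (.one ⟨15280, 3, 7⟩)) (.node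 1 (.one ⟨3332, 3, 6⟩) (.one ⟨2, 3, 5⟩))))) (.node 8 (.node 4 (.node 2 (.node 1 (.one ⟨16180, 3, 6⟩) (.one ⟨6211, 1, 5⟩)) (.node 1 (.one ⟨7153, 4, 3⟩) (.one ⟨4856, 2, 2⟩))) (.node 2 (.node 1 (.one ⟨3373, 4, 5⟩) (.one ⟨6211, 0, 5⟩)) (.node 1 (.one ⟨13382, 2, 5⟩) (.one ⟨16086, 4, 5⟩)))) (.node 4 (.node 2 (.node 1 (.one ⟨10496, 2, 6⟩) (.one ⟨2737, 4, 5⟩)) (.node 1 (.one ⟨11981, 0, 7⟩) (.one ⟨14441, 4, 6⟩))) (.node 2 (.node 1 (.one ⟨11171, 3, 5⟩) (.one ⟨7898, 1, 6⟩)) (.node 1 (.one ⟨7902, 0, 5⟩) (.one ⟨12384, 1, 6⟩)))))))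
def par1_13_5 : Arr Par :=
  (.node 32 (.node 16 (.node 8 (.node 4 (.node 2 (.node 1 (.one ⟨12745, 4, 6⟩) (.one ⟨62, 1, 6⟩)) (.node 1 (.one ⟨13038, 4, 6⟩) (.one ⟨6872, 4, 5⟩))) (.node 2 (.node 1 (.one ⟨3936, 2, 6⟩) (.one ⟨6684, 4, 6⟩)) (.node 1 (.one ⟨10426, 3, 5⟩) (.one ⟨136, 0, 6⟩)))) (.node 4 (.node 2 (.node 1 (.one ⟨12309, 4, 5⟩) (.one ⟨1916, 0, 6⟩)) (.node 1 (.one ⟨5808, 2, 5⟩) (.one ⟨12082, 4, 5⟩))) (.node 2 (.node 1 (.one ⟨16838, 3, 7⟩) (.one ⟨6294, 0, 6⟩)) (.node 1 (.one ⟨16759, 3, 6⟩) (.one ⟨14355, 1, 6⟩))))) (.node 8 (.node 4 (.node 2 (.node 1 (.one ⟨9241, 3, 4⟩) (.one ⟨15415, 3, 5⟩)) (.node 1 (.one ⟨3519, 3, 6⟩) (.one ⟨9987, 0, 5⟩))) (.node 2 (.node 1 (.one ⟨14032, 3, 5⟩) (.one ⟨3948, 1, 4⟩)) (.node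 1 (.one ⟨3948, 0, 4⟩) (.one ⟨6309, 1, 6⟩)))) (.node 4 (.node 2 (.node 1 (.one ⟨12865, 3, 6⟩) (.one ⟨11911, 3, 5⟩)) (.node 1 (.one ⟨6681, 4, 5⟩) (.one ⟨11532, 2, 6⟩))) (.node 2 (.node 1 (.one ⟨7896, 1, 6⟩) (.one ⟨6546, 2, 6⟩)) (.node 1 (.one ⟨3899, 0, 6⟩) (.one ⟨9999, 0, 6⟩)))))) (.node 16 (.node 8 (.node 4 (.node 2 (.node 1 (.one ⟨1546, 4, 6⟩) (.one ⟨6309, 0, 6⟩)) (.node 1 (.one ⟨6394, 2, 6⟩) (.one ⟨6029, 2, 5⟩))) (.node 2 (.node 1 (.one ⟨7890, 1, 6⟩) (.one ⟨14444, 4, 6⟩)) (.node 1 (.one ⟨2641, 2, 5⟩) (.one ⟨604, 3, 6⟩)))) (.node 4 (.node 2 (.node 1 (.one ⟨9691, 4, 6⟩) (.one ⟨1128, 2, 6⟩)) (.node 1 (.one ⟨10091, 4, 5⟩) (.one ⟨8576, 2, 5⟩))) (.node 2 (.node 1 (.one ⟨9480, 3, 6⟩) (.one ⟨7902, 1, 5⟩)) (.node 1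 (.one ⟨9318, 3, 6⟩) (.one ⟨7930, 4, 6⟩))))) (.node 8 (.node 4 (.node 2 (.node 1 (.one ⟨8079, 1, 6⟩) (.one ⟨11924, 0, 6⟩)) (.node 1 (.one ⟨7704, 3, 3⟩) (.one ⟨8207, 3, 2⟩))) (.node 2 (.node 1 (.one ⟨9551, 3, 5⟩) (.one ⟨6429, 1, 6⟩)) (.node 1 (.one ⟨10456, 1, 5⟩) (.one ⟨3841, 0, 6⟩)))) (.node 4 (.node 2 (.node 1 (.one ⟨2376, 1, 6⟩) (.one ⟨7890, 4, 6⟩)) (.node 1 (.one ⟨9856, 0, 4⟩) (.one ⟨4541, 3, 5⟩))) (.node 2 (.node 1 (.one ⟨3215, 4, 6⟩) (.one ⟨8608, 4, 5⟩)) (.node 1 (.one ⟨4368, 2, 6⟩) (.one ⟨14135, 1, 6⟩)))))))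
def par1_13_6 : Arr Par :=
  (.node 32 (.node 16 (.node 8 (.node 4 (.node 2 (.node 1 (.one ⟨14081, 2, 6⟩) (.one ⟨12117, 0, 5⟩)) (.node 1 (.one ⟨13677, 4, 6⟩) (.one ⟨10958, 2, 7⟩))) (.node 2 (.node 1 (.one ⟨5345, 4, 6⟩) (.one ⟨4515, 0, 5⟩)) (.node 1 (.one ⟨211, 4, 6⟩) (.one ⟨1833, 3, 6⟩)))) (.node 4 (.node 2 (.node 1 (.one ⟨7321, 4, 6⟩) (.one ⟨2200, 1, 5⟩)) (.node 1 (.one ⟨10688, 3, 4⟩) (.one ⟨16816, 4, 5⟩))) (.node 2 (.node 1 (.one ⟨11017, 2, 6⟩) (.one ⟨8816, 4, 7⟩)) (.node 1 (.one ⟨3869, 1, 5⟩) (.one ⟨9085, 4, 6⟩))))) (.node 8 (.node 4 (.node 2 (.node 1 (.one ⟨4543, 2, 5⟩) (.one ⟨3528, 0, 5⟩)) (.node 1 (.one ⟨15586, 3, 5⟩) (.one ⟨14457, 1, 6⟩))) (.node 2 (.node 1 (.one ⟨15638, 2, 5⟩) (.one ⟨2966, 2, 7⟩)) (.node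 1 (.one ⟨834, 2, 5⟩) (.one ⟨8280, 4, 4⟩)))) (.node 4 (.node 2 (.node 1 (.one ⟨4380, 4, 5⟩) (.one ⟨8121, 1, 5⟩)) (.node 1 (.one ⟨12092, 1, 7⟩) (.one ⟨8057, 1, 6⟩))) (.node 2 (.node 1 (.one ⟨12177, 0, 5⟩) (.one ⟨11220, 2, 6⟩)) (.node 1 (.one ⟨10423, 1, 3⟩) (.one ⟨3825, 0, 5⟩)))))) (.node 16 (.node 8 (.node 4 (.node 2 (.node 1 (.one ⟨10688, 0, 4⟩) (.one ⟨11728, 4, 5⟩)) (.node 1 (.one ⟨4615, 3, 5⟩) (.one ⟨7007, 3, 5⟩))) (.node 2 (.node 1 (.one ⟨4059, 1, 6⟩) (.one ⟨4069, 0, 5⟩)) (.node 1 (.one ⟨10622, 4, 5⟩) (.one ⟨15782, 4, 4⟩)))) (.node 4 (.node 2 (.node 1 (.one ⟨9670, 2, 6⟩) (.one ⟨10907, 2, 6⟩)) (.node 1 (.one ⟨2440, 0, 6⟩) (.one ⟨11939, 0, 6⟩))) (.node 2 (.node 1 (.one ⟨7748, 3, 4⟩) (.one ⟨2202, 3, 3⟩)) (.node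 1 (.one ⟨4083, 0, 7⟩) (.one ⟨4825, 2, 5⟩))))) (.node 8 (.node 4 (.node 2 (.node 1 (.one ⟨15386, 2, 5⟩) (.one ⟨6616, 2, 6⟩)) (.node 1 (.one ⟨14292, 1, 7⟩) (.one ⟨1165, 1, 6⟩))) (.node 2 (.node 1 (.one ⟨10379, 2, 6⟩) (.one ⟨13995, 0, 7⟩)) (.node 1 (.one ⟨16270, 2, 6⟩) (.one ⟨1783, 0, 5⟩)))) (.node 4 (.node 2 (.node 1 (.one ⟨652, 1, 6⟩) (.one ⟨2229, 2, 5⟩)) (.node 1 (.one ⟨8861, 3, 6⟩) (.one ⟨6155, 4, 2⟩))) (.node 2 (.node 1 (.one ⟨7768, 3, 5⟩) (.one ⟨11350, 3, 6⟩)) (.node 1 (.one ⟨9440, 4, 6⟩) (.one ⟨671, 2, 5⟩)))))))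
def par1_13_7 : Arr Par :=
  (.node 32 (.node 16 (.node 8 (.node 4 (.node 2 (.node 1 (.one ⟨8319, 3, 6⟩) (.one ⟨12900, 0, 6⟩)) (.node 1 (.one ⟨15270, 4, 5⟩) (.one ⟨459, 2, 6⟩))) (.node 2 (.node 1 (.one ⟨16423, 3, 6⟩) (.one ⟨376, 2, 6⟩)) (.node 1 (.one ⟨13926, 0, 6⟩) (.one ⟨9689, 3, 6⟩)))) (.node 4 (.node 2 (.node 1 (.one ⟨11980, 3, 2⟩) (.one ⟨11368, 3, 3⟩)) (.node 1 (.one ⟨2094, 0, 6⟩) (.one ⟨8371, 3, 4⟩))) (.node 2 (.node 1 (.one ⟨11646, 4, 6⟩) (.one ⟨4786, 0, 4⟩)) (.node 1 (.one ⟨16931, 2, 6⟩) (.one ⟨2493, 4, 6⟩))))) (.node 8 (.node 4 (.node 2 (.node 1 (.one ⟨17183, 2, 6⟩) (.one ⟨3857, 4, 5⟩)) (.node 1 (.one ⟨6539, 4, 5⟩) (.one ⟨9437, 2, 4⟩))) (.node 2 (.node 1 (.one ⟨5806, 2, 5⟩) (.one ⟨13638, 4, 6⟩)) (.node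 1 (.one ⟨9680, 2, 6⟩) (.one ⟨16174, 3, 6⟩)))) (.node 4 (.node 2 (.node 1 (.one ⟨15428, 3, 6⟩) (.one ⟨10778, 4, 4⟩)) (.node 1 (.one ⟨13918, 0, 5⟩) (.one ⟨6207, 1, 5⟩))) (.node 2 (.node 1 (.one ⟨7284, 2, 5⟩) (.one ⟨1156, 1, 6⟩)) (.node 1 (.one ⟨4025, 3, 5⟩) (.one ⟨8810, 1, 6⟩)))))) (.node 16 (.node 8 (.node 4 (.node 2 (.node 1 (.one ⟨13388, 1, 5⟩) (.one ⟨13817, 3, 5⟩)) (.node 1 (.one ⟨1088, 1, 3⟩) (.one ⟨1854, 3, 5⟩))) (.node 2 (.node 1 (.one ⟨8805, 1, 5⟩) (.one ⟨6393, 4, 3⟩)) (.node 1 (.one ⟨9688, 3, 5⟩) (.one ⟨10274, 2, 5⟩)))) (.node 4 (.node 2 (.node 1 (.one ⟨8646, 0, 6⟩) (.one ⟨3253, 3, 5⟩)) (.node 1 (.one ⟨4888, 0, 6⟩) (.one ⟨10603, 2, 6⟩))) (.node 2 (.node 1 (.one ⟨1865, 4, 7⟩) (.one ⟨8864, 1, 5⟩)) (.node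 1 (.one ⟨6670, 2, 5⟩) (.one ⟨6290, 2, 7⟩))))) (.node 8 (.node 4 (.node 2 (.node 1 (.one ⟨15139, 3, 4⟩) (.one ⟨2601, 1, 7⟩)) (.node 1 (.one ⟨1153, 1, 5⟩) (.one ⟨5802, 2, 4⟩))) (.node 2 (.node 1 (.one ⟨6356, 4, 6⟩) (.one ⟨5308, 4, 6⟩)) (.node 1 (.one ⟨16774, 4, 6⟩) (.one ⟨4532, 2, 5⟩)))) (.node 4 (.node 2 (.node 1 (.one ⟨4460, 2, 6⟩) (.one ⟨7192, 2, 4⟩)) (.node 1 (.one ⟨6284, 3, 5⟩) (.one ⟨4507, 2, 5⟩))) (.node 2 (.node 1 (.one ⟨2630, 3, 5⟩) (.one ⟨6156, 2, 3⟩)) (.node 1 (.one ⟨5776, 0, 5⟩) (.one ⟨11240, 2, 6⟩)))))))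
def par1_13_8 : Arr Par :=
  (.node 32 (.node 16 (.node 8 (.node 4 (.node 2 (.node 1 (.one ⟨8637, 0, 4⟩) (.one ⟨16834, 1, 7⟩)) (.node 1 (.one ⟨1094, 1, 3⟩) (.one ⟨6032, 2, 5⟩))) (.node 2 (.node 1 (.one ⟨15809, 4, 4⟩) (.one ⟨5516, 2, 7⟩)) (.node 1 (.one ⟨9623, 4, 4⟩) (.one ⟨10182, 0, 6⟩)))) (.node 4 (.node 2 (.node 1 (.one ⟨4853, 0, 5⟩) (.one ⟨14058, 1, 6⟩)) (.node 1 (.one ⟨10221, 4, 5⟩) (.one ⟨9283, 2, 4⟩))) (.node 2 (.node 1 (.one ⟨13837, 3, 5⟩) (.one ⟨2009, 0, 4⟩)) (.node 1 (.one ⟨11366, 3, 6⟩) (.one ⟨10649, 1, 5⟩))))) (.node 8 (.node 4 (.node 2 (.node 1 (.one ⟨8621, 3, 5⟩) (.one ⟨1165, 3, 6⟩)) (.node 1 (.one ⟨11970, 2, 6⟩) (.one ⟨14123, 4, 4⟩))) (.node 2 (.node 1 (.one ⟨17111, 2, 6⟩) (.one ⟨13452, 4, 5⟩))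 (.node 1 (.one ⟨1793, 0, 6⟩) (.one ⟨9319, 3, 6⟩)))) (.node 4 (.node 2 (.node 1 (.one ⟨11893, 4, 6⟩) (.one ⟨6962, 3, 5⟩)) (.node 1 (.one ⟨10592, 1, 5⟩) (.one ⟨14126, 1, 7⟩))) (.node 2 (.node 1 (.one ⟨15056, 4, 5⟩) (.one ⟨6270, 1, 5⟩)) (.node 1 (.one ⟨13881, 0, 6⟩) (.one ⟨7003, 2, 5⟩)))))) (.node 16 (.node 8 (.node 4 (.node 2 (.node 1 (.one ⟨7, 2, 6⟩) (.one ⟨1989, 0, 6⟩)) (.node 1 (.one ⟨7004, 2, 6⟩) (.one ⟨741, 4, 7⟩))) (.node 2 (.node 1 (.one ⟨13904, 3, 5⟩) (.one ⟨5768, 0, 5⟩)) (.node 1 (.one ⟨8751, 1, 6⟩) (.one ⟨7308, 3, 6⟩)))) (.node 4 (.node 2 (.node 1 (.one ⟨13394, 1, 4⟩) (.one ⟨8587, 3, 6⟩)) (.node 1 (.one ⟨13768, 0, 3⟩) (.one ⟨4510, 3, 6⟩))) (.node 2 (.node 1 (.one ⟨15649, 3, 4⟩) (.one ⟨14110, 1, 6⟩))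 (.node 1 (.one ⟨679, 1, 5⟩) (.one ⟨10409, 4, 5⟩))))) (.node 8 (.node 4 (.node 2 (.node 1 (.one ⟨10272, 1, 3⟩) (.one ⟨409, 3, 5⟩)) (.node 1 (.one ⟨10357, 4, 7⟩) (.one ⟨1420, 3, 6⟩))) (.node 2 (.node 1 (.one ⟨2320, 4, 5⟩) (.one ⟨1569, 0, 6⟩)) (.node 1 (.one ⟨2310, 4, 5⟩) (.one ⟨12819, 4, 6⟩)))) (.node 4 (.node 2 (.node 1 (.one ⟨1434, 3, 5⟩) (.one ⟨9663, 0, 5⟩)) (.node 1 (.one ⟨6750, 3, 5⟩) (.one ⟨10035, 1, 5⟩))) (.node 2 (.node 1 (.one ⟨372, 0, 3⟩) (.one ⟨8172, 1, 6⟩)) (.node 1 (.one ⟨5297, 2, 6⟩) (.one ⟨7354, 2, 6⟩)))))))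
def par1_13_9 : Arr Par :=
  (.node 32 (.node 16 (.node 8 (.node 4 (.node 2 (.node 1 (.one ⟨5548, 2, 5⟩) (.one ⟨16807, 2, 4⟩)) (.node 1 (.one ⟨10812, 2, 5⟩) (.one ⟨6258, 2, 4⟩))) (.node 2 (.node 1 (.one ⟨14647, 3, 5⟩) (.one ⟨4392, 3, 5⟩)) (.node 1 (.one ⟨13392, 3, 4⟩) (.one ⟨12298, 0, 5⟩)))) (.node 4 (.node 2 (.node 1 (.one ⟨73, 3, 6⟩) (.one ⟨1421, 3, 6⟩)) (.node 1 (.one ⟨9710, 4, 6⟩) (.one ⟨5249, 4, 6⟩))) (.node 2 (.node 1 (.one ⟨15085, 4, 5⟩) (.one ⟨7810, 4, 6⟩)) (.node 1 (.one ⟨10796, 4, 6⟩) (.one ⟨5103, 2, 5⟩))))) (.node 8 (.node 4 (.node 2 (.node 1 (.one ⟨15442, 2, 4⟩) (.one ⟨15338, 0, 6⟩)) (.node 1 (.one ⟨8640, 3, 6⟩) (.one ⟨9672, 2, 5⟩))) (.node 2 (.node 1 (.one ⟨832, 0, 6⟩) (.one ⟨8268, 3, 6⟩)) (.node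 1 (.one ⟨8124, 2, 5⟩) (.one ⟨2204, 1, 6⟩)))) (.node 4 (.node 2 (.node 1 (.one ⟨9952, 4, 5⟩) (.one ⟨1874, 4, 5⟩)) (.node 1 (.one ⟨10116, 1, 6⟩) (.one ⟨982, 0, 5⟩))) (.node 2 (.node 1 (.one ⟨12488, 1, 5⟩) (.one ⟨12382, 0, 6⟩)) (.node 1 (.one ⟨4114, 2, 4⟩) (.one ⟨15262, 0, 5⟩)))))) (.node 16 (.node 8 (.node 4 (.node 2 (.node 1 (.one ⟨6259, 2, 5⟩) (.one ⟨16145, 3, 7⟩)) (.node 1 (.one ⟨13250, 4, 5⟩) (.one ⟨5520, 4, 4⟩))) (.node 2 (.node 1 (.one ⟨5783, 3, 3⟩) (.one ⟨8858, 3, 6⟩)) (.node 1 (.one ⟨12569, 3, 5⟩) (.one ⟨13089, 4, 5⟩)))) (.node 4 (.node 2 (.node 1 (.one ⟨1006, 4, 6⟩) (.one ⟨9924, 4, 5⟩)) (.node 1 (.one ⟨16248, 1, 6⟩) (.one ⟨14660, 4, 6⟩))) (.node 2 (.node 1 (.one ⟨2488, 3, 6⟩) (.one ⟨12543, 1, 6⟩)) (.node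 1 (.one ⟨13331, 2, 6⟩) (.one ⟨3804, 2, 6⟩))))) (.node 8 (.node 4 (.node 2 (.node 1 (.one ⟨5886, 1, 5⟩) (.one ⟨15425, 1, 5⟩)) (.node 1 (.one ⟨11444, 1, 6⟩) (.one ⟨4997, 4, 5⟩))) (.node 2 (.node 1 (.one ⟨9671, 0, 6⟩) (.one ⟨7454, 1, 6⟩)) (.node 1 (.one ⟨2700, 3, 6⟩) (.one ⟨828, 0, 5⟩)))) (.node 4 (.node 2 (.node 1 (.one ⟨8213, 1, 6⟩) (.one ⟨1507, 0, 6⟩)) (.node 1 (.one ⟨11869, 3, 6⟩) (.one ⟨6768, 4, 6⟩))) (.node 2 (.node 1 (.one ⟨8127, 3, 5⟩) (.one ⟨15069, 4, 6⟩)) (.node 1 (.one ⟨14893, 3, 4⟩) (.one ⟨807, 2, 6⟩)))))))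
def par1_13_10 : Arr Par :=
  (.node 32 (.node 16 (.node 8 (.node 4 (.node 2 (.node 1 (.one ⟨484, 0, 6⟩) (.one ⟨13580, 2, 6⟩)) (.node 1 (.one ⟨3447, 1, 7⟩) (.one ⟨13779, 1, 5⟩))) (.node 2 (.node 1 (.one ⟨15313, 3, 6⟩) (.one ⟨10959, 2, 6⟩)) (.node 1 (.one ⟨3398, 1, 6⟩) (.one ⟨14177, 3, 4⟩)))) (.node 4 (.node 2 (.node 1 (.one ⟨2124, 1, 6⟩) (.one ⟨9921, 4, 4⟩)) (.node 1 (.one ⟨8751, 4, 6⟩) (.one ⟨7018, 2, 6⟩))) (.node 2 (.node 1 (.one ⟨14881, 3, 6⟩) (.one ⟨2408, 3, 6⟩)) (.node 1 (.one ⟨1068, 4, 6⟩) (.one ⟨3381, 1, 6⟩))))) (.node 8 (.node 4 (.node 2 (.node 1 (.one ⟨16563, 4, 6⟩) (.one ⟨1388, 2, 6⟩)) (.node 1 (.one ⟨812, 0, 6⟩) (.one ⟨9119, 4, 5⟩))) (.node 2 (.node 1 (.one ⟨11792, 2, 4⟩) (.one ⟨5532, 2, 6⟩)) (.node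 1 (.one ⟨2765, 3, 5⟩) (.one ⟨9682, 0, 5⟩)))) (.node 4 (.node 2 (.node 1 (.one ⟨168, 0, 6⟩) (.one ⟨5734, 3, 5⟩)) (.node 1 (.one ⟨12449, 0, 4⟩) (.one ⟨8445, 3, 6⟩))) (.node 2 (.node 1 (.one ⟨8664, 3, 5⟩) (.one ⟨15985, 4, 6⟩)) (.node 1 (.one ⟨10982, 2, 6⟩) (.one ⟨11552, 1, 6⟩)))))) (.node 16 (.node 8 (.node 4 (.node 2 (.node 1 (.one ⟨9697, 0, 7⟩) (.one ⟨764, 4, 4⟩)) (.node 1 (.one ⟨15101, 3, 6⟩) (.one ⟨10400, 4, 6⟩))) (.node 2 (.node 1 (.one ⟨15011, 4, 5⟩) (.one ⟨16534, 4, 6⟩)) (.node 1 (.one ⟨12189, 3, 5⟩) (.one ⟨14256, 2, 6⟩)))) (.node 4 (.node 2 (.node 1 (.one ⟨2058, 4, 7⟩) (.one ⟨8159, 4, 6⟩)) (.node 1 (.one ⟨3081, 3, 7⟩) (.one ⟨5553, 3, 6⟩))) (.node 2 (.node 1 (.one ⟨12232, 0, 5⟩) (.one ⟨11828, 3, 6⟩)) (.node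 1 (.one ⟨508, 0, 5⟩) (.one ⟨2397, 4, 4⟩))))) (.node 8 (.node 4 (.node 2 (.node 1 (.one ⟨12276, 2, 7⟩) (.one ⟨5532, 0, 6⟩)) (.node 1 (.one ⟨10521, 4, 7⟩) (.one ⟨10625, 2, 5⟩))) (.node 2 (.node 1 (.one ⟨2478, 4, 5⟩) (.one ⟨13926, 1, 6⟩)) (.node 1 (.one ⟨1970, 3, 5⟩) (.one ⟨10757, 0, 5⟩)))) (.node 4 (.node 2 (.node 1 (.one ⟨5730, 4, 6⟩) (.one ⟨15406, 2, 6⟩)) (.node 1 (.one ⟨5872, 3, 6⟩) (.one ⟨6814, 2, 6⟩))) (.node 2 (.node 1 (.one ⟨2936, 2, 6⟩) (.one ⟨14188, 2, 5⟩)) (.node 1 (.one ⟨9671, 2, 6⟩) (.one ⟨2692, 3, 6⟩)))))))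
def par1_13_11 : Arr Par :=
  (.node 32 (.node 16 (.node 8 (.node 4 (.node 2 (.node 1 (.one ⟨11230, 2, 4⟩) (.one ⟨2531, 3, 5⟩)) (.node 1 (.one ⟨13768, 1, 3⟩) (.one ⟨10160, 1, 7⟩))) (.node 2 (.node 1 (.one ⟨12072, 3, 5⟩) (.one ⟨16480, 4, 5⟩)) (.node 1 (.one ⟨17048, 0, 3⟩) (.one ⟨6419, 3, 6⟩)))) (.node 4 (.node 2 (.node 1 (.one ⟨6610, 2, 6⟩) (.one ⟨1350, 3, 5⟩)) (.node 1 (.one ⟨13881, 1, 6⟩) (.one ⟨542, 2, 3⟩))) (.node 2 (.node 1 (.one ⟨13743, 0, 6⟩) (.one ⟨2778, 3, 6⟩)) (.node 1 (.one ⟨6399, 0, 6⟩) (.one ⟨9373, 3, 5⟩))))) (.node 8 (.node 4 (.node 2 (.node 1 (.one ⟨2009, 1, 4⟩) (.one ⟨7213, 2, 6⟩)) (.node 1 (.one ⟨10126, 0, 6⟩) (.one ⟨10223, 3, 5⟩))) (.node 2 (.node 1 (.one ⟨4853, 1, 5⟩) (.one ⟨4135, 3, 6⟩))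 (.node 1 (.one ⟨17063, 0, 5⟩) (.one ⟨10220, 4, 3⟩)))) (.node 4 (.node 2 (.node 1 (.one ⟨10235, 1, 3⟩) (.one ⟨11715, 2, 5⟩)) (.node 1 (.one ⟨5776, 1, 5⟩) (.one ⟨2103, 4, 6⟩))) (.node 2 (.node 1 (.one ⟨10048, 0, 6⟩) (.one ⟨2201, 4, 3⟩)) (.node 1 (.one ⟨10206, 4, 4⟩) (.one ⟨7735, 2, 3⟩)))))) (.node 16 (.node 8 (.node 4 (.node 2 (.node 1 (.one ⟨14645, 2, 5⟩) (.one ⟨13910, 1, 6⟩)) (.node 1 (.one ⟨15943, 4, 4⟩) (.one ⟨5077, 4, 6⟩))) (.node 2 (.node 1 (.one ⟨5550, 0, 6⟩) (.one ⟨16721, 1, 5⟩)) (.node 1 (.one ⟨8910, 0, 6⟩) (.one ⟨2655, 0, 4⟩)))) (.node 4 (.node 2 (.node 1 (.one ⟨15545, 2, 6⟩) (.one ⟨13972, 0, 5⟩)) (.node 1 (.one ⟨5450, 2, 5⟩) (.one ⟨10206, 0, 4⟩))) (.node 2 (.node 1 (.one ⟨7431, 2, 7⟩) (.one ⟨10195,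 2, 7⟩)) (.node 1 (.one ⟨13180, 2, 5⟩) (.one ⟨13961, 0, 5⟩))))) (.node 8 (.node 4 (.node 2 (.node 1 (.one ⟨4814, 1, 7⟩) (.one ⟨4763, 2, 6⟩)) (.node 1 (.one ⟨13798, 0, 6⟩) (.one ⟨10129, 0, 6⟩))) (.node 2 (.node 1 (.one ⟨1831, 2, 6⟩) (.one ⟨17024, 0, 7⟩)) (.node 1 (.one ⟨10708, 4, 5⟩) (.one ⟨6179, 1, 5⟩)))) (.node 4 (.node 2 (.node 1 (.one ⟨1793, 1, 6⟩) (.one ⟨14342, 2, 6⟩)) (.node 1 (.one ⟨13808, 3, 5⟩) (.one ⟨6024, 4, 4⟩))) (.node 2 (.node 1 (.one ⟨14328, 2, 6⟩) (.one ⟨12731, 2, 6⟩)) (.node 1 (.one ⟨10276, 3, 4⟩) (.one ⟨615, 4, 6⟩)))))))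
def par1_13_12 : Arr Par :=
  (.node 32 (.node 16 (.node 8 (.node 4 (.node 2 (.node 1 (.one ⟨5734, 1, 5⟩) (.one ⟨7141, 4, 5⟩)) (.node 1 (.one ⟨14920, 3, 5⟩) (.one ⟨4786, 1, 4⟩))) (.node 2 (.node 1 (.one ⟨8132, 3, 5⟩) (.one ⟨8664, 1, 5⟩)) (.node 1 (.one ⟨10043, 0, 6⟩) (.one ⟨6378, 0, 7⟩)))) (.node 4 (.node 2 (.node 1 (.one ⟨14457, 4, 6⟩) (.one ⟨16946, 3, 6⟩)) (.node 1 (.one ⟨6512, 4, 5⟩) (.one ⟨6715, 3, 4⟩))) (.node 2 (.node 1 (.one ⟨6367, 4, 3⟩) (.one ⟨9635, 3, 4⟩)) (.node 1 (.one ⟨14421, 2, 4⟩) (.one ⟨10051, 1, 6⟩))))) (.node 8 (.node 4 (.node 2 (.node 1 (.one ⟨4845, 1, 7⟩) (.one ⟨4102, 2, 6⟩)) (.node 1 (.one ⟨9858, 2, 6⟩) (.one ⟨4888, 1, 6⟩))) (.node 2 (.node 1 (.one ⟨9945, 2, 6⟩) (.one ⟨13835, 1, 5⟩)) (.node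 1 (.one ⟨8646, 1, 6⟩) (.one ⟨16509, 4, 4⟩)))) (.node 4 (.node 2 (.node 1 (.one ⟨14960, 3, 7⟩) (.one ⟨12068, 2, 6⟩)) (.node 1 (.one ⟨14492, 0, 5⟩) (.one ⟨16491, 2, 5⟩))) (.node 2 (.node 1 (.one ⟨11959, 2, 7⟩) (.one ⟨8266, 3, 6⟩)) (.node 1 (.one ⟨13918, 1, 5⟩) (.one ⟨7413, 4, 6⟩)))))) (.node 16 (.node 8 (.node 4 (.node 2 (.node 1 (.one ⟨13794, 1, 4⟩) (.one ⟨11025, 3, 6⟩)) (.node 1 (.one ⟨12141, 4, 6⟩) (.one ⟨8923, 0, 6⟩))) (.node 2 (.node 1 (.one ⟨8142, 4, 5⟩) (.one ⟨5425, 0, 7⟩)) (.node 1 (.one ⟨8637, 1, 4⟩) (.one ⟨1811, 3, 7⟩)))) (.node 4 (.node 2 (.node 1 (.one ⟨3640, 4, 5⟩) (.one ⟨1810, 3, 6⟩)) (.node 1 (.one ⟨1813, 3, 6⟩) (.one ⟨2201, 0, 3⟩))) (.node 2 (.node 1 (.one ⟨10707, 0, 3⟩) (.one ⟨17158, 3, 6⟩))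 (.node 1 (.one ⟨16407, 2, 6⟩) (.one ⟨9963, 1, 6⟩))))) (.node 8 (.node 4 (.node 2 (.node 1 (.one ⟨10218, 0, 5⟩) (.one ⟨6247, 3, 5⟩)) (.node 1 (.one ⟨12126, 0, 6⟩) (.one ⟨15754, 1, 4⟩))) (.node 2 (.node 1 (.one ⟨15963, 4, 6⟩) (.one ⟨9600, 3, 5⟩)) (.node 1 (.one ⟨10456, 0, 5⟩) (.one ⟨5944, 4, 5⟩)))) (.node 4 (.node 2 (.node 1 (.one ⟨13655, 3, 7⟩) (.one ⟨7779, 4, 6⟩)) (.node 1 (.one ⟨13974, 2, 6⟩) (.one ⟨2777, 4, 6⟩))) (.node 2 (.node 1 (.one ⟨14360, 1, 6⟩) (.one ⟨10805, 2, 7⟩)) (.node 1 (.one ⟨12367, 1, 6⟩) (.one ⟨2409, 0, 6⟩)))))))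
def par1_13_13 : Arr Par :=
  (.node 32 (.node 16 (.node 8 (.node 4 (.node 2 (.node 1 (.one ⟨7450, 3, 6⟩) (.one ⟨16843, 3, 6⟩)) (.node 1 (.one ⟨13910, 4, 6⟩) (.one ⟨6227, 2, 6⟩))) (.node 2 (.node 1 (.one ⟨14457, 0, 6⟩) (.one ⟨9928, 1, 6⟩)) (.node 1 (.one ⟨2963, 2, 5⟩) (.one ⟨7944, 3, 5⟩)))) (.node 4 (.node 2 (.node 1 (.one ⟨3393, 3, 4⟩) (.one ⟨11672, 4, 5⟩)) (.node 1 (.one ⟨16137, 0, 6⟩) (.one ⟨8722, 4, 6⟩))) (.node 2 (.node 1 (.one ⟨4157, 4, 4⟩) (.one ⟨11912, 3, 5⟩)) (.node 1 (.one ⟨9212, 4, 5⟩) (.one ⟨1888, 1, 5⟩))))) (.node 8 (.node 4 (.node 2 (.node 1 (.one ⟨17183, 3, 6⟩) (.one ⟨8744, 3, 5⟩)) (.node 1 (.one ⟨8390, 3, 5⟩) (.one ⟨8121, 0, 5⟩))) (.node 2 (.node 1 (.one ⟨6597, 2, 3⟩) (.one ⟨6228, 2, 6⟩)) (.node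 1 (.one ⟨10423, 0, 3⟩) (.one ⟨11235, 2, 5⟩)))) (.node 4 (.node 2 (.node 1 (.one ⟨17094, 4, 5⟩) (.one ⟨12109, 0, 6⟩)) (.node 1 (.one ⟨4309, 1, 6⟩) (.one ⟨279, 4, 6⟩))) (.node 2 (.node 1 (.one ⟨1150, 3, 6⟩) (.one ⟨6419, 0, 6⟩)) (.node 1 (.one ⟨442, 1, 5⟩) (.one ⟨12335, 1, 5⟩)))))) (.node 16 (.node 8 (.node 4 (.node 2 (.node 1 (.one ⟨905, 1, 3⟩) (.one ⟨13768, 3, 3⟩)) (.node 1 (.one ⟨705, 3, 5⟩) (.one ⟨8278, 3, 5⟩))) (.node 2 (.node 1 (.one ⟨5049, 2, 6⟩) (.one ⟨12043, 4, 6⟩)) (.node 1 (.one ⟨9437, 3, 4⟩) (.one ⟨11878, 3, 4⟩)))) (.node 4 (.node 2 (.node 1 (.one ⟨7645, 4, 6⟩) (.one ⟨8446, 3, 6⟩)) (.node 1 (.one ⟨15995, 4, 5⟩) (.one ⟨509, 1, 5⟩))) (.node 2 (.node 1 (.one ⟨12626, 4, 4⟩) (.one ⟨1847, 1, 3⟩)) (.node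 1 (.one ⟨7391, 3, 6⟩) (.one ⟨2357, 1, 5⟩))))) (.node 8 (.node 4 (.node 2 (.node 1 (.one ⟨7106, 4, 6⟩) (.one ⟨16803, 2, 7⟩)) (.node 1 (.one ⟨7908, 0, 6⟩) (.one ⟨1822, 2, 6⟩))) (.node 2 (.node 1 (.one ⟨15780, 4, 6⟩) (.one ⟨8903, 4, 4⟩)) (.node 1 (.one ⟨9301, 2, 4⟩) (.one ⟨11751, 3, 5⟩)))) (.node 4 (.node 2 (.node 1 (.one ⟨7915, 0, 6⟩) (.one ⟨2902, 2, 5⟩)) (.node 1 (.one ⟨15754, 2, 4⟩) (.one ⟨10285, 1, 6⟩))) (.node 2 (.node 1 (.one ⟨12441, 0, 6⟩) (.one ⟨8258, 2, 7⟩)) (.node 1 (.one ⟨11159, 4, 6⟩) (.one ⟨8470, 3, 5⟩)))))))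
def par1_13_14 : Arr Par :=
  (.node 32 (.node 16 (.node 8 (.node 4 (.node 2 (.node 1 (.one ⟨14738, 3, 5⟩) (.one ⟨10924, 4, 5⟩)) (.node 1 (.one ⟨12908, 4, 4⟩) (.one ⟨4825, 4, 5⟩))) (.node 2 (.node 1 (.one ⟨14491, 3, 6⟩) (.one ⟨2822, 4, 4⟩)) (.node 1 (.one ⟨8304, 0, 5⟩) (.one ⟨12826, 2, 6⟩)))) (.node 4 (.node 2 (.node 1 (.one ⟨4535, 3, 7⟩) (.one ⟨10435, 1, 7⟩)) (.node 1 (.one ⟨8364, 0, 6⟩) (.one ⟨8793, 4, 6⟩))) (.node 2 (.node 1 (.one ⟨9207, 3, 6⟩) (.one ⟨8785, 3, 6⟩)) (.node 1 (.one ⟨6146, 1, 6⟩) (.one ⟨14394, 1, 5⟩))))) (.node 8 (.node 4 (.node 2 (.node 1 (.one ⟨2190, 1, 5⟩) (.one ⟨13162, 2, 5⟩)) (.node 1 (.one ⟨3018, 3, 6⟩) (.one ⟨16295, 1, 6⟩))) (.node 2 (.node 1 (.one ⟨11792, 4, 4⟩) (.one ⟨2465, 1, 6⟩))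 (.node 1 (.one ⟨8757, 4, 4⟩) (.one ⟨15190, 2, 4⟩)))) (.node 4 (.node 2 (.node 1 (.one ⟨5122, 2, 5⟩) (.one ⟨2241, 0, 5⟩)) (.node 1 (.one ⟨559, 2, 6⟩) (.one ⟨13619, 0, 3⟩))) (.node 2 (.node 1 (.one ⟨8318, 0, 6⟩) (.one ⟨1108, 2, 6⟩)) (.node 1 (.one ⟨3058, 3, 6⟩) (.one ⟨1276, 2, 3⟩)))))) (.node 16 (.node 8 (.node 4 (.node 2 (.node 1 (.one ⟨16554, 2, 5⟩) (.one ⟨10097, 2, 6⟩)) (.node 1 (.one ⟨11815, 0, 5⟩) (.one ⟨13651, 0, 6⟩))) (.node 2 (.node 1 (.one ⟨7774, 3, 6⟩) (.one ⟨11713, 3, 4⟩)) (.node 1 (.one ⟨12158, 1, 5⟩) (.one ⟨11521, 4, 5⟩)))) (.node 4 (.node 2 (.node 1 (.one ⟨6353, 1, 5⟩) (.one ⟨16407, 0, 6⟩)) (.node 1 (.one ⟨3362, 4, 6⟩) (.one ⟨10340, 0, 5⟩))) (.node 2 (.node 1 (.one ⟨16129, 3, 5⟩) (.one ⟨3830, 1,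 5⟩)) (.node 1 (.one ⟨2151, 2, 7⟩) (.one ⟨16146, 4, 6⟩))))) (.node 8 (.node 4 (.node 2 (.node 1 (.one ⟨16421, 2, 5⟩) (.one ⟨5682, 2, 6⟩)) (.node 1 (.one ⟨16676, 1, 5⟩) (.one ⟨5640, 3, 5⟩))) (.node 2 (.node 1 (.one ⟨16130, 3, 6⟩) (.one ⟨1545, 4, 5⟩)) (.node 1 (.one ⟨7481, 4, 5⟩) (.one ⟨5060, 1, 5⟩)))) (.node 4 (.node 2 (.node 1 (.one ⟨5478, 0, 7⟩) (.one ⟨15934, 4, 4⟩)) (.node 1 (.one ⟨12768, 1, 6⟩) (.one ⟨14469, 0, 5⟩))) (.node 2 (.node 1 (.one ⟨4541, 2, 5⟩) (.one ⟨6339, 2, 6⟩)) (.node 1 (.one ⟨6715, 2, 4⟩) (.one ⟨1691, 4, 5⟩)))))))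
def par1_13_15 : Arr Par :=
  (.node 32 (.node 16 (.node 8 (.node 4 (.node 2 (.node 1 (.one ⟨1997, 4, 6⟩) (.one ⟨5021, 2, 6⟩)) (.node 1 (.one ⟨12748, 1, 6⟩) (.one ⟨3039, 3, 5⟩))) (.node 2 (.node 1 (.one ⟨10125, 4, 7⟩) (.one ⟨5014, 2, 5⟩)) (.node 1 (.one ⟨4313, 2, 5⟩) (.one ⟨14545, 1, 6⟩)))) (.node 4 (.node 2 (.node 1 (.one ⟨13701, 2, 6⟩) (.one ⟨10311, 3, 2⟩)) (.node 1 (.one ⟨14078, 1, 5⟩) (.one ⟨7728, 3, 3⟩))) (.node 2 (.node 1 (.one ⟨202, 2, 7⟩) (.one ⟨6070, 0, 6⟩)) (.node 1 (.one ⟨2995, 3, 1⟩) (.one ⟨5737, 4, 4⟩))))) (.node 8 (.node 4 (.node 2 (.node 1 (.one ⟨4855, 4, 3⟩) (.one ⟨3325, 2, 6⟩)) (.node 1 (.one ⟨5737, 2, 4⟩) (.one ⟨5609, 4, 6⟩))) (.node 2 (.node 1 (.one ⟨6515, 1, 6⟩) (.one ⟨10204, 3, 6⟩)) (.node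 1 (.one ⟨8318, 3, 6⟩) (.one ⟨8767, 3, 5⟩)))) (.node 4 (.node 2 (.node 1 (.one ⟨13501, 0, 6⟩) (.one ⟨17018, 0, 6⟩)) (.node 1 (.one ⟨15041, 2, 6⟩) (.one ⟨14056, 1, 7⟩))) (.node 2 (.node 1 (.one ⟨6499, 1, 6⟩) (.one ⟨10490, 2, 6⟩)) (.node 1 (.one ⟨13912, 3, 6⟩) (.one ⟨5010, 2, 6⟩)))))) (.node 16 (.node 8 (.node 4 (.node 2 (.node 1 (.one ⟨2312, 3, 6⟩) (.one ⟨1712, 0, 6⟩)) (.node 1 (.one ⟨16292, 4, 5⟩) (.one ⟨11758, 4, 6⟩))) (.node 2 (.node 1 (.one ⟨5129, 1, 6⟩) (.one ⟨3830, 3, 5⟩)) (.node 1 (.one ⟨768, 2, 6⟩) (.one ⟨304, 2, 6⟩)))) (.node 4 (.node 2 (.node 1 (.one ⟨3505, 4, 6⟩) (.one ⟨16466, 2, 5⟩)) (.node 1 (.one ⟨9006, 0, 6⟩) (.one ⟨16464, 2, 6⟩))) (.node 2 (.node 1 (.one ⟨2254, 4, 7⟩) (.one ⟨306, 2, 4⟩)) (.node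 1 (.one ⟨12616, 4, 6⟩) (.one ⟨6175, 0, 6⟩))))) (.node 8 (.node 4 (.node 2 (.node 1 (.one ⟨9438, 2, 4⟩) (.one ⟨13200, 2, 6⟩)) (.node 1 (.one ⟨12481, 3, 6⟩) (.one ⟨12585, 3, 5⟩))) (.node 2 (.node 1 (.one ⟨16996, 0, 5⟩) (.one ⟨14419, 0, 6⟩)) (.node 1 (.one ⟨8623, 3, 5⟩) (.one ⟨4418, 3, 6⟩)))) (.node 4 (.node 2 (.node 1 (.one ⟨13593, 4, 5⟩) (.one ⟨9810, 4, 6⟩)) (.node 1 (.one ⟨5978, 1, 6⟩) (.one ⟨1568, 2, 6⟩))) (.node 2 (.node 1 (.one ⟨10703, 0, 5⟩) (.one ⟨9006, 2, 6⟩)) (.node 1 (.one ⟨16712, 0, 5⟩) (.one ⟨15625, 3, 6⟩)))))))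
def par1_13 : Arr Par :=
  (.node 512 (.node 256 (.node 128 (.node 64 par1_13_0 par1_13_1) (.node 64 par1_13_2 par1_13_3)) (.node 128 (.node 64 par1_13_4 par1_13_5) (.node 64 par1_13_6 par1_13_7))) (.node 256 (.node 128 (.node 64 par1_13_8 par1_13_9) (.node 64 par1_13_10 par1_13_11)) (.node 128 (.node 64 par1_13_12 par1_13_13) (.node 64 par1_13_14 par1_13_15))))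
def par1_14_0 : Arr Par :=
  (.node 32 (.node 16 (.node 8 (.node 4 (.node 2 (.node 1 (.one ⟨4109, 4, 7⟩) (.one ⟨16976, 0, 5⟩)) (.node 1 (.one ⟨15623, 3, 4⟩) (.one ⟨5008, 2, 4⟩))) (.node 2 (.node 1 (.one ⟨10325, 1, 5⟩) (.one ⟨12744, 1, 6⟩)) (.node 1 (.one ⟨16950, 4, 5⟩) (.one ⟨11736, 2, 6⟩)))) (.node 4 (.node 2 (.node 1 (.one ⟨12782, 1, 5⟩) (.one ⟨16580, 1, 6⟩)) (.node 1 (.one ⟨6119, 2, 3⟩) (.one ⟨16491, 3, 5⟩))) (.node 2 (.node 1 (.one ⟨14186, 0, 6⟩) (.one ⟨14969, 4, 6⟩)) (.node 1 (.one ⟨9827, 4, 5⟩) (.one ⟨1483, 3, 6⟩))))) (.node 8 (.node 4 (.node 2 (.node 1 (.one ⟨8644, 2, 5⟩) (.one ⟨3196, 4, 6⟩)) (.node 1 (.one ⟨12490, 2, 5⟩) (.one ⟨6236, 4, 5⟩))) (.node 2 (.node 1 (.one ⟨6665, 4, 6⟩) (.one ⟨1094, 2, 3⟩))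 (.node 1 (.one ⟨9013, 1, 6⟩) (.one ⟨16976, 2, 5⟩)))) (.node 4 (.node 2 (.node 1 (.one ⟨1905, 4, 5⟩) (.one ⟨12237, 2, 6⟩)) (.node 1 (.one ⟨6650, 2, 7⟩) (.one ⟨6984, 2, 7⟩))) (.node 2 (.node 1 (.one ⟨7117, 3, 6⟩) (.one ⟨6516, 4, 6⟩)) (.node 1 (.one ⟨17193, 2, 6⟩) (.one ⟨13396, 3, 5⟩)))))) (.node 16 (.node 8 (.node 4 (.node 2 (.node 1 (.one ⟨14225, 3, 6⟩) (.one ⟨10785, 0, 6⟩)) (.node 1 (.one ⟨8561, 1, 6⟩) (.one ⟨11856, 4, 5⟩))) (.node 2 (.node 1 (.one ⟨12013, 3, 7⟩) (.one ⟨4734, 4, 5⟩)) (.node 1 (.one ⟨17101, 1, 6⟩) (.one ⟨885, 2, 5⟩)))) (.node 4 (.node 2 (.node 1 (.one ⟨372, 2, 3⟩) (.one ⟨13542, 0, 5⟩)) (.node 1 (.one ⟨6094, 0, 5⟩) (.one ⟨2212, 2, 4⟩))) (.node 2 (.node 1 (.one ⟨1232, 3, 3⟩) (.one ⟨6403, 0, 5⟩))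 (.node 1 (.one ⟨599, 2, 5⟩) (.one ⟨4074, 4, 7⟩))))) (.node 8 (.node 4 (.node 2 (.node 1 (.one ⟨11588, 3, 6⟩) (.one ⟨3946, 3, 5⟩)) (.node 1 (.one ⟨14935, 0, 7⟩) (.one ⟨2567, 4, 3⟩))) (.node 2 (.node 1 (.one ⟨10378, 3, 3⟩) (.one ⟨7007, 4, 5⟩)) (.node 1 (.one ⟨16249, 2, 5⟩) (.one ⟨13037, 4, 4⟩)))) (.node 4 (.node 2 (.node 1 (.one ⟨13628, 0, 6⟩) (.one ⟨10456, 2, 5⟩)) (.node 1 (.one ⟨10422, 2, 4⟩) (.one ⟨4878, 3, 6⟩))) (.node 2 (.node 1 (.one ⟨3230, 0, 6⟩) (.one ⟨14949, 1, 6⟩)) (.node 1 (.one ⟨15345, 0, 6⟩) (.one ⟨16300, 2, 4⟩)))))))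
def par1_14_1 : Arr Par :=
  (.node 32 (.node 16 (.node 8 (.node 4 (.node 2 (.node 1 (.one ⟨16986, 3, 3⟩) (.one ⟨1325, 2, 5⟩)) (.node 1 (.one ⟨4859, 3, 3⟩) (.one ⟨3232, 0, 6⟩))) (.node 2 (.node 1 (.one ⟨15355, 1, 6⟩) (.one ⟨3813, 2, 5⟩)) (.node 1 (.one ⟨15596, 3, 6⟩) (.one ⟨14599, 0, 1⟩)))) (.node 4 (.node 2 (.node 1 (.one ⟨4258, 2, 5⟩) (.one ⟨5491, 4, 6⟩)) (.node 1 (.one ⟨7, 0, 6⟩) (.one ⟨8197, 3, 6⟩))) (.node 2 (.node 1 (.one ⟨3281, 4, 4⟩) (.one ⟨14933, 0, 6⟩)) (.node 1 (.one ⟨8552, 2, 5⟩) (.one ⟨4571, 4, 5⟩))))) (.node 8 (.node 4 (.node 2 (.node 1 (.one ⟨4411, 2, 4⟩) (.one ⟨16053, 2, 5⟩)) (.node 1 (.one ⟨4747, 4, 6⟩) (.one ⟨5153, 2, 5⟩))) (.node 2 (.node 1 (.one ⟨14953, 1, 6⟩) (.one ⟨3642, 2, 3⟩)) (.node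 1 (.one ⟨16556, 2, 4⟩) (.one ⟨3773, 3, 4⟩)))) (.node 4 (.node 2 (.node 1 (.one ⟨14821, 3, 6⟩) (.one ⟨13574, 3, 6⟩)) (.node 1 (.one ⟨840, 2, 6⟩) (.one ⟨11751, 2, 5⟩))) (.node 2 (.node 1 (.one ⟨14932, 0, 5⟩) (.one ⟨14588, 0, 5⟩)) (.node 1 (.one ⟨3210, 0, 4⟩) (.one ⟨2493, 0, 6⟩)))))) (.node 16 (.node 8 (.node 4 (.node 2 (.node 1 (.one ⟨5099, 2, 6⟩) (.one ⟨13529, 3, 7⟩)) (.node 1 (.one ⟨12660, 2, 6⟩) (.one ⟨4534, 3, 7⟩))) (.node 2 (.node 1 (.one ⟨9443, 4, 6⟩) (.one ⟨3186, 0, 6⟩)) (.node 1 (.one ⟨1823, 3, 6⟩) (.one ⟨350, 1, 7⟩)))) (.node 4 (.node 2 (.node 1 (.one ⟨11212, 2, 5⟩) (.one ⟨13811, 4, 5⟩)) (.node 1 (.one ⟨3769, 3, 6⟩) (.one ⟨2539, 1, 3⟩))) (.node 2 (.node 1 (.one ⟨11260, 2, 5⟩) (.one ⟨5783, 2, 3⟩)) (.node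 1 (.one ⟨9785, 2, 6⟩) (.one ⟨9627, 4, 5⟩))))) (.node 8 (.node 4 (.node 2 (.node 1 (.one ⟨10164, 4, 6⟩) (.one ⟨7467, 0, 4⟩)) (.node 1 (.one ⟨10462, 1, 6⟩) (.one ⟨12059, 2, 5⟩))) (.node 2 (.node 1 (.one ⟨3448, 4, 5⟩) (.one ⟨8294, 2, 6⟩)) (.node 1 (.one ⟨16091, 2, 5⟩) (.one ⟨10870, 1, 6⟩)))) (.node 4 (.node 2 (.node 1 (.one ⟨9010, 2, 6⟩) (.one ⟨14522, 4, 5⟩)) (.node 1 (.one ⟨8204, 3, 4⟩) (.one ⟨1940, 2, 3⟩))) (.node 2 (.node 1 (.one ⟨6300, 3, 6⟩) (.one ⟨10912, 0, 6⟩)) (.node 1 (.one ⟨3990, 2, 4⟩) (.one ⟨12487, 3, 5⟩)))))))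
def par1_14_2 : Arr Par :=
  (.node 32 (.node 16 (.node 8 (.node 4 (.node 2 (.node 1 (.one ⟨2356, 4, 5⟩) (.one ⟨5686, 0, 6⟩)) (.node 1 (.one ⟨14773, 0, 5⟩) (.one ⟨3458, 3, 5⟩))) (.node 2 (.node 1 (.one ⟨15442, 3, 4⟩) (.one ⟨1832, 0, 4⟩)) (.node 1 (.one ⟨714, 4, 5⟩) (.one ⟨4275, 2, 5⟩)))) (.node 4 (.node 2 (.node 1 (.one ⟨5182, 2, 5⟩) (.one ⟨4403, 3, 5⟩)) (.node 1 (.one ⟨12693, 3, 3⟩) (.one ⟨6522, 2, 3⟩))) (.node 2 (.node 1 (.one ⟨11167, 3, 6⟩) (.one ⟨7680, 4, 6⟩)) (.node 1 (.one ⟨11203, 4, 4⟩) (.one ⟨5722, 1, 6⟩))))) (.node 8 (.node 4 (.node 2 (.node 1 (.one ⟨4389, 4, 4⟩) (.one ⟨6626, 3, 6⟩)) (.node 1 (.one ⟨15432, 3, 5⟩) (.one ⟨12050, 4, 6⟩))) (.node 2 (.node 1 (.one ⟨1888, 4, 5⟩) (.one ⟨1727, 3, 2⟩)) (.node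 1 (.one ⟨10345, 3, 5⟩) (.one ⟨7445, 4, 6⟩)))) (.node 4 (.node 2 (.node 1 (.one ⟨2589, 4, 6⟩) (.one ⟨3825, 4, 5⟩)) (.node 1 (.one ⟨3354, 1, 6⟩) (.one ⟨5757, 0, 5⟩))) (.node 2 (.node 1 (.one ⟨1832, 1, 4⟩) (.one ⟨14773, 1, 5⟩)) (.node 1 (.one ⟨8328, 2, 7⟩) (.one ⟨2385, 2, 3⟩)))))) (.node 16 (.node 8 (.node 4 (.node 2 (.node 1 (.one ⟨9419, 3, 4⟩) (.one ⟨6569, 4, 3⟩)) (.node 1 (.one ⟨14593, 4, 6⟩) (.one ⟨14602, 4, 6⟩))) (.node 2 (.node 1 (.one ⟨2448, 2, 5⟩) (.one ⟨7422, 1, 7⟩)) (.node 1 (.one ⟨2424, 1, 5⟩) (.one ⟨3074, 3, 6⟩)))) (.node 4 (.node 2 (.node 1 (.one ⟨4378, 2, 6⟩) (.one ⟨7241, 4, 6⟩)) (.node 1 (.one ⟨4763, 3, 6⟩) (.one ⟨9489, 2, 6⟩))) (.node 2 (.node 1 (.one ⟨10425, 1, 5⟩) (.one ⟨2835, 0, 5⟩)) (.node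 1 (.one ⟨5757, 1, 5⟩) (.one ⟨15295, 3, 5⟩))))) (.node 8 (.node 4 (.node 2 (.node 1 (.one ⟨15806, 3, 5⟩) (.one ⟨5337, 2, 6⟩)) (.node 1 (.one ⟨259, 3, 5⟩) (.one ⟨8980, 2, 5⟩))) (.node 2 (.node 1 (.one ⟨1851, 1, 5⟩) (.one ⟨16706, 3, 5⟩)) (.node 1 (.one ⟨14602, 3, 6⟩) (.one ⟨4713, 3, 4⟩)))) (.node 4 (.node 2 (.node 1 (.one ⟨10253, 4, 6⟩) (.one ⟨5066, 3, 6⟩)) (.node 1 (.one ⟨14622, 4, 4⟩) (.one ⟨5959, 3, 2⟩))) (.node 2 (.node 1 (.one ⟨2397, 0, 4⟩) (.one ⟨6478, 3, 6⟩)) (.node 1 (.one ⟨6274, 4, 5⟩) (.one ⟨653, 3, 6⟩)))))))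
def par1_14_3 : Arr Par :=
  (.node 32 (.node 16 (.node 8 (.node 4 (.node 2 (.node 1 (.one ⟨1224, 4, 6⟩) (.one ⟨4242, 2, 5⟩)) (.node 1 (.one ⟨1056, 3, 6⟩) (.one ⟨2394, 2, 6⟩))) (.node 2 (.node 1 (.one ⟨1065, 3, 5⟩) (.one ⟨6088, 0, 6⟩)) (.node 1 (.one ⟨405, 3, 6⟩) (.one ⟨10483, 3, 5⟩)))) (.node 4 (.node 2 (.node 1 (.one ⟨10058, 4, 5⟩) (.one ⟨14810, 0, 5⟩)) (.node 1 (.one ⟨11526, 3, 5⟩) (.one ⟨15174, 3, 6⟩))) (.node 2 (.node 1 (.one ⟨743, 1, 4⟩) (.one ⟨5586, 4, 2⟩)) (.node 1 (.one ⟨14632, 3, 5⟩) (.one ⟨5592, 4, 4⟩))))) (.node 8 (.node 4 (.node 2 (.node 1 (.one ⟨12758, 4, 6⟩) (.one ⟨7971, 4, 5⟩)) (.node 1 (.one ⟨234, 3, 5⟩) (.one ⟨15402, 1, 5⟩))) (.node 2 (.node 1 (.one ⟨7919, 2, 7⟩) (.one ⟨12734, 2, 5⟩)) (.node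 1 (.one ⟨7589, 2, 6⟩) (.one ⟨6779, 0, 5⟩)))) (.node 4 (.node 2 (.node 1 (.one ⟨13186, 3, 5⟩) (.one ⟨7247, 2, 5⟩)) (.node 1 (.one ⟨7605, 4, 7⟩) (.one ⟨2863, 4, 6⟩))) (.node 2 (.node 1 (.one ⟨13808, 0, 5⟩) (.one ⟨6163, 4, 6⟩)) (.node 1 (.one ⟨2654, 0, 5⟩) (.one ⟨2231, 4, 6⟩)))))) (.node 16 (.node 8 (.node 4 (.node 2 (.node 1 (.one ⟨15299, 3, 4⟩) (.one ⟨2565, 1, 5⟩)) (.node 1 (.one ⟨56, 3, 7⟩) (.one ⟨3618, 3, 6⟩))) (.node 2 (.node 1 (.one ⟨15307, 1, 6⟩) (.one ⟨11639, 2, 4⟩)) (.node 1 (.one ⟨16048, 2, 5⟩) (.one ⟨15994, 3, 5⟩)))) (.node 4 (.node 2 (.node 1 (.one ⟨2864, 2, 3⟩) (.one ⟨1863, 3, 6⟩)) (.node 1 (.one ⟨12866, 4, 4⟩) (.one ⟨12032, 3, 7⟩))) (.node 2 (.node 1 (.one ⟨15785, 3, 5⟩) (.one ⟨14041, 4, 6⟩)) (.node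 1 (.one ⟨252, 3, 6⟩) (.one ⟨6709, 3, 5⟩))))) (.node 8 (.node 4 (.node 2 (.node 1 (.one ⟨7404, 1, 6⟩) (.one ⟨5694, 2, 6⟩)) (.node 1 (.one ⟨8505, 4, 4⟩) (.one ⟨123, 0, 6⟩))) (.node 2 (.node 1 (.one ⟨14742, 0, 4⟩) (.one ⟨1940, 4, 3⟩)) (.node 1 (.one ⟨16546, 4, 5⟩) (.one ⟨15132, 2, 6⟩)))) (.node 4 (.node 2 (.node 1 (.one ⟨13277, 2, 6⟩) (.one ⟨14952, 0, 6⟩)) (.node 1 (.one ⟨10603, 3, 6⟩) (.one ⟨16313, 2, 5⟩))) (.node 2 (.node 1 (.one ⟨3859, 4, 4⟩) (.one ⟨3034, 4, 6⟩)) (.node 1 (.one ⟨14416, 3, 5⟩) (.one ⟨6356, 1, 6⟩)))))))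
def par1_14_4 : Arr Par :=
  (.node 32 (.node 16 (.node 8 (.node 4 (.node 2 (.node 1 (.one ⟨10558, 3, 4⟩) (.one ⟨13894, 4, 5⟩)) (.node 1 (.one ⟨7913, 4, 7⟩) (.one ⟨11781, 3, 4⟩))) (.node 2 (.node 1 (.one ⟨2757, 1, 6⟩) (.one ⟨3811, 4, 6⟩)) (.node 1 (.one ⟨9226, 4, 6⟩) (.one ⟨42, 1, 0⟩)))) (.node 4 (.node 2 (.node 1 (.one ⟨9690, 4, 6⟩) (.one ⟨1906, 0, 6⟩)) (.node 1 (.one ⟨13889, 4, 5⟩) (.one ⟨10856, 1, 7⟩))) (.node 2 (.node 1 (.one ⟨7166, 4, 5⟩) (.one ⟨4404, 4, 7⟩)) (.node 1 (.one ⟨3364, 4, 6⟩) (.one ⟨3981, 3, 5⟩))))) (.node 8 (.node 4 (.node 2 (.node 1 (.one ⟨5893, 4, 6⟩) (.one ⟨37, 2, 4⟩)) (.node 1 (.one ⟨13872, 4, 4⟩) (.one ⟨8228, 3, 5⟩))) (.node 2 (.node 1 (.one ⟨15537, 0, 7⟩) (.one ⟨1537, 2, 6⟩)) (.node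 1 (.one ⟨5859, 4, 4⟩) (.one ⟨14421, 3, 4⟩)))) (.node 4 (.node 2 (.node 1 (.one ⟨7349, 1, 6⟩) (.one ⟨7731, 2, 5⟩)) (.node 1 (.one ⟨4014, 3, 6⟩) (.one ⟨2229, 4, 5⟩))) (.node 2 (.node 1 (.one ⟨6681, 2, 5⟩) (.one ⟨6155, 2, 2⟩)) (.node 1 (.one ⟨2539, 0, 3⟩) (.one ⟨12088, 2, 6⟩)))))) (.node 16 (.node 8 (.node 4 (.node 2 (.node 1 (.one ⟨2578, 3, 6⟩) (.one ⟨10449, 1, 6⟩)) (.node 1 (.one ⟨14953, 0, 6⟩) (.one ⟨9988, 0, 5⟩))) (.node 2 (.node 1 (.one ⟨13727, 4, 6⟩) (.one ⟨2519, 0, 5⟩)) (.node 1 (.one ⟨15308, 0, 7⟩) (.one ⟨3031, 4, 6⟩)))) (.node 4 (.node 2 (.node 1 (.one ⟨3210, 4, 4⟩) (.one ⟨15355, 0, 6⟩)) (.node 1 (.one ⟨2603, 0, 5⟩) (.one ⟨8127, 4, 5⟩))) (.node 2 (.node 1 (.one ⟨6347, 1, 5⟩) (.one ⟨6268, 3, 5⟩)) (.node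 1 (.one ⟨5291, 4, 6⟩) (.one ⟨4516, 2, 6⟩))))) (.node 8 (.node 4 (.node 2 (.node 1 (.one ⟨8407, 4, 6⟩) (.one ⟨1076, 4, 3⟩)) (.node 1 (.one ⟨1184, 2, 7⟩) (.one ⟨2444, 2, 6⟩))) (.node 2 (.node 1 (.one ⟨15958, 1, 6⟩) (.one ⟨3107, 4, 4⟩)) (.node 1 (.one ⟨14055, 3, 5⟩) (.one ⟨6231, 1, 4⟩)))) (.node 4 (.node 2 (.node 1 (.one ⟨508, 3, 5⟩) (.one ⟨12321, 3, 5⟩)) (.node 1 (.one ⟨107, 0, 6⟩) (.one ⟨5308, 0, 6⟩))) (.node 2 (.node 1 (.one ⟨14705, 1, 4⟩) (.one ⟨781, 1, 6⟩)) (.node 1 (.one ⟨16743, 4, 6⟩) (.one ⟨14651, 3, 7⟩)))))))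
def par1_14_5 : Arr Par :=
  (.node 32 (.node 16 (.node 8 (.node 4 (.node 2 (.node 1 (.one ⟨1026, 0, 5⟩) (.one ⟨13713, 0, 6⟩)) (.node 1 (.one ⟨1854, 2, 5⟩) (.one ⟨10705, 2, 7⟩))) (.node 2 (.node 1 (.one ⟨11583, 2, 5⟩) (.one ⟨13033, 1, 5⟩)) (.node 1 (.one ⟨17089, 0, 6⟩) (.one ⟨13389, 0, 6⟩)))) (.node 4 (.node 2 (.node 1 (.one ⟨5662, 0, 5⟩) (.one ⟨3677, 0, 4⟩)) (.node 1 (.one ⟨15181, 0, 5⟩) (.one ⟨11256, 1, 6⟩))) (.node 2 (.node 1 (.one ⟨4028, 4, 5⟩) (.one ⟨11284, 0, 5⟩)) (.node 1 (.one ⟨10883, 3, 4⟩) (.one ⟨12921, 2, 7⟩))))) (.node 8 (.node 4 (.node 2 (.node 1 (.one ⟨11307, 1, 4⟩) (.one ⟨11304, 0, 6⟩)) (.node 1 (.one ⟨5972, 3, 6⟩) (.one ⟨13730, 0, 6⟩))) (.node 2 (.node 1 (.one ⟨6850, 3, 6⟩) (.one ⟨4176, 2, 6⟩))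 (.node 1 (.one ⟨4949, 2, 6⟩) (.one ⟨15962, 1, 7⟩)))) (.node 4 (.node 2 (.node 1 (.one ⟨11260, 0, 5⟩) (.one ⟨958, 3, 5⟩)) (.node 1 (.one ⟨907, 1, 6⟩) (.one ⟨3183, 1, 6⟩))) (.node 2 (.node 1 (.one ⟨4964, 1, 5⟩) (.one ⟨4597, 2, 5⟩)) (.node 1 (.one ⟨17094, 1, 5⟩) (.one ⟨2971, 2, 5⟩)))))) (.node 16 (.node 8 (.node 4 (.node 2 (.node 1 (.one ⟨1492, 4, 6⟩) (.one ⟨1487, 4, 5⟩)) (.node 1 (.one ⟨4390, 3, 5⟩) (.one ⟨7348, 3, 5⟩))) (.node 2 (.node 1 (.one ⟨13006, 2, 5⟩) (.one ⟨11280, 1, 5⟩)) (.node 1 (.one ⟨12985, 2, 6⟩) (.one ⟨4082, 2, 6⟩)))) (.node 4 (.node 2 (.node 1 (.one ⟨13051, 2, 6⟩) (.one ⟨5629, 0, 5⟩)) (.node 1 (.one ⟨3152, 3, 6⟩) (.one ⟨15960, 1, 5⟩))) (.node 2 (.node 1 (.one ⟨12462, 1, 5⟩) (.one ⟨3886, 2, 5⟩))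 (.node 1 (.one ⟨6282, 1, 5⟩) (.one ⟨7987, 4, 3⟩))))) (.node 8 (.node 4 (.node 2 (.node 1 (.one ⟨2472, 1, 5⟩) (.one ⟨1797, 0, 3⟩)) (.node 1 (.one ⟨3860, 1, 5⟩) (.one ⟨15503, 1, 6⟩))) (.node 2 (.node 1 (.one ⟨16560, 2, 5⟩) (.one ⟨16796, 1, 7⟩)) (.node 1 (.one ⟨1776, 4, 1⟩) (.one ⟨3794, 3, 7⟩)))) (.node 4 (.node 2 (.node 1 (.one ⟨14610, 2, 5⟩) (.one ⟨7764, 0, 3⟩)) (.node 1 (.one ⟨11416, 0, 4⟩) (.one ⟨4105, 1, 4⟩))) (.node 2 (.node 1 (.one ⟨5119, 2, 6⟩) (.one ⟨13298, 0, 5⟩)) (.node 1 (.one ⟨7441, 1, 6⟩) (.one ⟨8881, 1, 5⟩)))))))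
def par1_14_6 : Arr Par :=
  (.node 32 (.node 16 (.node 8 (.node 4 (.node 2 (.node 1 (.one ⟨7298, 3, 6⟩) (.one ⟨5917, 0, 6⟩)) (.node 1 (.one ⟨2461, 1, 6⟩) (.one ⟨7078, 2, 6⟩))) (.node 2 (.node 1 (.one ⟨5184, 0, 6⟩) (.one ⟨5261, 3, 6⟩)) (.node 1 (.one ⟨3304, 0, 6⟩) (.one ⟨4803, 4, 5⟩)))) (.node 4 (.node 2 (.node 1 (.one ⟨15465, 0, 5⟩) (.one ⟨1270, 2, 5⟩)) (.node 1 (.one ⟨15028, 2, 4⟩) (.one ⟨1823, 0, 6⟩))) (.node 2 (.node 1 (.one ⟨12375, 2, 6⟩) (.one ⟨3107, 2, 4⟩)) (.node 1 (.one ⟨16769, 4, 6⟩) (.one ⟨12731, 4, 6⟩))))) (.node 8 (.node 4 (.node 2 (.node 1 (.one ⟨16991, 3, 6⟩) (.one ⟨6076, 2, 6⟩)) (.node 1 (.one ⟨15442, 0, 4⟩) (.one ⟨9144, 3, 5⟩))) (.node 2 (.node 1 (.one ⟨16807, 1, 4⟩) (.one ⟨3866, 2, 5⟩)) (.node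 1 (.one ⟨4088, 2, 3⟩) (.one ⟨6974, 1, 6⟩)))) (.node 4 (.node 2 (.node 1 (.one ⟨15431, 0, 5⟩) (.one ⟨16922, 4, 5⟩)) (.node 1 (.one ⟨1072, 2, 3⟩) (.one ⟨16480, 3, 5⟩))) (.node 2 (.node 1 (.one ⟨14635, 2, 6⟩) (.one ⟨7814, 0, 6⟩)) (.node 1 (.one ⟨3844, 1, 5⟩) (.one ⟨7780, 0, 6⟩)))))) (.node 16 (.node 8 (.node 4 (.node 2 (.node 1 (.one ⟨13870, 4, 6⟩) (.one ⟨8292, 4, 6⟩)) (.node 1 (.one ⟨10331, 2, 6⟩) (.one ⟨9062, 2, 5⟩))) (.node 2 (.node 1 (.one ⟨2113, 1, 5⟩) (.one ⟨9453, 4, 6⟩)) (.node 1 (.one ⟨12629, 3, 6⟩) (.one ⟨898, 4, 5⟩)))) (.node 4 (.node 2 (.node 1 (.one ⟨16292, 2, 5⟩) (.one ⟨16576, 3, 6⟩)) (.node 1 (.one ⟨4515, 3, 5⟩) (.one ⟨8731, 1, 5⟩))) (.node 2 (.node 1 (.one ⟨6068, 2, 4⟩) (.one ⟨17143, 4, 7⟩)) (.node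 1 (.one ⟨3469, 2, 6⟩) (.one ⟨6144, 0, 6⟩))))) (.node 8 (.node 4 (.node 2 (.node 1 (.one ⟨4279, 2, 6⟩) (.one ⟨8704, 3, 6⟩)) (.node 1 (.one ⟨9421, 3, 5⟩) (.one ⟨9513, 2, 7⟩))) (.node 2 (.node 1 (.one ⟨16744, 3, 7⟩) (.one ⟨16807, 3, 4⟩)) (.node 1 (.one ⟨16205, 2, 4⟩) (.one ⟨1211, 4, 6⟩)))) (.node 4 (.node 2 (.node 1 (.one ⟨10539, 2, 6⟩) (.one ⟨2176, 2, 5⟩)) (.node 1 (.one ⟨9369, 2, 6⟩) (.one ⟨7467, 3, 4⟩))) (.node 2 (.node 1 (.one ⟨4860, 4, 5⟩) (.one ⟨14739, 2, 6⟩)) (.node 1 (.one ⟨4244, 4, 6⟩) (.one ⟨9215, 1, 5⟩)))))))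
def par1_14_7 : Arr Par :=
  (.node 32 (.node 16 (.node 8 (.node 4 (.node 2 (.node 1 (.one ⟨1750, 0, 6⟩) (.one ⟨713, 1, 6⟩)) (.node 1 (.one ⟨10460, 2, 5⟩) (.one ⟨14499, 3, 7⟩))) (.node 2 (.node 1 (.one ⟨8685, 0, 4⟩) (.one ⟨11895, 0, 6⟩)) (.node 1 (.one ⟨10282, 3, 6⟩) (.one ⟨13376, 4, 5⟩)))) (.node 4 (.node 2 (.node 1 (.one ⟨6366, 2, 6⟩) (.one ⟨1548, 4, 5⟩)) (.node 1 (.one ⟨8385, 3, 6⟩) (.one ⟨11110, 4, 6⟩))) (.node 2 (.node 1 (.one ⟨13623, 4, 6⟩) (.one ⟨1742, 0, 4⟩)) (.node 1 (.one ⟨9218, 1, 5⟩) (.one ⟨4019, 3, 6⟩))))) (.node 8 (.node 4 (.node 2 (.node 1 (.one ⟨12150, 3, 5⟩) (.one ⟨3116, 0, 5⟩)) (.node 1 (.one ⟨13712, 4, 6⟩) (.one ⟨9361, 2, 6⟩))) (.node 2 (.node 1 (.one ⟨1522, 3, 5⟩) (.one ⟨8576, 1, 5⟩)) (.node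 1 (.one ⟨13276, 2, 6⟩) (.one ⟨8334, 3, 4⟩)))) (.node 4 (.node 2 (.node 1 (.one ⟨6422, 4, 6⟩) (.one ⟨15895, 0, 6⟩)) (.node 1 (.one ⟨3013, 3, 4⟩) (.one ⟨9226, 1, 6⟩))) (.node 2 (.node 1 (.one ⟨3799, 3, 6⟩) (.one ⟨11851, 0, 5⟩)) (.node 1 (.one ⟨6394, 3, 6⟩) (.one ⟨5619, 4, 2⟩)))))) (.node 16 (.node 8 (.node 4 (.node 2 (.node 1 (.one ⟨2927, 4, 3⟩) (.one ⟨6170, 0, 5⟩)) (.node 1 (.one ⟨16560, 1, 5⟩) (.one ⟨8548, 3, 5⟩))) (.node 2 (.node 1 (.one ⟨1796, 0, 2⟩) (.one ⟨4173, 1, 5⟩)) (.node 1 (.one ⟨12735, 4, 6⟩) (.one ⟨8888, 2, 7⟩)))) (.node 4 (.node 2 (.node 1 (.one ⟨10629, 4, 6⟩) (.one ⟨2651, 4, 6⟩)) (.node 1 (.one ⟨7632, 2, 4⟩) (.one ⟨3337, 2, 7⟩))) (.node 2 (.node 1 (.one ⟨14746, 2, 4⟩) (.one ⟨16607, 1, 5⟩)) (.node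 1 (.one ⟨902, 1, 6⟩) (.one ⟨15655, 4, 6⟩))))) (.node 8 (.node 4 (.node 2 (.node 1 (.one ⟨9225, 1, 7⟩) (.one ⟨12410, 1, 6⟩)) (.node 1 (.one ⟨11269, 2, 6⟩) (.one ⟨1360, 4, 5⟩))) (.node 2 (.node 1 (.one ⟨8608, 1, 5⟩) (.one ⟨10341, 2, 5⟩)) (.node 1 (.one ⟨2896, 2, 5⟩) (.one ⟨7647, 3, 5⟩)))) (.node 4 (.node 2 (.node 1 (.one ⟨16474, 2, 5⟩) (.one ⟨8652, 0, 7⟩)) (.node 1 (.one ⟨11865, 0, 7⟩) (.one ⟨6305, 3, 6⟩))) (.node 2 (.node 1 (.one ⟨9230, 1, 7⟩) (.one ⟨8565, 1, 5⟩)) (.node 1 (.one ⟨14936, 4, 6⟩) (.one ⟨1218, 2, 6⟩)))))))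
def par1_14_8 : Arr Par :=
  (.node 32 (.node 16 (.node 8 (.node 4 (.node 2 (.node 1 (.one ⟨2, 2, 5⟩) (.one ⟨12011, 4, 4⟩)) (.node 1 (.one ⟨5108, 3, 5⟩) (.one ⟨1784, 3, 6⟩))) (.node 2 (.node 1 (.one ⟨8708, 0, 6⟩) (.one ⟨1221, 2, 5⟩)) (.node 1 (.one ⟨12000, 4, 5⟩) (.one ⟨14697, 2, 6⟩)))) (.node 4 (.node 2 (.node 1 (.one ⟨5794, 3, 6⟩) (.one ⟨9156, 1, 5⟩)) (.node 1 (.one ⟨5740, 3, 5⟩) (.one ⟨12596, 2, 6⟩))) (.node 2 (.node 1 (.one ⟨13792, 3, 6⟩) (.one ⟨5429, 4, 6⟩)) (.node 1 (.one ⟨7649, 2, 3⟩) (.one ⟨8068, 4, 6⟩))))) (.node 8 (.node 4 (.node 2 (.node 1 (.one ⟨16780, 0, 6⟩) (.one ⟨9202, 4, 5⟩)) (.node 1 (.one ⟨13498, 4, 6⟩) (.one ⟨6783, 3, 6⟩))) (.node 2 (.node 1 (.one ⟨16428, 3, 7⟩) (.one ⟨12954, 0, 5⟩)) (.node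 1 (.one ⟨16131, 3, 5⟩) (.one ⟨11300, 3, 4⟩)))) (.node 4 (.node 2 (.node 1 (.one ⟨1471, 2, 4⟩) (.one ⟨15065, 2, 3⟩)) (.node 1 (.one ⟨5305, 4, 5⟩) (.one ⟨8569, 1, 4⟩))) (.node 2 (.node 1 (.one ⟨8187, 4, 5⟩) (.one ⟨11339, 4, 4⟩)) (.node 1 (.one ⟨7126, 1, 5⟩) (.one ⟨504, 4, 4⟩)))))) (.node 16 (.node 8 (.node 4 (.node 2 (.node 1 (.one ⟨7694, 2, 3⟩) (.one ⟨9400, 4, 5⟩)) (.node 1 (.one ⟨14178, 4, 6⟩) (.one ⟨15806, 0, 5⟩))) (.node 2 (.node 1 (.one ⟨6232, 2, 4⟩) (.one ⟨3050, 0, 6⟩)) (.node 1 (.one ⟨12358, 1, 6⟩) (.one ⟨8967, 3, 3⟩)))) (.node 4 (.node 2 (.node 1 (.one ⟨9216, 1, 5⟩) (.one ⟨12436, 1, 5⟩)) (.node 1 (.one ⟨6397, 2, 5⟩) (.one ⟨3805, 4, 5⟩))) (.node 2 (.node 1 (.one ⟨16573, 1, 6⟩) (.one ⟨3816, 4, 3⟩)) (.node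 1 (.one ⟨14489, 2, 6⟩) (.one ⟨2536, 1, 4⟩))))) (.node 8 (.node 4 (.node 2 (.node 1 (.one ⟨12413, 2, 6⟩) (.one ⟨2586, 1, 5⟩)) (.node 1 (.one ⟨2606, 1, 5⟩) (.one ⟨10617, 1, 2⟩))) (.node 2 (.node 1 (.one ⟨10637, 1, 6⟩) (.one ⟨15175, 4, 5⟩)) (.node 1 (.one ⟨2923, 0, 6⟩) (.one ⟨10983, 0, 6⟩)))) (.node 4 (.node 2 (.node 1 (.one ⟨7141, 2, 5⟩) (.one ⟨11654, 4, 6⟩)) (.node 1 (.one ⟨2492, 1, 6⟩) (.one ⟨2573, 1, 4⟩))) (.node 2 (.node 1 (.one ⟨10956, 0, 6⟩) (.one ⟨2875, 0, 6⟩)) (.node 1 (.one ⟨12410, 4, 6⟩) (.one ⟨6234, 1, 5⟩)))))))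
def par1_14_9 : Arr Par :=
  (.node 32 (.node 16 (.node 8 (.node 4 (.node 2 (.node 1 (.one ⟨14346, 1, 4⟩) (.one ⟨16828, 4, 7⟩)) (.node 1 (.one ⟨14281, 1, 3⟩) (.one ⟨14738, 0, 5⟩))) (.node 2 (.node 1 (.one ⟨1185, 4, 5⟩) (.one ⟨933, 3, 4⟩)) (.node 1 (.one ⟨6557, 4, 6⟩) (.one ⟨4395, 3, 6⟩)))) (.node 4 (.node 2 (.node 1 (.one ⟨14376, 1, 4⟩) (.one ⟨17135, 4, 6⟩)) (.node 1 (.one ⟨6681, 0, 5⟩) (.one ⟨6279, 1, 6⟩))) (.node 2 (.node 1 (.one ⟨3610, 3, 6⟩) (.one ⟨8464, 2, 5⟩)) (.node 1 (.one ⟨6267, 1, 6⟩) (.one ⟨10295, 4, 6⟩))))) (.node 8 (.node 4 (.node 2 (.node 1 (.one ⟨1598, 3, 3⟩) (.one ⟨8368, 0, 6⟩)) (.node 1 (.one ⟨4387, 1, 4⟩) (.one ⟨16449, 0, 6⟩))) (.node 2 (.node 1 (.one ⟨12902, 3, 4⟩) (.one ⟨14469, 2, 5⟩)) (.node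 1 (.one ⟨9510, 2, 6⟩) (.one ⟨9509, 4, 6⟩)))) (.node 4 (.node 2 (.node 1 (.one ⟨8792, 2, 5⟩) (.one ⟨5173, 3, 6⟩)) (.node 1 (.one ⟨15892, 2, 5⟩) (.one ⟨2528, 3, 7⟩))) (.node 2 (.node 1 (.one ⟨789, 4, 6⟩) (.one ⟨10910, 4, 6⟩)) (.node 1 (.one ⟨4338, 1, 7⟩) (.one ⟨15273, 2, 6⟩)))))) (.node 16 (.node 8 (.node 4 (.node 2 (.node 1 (.one ⟨3304, 4, 6⟩) (.one ⟨12240, 1, 6⟩)) (.node 1 (.one ⟨5814, 3, 6⟩) (.one ⟨12322, 1, 5⟩))) (.node 2 (.node 1 (.one ⟨8705, 3, 4⟩) (.one ⟨16520, 3, 5⟩)) (.node 1 (.one ⟨1539, 4, 5⟩) (.one ⟨6891, 2, 5⟩)))) (.node 4 (.node 2 (.node 1 (.one ⟨12757, 3, 5⟩) (.one ⟨4242, 1, 5⟩)) (.node 1 (.one ⟨12762, 2, 4⟩) (.one ⟨14747, 2, 6⟩))) (.node 2 (.node 1 (.one ⟨4181, 1, 6⟩) (.one ⟨4258, 1, 5⟩)) (.node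 1 (.one ⟨2765, 4, 5⟩) (.one ⟨4391, 1, 6⟩))))) (.node 8 (.node 4 (.node 2 (.node 1 (.one ⟨2421, 4, 6⟩) (.one ⟨4942, 0, 4⟩)) (.node 1 (.one ⟨7153, 3, 3⟩) (.one ⟨7965, 3, 4⟩))) (.node 2 (.node 1 (.one ⟨15255, 4, 5⟩) (.one ⟨4966, 0, 4⟩)) (.node 1 (.one ⟨13009, 0, 7⟩) (.one ⟨4302, 1, 6⟩)))) (.node 4 (.node 2 (.node 1 (.one ⟨1481, 2, 6⟩) (.one ⟨11985, 3, 5⟩)) (.node 1 (.one ⟨13027, 0, 6⟩) (.one ⟨5575, 4, 5⟩))) (.node 2 (.node 1 (.one ⟨4363, 1, 5⟩) (.one ⟨12379, 1, 6⟩)) (.node 1 (.one ⟨13003, 0, 6⟩) (.one ⟨13959, 4, 5⟩)))))))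
def par1_14_10 : Arr Par :=
  (.node 32 (.node 16 (.node 8 (.node 4 (.node 2 (.node 1 (.one ⟨8514, 2, 6⟩) (.one ⟨1467, 2, 7⟩)) (.node 1 (.one ⟨12313, 1, 6⟩) (.one ⟨13057, 0, 4⟩))) (.node 2 (.node 1 (.one ⟨9267, 3, 5⟩) (.one ⟨12263, 1, 5⟩)) (.node 1 (.one ⟨4154, 1, 5⟩) (.one ⟨9405, 4, 5⟩)))) (.node 4 (.node 2 (.node 1 (.one ⟨14313, 4, 6⟩) (.one ⟨3377, 4, 6⟩)) (.node 1 (.one ⟨7020, 4, 6⟩) (.one ⟨9396, 3, 5⟩))) (.node 2 (.node 1 (.one ⟨12279, 1, 5⟩) (.one ⟨7765, 2, 5⟩)) (.node 1 (.one ⟨16919, 2, 6⟩) (.one ⟨11194, 3, 5⟩))))) (.node 8 (.node 4 (.node 2 (.node 1 (.one ⟨14702, 0, 6⟩) (.one ⟨14669, 0, 6⟩)) (.node 1 (.one ⟨12568, 4, 6⟩) (.one ⟨2580, 1, 6⟩))) (.node 2 (.node 1 (.one ⟨14658, 0, 6⟩) (.one ⟨14689, 0, 6⟩))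 (.node 1 (.one ⟨6584, 0, 6⟩) (.one ⟨5133, 4, 6⟩)))) (.node 4 (.node 2 (.node 1 (.one ⟨2545, 1, 4⟩) (.one ⟨15299, 4, 4⟩)) (.node 1 (.one ⟨7839, 3, 5⟩) (.one ⟨2496, 1, 5⟩))) (.node 2 (.node 1 (.one ⟨11043, 2, 6⟩) (.one ⟨6597, 0, 3⟩)) (.node 1 (.one ⟨6637, 0, 5⟩) (.one ⟨5184, 2, 6⟩)))))) (.node 16 (.node 8 (.node 4 (.node 2 (.node 1 (.one ⟨2961, 0, 6⟩) (.one ⟨4324, 4, 6⟩)) (.node 1 (.one ⟨14342, 1, 6⟩) (.one ⟨11011, 0, 4⟩))) (.node 2 (.node 1 (.one ⟨14271, 1, 6⟩) (.one ⟨15295, 4, 5⟩)) (.node 1 (.one ⟨11016, 0, 5⟩) (.one ⟨7172, 2, 7⟩)))) (.node 4 (.node 2 (.node 1 (.one ⟨6259, 1, 5⟩) (.one ⟨2946, 0, 6⟩)) (.node 1 (.one ⟨13080, 2, 5⟩) (.one ⟨11027, 0, 5⟩))) (.node 2 (.node 1 (.one ⟨814, 4, 6⟩) (.one ⟨10778, 2, 4⟩))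 (.node 1 (.one ⟨10112, 3, 4⟩) (.one ⟨567, 4, 5⟩))))) (.node 8 (.node 4 (.node 2 (.node 1 (.one ⟨5005, 1, 5⟩) (.one ⟨9912, 3, 6⟩)) (.node 1 (.one ⟨13497, 0, 6⟩) (.one ⟨13288, 3, 5⟩))) (.node 2 (.node 1 (.one ⟨14820, 2, 3⟩) (.one ⟨14324, 1, 6⟩)) (.node 1 (.one ⟨5488, 3, 6⟩) (.one ⟨2925, 3, 5⟩)))) (.node 4 (.node 2 (.node 1 (.one ⟨7494, 3, 5⟩) (.one ⟨12750, 4, 5⟩)) (.node 1 (.one ⟨9741, 2, 5⟩) (.one ⟨12361, 4, 6⟩))) (.node 2 (.node 1 (.one ⟨20, 1, 6⟩) (.one ⟨5687, 2, 5⟩)) (.node 1 (.one ⟨11747, 3, 5⟩) (.one ⟨14214, 3, 6⟩)))))))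
def par1_14_11 : Arr Par :=
  (.node 32 (.node 16 (.node 8 (.node 4 (.node 2 (.node 1 (.one ⟨11185, 1, 5⟩) (.one ⟨12294, 4, 5⟩)) (.node 1 (.one ⟨2793, 3, 6⟩) (.one ⟨10285, 4, 6⟩))) (.node 2 (.node 1 (.one ⟨15994, 1, 5⟩) (.one ⟨11412, 0, 6⟩)) (.node 1 (.one ⟨8100, 0, 4⟩) (.one ⟨7831, 0, 6⟩)))) (.node 4 (.node 2 (.node 1 (.one ⟨8683, 2, 5⟩) (.one ⟨8563, 4, 6⟩)) (.node 1 (.one ⟨444, 1, 5⟩) (.one ⟨3458, 0, 5⟩))) (.node 2 (.node 1 (.one ⟨3034, 3, 6⟩) (.one ⟨16967, 3, 5⟩)) (.node 1 (.one ⟨14786, 4, 6⟩) (.one ⟨13590, 2, 5⟩))))) (.node 8 (.node 4 (.node 2 (.node 1 (.one ⟨14027, 4, 4⟩) (.one ⟨5773, 4, 7⟩)) (.node 1 (.one ⟨5706, 2, 5⟩) (.one ⟨15991, 1, 6⟩))) (.node 2 (.node 1 (.one ⟨366, 1, 5⟩) (.one ⟨7333, 3, 7⟩)) (.node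 1 (.one ⟨6628, 1, 6⟩) (.one ⟨3317, 0, 5⟩)))) (.node 4 (.node 2 (.node 1 (.one ⟨6163, 3, 6⟩) (.one ⟨4565, 2, 2⟩)) (.node 1 (.one ⟨8513, 4, 4⟩) (.one ⟨9392, 3, 5⟩))) (.node 2 (.node 1 (.one ⟨14211, 3, 6⟩) (.one ⟨1143, 3, 5⟩)) (.node 1 (.one ⟨14178, 0, 6⟩) (.one ⟨12896, 4, 2⟩)))))) (.node 16 (.node 8 (.node 4 (.node 2 (.node 1 (.one ⟨12857, 4, 5⟩) (.one ⟨4822, 4, 5⟩)) (.node 1 (.one ⟨4810, 4, 2⟩) (.one ⟨15813, 2, 5⟩))) (.node 2 (.node 1 (.one ⟨15992, 1, 4⟩) (.one ⟨3468, 0, 7⟩)) (.node 1 (.one ⟨6078, 0, 6⟩) (.one ⟨13421, 3, 6⟩)))) (.node 4 (.node 2 (.node 1 (.one ⟨1672, 4, 6⟩) (.one ⟨11277, 3, 6⟩)) (.node 1 (.one ⟨5579, 2, 5⟩) (.one ⟨4311, 1, 5⟩))) (.node 2 (.node 1 (.one ⟨8365, 2, 5⟩) (.one ⟨14164, 0, 4⟩)) (.node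 1 (.one ⟨10936, 3, 5⟩) (.one ⟨49, 0, 6⟩))))) (.node 8 (.node 4 (.node 2 (.node 1 (.one ⟨6568, 2, 6⟩) (.one ⟨13484, 0, 6⟩)) (.node 1 (.one ⟨10534, 1, 6⟩) (.one ⟨4025, 1, 5⟩))) (.node 2 (.node 1 (.one ⟨15267, 0, 6⟩) (.one ⟨1456, 3, 6⟩)) (.node 1 (.one ⟨17062, 1, 6⟩) (.one ⟨6333, 3, 4⟩)))) (.node 4 (.node 2 (.node 1 (.one ⟨5127, 0, 6⟩) (.one ⟨10887, 3, 6⟩)) (.node 1 (.one ⟨16127, 3, 7⟩) (.one ⟨1853, 0, 5⟩))) (.node 2 (.node 1 (.one ⟨10274, 1, 5⟩) (.one ⟨477, 4, 5⟩)) (.node 1 (.one ⟨12308, 2, 4⟩) (.one ⟨9517, 2, 5⟩)))))))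
def par1_14_12 : Arr Par :=
  (.node 32 (.node 16 (.node 8 (.node 4 (.node 2 (.node 1 (.one ⟨13826, 2, 4⟩) (.one ⟨13112, 2, 6⟩)) (.node 1 (.one ⟨13452, 0, 5⟩) (.one ⟨3256, 2, 6⟩))) (.node 2 (.node 1 (.one ⟨8112, 4, 5⟩) (.one ⟨7704, 0, 3⟩)) (.node 1 (.one ⟨10849, 4, 6⟩) (.one ⟨13226, 0, 7⟩)))) (.node 4 (.node 2 (.node 1 (.one ⟨5109, 3, 5⟩) (.one ⟨9554, 4, 6⟩)) (.node 1 (.one ⟨12154, 4, 6⟩) (.one ⟨11851, 4, 5⟩))) (.node 2 (.node 1 (.one ⟨10176, 1, 4⟩) (.one ⟨17128, 4, 6⟩)) (.node 1 (.one ⟨5915, 2, 6⟩) (.one ⟨17060, 4, 6⟩))))) (.node 8 (.node 4 (.node 2 (.node 1 (.one ⟨10422, 1, 4⟩) (.one ⟨14668, 4, 6⟩)) (.node 1 (.one ⟨5042, 2, 6⟩) (.one ⟨7881, 0, 5⟩))) (.node 2 (.node 1 (.one ⟨14187, 3, 6⟩) (.one ⟨12151, 4,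 6⟩)) (.node 1 (.one ⟨8685, 4, 4⟩) (.one ⟨17062, 2, 6⟩)))) (.node 4 (.node 2 (.node 1 (.one ⟨13872, 3, 4⟩) (.one ⟨15762, 0, 6⟩)) (.node 1 (.one ⟨8835, 3, 3⟩) (.one ⟨2337, 3, 4⟩))) (.node 2 (.node 1 (.one ⟨2322, 4, 5⟩) (.one ⟨4844, 4, 6⟩)) (.node 1 (.one ⟨15302, 2, 5⟩) (.one ⟨16497, 4, 5⟩)))))) (.node 16 (.node 8 (.node 4 (.node 2 (.node 1 (.one ⟨6512, 2, 5⟩) (.one ⟨15414, 1, 6⟩)) (.node 1 (.one ⟨256, 2, 6⟩) (.one ⟨5633, 3, 3⟩))) (.node 2 (.node 1 (.one ⟨6516, 2, 6⟩) (.one ⟨259, 4, 5⟩)) (.node 1 (.one ⟨1837, 3, 7⟩) (.one ⟨9087, 3, 6⟩)))) (.node 4 (.node 2 (.node 1 (.one ⟨1673, 4, 6⟩) (.one ⟨2778, 2, 6⟩)) (.node 1 (.one ⟨12228, 2, 2⟩) (.one ⟨12116, 2, 4⟩))) (.node 2 (.node 1 (.one ⟨9093, 3, 5⟩) (.one ⟨1856, 0,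 4⟩)) (.node 1 (.one ⟨10035, 2, 5⟩) (.one ⟨12481, 2, 6⟩))))) (.node 8 (.node 4 (.node 2 (.node 1 (.one ⟨2582, 4, 5⟩) (.one ⟨3968, 3, 6⟩)) (.node 1 (.one ⟨1400, 4, 5⟩) (.one ⟨1706, 3, 6⟩))) (.node 2 (.node 1 (.one ⟨12908, 0, 4⟩) (.one ⟨5697, 2, 6⟩)) (.node 1 (.one ⟨8622, 1, 5⟩) (.one ⟨4185, 3, 5⟩)))) (.node 4 (.node 2 (.node 1 (.one ⟨7571, 3, 6⟩) (.one ⟨6031, 1, 5⟩)) (.node 1 (.one ⟨12498, 2, 6⟩) (.one ⟨9552, 3, 5⟩))) (.node 2 (.node 1 (.one ⟨8605, 1, 6⟩) (.one ⟨1, 4, 4⟩)) (.node 1 (.one ⟨1534, 4, 6⟩) (.one ⟨8909, 2, 5⟩)))))))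
def par1_14_13 : Arr Par :=
  (.node 32 (.node 16 (.node 8 (.node 4 (.node 2 (.node 1 (.one ⟨1009, 1, 5⟩) (.one ⟨11526, 0, 5⟩)) (.node 1 (.one ⟨8124, 4, 5⟩) (.one ⟨6270, 3, 5⟩))) (.node 2 (.node 1 (.one ⟨11682, 3, 6⟩) (.one ⟨12853, 0, 5⟩)) (.node 1 (.one ⟨999, 3, 5⟩) (.one ⟨8618, 2, 4⟩)))) (.node 4 (.node 2 (.node 1 (.one ⟨8012, 3, 5⟩) (.one ⟨3945, 1, 5⟩)) (.node 1 (.one ⟨14890, 2, 6⟩) (.one ⟨4105, 4, 4⟩))) (.node 2 (.node 1 (.one ⟨15677, 4, 4⟩) (.one ⟨6396, 4, 4⟩)) (.node 1 (.one ⟨12986, 2, 5⟩) (.one ⟨9214, 2, 5⟩))))) (.node 8 (.node 4 (.node 2 (.node 1 (.one ⟨3590, 3, 5⟩) (.one ⟨9209, 2, 6⟩)) (.node 1 (.one ⟨9213, 2, 6⟩) (.one ⟨16914, 4, 6⟩))) (.node 2 (.node 1 (.one ⟨3982, 3, 5⟩) (.one ⟨16833, 4, 3⟩)) (.node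 1 (.one ⟨8835, 4, 3⟩) (.one ⟨15549, 1, 7⟩)))) (.node 4 (.node 2 (.node 1 (.one ⟨16774, 0, 6⟩) (.one ⟨7217, 4, 6⟩)) (.node 1 (.one ⟨1278, 3, 6⟩) (.one ⟨4452, 2, 4⟩))) (.node 2 (.node 1 (.one ⟨1457, 3, 6⟩) (.one ⟨16425, 4, 7⟩)) (.node 1 (.one ⟨16382, 1, 3⟩) (.one ⟨8503, 1, 3⟩)))))) (.node 16 (.node 8 (.node 4 (.node 2 (.node 1 (.one ⟨12302, 2, 7⟩) (.one ⟨4950, 4, 3⟩)) (.node 1 (.one ⟨779, 3, 5⟩) (.one ⟨7571, 1, 6⟩))) (.node 2 (.node 1 (.one ⟨9218, 3, 5⟩) (.one ⟨12109, 2, 6⟩)) (.node 1 (.one ⟨5791, 4, 4⟩) (.one ⟨10423, 3, 3⟩)))) (.node 4 (.node 2 (.node 1 (.one ⟨3048, 4, 6⟩) (.one ⟨10950, 4, 4⟩)) (.node 1 (.one ⟨662, 3, 5⟩) (.one ⟨5636, 2, 6⟩))) (.node 2 (.node 1 (.one ⟨15336, 2, 6⟩) (.one ⟨9418, 4, 4⟩)) (.node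 1 (.one ⟨8526, 1, 6⟩) (.one ⟨4832, 0, 5⟩))))) (.node 8 (.node 4 (.node 2 (.node 1 (.one ⟨11207, 1, 6⟩) (.one ⟨7854, 3, 4⟩)) (.node 1 (.one ⟨4903, 0, 5⟩) (.one ⟨13218, 4, 7⟩))) (.node 2 (.node 1 (.one ⟨1056, 1, 6⟩) (.one ⟨12577, 4, 5⟩)) (.node 1 (.one ⟨14443, 3, 4⟩) (.one ⟨2259, 3, 6⟩)))) (.node 4 (.node 2 (.node 1 (.one ⟨13805, 2, 6⟩) (.one ⟨7130, 2, 5⟩)) (.node 1 (.one ⟨16415, 1, 6⟩) (.one ⟨4454, 2, 5⟩))) (.node 2 (.node 1 (.one ⟨16349, 2, 5⟩) (.one ⟨9845, 0, 5⟩)) (.node 1 (.one ⟨11136, 4, 6⟩) (.one ⟨3141, 1, 5⟩)))))))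
def par1_14_14 : Arr Par :=
  (.node 32 (.node 16 (.node 8 (.node 4 (.node 2 (.node 1 (.one ⟨1821, 3, 6⟩) (.one ⟨15619, 1, 5⟩)) (.node 1 (.one ⟨4711, 1, 5⟩) (.one ⟨439, 1, 6⟩))) (.node 2 (.node 1 (.one ⟨12953, 0, 5⟩) (.one ⟨14107, 2, 6⟩)) (.node 1 (.one ⟨14292, 2, 7⟩) (.one ⟨634, 3, 5⟩)))) (.node 4 (.node 2 (.node 1 (.one ⟨8711, 0, 5⟩) (.one ⟨8365, 1, 5⟩)) (.node 1 (.one ⟨4683, 1, 3⟩) (.one ⟨1176, 4, 6⟩))) (.node 2 (.node 1 (.one ⟨13321, 2, 4⟩) (.one ⟨4562, 4, 3⟩)) (.node 1 (.one ⟨4653, 4, 5⟩) (.one ⟨12936, 0, 5⟩))))) (.node 8 (.node 4 (.node 2 (.node 1 (.one ⟨8713, 2, 6⟩) (.one ⟨8083, 3, 5⟩)) (.node 1 (.one ⟨12896, 0, 2⟩) (.one ⟨16128, 3, 6⟩))) (.node 2 (.node 1 (.one ⟨3437, 0, 6⟩) (.one ⟨13773, 4, 5⟩)) (.node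 1 (.one ⟨8717, 2, 6⟩) (.one ⟨16427, 3, 4⟩)))) (.node 4 (.node 2 (.node 1 (.one ⟨15578, 1, 6⟩) (.one ⟨16350, 2, 5⟩)) (.node 1 (.one ⟨9618, 4, 6⟩) (.one ⟨553, 2, 5⟩))) (.node 2 (.node 1 (.one ⟨6430, 4, 4⟩) (.one ⟨15643, 3, 6⟩)) (.node 1 (.one ⟨5520, 3, 4⟩) (.one ⟨16631, 1, 5⟩)))))) (.node 16 (.node 8 (.node 4 (.node 2 (.node 1 (.one ⟨11449, 0, 6⟩) (.one ⟨14091, 4, 5⟩)) (.node 1 (.one ⟨12857, 0, 5⟩) (.one ⟨6308, 4, 5⟩))) (.node 2 (.node 1 (.one ⟨8233, 0, 6⟩) (.one ⟨4862, 0, 7⟩)) (.node 1 (.one ⟨1180, 4, 4⟩) (.one ⟨743, 4, 4⟩)))) (.node 4 (.node 2 (.node 1 (.one ⟨2304, 4, 5⟩) (.one ⟨7408, 0, 5⟩)) (.node 1 (.one ⟨10684, 2, 6⟩) (.one ⟨16810, 0, 5⟩))) (.node 2 (.node 1 (.one ⟨8356, 3, 5⟩) (.one ⟨8538, 2, 6⟩)) (.node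 1 (.one ⟨12398, 2, 6⟩) (.one ⟨15754, 4, 4⟩))))) (.node 8 (.node 4 (.node 2 (.node 1 (.one ⟨12829, 0, 6⟩) (.one ⟨14566, 3, 6⟩)) (.node 1 (.one ⟨10763, 3, 5⟩) (.one ⟨9753, 0, 6⟩))) (.node 2 (.node 1 (.one ⟨7, 3, 6⟩) (.one ⟨5686, 3, 6⟩)) (.node 1 (.one ⟨8117, 1, 6⟩) (.one ⟨8331, 2, 6⟩)))) (.node 4 (.node 2 (.node 1 (.one ⟨3299, 4, 6⟩) (.one ⟨12805, 2, 5⟩)) (.node 1 (.one ⟨6215, 4, 5⟩) (.one ⟨16260, 1, 4⟩))) (.node 2 (.node 1 (.one ⟨3627, 1, 4⟩) (.one ⟨14891, 4, 6⟩)) (.node 1 (.one ⟨13346, 2, 6⟩) (.one ⟨5580, 2, 4⟩)))))))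
def par1_14_15 : Arr Par :=
  (.node 32 (.node 16 (.node 8 (.node 4 (.node 2 (.node 1 (.one ⟨296, 3, 6⟩) (.one ⟨1863, 0, 6⟩)) (.node 1 (.one ⟨800, 4, 6⟩) (.one ⟨8863, 4, 3⟩))) (.node 2 (.node 1 (.one ⟨15076, 2, 5⟩) (.one ⟨4916, 4, 6⟩)) (.node 1 (.one ⟨470, 3, 4⟩) (.one ⟨16719, 2, 6⟩)))) (.node 4 (.node 2 (.node 1 (.one ⟨5601, 0, 5⟩) (.one ⟨8199, 1, 4⟩)) (.node 1 (.one ⟨13545, 2, 6⟩) (.one ⟨498, 2, 5⟩))) (.node 2 (.node 1 (.one ⟨13801, 2, 6⟩) (.one ⟨14080, 3, 6⟩)) (.node 1 (.one ⟨7019, 1, 6⟩) (.one ⟨4915, 0, 5⟩))))) (.node 8 (.node 4 (.node 2 (.node 1 (.one ⟨1626, 4, 6⟩) (.one ⟨16820, 4, 5⟩)) (.node 1 (.one ⟨98, 3, 6⟩) (.one ⟨16666, 2, 6⟩))) (.node 2 (.node 1 (.one ⟨4516, 1, 6⟩) (.one ⟨11987, 2, 6⟩)) (.node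 1 (.one ⟨7053, 1, 6⟩) (.one ⟨4925, 4, 6⟩)))) (.node 4 (.node 2 (.node 1 (.one ⟨9420, 4, 5⟩) (.one ⟨12030, 2, 6⟩)) (.node 1 (.one ⟨2822, 1, 4⟩) (.one ⟨5367, 2, 6⟩))) (.node 2 (.node 1 (.one ⟨11794, 2, 5⟩) (.one ⟨10097, 4, 6⟩)) (.node 1 (.one ⟨8465, 0, 3⟩) (.one ⟨16554, 3, 5⟩)))))) (.node 16 (.node 8 (.node 4 (.node 2 (.node 1 (.one ⟨1106, 3, 6⟩) (.one ⟨13228, 3, 6⟩)) (.node 1 (.one ⟨1920, 0, 5⟩) (.one ⟨959, 2, 5⟩))) (.node 2 (.node 1 (.one ⟨8072, 1, 7⟩) (.one ⟨6317, 4, 5⟩)) (.node 1 (.one ⟨12585, 1, 5⟩) (.one ⟨490, 4, 6⟩)))) (.node 4 (.node 2 (.node 1 (.one ⟨8487, 0, 5⟩) (.one ⟨10592, 3, 5⟩)) (.node 1 (.one ⟨13918, 2, 5⟩) (.one ⟨13505, 2, 6⟩))) (.node 2 (.node 1 (.one ⟨13799, 2, 6⟩) (.one ⟨11755, 2, 6⟩)) (.node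 1 (.one ⟨7986, 1, 6⟩) (.one ⟨1189, 2, 6⟩))))) (.node 8 (.node 4 (.node 2 (.node 1 (.one ⟨981, 0, 6⟩) (.one ⟨4927, 4, 5⟩)) (.node 1 (.one ⟨4294, 3, 6⟩) (.one ⟨10757, 4, 5⟩))) (.node 2 (.node 1 (.one ⟨9928, 3, 6⟩) (.one ⟨12031, 3, 6⟩)) (.node 1 (.one ⟨10743, 4, 5⟩) (.one ⟨12500, 1, 6⟩)))) (.node 4 (.node 2 (.node 1 (.one ⟨5143, 4, 6⟩) (.one ⟨3644, 3, 6⟩)) (.node 1 (.one ⟨13653, 0, 5⟩) (.one ⟨4099, 3, 5⟩))) (.node 2 (.node 1 (.one ⟨15529, 1, 5⟩) (.one ⟨8199, 4, 4⟩)) (.node 1 (.one ⟨9678, 0, 5⟩) (.one ⟨14560, 3, 5⟩)))))))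
def par1_14 : Arr Par :=
  (.node 512 (.node 256 (.node 128 (.node 64 par1_14_0 par1_14_1) (.node 64 par1_14_2 par1_14_3)) (.node 128 (.node 64 par1_14_4 par1_14_5) (.node 64 par1_14_6 par1_14_7))) (.node 256 (.node 128 (.node 64 par1_14_8 par1_14_9) (.node 64 par1_14_10 par1_14_11)) (.node 128 (.node 64 par1_14_12 par1_14_13) (.node 64 par1_14_14 par1_14_15))))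
def par1_15_0 : Arr Par :=
  (.node 32 (.node 16 (.node 8 (.node 4 (.node 2 (.node 1 (.one ⟨8157, 1, 6⟩) (.one ⟨16133, 1, 6⟩)) (.node 1 (.one ⟨934, 0, 6⟩) (.one ⟨13603, 4, 5⟩))) (.node 2 (.node 1 (.one ⟨3551, 1, 5⟩) (.one ⟨5030, 0, 5⟩)) (.node 1 (.one ⟨9706, 2, 6⟩) (.one ⟨4909, 4, 5⟩)))) (.node 4 (.node 2 (.node 1 (.one ⟨9336, 4, 6⟩) (.one ⟨4823, 4, 5⟩)) (.node 1 (.one ⟨16613, 2, 6⟩) (.one ⟨13907, 4, 6⟩))) (.node 2 (.node 1 (.one ⟨3922, 3, 5⟩) (.one ⟨12840, 0, 6⟩)) (.node 1 (.one ⟨9384, 2, 5⟩) (.one ⟨1885, 0, 5⟩))))) (.node 8 (.node 4 (.node 2 (.node 1 (.one ⟨11575, 1, 6⟩) (.one ⟨1167, 3, 5⟩)) (.node 1 (.one ⟨9512, 3, 6⟩) (.one ⟨9706, 0, 6⟩))) (.node 2 (.node 1 (.one ⟨16180, 1, 6⟩) (.one ⟨12931, 4, 4⟩)) (.node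 1 (.one ⟨37, 3, 4⟩) (.one ⟨15471, 1, 6⟩)))) (.node 4 (.node 2 (.node 1 (.one ⟨16282, 1, 6⟩) (.one ⟨16318, 3, 6⟩)) (.node 1 (.one ⟨14018, 3, 4⟩) (.one ⟨2054, 4, 6⟩))) (.node 2 (.node 1 (.one ⟨5992, 4, 6⟩) (.one ⟨8691, 2, 4⟩)) (.node 1 (.one ⟨8832, 4, 4⟩) (.one ⟨11386, 4, 6⟩)))))) (.node 16 (.node 8 (.node 4 (.node 2 (.node 1 (.one ⟨3439, 1, 5⟩) (.one ⟨9489, 4, 6⟩)) (.node 1 (.one ⟨12953, 4, 5⟩) (.one ⟨15753, 4, 6⟩))) (.node 2 (.node 1 (.one ⟨5752, 3, 7⟩) (.one ⟨4500, 1, 4⟩)) (.node 1 (.one ⟨13012, 0, 5⟩) (.one ⟨670, 0, 6⟩)))) (.node 4 (.node 2 (.node 1 (.one ⟨16738, 4, 7⟩) (.one ⟨11166, 3, 7⟩)) (.node 1 (.one ⟨6821, 4, 4⟩) (.one ⟨7394, 3, 6⟩))) (.node 2 (.node 1 (.one ⟨1077, 4, 6⟩) (.one ⟨15074, 1, 3⟩)) (.node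 1 (.one ⟨11706, 4, 5⟩) (.one ⟨10592, 4, 5⟩))))) (.node 8 (.node 4 (.node 2 (.node 1 (.one ⟨8341, 1, 6⟩) (.one ⟨7613, 1, 6⟩)) (.node 1 (.one ⟨5161, 1, 4⟩) (.one ⟨6346, 2, 6⟩))) (.node 2 (.node 1 (.one ⟨8800, 3, 6⟩) (.one ⟨8331, 3, 6⟩)) (.node 1 (.one ⟨619, 0, 5⟩) (.one ⟨149, 3, 4⟩)))) (.node 4 (.node 2 (.node 1 (.one ⟨16728, 4, 6⟩) (.one ⟨5116, 2, 7⟩)) (.node 1 (.one ⟨11231, 2, 6⟩) (.one ⟨17097, 0, 4⟩))) (.node 2 (.node 1 (.one ⟨3158, 2, 6⟩) (.one ⟨7625, 1, 6⟩)) (.node 1 (.one ⟨5158, 2, 5⟩) (.one ⟨4274, 3, 6⟩)))))))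
def par1_15_1 : Arr Par :=
  (.node 32 (.node 16 (.node 8 (.node 4 (.node 2 (.node 1 (.one ⟨4970, 1, 5⟩) (.one ⟨7632, 1, 4⟩)) (.node 1 (.one ⟨10545, 1, 5⟩) (.one ⟨16857, 2, 7⟩))) (.node 2 (.node 1 (.one ⟨6893, 1, 5⟩) (.one ⟨6587, 0, 6⟩)) (.node 1 (.one ⟨15120, 2, 5⟩) (.one ⟨8100, 3, 4⟩)))) (.node 4 (.node 2 (.node 1 (.one ⟨8334, 1, 4⟩) (.one ⟨4955, 1, 4⟩)) (.node 1 (.one ⟨6881, 1, 5⟩) (.one ⟨7330, 1, 6⟩))) (.node 2 (.node 1 (.one ⟨3946, 0, 5⟩) (.one ⟨7654, 1, 7⟩)) (.node 1 (.one ⟨483, 1, 6⟩) (.one ⟨13037, 1, 4⟩))))) (.node 8 (.node 4 (.node 2 (.node 1 (.one ⟨12309, 3, 5⟩) (.one ⟨16629, 3, 6⟩)) (.node 1 (.one ⟨15071, 2, 3⟩) (.one ⟨16822, 0, 5⟩))) (.node 2 (.node 1 (.one ⟨3904, 0, 5⟩) (.one ⟨5908, 2, 6⟩)) (.node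 1 (.one ⟨15382, 1, 5⟩) (.one ⟨15131, 2, 5⟩)))) (.node 4 (.node 2 (.node 1 (.one ⟨11885, 2, 4⟩) (.one ⟨10008, 2, 6⟩)) (.node 1 (.one ⟨1638, 4, 6⟩) (.one ⟨15171, 3, 6⟩))) (.node 2 (.node 1 (.one ⟨8228, 2, 5⟩) (.one ⟨6202, 2, 6⟩)) (.node 1 (.one ⟨6596, 0, 5⟩) (.one ⟨1074, 3, 6⟩)))))) (.node 16 (.node 8 (.node 4 (.node 2 (.node 1 (.one ⟨586, 3, 6⟩) (.one ⟨9195, 2, 6⟩)) (.node 1 (.one ⟨4391, 4, 6⟩) (.one ⟨5253, 4, 6⟩))) (.node 2 (.node 1 (.one ⟨2479, 1, 6⟩) (.one ⟨5910, 2, 5⟩)) (.node 1 (.one ⟨3054, 4, 6⟩) (.one ⟨6597, 4, 3⟩)))) (.node 4 (.node 2 (.node 1 (.one ⟨1547, 4, 6⟩) (.one ⟨178, 3, 4⟩)) (.node 1 (.one ⟨1864, 0, 5⟩) (.one ⟨16852, 0, 5⟩))) (.node 2 (.node 1 (.one ⟨5144, 1, 7⟩) (.one ⟨16392, 4, 6⟩)) (.node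 1 (.one ⟨14666, 0, 6⟩) (.one ⟨9556, 3, 5⟩))))) (.node 8 (.node 4 (.node 2 (.node 1 (.one ⟨15206, 4, 5⟩) (.one ⟨1617, 4, 6⟩)) (.node 1 (.one ⟨5742, 1, 5⟩) (.one ⟨7001, 4, 6⟩))) (.node 2 (.node 1 (.one ⟨3210, 2, 4⟩) (.one ⟨10693, 4, 6⟩)) (.node 1 (.one ⟨13308, 3, 6⟩) (.one ⟨15149, 3, 5⟩)))) (.node 4 (.node 2 (.node 1 (.one ⟨5697, 1, 6⟩) (.one ⟨11307, 3, 4⟩)) (.node 1 (.one ⟨766, 4, 5⟩) (.one ⟨11326, 1, 6⟩))) (.node 2 (.node 1 (.one ⟨16301, 4, 5⟩) (.one ⟨13583, 4, 5⟩)) (.node 1 (.one ⟨16528, 3, 5⟩) (.one ⟨6829, 1, 6⟩)))))))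
def par1_15_2 : Arr Par :=
  (.node 32 (.node 16 (.node 8 (.node 4 (.node 2 (.node 1 (.one ⟨12867, 1, 5⟩) (.one ⟨3291, 1, 4⟩)) (.node 1 (.one ⟨16997, 1, 6⟩) (.one ⟨3870, 3, 6⟩))) (.node 2 (.node 1 (.one ⟨13505, 0, 6⟩) (.one ⟨700, 4, 6⟩)) (.node 1 (.one ⟨5709, 4, 6⟩) (.one ⟨8074, 4, 5⟩)))) (.node 4 (.node 2 (.node 1 (.one ⟨12128, 0, 1⟩) (.one ⟨12865, 2, 6⟩)) (.node 1 (.one ⟨11419, 1, 6⟩) (.one ⟨12866, 2, 4⟩))) (.node 2 (.node 1 (.one ⟨3516, 1, 4⟩) (.one ⟨4810, 3, 2⟩)) (.node 1 (.one ⟨16213, 4, 7⟩) (.one ⟨15786, 4, 5⟩))))) (.node 8 (.node 4 (.node 2 (.node 1 (.one ⟨1853, 2, 5⟩) (.one ⟨14890, 1, 6⟩)) (.node 1 (.one ⟨10506, 1, 7⟩) (.one ⟨11482, 3, 5⟩))) (.node 2 (.node 1 (.one ⟨2774, 2, 5⟩) (.one ⟨5509, 4, 5⟩))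 (.node 1 (.one ⟨16950, 1, 5⟩) (.one ⟨3034, 0, 6⟩)))) (.node 4 (.node 2 (.node 1 (.one ⟨13547, 0, 6⟩) (.one ⟨14516, 3, 6⟩)) (.node 1 (.one ⟨10034, 0, 6⟩) (.one ⟨2811, 0, 5⟩))) (.node 2 (.node 1 (.one ⟨10543, 3, 5⟩) (.one ⟨4130, 0, 5⟩)) (.node 1 (.one ⟨963, 2, 5⟩) (.one ⟨12608, 2, 6⟩)))))) (.node 16 (.node 8 (.node 4 (.node 2 (.node 1 (.one ⟨12892, 1, 5⟩) (.one ⟨10077, 3, 4⟩)) (.node 1 (.one ⟨4986, 3, 4⟩) (.one ⟨16986, 1, 3⟩))) (.node 2 (.node 1 (.one ⟨5601, 4, 5⟩) (.one ⟨5205, 0, 4⟩)) (.node 1 (.one ⟨4951, 3, 6⟩) (.one ⟨8926, 4, 6⟩)))) (.node 4 (.node 2 (.node 1 (.one ⟨8723, 3, 5⟩) (.one ⟨17026, 2, 4⟩)) (.node 1 (.one ⟨17011, 4, 6⟩) (.one ⟨16177, 1, 6⟩))) (.node 2 (.node 1 (.one ⟨6800, 2, 5⟩) (.one ⟨4582, 3,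 6⟩)) (.node 1 (.one ⟨6276, 3, 5⟩) (.one ⟨5140, 4, 6⟩))))) (.node 8 (.node 4 (.node 2 (.node 1 (.one ⟨2984, 3, 6⟩) (.one ⟨9004, 0, 6⟩)) (.node 1 (.one ⟨651, 1, 4⟩) (.one ⟨2569, 1, 5⟩))) (.node 2 (.node 1 (.one ⟨16437, 2, 5⟩) (.one ⟨6895, 1, 5⟩)) (.node 1 (.one ⟨16273, 0, 7⟩) (.one ⟨12123, 0, 5⟩)))) (.node 4 (.node 2 (.node 1 (.one ⟨1008, 4, 6⟩) (.one ⟨5188, 0, 5⟩)) (.node 1 (.one ⟨8063, 3, 6⟩) (.one ⟨16682, 3, 4⟩))) (.node 2 (.node 1 (.one ⟨16531, 3, 6⟩) (.one ⟨6907, 1, 6⟩)) (.node 1 (.one ⟨15347, 1, 6⟩) (.one ⟨11835, 3, 6⟩)))))))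
def par1_15_3 : Arr Par :=
  (.node 32 (.node 16 (.node 8 (.node 4 (.node 2 (.node 1 (.one ⟨16267, 0, 6⟩) (.one ⟨15073, 0, 6⟩)) (.node 1 (.one ⟨12102, 3, 6⟩) (.one ⟨7333, 1, 7⟩))) (.node 2 (.node 1 (.one ⟨6869, 2, 6⟩) (.one ⟨14224, 4, 6⟩)) (.node 1 (.one ⟨2706, 4, 6⟩) (.one ⟨1759, 2, 6⟩)))) (.node 4 (.node 2 (.node 1 (.one ⟨7700, 1, 4⟩) (.one ⟨9832, 2, 6⟩)) (.node 1 (.one ⟨3141, 3, 5⟩) (.one ⟨4979, 1, 6⟩))) (.node 2 (.node 1 (.one ⟨12294, 3, 5⟩) (.one ⟨1974, 0, 4⟩)) (.node 1 (.one ⟨17034, 0, 5⟩) (.one ⟨2871, 4, 7⟩))))) (.node 8 (.node 4 (.node 2 (.node 1 (.one ⟨4786, 4, 4⟩) (.one ⟨705, 1, 5⟩)) (.node 1 (.one ⟨13285, 0, 6⟩) (.one ⟨2700, 4, 6⟩))) (.node 2 (.node 1 (.one ⟨10623, 3, 6⟩) (.one ⟨16168, 3, 7⟩)) (.node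 1 (.one ⟨8129, 3, 6⟩) (.one ⟨12938, 4, 5⟩)))) (.node 4 (.node 2 (.node 1 (.one ⟨8970, 0, 5⟩) (.one ⟨11265, 3, 3⟩)) (.node 1 (.one ⟨6066, 0, 5⟩) (.one ⟨12101, 3, 6⟩))) (.node 2 (.node 1 (.one ⟨15759, 1, 5⟩) (.one ⟨10051, 3, 6⟩)) (.node 1 (.one ⟨15787, 4, 6⟩) (.one ⟨6896, 1, 5⟩)))))) (.node 16 (.node 8 (.node 4 (.node 2 (.node 1 (.one ⟨16197, 2, 6⟩) (.one ⟨15305, 2, 5⟩)) (.node 1 (.one ⟨10587, 1, 4⟩) (.one ⟨11100, 2, 6⟩))) (.node 2 (.node 1 (.one ⟨7718, 1, 4⟩) (.one ⟨8442, 3, 6⟩)) (.node 1 (.one ⟨4043, 0, 6⟩) (.one ⟨16308, 1, 6⟩)))) (.node 4 (.node 2 (.node 1 (.one ⟨16310, 3, 3⟩) (.one ⟨15786, 1, 5⟩)) (.node 1 (.one ⟨3074, 0, 6⟩) (.one ⟨14710, 3, 2⟩))) (.node 2 (.node 1 (.one ⟨6116, 0, 5⟩) (.one ⟨14849, 2, 5⟩))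 (.node 1 (.one ⟨1084, 3, 6⟩) (.one ⟨16410, 0, 6⟩))))) (.node 8 (.node 4 (.node 2 (.node 1 (.one ⟨8197, 1, 6⟩) (.one ⟨8283, 2, 5⟩)) (.node 1 (.one ⟨1906, 2, 6⟩) (.one ⟨16632, 3, 7⟩))) (.node 2 (.node 1 (.one ⟨16938, 4, 5⟩) (.one ⟨10518, 1, 6⟩)) (.node 1 (.one ⟨11322, 1, 5⟩) (.one ⟨16931, 3, 6⟩)))) (.node 4 (.node 2 (.node 1 (.one ⟨16816, 0, 5⟩) (.one ⟨12934, 1, 5⟩)) (.node 1 (.one ⟨2389, 1, 5⟩) (.one ⟨16638, 2, 5⟩))) (.node 2 (.node 1 (.one ⟨1458, 2, 6⟩) (.one ⟨8307, 0, 6⟩)) (.node 1 (.one ⟨5740, 1, 5⟩) (.one ⟨703, 4, 7⟩)))))))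
def par1_15_4 : Arr Par :=
  (.node 32 (.node 16 (.node 8 (.node 4 (.node 2 (.node 1 (.one ⟨14899, 0, 3⟩) (.one ⟨9441, 3, 6⟩)) (.node 1 (.one ⟨388, 4, 5⟩) (.one ⟨17053, 2, 4⟩))) (.node 2 (.node 1 (.one ⟨16833, 0, 3⟩) (.one ⟨13795, 2, 6⟩)) (.node 1 (.one ⟨16290, 1, 5⟩) (.one ⟨15146, 3, 3⟩)))) (.node 4 (.node 2 (.node 1 (.one ⟨11010, 3, 5⟩) (.one ⟨477, 2, 5⟩)) (.node 1 (.one ⟨7348, 4, 5⟩) (.one ⟨670, 4, 6⟩))) (.node 2 (.node 1 (.one ⟨16239, 2, 6⟩) (.one ⟨2979, 0, 5⟩)) (.node 1 (.one ⟨7576, 3, 6⟩) (.one ⟨3610, 2, 6⟩))))) (.node 8 (.node 4 (.node 2 (.node 1 (.one ⟨2401, 1, 5⟩) (.one ⟨6798, 1, 5⟩)) (.node 1 (.one ⟨14175, 3, 6⟩) (.one ⟨5665, 2, 5⟩))) (.node 2 (.node 1 (.one ⟨11863, 3, 6⟩) (.one ⟨11194, 2, 5⟩)) (.node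 1 (.one ⟨12946, 1, 4⟩) (.one ⟨4855, 1, 3⟩)))) (.node 4 (.node 2 (.node 1 (.one ⟨15690, 3, 6⟩) (.one ⟨536, 0, 6⟩)) (.node 1 (.one ⟨664, 3, 5⟩) (.one ⟨8221, 1, 5⟩))) (.node 2 (.node 1 (.one ⟨311, 4, 6⟩) (.one ⟨9011, 4, 6⟩)) (.node 1 (.one ⟨14820, 1, 3⟩) (.one ⟨8225, 1, 4⟩)))))) (.node 16 (.node 8 (.node 4 (.node 2 (.node 1 (.one ⟨3289, 1, 3⟩) (.one ⟨8835, 0, 3⟩)) (.node 1 (.one ⟨8755, 3, 4⟩) (.one ⟨8841, 2, 6⟩))) (.node 2 (.node 1 (.one ⟨5709, 1, 6⟩) (.one ⟨13465, 2, 5⟩)) (.node 1 (.one ⟨10146, 3, 6⟩) (.one ⟨619, 2, 5⟩)))) (.node 4 (.node 2 (.node 1 (.one ⟨12922, 1, 5⟩) (.one ⟨3921, 2, 4⟩)) (.node 1 (.one ⟨947, 3, 4⟩) (.one ⟨15989, 4, 7⟩))) (.node 2 (.node 1 (.one ⟨1521, 2, 7⟩) (.one ⟨16870, 2, 7⟩)) (.node 1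 (.one ⟨8758, 0, 5⟩) (.one ⟨5874, 1, 6⟩))))) (.node 8 (.node 4 (.node 2 (.node 1 (.one ⟨6972, 4, 7⟩) (.one ⟨10989, 4, 6⟩)) (.node 1 (.one ⟨16198, 1, 6⟩) (.one ⟨3323, 1, 4⟩))) (.node 2 (.node 1 (.one ⟨6786, 2, 4⟩) (.one ⟨10509, 0, 6⟩)) (.node 1 (.one ⟨10882, 0, 6⟩) (.one ⟨15862, 1, 5⟩)))) (.node 4 (.node 2 (.node 1 (.one ⟨12856, 0, 6⟩) (.one ⟨4054, 0, 7⟩)) (.node 1 (.one ⟨12268, 2, 6⟩) (.one ⟨3410, 0, 5⟩))) (.node 2 (.node 1 (.one ⟨10709, 3, 5⟩) (.one ⟨11433, 1, 3⟩)) (.node 1 (.one ⟨8127, 1, 5⟩) (.one ⟨3339, 1, 6⟩)))))))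
def par1_15_5 : Arr Par :=
  (.node 32 (.node 16 (.node 8 (.node 4 (.node 2 (.node 1 (.one ⟨3628, 2, 5⟩) (.one ⟨8493, 3, 6⟩)) (.node 1 (.one ⟨8521, 3, 5⟩) (.one ⟨8864, 4, 5⟩))) (.node 2 (.node 1 (.one ⟨15620, 3, 4⟩) (.one ⟨10749, 4, 6⟩)) (.node 1 (.one ⟨6407, 1, 5⟩) (.one ⟨6957, 2, 5⟩)))) (.node 4 (.node 2 (.node 1 (.one ⟨2242, 2, 6⟩) (.one ⟨6158, 4, 5⟩)) (.node 1 (.one ⟨11482, 0, 5⟩) (.one ⟨4302, 2, 6⟩))) (.node 2 (.node 1 (.one ⟨10220, 3, 3⟩) (.one ⟨1583, 2, 5⟩)) (.node 1 (.one ⟨7572, 2, 5⟩) (.one ⟨12145, 0, 5⟩))))) (.node 8 (.node 4 (.node 2 (.node 1 (.one ⟨13882, 4, 6⟩) (.one ⟨15649, 4, 4⟩)) (.node 1 (.one ⟨6308, 3, 5⟩) (.one ⟨13779, 4, 5⟩))) (.node 2 (.node 1 (.one ⟨5538, 0, 5⟩) (.one ⟨4793, 0, 4⟩)) (.node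 1 (.one ⟨5720, 3, 6⟩) (.one ⟨10180, 0, 6⟩)))) (.node 4 (.node 2 (.node 1 (.one ⟨3945, 4, 5⟩) (.one ⟨2820, 0, 6⟩)) (.node 1 (.one ⟨12134, 0, 6⟩) (.one ⟨6274, 3, 5⟩))) (.node 2 (.node 1 (.one ⟨3784, 0, 6⟩) (.one ⟨6574, 4, 6⟩)) (.node 1 (.one ⟨2761, 1, 5⟩) (.one ⟨4887, 1, 5⟩)))))) (.node 16 (.node 8 (.node 4 (.node 2 (.node 1 (.one ⟨6529, 4, 6⟩) (.one ⟨469, 2, 5⟩)) (.node 1 (.one ⟨10808, 1, 7⟩) (.one ⟨10271, 0, 5⟩))) (.node 2 (.node 1 (.one ⟨3436, 0, 4⟩) (.one ⟨10218, 3, 5⟩)) (.node 1 (.one ⟨10286, 3, 6⟩) (.one ⟨8486, 3, 6⟩)))) (.node 4 (.node 2 (.node 1 (.one ⟨13973, 1, 7⟩) (.one ⟨15, 3, 7⟩)) (.node 1 (.one ⟨16288, 3, 5⟩) (.one ⟨4870, 1, 6⟩))) (.node 2 (.node 1 (.one ⟨4836, 3, 6⟩) (.one ⟨5763, 2, 6⟩)) (.node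 1 (.one ⟨868, 2, 6⟩) (.one ⟨591, 2, 6⟩))))) (.node 8 (.node 4 (.node 2 (.node 1 (.one ⟨6353, 4, 5⟩) (.one ⟨14443, 4, 4⟩)) (.node 1 (.one ⟨6365, 4, 6⟩) (.one ⟨13229, 3, 7⟩))) (.node 2 (.node 1 (.one ⟨4944, 0, 6⟩) (.one ⟨13469, 1, 6⟩)) (.node 1 (.one ⟨8180, 4, 4⟩) (.one ⟨599, 0, 5⟩)))) (.node 4 (.node 2 (.node 1 (.one ⟨6282, 0, 5⟩) (.one ⟨8867, 4, 4⟩)) (.node 1 (.one ⟨119, 3, 5⟩) (.one ⟨12977, 1, 5⟩))) (.node 2 (.node 1 (.one ⟨257, 4, 6⟩) (.one ⟨541, 3, 5⟩)) (.node 1 (.one ⟨823, 3, 6⟩) (.one ⟨11368, 4, 3⟩)))))))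
def par1_15_6 : Arr Par :=
  (.node 32 (.node 16 (.node 8 (.node 4 (.node 2 (.node 1 (.one ⟨15175, 1, 5⟩) (.one ⟨781, 0, 6⟩)) (.node 1 (.one ⟨14733, 1, 5⟩) (.one ⟨12128, 4, 1⟩))) (.node 2 (.node 1 (.one ⟨273, 2, 5⟩) (.one ⟨3855, 2, 4⟩)) (.node 1 (.one ⟨12350, 0, 6⟩) (.one ⟨8733, 2, 5⟩)))) (.node 4 (.node 2 (.node 1 (.one ⟨14327, 0, 7⟩) (.one ⟨4246, 4, 5⟩)) (.node 1 (.one ⟨1472, 2, 3⟩) (.one ⟨13002, 0, 5⟩))) (.node 2 (.node 1 (.one ⟨2586, 2, 5⟩) (.one ⟨9, 1, 5⟩)) (.node 1 (.one ⟨11280, 0, 5⟩) (.one ⟨12880, 3, 4⟩))))) (.node 8 (.node 4 (.node 2 (.node 1 (.one ⟨11307, 0, 4⟩) (.one ⟨2881, 3, 6⟩)) (.node 1 (.one ⟨3837, 2, 5⟩) (.one ⟨4164, 3, 4⟩))) (.node 2 (.node 1 (.one ⟨13386, 4, 6⟩) (.one ⟨3841, 2, 6⟩)) (.node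 1 (.one ⟨5662, 4, 5⟩) (.one ⟨4163, 3, 7⟩)))) (.node 4 (.node 2 (.node 1 (.one ⟨16023, 1, 6⟩) (.one ⟨16333, 1, 6⟩)) (.node 1 (.one ⟨6661, 1, 5⟩) (.one ⟨7501, 4, 6⟩))) (.node 2 (.node 1 (.one ⟨15337, 4, 6⟩) (.one ⟨9657, 4, 5⟩)) (.node 1 (.one ⟨4285, 0, 6⟩) (.one ⟨594, 3, 4⟩)))))) (.node 16 (.node 8 (.node 4 (.node 2 (.node 1 (.one ⟨14524, 4, 5⟩) (.one ⟨16137, 4, 6⟩)) (.node 1 (.one ⟨3183, 0, 6⟩) (.one ⟨11172, 2, 5⟩))) (.node 2 (.node 1 (.one ⟨7206, 3, 5⟩) (.one ⟨3772, 2, 4⟩)) (.node 1 (.one ⟨12693, 2, 3⟩) (.one ⟨6247, 0, 5⟩)))) (.node 4 (.node 2 (.node 1 (.one ⟨2346, 1, 6⟩) (.one ⟨9594, 2, 4⟩)) (.node 1 (.one ⟨3797, 3, 4⟩) (.one ⟨5305, 1, 5⟩))) (.node 2 (.node 1 (.one ⟨13033, 0, 5⟩) (.one ⟨14773, 3, 5⟩)) (.node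 1 (.one ⟨14209, 2, 6⟩) (.one ⟨15488, 1, 6⟩))))) (.node 8 (.node 4 (.node 2 (.node 1 (.one ⟨7801, 1, 5⟩) (.one ⟨9151, 4, 7⟩)) (.node 1 (.one ⟨12321, 2, 5⟩) (.one ⟨1850, 4, 6⟩))) (.node 2 (.node 1 (.one ⟨3474, 1, 6⟩) (.one ⟨3020, 1, 6⟩)) (.node 1 (.one ⟨5957, 3, 5⟩) (.one ⟨15463, 1, 4⟩)))) (.node 4 (.node 2 (.node 1 (.one ⟨2548, 0, 5⟩) (.one ⟨12689, 0, 5⟩)) (.node 1 (.one ⟨9635, 0, 4⟩) (.one ⟨7218, 2, 6⟩))) (.node 2 (.node 1 (.one ⟨13278, 3, 7⟩) (.one ⟨7508, 4, 6⟩)) (.node 1 (.one ⟨12017, 3, 4⟩) (.one ⟨4502, 1, 7⟩)))))))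
def par1_15_7 : Arr Par :=
  (.node 32 (.node 16 (.node 8 (.node 4 (.node 2 (.node 1 (.one ⟨1028, 2, 5⟩) (.one ⟨13411, 4, 3⟩)) (.node 1 (.one ⟨1812, 2, 5⟩) (.one ⟨15508, 1, 6⟩))) (.node 2 (.node 1 (.one ⟨14871, 1, 5⟩) (.one ⟨15199, 4, 4⟩)) (.node 1 (.one ⟨1814, 2, 6⟩) (.one ⟨11460, 1, 6⟩)))) (.node 4 (.node 2 (.node 1 (.one ⟨48, 2, 6⟩) (.one ⟨10278, 3, 7⟩)) (.node 1 (.one ⟨13453, 0, 4⟩) (.one ⟨11225, 3, 6⟩))) (.node 2 (.node 1 (.one ⟨4118, 3, 3⟩) (.one ⟨3062, 1, 5⟩)) (.node 1 (.one ⟨4428, 1, 5⟩) (.one ⟨14818, 1, 6⟩))))) (.node 8 (.node 4 (.node 2 (.node 1 (.one ⟨7333, 2, 7⟩) (.one ⟨4642, 0, 5⟩)) (.node 1 (.one ⟨9578, 0, 6⟩) (.one ⟨6820, 3, 6⟩))) (.node 2 (.node 1 (.one ⟨11533, 1, 6⟩) (.one ⟨6721, 2, 6⟩)) (.node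 1 (.one ⟨8870, 0, 6⟩) (.one ⟨10285, 3, 6⟩)))) (.node 4 (.node 2 (.node 1 (.one ⟨5968, 3, 6⟩) (.one ⟨8077, 3, 6⟩)) (.node 1 (.one ⟨3805, 1, 5⟩) (.one ⟨2594, 0, 6⟩))) (.node 2 (.node 1 (.one ⟨15749, 3, 5⟩) (.one ⟨16331, 2, 6⟩)) (.node 1 (.one ⟨16650, 2, 6⟩) (.one ⟨3826, 1, 6⟩)))))) (.node 16 (.node 8 (.node 4 (.node 2 (.node 1 (.one ⟨13733, 2, 6⟩) (.one ⟨15834, 1, 6⟩)) (.node 1 (.one ⟨670, 2, 6⟩) (.one ⟨12273, 3, 5⟩))) (.node 2 (.node 1 (.one ⟨2441, 3, 5⟩) (.one ⟨4610, 0, 6⟩)) (.node 1 (.one ⟨16898, 0, 6⟩) (.one ⟨14880, 1, 4⟩)))) (.node 4 (.node 2 (.node 1 (.one ⟨10625, 0, 5⟩) (.one ⟨15448, 1, 5⟩)) (.node 1 (.one ⟨10978, 3, 4⟩) (.one ⟨2996, 1, 7⟩))) (.node 2 (.node 1 (.one ⟨2522, 0, 6⟩) (.one ⟨3395, 1, 6⟩)) (.node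 1 (.one ⟨3710, 3, 6⟩) (.one ⟨11838, 2, 7⟩))))) (.node 8 (.node 4 (.node 2 (.node 1 (.one ⟨3444, 4, 5⟩) (.one ⟨2893, 2, 6⟩)) (.node 1 (.one ⟨12262, 2, 5⟩) (.one ⟨1785, 2, 7⟩))) (.node 2 (.node 1 (.one ⟨13233, 2, 4⟩) (.one ⟨3810, 1, 6⟩)) (.node 1 (.one ⟨14283, 0, 4⟩) (.one ⟨11495, 1, 6⟩)))) (.node 4 (.node 2 (.node 1 (.one ⟨2313, 2, 6⟩) (.one ⟨4619, 0, 5⟩)) (.node 1 (.one ⟨2772, 4, 6⟩) (.one ⟨7344, 1, 6⟩))) (.node 2 (.node 1 (.one ⟨5353, 4, 6⟩) (.one ⟨14793, 1, 6⟩)) (.node 1 (.one ⟨6794, 2, 6⟩) (.one ⟨13331, 4, 6⟩)))))))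
def par1_15_8 : Arr Par :=
  (.node 32 (.node 16 (.node 8 (.node 4 (.node 2 (.node 1 (.one ⟨1024, 3, 6⟩) (.one ⟨7753, 1, 5⟩)) (.node 1 (.one ⟨9577, 0, 6⟩) (.one ⟨15684, 3, 5⟩))) (.node 2 (.node 1 (.one ⟨3498, 1, 6⟩) (.one ⟨7736, 3, 6⟩)) (.node 1 (.one ⟨3467, 4, 6⟩) (.one ⟨4575, 3, 6⟩)))) (.node 4 (.node 2 (.node 1 (.one ⟨14780, 2, 6⟩) (.one ⟨17172, 2, 5⟩)) (.node 1 (.one ⟨4480, 2, 4⟩) (.one ⟨2774, 4, 5⟩))) (.node 2 (.node 1 (.one ⟨1471, 4, 4⟩) (.one ⟨14987, 2, 6⟩)) (.node 1 (.one ⟨7748, 4, 4⟩) (.one ⟨9282, 3, 5⟩))))) (.node 8 (.node 4 (.node 2 (.node 1 (.one ⟨6049, 4, 7⟩) (.one ⟨13395, 2, 5⟩)) (.node 1 (.one ⟨4093, 2, 5⟩) (.one ⟨2944, 4, 6⟩))) (.node 2 (.node 1 (.one ⟨84, 3, 4⟩) (.one ⟨8329, 2, 4⟩)) (.node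 1 (.one ⟨15678, 3, 6⟩) (.one ⟨14872, 4, 5⟩)))) (.node 4 (.node 2 (.node 1 (.one ⟨2973, 2, 6⟩) (.one ⟨14259, 4, 6⟩)) (.node 1 (.one ⟨15085, 2, 5⟩) (.one ⟨15407, 1, 6⟩))) (.node 2 (.node 1 (.one ⟨14239, 4, 4⟩) (.one ⟨1908, 3, 6⟩)) (.node 1 (.one ⟨9634, 0, 6⟩) (.one ⟨779, 0, 5⟩)))))) (.node 16 (.node 8 (.node 4 (.node 2 (.node 1 (.one ⟨9909, 2, 6⟩) (.one ⟨6066, 2, 5⟩)) (.node 1 (.one ⟨9536, 4, 6⟩) (.one ⟨4547, 0, 6⟩))) (.node 2 (.node 1 (.one ⟨11508, 1, 6⟩) (.one ⟨13682, 2, 4⟩)) (.node 1 (.one ⟨518, 3, 5⟩) (.one ⟨11103, 4, 6⟩)))) (.node 4 (.node 2 (.node 1 (.one ⟨4537, 0, 6⟩) (.one ⟨14990, 2, 7⟩)) (.node 1 (.one ⟨8802, 4, 6⟩) (.one ⟨4000, 4, 6⟩))) (.node 2 (.node 1 (.one ⟨3668, 2, 6⟩) (.one ⟨17001, 4, 7⟩)) (.node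 1 (.one ⟨2505, 3, 6⟩) (.one ⟨9412, 4, 6⟩))))) (.node 8 (.node 4 (.node 2 (.node 1 (.one ⟨2811, 4, 5⟩) (.one ⟨4474, 3, 7⟩)) (.node 1 (.one ⟨3988, 1, 7⟩) (.one ⟨10937, 4, 6⟩))) (.node 2 (.node 1 (.one ⟨466, 2, 6⟩) (.one ⟨2573, 0, 4⟩)) (.node 1 (.one ⟨12073, 1, 6⟩) (.one ⟨2442, 4, 5⟩)))) (.node 4 (.node 2 (.node 1 (.one ⟨3594, 2, 6⟩) (.one ⟨12056, 1, 4⟩)) (.node 1 (.one ⟨10637, 0, 6⟩) (.one ⟨2606, 0, 5⟩))) (.node 2 (.node 1 (.one ⟨10617, 0, 2⟩) (.one ⟨4004, 1, 5⟩)) (.node 1 (.one ⟨12049, 1, 3⟩) (.one ⟨8280, 1, 4⟩)))))))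
def par1_15_9 : Arr Par :=
  (.node 32 (.node 16 (.node 8 (.node 4 (.node 2 (.node 1 (.one ⟨15801, 4, 6⟩) (.one ⟨13628, 4, 6⟩)) (.node 1 (.one ⟨16589, 3, 6⟩) (.one ⟨6279, 0, 6⟩))) (.node 2 (.node 1 (.one ⟨12779, 3, 4⟩) (.one ⟨16327, 1, 3⟩)) (.node 1 (.one ⟨10574, 2, 7⟩) (.one ⟨16312, 1, 3⟩)))) (.node 4 (.node 2 (.node 1 (.one ⟨3437, 2, 6⟩) (.one ⟨14873, 4, 4⟩)) (.node 1 (.one ⟨16303, 1, 5⟩) (.one ⟨14281, 0, 3⟩))) (.node 2 (.node 1 (.one ⟨15091, 4, 6⟩) (.one ⟨16346, 1, 5⟩)) (.node 1 (.one ⟨14346, 0, 4⟩) (.one ⟨14532, 1, 6⟩))))) (.node 8 (.node 4 (.node 2 (.node 1 (.one ⟨2798, 4, 7⟩) (.one ⟨6493, 1, 4⟩)) (.node 1 (.one ⟨9398, 2, 6⟩) (.one ⟨6668, 4, 6⟩))) (.node 2 (.node 1 (.one ⟨1072, 3, 3⟩) (.one ⟨4935, 3, 6⟩))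 (.node 1 (.one ⟨5768, 3, 5⟩) (.one ⟨12263, 0, 5⟩)))) (.node 4 (.node 2 (.node 1 (.one ⟨8832, 2, 4⟩) (.one ⟨6896, 4, 5⟩)) (.node 1 (.one ⟨12313, 0, 6⟩) (.one ⟨12331, 0, 5⟩))) (.node 2 (.node 1 (.one ⟨13051, 4, 6⟩) (.one ⟨4154, 0, 5⟩)) (.node 1 (.one ⟨6510, 1, 5⟩) (.one ⟨9462, 4, 5⟩)))))) (.node 16 (.node 8 (.node 4 (.node 2 (.node 1 (.one ⟨1357, 3, 5⟩) (.one ⟨13531, 2, 6⟩)) (.node 1 (.one ⟨14025, 3, 6⟩) (.one ⟨12942, 3, 5⟩))) (.node 2 (.node 1 (.one ⟨8385, 4, 6⟩) (.one ⟨14590, 1, 6⟩)) (.node 1 (.one ⟨14615, 1, 5⟩) (.one ⟨12419, 0, 7⟩)))) (.node 4 (.node 2 (.node 1 (.one ⟨15479, 3, 6⟩) (.one ⟨4634, 2, 6⟩)) (.node 1 (.one ⟨8199, 3, 4⟩) (.one ⟨4387, 0, 4⟩))) (.node 2 (.node 1 (.one ⟨9981, 2, 5⟩) (.one ⟨1424, 3,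 6⟩)) (.node 1 (.one ⟨6523, 1, 5⟩) (.one ⟨16568, 3, 6⟩))))) (.node 8 (.node 4 (.node 2 (.node 1 (.one ⟨16148, 4, 5⟩) (.one ⟨2298, 1, 5⟩)) (.node 1 (.one ⟨9242, 2, 5⟩) (.one ⟨8552, 3, 5⟩))) (.node 2 (.node 1 (.one ⟨1008, 3, 6⟩) (.one ⟨12379, 0, 6⟩)) (.node 1 (.one ⟨10373, 1, 5⟩) (.one ⟨16930, 4, 5⟩)))) (.node 4 (.node 2 (.node 1 (.one ⟨12344, 0, 3⟩) (.one ⟨9827, 3, 5⟩)) (.node 1 (.one ⟨6162, 4, 4⟩) (.one ⟨1407, 4, 4⟩))) (.node 2 (.node 1 (.one ⟨12430, 0, 6⟩) (.one ⟨3822, 2, 6⟩)) (.node 1 (.one ⟨9212, 3, 5⟩) (.one ⟨4258, 0, 5⟩)))))))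
def par1_15_10 : Arr Par :=
  (.node 32 (.node 16 (.node 8 (.node 4 (.node 2 (.node 1 (.one ⟨4242, 0, 5⟩) (.one ⟨2242, 1, 6⟩)) (.node 1 (.one ⟨9547, 3, 5⟩) (.one ⟨1718, 4, 7⟩))) (.node 2 (.node 1 (.one ⟨10334, 1, 5⟩) (.one ⟨9951, 4, 6⟩)) (.node 1 (.one ⟨10294, 1, 6⟩) (.one ⟨6809, 2, 6⟩)))) (.node 4 (.node 2 (.node 1 (.one ⟨11176, 3, 6⟩) (.one ⟨14305, 2, 7⟩)) (.node 1 (.one ⟨2229, 1, 5⟩) (.one ⟨12240, 0, 6⟩))) (.node 2 (.node 1 (.one ⟨2268, 1, 6⟩) (.one ⟨12322, 0, 5⟩)) (.node 1 (.one ⟨9098, 2, 5⟩) (.one ⟨189, 3, 6⟩))))) (.node 8 (.node 4 (.node 2 (.node 1 (.one ⟨8007, 3, 5⟩) (.one ⟨2496, 0, 5⟩)) (.node 1 (.one ⟨16399, 1, 5⟩) (.one ⟨2545, 0, 4⟩))) (.node 2 (.node 1 (.one ⟨16831, 2, 6⟩) (.one ⟨13910, 2, 6⟩)) (.node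 1 (.one ⟨16380, 1, 4⟩) (.one ⟨16390, 1, 5⟩)))) (.node 4 (.node 2 (.node 1 (.one ⟨9229, 2, 6⟩) (.one ⟨6778, 4, 5⟩)) (.node 1 (.one ⟨16416, 1, 5⟩) (.one ⟨10630, 0, 6⟩))) (.node 2 (.node 1 (.one ⟨13630, 4, 6⟩) (.one ⟨8346, 1, 6⟩)) (.node 1 (.one ⟨11289, 2, 6⟩) (.one ⟨9630, 4, 6⟩)))))) (.node 16 (.node 8 (.node 4 (.node 2 (.node 1 (.one ⟨8975, 2, 5⟩) (.one ⟨9629, 3, 6⟩)) (.node 1 (.one ⟨3219, 4, 7⟩) (.one ⟨2159, 4, 6⟩))) (.node 2 (.node 1 (.one ⟨15589, 4, 7⟩) (.one ⟨7775, 2, 6⟩)) (.node 1 (.one ⟨6259, 0, 5⟩) (.one ⟨14271, 0, 6⟩)))) (.node 4 (.node 2 (.node 1 (.one ⟨11969, 1, 5⟩) (.one ⟨14342, 0, 6⟩)) (.node 1 (.one ⟨8175, 2, 6⟩) (.one ⟨3923, 1, 6⟩))) (.node 2 (.node 1 (.one ⟨2936, 3, 6⟩) (.one ⟨3932, 1, 5⟩)) (.node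 1 (.one ⟨5159, 4, 5⟩) (.one ⟨4317, 3, 6⟩))))) (.node 8 (.node 4 (.node 2 (.node 1 (.one ⟨3007, 3, 4⟩) (.one ⟨3614, 4, 6⟩)) (.node 1 (.one ⟨10561, 2, 6⟩) (.one ⟨2245, 4, 7⟩))) (.node 2 (.node 1 (.one ⟨5888, 1, 6⟩) (.one ⟨7739, 3, 4⟩)) (.node 1 (.one ⟨2902, 0, 5⟩) (.one ⟨16930, 3, 5⟩)))) (.node 4 (.node 2 (.node 1 (.one ⟨6447, 4, 5⟩) (.one ⟨12879, 1, 6⟩)) (.node 1 (.one ⟨1290, 3, 5⟩) (.one ⟨5996, 3, 6⟩))) (.node 2 (.node 1 (.one ⟨292, 4, 6⟩) (.one ⟨5878, 1, 4⟩)) (.node 1 (.one ⟨2862, 1, 5⟩) (.one ⟨15980, 0, 6⟩)))))))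
def par1_15_11 : Arr Par :=
  (.node 32 (.node 16 (.node 8 (.node 4 (.node 2 (.node 1 (.one ⟨13835, 4, 5⟩) (.one ⟨12357, 0, 5⟩)) (.node 1 (.one ⟨8180, 1, 4⟩) (.one ⟨4880, 2, 7⟩))) (.node 2 (.node 1 (.one ⟨4888, 4, 6⟩) (.one ⟨12903, 1, 5⟩)) (.node 1 (.one ⟨5132, 0, 5⟩) (.one ⟨6670, 3, 5⟩)))) (.node 4 (.node 2 (.node 1 (.one ⟨15968, 0, 6⟩) (.one ⟨4342, 0, 6⟩)) (.node 1 (.one ⟨8204, 1, 4⟩) (.one ⟨14267, 2, 6⟩))) (.node 2 (.node 1 (.one ⟨18, 2, 6⟩) (.one ⟨320, 2, 7⟩)) (.node 1 (.one ⟨6668, 3, 6⟩) (.one ⟨5143, 0, 6⟩))))) (.node 8 (.node 4 (.node 2 (.node 1 (.one ⟨14281, 2, 3⟩) (.one ⟨801, 2, 6⟩)) (.node 1 (.one ⟨12829, 4, 6⟩) (.one ⟨12109, 3, 6⟩))) (.node 2 (.node 1 (.one ⟨13223, 2, 5⟩) (.one ⟨15728, 4, 6⟩)) (.node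 1 (.one ⟨11673, 2, 4⟩) (.one ⟨10470, 2, 6⟩)))) (.node 4 (.node 2 (.node 1 (.one ⟨7189, 4, 6⟩) (.one ⟨15073, 4, 6⟩)) (.node 1 (.one ⟨5122, 0, 5⟩) (.one ⟨9635, 2, 4⟩))) (.node 2 (.node 1 (.one ⟨16496, 0, 6⟩) (.one ⟨13238, 1, 6⟩)) (.node 1 (.one ⟨7803, 1, 5⟩) (.one ⟨8236, 1, 3⟩)))))) (.node 16 (.node 8 (.node 4 (.node 2 (.node 1 (.one ⟨5189, 1, 7⟩) (.one ⟨8508, 3, 5⟩)) (.node 1 (.one ⟨7839, 2, 5⟩) (.one ⟨11682, 2, 6⟩))) (.node 2 (.node 1 (.one ⟨14422, 1, 5⟩) (.one ⟨240, 3, 5⟩)) (.node 1 (.one ⟨9512, 4, 6⟩) (.one ⟨3673, 3, 6⟩)))) (.node 4 (.node 2 (.node 1 (.one ⟨3013, 2, 4⟩) (.one ⟨6160, 3, 4⟩)) (.node 1 (.one ⟨16624, 2, 7⟩) (.one ⟨1937, 4, 4⟩))) (.node 2 (.node 1 (.one ⟨2339, 2, 5⟩) (.one ⟨6005, 3, 6⟩)) (.node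 1 (.one ⟨2570, 4, 5⟩) (.one ⟨16719, 3, 6⟩))))) (.node 8 (.node 4 (.node 2 (.node 1 (.one ⟨14780, 3, 6⟩) (.one ⟨797, 4, 4⟩)) (.node 1 (.one ⟨11728, 3, 5⟩) (.one ⟨6634, 4, 5⟩))) (.node 2 (.node 1 (.one ⟨12135, 2, 4⟩) (.one ⟨16807, 0, 4⟩)) (.node 1 (.one ⟨7085, 4, 6⟩) (.one ⟨10537, 0, 7⟩)))) (.node 4 (.node 2 (.node 1 (.one ⟨2113, 0, 5⟩) (.one ⟨11206, 4, 6⟩)) (.node 1 (.one ⟨7453, 0, 5⟩) (.one ⟨4114, 4, 4⟩))) (.node 2 (.node 1 (.one ⟨5509, 3, 5⟩) (.one ⟨2379, 2, 5⟩)) (.node 1 (.one ⟨14715, 4, 5⟩) (.one ⟨3362, 2, 6⟩)))))))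
def par1_15_12 : Arr Par :=
  (.node 32 (.node 16 (.node 8 (.node 4 (.node 2 (.node 1 (.one ⟨498, 3, 5⟩) (.one ⟨10276, 0, 4⟩)) (.node 1 (.one ⟨16164, 3, 5⟩) (.one ⟨6997, 0, 4⟩))) (.node 2 (.node 1 (.one ⟨11396, 2, 5⟩) (.one ⟨3860, 0, 5⟩)) (.node 1 (.one ⟨2472, 0, 5⟩) (.one ⟨802, 4, 4⟩)))) (.node 4 (.node 2 (.node 1 (.one ⟨8689, 0, 6⟩) (.one ⟨17190, 2, 5⟩)) (.node 1 (.one ⟨10043, 2, 6⟩) (.one ⟨153, 1, 6⟩))) (.node 2 (.node 1 (.one ⟨11144, 4, 6⟩) (.one ⟨4474, 4, 7⟩)) (.node 1 (.one ⟨15940, 1, 5⟩) (.one ⟨13472, 1, 5⟩))))) (.node 8 (.node 4 (.node 2 (.node 1 (.one ⟨14661, 1, 6⟩) (.one ⟨5505, 2, 6⟩)) (.node 1 (.one ⟨16990, 0, 5⟩) (.one ⟨2259, 4, 6⟩))) (.node 2 (.node 1 (.one ⟨5028, 3, 4⟩) (.one ⟨15950, 1, 5⟩)) (.node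 1 (.one ⟨11760, 2, 7⟩) (.one ⟨10317, 1, 5⟩)))) (.node 4 (.node 2 (.node 1 (.one ⟨15683, 2, 6⟩) (.one ⟨12150, 2, 5⟩)) (.node 1 (.one ⟨15228, 3, 6⟩) (.one ⟨4988, 1, 4⟩))) (.node 2 (.node 1 (.one ⟨13545, 3, 6⟩) (.one ⟨15941, 1, 4⟩)) (.node 1 (.one ⟨8327, 1, 5⟩) (.one ⟨1610, 2, 7⟩)))))) (.node 16 (.node 8 (.node 4 (.node 2 (.node 1 (.one ⟨16725, 2, 4⟩) (.one ⟨3665, 4, 6⟩)) (.node 1 (.one ⟨4439, 2, 4⟩) (.one ⟨15749, 4, 5⟩))) (.node 2 (.node 1 (.one ⟨9527, 4, 4⟩) (.one ⟨3844, 0, 5⟩)) (.node 1 (.one ⟨13088, 2, 6⟩) (.one ⟨15242, 2, 4⟩)))) (.node 4 (.node 2 (.node 1 (.one ⟨16348, 3, 6⟩) (.one ⟨5020, 1, 6⟩)) (.node 1 (.one ⟨12958, 4, 6⟩) (.one ⟨13498, 3, 6⟩))) (.node 2 (.node 1 (.one ⟨4444, 3, 6⟩) (.one ⟨8731, 0, 5⟩))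 (.node 1 (.one ⟨1096, 2, 5⟩) (.one ⟨5701, 3, 6⟩))))) (.node 8 (.node 4 (.node 2 (.node 1 (.one ⟨9138, 3, 5⟩) (.one ⟨6424, 1, 5⟩)) (.node 1 (.one ⟨16086, 1, 5⟩) (.one ⟨12119, 1, 6⟩))) (.node 2 (.node 1 (.one ⟨411, 3, 5⟩) (.one ⟨5076, 2, 6⟩)) (.node 1 (.one ⟨7993, 3, 5⟩) (.one ⟨13350, 2, 6⟩)))) (.node 4 (.node 2 (.node 1 (.one ⟨14858, 4, 6⟩) (.one ⟨16986, 0, 3⟩)) (.node 1 (.one ⟨6398, 1, 6⟩) (.one ⟨12493, 2, 6⟩))) (.node 2 (.node 1 (.one ⟨14393, 3, 6⟩) (.one ⟨16879, 4, 4⟩)) (.node 1 (.one ⟨1204, 2, 4⟩) (.one ⟨2443, 0, 5⟩)))))))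
def par1_15_13 : Arr Par :=
  (.node 32 (.node 16 (.node 8 (.node 4 (.node 2 (.node 1 (.one ⟨7627, 3, 5⟩) (.one ⟨11523, 4, 5⟩)) (.node 1 (.one ⟨13240, 1, 6⟩) (.one ⟨8221, 4, 5⟩))) (.node 2 (.node 1 (.one ⟨800, 2, 6⟩) (.one ⟨16676, 4, 5⟩)) (.node 1 (.one ⟨16560, 4, 5⟩) (.one ⟨4784, 0, 4⟩)))) (.node 4 (.node 2 (.node 1 (.one ⟨7153, 2, 3⟩) (.one ⟨5243, 1, 7⟩)) (.node 1 (.one ⟨2603, 3, 5⟩) (.one ⟨10091, 2, 5⟩))) (.node 2 (.node 1 (.one ⟨11419, 0, 6⟩) (.one ⟨5909, 4, 3⟩)) (.node 1 (.one ⟨7414, 1, 6⟩) (.one ⟨11326, 0, 6⟩))))) (.node 8 (.node 4 (.node 2 (.node 1 (.one ⟨10918, 3, 5⟩) (.one ⟨17004, 0, 6⟩)) (.node 1 (.one ⟨10873, 3, 6⟩) (.one ⟨6734, 0, 6⟩))) (.node 2 (.node 1 (.one ⟨2825, 3, 6⟩) (.one ⟨4836, 0, 6⟩))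 (.node 1 (.one ⟨2831, 3, 5⟩) (.one ⟨6829, 0, 6⟩)))) (.node 4 (.node 2 (.node 1 (.one ⟨16392, 3, 6⟩) (.one ⟨16997, 0, 6⟩)) (.node 1 (.one ⟨16237, 0, 7⟩) (.one ⟨3291, 0, 4⟩))) (.node 2 (.node 1 (.one ⟨5697, 3, 6⟩) (.one ⟨12867, 0, 5⟩)) (.node 1 (.one ⟨11595, 0, 6⟩) (.one ⟨11169, 1, 7⟩)))))) (.node 16 (.node 8 (.node 4 (.node 2 (.node 1 (.one ⟨4307, 2, 5⟩) (.one ⟨5624, 4, 6⟩)) (.node 1 (.one ⟨10872, 3, 5⟩) (.one ⟨14890, 0, 6⟩))) (.node 2 (.node 1 (.one ⟨16950, 0, 5⟩) (.one ⟨10073, 1, 5⟩)) (.node 1 (.one ⟨385, 4, 6⟩) (.one ⟨15920, 3, 6⟩)))) (.node 4 (.node 2 (.node 1 (.one ⟨1738, 2, 6⟩) (.one ⟨16609, 4, 7⟩)) (.node 1 (.one ⟨13308, 1, 6⟩) (.one ⟨14742, 4, 4⟩))) (.node 2 (.node 1 (.one ⟨12441, 4, 6⟩) (.one ⟨4200,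 2, 6⟩)) (.node 1 (.one ⟨10054, 1, 6⟩) (.one ⟨11235, 1, 5⟩))))) (.node 8 (.node 4 (.node 2 (.node 1 (.one ⟨11418, 4, 6⟩) (.one ⟨3709, 0, 5⟩)) (.node 1 (.one ⟨15748, 2, 6⟩) (.one ⟨10192, 3, 7⟩))) (.node 2 (.node 1 (.one ⟨14514, 1, 6⟩) (.one ⟨17160, 3, 5⟩)) (.node 1 (.one ⟨14821, 2, 6⟩) (.one ⟨6690, 2, 5⟩)))) (.node 4 (.node 2 (.node 1 (.one ⟨10813, 3, 5⟩) (.one ⟨4245, 1, 4⟩)) (.node 1 (.one ⟨916, 2, 5⟩) (.one ⟨6876, 0, 4⟩))) (.node 2 (.node 1 (.one ⟨16520, 0, 5⟩) (.one ⟨98, 2, 6⟩)) (.node 1 (.one ⟨8293, 3, 6⟩) (.one ⟨4922, 1, 5⟩)))))))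
def par1_15_14 : Arr Par :=
  (.node 32 (.node 16 (.node 8 (.node 4 (.node 2 (.node 1 (.one ⟨12431, 4, 6⟩) (.one ⟨3088, 4, 6⟩)) (.node 1 (.one ⟨8473, 3, 5⟩) (.one ⟨10158, 4, 4⟩))) (.node 2 (.node 1 (.one ⟨11759, 0, 3⟩) (.one ⟨2547, 0, 4⟩)) (.node 1 (.one ⟨8783, 3, 6⟩) (.one ⟨4223, 3, 3⟩)))) (.node 4 (.node 2 (.node 1 (.one ⟨5420, 4, 7⟩) (.one ⟨8720, 2, 6⟩)) (.node 1 (.one ⟨8721, 2, 5⟩) (.one ⟨959, 3, 5⟩))) (.node 2 (.node 1 (.one ⟨8722, 2, 6⟩) (.one ⟨8810, 3, 6⟩)) (.node 1 (.one ⟨12587, 4, 5⟩) (.one ⟨14553, 1, 6⟩))))) (.node 8 (.node 4 (.node 2 (.node 1 (.one ⟨4145, 3, 6⟩) (.one ⟨16760, 2, 6⟩)) (.node 1 (.one ⟨4179, 1, 6⟩) (.one ⟨16608, 4, 6⟩))) (.node 2 (.node 1 (.one ⟨16054, 3, 6⟩) (.one ⟨3725, 0, 4⟩)) (.node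 1 (.one ⟨15405, 0, 4⟩) (.one ⟨16263, 4, 4⟩)))) (.node 4 (.node 2 (.node 1 (.one ⟨3154, 1, 5⟩) (.one ⟨14635, 4, 6⟩)) (.node 1 (.one ⟨15760, 4, 5⟩) (.one ⟨763, 2, 6⟩))) (.node 2 (.node 1 (.one ⟨1001, 0, 5⟩) (.one ⟨757, 2, 6⟩)) (.node 1 (.one ⟨3272, 3, 5⟩) (.one ⟨3147, 1, 6⟩)))))) (.node 16 (.node 8 (.node 4 (.node 2 (.node 1 (.one ⟨7192, 4, 4⟩) (.one ⟨11776, 0, 3⟩)) (.node 1 (.one ⟨11777, 2, 4⟩) (.one ⟨3217, 3, 6⟩))) (.node 2 (.node 1 (.one ⟨11011, 2, 4⟩) (.one ⟨13013, 1, 6⟩)) (.node 1 (.one ⟨16831, 1, 6⟩) (.one ⟨11406, 4, 5⟩)))) (.node 4 (.node 2 (.node 1 (.one ⟨3277, 4, 5⟩) (.one ⟨11998, 0, 7⟩)) (.node 1 (.one ⟨5727, 3, 7⟩) (.one ⟨11417, 4, 5⟩))) (.node 2 (.node 1 (.one ⟨3289, 4, 3⟩) (.one ⟨17132, 0, 4⟩)) (.node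 1 (.one ⟨11322, 4, 5⟩) (.one ⟨15189, 2, 4⟩))))) (.node 8 (.node 4 (.node 2 (.node 1 (.one ⟨13037, 0, 4⟩) (.one ⟨15382, 0, 5⟩)) (.node 1 (.one ⟨2080, 1, 6⟩) (.one ⟨5284, 1, 5⟩))) (.node 2 (.node 1 (.one ⟨16117, 4, 5⟩) (.one ⟨9231, 2, 6⟩)) (.node 1 (.one ⟨1796, 3, 2⟩) (.one ⟨1843, 3, 3⟩)))) (.node 4 (.node 2 (.node 1 (.one ⟨5680, 3, 2⟩) (.one ⟨7632, 0, 4⟩)) (.node 1 (.one ⟨8750, 1, 6⟩) (.one ⟨7144, 4, 7⟩))) (.node 2 (.node 1 (.one ⟨11359, 3, 6⟩) (.one ⟨6893, 0, 5⟩)) (.node 1 (.one ⟨16405, 0, 5⟩) (.one ⟨12465, 4, 6⟩)))))))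
def par1_15_15 : Arr Par :=
  (.node 32 (.node 16 (.node 8 (.node 4 (.node 2 (.node 1 (.one ⟨8704, 1, 6⟩) (.one ⟨4482, 2, 4⟩)) (.node 1 (.one ⟨9626, 4, 4⟩) (.one ⟨9814, 2, 6⟩))) (.node 2 (.node 1 (.one ⟨8051, 1, 6⟩) (.one ⟨5986, 3, 6⟩)) (.node 1 (.one ⟨5078, 4, 6⟩) (.one ⟨5086, 2, 2⟩)))) (.node 4 (.node 2 (.node 1 (.one ⟨1569, 2, 6⟩) (.one ⟨13300, 1, 6⟩)) (.node 1 (.one ⟨12979, 0, 5⟩) (.one ⟨5409, 3, 5⟩))) (.node 2 (.node 1 (.one ⟨5030, 2, 5⟩) (.one ⟨4822, 2, 5⟩)) (.node 1 (.one ⟨5413, 3, 5⟩) (.one ⟨13268, 1, 6⟩))))) (.node 8 (.node 4 (.node 2 (.node 1 (.one ⟨16655, 4, 5⟩) (.one ⟨6335, 1, 5⟩)) (.node 1 (.one ⟨15893, 4, 5⟩) (.one ⟨974, 0, 5⟩))) (.node 2 (.node 1 (.one ⟨8077, 1, 6⟩) (.one ⟨1233, 4, 6⟩)) (.node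 1 (.one ⟨13022, 0, 6⟩) (.one ⟨2708, 2, 6⟩)))) (.node 4 (.node 2 (.node 1 (.one ⟨7330, 0, 6⟩) (.one ⟨9856, 2, 4⟩)) (.node 1 (.one ⟨8755, 2, 4⟩) (.one ⟨9875, 4, 6⟩))) (.node 2 (.node 1 (.one ⟨8761, 3, 5⟩) (.one ⟨4955, 0, 4⟩)) (.node 1 (.one ⟨8334, 0, 4⟩) (.one ⟨11021, 2, 6⟩)))))) (.node 16 (.node 8 (.node 4 (.node 2 (.node 1 (.one ⟨13743, 4, 6⟩) (.one ⟨8341, 0, 6⟩)) (.node 1 (.one ⟨5927, 3, 6⟩) (.one ⟨12205, 1, 5⟩))) (.node 2 (.node 1 (.one ⟨10076, 1, 5⟩) (.one ⟨5161, 0, 4⟩)) (.node 1 (.one ⟨7222, 4, 5⟩) (.one ⟨7371, 1, 6⟩)))) (.node 4 (.node 2 (.node 1 (.one ⟨1569, 3, 6⟩) (.one ⟨14773, 4, 5⟩)) (.node 1 (.one ⟨8722, 1, 6⟩) (.one ⟨2482, 2, 6⟩))) (.node 2 (.node 1 (.one ⟨2036, 1, 6⟩) (.one ⟨889, 0, 5⟩)) (.node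 1 (.one ⟨15488, 3, 6⟩) (.one ⟨4382, 2, 6⟩))))) (.node 8 (.node 4 (.node 2 (.node 1 (.one ⟨15495, 3, 6⟩) (.one ⟨11542, 4, 6⟩)) (.node 1 (.one ⟨13001, 2, 6⟩) (.one ⟨13089, 1, 5⟩))) (.node 2 (.node 1 (.one ⟨10488, 0, 5⟩) (.one ⟨3847, 2, 6⟩)) (.node 1 (.one ⟨13652, 2, 6⟩) (.one ⟨6862, 1, 4⟩)))) (.node 4 (.node 2 (.node 1 (.one ⟨6640, 2, 6⟩) (.one ⟨11347, 0, 5⟩)) (.node 1 (.one ⟨12758, 2, 6⟩) (.one ⟨15671, 2, 6⟩))) (.node 2 (.node 1 (.one ⟨7722, 1, 3⟩) (.one ⟨5708, 0, 6⟩)) (.node 1 (.one ⟨4565, 4, 2⟩) (.one ⟨17143, 2, 7⟩)))))))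
def par1_15 : Arr Par :=
  (.node 512 (.node 256 (.node 128 (.node 64 par1_15_0 par1_15_1) (.node 64 par1_15_2 par1_15_3)) (.node 128 (.node 64 par1_15_4 par1_15_5) (.node 64 par1_15_6 par1_15_7))) (.node 256 (.node 128 (.node 64 par1_15_8 par1_15_9) (.node 64 par1_15_10 par1_15_11)) (.node 128 (.node 64 par1_15_12 par1_15_13) (.node 64 par1_15_14 par1_15_15))))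
def par1_16_0 : Arr Par :=
  (.node 32 (.node 16 (.node 8 (.node 4 (.node 2 (.node 1 (.one ⟨16676, 2, 5⟩) (.one ⟨12424, 4, 6⟩)) (.node 1 (.one ⟨12210, 1, 6⟩) (.one ⟨16568, 4, 6⟩))) (.node 2 (.node 1 (.one ⟨5491, 0, 6⟩) (.one ⟨16163, 0, 6⟩)) (.node 1 (.one ⟨10505, 0, 4⟩) (.one ⟨11130, 2, 6⟩)))) (.node 4 (.node 2 (.node 1 (.one ⟨12437, 4, 5⟩) (.one ⟨5701, 0, 6⟩)) (.node 1 (.one ⟨4480, 3, 4⟩) (.one ⟨11568, 4, 6⟩))) (.node 2 (.node 1 (.one ⟨3193, 1, 6⟩) (.one ⟨8056, 2, 5⟩)) (.node 1 (.one ⟨10476, 0, 6⟩) (.one ⟨7710, 1, 4⟩))))) (.node 8 (.node 4 (.node 2 (.node 1 (.one ⟨7965, 4, 4⟩) (.one ⟨165, 4, 5⟩)) (.node 1 (.one ⟨3251, 0, 4⟩) (.one ⟨16157, 3, 5⟩))) (.node 2 (.node 1 (.one ⟨13558, 0, 7⟩) (.one ⟨10242, 4, 4⟩))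 (.node 1 (.one ⟨8094, 0, 3⟩) (.one ⟨680, 2, 5⟩)))) (.node 4 (.node 2 (.node 1 (.one ⟨5581, 2, 5⟩) (.one ⟨9459, 4, 5⟩)) (.node 1 (.one ⟨15565, 4, 5⟩) (.one ⟨6561, 1, 6⟩))) (.node 2 (.node 1 (.one ⟨739, 1, 6⟩) (.one ⟨1712, 2, 6⟩)) (.node 1 (.one ⟨5724, 2, 6⟩) (.one ⟨254, 1, 5⟩)))))) (.node 16 (.node 8 (.node 4 (.node 2 (.node 1 (.one ⟨11673, 3, 4⟩) (.one ⟨9294, 3, 6⟩)) (.node 1 (.one ⟨12480, 3, 7⟩) (.one ⟨6574, 1, 6⟩))) (.node 2 (.node 1 (.one ⟨4164, 1, 4⟩) (.one ⟨5028, 1, 4⟩)) (.node 1 (.one ⟨1951, 4, 6⟩) (.one ⟨139, 3, 5⟩)))) (.node 4 (.node 2 (.node 1 (.one ⟨11280, 4, 5⟩) (.one ⟨2475, 0, 6⟩)) (.node 1 (.one ⟨9987, 2, 5⟩) (.one ⟨6542, 1, 3⟩))) (.node 2 (.node 1 (.one ⟨7818, 3, 6⟩) (.one ⟨16791, 0, 4⟩)) (.node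 1 (.one ⟨6090, 3, 6⟩) (.one ⟨14958, 3, 6⟩))))) (.node 8 (.node 4 (.node 2 (.node 1 (.one ⟨1001, 2, 5⟩) (.one ⟨16198, 2, 6⟩)) (.node 1 (.one ⟨13033, 3, 5⟩) (.one ⟨12876, 0, 7⟩))) (.node 2 (.node 1 (.one ⟨3256, 0, 6⟩) (.one ⟨12931, 2, 4⟩)) (.node 1 (.one ⟨8531, 2, 6⟩) (.one ⟨8697, 2, 6⟩)))) (.node 4 (.node 2 (.node 1 (.one ⟨2946, 2, 6⟩) (.one ⟨16945, 1, 6⟩)) (.node 1 (.one ⟨16249, 0, 5⟩) (.one ⟨16454, 2, 4⟩))) (.node 2 (.node 1 (.one ⟨4783, 0, 6⟩) (.one ⟨6336, 0, 5⟩)) (.node 1 (.one ⟨7762, 2, 6⟩) (.one ⟨411, 4, 5⟩)))))))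
def par1_16_1 : Arr Par :=
  (.node 32 (.node 16 (.node 8 (.node 4 (.node 2 (.node 1 (.one ⟨8334, 2, 4⟩) (.one ⟨14422, 0, 5⟩)) (.node 1 (.one ⟨11646, 1, 6⟩) (.one ⟨8919, 1, 6⟩))) (.node 2 (.node 1 (.one ⟨3495, 4, 6⟩) (.one ⟨12435, 3, 5⟩)) (.node 1 (.one ⟨8236, 0, 3⟩) (.one ⟨4476, 3, 7⟩)))) (.node 4 (.node 2 (.node 1 (.one ⟨14022, 3, 4⟩) (.one ⟨16177, 3, 6⟩)) (.node 1 (.one ⟨8180, 0, 4⟩) (.one ⟨16929, 4, 5⟩))) (.node 2 (.node 1 (.one ⟨15476, 1, 5⟩) (.one ⟨5858, 0, 5⟩)) (.node 1 (.one ⟨15167, 4, 6⟩) (.one ⟨7349, 2, 6⟩))))) (.node 8 (.node 4 (.node 2 (.node 1 (.one ⟨16980, 1, 5⟩) (.one ⟨1741, 1, 6⟩)) (.node 1 (.one ⟨13769, 4, 4⟩) (.one ⟨3723, 3, 4⟩))) (.node 2 (.node 1 (.one ⟨3720, 3, 5⟩) (.one ⟨1088, 2, 3⟩))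 (.node 1 (.one ⟨3724, 3, 6⟩) (.one ⟨12488, 2, 5⟩)))) (.node 4 (.node 2 (.node 1 (.one ⟨8918, 1, 5⟩) (.one ⟨16249, 4, 5⟩)) (.node 1 (.one ⟨8204, 4, 4⟩) (.one ⟨14105, 3, 7⟩))) (.node 2 (.node 1 (.one ⟨10740, 2, 7⟩) (.one ⟨8215, 4, 5⟩)) (.node 1 (.one ⟨7415, 1, 6⟩) (.one ⟨16956, 1, 5⟩)))))) (.node 16 (.node 8 (.node 4 (.node 2 (.node 1 (.one ⟨13866, 4, 4⟩) (.one ⟨13233, 3, 4⟩)) (.node 1 (.one ⟨9336, 2, 6⟩) (.one ⟨3306, 0, 5⟩))) (.node 2 (.node 1 (.one ⟨16996, 3, 5⟩) (.one ⟨16467, 3, 5⟩)) (.node 1 (.one ⟨6278, 3, 4⟩) (.one ⟨7446, 1, 6⟩)))) (.node 4 (.node 2 (.node 1 (.one ⟨136, 3, 6⟩) (.one ⟨384, 2, 6⟩)) (.node 1 (.one ⟨15883, 3, 6⟩) (.one ⟨17157, 4, 4⟩))) (.node 2 (.node 1 (.one ⟨2862, 0, 5⟩) (.one ⟨15522, 4,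 5⟩)) (.node 1 (.one ⟨8050, 3, 5⟩) (.one ⟨3904, 3, 5⟩))))) (.node 8 (.node 4 (.node 2 (.node 1 (.one ⟨15684, 1, 5⟩) (.one ⟨15934, 0, 4⟩)) (.node 1 (.one ⟨6568, 0, 6⟩) (.one ⟨12011, 0, 4⟩))) (.node 2 (.node 1 (.one ⟨10424, 2, 5⟩) (.one ⟨2198, 4, 6⟩)) (.node 1 (.one ⟨2192, 4, 5⟩) (.one ⟨15820, 4, 4⟩)))) (.node 4 (.node 2 (.node 1 (.one ⟨9103, 4, 5⟩) (.one ⟨15701, 1, 5⟩)) (.node 1 (.one ⟨7700, 3, 4⟩) (.one ⟨1028, 1, 5⟩))) (.node 2 (.node 1 (.one ⟨14203, 4, 7⟩) (.one ⟨10378, 4, 3⟩)) (.node 1 (.one ⟨436, 0, 6⟩) (.one ⟨16734, 4, 5⟩)))))))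
def par1_16_2 : Arr Par :=
  (.node 32 (.node 16 (.node 8 (.node 4 (.node 2 (.node 1 (.one ⟨11872, 3, 5⟩) (.one ⟨15919, 0, 7⟩)) (.node 1 (.one ⟨16950, 3, 5⟩) (.one ⟨12805, 3, 5⟩))) (.node 2 (.node 1 (.one ⟨12121, 2, 4⟩) (.one ⟨2519, 2, 5⟩)) (.node 1 (.one ⟨7958, 1, 5⟩) (.one ⟨5391, 0, 7⟩)))) (.node 4 (.node 2 (.node 1 (.one ⟨6980, 2, 4⟩) (.one ⟨1471, 3, 4⟩)) (.node 1 (.one ⟨793, 2, 5⟩) (.one ⟨1913, 1, 6⟩))) (.node 2 (.node 1 (.one ⟨6977, 2, 6⟩) (.one ⟨2788, 3, 6⟩)) (.node 1 (.one ⟨5102, 1, 4⟩) (.one ⟨16615, 2, 5⟩))))) (.node 8 (.node 4 (.node 2 (.node 1 (.one ⟨16260, 3, 4⟩) (.one ⟨7245, 3, 5⟩)) (.node 1 (.one ⟨10993, 4, 6⟩) (.one ⟨13457, 0, 5⟩))) (.node 2 (.node 1 (.one ⟨5500, 3, 7⟩) (.one ⟨7550, 2, 4⟩)) (.node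 1 (.one ⟨5153, 4, 5⟩) (.one ⟨16193, 3, 6⟩)))) (.node 4 (.node 2 (.node 1 (.one ⟨9585, 4, 6⟩) (.one ⟨16399, 3, 5⟩)) (.node 1 (.one ⟨5695, 2, 5⟩) (.one ⟨16261, 3, 5⟩))) (.node 2 (.node 1 (.one ⟨2206, 3, 6⟩) (.one ⟨16337, 3, 6⟩)) (.node 1 (.one ⟨7201, 1, 6⟩) (.one ⟨5062, 1, 5⟩)))))) (.node 16 (.node 8 (.node 4 (.node 2 (.node 1 (.one ⟨7950, 2, 6⟩) (.one ⟨12768, 2, 6⟩)) (.node 1 (.one ⟨797, 3, 4⟩) (.one ⟨16019, 4, 5⟩))) (.node 2 (.node 1 (.one ⟨6637, 2, 5⟩) (.one ⟨12938, 3, 5⟩)) (.node 1 (.one ⟨15923, 0, 7⟩) (.one ⟨5753, 2, 4⟩)))) (.node 4 (.node 2 (.node 1 (.one ⟨15932, 0, 3⟩) (.one ⟨16477, 0, 6⟩)) (.node 1 (.one ⟨16556, 4, 4⟩) (.one ⟨1001, 3, 5⟩))) (.node 2 (.node 1 (.one ⟨7104, 0, 3⟩) (.one ⟨888, 4, 7⟩)) (.node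 1 (.one ⟨7080, 2, 5⟩) (.one ⟨4444, 0, 6⟩))))) (.node 8 (.node 4 (.node 2 (.node 1 (.one ⟨10968, 3, 4⟩) (.one ⟨16380, 4, 4⟩)) (.node 1 (.one ⟨12697, 2, 5⟩) (.one ⟨11873, 1, 5⟩))) (.node 2 (.node 1 (.one ⟨1232, 2, 3⟩) (.one ⟨12386, 3, 5⟩)) (.node 1 (.one ⟨11872, 2, 5⟩) (.one ⟨13719, 4, 5⟩)))) (.node 4 (.node 2 (.node 1 (.one ⟨7801, 0, 5⟩) (.one ⟨15569, 3, 6⟩)) (.node 1 (.one ⟨5035, 4, 5⟩) (.one ⟨4324, 2, 6⟩))) (.node 2 (.node 1 (.one ⟨11690, 1, 5⟩) (.one ⟨14468, 4, 5⟩)) (.node 1 (.one ⟨3020, 0, 6⟩) (.one ⟨8595, 3, 7⟩)))))))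
def par1_16_3 : Arr Par :=
  (.node 32 (.node 16 (.node 8 (.node 4 (.node 2 (.node 1 (.one ⟨16053, 1, 5⟩) (.one ⟨1115, 4, 6⟩)) (.node 1 (.one ⟨9415, 2, 6⟩) (.one ⟨1745, 3, 6⟩))) (.node 2 (.node 1 (.one ⟨7408, 3, 5⟩) (.one ⟨8498, 2, 5⟩)) (.node 1 (.one ⟨6189, 2, 4⟩) (.one ⟨4118, 2, 3⟩)))) (.node 4 (.node 2 (.node 1 (.one ⟨14782, 0, 7⟩) (.one ⟨4223, 2, 3⟩)) (.node 1 (.one ⟨7780, 2, 6⟩) (.one ⟨15101, 1, 6⟩))) (.node 2 (.node 1 (.one ⟨13509, 3, 6⟩) (.one ⟨12857, 2, 5⟩)) (.node 1 (.one ⟨13505, 3, 6⟩) (.one ⟨777, 3, 6⟩))))) (.node 8 (.node 4 (.node 2 (.node 1 (.one ⟨4427, 4, 7⟩) (.one ⟨9269, 4, 5⟩)) (.node 1 (.one ⟨11617, 1, 5⟩) (.one ⟨438, 3, 6⟩))) (.node 2 (.node 1 (.one ⟨878, 3, 6⟩) (.one ⟨3097, 0, 6⟩)) (.node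 1 (.one ⟨7498, 2, 6⟩) (.one ⟨261, 4, 5⟩)))) (.node 4 (.node 2 (.node 1 (.one ⟨218, 2, 6⟩) (.one ⟨16296, 0, 6⟩)) (.node 1 (.one ⟨4474, 0, 7⟩) (.one ⟨5346, 2, 5⟩))) (.node 2 (.node 1 (.one ⟨454, 2, 6⟩) (.one ⟨3810, 0, 6⟩)) (.node 1 (.one ⟨1642, 4, 5⟩) (.one ⟨4389, 2, 4⟩)))))) (.node 16 (.node 8 (.node 4 (.node 2 (.node 1 (.one ⟨4307, 3, 5⟩) (.one ⟨7020, 1, 6⟩)) (.node 1 (.one ⟨9665, 3, 7⟩) (.one ⟨4134, 3, 6⟩))) (.node 2 (.node 1 (.one ⟨16665, 4, 6⟩) (.one ⟨15448, 0, 5⟩)) (.node 1 (.one ⟨11857, 1, 6⟩) (.one ⟨4793, 4, 4⟩)))) (.node 4 (.node 2 (.node 1 (.one ⟨5264, 2, 6⟩) (.one ⟨3637, 4, 6⟩)) (.node 1 (.one ⟨7389, 2, 6⟩) (.one ⟨15847, 1, 5⟩))) (.node 2 (.node 1 (.one ⟨10864, 3, 6⟩) (.one ⟨3826, 0, 6⟩)) (.node 1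 (.one ⟨10739, 4, 5⟩) (.one ⟨15812, 1, 6⟩))))) (.node 8 (.node 4 (.node 2 (.node 1 (.one ⟨6548, 3, 6⟩) (.one ⟨12623, 4, 4⟩)) (.node 1 (.one ⟨10818, 1, 5⟩) (.one ⟨1336, 4, 7⟩))) (.node 2 (.node 1 (.one ⟨3062, 0, 5⟩) (.one ⟨17012, 4, 5⟩)) (.node 1 (.one ⟨1368, 2, 4⟩) (.one ⟨9871, 4, 4⟩)))) (.node 4 (.node 2 (.node 1 (.one ⟨3459, 0, 6⟩) (.one ⟨16261, 0, 5⟩)) (.node 1 (.one ⟨13498, 2, 6⟩) (.one ⟨5423, 2, 5⟩))) (.node 2 (.node 1 (.one ⟨11573, 4, 6⟩) (.one ⟨9107, 3, 6⟩)) (.node 1 (.one ⟨15820, 1, 4⟩) (.one ⟨7258, 4, 6⟩)))))))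
def par1_16_4 : Arr Par :=
  (.node 32 (.node 16 (.node 8 (.node 4 (.node 2 (.node 1 (.one ⟨10802, 1, 6⟩) (.one ⟨6750, 1, 5⟩)) (.node 1 (.one ⟨9467, 3, 5⟩) (.one ⟨15407, 0, 6⟩))) (.node 2 (.node 1 (.one ⟨5240, 2, 6⟩) (.one ⟨5158, 3, 5⟩)) (.node 1 (.one ⟨873, 3, 6⟩) (.one ⟨2498, 4, 6⟩)))) (.node 4 (.node 2 (.node 1 (.one ⟨14660, 3, 6⟩) (.one ⟨1970, 2, 5⟩)) (.node 1 (.one ⟨14055, 2, 5⟩) (.one ⟨1586, 2, 7⟩))) (.node 2 (.node 1 (.one ⟨652, 4, 6⟩) (.one ⟨10076, 3, 5⟩)) (.node 1 (.one ⟨17097, 2, 4⟩) (.one ⟨4452, 0, 4⟩))))) (.node 8 (.node 4 (.node 2 (.node 1 (.one ⟨6616, 4, 6⟩) (.one ⟨3622, 3, 6⟩)) (.node 1 (.one ⟨14645, 4, 5⟩) (.one ⟨3260, 3, 6⟩))) (.node 2 (.node 1 (.one ⟨1, 2, 4⟩) (.one ⟨16543, 4, 6⟩)) (.node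 1 (.one ⟨8465, 4, 3⟩) (.one ⟨1333, 4, 7⟩)))) (.node 4 (.node 2 (.node 1 (.one ⟨9291, 3, 7⟩) (.one ⟨11210, 3, 5⟩)) (.node 1 (.one ⟨7753, 0, 5⟩) (.one ⟨15486, 0, 6⟩))) (.node 2 (.node 1 (.one ⟨4444, 2, 6⟩) (.one ⟨9044, 2, 6⟩)) (.node 1 (.one ⟨6781, 2, 6⟩) (.one ⟨12812, 3, 6⟩)))))) (.node 16 (.node 8 (.node 4 (.node 2 (.node 1 (.one ⟨7994, 1, 6⟩) (.one ⟨3507, 1, 6⟩)) (.node 1 (.one ⟨15794, 1, 6⟩) (.one ⟨3805, 0, 5⟩))) (.node 2 (.node 1 (.one ⟨6980, 1, 4⟩) (.one ⟨3034, 2, 6⟩)) (.node 1 (.one ⟨9668, 3, 4⟩) (.one ⟨8113, 4, 5⟩)))) (.node 4 (.node 2 (.node 1 (.one ⟨8699, 3, 5⟩) (.one ⟨16219, 2, 5⟩)) (.node 1 (.one ⟨1797, 3, 3⟩) (.one ⟨16116, 4, 5⟩))) (.node 2 (.node 1 (.one ⟨2500, 4, 6⟩) (.one ⟨15355, 4, 6⟩)) (.node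 1 (.one ⟨5982, 3, 6⟩) (.one ⟨296, 4, 6⟩))))) (.node 8 (.node 4 (.node 2 (.node 1 (.one ⟨6021, 2, 7⟩) (.one ⟨381, 3, 5⟩)) (.node 1 (.one ⟨1797, 1, 3⟩) (.one ⟨15809, 1, 4⟩))) (.node 2 (.node 1 (.one ⟨3784, 4, 6⟩) (.one ⟨3166, 2, 6⟩)) (.node 1 (.one ⟨11340, 1, 4⟩) (.one ⟨1822, 1, 6⟩)))) (.node 4 (.node 2 (.node 1 (.one ⟨3594, 3, 6⟩) (.one ⟨2039, 2, 6⟩)) (.node 1 (.one ⟨12833, 2, 6⟩) (.one ⟨15239, 0, 6⟩))) (.node 2 (.node 1 (.one ⟨4626, 4, 6⟩) (.one ⟨4002, 4, 6⟩)) (.node 1 (.one ⟨13912, 1, 6⟩) (.one ⟨8327, 0, 5⟩)))))))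
def par1_16_5 : Arr Par :=
  (.node 32 (.node 16 (.node 8 (.node 4 (.node 2 (.node 1 (.one ⟨17063, 4, 5⟩) (.one ⟨10317, 0, 5⟩)) (.node 1 (.one ⟨4988, 0, 4⟩) (.one ⟨7127, 0, 5⟩))) (.node 2 (.node 1 (.one ⟨15941, 0, 4⟩) (.one ⟨12643, 2, 6⟩)) (.node 1 (.one ⟨5324, 2, 6⟩) (.one ⟨15755, 3, 6⟩)))) (.node 4 (.node 2 (.node 1 (.one ⟨15442, 1, 4⟩) (.one ⟨3186, 2, 6⟩)) (.node 1 (.one ⟨3533, 1, 5⟩) (.one ⟨6634, 3, 5⟩))) (.node 2 (.node 1 (.one ⟨5206, 1, 4⟩) (.one ⟨8355, 2, 6⟩)) (.node 1 (.one ⟨11280, 2, 5⟩) (.one ⟨7499, 2, 5⟩))))) (.node 8 (.node 4 (.node 2 (.node 1 (.one ⟨13472, 0, 5⟩) (.one ⟨11416, 1, 4⟩)) (.node 1 (.one ⟨4250, 2, 4⟩) (.one ⟨191, 0, 5⟩))) (.node 2 (.node 1 (.one ⟨13298, 1, 5⟩) (.one ⟨7764, 1, 3⟩)) (.node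 1 (.one ⟨14661, 0, 6⟩) (.one ⟨2921, 2, 5⟩)))) (.node 4 (.node 2 (.node 1 (.one ⟨12158, 4, 5⟩) (.one ⟨13236, 1, 6⟩)) (.node 1 (.one ⟨13040, 0, 6⟩) (.one ⟨4989, 3, 4⟩))) (.node 2 (.node 1 (.one ⟨7389, 1, 6⟩) (.one ⟨4113, 3, 7⟩)) (.node 1 (.one ⟨11230, 3, 4⟩) (.one ⟨14411, 3, 7⟩)))))) (.node 16 (.node 8 (.node 4 (.node 2 (.node 1 (.one ⟨5917, 1, 6⟩) (.one ⟨4623, 4, 5⟩)) (.node 1 (.one ⟨11571, 2, 6⟩) (.one ⟨6366, 3, 6⟩))) (.node 2 (.node 1 (.one ⟨16412, 4, 7⟩) (.one ⟨3304, 1, 6⟩)) (.node 1 (.one ⟨15940, 0, 5⟩) (.one ⟨11428, 2, 5⟩)))) (.node 4 (.node 2 (.node 1 (.one ⟨5927, 1, 6⟩) (.one ⟨1121, 4, 5⟩)) (.node 1 (.one ⟨6416, 3, 6⟩) (.one ⟨1642, 3, 5⟩))) (.node 2 (.node 1 (.one ⟨7814, 1, 6⟩) (.one ⟨17022, 1, 7⟩)) (.node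 1 (.one ⟨0, 4, 5⟩) (.one ⟨11407, 0, 7⟩))))) (.node 8 (.node 4 (.node 2 (.node 1 (.one ⟨1419, 2, 4⟩) (.one ⟨16505, 2, 6⟩)) (.node 1 (.one ⟨16061, 4, 5⟩) (.one ⟨14635, 3, 6⟩))) (.node 2 (.node 1 (.one ⟨10158, 3, 4⟩) (.one ⟨9730, 3, 6⟩)) (.node 1 (.one ⟨17158, 4, 6⟩) (.one ⟨11464, 2, 5⟩)))) (.node 4 (.node 2 (.node 1 (.one ⟨2320, 3, 5⟩) (.one ⟨1629, 4, 7⟩)) (.node 1 (.one ⟨2041, 4, 5⟩) (.one ⟨4875, 2, 7⟩))) (.node 2 (.node 1 (.one ⟨5531, 4, 6⟩) (.one ⟨4411, 0, 4⟩)) (.node 1 (.one ⟨15813, 4, 5⟩) (.one ⟨3448, 2, 5⟩)))))))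
def par1_16_6 : Arr Par :=
  (.node 32 (.node 16 (.node 8 (.node 4 (.node 2 (.node 1 (.one ⟨15783, 3, 6⟩) (.one ⟨4642, 3, 5⟩)) (.node 1 (.one ⟨3360, 0, 6⟩) (.one ⟨16302, 2, 6⟩))) (.node 2 (.node 1 (.one ⟨9664, 4, 6⟩) (.one ⟨7759, 0, 5⟩)) (.node 1 (.one ⟨13894, 0, 5⟩) (.one ⟨10021, 4, 5⟩)))) (.node 4 (.node 2 (.node 1 (.one ⟨5809, 0, 5⟩) (.one ⟨2200, 2, 5⟩)) (.node 1 (.one ⟨15762, 1, 6⟩) (.one ⟨13570, 3, 7⟩))) (.node 2 (.node 1 (.one ⟨828, 2, 5⟩) (.one ⟨2190, 2, 5⟩)) (.node 1 (.one ⟨1230, 4, 5⟩) (.one ⟨250, 3, 5⟩))))) (.node 8 (.node 4 (.node 2 (.node 1 (.one ⟨5145, 1, 5⟩) (.one ⟨11380, 0, 5⟩)) (.node 1 (.one ⟨16261, 4, 5⟩) (.one ⟨12430, 2, 6⟩))) (.node 2 (.node 1 (.one ⟨14526, 2, 6⟩) (.one ⟨1856, 1, 4⟩)) (.node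 1 (.one ⟨15046, 0, 5⟩) (.one ⟨13619, 2, 3⟩)))) (.node 4 (.node 2 (.node 1 (.one ⟨11265, 4, 3⟩) (.one ⟨13918, 4, 5⟩)) (.node 1 (.one ⟨12652, 2, 4⟩) (.one ⟨16789, 0, 5⟩))) (.node 2 (.node 1 (.one ⟨8407, 2, 6⟩) (.one ⟨1459, 2, 4⟩)) (.node 1 (.one ⟨15909, 0, 5⟩) (.one ⟨7315, 3, 5⟩)))))) (.node 16 (.node 8 (.node 4 (.node 2 (.node 1 (.one ⟨7881, 1, 5⟩) (.one ⟨14999, 4, 7⟩)) (.node 1 (.one ⟨15586, 1, 5⟩) (.one ⟨8717, 0, 6⟩))) (.node 2 (.node 1 (.one ⟨3988, 4, 7⟩) (.one ⟨3516, 3, 4⟩)) (.node 1 (.one ⟨13904, 0, 5⟩) (.one ⟨7704, 1, 3⟩)))) (.node 4 (.node 2 (.node 1 (.one ⟨1173, 3, 6⟩) (.one ⟨13452, 1, 5⟩)) (.node 1 (.one ⟨7192, 3, 4⟩) (.one ⟨1882, 1, 7⟩))) (.node 2 (.node 1 (.one ⟨9661, 2, 7⟩) (.one ⟨7284, 3, 5⟩)) (.node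 1 (.one ⟨15201, 2, 4⟩) (.one ⟨15938, 2, 7⟩))))) (.node 8 (.node 4 (.node 2 (.node 1 (.one ⟨12908, 1, 4⟩) (.one ⟨11708, 0, 5⟩)) (.node 1 (.one ⟨12388, 4, 5⟩) (.one ⟨9878, 4, 6⟩))) (.node 2 (.node 1 (.one ⟨10950, 0, 4⟩) (.one ⟨12590, 4, 6⟩)) (.node 1 (.one ⟨1698, 0, 4⟩) (.one ⟨41, 0, 6⟩)))) (.node 4 (.node 2 (.node 1 (.one ⟨14914, 2, 4⟩) (.one ⟨4628, 0, 6⟩)) (.node 1 (.one ⟨9597, 4, 5⟩) (.one ⟨1788, 1, 5⟩))) (.node 2 (.node 1 (.one ⟨7344, 2, 6⟩) (.one ⟨3513, 4, 6⟩)) (.node 1 (.one ⟨15474, 1, 6⟩) (.one ⟨3566, 4, 5⟩)))))))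
def par1_16_7 : Arr Par :=
  (.node 32 (.node 16 (.node 8 (.node 4 (.node 2 (.node 1 (.one ⟨11609, 4, 6⟩) (.one ⟨12896, 1, 2⟩)) (.node 1 (.one ⟨171, 3, 6⟩) (.one ⟨2100, 3, 6⟩))) (.node 2 (.node 1 (.one ⟨5662, 2, 5⟩) (.one ⟨12936, 1, 5⟩)) (.node 1 (.one ⟨3437, 1, 6⟩) (.one ⟨80, 3, 5⟩)))) (.node 4 (.node 2 (.node 1 (.one ⟨9367, 3, 6⟩) (.one ⟨7659, 0, 6⟩)) (.node 1 (.one ⟨12643, 0, 6⟩) (.one ⟨622, 4, 5⟩))) (.node 2 (.node 1 (.one ⟨4763, 0, 6⟩) (.one ⟨10488, 3, 5⟩)) (.node 1 (.one ⟨12503, 1, 7⟩) (.one ⟨9663, 2, 5⟩))))) (.node 8 (.node 4 (.node 2 (.node 1 (.one ⟨10648, 4, 6⟩) (.one ⟨9937, 3, 6⟩)) (.node 1 (.one ⟨15508, 4, 6⟩) (.one ⟨5748, 2, 7⟩))) (.node 2 (.node 1 (.one ⟨9651, 0, 4⟩) (.one ⟨3809, 3, 5⟩)) (.node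 1 (.one ⟨11047, 0, 6⟩) (.one ⟨4482, 1, 4⟩)))) (.node 4 (.node 2 (.node 1 (.one ⟨10984, 3, 6⟩) (.one ⟨292, 3, 6⟩)) (.node 1 (.one ⟨2946, 4, 6⟩) (.one ⟨17160, 4, 5⟩))) (.node 2 (.node 1 (.one ⟨8711, 1, 5⟩) (.one ⟨997, 0, 6⟩)) (.node 1 (.one ⟨8225, 2, 4⟩) (.one ⟨2927, 0, 3⟩)))))) (.node 16 (.node 8 (.node 4 (.node 2 (.node 1 (.one ⟨3485, 1, 5⟩) (.one ⟨714, 2, 5⟩)) (.node 1 (.one ⟨3714, 4, 6⟩) (.one ⟨16221, 4, 6⟩))) (.node 2 (.node 1 (.one ⟨4993, 2, 6⟩) (.one ⟨716, 2, 6⟩)) (.node 1 (.one ⟨4994, 2, 6⟩) (.one ⟨7380, 1, 5⟩)))) (.node 4 (.node 2 (.node 1 (.one ⟨9835, 1, 6⟩) (.one ⟨4761, 0, 6⟩)) (.node 1 (.one ⟨3628, 3, 5⟩) (.one ⟨5261, 2, 6⟩))) (.node 2 (.node 1 (.one ⟨13066, 3, 6⟩) (.one ⟨5214, 2, 6⟩)) (.node 1 (.one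 ⟨6643, 0, 6⟩) (.one ⟨13619, 4, 3⟩))))) (.node 8 (.node 4 (.node 2 (.node 1 (.one ⟨11776, 2, 3⟩) (.one ⟨3677, 2, 4⟩)) (.node 1 (.one ⟨16709, 3, 7⟩) (.one ⟨15075, 4, 6⟩))) (.node 2 (.node 1 (.one ⟨14350, 3, 6⟩) (.one ⟨11718, 0, 5⟩)) (.node 1 (.one ⟨9101, 2, 6⟩) (.one ⟨15050, 3, 6⟩)))) (.node 4 (.node 2 (.node 1 (.one ⟨8348, 4, 5⟩) (.one ⟨16774, 1, 6⟩)) (.node 1 (.one ⟨8269, 4, 6⟩) (.one ⟨10437, 2, 6⟩))) (.node 2 (.node 1 (.one ⟨1754, 1, 7⟩) (.one ⟨2485, 2, 6⟩)) (.node 1 (.one ⟨1113, 3, 5⟩) (.one ⟨17142, 4, 5⟩)))))))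
def par1_16_8 : Arr Par :=
  (.node 32 (.node 16 (.node 8 (.node 4 (.node 2 (.node 1 (.one ⟨3738, 0, 6⟩) (.one ⟨4832, 1, 5⟩)) (.node 1 (.one ⟨838, 2, 5⟩) (.one ⟨1756, 2, 7⟩))) (.node 2 (.node 1 (.one ⟨9906, 2, 5⟩) (.one ⟨4903, 1, 5⟩)) (.node 1 (.one ⟨16666, 4, 6⟩) (.one ⟨4752, 0, 5⟩)))) (.node 4 (.node 2 (.node 1 (.one ⟨7673, 0, 5⟩) (.one ⟨6615, 0, 7⟩)) (.node 1 (.one ⟨16447, 2, 6⟩) (.one ⟨7435, 2, 6⟩))) (.node 2 (.node 1 (.one ⟨7013, 4, 6⟩) (.one ⟨4543, 0, 5⟩)) (.node 1 (.one ⟨8142, 2, 5⟩) (.one ⟨14183, 1, 5⟩))))) (.node 8 (.node 4 (.node 2 (.node 1 (.one ⟨6920, 2, 6⟩) (.one ⟨12977, 3, 5⟩)) (.node 1 (.one ⟨12857, 1, 5⟩) (.one ⟨3445, 1, 6⟩))) (.node 2 (.node 1 (.one ⟨1617, 0, 6⟩) (.one ⟨15006, 4, 6⟩)) (.node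 1 (.one ⟨14338, 3, 5⟩) (.one ⟨589, 3, 5⟩)))) (.node 4 (.node 2 (.node 1 (.one ⟨6817, 3, 4⟩) (.one ⟨14828, 4, 5⟩)) (.node 1 (.one ⟨15646, 2, 4⟩) (.one ⟨15775, 0, 5⟩))) (.node 2 (.node 1 (.one ⟨16810, 1, 5⟩) (.one ⟨4575, 0, 6⟩)) (.node 1 (.one ⟨13392, 2, 4⟩) (.one ⟨12623, 0, 4⟩)))))) (.node 16 (.node 8 (.node 4 (.node 2 (.node 1 (.one ⟨9676, 4, 4⟩) (.one ⟨8044, 3, 4⟩)) (.node 1 (.one ⟨6162, 3, 4⟩) (.one ⟨16288, 1, 5⟩))) (.node 2 (.node 1 (.one ⟨11526, 1, 5⟩) (.one ⟨12357, 4, 5⟩)) (.node 1 (.one ⟨6190, 1, 7⟩) (.one ⟨8576, 4, 5⟩)))) (.node 4 (.node 2 (.node 1 (.one ⟨1970, 4, 5⟩) (.one ⟨13452, 2, 5⟩)) (.node 1 (.one ⟨4439, 1, 4⟩) (.one ⟨15757, 4, 6⟩))) (.node 2 (.node 1 (.one ⟨9683, 0, 4⟩) (.one ⟨8788, 2, 6⟩)) (.node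 1 (.one ⟨4758, 0, 4⟩) (.one ⟨2887, 4, 7⟩))))) (.node 8 (.node 4 (.node 2 (.node 1 (.one ⟨5030, 4, 5⟩) (.one ⟨10106, 0, 5⟩)) (.node 1 (.one ⟨4042, 1, 5⟩) (.one ⟨4803, 0, 5⟩))) (.node 2 (.node 1 (.one ⟨4986, 4, 4⟩) (.one ⟨16962, 1, 6⟩)) (.node 1 (.one ⟨11335, 3, 4⟩) (.one ⟨3644, 4, 6⟩)))) (.node 4 (.node 2 (.node 1 (.one ⟨1626, 2, 6⟩) (.one ⟨7076, 1, 5⟩)) (.node 1 (.one ⟨14213, 1, 5⟩) (.one ⟨10641, 3, 5⟩))) (.node 2 (.node 1 (.one ⟨10077, 0, 4⟩) (.one ⟨10581, 3, 6⟩)) (.node 1 (.one ⟨515, 2, 6⟩) (.one ⟨16891, 2, 7⟩)))))))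
def par1_16_9 : Arr Par :=
  (.node 32 (.node 16 (.node 8 (.node 4 (.node 2 (.node 1 (.one ⟨6178, 1, 5⟩) (.one ⟨15860, 4, 5⟩)) (.node 1 (.one ⟨5549, 4, 5⟩) (.one ⟨16474, 4, 5⟩))) (.node 2 (.node 1 (.one ⟨14819, 3, 6⟩) (.one ⟨15357, 4, 5⟩)) (.node 1 (.one ⟨12081, 0, 5⟩) (.one ⟨14288, 4, 4⟩)))) (.node 4 (.node 2 (.node 1 (.one ⟨4943, 4, 6⟩) (.one ⟨1970, 1, 5⟩)) (.node 1 (.one ⟨5274, 1, 6⟩) (.one ⟨11122, 1, 5⟩))) (.node 2 (.node 1 (.one ⟨13554, 4, 4⟩) (.one ⟨809, 3, 4⟩)) (.node 1 (.one ⟨11776, 4, 3⟩) (.one ⟨12490, 4, 5⟩))))) (.node 8 (.node 4 (.node 2 (.node 1 (.one ⟨5437, 4, 4⟩) (.one ⟨13795, 4, 6⟩)) (.node 1 (.one ⟨5518, 2, 7⟩) (.one ⟨3043, 0, 6⟩))) (.node 2 (.node 1 (.one ⟨14346, 4, 4⟩) (.one ⟨15116, 1, 5⟩))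 (.node 1 (.one ⟨10117, 3, 5⟩) (.one ⟨4209, 2, 5⟩)))) (.node 4 (.node 2 (.node 1 (.one ⟨11592, 0, 5⟩) (.one ⟨2833, 4, 5⟩)) (.node 1 (.one ⟨15747, 3, 2⟩) (.one ⟨12336, 4, 6⟩))) (.node 2 (.node 1 (.one ⟨15728, 2, 6⟩) (.one ⟨14191, 3, 6⟩)) (.node 1 (.one ⟨3077, 0, 4⟩) (.one ⟨3857, 3, 5⟩)))))) (.node 16 (.node 8 (.node 4 (.node 2 (.node 1 (.one ⟨3861, 3, 6⟩) (.one ⟨11679, 4, 7⟩)) (.node 1 (.one ⟨3862, 3, 7⟩) (.one ⟨3859, 3, 4⟩))) (.node 2 (.node 1 (.one ⟨3855, 3, 4⟩) (.one ⟨3860, 3, 5⟩)) (.node 1 (.one ⟨12202, 1, 6⟩) (.one ⟨4922, 2, 5⟩)))) (.node 4 (.node 2 (.node 1 (.one ⟨13835, 3, 5⟩) (.one ⟨718, 2, 6⟩)) (.node 1 (.one ⟨16221, 3, 6⟩) (.one ⟨8221, 3, 5⟩))) (.node 2 (.node 1 (.one ⟨3488, 0, 5⟩) (.one ⟨16362, 2,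 7⟩)) (.node 1 (.one ⟨9662, 3, 5⟩) (.one ⟨341, 0, 6⟩))))) (.node 8 (.node 4 (.node 2 (.node 1 (.one ⟨6534, 0, 6⟩) (.one ⟨7710, 0, 4⟩)) (.node 1 (.one ⟨2971, 4, 5⟩) (.one ⟨12877, 4, 5⟩))) (.node 2 (.node 1 (.one ⟨991, 1, 4⟩) (.one ⟨12217, 3, 7⟩)) (.node 1 (.one ⟨6851, 0, 5⟩) (.one ⟨2590, 2, 5⟩)))) (.node 4 (.node 2 (.node 1 (.one ⟨8067, 3, 5⟩) (.one ⟨6685, 1, 6⟩)) (.node 1 (.one ⟨13250, 3, 5⟩) (.one ⟨4984, 4, 5⟩))) (.node 2 (.node 1 (.one ⟨15588, 3, 5⟩) (.one ⟨4239, 4, 6⟩)) (.node 1 (.one ⟨15063, 2, 6⟩) (.one ⟨9103, 1, 5⟩)))))))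
def par1_16_10 : Arr Par :=
  (.node 32 (.node 16 (.node 8 (.node 4 (.node 2 (.node 1 (.one ⟨13674, 2, 6⟩) (.one ⟨932, 2, 5⟩)) (.node 1 (.one ⟨16833, 3, 3⟩) (.one ⟨16922, 2, 5⟩))) (.node 2 (.node 1 (.one ⟨13014, 4, 7⟩) (.one ⟨6589, 3, 5⟩)) (.node 1 (.one ⟨2005, 4, 6⟩) (.one ⟨9101, 4, 6⟩)))) (.node 4 (.node 2 (.node 1 (.one ⟨6644, 1, 5⟩) (.one ⟨6790, 4, 6⟩)) (.node 1 (.one ⟨8061, 4, 4⟩) (.one ⟨3193, 0, 6⟩))) (.node 2 (.node 1 (.one ⟨1477, 2, 6⟩) (.one ⟨8635, 3, 5⟩)) (.node 1 (.one ⟨14742, 2, 4⟩) (.one ⟨6830, 3, 6⟩))))) (.node 8 (.node 4 (.node 2 (.node 1 (.one ⟨25, 4, 6⟩) (.one ⟨6862, 0, 4⟩)) (.node 1 (.one ⟨1933, 2, 5⟩) (.one ⟨7578, 2, 6⟩))) (.node 2 (.node 1 (.one ⟨2721, 2, 6⟩) (.one ⟨137, 3, 5⟩)) (.node 1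 (.one ⟨7722, 0, 3⟩) (.one ⟨17006, 2, 6⟩)))) (.node 4 (.node 2 (.node 1 (.one ⟨14710, 1, 2⟩) (.one ⟨765, 3, 5⟩)) (.node 1 (.one ⟨410, 0, 6⟩) (.one ⟨15783, 0, 6⟩))) (.node 2 (.node 1 (.one ⟨196, 1, 6⟩) (.one ⟨6542, 0, 3⟩)) (.node 1 (.one ⟨8544, 3, 7⟩) (.one ⟨3848, 4, 6⟩)))))) (.node 16 (.node 8 (.node 4 (.node 2 (.node 1 (.one ⟨16212, 3, 7⟩) (.one ⟨2592, 4, 6⟩)) (.node 1 (.one ⟨13089, 0, 5⟩) (.one ⟨4846, 2, 6⟩))) (.node 2 (.node 1 (.one ⟨8124, 3, 5⟩) (.one ⟨66, 3, 6⟩)) (.node 1 (.one ⟨7652, 2, 5⟩) (.one ⟨4164, 0, 4⟩)))) (.node 4 (.node 2 (.node 1 (.one ⟨1926, 1, 6⟩) (.one ⟨254, 0, 5⟩)) (.node 1 (.one ⟨9285, 2, 5⟩) (.one ⟨5028, 0, 4⟩))) (.node 2 (.node 1 (.one ⟨1262, 4, 6⟩) (.one ⟨17083, 4, 6⟩)) (.node 1 (.one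 ⟨17190, 1, 5⟩) (.one ⟨13487, 2, 6⟩))))) (.node 8 (.node 4 (.node 2 (.node 1 (.one ⟨3754, 3, 7⟩) (.one ⟨17119, 4, 6⟩)) (.node 1 (.one ⟨8206, 1, 6⟩) (.one ⟨11533, 2, 6⟩))) (.node 2 (.node 1 (.one ⟨13285, 1, 6⟩) (.one ⟨3459, 2, 6⟩)) (.node 1 (.one ⟨7562, 4, 6⟩) (.one ⟨10561, 3, 6⟩)))) (.node 4 (.node 2 (.node 1 (.one ⟨8431, 4, 6⟩) (.one ⟨4173, 4, 5⟩)) (.node 1 (.one ⟨9004, 1, 6⟩) (.one ⟨14416, 2, 5⟩))) (.node 2 (.node 1 (.one ⟨8683, 4, 5⟩) (.one ⟨4169, 0, 5⟩)) (.node 1 (.one ⟨2148, 4, 6⟩) (.one ⟨16466, 0, 5⟩)))))))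
def par1_16_11 : Arr Par :=
  (.node 32 (.node 16 (.node 8 (.node 4 (.node 2 (.node 1 (.one ⟨10709, 2, 5⟩) (.one ⟨219, 0, 5⟩)) (.node 1 (.one ⟨10860, 3, 6⟩) (.one ⟨15063, 1, 6⟩))) (.node 2 (.node 1 (.one ⟨3074, 1, 6⟩) (.one ⟨15577, 0, 4⟩)) (.node 1 (.one ⟨7120, 2, 4⟩) (.one ⟨4042, 3, 5⟩)))) (.node 4 (.node 2 (.node 1 (.one ⟨15781, 2, 5⟩) (.one ⟨16382, 4, 3⟩)) (.node 1 (.one ⟨15245, 4, 4⟩) (.one ⟨6844, 0, 6⟩))) (.node 2 (.node 1 (.one ⟨1211, 3, 6⟩) (.one ⟨2979, 2, 5⟩)) (.node 1 (.one ⟨8181, 1, 6⟩) (.one ⟨864, 3, 6⟩))))) (.node 8 (.node 4 (.node 2 (.node 1 (.one ⟨15073, 1, 6⟩) (.one ⟨8621, 2, 5⟩)) (.node 1 (.one ⟨13972, 4, 5⟩) (.one ⟨3982, 2, 5⟩))) (.node 2 (.node 1 (.one ⟨14492, 4, 5⟩) (.one ⟨9994, 2, 6⟩)) (.node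 1 (.one ⟨1174, 2, 5⟩) (.one ⟨268, 2, 5⟩)))) (.node 4 (.node 2 (.node 1 (.one ⟨4043, 1, 6⟩) (.one ⟨1076, 3, 3⟩)) (.node 1 (.one ⟨17070, 1, 6⟩) (.one ⟨7513, 0, 6⟩))) (.node 2 (.node 1 (.one ⟨627, 2, 4⟩) (.one ⟨153, 4, 6⟩)) (.node 1 (.one ⟨11706, 0, 5⟩) (.one ⟨5188, 1, 5⟩)))))) (.node 16 (.node 8 (.node 4 (.node 2 (.node 1 (.one ⟨15606, 2, 6⟩) (.one ⟨6623, 4, 5⟩)) (.node 1 (.one ⟨16480, 0, 5⟩) (.one ⟨12123, 1, 5⟩))) (.node 2 (.node 1 (.one ⟨6034, 2, 6⟩) (.one ⟨15116, 4, 5⟩)) (.node 1 (.one ⟨1258, 4, 4⟩) (.one ⟨8970, 1, 5⟩)))) (.node 4 (.node 2 (.node 1 (.one ⟨11915, 2, 5⟩) (.one ⟨2530, 3, 6⟩)) (.node 1 (.one ⟨15050, 1, 6⟩) (.one ⟨8419, 0, 6⟩))) (.node 2 (.node 1 (.one ⟨15595, 0, 3⟩) (.one ⟨6066, 1, 5⟩)) (.node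 1 (.one ⟨6838, 0, 7⟩) (.one ⟨5703, 3, 5⟩))))) (.node 8 (.node 4 (.node 2 (.node 1 (.one ⟨5284, 0, 5⟩) (.one ⟨16822, 1, 5⟩)) (.node 1 (.one ⟨5062, 3, 5⟩) (.one ⟨8021, 2, 6⟩))) (.node 2 (.node 1 (.one ⟨13288, 2, 5⟩) (.one ⟨3904, 1, 5⟩)) (.node 1 (.one ⟨4158, 1, 4⟩) (.one ⟨8722, 0, 6⟩)))) (.node 4 (.node 2 (.node 1 (.one ⟨2036, 0, 6⟩) (.one ⟨8857, 3, 6⟩)) (.node 1 (.one ⟨3082, 3, 6⟩) (.one ⟨8146, 4, 6⟩))) (.node 2 (.node 1 (.one ⟨3937, 1, 6⟩) (.one ⟨796, 4, 6⟩)) (.node 1 (.one ⟨14306, 3, 6⟩) (.one ⟨13188, 4, 5⟩)))))))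
def par1_16_12 : Arr Par :=
  (.node 23 (.node 11 (.node 5 (.node 2 (.node 1 (.one ⟨6232, 4, 4⟩) (.one ⟨7764, 2, 3⟩)) (.node 1 (.one ⟨12979, 2, 5⟩) (.node 1 (.one ⟨10955, 4, 5⟩) (.one ⟨3946, 1, 5⟩)))) (.node 3 (.node 1 (.one ⟨10917, 3, 3⟩) (.node 1 (.one ⟨14884, 2, 5⟩) (.one ⟨7538, 3, 4⟩))) (.node 1 (.one ⟨8740, 4, 4⟩) (.node 1 (.one ⟨3915, 1, 6⟩) (.one ⟨8704, 0, 6⟩))))) (.node 6 (.node 3 (.node 1 (.one ⟨4452, 4, 4⟩) (.node 1 (.one ⟨1332, 4, 7⟩) (.one ⟨8051, 0, 6⟩))) (.node 1 (.one ⟨4480, 4, 4⟩) (.node 1 (.one ⟨2526, 3, 5⟩) (.one ⟨12934, 2, 5⟩)))) (.node 3 (.node 1 (.one ⟨12441, 2, 6⟩) (.node 1 (.one ⟨1706, 2, 6⟩) (.one ⟨12879, 2, 6⟩))) (.node 1 (.one ⟨15743, 4, 4⟩) (.node 1 (.one ⟨772, 2, 5⟩) (.one ⟨6366,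 0, 6⟩)))))) (.node 12 (.node 6 (.node 3 (.node 1 (.one ⟨3922, 1, 5⟩) (.node 1 (.one ⟨14706, 2, 6⟩) (.one ⟨3031, 3, 6⟩))) (.node 1 (.one ⟨619, 1, 5⟩) (.node 1 (.one ⟨14240, 3, 6⟩) (.one ⟨10076, 0, 5⟩)))) (.node 3 (.node 1 (.one ⟨12205, 0, 5⟩) (.node 1 (.one ⟨4623, 3, 5⟩) (.one ⟨6596, 1, 5⟩))) (.node 1 (.one ⟨7647, 2, 5⟩) (.node 1 (.one ⟨10687, 4, 6⟩) (.one ⟨13122, 2, 6⟩))))) (.node 6 (.node 3 (.node 1 (.one ⟨12220, 3, 7⟩) (.node 1 (.one ⟨8136, 2, 6⟩) (.one ⟨15245, 3, 4⟩))) (.node 1 (.one ⟨12902, 2, 4⟩) (.node 1 (.one ⟨13200, 4, 6⟩) (.one ⟨10045, 2, 5⟩)))) (.node 3 (.node 1 (.one ⟨5816, 3, 5⟩) (.node 1 (.one ⟨12189, 0, 5⟩) (.one ⟨4188, 1, 5⟩))) (.node 1 (.one ⟨16157, 0, 5⟩) (.node 1 (.one ⟨1864, 1, 5⟩) (.one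 ⟨17082, 1, 7⟩)))))))
def par1_16 : Arr Par :=
  (.node 384 (.node 192 (.node 64 par1_16_0 (.node 64 par1_16_1 par1_16_2)) (.node 64 par1_16_3 (.node 64 par1_16_4 par1_16_5))) (.node 192 (.node 64 par1_16_6 (.node 64 par1_16_7 par1_16_8)) (.node 128 (.node 64 par1_16_9 par1_16_10) (.node 64 par1_16_11 par1_16_12))))
def par1 : Arr Par :=
  (.node 8192 (.node 4096 (.node 2048 (.node 1024 par1_0 par1_1) (.node 1024 par1_2 par1_3)) (.node 2048 (.node 1024 par1_4 par1_5) (.node 1024 par1_6 par1_7))) (.node 4096 (.node 2048 (.node 1024 par1_8 par1_9) (.node 1024 par1_10 par1_11)) (.node 2048 (.node 1024 par1_12 par1_13) (.node 1024 par1_14 (.node 1024 par1_15 par1_16)))))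

end CfsgLib.ThIndex62.Data
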