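import Cfsg.Agent.ThIndex62.Closure

/-! Orbit forest of node 10 on the points. -/

set_option autoImplicit false
set_option maxRecDepth 100000

namespace CfsgLib.ThIndex62.Data

open CfsgLib.ThModel83

def par10_0_0 : Arr Par :=
  (.node 32 (.node 16 (.node 8 (.node 4 (.node 2 (.node 1 (.one ⟨9490, 1, 6⟩) (.one ⟨9375, 1, 8⟩)) (.node 1 (.one ⟨1202, 1, 6⟩) (.one ⟨6013, 2, 7⟩))) (.node 2 (.node 1 (.one ⟨4899, 0, 9⟩) (.one ⟨589, 2, 8⟩)) (.node 1 (.one ⟨3408, 0, 8⟩) (.one ⟨14219, 0, 10⟩)))) (.node 4 (.node 2 (.node 1 (.one ⟨14742, 0, 7⟩) (.one ⟨9248, 0, 10⟩)) (.node 1 (.one ⟨16643, 0, 11⟩) (.one ⟨12258, 2, 9⟩))) (.node 2 (.node 1 (.one ⟨11588, 1, 11⟩) (.one ⟨12439, 0, 11⟩)) (.node 1 (.one ⟨14145, 2, 6⟩) (.one ⟨15201,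 2, 9⟩))))) (.node 8 (.node 4 (.node 2 (.node 1 (.one ⟨9899, 2, 8⟩) (.one ⟨11444, 0, 9⟩)) (.node 1 (.one ⟨8157, 0, 9⟩) (.one ⟨11537, 0, 8⟩))) (.node 2 (.node 1 (.one ⟨13902, 0, 8⟩) (.one ⟨2027, 1, 10⟩)) (.node 1 (.one ⟨3555, 2, 10⟩) (.one ⟨13157, 1, 10⟩)))) (.node 4 (.node 2 (.node 1 (.one ⟨10791, 1, 8⟩) (.one ⟨7274, 0, 10⟩)) (.node 1 (.one ⟨9660, 0, 8⟩) (.one ⟨66, 2, 8⟩))) (.node 2 (.node 1 (.one ⟨1783, 0, 9⟩) (.one ⟨11286, 1, 9⟩)) (.node 1 (.one ⟨585, 2, 8⟩) (.one ⟨14862, 0, 9⟩)))))) (.node 16 (.node 8 (.node 4 (.node 2 (.node 1 (.one ⟨13577, 2, 10⟩) (.one ⟨84, 2, 10⟩)) (.node 1 (.one ⟨601, 2, 10⟩) (.one ⟨9197, 1, 7⟩))) (.node 2 (.node 1 (.one ⟨1564, 1, 7⟩) (.one ⟨1374, 1, 8⟩)) (.node 1 (.one ⟨9307, 1, 6⟩) (.one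 ⟨1122, 0, 10⟩)))) (.node 4 (.node 2 (.node 1 (.one ⟨14167, 0, 9⟩) (.one ⟨7251, 2, 10⟩)) (.node 1 (.one ⟨13000, 1, 8⟩) (.one ⟨15167, 0, 9⟩))) (.node 2 (.node 1 (.one ⟨4576, 0, 7⟩) (.one ⟨7240, 0, 9⟩)) (.node 1 (.one ⟨8984, 2, 10⟩) (.one ⟨5250, 1, 8⟩))))) (.node 8 (.node 4 (.node 2 (.node 1 (.one ⟨6169, 0, 9⟩) (.one ⟨4252, 1, 11⟩)) (.node 1 (.one ⟨15781, 0, 7⟩) (.one ⟨5478, 2, 7⟩))) (.node 2 (.node 1 (.one ⟨4787, 2, 9⟩) (.one ⟨8960, 2, 6⟩)) (.node 1 (.one ⟨11187, 0, 8⟩) (.one ⟨4382, 1, 9⟩)))) (.node 4 (.node 2 (.node 1 (.one ⟨7422, 0, 8⟩) (.one ⟨16889, 2, 6⟩)) (.node 1 (.one ⟨13362, 2, 8⟩) (.one ⟨10841, 2, 10⟩))) (.node 2 (.node 1 (.one ⟨1830, 2, 10⟩) (.one ⟨16594, 2, 10⟩)) (.node 1 (.one ⟨6068, 2, 9⟩) (.one ⟨16776,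 2, 11⟩)))))))
def par10_0_1 : Arr Par :=
  (.node 32 (.node 16 (.node 8 (.node 4 (.node 2 (.node 1 (.one ⟨12600, 0, 10⟩) (.one ⟨10287, 0, 10⟩)) (.node 1 (.one ⟨1558, 1, 7⟩) (.one ⟨14621, 2, 10⟩))) (.node 2 (.node 1 (.one ⟨17192, 2, 9⟩) (.one ⟨8113, 0, 10⟩)) (.node 1 (.one ⟨9047, 0, 10⟩) (.one ⟨10934, 2, 9⟩)))) (.node 4 (.node 2 (.node 1 (.one ⟨16639, 0, 8⟩) (.one ⟨9198, 1, 8⟩)) (.node 1 (.one ⟨4420, 0, 5⟩) (.one ⟨3285, 2, 11⟩))) (.node 2 (.node 1 (.one ⟨9860, 2, 6⟩) (.one ⟨7827, 0, 7⟩)) (.node 1 (.one ⟨3972, 2, 10⟩) (.one ⟨13113, 0, 5⟩))))) (.node 8 (.node 4 (.node 2 (.node 1 (.one ⟨11737, 2, 10⟩) (.one ⟨13402, 2, 10⟩)) (.node 1 (.one ⟨11099, 0, 5⟩) (.one ⟨7358, 0, 7⟩))) (.node 2 (.node 1 (.one ⟨1373, 1, 9⟩) (.one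 ⟨9386, 1, 9⟩)) (.node 1 (.one ⟨14988, 2, 10⟩) (.one ⟨14251, 2, 11⟩)))) (.node 4 (.node 2 (.node 1 (.one ⟨17106, 0, 9⟩) (.one ⟨7086, 2, 10⟩)) (.node 1 (.one ⟨15977, 0, 7⟩) (.one ⟨4221, 2, 10⟩))) (.node 2 (.node 1 (.one ⟨12546, 2, 11⟩) (.one ⟨3921, 2, 9⟩)) (.node 1 (.one ⟨8182, 2, 9⟩) (.one ⟨16435, 2, 6⟩)))))) (.node 16 (.node 8 (.node 4 (.node 2 (.node 1 (.one ⟨13336, 0, 9⟩) (.one ⟨14760, 1, 3⟩)) (.node 1 (.one ⟨10919, 1, 6⟩) (.one ⟨7278, 0, 10⟩))) (.node 2 (.node 1 (.one ⟨973, 2, 5⟩) (.one ⟨11552, 1, 9⟩)) (.node 1 (.one ⟨642, 0, 8⟩) (.one ⟨15862, 1, 8⟩)))) (.node 4 (.node 2 (.node 1 (.one ⟨12037, 0, 8⟩) (.one ⟨16, 1, 9⟩)) (.node 1 (.one ⟨3709, 1, 7⟩) (.one ⟨1451, 2, 10⟩))) (.node 2 (.node 1 (.one ⟨15627, 1, 10⟩)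 (.one ⟨1452, 2, 8⟩)) (.node 1 (.one ⟨10558, 0, 10⟩) (.one ⟨1872, 1, 9⟩))))) (.node 8 (.node 4 (.node 2 (.node 1 (.one ⟨12075, 2, 5⟩) (.one ⟨11088, 0, 8⟩)) (.node 1 (.one ⟨16092, 1, 4⟩) (.one ⟨10528, 1, 8⟩))) (.node 2 (.node 1 (.one ⟨7815, 0, 7⟩) (.one ⟨12020, 1, 10⟩)) (.node 1 (.one ⟨9828, 1, 4⟩) (.one ⟨14804, 1, 4⟩)))) (.node 4 (.node 2 (.node 1 (.one ⟨13185, 2, 11⟩) (.one ⟨7596, 1, 7⟩)) (.node 1 (.one ⟨17162, 2, 10⟩) (.one ⟨4924, 2, 8⟩))) (.node 2 (.node 1 (.one ⟨11401, 2, 8⟩) (.one ⟨3549, 2, 6⟩)) (.node 1 (.one ⟨7315, 1, 9⟩) (.one ⟨1061, 1, 7⟩)))))))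
def par10_0_2 : Arr Par :=
  (.node 32 (.node 16 (.node 8 (.node 4 (.node 2 (.node 1 (.one ⟨13043, 1, 6⟩) (.one ⟨6268, 2, 7⟩)) (.node 1 (.one ⟨14503, 2, 8⟩) (.one ⟨5852, 2, 6⟩))) (.node 2 (.node 1 (.one ⟨14156, 1, 7⟩) (.one ⟨3994, 2, 9⟩)) (.node 1 (.one ⟨676, 1, 9⟩) (.one ⟨12237, 1, 10⟩)))) (.node 4 (.node 2 (.node 1 (.one ⟨16249, 2, 11⟩) (.one ⟨16286, 0, 8⟩)) (.node 1 (.one ⟨14504, 1, 9⟩) (.one ⟨4283, 0, 10⟩))) (.node 2 (.node 1 (.one ⟨11512, 1, 9⟩) (.one ⟨5763, 2, 9⟩)) (.node 1 (.one ⟨14876, 0, 8⟩) (.one ⟨10969, 2, 9⟩))))) (.node 8 (.node 4 (.node 2 (.node 1 (.one ⟨14468, 1, 7⟩) (.one ⟨6549, 2, 8⟩)) (.node 1 (.one ⟨1877, 1, 4⟩) (.one ⟨1161, 2, 9⟩))) (.node 2 (.node 1 (.one ⟨8010, 1, 9⟩) (.one ⟨13648, 1, 5⟩)) (.node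 1 (.one ⟨12314, 2, 10⟩) (.one ⟨12350, 2, 7⟩)))) (.node 4 (.node 2 (.node 1 (.one ⟨8826, 0, 9⟩) (.one ⟨10673, 2, 3⟩)) (.node 1 (.one ⟨5148, 1, 7⟩) (.one ⟨11355, 1, 5⟩))) (.node 2 (.node 1 (.one ⟨16884, 1, 9⟩) (.one ⟨12953, 1, 8⟩)) (.node 1 (.one ⟨9424, 2, 9⟩) (.one ⟨9428, 2, 10⟩)))))) (.node 16 (.node 8 (.node 4 (.node 2 (.node 1 (.one ⟨12481, 0, 9⟩) (.one ⟨14001, 2, 4⟩)) (.node 1 (.one ⟨3600, 1, 8⟩) (.one ⟨3383, 1, 8⟩))) (.node 2 (.node 1 (.one ⟨8301, 2, 5⟩) (.one ⟨2196, 1, 6⟩)) (.node 1 (.one ⟨2706, 2, 7⟩) (.one ⟨12709, 1, 8⟩)))) (.node 4 (.node 2 (.node 1 (.one ⟨10389, 2, 8⟩) (.one ⟨9290, 2, 5⟩)) (.node 1 (.one ⟨9287, 2, 6⟩) (.one ⟨9289, 2, 10⟩))) (.node 2 (.node 1 (.one ⟨9288, 2, 9⟩) (.one ⟨1879, 0, 10⟩)) (.node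 1 (.one ⟨8752, 0, 8⟩) (.one ⟨7820, 2, 8⟩))))) (.node 8 (.node 4 (.node 2 (.node 1 (.one ⟨12778, 0, 10⟩) (.one ⟨15187, 1, 7⟩)) (.node 1 (.one ⟨6191, 1, 5⟩) (.one ⟨9086, 0, 9⟩))) (.node 2 (.node 1 (.one ⟨474, 2, 9⟩) (.one ⟨7661, 2, 10⟩)) (.node 1 (.one ⟨12911, 2, 7⟩) (.one ⟨7193, 2, 3⟩)))) (.node 4 (.node 2 (.node 1 (.one ⟨9821, 0, 10⟩) (.one ⟨11478, 0, 10⟩)) (.node 1 (.one ⟨8911, 2, 6⟩) (.one ⟨2725, 1, 10⟩))) (.node 2 (.node 1 (.one ⟨16306, 0, 11⟩) (.one ⟨10100, 0, 7⟩)) (.node 1 (.one ⟨15139, 0, 9⟩) (.one ⟨13131, 2, 7⟩)))))))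
def par10_0_3 : Arr Par :=
  (.node 32 (.node 16 (.node 8 (.node 4 (.node 2 (.node 1 (.one ⟨9821, 2, 10⟩) (.one ⟨7924, 2, 9⟩)) (.node 1 (.one ⟨2566, 1, 4⟩) (.one ⟨2907, 1, 7⟩))) (.node 2 (.node 1 (.one ⟨13287, 2, 10⟩) (.one ⟨9810, 2, 7⟩)) (.node 1 (.one ⟨4835, 0, 8⟩) (.one ⟨5256, 0, 10⟩)))) (.node 4 (.node 2 (.node 1 (.one ⟨2888, 0, 8⟩) (.one ⟨16063, 0, 8⟩)) (.node 1 (.one ⟨6558, 1, 9⟩) (.one ⟨974, 2, 7⟩))) (.node 2 (.node 1 (.one ⟨13893, 1, 10⟩) (.one ⟨1047, 2, 8⟩)) (.node 1 (.one ⟨8912, 2, 10⟩) (.one ⟨13250, 0, 9⟩))))) (.node 8 (.node 4 (.node 2 (.node 1 (.one ⟨16601, 1, 9⟩) (.one ⟨6786, 1, 9⟩)) (.node 1 (.one ⟨2429, 2, 8⟩) (.one ⟨4398, 0, 8⟩))) (.node 2 (.node 1 (.one ⟨12151, 1, 10⟩) (.one ⟨9557, 2, 5⟩)) (.node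 1 (.one ⟨9554, 2, 10⟩) (.one ⟨9553, 2, 9⟩)))) (.node 4 (.node 2 (.node 1 (.one ⟨6890, 1, 4⟩) (.one ⟨8165, 2, 6⟩)) (.node 1 (.one ⟨699, 1, 4⟩) (.one ⟨7135, 1, 8⟩))) (.node 2 (.node 1 (.one ⟨13309, 0, 8⟩) (.one ⟨8787, 2, 11⟩)) (.node 1 (.one ⟨12592, 1, 9⟩) (.one ⟨1722, 2, 9⟩)))))) (.node 16 (.node 8 (.node 4 (.node 2 (.node 1 (.one ⟨12879, 2, 8⟩) (.one ⟨8685, 1, 8⟩)) (.node 1 (.one ⟨14302, 1, 9⟩) (.one ⟨15994, 1, 9⟩))) (.node 2 (.node 1 (.one ⟨5826, 0, 9⟩) (.one ⟨10239, 2, 7⟩)) (.node 1 (.one ⟨7950, 2, 8⟩) (.one ⟨6535, 1, 9⟩)))) (.node 4 (.node 2 (.node 1 (.one ⟨13324, 0, 7⟩) (.one ⟨11279, 1, 6⟩)) (.node 1 (.one ⟨10530, 2, 9⟩) (.one ⟨12017, 0, 6⟩))) (.node 2 (.node 1 (.one ⟨15057, 2, 9⟩) (.one ⟨6734, 0, 9⟩)) (.node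 1 (.one ⟨15537, 2, 10⟩) (.one ⟨11889, 2, 10⟩))))) (.node 8 (.node 4 (.node 2 (.node 1 (.one ⟨15060, 2, 10⟩) (.one ⟨12278, 2, 5⟩)) (.node 1 (.one ⟨4577, 1, 8⟩) (.one ⟨10816, 2, 8⟩))) (.node 2 (.node 1 (.one ⟨6858, 2, 9⟩) (.one ⟨789, 0, 8⟩)) (.node 1 (.one ⟨3634, 2, 6⟩) (.one ⟨3030, 1, 7⟩)))) (.node 4 (.node 2 (.node 1 (.one ⟨5459, 1, 6⟩) (.one ⟨5053, 2, 9⟩)) (.node 1 (.one ⟨14215, 0, 10⟩) (.one ⟨6310, 1, 9⟩))) (.node 2 (.node 1 (.one ⟨16699, 0, 8⟩) (.one ⟨4266, 0, 10⟩)) (.node 1 (.one ⟨10539, 2, 8⟩) (.one ⟨5334, 1, 6⟩)))))))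
def par10_0_4 : Arr Par :=
  (.node 32 (.node 16 (.node 8 (.node 4 (.node 2 (.node 1 (.one ⟨10552, 2, 7⟩) (.one ⟨9000, 1, 8⟩)) (.node 1 (.one ⟨1755, 0, 7⟩) (.one ⟨8820, 2, 9⟩))) (.node 2 (.node 1 (.one ⟨14068, 2, 9⟩) (.one ⟨16924, 1, 8⟩)) (.node 1 (.one ⟨13144, 1, 11⟩) (.one ⟨12923, 2, 8⟩)))) (.node 4 (.node 2 (.node 1 (.one ⟨8875, 2, 9⟩) (.one ⟨4902, 0, 10⟩)) (.node 1 (.one ⟨2251, 1, 10⟩) (.one ⟨5104, 1, 9⟩))) (.node 2 (.node 1 (.one ⟨6097, 0, 8⟩) (.one ⟨8355, 1, 9⟩)) (.node 1 (.one ⟨2973, 1, 11⟩) (.one ⟨10012, 0, 10⟩))))) (.node 8 (.node 4 (.node 2 (.node 1 (.one ⟨15003, 0, 10⟩) (.one ⟨11796, 2, 6⟩)) (.node 1 (.one ⟨6703, 2, 8⟩) (.one ⟨14727, 0, 8⟩))) (.node 2 (.node 1 (.one ⟨2837, 1, 5⟩) (.one ⟨16837, 2, 4⟩))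 (.node 1 (.one ⟨15533, 1, 4⟩) (.one ⟨15643, 1, 9⟩)))) (.node 4 (.node 2 (.node 1 (.one ⟨15600, 1, 6⟩) (.one ⟨3164, 2, 8⟩)) (.node 1 (.one ⟨2588, 1, 9⟩) (.one ⟨10310, 1, 8⟩))) (.node 2 (.node 1 (.one ⟨15755, 0, 8⟩) (.one ⟨4687, 2, 10⟩)) (.node 1 (.one ⟨4179, 1, 7⟩) (.one ⟨3474, 2, 8⟩)))))) (.node 16 (.node 8 (.node 4 (.node 2 (.node 1 (.one ⟨2433, 1, 7⟩) (.one ⟨522, 1, 7⟩)) (.node 1 (.one ⟨11841, 1, 7⟩) (.one ⟨13643, 2, 11⟩))) (.node 2 (.node 1 (.one ⟨2261, 2, 9⟩) (.one ⟨7273, 0, 11⟩)) (.node 1 (.one ⟨8068, 2, 8⟩) (.one ⟨1279, 2, 7⟩)))) (.node 4 (.node 2 (.node 1 (.one ⟨11895, 1, 10⟩) (.one ⟨1283, 2, 10⟩)) (.node 1 (.one ⟨10570, 1, 9⟩) (.one ⟨10561, 2, 8⟩))) (.node 2 (.node 1 (.one ⟨7492, 2, 7⟩) (.one ⟨3224, 1, 8⟩))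 (.node 1 (.one ⟨15380, 2, 9⟩) (.one ⟨3090, 2, 6⟩))))) (.node 8 (.node 4 (.node 2 (.node 1 (.one ⟨17021, 1, 6⟩) (.one ⟨8605, 1, 9⟩)) (.node 1 (.one ⟨7807, 1, 8⟩) (.one ⟨13061, 2, 9⟩))) (.node 2 (.node 1 (.one ⟨3122, 0, 7⟩) (.one ⟨4076, 0, 8⟩)) (.node 1 (.one ⟨9004, 1, 6⟩) (.one ⟨1386, 2, 9⟩)))) (.node 4 (.node 2 (.node 1 (.one ⟨1390, 2, 5⟩) (.one ⟨11030, 2, 7⟩)) (.node 1 (.one ⟨10737, 1, 9⟩) (.one ⟨10688, 0, 9⟩))) (.node 2 (.node 1 (.one ⟨4175, 1, 9⟩) (.one ⟨14501, 2, 8⟩)) (.node 1 (.one ⟨11256, 1, 5⟩) (.one ⟨15972, 2, 9⟩)))))))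
def par10_0_5 : Arr Par :=
  (.node 32 (.node 16 (.node 8 (.node 4 (.node 2 (.node 1 (.one ⟨17169, 2, 9⟩) (.one ⟨5057, 2, 9⟩)) (.node 1 (.one ⟨4924, 1, 8⟩) (.one ⟨1046, 0, 8⟩))) (.node 2 (.node 1 (.one ⟨14288, 2, 7⟩) (.one ⟨2552, 2, 9⟩)) (.node 1 (.one ⟨8779, 1, 3⟩) (.one ⟨5051, 1, 10⟩)))) (.node 4 (.node 2 (.node 1 (.one ⟨4564, 1, 10⟩) (.one ⟨8832, 2, 9⟩)) (.node 1 (.one ⟨6377, 1, 9⟩) (.one ⟨9140, 2, 10⟩))) (.node 2 (.node 1 (.one ⟨9135, 2, 7⟩) (.one ⟨9139, 2, 10⟩)) (.node 1 (.one ⟨15087, 0, 7⟩) (.one ⟨16534, 0, 7⟩))))) (.node 8 (.node 4 (.node 2 (.node 1 (.one ⟨14080, 0, 8⟩) (.one ⟨12166, 0, 9⟩)) (.node 1 (.one ⟨10578, 1, 9⟩) (.one ⟨1629, 2, 7⟩))) (.node 2 (.node 1 (.one ⟨9830, 1, 8⟩) (.one ⟨15068, 2, 8⟩)) (.node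 1 (.one ⟨9980, 1, 10⟩) (.one ⟨13079, 0, 9⟩)))) (.node 4 (.node 2 (.node 1 (.one ⟨11267, 1, 9⟩) (.one ⟨3746, 0, 6⟩)) (.node 1 (.one ⟨13589, 2, 10⟩) (.one ⟨10290, 0, 11⟩))) (.node 2 (.node 1 (.one ⟨990, 2, 6⟩) (.one ⟨12075, 1, 5⟩)) (.node 1 (.one ⟨12195, 1, 9⟩) (.one ⟨5028, 2, 10⟩)))))) (.node 16 (.node 8 (.node 4 (.node 2 (.node 1 (.one ⟨10256, 2, 7⟩) (.one ⟨1774, 2, 7⟩)) (.node 1 (.one ⟨8403, 1, 8⟩) (.one ⟨3965, 1, 6⟩))) (.node 2 (.node 1 (.one ⟨9564, 2, 9⟩) (.one ⟨8694, 0, 10⟩)) (.node 1 (.one ⟨9560, 2, 6⟩) (.one ⟨2296, 2, 10⟩)))) (.node 4 (.node 2 (.node 1 (.one ⟨2657, 1, 5⟩) (.one ⟨8069, 0, 10⟩)) (.node 1 (.one ⟨2893, 1, 10⟩) (.one ⟨15835, 2, 8⟩))) (.node 2 (.node 1 (.one ⟨9975, 1, 8⟩) (.one ⟨129, 0, 8⟩)) (.node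 1 (.one ⟨7216, 1, 6⟩) (.one ⟨13651, 1, 6⟩))))) (.node 8 (.node 4 (.node 2 (.node 1 (.one ⟨7808, 1, 7⟩) (.one ⟨17020, 1, 7⟩)) (.node 1 (.one ⟨8502, 2, 8⟩) (.one ⟨7556, 1, 9⟩))) (.node 2 (.node 1 (.one ⟨3707, 1, 8⟩) (.one ⟨3, 1, 8⟩)) (.node 1 (.one ⟨5289, 2, 4⟩) (.one ⟨3214, 2, 10⟩)))) (.node 4 (.node 2 (.node 1 (.one ⟨11402, 2, 8⟩) (.one ⟨15643, 0, 9⟩)) (.node 1 (.one ⟨9737, 0, 9⟩) (.one ⟨7598, 1, 8⟩))) (.node 2 (.node 1 (.one ⟨13465, 1, 7⟩) (.one ⟨15689, 1, 7⟩)) (.node 1 (.one ⟨16539, 2, 5⟩) (.one ⟨14686, 1, 7⟩)))))))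
def par10_0_6 : Arr Par :=
  (.node 32 (.node 16 (.node 8 (.node 4 (.node 2 (.node 1 (.one ⟨3961, 1, 7⟩) (.one ⟨14506, 1, 9⟩)) (.node 1 (.one ⟨5907, 2, 11⟩) (.one ⟨7140, 1, 6⟩))) (.node 2 (.node 1 (.one ⟨2186, 0, 9⟩) (.one ⟨6070, 2, 10⟩)) (.node 1 (.one ⟨16203, 2, 8⟩) (.one ⟨3710, 1, 9⟩)))) (.node 4 (.node 2 (.node 1 (.one ⟨14, 1, 7⟩) (.one ⟨245, 0, 9⟩)) (.node 1 (.one ⟨5651, 2, 9⟩) (.one ⟨3163, 2, 10⟩))) (.node 2 (.node 1 (.one ⟨5049, 2, 11⟩) (.one ⟨11442, 0, 11⟩)) (.node 1 (.one ⟨13207, 2, 8⟩) (.one ⟨7694, 2, 7⟩))))) (.node 8 (.node 4 (.node 2 (.node 1 (.one ⟨1777, 0, 8⟩) (.one ⟨14852, 0, 10⟩)) (.node 1 (.one ⟨11930, 1, 7⟩) (.one ⟨14750, 0, 11⟩))) (.node 2 (.node 1 (.one ⟨12062, 1, 8⟩) (.one ⟨9822, 2, 10⟩)) (.node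 1 (.one ⟨11126, 0, 8⟩) (.one ⟨8258, 1, 9⟩)))) (.node 4 (.node 2 (.node 1 (.one ⟨1376, 2, 6⟩) (.one ⟨2926, 0, 10⟩)) (.node 1 (.one ⟨14971, 1, 9⟩) (.one ⟨9981, 0, 10⟩))) (.node 2 (.node 1 (.one ⟨2233, 0, 8⟩) (.one ⟨8789, 2, 10⟩)) (.node 1 (.one ⟨12774, 2, 8⟩) (.one ⟨3882, 1, 7⟩)))))) (.node 16 (.node 8 (.node 4 (.node 2 (.node 1 (.one ⟨5418, 1, 7⟩) (.one ⟨4180, 0, 11⟩)) (.node 1 (.one ⟨3322, 2, 9⟩) (.one ⟨3992, 2, 6⟩))) (.node 2 (.node 1 (.one ⟨1292, 2, 9⟩) (.one ⟨15312, 0, 10⟩)) (.node 1 (.one ⟨1288, 2, 7⟩) (.one ⟨1291, 2, 10⟩)))) (.node 4 (.node 2 (.node 1 (.one ⟨7788, 1, 10⟩) (.one ⟨7488, 1, 4⟩)) (.node 1 (.one ⟨3166, 2, 10⟩) (.one ⟨3547, 0, 7⟩))) (.node 2 (.node 1 (.one ⟨5766, 2, 5⟩) (.one ⟨8499, 0, 5⟩)) (.node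 1 (.one ⟨8388, 2, 11⟩) (.one ⟨12883, 0, 9⟩))))) (.node 8 (.node 4 (.node 2 (.node 1 (.one ⟨4881, 1, 8⟩) (.one ⟨451, 2, 9⟩)) (.node 1 (.one ⟨8836, 1, 9⟩) (.one ⟨12289, 1, 8⟩))) (.node 2 (.node 1 (.one ⟨7225, 0, 9⟩) (.one ⟨14371, 2, 9⟩)) (.node 1 (.one ⟨14929, 1, 8⟩) (.one ⟨11280, 1, 6⟩)))) (.node 4 (.node 2 (.node 1 (.one ⟨16236, 0, 7⟩) (.one ⟨8403, 0, 8⟩)) (.node 1 (.one ⟨11340, 0, 6⟩) (.one ⟨13835, 2, 6⟩))) (.node 2 (.node 1 (.one ⟨15395, 1, 10⟩) (.one ⟨16716, 1, 8⟩)) (.node 1 (.one ⟨6459, 1, 7⟩) (.one ⟨5524, 0, 8⟩)))))))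
def par10_0_7 : Arr Par :=
  (.node 32 (.node 16 (.node 8 (.node 4 (.node 2 (.node 1 (.one ⟨7253, 2, 10⟩) (.one ⟨13820, 1, 10⟩)) (.node 1 (.one ⟨8180, 2, 7⟩) (.one ⟨6467, 2, 8⟩))) (.node 2 (.node 1 (.one ⟨4752, 2, 11⟩) (.one ⟨15231, 2, 10⟩)) (.node 1 (.one ⟨12114, 2, 9⟩) (.one ⟨12731, 2, 7⟩)))) (.node 4 (.node 2 (.node 1 (.one ⟨14784, 2, 8⟩) (.one ⟨11900, 1, 8⟩)) (.node 1 (.one ⟨10242, 0, 8⟩) (.one ⟨12914, 2, 8⟩))) (.node 2 (.node 1 (.one ⟨9039, 1, 4⟩) (.one ⟨14681, 1, 8⟩)) (.node 1 (.one ⟨313, 2, 8⟩) (.one ⟨2418, 1, 8⟩))))) (.node 8 (.node 4 (.node 2 (.node 1 (.one ⟨5294, 1, 7⟩) (.one ⟨7256, 0, 8⟩)) (.node 1 (.one ⟨13247, 1, 9⟩) (.one ⟨17006, 2, 11⟩))) (.node 2 (.node 1 (.one ⟨1804, 1, 4⟩) (.one ⟨3727, 0, 8⟩)) (.node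 1 (.one ⟨10349, 1, 4⟩) (.one ⟨2585, 1, 7⟩)))) (.node 4 (.node 2 (.node 1 (.one ⟨16661, 1, 9⟩) (.one ⟨819, 1, 9⟩)) (.node 1 (.one ⟨13701, 2, 8⟩) (.one ⟨14961, 2, 9⟩))) (.node 2 (.node 1 (.one ⟨4846, 1, 5⟩) (.one ⟨15473, 2, 7⟩)) (.node 1 (.one ⟨6651, 2, 10⟩) (.one ⟨7662, 2, 6⟩)))))) (.node 16 (.node 8 (.node 4 (.node 2 (.node 1 (.one ⟨274, 1, 9⟩) (.one ⟨7365, 1, 7⟩)) (.node 1 (.one ⟨16828, 1, 9⟩) (.one ⟨16815, 0, 8⟩))) (.node 2 (.node 1 (.one ⟨8668, 1, 8⟩) (.one ⟨15812, 1, 9⟩)) (.node 1 (.one ⟨5131, 0, 8⟩) (.one ⟨1687, 2, 9⟩)))) (.node 4 (.node 2 (.node 1 (.one ⟨2175, 0, 9⟩) (.one ⟨11159, 2, 8⟩)) (.node 1 (.one ⟨17004, 2, 9⟩) (.one ⟨1440, 2, 9⟩))) (.node 2 (.node 1 (.one ⟨15753, 1, 10⟩) (.one ⟨1439, 2, 7⟩)) (.node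 1 (.one ⟨1443, 2, 11⟩) (.one ⟨3849, 1, 7⟩))))) (.node 8 (.node 4 (.node 2 (.node 1 (.one ⟨8454, 1, 10⟩) (.one ⟨6398, 1, 9⟩)) (.node 1 (.one ⟨8531, 0, 9⟩) (.one ⟨3633, 1, 9⟩))) (.node 2 (.node 1 (.one ⟨11025, 1, 8⟩) (.one ⟨5652, 1, 9⟩)) (.node 1 (.one ⟨8585, 2, 8⟩) (.one ⟨1326, 0, 7⟩)))) (.node 4 (.node 2 (.node 1 (.one ⟨7384, 1, 4⟩) (.one ⟨11081, 1, 8⟩)) (.node 1 (.one ⟨12976, 1, 7⟩) (.one ⟨15559, 0, 9⟩))) (.node 2 (.node 1 (.one ⟨15148, 0, 10⟩) (.one ⟨6809, 0, 10⟩)) (.node 1 (.one ⟨17003, 2, 10⟩) (.one ⟨14981, 2, 7⟩)))))))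
def par10_0_8 : Arr Par :=
  (.node 32 (.node 16 (.node 8 (.node 4 (.node 2 (.node 1 (.one ⟨3854, 1, 8⟩) (.one ⟨3115, 1, 4⟩)) (.node 1 (.one ⟨12383, 1, 8⟩) (.one ⟨3173, 0, 7⟩))) (.node 2 (.node 1 (.one ⟨6814, 1, 6⟩) (.one ⟨10999, 0, 9⟩)) (.node 1 (.one ⟨2775, 1, 9⟩) (.one ⟨11991, 2, 10⟩)))) (.node 4 (.node 2 (.node 1 (.one ⟨7620, 1, 8⟩) (.one ⟨11285, 1, 8⟩)) (.node 1 (.one ⟨14548, 2, 6⟩) (.one ⟨4379, 1, 4⟩))) (.node 2 (.node 1 (.one ⟨13001, 1, 5⟩) (.one ⟨12071, 1, 5⟩)) (.node 1 (.one ⟨5834, 2, 10⟩) (.one ⟨10493, 1, 5⟩))))) (.node 8 (.node 4 (.node 2 (.node 1 (.one ⟨11257, 1, 6⟩) (.one ⟨4629, 0, 11⟩)) (.node 1 (.one ⟨374, 0, 5⟩) (.one ⟨14724, 0, 9⟩))) (.node 2 (.node 1 (.one ⟨2536, 2, 9⟩) (.one ⟨15732, 0, 10⟩)) (.node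 1 (.one ⟨14931, 2, 9⟩) (.one ⟨6810, 1, 6⟩)))) (.node 4 (.node 2 (.node 1 (.one ⟨9281, 2, 10⟩) (.one ⟨9279, 2, 10⟩)) (.node 1 (.one ⟨9282, 2, 9⟩) (.one ⟨12979, 0, 7⟩))) (.node 2 (.node 1 (.one ⟨2974, 1, 8⟩) (.one ⟨12444, 0, 10⟩)) (.node 1 (.one ⟨3833, 2, 9⟩) (.one ⟨13095, 2, 9⟩)))))) (.node 16 (.node 8 (.node 4 (.node 2 (.node 1 (.one ⟨16461, 2, 7⟩) (.one ⟨6539, 2, 7⟩)) (.node 1 (.one ⟨2281, 2, 9⟩) (.one ⟨5388, 0, 8⟩))) (.node 2 (.node 1 (.one ⟨4001, 2, 9⟩) (.one ⟨14395, 1, 8⟩)) (.node 1 (.one ⟨15821, 2, 8⟩) (.one ⟨3659, 2, 9⟩)))) (.node 4 (.node 2 (.node 1 (.one ⟨15592, 2, 6⟩) (.one ⟨3329, 2, 10⟩)) (.node 1 (.one ⟨1101, 0, 10⟩) (.one ⟨2590, 1, 9⟩))) (.node 2 (.node 1 (.one ⟨9432, 2, 10⟩) (.one ⟨4660, 1, 9⟩)) (.node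 1 (.one ⟨3333, 1, 9⟩) (.one ⟨9436, 2, 11⟩))))) (.node 8 (.node 4 (.node 2 (.node 1 (.one ⟨4214, 1, 7⟩) (.one ⟨7247, 2, 7⟩)) (.node 1 (.one ⟨11658, 2, 8⟩) (.one ⟨7293, 0, 8⟩))) (.node 2 (.node 1 (.one ⟨7272, 0, 11⟩) (.one ⟨820, 0, 8⟩)) (.node 1 (.one ⟨131, 0, 7⟩) (.one ⟨13676, 1, 9⟩)))) (.node 4 (.node 2 (.node 1 (.one ⟨10435, 1, 7⟩) (.one ⟨5862, 2, 6⟩)) (.node 1 (.one ⟨15226, 2, 9⟩) (.one ⟨3226, 1, 10⟩))) (.node 2 (.node 1 (.one ⟨11961, 2, 9⟩) (.one ⟨7537, 2, 7⟩)) (.node 1 (.one ⟨14969, 2, 7⟩) (.one ⟨6501, 0, 10⟩)))))))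
def par10_0_9 : Arr Par :=
  (.node 32 (.node 16 (.node 8 (.node 4 (.node 2 (.node 1 (.one ⟨9303, 1, 10⟩) (.one ⟨13257, 2, 9⟩)) (.node 1 (.one ⟨8597, 0, 7⟩) (.one ⟨3385, 0, 9⟩))) (.node 2 (.node 1 (.one ⟨1362, 1, 8⟩) (.one ⟨15863, 2, 9⟩)) (.node 1 (.one ⟨3790, 0, 11⟩) (.one ⟨16701, 2, 4⟩)))) (.node 4 (.node 2 (.node 1 (.one ⟨9296, 1, 9⟩) (.one ⟨9186, 1, 7⟩)) (.node 1 (.one ⟨9389, 1, 8⟩) (.one ⟨9501, 1, 9⟩))) (.node 2 (.node 1 (.one ⟨9301, 0, 9⟩) (.one ⟨9493, 1, 7⟩)) (.node 1 (.one ⟨11163, 0, 9⟩) (.one ⟨1206, 1, 10⟩))))) (.node 8 (.node 4 (.node 2 (.node 1 (.one ⟨11439, 0, 8⟩) (.one ⟨8133, 0, 9⟩)) (.node 1 (.one ⟨7870, 2, 10⟩) (.one ⟨1211, 1, 9⟩))) (.node 2 (.node 1 (.one ⟨58, 1, 9⟩) (.one ⟨8803, 1, 9⟩)) (.node 1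 (.one ⟨17168, 0, 9⟩) (.one ⟨13604, 1, 7⟩)))) (.node 4 (.node 2 (.node 1 (.one ⟨4401, 0, 7⟩) (.one ⟨9306, 1, 9⟩)) (.node 1 (.one ⟨1368, 0, 9⟩) (.one ⟨2999, 0, 10⟩))) (.node 2 (.node 1 (.one ⟨13330, 2, 10⟩) (.one ⟨4462, 0, 7⟩)) (.node 1 (.one ⟨15871, 0, 10⟩) (.one ⟨1204, 0, 9⟩)))))) (.node 16 (.node 8 (.node 4 (.node 2 (.node 1 (.one ⟨9184, 1, 9⟩) (.one ⟨8151, 0, 8⟩)) (.node 1 (.one ⟨10307, 0, 9⟩) (.one ⟨9011, 0, 11⟩))) (.node 2 (.node 1 (.one ⟨8335, 1, 9⟩) (.one ⟨14246, 0, 8⟩)) (.node 1 (.one ⟨5813, 2, 9⟩) (.one ⟨16798, 0, 9⟩)))) (.node 4 (.node 2 (.node 1 (.one ⟨9977, 1, 7⟩) (.one ⟨4068, 1, 6⟩)) (.node 1 (.one ⟨6062, 2, 10⟩) (.one ⟨10421, 2, 11⟩))) (.node 2 (.node 1 (.one ⟨14676, 2, 10⟩) (.one ⟨11814, 2, 7⟩)) (.node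 1 (.one ⟨13445, 0, 9⟩) (.one ⟨11443, 0, 10⟩))))) (.node 8 (.node 4 (.node 2 (.node 1 (.one ⟨8276, 1, 7⟩) (.one ⟨2298, 1, 9⟩)) (.node 1 (.one ⟨6075, 0, 8⟩) (.one ⟨11464, 2, 8⟩))) (.node 2 (.node 1 (.one ⟨11429, 1, 7⟩) (.one ⟨51, 1, 8⟩)) (.node 1 (.one ⟨15205, 2, 8⟩) (.one ⟨12072, 1, 6⟩)))) (.node 4 (.node 2 (.node 1 (.one ⟨16603, 1, 10⟩) (.one ⟨530, 0, 6⟩)) (.node 1 (.one ⟨8583, 0, 10⟩) (.one ⟨1880, 2, 8⟩))) (.node 2 (.node 1 (.one ⟨14765, 0, 9⟩) (.one ⟨1697, 0, 8⟩)) (.node 1 (.one ⟨2913, 2, 4⟩) (.one ⟨1692, 2, 6⟩)))))))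
def par10_0_10 : Arr Par :=
  (.node 32 (.node 16 (.node 8 (.node 4 (.node 2 (.node 1 (.one ⟨9880, 1, 5⟩) (.one ⟨666, 1, 7⟩)) (.node 1 (.one ⟨246, 0, 7⟩) (.one ⟨16642, 0, 11⟩))) (.node 2 (.node 1 (.one ⟨8184, 0, 8⟩) (.one ⟨3304, 2, 8⟩)) (.node 1 (.one ⟨3093, 1, 7⟩) (.one ⟨5880, 2, 8⟩)))) (.node 4 (.node 2 (.node 1 (.one ⟨4634, 1, 9⟩) (.one ⟨13761, 2, 10⟩)) (.node 1 (.one ⟨4968, 1, 8⟩) (.one ⟨11573, 1, 4⟩))) (.node 2 (.node 1 (.one ⟨13002, 1, 8⟩) (.one ⟨3052, 1, 8⟩)) (.node 1 (.one ⟨8746, 2, 9⟩) (.one ⟨14722, 0, 7⟩))))) (.node 8 (.node 4 (.node 2 (.node 1 (.one ⟨15877, 0, 10⟩) (.one ⟨3004, 0, 9⟩)) (.node 1 (.one ⟨7193, 1, 3⟩) (.one ⟨14222, 0, 9⟩))) (.node 2 (.node 1 (.one ⟨2913, 1, 4⟩) (.one ⟨3113, 1, 5⟩)) (.node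 1 (.one ⟨4900, 0, 8⟩) (.one ⟨4694, 1, 8⟩)))) (.node 4 (.node 2 (.node 1 (.one ⟨4870, 2, 8⟩) (.one ⟨3899, 1, 5⟩)) (.node 1 (.one ⟨6036, 2, 6⟩) (.one ⟨7100, 2, 9⟩))) (.node 2 (.node 1 (.one ⟨15523, 2, 8⟩) (.one ⟨8046, 2, 10⟩)) (.node 1 (.one ⟨4736, 0, 11⟩) (.one ⟨15386, 2, 7⟩)))))) (.node 16 (.node 8 (.node 4 (.node 2 (.node 1 (.one ⟨8254, 1, 10⟩) (.one ⟨14944, 2, 10⟩)) (.node 1 (.one ⟨2640, 2, 9⟩) (.one ⟨2518, 2, 8⟩))) (.node 2 (.node 1 (.one ⟨15133, 2, 8⟩) (.one ⟨12586, 2, 8⟩)) (.node 1 (.one ⟨2753, 1, 5⟩) (.one ⟨6356, 2, 8⟩)))) (.node 4 (.node 2 (.node 1 (.one ⟨14493, 1, 6⟩) (.one ⟨8565, 2, 7⟩)) (.node 1 (.one ⟨16769, 2, 6⟩) (.one ⟨12903, 2, 8⟩))) (.node 2 (.node 1 (.one ⟨8235, 2, 11⟩) (.one ⟨8738, 2, 8⟩)) (.node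 1 (.one ⟨10673, 1, 3⟩) (.one ⟨14449, 1, 4⟩))))) (.node 8 (.node 4 (.node 2 (.node 1 (.one ⟨14216, 0, 8⟩) (.one ⟨13761, 1, 10⟩)) (.node 1 (.one ⟨5704, 2, 9⟩) (.one ⟨14001, 1, 4⟩))) (.node 2 (.node 1 (.one ⟨14726, 0, 9⟩) (.one ⟨16482, 1, 8⟩)) (.node 1 (.one ⟨16491, 2, 8⟩) (.one ⟨8779, 2, 3⟩)))) (.node 4 (.node 2 (.node 1 (.one ⟨15136, 1, 10⟩) (.one ⟨7622, 1, 7⟩)) (.node 1 (.one ⟨14953, 2, 11⟩) (.one ⟨14760, 2, 3⟩))) (.node 2 (.node 1 (.one ⟨6291, 2, 9⟩) (.one ⟨8946, 1, 8⟩)) (.node 1 (.one ⟨12909, 2, 7⟩) (.one ⟨3925, 1, 8⟩)))))))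
def par10_0_11 : Arr Par :=
  (.node 32 (.node 16 (.node 8 (.node 4 (.node 2 (.node 1 (.one ⟨10042, 2, 9⟩) (.one ⟨2435, 0, 9⟩)) (.node 1 (.one ⟨11408, 2, 6⟩) (.one ⟨14677, 2, 11⟩))) (.node 2 (.node 1 (.one ⟨9583, 0, 7⟩) (.one ⟨12646, 2, 10⟩)) (.node 1 (.one ⟨11391, 0, 8⟩) (.one ⟨12059, 1, 7⟩)))) (.node 4 (.node 2 (.node 1 (.one ⟨11851, 1, 9⟩) (.one ⟨7813, 1, 5⟩)) (.node 1 (.one ⟨16745, 2, 9⟩) (.one ⟨15084, 1, 5⟩))) (.node 2 (.node 1 (.one ⟨7221, 1, 8⟩) (.one ⟨3578, 0, 8⟩)) (.node 1 (.one ⟨8139, 0, 8⟩) (.one ⟨6576, 2, 10⟩))))) (.node 8 (.node 4 (.node 2 (.node 1 (.one ⟨7555, 0, 9⟩) (.one ⟨9716, 2, 7⟩)) (.node 1 (.one ⟨16953, 2, 8⟩) (.one ⟨248, 2, 7⟩))) (.node 2 (.node 1 (.one ⟨11713, 0, 9⟩) (.one ⟨5505, 2, 9⟩)) (.node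 1 (.one ⟨15140, 1, 8⟩) (.one ⟨3886, 1, 8⟩)))) (.node 4 (.node 2 (.node 1 (.one ⟨5159, 1, 7⟩) (.one ⟨14785, 2, 8⟩)) (.node 1 (.one ⟨16823, 0, 8⟩) (.one ⟨4063, 1, 9⟩))) (.node 2 (.node 1 (.one ⟨14675, 2, 6⟩) (.one ⟨8174, 2, 10⟩)) (.node 1 (.one ⟨12376, 0, 10⟩) (.one ⟨7845, 2, 8⟩)))))) (.node 16 (.node 8 (.node 4 (.node 2 (.node 1 (.one ⟨4836, 2, 10⟩) (.one ⟨5740, 2, 9⟩)) (.node 1 (.one ⟨15154, 2, 9⟩) (.one ⟨15630, 1, 7⟩))) (.node 2 (.node 1 (.one ⟨6695, 0, 7⟩) (.one ⟨11568, 1, 9⟩)) (.node 1 (.one ⟨5892, 2, 6⟩) (.one ⟨14690, 2, 10⟩)))) (.node 4 (.node 2 (.node 1 (.one ⟨5971, 2, 8⟩) (.one ⟨14449, 2, 4⟩)) (.node 1 (.one ⟨3852, 1, 10⟩) (.one ⟨13036, 2, 8⟩))) (.node 2 (.node 1 (.one ⟨14214, 2, 10⟩) (.one ⟨4749, 2, 9⟩))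 (.node 1 (.one ⟨12918, 2, 9⟩) (.one ⟨2982, 1, 8⟩))))) (.node 8 (.node 4 (.node 2 (.node 1 (.one ⟨183, 1, 4⟩) (.one ⟨1997, 0, 10⟩)) (.node 1 (.one ⟨8448, 1, 7⟩) (.one ⟨10735, 1, 6⟩))) (.node 2 (.node 1 (.one ⟨11239, 0, 10⟩) (.one ⟨1029, 1, 10⟩)) (.node 1 (.one ⟨11427, 0, 9⟩) (.one ⟨9097, 1, 9⟩)))) (.node 4 (.node 2 (.node 1 (.one ⟨7687, 2, 10⟩) (.one ⟨15478, 1, 6⟩)) (.node 1 (.one ⟨2622, 2, 6⟩) (.one ⟨12236, 1, 8⟩))) (.node 2 (.node 1 (.one ⟨5759, 2, 9⟩) (.one ⟨12343, 0, 10⟩)) (.node 1 (.one ⟨1886, 2, 10⟩) (.one ⟨10301, 2, 10⟩)))))))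
def par10_0_12 : Arr Par :=
  (.node 32 (.node 16 (.node 8 (.node 4 (.node 2 (.node 1 (.one ⟨3730, 1, 6⟩) (.one ⟨12388, 1, 6⟩)) (.node 1 (.one ⟨1620, 1, 8⟩) (.one ⟨4552, 1, 9⟩))) (.node 2 (.node 1 (.one ⟨15412, 2, 9⟩) (.one ⟨12710, 1, 9⟩)) (.node 1 (.one ⟨4120, 0, 10⟩) (.one ⟨8524, 1, 9⟩)))) (.node 4 (.node 2 (.node 1 (.one ⟨7632, 2, 8⟩) (.one ⟨4597, 1, 9⟩)) (.node 1 (.one ⟨10756, 1, 8⟩) (.one ⟨14333, 0, 7⟩))) (.node 2 (.node 1 (.one ⟨16638, 1, 9⟩) (.one ⟨5353, 2, 11⟩)) (.node 1 (.one ⟨8590, 2, 6⟩) (.one ⟨12003, 2, 11⟩))))) (.node 8 (.node 4 (.node 2 (.node 1 (.one ⟨2659, 0, 8⟩) (.one ⟨10487, 1, 9⟩)) (.node 1 (.one ⟨3749, 0, 9⟩) (.one ⟨15952, 2, 9⟩))) (.node 2 (.node 1 (.one ⟨3861, 0, 9⟩) (.one ⟨12528, 2, 7⟩)) (.node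 1 (.one ⟨6768, 2, 10⟩) (.one ⟨16766, 1, 10⟩)))) (.node 4 (.node 2 (.node 1 (.one ⟨11617, 0, 7⟩) (.one ⟨2898, 2, 8⟩)) (.node 1 (.one ⟨4199, 2, 7⟩) (.one ⟨16385, 1, 6⟩))) (.node 2 (.node 1 (.one ⟨17019, 1, 4⟩) (.one ⟨15082, 1, 8⟩)) (.node 1 (.one ⟨3970, 0, 9⟩) (.one ⟨3228, 1, 8⟩)))))) (.node 16 (.node 8 (.node 4 (.node 2 (.node 1 (.one ⟨3605, 1, 9⟩) (.one ⟨15623, 0, 8⟩)) (.node 1 (.one ⟨6731, 2, 8⟩) (.one ⟨11578, 2, 10⟩))) (.node 2 (.node 1 (.one ⟨15235, 2, 8⟩) (.one ⟨678, 2, 6⟩)) (.node 1 (.one ⟨10919, 2, 6⟩) (.one ⟨1664, 2, 9⟩)))) (.node 4 (.node 2 (.node 1 (.one ⟨9911, 2, 10⟩) (.one ⟨3132, 1, 7⟩)) (.node 1 (.one ⟨16370, 1, 9⟩) (.one ⟨4307, 1, 7⟩))) (.node 2 (.node 1 (.one ⟨7618, 1, 10⟩) (.one ⟨13544, 1, 6⟩)) (.node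 1 (.one ⟨11806, 0, 9⟩) (.one ⟨10775, 1, 6⟩))))) (.node 8 (.node 4 (.node 2 (.node 1 (.one ⟨3846, 0, 8⟩) (.one ⟨12083, 2, 8⟩)) (.node 1 (.one ⟨11933, 1, 6⟩) (.one ⟨10008, 2, 8⟩))) (.node 2 (.node 1 (.one ⟨11083, 2, 7⟩) (.one ⟨3118, 1, 5⟩)) (.node 1 (.one ⟨932, 2, 7⟩) (.one ⟨13341, 0, 10⟩)))) (.node 4 (.node 2 (.node 1 (.one ⟨8990, 2, 10⟩) (.one ⟨13246, 0, 9⟩)) (.node 1 (.one ⟨14608, 1, 8⟩) (.one ⟨16635, 2, 10⟩))) (.node 2 (.node 1 (.one ⟨12846, 0, 10⟩) (.one ⟨12465, 0, 9⟩)) (.node 1 (.one ⟨10789, 2, 9⟩) (.one ⟨10726, 0, 8⟩)))))))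
def par10_0_13 : Arr Par :=
  (.node 32 (.node 16 (.node 8 (.node 4 (.node 2 (.node 1 (.one ⟨8921, 0, 8⟩) (.one ⟨3418, 1, 10⟩)) (.node 1 (.one ⟨14427, 1, 8⟩) (.one ⟨8949, 1, 9⟩))) (.node 2 (.node 1 (.one ⟨13141, 2, 9⟩) (.one ⟨11648, 2, 9⟩)) (.node 1 (.one ⟨17056, 1, 6⟩) (.one ⟨15152, 2, 7⟩)))) (.node 4 (.node 2 (.node 1 (.one ⟨6408, 0, 9⟩) (.one ⟨14364, 2, 10⟩)) (.node 1 (.one ⟨7131, 1, 5⟩) (.one ⟨6110, 1, 7⟩))) (.node 2 (.node 1 (.one ⟨15730, 1, 9⟩) (.one ⟨8933, 0, 9⟩)) (.node 1 (.one ⟨16456, 2, 6⟩) (.one ⟨13447, 0, 8⟩))))) (.node 8 (.node 4 (.node 2 (.node 1 (.one ⟨15324, 1, 8⟩) (.one ⟨9041, 2, 10⟩)) (.node 1 (.one ⟨11882, 2, 9⟩) (.one ⟨16648, 1, 7⟩))) (.node 2 (.node 1 (.one ⟨10338, 2, 8⟩) (.one ⟨742, 1, 7⟩))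 (.node 1 (.one ⟨4612, 1, 10⟩) (.one ⟨17022, 1, 4⟩)))) (.node 4 (.node 2 (.node 1 (.one ⟨8606, 1, 6⟩) (.one ⟨15080, 1, 4⟩)) (.node 1 (.one ⟨3625, 2, 9⟩) (.one ⟨4095, 0, 9⟩))) (.node 2 (.node 1 (.one ⟨10802, 1, 6⟩) (.one ⟨12215, 2, 9⟩)) (.node 1 (.one ⟨2189, 1, 5⟩) (.one ⟨5644, 2, 5⟩)))))) (.node 16 (.node 8 (.node 4 (.node 2 (.node 1 (.one ⟨1896, 2, 9⟩) (.one ⟨10187, 2, 10⟩)) (.node 1 (.one ⟨13809, 2, 8⟩) (.one ⟨7452, 0, 10⟩))) (.node 2 (.node 1 (.one ⟨10778, 0, 8⟩) (.one ⟨15305, 2, 8⟩)) (.node 1 (.one ⟨1875, 1, 4⟩) (.one ⟨850, 1, 10⟩)))) (.node 4 (.node 2 (.node 1 (.one ⟨4277, 0, 7⟩) (.one ⟨11022, 2, 8⟩)) (.node 1 (.one ⟨3918, 2, 7⟩) (.one ⟨12161, 2, 9⟩))) (.node 2 (.node 1 (.one ⟨15861, 0, 10⟩) (.one ⟨9713, 2, 11⟩))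 (.node 1 (.one ⟨3558, 2, 10⟩) (.one ⟨7732, 0, 11⟩))))) (.node 8 (.node 4 (.node 2 (.node 1 (.one ⟨13560, 1, 5⟩) (.one ⟨13089, 0, 10⟩)) (.node 1 (.one ⟨8804, 1, 9⟩) (.one ⟨57, 1, 7⟩))) (.node 2 (.node 1 (.one ⟨13584, 0, 9⟩) (.one ⟨4783, 2, 8⟩)) (.node 1 (.one ⟨441, 1, 9⟩) (.one ⟨13729, 1, 6⟩)))) (.node 4 (.node 2 (.node 1 (.one ⟨4141, 1, 7⟩) (.one ⟨13588, 2, 9⟩)) (.node 1 (.one ⟨4261, 1, 8⟩) (.one ⟨8301, 1, 5⟩))) (.node 2 (.node 1 (.one ⟨11441, 0, 8⟩) (.one ⟨17174, 2, 10⟩)) (.node 1 (.one ⟨3558, 1, 10⟩) (.one ⟨1043, 0, 7⟩)))))))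
def par10_0_14 : Arr Par :=
  (.node 32 (.node 16 (.node 8 (.node 4 (.node 2 (.node 1 (.one ⟨13565, 2, 9⟩) (.one ⟨11082, 1, 8⟩)) (.node 1 (.one ⟨14276, 2, 10⟩) (.one ⟨1999, 0, 10⟩))) (.node 2 (.node 1 (.one ⟨7156, 2, 10⟩) (.one ⟨927, 1, 7⟩)) (.node 1 (.one ⟨3878, 1, 4⟩) (.one ⟨4015, 0, 9⟩)))) (.node 4 (.node 2 (.node 1 (.one ⟨13603, 1, 9⟩) (.one ⟨4790, 2, 9⟩)) (.node 1 (.one ⟨3107, 0, 7⟩) (.one ⟨53, 1, 7⟩))) (.node 2 (.node 1 (.one ⟨323, 0, 9⟩) (.one ⟨3700, 0, 8⟩)) (.node 1 (.one ⟨5549, 1, 6⟩) (.one ⟨14161, 2, 11⟩))))) (.node 8 (.node 4 (.node 2 (.node 1 (.one ⟨4675, 2, 9⟩) (.one ⟨4886, 2, 7⟩)) (.node 1 (.one ⟨12703, 2, 4⟩) (.one ⟨16641, 0, 6⟩))) (.node 2 (.node 1 (.one ⟨5056, 2, 8⟩) (.one ⟨8156, 0, 11⟩)) (.node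 1 (.one ⟨16837, 1, 4⟩) (.one ⟨12923, 1, 8⟩)))) (.node 4 (.node 2 (.node 1 (.one ⟨3005, 0, 9⟩) (.one ⟨9048, 0, 7⟩)) (.node 1 (.one ⟨16701, 1, 4⟩) (.one ⟨3609, 0, 10⟩))) (.node 2 (.node 1 (.one ⟨8417, 2, 9⟩) (.one ⟨3113, 2, 5⟩)) (.node 1 (.one ⟨15629, 1, 8⟩) (.one ⟨15638, 0, 6⟩)))))) (.node 16 (.node 8 (.node 4 (.node 2 (.node 1 (.one ⟨16026, 2, 9⟩) (.one ⟨6620, 2, 8⟩)) (.node 1 (.one ⟨16655, 2, 10⟩) (.one ⟨5819, 0, 9⟩))) (.node 2 (.node 1 (.one ⟨9064, 1, 6⟩) (.one ⟨13759, 2, 10⟩)) (.node 1 (.one ⟨15716, 2, 9⟩) (.one ⟨15973, 1, 4⟩)))) (.node 4 (.node 2 (.node 1 (.one ⟨5251, 1, 4⟩) (.one ⟨4375, 1, 6⟩)) (.node 1 (.one ⟨10746, 2, 7⟩) (.one ⟨3048, 1, 6⟩))) (.node 2 (.node 1 (.one ⟨13381, 0, 4⟩) (.one ⟨2894, 1, 9⟩)) (.node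 1 (.one ⟨11146, 1, 6⟩) (.one ⟨13076, 0, 10⟩))))) (.node 8 (.node 4 (.node 2 (.node 1 (.one ⟨15682, 2, 11⟩) (.one ⟨12006, 2, 10⟩)) (.node 1 (.one ⟨13090, 1, 10⟩) (.one ⟨12908, 2, 7⟩))) (.node 2 (.node 1 (.one ⟨8747, 1, 8⟩) (.one ⟨477, 1, 8⟩)) (.node 1 (.one ⟨16712, 1, 7⟩) (.one ⟨16212, 2, 9⟩)))) (.node 4 (.node 2 (.node 1 (.one ⟨11848, 0, 9⟩) (.one ⟨2623, 1, 10⟩)) (.node 1 (.one ⟨12281, 1, 9⟩) (.one ⟨5492, 1, 10⟩))) (.node 2 (.node 1 (.one ⟨13167, 0, 9⟩) (.one ⟨4679, 0, 8⟩)) (.node 1 (.one ⟨14087, 0, 8⟩) (.one ⟨6551, 0, 9⟩)))))))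
def par10_0_15 : Arr Par :=
  (.node 32 (.node 16 (.node 8 (.node 4 (.node 2 (.node 1 (.one ⟨5123, 1, 7⟩) (.one ⟨5515, 1, 6⟩)) (.node 1 (.one ⟨16198, 2, 8⟩) (.one ⟨4463, 0, 7⟩))) (.node 2 (.node 1 (.one ⟨13627, 1, 7⟩) (.one ⟨3715, 1, 8⟩)) (.node 1 (.one ⟨6067, 0, 7⟩) (.one ⟨8468, 1, 9⟩)))) (.node 4 (.node 2 (.node 1 (.one ⟨12004, 2, 9⟩) (.one ⟨12171, 1, 9⟩)) (.node 1 (.one ⟨13868, 2, 9⟩) (.one ⟨5858, 2, 5⟩))) (.node 2 (.node 1 (.one ⟨13302, 2, 9⟩) (.one ⟨12803, 0, 4⟩)) (.node 1 (.one ⟨5732, 1, 6⟩) (.one ⟨14352, 1, 9⟩))))) (.node 8 (.node 4 (.node 2 (.node 1 (.one ⟨15250, 2, 8⟩) (.one ⟨1846, 0, 11⟩)) (.node 1 (.one ⟨11196, 0, 9⟩) (.one ⟨4841, 1, 9⟩))) (.node 2 (.node 1 (.one ⟨7137, 1, 7⟩) (.one ⟨7073, 0, 8⟩)) (.node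 1 (.one ⟨2094, 0, 10⟩) (.one ⟨13831, 2, 9⟩)))) (.node 4 (.node 2 (.node 1 (.one ⟨15166, 1, 8⟩) (.one ⟨2627, 0, 9⟩)) (.node 1 (.one ⟨2856, 0, 9⟩) (.one ⟨458, 1, 9⟩))) (.node 2 (.node 1 (.one ⟨4543, 2, 8⟩) (.one ⟨6830, 1, 8⟩)) (.node 1 (.one ⟨6880, 0, 5⟩) (.one ⟨15271, 0, 11⟩)))))) (.node 16 (.node 8 (.node 4 (.node 2 (.node 1 (.one ⟨7141, 0, 8⟩) (.one ⟨7042, 1, 8⟩)) (.node 1 (.one ⟨7998, 1, 8⟩) (.one ⟨1710, 0, 8⟩))) (.node 2 (.node 1 (.one ⟨3467, 0, 9⟩) (.one ⟨4141, 2, 7⟩)) (.node 1 (.one ⟨4047, 1, 6⟩) (.one ⟨4869, 0, 7⟩)))) (.node 4 (.node 2 (.node 1 (.one ⟨6267, 1, 9⟩) (.one ⟨16192, 0, 8⟩)) (.node 1 (.one ⟨4296, 1, 7⟩) (.one ⟨4800, 0, 10⟩))) (.node 2 (.node 1 (.one ⟨8377, 2, 10⟩) (.one ⟨15843, 1, 6⟩)) (.node 1 (.one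 ⟨6408, 1, 9⟩) (.one ⟨15535, 2, 9⟩))))) (.node 8 (.node 4 (.node 2 (.node 1 (.one ⟨15879, 1, 9⟩) (.one ⟨8600, 1, 8⟩)) (.node 1 (.one ⟨7814, 1, 5⟩) (.one ⟨5257, 2, 7⟩))) (.node 2 (.node 1 (.one ⟨15086, 1, 7⟩) (.one ⟨4946, 0, 9⟩)) (.node 1 (.one ⟨16605, 1, 7⟩) (.one ⟨7206, 2, 9⟩)))) (.node 4 (.node 2 (.node 1 (.one ⟨15320, 1, 6⟩) (.one ⟨303, 0, 7⟩)) (.node 1 (.one ⟨76, 0, 7⟩) (.one ⟨7844, 1, 9⟩))) (.node 2 (.node 1 (.one ⟨503, 2, 8⟩) (.one ⟨16425, 2, 5⟩)) (.node 1 (.one ⟨4105, 2, 6⟩) (.one ⟨11136, 2, 11⟩)))))))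
def par10_0 : Arr Par :=
  (.node 512 (.node 256 (.node 128 (.node 64 par10_0_0 par10_0_1) (.node 64 par10_0_2 par10_0_3)) (.node 128 (.node 64 par10_0_4 par10_0_5) (.node 64 par10_0_6 par10_0_7))) (.node 256 (.node 128 (.node 64 par10_0_8 par10_0_9) (.node 64 par10_0_10 par10_0_11)) (.node 128 (.node 64 par10_0_12 par10_0_13) (.node 64 par10_0_14 par10_0_15))))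
def par10_1_0 : Arr Par :=
  (.node 32 (.node 16 (.node 8 (.node 4 (.node 2 (.node 1 (.one ⟨6633, 2, 9⟩) (.one ⟨2426, 2, 9⟩)) (.node 1 (.one ⟨7110, 2, 10⟩) (.one ⟨3881, 1, 9⟩))) (.node 2 (.node 1 (.one ⟨11927, 1, 8⟩) (.one ⟨16622, 2, 9⟩)) (.node 1 (.one ⟨1151, 2, 9⟩) (.one ⟨4314, 2, 11⟩)))) (.node 4 (.node 2 (.node 1 (.one ⟨12168, 1, 10⟩) (.one ⟨3708, 0, 10⟩)) (.node 1 (.one ⟨3352, 2, 8⟩) (.one ⟨5051, 2, 10⟩))) (.node 2 (.node 1 (.one ⟨15713, 2, 8⟩) (.one ⟨11171, 0, 9⟩)) (.node 1 (.one ⟨5161, 2, 7⟩) (.one ⟨3186, 1, 8⟩))))) (.node 8 (.node 4 (.node 2 (.node 1 (.one ⟨2115, 2, 10⟩) (.one ⟨13842, 0, 2⟩)) (.node 1 (.one ⟨15648, 1, 6⟩) (.one ⟨6948, 2, 6⟩))) (.node 2 (.node 1 (.one ⟨15141, 1, 8⟩) (.one ⟨2607, 0, 9⟩)) (.node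 1 (.one ⟨15977, 2, 7⟩) (.one ⟨9356, 0, 7⟩)))) (.node 4 (.node 2 (.node 1 (.one ⟨938, 1, 8⟩) (.one ⟨2902, 2, 8⟩)) (.node 1 (.one ⟨6307, 1, 11⟩) (.one ⟨14779, 1, 8⟩))) (.node 2 (.node 1 (.one ⟨10482, 0, 8⟩) (.one ⟨15137, 1, 10⟩)) (.node 1 (.one ⟨9988, 2, 8⟩) (.one ⟨1948, 1, 11⟩)))))) (.node 16 (.node 8 (.node 4 (.node 2 (.node 1 (.one ⟨12749, 1, 4⟩) (.one ⟨4104, 0, 11⟩)) (.node 1 (.one ⟨8007, 1, 6⟩) (.one ⟨12999, 1, 6⟩))) (.node 2 (.node 1 (.one ⟨13262, 0, 7⟩) (.one ⟨15320, 0, 6⟩)) (.node 1 (.one ⟨10792, 1, 7⟩) (.one ⟨13561, 1, 9⟩)))) (.node 4 (.node 2 (.node 1 (.one ⟨16765, 1, 8⟩) (.one ⟨13338, 0, 10⟩)) (.node 1 (.one ⟨4598, 1, 8⟩) (.one ⟨3619, 0, 8⟩))) (.node 2 (.node 1 (.one ⟨8919, 2, 9⟩) (.one ⟨3275, 1, 8⟩)) (.node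 1 (.one ⟨11717, 1, 8⟩) (.one ⟨2632, 0, 9⟩))))) (.node 8 (.node 4 (.node 2 (.node 1 (.one ⟨14951, 0, 9⟩) (.one ⟨14616, 1, 10⟩)) (.node 1 (.one ⟨6549, 1, 8⟩) (.one ⟨13723, 2, 7⟩))) (.node 2 (.node 1 (.one ⟨15195, 2, 4⟩) (.one ⟨14576, 1, 9⟩)) (.node 1 (.one ⟨6525, 1, 10⟩) (.one ⟨14604, 1, 7⟩)))) (.node 4 (.node 2 (.node 1 (.one ⟨6534, 1, 7⟩) (.one ⟨10408, 1, 11⟩)) (.node 1 (.one ⟨11279, 2, 6⟩) (.one ⟨7422, 2, 8⟩))) (.node 2 (.node 1 (.one ⟨6574, 1, 10⟩) (.one ⟨5669, 2, 9⟩)) (.node 1 (.one ⟨2317, 1, 9⟩) (.one ⟨13892, 2, 8⟩)))))))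
def par10_1_1 : Arr Par :=
  (.node 32 (.node 16 (.node 8 (.node 4 (.node 2 (.node 1 (.one ⟨4952, 1, 7⟩) (.one ⟨1473, 2, 8⟩)) (.node 1 (.one ⟨10862, 0, 11⟩) (.one ⟨15040, 2, 6⟩))) (.node 2 (.node 1 (.one ⟨8373, 1, 8⟩) (.one ⟨4664, 0, 8⟩)) (.node 1 (.one ⟨12922, 2, 4⟩) (.one ⟨2176, 0, 11⟩)))) (.node 4 (.node 2 (.node 1 (.one ⟨16450, 1, 10⟩) (.one ⟨2495, 0, 8⟩)) (.node 1 (.one ⟨15242, 2, 9⟩) (.one ⟨17011, 2, 9⟩))) (.node 2 (.node 1 (.one ⟨13168, 0, 5⟩) (.one ⟨13528, 0, 9⟩)) (.node 1 (.one ⟨3613, 2, 7⟩) (.one ⟨7355, 0, 9⟩))))) (.node 8 (.node 4 (.node 2 (.node 1 (.one ⟨170, 0, 7⟩) (.one ⟨16413, 2, 6⟩)) (.node 1 (.one ⟨15603, 2, 10⟩) (.one ⟨4461, 0, 10⟩))) (.node 2 (.node 1 (.one ⟨16271, 1, 9⟩) (.one ⟨4521, 1, 10⟩))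 (.node 1 (.one ⟨16899, 2, 10⟩) (.one ⟨16744, 0, 7⟩)))) (.node 4 (.node 2 (.node 1 (.one ⟨4499, 1, 9⟩) (.one ⟨217, 2, 7⟩)) (.node 1 (.one ⟨4612, 2, 10⟩) (.one ⟨4492, 1, 10⟩))) (.node 2 (.node 1 (.one ⟨15163, 0, 8⟩) (.one ⟨3741, 2, 7⟩)) (.node 1 (.one ⟨8185, 1, 10⟩) (.one ⟨4141, 0, 7⟩)))))) (.node 16 (.node 8 (.node 4 (.node 2 (.node 1 (.one ⟨8528, 2, 10⟩) (.one ⟨15338, 2, 10⟩)) (.node 1 (.one ⟨9199, 2, 9⟩) (.one ⟨4801, 2, 9⟩))) (.node 2 (.node 1 (.one ⟨8184, 2, 8⟩) (.one ⟨12657, 1, 10⟩)) (.node 1 (.one ⟨3923, 0, 9⟩) (.one ⟨4545, 1, 10⟩)))) (.node 4 (.node 2 (.node 1 (.one ⟨6071, 2, 9⟩) (.one ⟨7482, 2, 10⟩)) (.node 1 (.one ⟨1928, 2, 7⟩) (.one ⟨233, 2, 7⟩))) (.node 2 (.node 1 (.one ⟨7258, 2, 8⟩) (.one ⟨6687, 0, 8⟩))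 (.node 1 (.one ⟨3247, 2, 5⟩) (.one ⟨15470, 0, 7⟩))))) (.node 8 (.node 4 (.node 2 (.node 1 (.one ⟨6280, 2, 6⟩) (.one ⟨10280, 1, 8⟩)) (.node 1 (.one ⟨14038, 2, 9⟩) (.one ⟨3289, 0, 7⟩))) (.node 2 (.node 1 (.one ⟨11945, 2, 8⟩) (.one ⟨13875, 1, 6⟩)) (.node 1 (.one ⟨3529, 0, 9⟩) (.one ⟨5877, 1, 6⟩)))) (.node 4 (.node 2 (.node 1 (.one ⟨1145, 2, 9⟩) (.one ⟨13955, 1, 8⟩)) (.node 1 (.one ⟨15740, 0, 8⟩) (.one ⟨12514, 2, 6⟩))) (.node 2 (.node 1 (.one ⟨164, 2, 6⟩) (.one ⟨2095, 0, 5⟩)) (.node 1 (.one ⟨16020, 0, 8⟩) (.one ⟨1641, 0, 8⟩)))))))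
def par10_1_2 : Arr Par :=
  (.node 32 (.node 16 (.node 8 (.node 4 (.node 2 (.node 1 (.one ⟨1951, 0, 10⟩) (.one ⟨10274, 2, 8⟩)) (.node 1 (.one ⟨12063, 0, 3⟩) (.one ⟨10471, 2, 9⟩))) (.node 2 (.node 1 (.one ⟨6986, 2, 8⟩) (.one ⟨15129, 1, 10⟩)) (.node 1 (.one ⟨7531, 2, 8⟩) (.one ⟨5838, 0, 9⟩)))) (.node 4 (.node 2 (.node 1 (.one ⟨16047, 2, 9⟩) (.one ⟨15401, 2, 8⟩)) (.node 1 (.one ⟨12073, 2, 9⟩) (.one ⟨15871, 2, 10⟩))) (.node 2 (.node 1 (.one ⟨10839, 2, 9⟩) (.one ⟨16052, 0, 10⟩)) (.node 1 (.one ⟨15617, 2, 8⟩) (.one ⟨11959, 1, 10⟩))))) (.node 8 (.node 4 (.node 2 (.node 1 (.one ⟨7447, 2, 7⟩) (.one ⟨3894, 1, 8⟩)) (.node 1 (.one ⟨15043, 2, 6⟩) (.one ⟨10666, 2, 9⟩))) (.node 2 (.node 1 (.one ⟨16321, 1, 6⟩) (.one ⟨16363, 1,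 6⟩)) (.node 1 (.one ⟨12141, 0, 5⟩) (.one ⟨4323, 0, 6⟩)))) (.node 4 (.node 2 (.node 1 (.one ⟨10635, 2, 9⟩) (.one ⟨16337, 1, 8⟩)) (.node 1 (.one ⟨1177, 2, 9⟩) (.one ⟨13077, 2, 9⟩))) (.node 2 (.node 1 (.one ⟨5717, 0, 10⟩) (.one ⟨5066, 2, 9⟩)) (.node 1 (.one ⟨12010, 1, 7⟩) (.one ⟨9500, 2, 7⟩)))))) (.node 16 (.node 8 (.node 4 (.node 2 (.node 1 (.one ⟨14445, 2, 9⟩) (.one ⟨13161, 1, 9⟩)) (.node 1 (.one ⟨14984, 0, 7⟩) (.one ⟨9012, 1, 8⟩))) (.node 2 (.node 1 (.one ⟨14541, 2, 6⟩) (.one ⟨13121, 1, 7⟩)) (.node 1 (.one ⟨5090, 1, 10⟩) (.one ⟨2728, 2, 1⟩)))) (.node 4 (.node 2 (.node 1 (.one ⟨6042, 2, 6⟩) (.one ⟨9033, 1, 10⟩)) (.node 1 (.one ⟨17127, 1, 5⟩) (.one ⟨2311, 2, 8⟩))) (.node 2 (.node 1 (.one ⟨5844, 2, 8⟩) (.one ⟨7679,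 2, 7⟩)) (.node 1 (.one ⟨7135, 0, 8⟩) (.one ⟨5519, 1, 0⟩))))) (.node 8 (.node 4 (.node 2 (.node 1 (.one ⟨1726, 2, 7⟩) (.one ⟨77, 1, 8⟩)) (.node 1 (.one ⟨2019, 2, 5⟩) (.one ⟨1858, 2, 10⟩))) (.node 2 (.node 1 (.one ⟨4278, 2, 8⟩) (.one ⟨11915, 0, 10⟩)) (.node 1 (.one ⟨3970, 2, 9⟩) (.one ⟨86, 1, 11⟩)))) (.node 4 (.node 2 (.node 1 (.one ⟨15825, 0, 9⟩) (.one ⟨4519, 2, 10⟩)) (.node 1 (.one ⟨2051, 2, 9⟩) (.one ⟨13955, 2, 8⟩))) (.node 2 (.node 1 (.one ⟨16231, 2, 10⟩) (.one ⟨1430, 2, 9⟩)) (.node 1 (.one ⟨3986, 2, 9⟩) (.one ⟨4972, 2, 7⟩)))))))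
def par10_1_3 : Arr Par :=
  (.node 32 (.node 16 (.node 8 (.node 4 (.node 2 (.node 1 (.one ⟨5462, 2, 9⟩) (.one ⟨2003, 1, 8⟩)) (.node 1 (.one ⟨10048, 1, 10⟩) (.one ⟨5729, 2, 8⟩))) (.node 2 (.node 1 (.one ⟨9649, 0, 5⟩) (.one ⟨10095, 1, 10⟩)) (.node 1 (.one ⟨13043, 0, 6⟩) (.one ⟨15423, 2, 9⟩)))) (.node 4 (.node 2 (.node 1 (.one ⟨13117, 0, 10⟩) (.one ⟨6226, 0, 7⟩)) (.node 1 (.one ⟨16456, 0, 6⟩) (.one ⟨4585, 0, 8⟩))) (.node 2 (.node 1 (.one ⟨11916, 2, 11⟩) (.one ⟨8782, 0, 7⟩)) (.node 1 (.one ⟨8670, 2, 11⟩) (.one ⟨6445, 1, 7⟩))))) (.node 8 (.node 4 (.node 2 (.node 1 (.one ⟨6384, 1, 8⟩) (.one ⟨4192, 2, 9⟩)) (.node 1 (.one ⟨8248, 2, 9⟩) (.one ⟨13902, 2, 8⟩))) (.node 2 (.node 1 (.one ⟨6424, 1, 9⟩) (.one ⟨7796, 0, 10⟩)) (.node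 1 (.one ⟨12414, 2, 9⟩) (.one ⟨14501, 1, 8⟩)))) (.node 4 (.node 2 (.node 1 (.one ⟨14456, 1, 9⟩) (.one ⟨13721, 2, 10⟩)) (.node 1 (.one ⟨10770, 1, 8⟩) (.one ⟨13647, 2, 7⟩))) (.node 2 (.node 1 (.one ⟨14480, 1, 8⟩) (.one ⟨2673, 0, 8⟩)) (.node 1 (.one ⟨7880, 0, 9⟩) (.one ⟨12589, 1, 8⟩)))))) (.node 16 (.node 8 (.node 4 (.node 2 (.node 1 (.one ⟨4476, 1, 7⟩) (.one ⟨1248, 2, 8⟩)) (.node 1 (.one ⟨11502, 2, 8⟩) (.one ⟨4506, 1, 9⟩))) (.node 2 (.node 1 (.one ⟨12554, 1, 7⟩) (.one ⟨11950, 2, 8⟩)) (.node 1 (.one ⟨12756, 0, 8⟩) (.one ⟨16786, 0, 8⟩)))) (.node 4 (.node 2 (.node 1 (.one ⟨16281, 1, 9⟩) (.one ⟨4325, 0, 8⟩)) (.node 1 (.one ⟨6312, 2, 8⟩) (.one ⟨12270, 0, 7⟩))) (.node 2 (.node 1 (.one ⟨8234, 1, 7⟩) (.one ⟨8175, 1, 9⟩)) (.node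 1 (.one ⟨9828, 0, 4⟩) (.one ⟨11230, 2, 7⟩))))) (.node 8 (.node 4 (.node 2 (.node 1 (.one ⟨8390, 0, 9⟩) (.one ⟨7415, 2, 10⟩)) (.node 1 (.one ⟨13844, 1, 7⟩) (.one ⟨8877, 0, 11⟩))) (.node 2 (.node 1 (.one ⟨13816, 1, 10⟩) (.one ⟨13901, 2, 7⟩)) (.node 1 (.one ⟨5748, 1, 8⟩) (.one ⟨13226, 0, 7⟩)))) (.node 4 (.node 2 (.node 1 (.one ⟨2013, 1, 9⟩) (.one ⟨2031, 1, 9⟩)) (.node 1 (.one ⟨10064, 1, 10⟩) (.one ⟨2093, 1, 9⟩))) (.node 2 (.node 1 (.one ⟨12801, 0, 8⟩) (.one ⟨4395, 2, 9⟩)) (.node 1 (.one ⟨1984, 1, 7⟩) (.one ⟨17097, 1, 6⟩)))))))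
def par10_1_4 : Arr Par :=
  (.node 32 (.node 16 (.node 8 (.node 4 (.node 2 (.node 1 (.one ⟨17124, 1, 9⟩) (.one ⟨14979, 0, 7⟩)) (.node 1 (.one ⟨9044, 1, 10⟩) (.one ⟨10229, 2, 9⟩))) (.node 2 (.node 1 (.one ⟨10221, 2, 10⟩) (.one ⟨14411, 0, 8⟩)) (.node 1 (.one ⟨10156, 0, 10⟩) (.one ⟨5077, 1, 10⟩)))) (.node 4 (.node 2 (.node 1 (.one ⟨6083, 0, 6⟩) (.one ⟨1571, 2, 8⟩)) (.node 1 (.one ⟨1005, 2, 7⟩) (.one ⟨13150, 1, 9⟩))) (.node 2 (.node 1 (.one ⟨13105, 1, 8⟩) (.one ⟨7864, 2, 7⟩)) (.node 1 (.one ⟨7975, 2, 10⟩) (.one ⟨16109, 0, 5⟩))))) (.node 8 (.node 4 (.node 2 (.node 1 (.one ⟨14334, 0, 10⟩) (.one ⟨15419, 1, 9⟩)) (.node 1 (.one ⟨2191, 2, 9⟩) (.one ⟨4967, 2, 9⟩))) (.node 2 (.node 1 (.one ⟨15063, 0, 6⟩) (.one ⟨7349, 1, 9⟩))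 (.node 1 (.one ⟨3389, 0, 8⟩) (.one ⟨2804, 0, 10⟩)))) (.node 4 (.node 2 (.node 1 (.one ⟨15621, 2, 7⟩) (.one ⟨3502, 0, 6⟩)) (.node 1 (.one ⟨4770, 0, 7⟩) (.one ⟨12189, 2, 11⟩))) (.node 2 (.node 1 (.one ⟨3400, 1, 7⟩) (.one ⟨1692, 0, 6⟩)) (.node 1 (.one ⟨4495, 0, 7⟩) (.one ⟨8595, 0, 8⟩)))))) (.node 16 (.node 8 (.node 4 (.node 2 (.node 1 (.one ⟨3350, 2, 10⟩) (.one ⟨3741, 0, 7⟩)) (.node 1 (.one ⟨9007, 0, 9⟩) (.one ⟨358, 0, 7⟩))) (.node 2 (.node 1 (.one ⟨11112, 1, 10⟩) (.one ⟨6664, 0, 7⟩)) (.node 1 (.one ⟨14871, 1, 9⟩) (.one ⟨124, 2, 9⟩)))) (.node 4 (.node 2 (.node 1 (.one ⟨3039, 1, 8⟩) (.one ⟨14212, 2, 7⟩)) (.node 1 (.one ⟨14252, 2, 9⟩) (.one ⟨3739, 2, 6⟩))) (.node 2 (.node 1 (.one ⟨3699, 2, 10⟩) (.one ⟨11071, 1, 7⟩)) (.node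 1 (.one ⟨15843, 2, 6⟩) (.one ⟨6521, 2, 1⟩))))) (.node 8 (.node 4 (.node 2 (.node 1 (.one ⟨9387, 2, 6⟩) (.one ⟨3480, 0, 8⟩)) (.node 1 (.one ⟨3417, 1, 6⟩) (.one ⟨3384, 1, 8⟩))) (.node 2 (.node 1 (.one ⟨11496, 1, 9⟩) (.one ⟨4390, 2, 8⟩)) (.node 1 (.one ⟨15689, 2, 7⟩) (.one ⟨13755, 2, 7⟩)))) (.node 4 (.node 2 (.node 1 (.one ⟨2715, 2, 7⟩) (.one ⟨14619, 2, 7⟩)) (.node 1 (.one ⟨381, 2, 8⟩) (.one ⟨7357, 1, 10⟩))) (.node 2 (.node 1 (.one ⟨10715, 2, 7⟩) (.one ⟨15440, 1, 9⟩)) (.node 1 (.one ⟨9651, 2, 7⟩) (.one ⟨16568, 2, 10⟩)))))))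
def par10_1_5 : Arr Par :=
  (.node 32 (.node 16 (.node 8 (.node 4 (.node 2 (.node 1 (.one ⟨12424, 2, 7⟩) (.one ⟨12999, 2, 6⟩)) (.node 1 (.one ⟨6334, 1, 9⟩) (.one ⟨10722, 1, 7⟩))) (.node 2 (.node 1 (.one ⟨2610, 1, 9⟩) (.one ⟨10550, 0, 7⟩)) (.node 1 (.one ⟨5567, 2, 4⟩) (.one ⟨2640, 1, 9⟩)))) (.node 4 (.node 2 (.node 1 (.one ⟨10690, 1, 11⟩) (.one ⟨11252, 2, 7⟩)) (.node 1 (.one ⟨10718, 1, 7⟩) (.one ⟨7441, 0, 8⟩))) (.node 2 (.node 1 (.one ⟨14416, 1, 9⟩) (.one ⟨4757, 0, 10⟩)) (.node 1 (.one ⟨14412, 1, 7⟩) (.one ⟨1551, 0, 2⟩))))) (.node 8 (.node 4 (.node 2 (.node 1 (.one ⟨9794, 2, 7⟩) (.one ⟨610, 1, 10⟩)) (.node 1 (.one ⟨13262, 2, 7⟩) (.one ⟨9305, 0, 8⟩))) (.node 2 (.node 1 (.one ⟨5129, 2, 8⟩) (.one ⟨13406, 2, 11⟩)) (.node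 1 (.one ⟨679, 2, 9⟩) (.one ⟨5244, 2, 10⟩)))) (.node 4 (.node 2 (.node 1 (.one ⟨10141, 2, 8⟩) (.one ⟨6697, 2, 10⟩)) (.node 1 (.one ⟨16335, 2, 9⟩) (.one ⟨9443, 2, 8⟩))) (.node 2 (.node 1 (.one ⟨1200, 0, 8⟩) (.one ⟨16234, 2, 8⟩)) (.node 1 (.one ⟨7064, 2, 7⟩) (.one ⟨8409, 2, 12⟩)))))) (.node 16 (.node 8 (.node 4 (.node 2 (.node 1 (.one ⟨17166, 1, 5⟩) (.one ⟨14986, 2, 8⟩)) (.node 1 (.one ⟨961, 2, 7⟩) (.one ⟨9130, 1, 10⟩))) (.node 2 (.node 1 (.one ⟨2969, 2, 9⟩) (.one ⟨5142, 1, 9⟩)) (.node 1 (.one ⟨12837, 2, 9⟩) (.one ⟨9216, 0, 7⟩)))) (.node 4 (.node 2 (.node 1 (.one ⟨4731, 2, 8⟩) (.one ⟨6084, 0, 9⟩)) (.node 1 (.one ⟨5131, 1, 8⟩) (.one ⟨17190, 1, 10⟩))) (.node 2 (.node 1 (.one ⟨9644, 2, 8⟩) (.one ⟨14416, 2, 9⟩)) (.node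 1 (.one ⟨2867, 0, 4⟩) (.one ⟨189, 2, 8⟩))))) (.node 8 (.node 4 (.node 2 (.node 1 (.one ⟨16685, 0, 9⟩) (.one ⟨5165, 1, 8⟩)) (.node 1 (.one ⟨3785, 0, 9⟩) (.one ⟨14868, 0, 5⟩))) (.node 2 (.node 1 (.one ⟨14870, 2, 10⟩) (.one ⟨408, 0, 7⟩)) (.node 1 (.one ⟨16659, 2, 7⟩) (.one ⟨17198, 1, 10⟩)))) (.node 4 (.node 2 (.node 1 (.one ⟨3349, 2, 9⟩) (.one ⟨9785, 0, 7⟩)) (.node 1 (.one ⟨9103, 1, 8⟩) (.one ⟨14257, 2, 8⟩))) (.node 2 (.node 1 (.one ⟨5512, 2, 5⟩) (.one ⟨1272, 2, 10⟩)) (.node 1 (.one ⟨17157, 1, 9⟩) (.one ⟨2184, 1, 8⟩)))))))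
def par10_1_6 : Arr Par :=
  (.node 32 (.node 16 (.node 8 (.node 4 (.node 2 (.node 1 (.one ⟨10237, 1, 10⟩) (.one ⟨11189, 2, 4⟩)) (.node 1 (.one ⟨10221, 1, 10⟩) (.one ⟨10264, 1, 9⟩))) (.node 2 (.node 1 (.one ⟨2221, 1, 9⟩) (.one ⟨7267, 0, 8⟩)) (.node 1 (.one ⟨2107, 1, 7⟩) (.one ⟨13969, 1, 10⟩)))) (.node 4 (.node 2 (.node 1 (.one ⟨10210, 0, 9⟩) (.one ⟨4375, 2, 6⟩)) (.node 1 (.one ⟨5813, 1, 9⟩) (.one ⟨16024, 0, 10⟩))) (.node 2 (.node 1 (.one ⟨15459, 2, 8⟩) (.one ⟨837, 0, 10⟩)) (.node 1 (.one ⟨12230, 2, 9⟩) (.one ⟨1199, 2, 1⟩))))) (.node 8 (.node 4 (.node 2 (.node 1 (.one ⟨10268, 2, 8⟩) (.one ⟨3865, 1, 9⟩)) (.node 1 (.one ⟨3194, 0, 8⟩) (.one ⟨7824, 1, 9⟩))) (.node 2 (.node 1 (.one ⟨6509, 2, 9⟩) (.one ⟨12325, 2, 9⟩)) (.node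 1 (.one ⟨4076, 2, 8⟩) (.one ⟨5788, 2, 3⟩)))) (.node 4 (.node 2 (.node 1 (.one ⟨14040, 2, 10⟩) (.one ⟨6492, 2, 7⟩)) (.node 1 (.one ⟨15794, 1, 4⟩) (.one ⟨11835, 1, 8⟩))) (.node 2 (.node 1 (.one ⟨2631, 2, 7⟩) (.one ⟨10234, 2, 10⟩)) (.node 1 (.one ⟨3701, 0, 6⟩) (.one ⟨1588, 1, 6⟩)))))) (.node 16 (.node 8 (.node 4 (.node 2 (.node 1 (.one ⟨1697, 1, 8⟩) (.one ⟨4776, 2, 8⟩)) (.node 1 (.one ⟨16036, 2, 7⟩) (.one ⟨9715, 1, 10⟩))) (.node 2 (.node 1 (.one ⟨5083, 0, 9⟩) (.one ⟨6917, 2, 9⟩)) (.node 1 (.one ⟨9642, 2, 6⟩) (.one ⟨6574, 2, 10⟩)))) (.node 4 (.node 2 (.node 1 (.one ⟨14119, 1, 10⟩) (.one ⟨6897, 0, 7⟩)) (.node 1 (.one ⟨280, 2, 7⟩) (.one ⟨6008, 1, 9⟩))) (.node 2 (.node 1 (.one ⟨17112, 2, 7⟩) (.one ⟨12783, 2, 10⟩)) (.node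 1 (.one ⟨7867, 2, 9⟩) (.one ⟨6909, 0, 8⟩))))) (.node 8 (.node 4 (.node 2 (.node 1 (.one ⟨5456, 0, 9⟩) (.one ⟨14044, 1, 10⟩)) (.node 1 (.one ⟨11194, 2, 10⟩) (.one ⟨1743, 2, 6⟩))) (.node 2 (.node 1 (.one ⟨10032, 0, 10⟩) (.one ⟨5966, 1, 9⟩)) (.node 1 (.one ⟨13137, 0, 11⟩) (.one ⟨12277, 2, 9⟩)))) (.node 4 (.node 2 (.node 1 (.one ⟨7093, 0, 9⟩) (.one ⟨16358, 2, 9⟩)) (.node 1 (.one ⟨9663, 1, 9⟩) (.one ⟨1637, 1, 9⟩))) (.node 2 (.node 1 (.one ⟨15702, 0, 8⟩) (.one ⟨8599, 2, 7⟩)) (.node 1 (.one ⟨1616, 1, 8⟩) (.one ⟨15461, 2, 6⟩)))))))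
def par10_1_7 : Arr Par :=
  (.node 32 (.node 16 (.node 8 (.node 4 (.node 2 (.node 1 (.one ⟨9632, 0, 8⟩) (.one ⟨8283, 2, 7⟩)) (.node 1 (.one ⟨10338, 1, 8⟩) (.one ⟨14566, 1, 9⟩))) (.node 2 (.node 1 (.one ⟨7416, 2, 8⟩) (.one ⟨10326, 1, 7⟩)) (.node 1 (.one ⟨2246, 1, 10⟩) (.one ⟨10299, 1, 9⟩)))) (.node 4 (.node 2 (.node 1 (.one ⟨6990, 0, 8⟩) (.one ⟨1672, 2, 7⟩)) (.node 1 (.one ⟨7101, 2, 9⟩) (.one ⟨4972, 0, 7⟩))) (.node 2 (.node 1 (.one ⟨9964, 0, 10⟩) (.one ⟨546, 0, 10⟩)) (.node 1 (.one ⟨14522, 1, 8⟩) (.one ⟨3440, 2, 10⟩))))) (.node 8 (.node 4 (.node 2 (.node 1 (.one ⟨13314, 2, 9⟩) (.one ⟨11175, 2, 9⟩)) (.node 1 (.one ⟨11958, 1, 5⟩) (.one ⟨1223, 2, 10⟩))) (.node 2 (.node 1 (.one ⟨11754, 2, 9⟩) (.one ⟨10395, 2, 10⟩)) (.node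 1 (.one ⟨4285, 2, 9⟩) (.one ⟨8087, 2, 5⟩)))) (.node 4 (.node 2 (.node 1 (.one ⟨13880, 2, 10⟩) (.one ⟨11739, 2, 10⟩)) (.node 1 (.one ⟨937, 2, 7⟩) (.one ⟨11234, 0, 9⟩))) (.node 2 (.node 1 (.one ⟨15562, 2, 10⟩) (.one ⟨13331, 2, 11⟩)) (.node 1 (.one ⟨3467, 2, 9⟩) (.one ⟨15701, 1, 5⟩)))))) (.node 16 (.node 8 (.node 4 (.node 2 (.node 1 (.one ⟨4486, 2, 9⟩) (.one ⟨6621, 1, 7⟩)) (.node 1 (.one ⟨10598, 2, 8⟩) (.one ⟨4129, 2, 9⟩))) (.node 2 (.node 1 (.one ⟨14357, 0, 6⟩) (.one ⟨10399, 2, 9⟩)) (.node 1 (.one ⟨3491, 0, 7⟩) (.one ⟨14224, 0, 8⟩)))) (.node 4 (.node 2 (.node 1 (.one ⟨14904, 2, 8⟩) (.one ⟨16467, 2, 7⟩)) (.node 1 (.one ⟨1755, 1, 7⟩) (.one ⟨9461, 2, 8⟩))) (.node 2 (.node 1 (.one ⟨4234, 2, 7⟩) (.one ⟨8879, 0, 8⟩)) (.node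 1 (.one ⟨1711, 0, 11⟩) (.one ⟨3470, 2, 8⟩))))) (.node 8 (.node 4 (.node 2 (.node 1 (.one ⟨15870, 2, 9⟩) (.one ⟨11512, 2, 9⟩)) (.node 1 (.one ⟨7833, 2, 10⟩) (.one ⟨17197, 2, 9⟩))) (.node 2 (.node 1 (.one ⟨1059, 2, 7⟩) (.one ⟨9111, 2, 5⟩)) (.node 1 (.one ⟨3160, 1, 10⟩) (.one ⟨3119, 1, 10⟩)))) (.node 4 (.node 2 (.node 1 (.one ⟨8531, 2, 9⟩) (.one ⟨12630, 0, 9⟩)) (.node 1 (.one ⟨3297, 2, 9⟩) (.one ⟨8188, 2, 8⟩))) (.node 2 (.node 1 (.one ⟨11177, 2, 8⟩) (.one ⟨1913, 2, 10⟩)) (.node 1 (.one ⟨16935, 2, 9⟩) (.one ⟨7060, 0, 7⟩)))))))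
def par10_1_8 : Arr Par :=
  (.node 32 (.node 16 (.node 8 (.node 4 (.node 2 (.node 1 (.one ⟨8666, 2, 7⟩) (.one ⟨7533, 1, 9⟩)) (.node 1 (.one ⟨15566, 1, 10⟩) (.one ⟨8097, 0, 6⟩))) (.node 2 (.node 1 (.one ⟨16539, 0, 5⟩) (.one ⟨9002, 2, 8⟩)) (.node 1 (.one ⟨16749, 2, 7⟩) (.one ⟨3157, 1, 8⟩)))) (.node 4 (.node 2 (.node 1 (.one ⟨11187, 1, 8⟩) (.one ⟨3078, 0, 8⟩)) (.node 1 (.one ⟨6204, 2, 8⟩) (.one ⟨11831, 0, 8⟩))) (.node 2 (.node 1 (.one ⟨3167, 1, 10⟩) (.one ⟨3856, 0, 6⟩)) (.node 1 (.one ⟨12677, 0, 8⟩) (.one ⟨1199, 0, 1⟩))))) (.node 8 (.node 4 (.node 2 (.node 1 (.one ⟨1371, 0, 9⟩) (.one ⟨609, 1, 9⟩)) (.node 1 (.one ⟨10932, 2, 9⟩) (.one ⟨1561, 0, 10⟩))) (.node 2 (.node 1 (.one ⟨2741, 2, 9⟩) (.one ⟨10829, 2, 10⟩)) (.node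 1 (.one ⟨2015, 2, 6⟩) (.one ⟨605, 1, 8⟩)))) (.node 4 (.node 2 (.node 1 (.one ⟨600, 1, 8⟩) (.one ⟨12418, 2, 9⟩)) (.node 1 (.one ⟨9381, 0, 10⟩) (.one ⟨74, 1, 6⟩))) (.node 2 (.node 1 (.one ⟨6700, 2, 6⟩) (.one ⟨5541, 2, 8⟩)) (.node 1 (.one ⟨12175, 2, 9⟩) (.one ⟨2616, 2, 10⟩)))))) (.node 16 (.node 8 (.node 4 (.node 2 (.node 1 (.one ⟨2621, 2, 9⟩) (.one ⟨191, 2, 8⟩)) (.node 1 (.one ⟨951, 2, 10⟩) (.one ⟨387, 2, 7⟩))) (.node 2 (.node 1 (.one ⟨800, 2, 10⟩) (.one ⟨2618, 2, 9⟩)) (.node 1 (.one ⟨2619, 2, 9⟩) (.one ⟨4857, 1, 7⟩)))) (.node 4 (.node 2 (.node 1 (.one ⟨4842, 2, 5⟩) (.one ⟨1792, 1, 3⟩)) (.node 1 (.one ⟨15724, 2, 7⟩) (.one ⟨14684, 0, 11⟩))) (.node 2 (.node 1 (.one ⟨699, 0, 4⟩) (.one ⟨11017, 1, 10⟩)) (.node 1 (.one ⟨12172,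 0, 10⟩) (.one ⟨6639, 0, 9⟩))))) (.node 8 (.node 4 (.node 2 (.node 1 (.one ⟨4694, 0, 8⟩) (.one ⟨16150, 2, 10⟩)) (.node 1 (.one ⟨13460, 1, 11⟩) (.one ⟨1740, 2, 11⟩))) (.node 2 (.node 1 (.one ⟨11355, 0, 5⟩) (.one ⟨15082, 2, 8⟩)) (.node 1 (.one ⟨14468, 0, 7⟩) (.one ⟨2589, 0, 8⟩)))) (.node 4 (.node 2 (.node 1 (.one ⟨4748, 1, 5⟩) (.one ⟨6666, 0, 9⟩)) (.node 1 (.one ⟨356, 2, 10⟩) (.one ⟨9707, 1, 5⟩))) (.node 2 (.node 1 (.one ⟨13467, 0, 8⟩) (.one ⟨10923, 2, 9⟩)) (.node 1 (.one ⟨15751, 0, 10⟩) (.one ⟨6735, 2, 7⟩)))))))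
def par10_1_9 : Arr Par :=
  (.node 32 (.node 16 (.node 8 (.node 4 (.node 2 (.node 1 (.one ⟨11480, 2, 8⟩) (.one ⟨1449, 1, 8⟩)) (.node 1 (.one ⟨6207, 1, 8⟩) (.one ⟨2521, 1, 6⟩))) (.node 2 (.node 1 (.one ⟨1438, 2, 7⟩) (.one ⟨15812, 2, 9⟩)) (.node 1 (.one ⟨10773, 1, 9⟩) (.one ⟨482, 2, 10⟩)))) (.node 4 (.node 2 (.node 1 (.one ⟨7956, 0, 10⟩) (.one ⟨6183, 1, 9⟩)) (.node 1 (.one ⟨7370, 0, 8⟩) (.one ⟨3983, 0, 9⟩))) (.node 2 (.node 1 (.one ⟨3357, 2, 5⟩) (.one ⟨406, 1, 9⟩)) (.node 1 (.one ⟨2208, 0, 7⟩) (.one ⟨13470, 2, 8⟩))))) (.node 8 (.node 4 (.node 2 (.node 1 (.one ⟨9206, 2, 7⟩) (.one ⟨12139, 0, 6⟩)) (.node 1 (.one ⟨12261, 0, 10⟩) (.one ⟨1649, 1, 8⟩))) (.node 2 (.node 1 (.one ⟨12537, 2, 7⟩) (.one ⟨10935, 1, 7⟩)) (.node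 1 (.one ⟨14018, 2, 7⟩) (.one ⟨8122, 2, 10⟩)))) (.node 4 (.node 2 (.node 1 (.one ⟨15632, 1, 8⟩) (.one ⟨4759, 2, 8⟩)) (.node 1 (.one ⟨8234, 2, 7⟩) (.one ⟨7423, 2, 6⟩))) (.node 2 (.node 1 (.one ⟨1612, 2, 6⟩) (.one ⟨9469, 1, 6⟩)) (.node 1 (.one ⟨1580, 0, 5⟩) (.one ⟨12267, 2, 8⟩)))))) (.node 16 (.node 8 (.node 4 (.node 2 (.node 1 (.one ⟨6645, 2, 5⟩) (.one ⟨7632, 1, 8⟩)) (.node 1 (.one ⟨3049, 2, 9⟩) (.one ⟨1590, 2, 8⟩))) (.node 2 (.node 1 (.one ⟨17100, 2, 5⟩) (.one ⟨6088, 2, 8⟩)) (.node 1 (.one ⟨14665, 1, 6⟩) (.one ⟨10139, 0, 8⟩)))) (.node 4 (.node 2 (.node 1 (.one ⟨4110, 2, 8⟩) (.one ⟨6459, 2, 7⟩)) (.node 1 (.one ⟨12068, 1, 8⟩) (.one ⟨8810, 1, 9⟩))) (.node 2 (.node 1 (.one ⟨8086, 2, 8⟩) (.one ⟨12175, 0, 9⟩)) (.node 1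 (.one ⟨5310, 2, 7⟩) (.one ⟨5985, 2, 8⟩))))) (.node 8 (.node 4 (.node 2 (.node 1 (.one ⟨1469, 1, 8⟩) (.one ⟨8715, 2, 7⟩)) (.node 1 (.one ⟨11320, 0, 8⟩) (.one ⟨3640, 2, 10⟩))) (.node 2 (.node 1 (.one ⟨6664, 1, 7⟩) (.one ⟨2997, 2, 10⟩)) (.node 1 (.one ⟨1158, 0, 9⟩) (.one ⟨11595, 2, 10⟩)))) (.node 4 (.node 2 (.node 1 (.one ⟨15539, 1, 9⟩) (.one ⟨2060, 0, 7⟩)) (.node 1 (.one ⟨7823, 2, 7⟩) (.one ⟨319, 0, 10⟩))) (.node 2 (.node 1 (.one ⟨15311, 2, 9⟩) (.one ⟨1903, 0, 9⟩)) (.node 1 (.one ⟨6884, 0, 9⟩) (.one ⟨2135, 0, 8⟩)))))))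
def par10_1_10 : Arr Par :=
  (.node 32 (.node 16 (.node 8 (.node 4 (.node 2 (.node 1 (.one ⟨14135, 0, 8⟩) (.one ⟨16376, 0, 5⟩)) (.node 1 (.one ⟨15322, 2, 9⟩) (.one ⟨14468, 2, 7⟩))) (.node 2 (.node 1 (.one ⟨7808, 2, 7⟩) (.one ⟨2752, 2, 9⟩)) (.node 1 (.one ⟨4029, 0, 2⟩) (.one ⟨14698, 0, 7⟩)))) (.node 4 (.node 2 (.node 1 (.one ⟨15852, 2, 6⟩) (.one ⟨11013, 0, 10⟩)) (.node 1 (.one ⟨2813, 0, 7⟩) (.one ⟨14743, 2, 7⟩))) (.node 2 (.node 1 (.one ⟨9835, 2, 10⟩) (.one ⟨16738, 2, 7⟩)) (.node 1 (.one ⟨16393, 1, 7⟩) (.one ⟨3257, 2, 8⟩))))) (.node 8 (.node 4 (.node 2 (.node 1 (.one ⟨7174, 2, 11⟩) (.one ⟨11568, 2, 9⟩)) (.node 1 (.one ⟨8847, 0, 7⟩) (.one ⟨13768, 2, 9⟩))) (.node 2 (.node 1 (.one ⟨9452, 2, 9⟩) (.one ⟨1450, 1, 8⟩))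 (.node 1 (.one ⟨5078, 2, 10⟩) (.one ⟨11119, 0, 8⟩)))) (.node 4 (.node 2 (.node 1 (.one ⟨3584, 0, 9⟩) (.one ⟨9736, 1, 8⟩)) (.node 1 (.one ⟨5645, 0, 10⟩) (.one ⟨7751, 0, 9⟩))) (.node 2 (.node 1 (.one ⟨9889, 2, 5⟩) (.one ⟨9024, 2, 10⟩)) (.node 1 (.one ⟨8750, 1, 6⟩) (.one ⟨7313, 2, 8⟩)))))) (.node 16 (.node 8 (.node 4 (.node 2 (.node 1 (.one ⟨16727, 2, 5⟩) (.one ⟨6717, 2, 7⟩)) (.node 1 (.one ⟨17156, 2, 7⟩) (.one ⟨5994, 1, 10⟩))) (.node 2 (.node 1 (.one ⟨4307, 2, 7⟩) (.one ⟨10402, 2, 9⟩)) (.node 1 (.one ⟨3823, 2, 10⟩) (.one ⟨1770, 1, 10⟩)))) (.node 4 (.node 2 (.node 1 (.one ⟨1741, 2, 10⟩) (.one ⟨5564, 2, 10⟩)) (.node 1 (.one ⟨13750, 2, 9⟩) (.one ⟨9783, 0, 2⟩))) (.node 2 (.node 1 (.one ⟨15209, 2, 8⟩) (.one ⟨4593, 0, 8⟩))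 (.node 1 (.one ⟨3122, 2, 7⟩) (.one ⟨1144, 2, 10⟩))))) (.node 8 (.node 4 (.node 2 (.node 1 (.one ⟨8743, 2, 10⟩) (.one ⟨15637, 0, 7⟩)) (.node 1 (.one ⟨2567, 2, 9⟩) (.one ⟨6078, 0, 8⟩))) (.node 2 (.node 1 (.one ⟨11670, 2, 9⟩) (.one ⟨15169, 0, 10⟩)) (.node 1 (.one ⟨3462, 0, 11⟩) (.one ⟨38, 2, 7⟩)))) (.node 4 (.node 2 (.node 1 (.one ⟨13172, 1, 9⟩) (.one ⟨9094, 0, 10⟩)) (.node 1 (.one ⟨4150, 1, 8⟩) (.one ⟨1446, 2, 7⟩))) (.node 2 (.node 1 (.one ⟨1442, 2, 8⟩) (.one ⟨1445, 2, 10⟩)) (.node 1 (.one ⟨12514, 1, 6⟩) (.one ⟨3587, 2, 10⟩)))))))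
def par10_1_11 : Arr Par :=
  (.node 32 (.node 16 (.node 8 (.node 4 (.node 2 (.node 1 (.one ⟨1939, 0, 10⟩) (.one ⟨7469, 2, 8⟩)) (.node 1 (.one ⟨7849, 2, 6⟩) (.one ⟨1937, 0, 10⟩))) (.node 2 (.node 1 (.one ⟨5148, 2, 7⟩) (.one ⟨13642, 1, 9⟩)) (.node 1 (.one ⟨5627, 2, 9⟩) (.one ⟨3597, 2, 9⟩)))) (.node 4 (.node 2 (.node 1 (.one ⟨3295, 1, 8⟩) (.one ⟨9726, 0, 9⟩)) (.node 1 (.one ⟨16095, 0, 9⟩) (.one ⟨15334, 2, 9⟩))) (.node 2 (.node 1 (.one ⟨1574, 0, 10⟩) (.one ⟨14205, 1, 9⟩)) (.node 1 (.one ⟨8958, 2, 5⟩) (.one ⟨5585, 2, 5⟩))))) (.node 8 (.node 4 (.node 2 (.node 1 (.one ⟨16824, 2, 8⟩) (.one ⟨5068, 2, 7⟩)) (.node 1 (.one ⟨9596, 2, 8⟩) (.one ⟨5850, 1, 11⟩))) (.node 2 (.node 1 (.one ⟨15560, 1, 11⟩) (.one ⟨5917, 2, 9⟩)) (.node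 1 (.one ⟨357, 1, 11⟩) (.one ⟨12852, 1, 9⟩)))) (.node 4 (.node 2 (.node 1 (.one ⟨8840, 1, 10⟩) (.one ⟨3854, 0, 8⟩)) (.node 1 (.one ⟨6216, 1, 11⟩) (.one ⟨11041, 2, 6⟩))) (.node 2 (.node 1 (.one ⟨1922, 0, 8⟩) (.one ⟨4291, 2, 9⟩)) (.node 1 (.one ⟨17003, 1, 10⟩) (.one ⟨16132, 1, 9⟩)))))) (.node 16 (.node 8 (.node 4 (.node 2 (.node 1 (.one ⟨4130, 0, 8⟩) (.one ⟨4100, 0, 9⟩)) (.node 1 (.one ⟨15395, 2, 10⟩) (.one ⟨12571, 2, 11⟩))) (.node 2 (.node 1 (.one ⟨2392, 1, 11⟩) (.one ⟨16700, 2, 9⟩)) (.node 1 (.one ⟨161, 2, 5⟩) (.one ⟨9765, 2, 11⟩)))) (.node 4 (.node 2 (.node 1 (.one ⟨15306, 2, 7⟩) (.one ⟨1663, 2, 9⟩)) (.node 1 (.one ⟨7276, 2, 9⟩) (.one ⟨15225, 2, 9⟩))) (.node 2 (.node 1 (.one ⟨7201, 1, 10⟩) (.one ⟨7196, 2, 9⟩)) (.node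 1 (.one ⟨112, 2, 6⟩) (.one ⟨10056, 0, 6⟩))))) (.node 8 (.node 4 (.node 2 (.node 1 (.one ⟨5509, 1, 0⟩) (.one ⟨10722, 0, 7⟩)) (.node 1 (.one ⟨13552, 2, 6⟩) (.one ⟨14073, 0, 11⟩))) (.node 2 (.node 1 (.one ⟨10454, 1, 8⟩) (.one ⟨14604, 0, 7⟩)) (.node 1 (.one ⟨6406, 0, 10⟩) (.one ⟨286, 2, 8⟩)))) (.node 4 (.node 2 (.node 1 (.one ⟨668, 1, 9⟩) (.one ⟨11463, 2, 9⟩)) (.node 1 (.one ⟨11469, 2, 10⟩) (.one ⟨526, 2, 11⟩))) (.node 2 (.node 1 (.one ⟨816, 2, 9⟩) (.one ⟨14224, 1, 8⟩)) (.node 1 (.one ⟨14195, 0, 8⟩) (.one ⟨4751, 1, 6⟩)))))))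
def par10_1_12 : Arr Par :=
  (.node 32 (.node 16 (.node 8 (.node 4 (.node 2 (.node 1 (.one ⟨9606, 2, 2⟩) (.one ⟨7952, 1, 7⟩)) (.node 1 (.one ⟨6910, 1, 5⟩) (.one ⟨15150, 1, 9⟩))) (.node 2 (.node 1 (.one ⟨13912, 2, 12⟩) (.one ⟨13704, 2, 11⟩)) (.node 1 (.one ⟨8767, 2, 10⟩) (.one ⟨5492, 1, 0⟩)))) (.node 4 (.node 2 (.node 1 (.one ⟨15464, 2, 7⟩) (.one ⟨12711, 2, 9⟩)) (.node 1 (.one ⟨12121, 1, 8⟩) (.one ⟨8204, 1, 8⟩))) (.node 2 (.node 1 (.one ⟨8167, 2, 3⟩) (.one ⟨1560, 2, 9⟩)) (.node 1 (.one ⟨14189, 0, 9⟩) (.one ⟨3477, 2, 9⟩))))) (.node 8 (.node 4 (.node 2 (.node 1 (.one ⟨11051, 2, 6⟩) (.one ⟨799, 2, 9⟩)) (.node 1 (.one ⟨2473, 0, 7⟩) (.one ⟨11215, 2, 9⟩))) (.node 2 (.node 1 (.one ⟨2786, 2, 9⟩) (.one ⟨16198, 1, 8⟩)) (.node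 1 (.one ⟨2511, 2, 6⟩) (.one ⟨12455, 2, 9⟩)))) (.node 4 (.node 2 (.node 1 (.one ⟨3849, 0, 7⟩) (.one ⟨11180, 0, 5⟩)) (.node 1 (.one ⟨16694, 0, 10⟩) (.one ⟨2506, 1, 8⟩))) (.node 2 (.node 1 (.one ⟨13115, 1, 10⟩) (.one ⟨11046, 2, 7⟩)) (.node 1 (.one ⟨4529, 2, 7⟩) (.one ⟨1910, 0, 9⟩)))))) (.node 16 (.node 8 (.node 4 (.node 2 (.node 1 (.one ⟨1244, 2, 9⟩) (.one ⟨9660, 2, 8⟩)) (.node 1 (.one ⟨263, 2, 9⟩) (.one ⟨13933, 2, 9⟩))) (.node 2 (.node 1 (.one ⟨5712, 2, 9⟩) (.one ⟨6939, 0, 9⟩)) (.node 1 (.one ⟨1708, 1, 9⟩) (.one ⟨10808, 2, 9⟩)))) (.node 4 (.node 2 (.node 1 (.one ⟨7105, 1, 8⟩) (.one ⟨9256, 2, 11⟩)) (.node 1 (.one ⟨15815, 1, 8⟩) (.one ⟨12458, 0, 7⟩))) (.node 2 (.node 1 (.one ⟨15240, 2, 9⟩) (.one ⟨15519, 1, 8⟩)) (.node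 1 (.one ⟨9780, 1, 5⟩) (.one ⟨7858, 1, 9⟩))))) (.node 8 (.node 4 (.node 2 (.node 1 (.one ⟨14439, 2, 7⟩) (.one ⟨4518, 2, 6⟩)) (.node 1 (.one ⟨6515, 2, 9⟩) (.one ⟨1091, 1, 7⟩))) (.node 2 (.node 1 (.one ⟨7856, 2, 7⟩) (.one ⟨9191, 2, 9⟩)) (.node 1 (.one ⟨15914, 2, 10⟩) (.one ⟨8400, 2, 8⟩)))) (.node 4 (.node 2 (.node 1 (.one ⟨15666, 2, 11⟩) (.one ⟨15688, 2, 8⟩)) (.node 1 (.one ⟨8426, 2, 8⟩) (.one ⟨16472, 2, 10⟩))) (.node 2 (.node 1 (.one ⟨7608, 2, 8⟩) (.one ⟨16308, 0, 9⟩)) (.node 1 (.one ⟨16479, 2, 8⟩) (.one ⟨9697, 2, 7⟩)))))))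
def par10_1_13 : Arr Par :=
  (.node 32 (.node 16 (.node 8 (.node 4 (.node 2 (.node 1 (.one ⟨9986, 1, 10⟩) (.one ⟨12990, 0, 10⟩)) (.node 1 (.one ⟨14880, 0, 9⟩) (.one ⟨15023, 0, 8⟩))) (.node 2 (.node 1 (.one ⟨12702, 0, 10⟩) (.one ⟨1552, 2, 10⟩)) (.node 1 (.one ⟨9899, 0, 8⟩) (.one ⟨8795, 0, 6⟩)))) (.node 4 (.node 2 (.node 1 (.one ⟨10696, 0, 7⟩) (.one ⟨4677, 1, 9⟩)) (.node 1 (.one ⟨7522, 1, 7⟩) (.one ⟨14182, 2, 6⟩))) (.node 2 (.node 1 (.one ⟨11868, 2, 9⟩) (.one ⟨4643, 2, 8⟩)) (.node 1 (.one ⟨8299, 0, 10⟩) (.one ⟨13349, 2, 9⟩))))) (.node 8 (.node 4 (.node 2 (.node 1 (.one ⟨16543, 2, 8⟩) (.one ⟨14983, 0, 9⟩)) (.node 1 (.one ⟨2288, 2, 8⟩) (.one ⟨12875, 2, 3⟩))) (.node 2 (.node 1 (.one ⟨2600, 0, 10⟩) (.one ⟨6363, 2, 3⟩))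 (.node 1 (.one ⟨1302, 2, 9⟩) (.one ⟨12477, 2, 9⟩)))) (.node 4 (.node 2 (.node 1 (.one ⟨10114, 2, 7⟩) (.one ⟨8908, 2, 9⟩)) (.node 1 (.one ⟨6822, 2, 5⟩) (.one ⟨3925, 2, 8⟩))) (.node 2 (.node 1 (.one ⟨16843, 1, 10⟩) (.one ⟨3655, 0, 9⟩)) (.node 1 (.one ⟨11735, 0, 9⟩) (.one ⟨15261, 1, 4⟩)))))) (.node 16 (.node 8 (.node 4 (.node 2 (.node 1 (.one ⟨6164, 2, 8⟩) (.one ⟨7869, 1, 8⟩)) (.node 1 (.one ⟨205, 0, 9⟩) (.one ⟨9646, 0, 9⟩))) (.node 2 (.node 1 (.one ⟨10553, 0, 10⟩) (.one ⟨1358, 2, 8⟩)) (.node 1 (.one ⟨14407, 2, 7⟩) (.one ⟨4637, 2, 8⟩)))) (.node 4 (.node 2 (.node 1 (.one ⟨7819, 2, 8⟩) (.one ⟨6751, 2, 9⟩)) (.node 1 (.one ⟨229, 2, 8⟩) (.one ⟨9785, 1, 7⟩))) (.node 2 (.node 1 (.one ⟨2276, 1, 2⟩) (.one ⟨10530, 1, 9⟩)) (.node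 1 (.one ⟨358, 1, 7⟩) (.one ⟨14082, 0, 8⟩))))) (.node 8 (.node 4 (.node 2 (.node 1 (.one ⟨6128, 1, 8⟩) (.one ⟨7454, 0, 8⟩)) (.node 1 (.one ⟨12531, 0, 10⟩) (.one ⟨3449, 2, 9⟩))) (.node 2 (.node 1 (.one ⟨13733, 1, 10⟩) (.one ⟨8530, 0, 8⟩)) (.node 1 (.one ⟨9625, 0, 8⟩) (.one ⟨12450, 0, 10⟩)))) (.node 4 (.node 2 (.node 1 (.one ⟨3288, 1, 9⟩) (.one ⟨9866, 1, 9⟩)) (.node 1 (.one ⟨6868, 1, 11⟩) (.one ⟨14703, 1, 12⟩))) (.node 2 (.node 1 (.one ⟨3084, 2, 9⟩) (.one ⟨7405, 0, 10⟩)) (.node 1 (.one ⟨4313, 2, 9⟩) (.one ⟨10849, 2, 8⟩)))))))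
def par10_1_14 : Arr Par :=
  (.node 32 (.node 16 (.node 8 (.node 4 (.node 2 (.node 1 (.one ⟨11965, 1, 3⟩) (.one ⟨10658, 0, 7⟩)) (.node 1 (.one ⟨13973, 2, 7⟩) (.one ⟨6671, 2, 10⟩))) (.node 2 (.node 1 (.one ⟨3371, 2, 10⟩) (.one ⟨6440, 2, 10⟩)) (.node 1 (.one ⟨16507, 1, 10⟩) (.one ⟨7600, 2, 10⟩)))) (.node 4 (.node 2 (.node 1 (.one ⟨4751, 2, 6⟩) (.one ⟨5195, 1, 7⟩)) (.node 1 (.one ⟨6638, 2, 7⟩) (.one ⟨12593, 2, 6⟩))) (.node 2 (.node 1 (.one ⟨3783, 0, 6⟩) (.one ⟨13950, 0, 9⟩)) (.node 1 (.one ⟨9532, 2, 8⟩) (.one ⟨5108, 2, 10⟩))))) (.node 8 (.node 4 (.node 2 (.node 1 (.one ⟨6152, 0, 8⟩) (.one ⟨2329, 2, 9⟩)) (.node 1 (.one ⟨4622, 2, 8⟩) (.one ⟨6151, 0, 9⟩))) (.node 2 (.node 1 (.one ⟨2297, 2, 9⟩) (.one ⟨2229, 0, 9⟩)) (.node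 1 (.one ⟨2226, 0, 8⟩) (.one ⟨16896, 2, 7⟩)))) (.node 4 (.node 2 (.node 1 (.one ⟨13144, 0, 11⟩) (.one ⟨17096, 1, 11⟩)) (.node 1 (.one ⟨9584, 2, 8⟩) (.one ⟨3900, 2, 11⟩))) (.node 2 (.node 1 (.one ⟨5217, 2, 10⟩) (.one ⟨5823, 2, 9⟩)) (.node 1 (.one ⟨6604, 2, 7⟩) (.one ⟨3788, 0, 9⟩)))))) (.node 16 (.node 8 (.node 4 (.node 2 (.node 1 (.one ⟨9909, 1, 11⟩) (.one ⟨5355, 1, 10⟩)) (.node 1 (.one ⟨4877, 2, 9⟩) (.one ⟨11059, 2, 10⟩))) (.node 2 (.node 1 (.one ⟨17100, 1, 5⟩) (.one ⟨3955, 0, 11⟩)) (.node 1 (.one ⟨5274, 1, 10⟩) (.one ⟨1657, 2, 8⟩)))) (.node 4 (.node 2 (.node 1 (.one ⟨1160, 1, 10⟩) (.one ⟨4331, 2, 9⟩)) (.node 1 (.one ⟨3200, 2, 9⟩) (.one ⟨9971, 0, 7⟩))) (.node 2 (.node 1 (.one ⟨4127, 0, 8⟩) (.one ⟨13112, 0, 10⟩)) (.node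 1 (.one ⟨13489, 2, 8⟩) (.one ⟨1827, 1, 10⟩))))) (.node 8 (.node 4 (.node 2 (.node 1 (.one ⟨5254, 2, 10⟩) (.one ⟨1949, 1, 10⟩)) (.node 1 (.one ⟨10003, 1, 8⟩) (.one ⟨13676, 0, 9⟩))) (.node 2 (.node 1 (.one ⟨413, 1, 11⟩) (.one ⟨5207, 2, 11⟩)) (.node 1 (.one ⟨2023, 1, 10⟩) (.one ⟨11622, 2, 9⟩)))) (.node 4 (.node 2 (.node 1 (.one ⟨10426, 1, 10⟩) (.one ⟨2456, 0, 6⟩)) (.node 1 (.one ⟨4843, 2, 7⟩) (.one ⟨12614, 0, 9⟩))) (.node 2 (.node 1 (.one ⟨16380, 1, 10⟩) (.one ⟨12849, 2, 9⟩)) (.node 1 (.one ⟨5064, 0, 4⟩) (.one ⟨8538, 2, 6⟩)))))))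
def par10_1_15 : Arr Par :=
  (.node 32 (.node 16 (.node 8 (.node 4 (.node 2 (.node 1 (.one ⟨11041, 0, 6⟩) (.one ⟨14864, 1, 10⟩)) (.node 1 (.one ⟨13722, 2, 10⟩) (.one ⟨4854, 1, 9⟩))) (.node 2 (.node 1 (.one ⟨9522, 2, 10⟩) (.one ⟨4985, 2, 7⟩)) (.node 1 (.one ⟨16634, 2, 7⟩) (.one ⟨16633, 2, 9⟩)))) (.node 4 (.node 2 (.node 1 (.one ⟨7187, 1, 6⟩) (.one ⟨7580, 1, 6⟩)) (.node 1 (.one ⟨9152, 0, 10⟩) (.one ⟨5210, 2, 7⟩))) (.node 2 (.node 1 (.one ⟨4707, 0, 11⟩) (.one ⟨2633, 2, 9⟩)) (.node 1 (.one ⟨8212, 0, 8⟩) (.one ⟨5621, 2, 9⟩))))) (.node 8 (.node 4 (.node 2 (.node 1 (.one ⟨13691, 2, 10⟩) (.one ⟨5639, 2, 9⟩)) (.node 1 (.one ⟨13699, 2, 10⟩) (.one ⟨6461, 0, 7⟩))) (.node 2 (.node 1 (.one ⟨7426, 1, 6⟩) (.one ⟨11009, 0, 9⟩))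 (.node 1 (.one ⟨13731, 2, 4⟩) (.one ⟨5492, 2, 10⟩)))) (.node 4 (.node 2 (.node 1 (.one ⟨13100, 2, 9⟩) (.one ⟨10880, 2, 8⟩)) (.node 1 (.one ⟨12340, 0, 10⟩) (.one ⟨16123, 2, 9⟩))) (.node 2 (.node 1 (.one ⟨16774, 1, 8⟩) (.one ⟨6401, 2, 8⟩)) (.node 1 (.one ⟨14816, 1, 7⟩) (.one ⟨12835, 2, 5⟩)))))) (.node 16 (.node 8 (.node 4 (.node 2 (.node 1 (.one ⟨2374, 1, 10⟩) (.one ⟨6347, 2, 7⟩)) (.node 1 (.one ⟨6402, 2, 8⟩) (.one ⟨17022, 2, 4⟩))) (.node 2 (.node 1 (.one ⟨12049, 1, 11⟩) (.one ⟨15274, 0, 9⟩)) (.node 1 (.one ⟨1681, 2, 10⟩) (.one ⟨16826, 2, 9⟩)))) (.node 4 (.node 2 (.node 1 (.one ⟨14749, 2, 9⟩) (.one ⟨16038, 0, 8⟩)) (.node 1 (.one ⟨4908, 2, 11⟩) (.one ⟨12034, 2, 9⟩))) (.node 2 (.node 1 (.one ⟨10039, 1, 9⟩) (.one ⟨6387,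 2, 8⟩)) (.node 1 (.one ⟨7814, 2, 5⟩) (.one ⟨2662, 2, 8⟩))))) (.node 8 (.node 4 (.node 2 (.node 1 (.one ⟨1647, 0, 9⟩) (.one ⟨6217, 2, 6⟩)) (.node 1 (.one ⟨7675, 1, 5⟩) (.one ⟨7679, 1, 7⟩))) (.node 2 (.node 1 (.one ⟨1800, 2, 8⟩) (.one ⟨964, 2, 8⟩)) (.node 1 (.one ⟨6011, 2, 10⟩) (.one ⟨2448, 1, 8⟩)))) (.node 4 (.node 2 (.node 1 (.one ⟨5677, 2, 10⟩) (.one ⟨16193, 2, 6⟩)) (.node 1 (.one ⟨16280, 0, 9⟩) (.one ⟨10789, 1, 9⟩))) (.node 2 (.node 1 (.one ⟨13253, 0, 5⟩) (.one ⟨3323, 2, 8⟩)) (.node 1 (.one ⟨12155, 2, 7⟩) (.one ⟨13356, 2, 12⟩)))))))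
def par10_1 : Arr Par :=
  (.node 512 (.node 256 (.node 128 (.node 64 par10_1_0 par10_1_1) (.node 64 par10_1_2 par10_1_3)) (.node 128 (.node 64 par10_1_4 par10_1_5) (.node 64 par10_1_6 par10_1_7))) (.node 256 (.node 128 (.node 64 par10_1_8 par10_1_9) (.node 64 par10_1_10 par10_1_11)) (.node 128 (.node 64 par10_1_12 par10_1_13) (.node 64 par10_1_14 par10_1_15))))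
def par10_2_0 : Arr Par :=
  (.node 32 (.node 16 (.node 8 (.node 4 (.node 2 (.node 1 (.one ⟨6785, 1, 10⟩) (.one ⟨15497, 2, 8⟩)) (.node 1 (.one ⟨16728, 2, 6⟩) (.one ⟨10029, 1, 8⟩))) (.node 2 (.node 1 (.one ⟨6559, 2, 9⟩) (.one ⟨1364, 2, 9⟩)) (.node 1 (.one ⟨4308, 2, 6⟩) (.one ⟨14927, 2, 6⟩)))) (.node 4 (.node 2 (.node 1 (.one ⟨17147, 1, 10⟩) (.one ⟨3750, 1, 9⟩)) (.node 1 (.one ⟨4572, 0, 7⟩) (.one ⟨4691, 2, 10⟩))) (.node 2 (.node 1 (.one ⟨11503, 2, 6⟩) (.one ⟨16409, 0, 9⟩)) (.node 1 (.one ⟨15867, 0, 8⟩) (.one ⟨10585, 2, 10⟩))))) (.node 8 (.node 4 (.node 2 (.node 1 (.one ⟨17032, 1, 8⟩) (.one ⟨10354, 0, 9⟩)) (.node 1 (.one ⟨10175, 2, 8⟩) (.one ⟨8721, 2, 9⟩))) (.node 2 (.node 1 (.one ⟨14763, 0, 9⟩) (.one ⟨15267, 1, 9⟩))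 (.node 1 (.one ⟨13187, 1, 10⟩) (.one ⟨2911, 2, 8⟩)))) (.node 4 (.node 2 (.node 1 (.one ⟨6709, 1, 10⟩) (.one ⟨1190, 2, 11⟩)) (.node 1 (.one ⟨6168, 1, 9⟩) (.one ⟨10510, 2, 10⟩))) (.node 2 (.node 1 (.one ⟨4517, 2, 7⟩) (.one ⟨11450, 2, 6⟩)) (.node 1 (.one ⟨13099, 0, 10⟩) (.one ⟨10359, 1, 8⟩)))))) (.node 16 (.node 8 (.node 4 (.node 2 (.node 1 (.one ⟨8800, 2, 7⟩) (.one ⟨16801, 0, 9⟩)) (.node 1 (.one ⟨5838, 2, 9⟩) (.one ⟨1222, 1, 7⟩))) (.node 2 (.node 1 (.one ⟨1815, 1, 10⟩) (.one ⟨14375, 1, 6⟩)) (.node 1 (.one ⟨1900, 2, 3⟩) (.one ⟨9747, 0, 9⟩)))) (.node 4 (.node 2 (.node 1 (.one ⟨11814, 1, 7⟩) (.one ⟨835, 2, 10⟩)) (.node 1 (.one ⟨14021, 0, 9⟩) (.one ⟨13976, 0, 8⟩))) (.node 2 (.node 1 (.one ⟨11804, 1, 10⟩) (.one ⟨7632, 0,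 8⟩)) (.node 1 (.one ⟨445, 2, 9⟩) (.one ⟨2566, 0, 4⟩))))) (.node 8 (.node 4 (.node 2 (.node 1 (.one ⟨7384, 0, 4⟩) (.one ⟨15544, 2, 11⟩)) (.node 1 (.one ⟨5113, 2, 11⟩) (.one ⟨1776, 1, 1⟩))) (.node 2 (.node 1 (.one ⟨11933, 0, 6⟩) (.one ⟨2242, 2, 10⟩)) (.node 1 (.one ⟨16387, 2, 10⟩) (.one ⟨6135, 2, 7⟩)))) (.node 4 (.node 2 (.node 1 (.one ⟨10059, 0, 10⟩) (.one ⟨3128, 0, 8⟩)) (.node 1 (.one ⟨5335, 2, 10⟩) (.one ⟨14474, 2, 6⟩))) (.node 2 (.node 1 (.one ⟨5597, 1, 11⟩) (.one ⟨1673, 0, 11⟩)) (.node 1 (.one ⟨4803, 0, 8⟩) (.one ⟨295, 2, 8⟩)))))))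
def par10_2_1 : Arr Par :=
  (.node 32 (.node 16 (.node 8 (.node 4 (.node 2 (.node 1 (.one ⟨15773, 0, 10⟩) (.one ⟨16552, 2, 7⟩)) (.node 1 (.one ⟨15135, 2, 10⟩) (.one ⟨7354, 2, 9⟩))) (.node 2 (.node 1 (.one ⟨4944, 1, 8⟩) (.one ⟨12183, 2, 9⟩)) (.node 1 (.one ⟨10657, 2, 8⟩) (.one ⟨11620, 2, 10⟩)))) (.node 4 (.node 2 (.node 1 (.one ⟨11362, 1, 8⟩) (.one ⟨8697, 1, 9⟩)) (.node 1 (.one ⟨13441, 0, 8⟩) (.one ⟨10490, 2, 10⟩))) (.node 2 (.node 1 (.one ⟨6782, 2, 10⟩) (.one ⟨15332, 1, 10⟩)) (.node 1 (.one ⟨638, 0, 5⟩) (.one ⟨10382, 2, 9⟩))))) (.node 8 (.node 4 (.node 2 (.node 1 (.one ⟨15822, 2, 5⟩) (.one ⟨97, 2, 4⟩)) (.node 1 (.one ⟨11419, 1, 10⟩) (.one ⟨6793, 2, 10⟩))) (.node 2 (.node 1 (.one ⟨13965, 1, 8⟩) (.one ⟨15524, 2, 7⟩))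 (.node 1 (.one ⟨11299, 1, 8⟩) (.one ⟨12059, 2, 7⟩)))) (.node 4 (.node 2 (.node 1 (.one ⟨1409, 1, 5⟩) (.one ⟨8661, 0, 11⟩)) (.node 1 (.one ⟨13624, 1, 3⟩) (.one ⟨4771, 0, 7⟩))) (.node 2 (.node 1 (.one ⟨5396, 0, 7⟩) (.one ⟨7734, 1, 8⟩)) (.node 1 (.one ⟨1395, 2, 6⟩) (.one ⟨14872, 0, 11⟩)))))) (.node 16 (.node 8 (.node 4 (.node 2 (.node 1 (.one ⟨16840, 2, 8⟩) (.one ⟨4379, 2, 4⟩)) (.node 1 (.one ⟨12921, 1, 9⟩) (.one ⟨9539, 1, 8⟩))) (.node 2 (.node 1 (.one ⟨16888, 0, 8⟩) (.one ⟨14661, 2, 8⟩)) (.node 1 (.one ⟨4584, 2, 8⟩) (.one ⟨10766, 1, 9⟩)))) (.node 4 (.node 2 (.node 1 (.one ⟨5169, 1, 9⟩) (.one ⟨15436, 2, 9⟩)) (.node 1 (.one ⟨14526, 1, 10⟩) (.one ⟨11910, 2, 7⟩))) (.node 2 (.node 1 (.one ⟨10344, 2, 10⟩) (.one ⟨12995, 1,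 3⟩)) (.node 1 (.one ⟨1147, 1, 7⟩) (.one ⟨9628, 2, 6⟩))))) (.node 8 (.node 4 (.node 2 (.node 1 (.one ⟨9537, 1, 6⟩) (.one ⟨1645, 2, 10⟩)) (.node 1 (.one ⟨3508, 0, 10⟩) (.one ⟨10031, 2, 8⟩))) (.node 2 (.node 1 (.one ⟨4524, 2, 9⟩) (.one ⟨3510, 0, 9⟩)) (.node 1 (.one ⟨8325, 0, 10⟩) (.one ⟨2316, 2, 11⟩)))) (.node 4 (.node 2 (.node 1 (.one ⟨10889, 2, 10⟩) (.one ⟨9583, 2, 7⟩)) (.node 1 (.one ⟨3372, 2, 7⟩) (.one ⟨17059, 0, 8⟩))) (.node 2 (.node 1 (.one ⟨6336, 2, 10⟩) (.one ⟨7320, 2, 7⟩)) (.node 1 (.one ⟨13974, 2, 7⟩) (.one ⟨7353, 2, 8⟩)))))))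
def par10_2_2 : Arr Par :=
  (.node 32 (.node 16 (.node 8 (.node 4 (.node 2 (.node 1 (.one ⟨4702, 2, 10⟩) (.one ⟨1198, 2, 9⟩)) (.node 1 (.one ⟨8194, 2, 7⟩) (.one ⟨16556, 2, 7⟩))) (.node 2 (.node 1 (.one ⟨11433, 2, 9⟩) (.one ⟨9556, 1, 10⟩)) (.node 1 (.one ⟨13651, 2, 6⟩) (.one ⟨4709, 2, 4⟩)))) (.node 4 (.node 2 (.node 1 (.one ⟨4038, 0, 7⟩) (.one ⟨5912, 2, 10⟩)) (.node 1 (.one ⟨2810, 2, 8⟩) (.one ⟨2043, 2, 10⟩))) (.node 2 (.node 1 (.one ⟨14156, 0, 7⟩) (.one ⟨13731, 0, 4⟩)) (.node 1 (.one ⟨11986, 0, 10⟩) (.one ⟨16222, 2, 8⟩))))) (.node 8 (.node 4 (.node 2 (.node 1 (.one ⟨853, 2, 8⟩) (.one ⟨16219, 2, 7⟩)) (.node 1 (.one ⟨161, 0, 5⟩) (.one ⟨9542, 1, 7⟩))) (.node 2 (.node 1 (.one ⟨687, 2, 5⟩) (.one ⟨16215, 2, 11⟩)) (.node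 1 (.one ⟨8307, 0, 6⟩) (.one ⟨5908, 1, 8⟩)))) (.node 4 (.node 2 (.node 1 (.one ⟨6844, 2, 4⟩) (.one ⟨8577, 2, 8⟩)) (.node 1 (.one ⟨16650, 2, 9⟩) (.one ⟨12528, 0, 7⟩))) (.node 2 (.node 1 (.one ⟨7875, 2, 8⟩) (.one ⟨963, 0, 8⟩)) (.node 1 (.one ⟨1135, 1, 8⟩) (.one ⟨15339, 2, 10⟩)))))) (.node 16 (.node 8 (.node 4 (.node 2 (.node 1 (.one ⟨6095, 2, 6⟩) (.one ⟨1592, 2, 6⟩)) (.node 1 (.one ⟨1880, 1, 8⟩) (.one ⟨9555, 1, 9⟩))) (.node 2 (.node 1 (.one ⟨15268, 2, 8⟩) (.one ⟨15633, 1, 6⟩)) (.node 1 (.one ⟨1338, 2, 9⟩) (.one ⟨5498, 1, 0⟩)))) (.node 4 (.node 2 (.node 1 (.one ⟨1799, 1, 1⟩) (.one ⟨6806, 2, 8⟩)) (.node 1 (.one ⟨3590, 2, 8⟩) (.one ⟨2573, 0, 9⟩))) (.node 2 (.node 1 (.one ⟨8477, 2, 9⟩) (.one ⟨6286, 2, 8⟩)) (.node 1 (.one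 ⟨5117, 2, 7⟩) (.one ⟨5649, 2, 2⟩))))) (.node 8 (.node 4 (.node 2 (.node 1 (.one ⟨1862, 2, 9⟩) (.one ⟨6521, 0, 1⟩)) (.node 1 (.one ⟨6495, 2, 7⟩) (.one ⟨2534, 2, 10⟩))) (.node 2 (.node 1 (.one ⟨6522, 0, 10⟩) (.one ⟨1732, 0, 8⟩)) (.node 1 (.one ⟨6520, 0, 8⟩) (.one ⟨846, 2, 7⟩)))) (.node 4 (.node 2 (.node 1 (.one ⟨15172, 1, 9⟩) (.one ⟨2635, 2, 7⟩)) (.node 1 (.one ⟨6726, 0, 9⟩) (.one ⟨8556, 0, 9⟩))) (.node 2 (.node 1 (.one ⟨8775, 2, 10⟩) (.one ⟨10800, 0, 7⟩)) (.node 1 (.one ⟨8649, 2, 7⟩) (.one ⟨3529, 2, 9⟩)))))))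
def par10_2_3 : Arr Par :=
  (.node 32 (.node 16 (.node 8 (.node 4 (.node 2 (.node 1 (.one ⟨12110, 0, 8⟩) (.one ⟨13549, 0, 9⟩)) (.node 1 (.one ⟨7129, 0, 9⟩) (.one ⟨4674, 0, 9⟩))) (.node 2 (.node 1 (.one ⟨7342, 1, 8⟩) (.one ⟨13803, 0, 10⟩)) (.node 1 (.one ⟨3682, 0, 9⟩) (.one ⟨15486, 2, 11⟩)))) (.node 4 (.node 2 (.node 1 (.one ⟨9167, 1, 7⟩) (.one ⟨4388, 0, 8⟩)) (.node 1 (.one ⟨16502, 1, 10⟩) (.one ⟨15311, 0, 9⟩))) (.node 2 (.node 1 (.one ⟨15304, 0, 6⟩) (.one ⟨8442, 1, 10⟩)) (.node 1 (.one ⟨3701, 2, 6⟩) (.one ⟨4215, 2, 8⟩))))) (.node 8 (.node 4 (.node 2 (.node 1 (.one ⟨982, 2, 11⟩) (.one ⟨14832, 0, 10⟩)) (.node 1 (.one ⟨8536, 0, 9⟩) (.one ⟨15991, 1, 10⟩))) (.node 2 (.node 1 (.one ⟨4291, 1, 9⟩) (.one ⟨12163, 2, 8⟩))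 (.node 1 (.one ⟨12038, 1, 9⟩) (.one ⟨11603, 2, 8⟩)))) (.node 4 (.node 2 (.node 1 (.one ⟨5089, 2, 8⟩) (.one ⟨3584, 1, 9⟩)) (.node 1 (.one ⟨1483, 1, 8⟩) (.one ⟨4064, 2, 10⟩))) (.node 2 (.node 1 (.one ⟨12773, 2, 10⟩) (.one ⟨15307, 0, 7⟩)) (.node 1 (.one ⟨2844, 2, 7⟩) (.one ⟨1799, 2, 1⟩)))))) (.node 16 (.node 8 (.node 4 (.node 2 (.node 1 (.one ⟨9856, 2, 4⟩) (.one ⟨9872, 2, 11⟩)) (.node 1 (.one ⟨9225, 0, 9⟩) (.one ⟨9851, 2, 10⟩))) (.node 2 (.node 1 (.one ⟨1776, 2, 1⟩) (.one ⟨1827, 2, 10⟩)) (.node 1 (.one ⟨6012, 0, 9⟩) (.one ⟨12761, 0, 8⟩)))) (.node 4 (.node 2 (.node 1 (.one ⟨338, 2, 10⟩) (.one ⟨12916, 2, 8⟩)) (.node 1 (.one ⟨574, 2, 8⟩) (.one ⟨752, 2, 5⟩))) (.node 2 (.node 1 (.one ⟨2902, 0, 8⟩) (.one ⟨10785, 1, 10⟩))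 (.node 1 (.one ⟨12913, 2, 9⟩) (.one ⟨4940, 1, 9⟩))))) (.node 8 (.node 4 (.node 2 (.node 1 (.one ⟨6973, 0, 7⟩) (.one ⟨7163, 2, 9⟩)) (.node 1 (.one ⟨5338, 1, 9⟩) (.one ⟨9825, 2, 7⟩))) (.node 2 (.node 1 (.one ⟨2435, 2, 9⟩) (.one ⟨15266, 0, 5⟩)) (.node 1 (.one ⟨1072, 1, 10⟩) (.one ⟨4165, 0, 8⟩)))) (.node 4 (.node 2 (.node 1 (.one ⟨6553, 1, 9⟩) (.one ⟨7753, 2, 8⟩)) (.node 1 (.one ⟨1835, 2, 8⟩) (.one ⟨16881, 2, 6⟩))) (.node 2 (.node 1 (.one ⟨2145, 0, 5⟩) (.one ⟨3464, 0, 9⟩)) (.node 1 (.one ⟨14698, 2, 7⟩) (.one ⟨12575, 2, 9⟩)))))))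
def par10_2_4 : Arr Par :=
  (.node 32 (.node 16 (.node 8 (.node 4 (.node 2 (.node 1 (.one ⟨3019, 2, 2⟩) (.one ⟨2929, 2, 5⟩)) (.node 1 (.one ⟨12310, 2, 10⟩) (.one ⟨13373, 2, 8⟩))) (.node 2 (.node 1 (.one ⟨1889, 2, 9⟩) (.one ⟨2196, 2, 6⟩)) (.node 1 (.one ⟨17152, 0, 8⟩) (.one ⟨7112, 2, 7⟩)))) (.node 4 (.node 2 (.node 1 (.one ⟨16134, 2, 9⟩) (.one ⟨1777, 1, 8⟩)) (.node 1 (.one ⟨16416, 2, 9⟩) (.one ⟨2407, 1, 8⟩))) (.node 2 (.node 1 (.one ⟨14852, 1, 10⟩) (.one ⟨7012, 0, 8⟩)) (.node 1 (.one ⟨13087, 2, 10⟩) (.one ⟨13628, 1, 8⟩))))) (.node 8 (.node 4 (.node 2 (.node 1 (.one ⟨4732, 0, 10⟩) (.one ⟨9597, 1, 8⟩)) (.node 1 (.one ⟨10312, 2, 9⟩) (.one ⟨10960, 1, 10⟩))) (.node 2 (.node 1 (.one ⟨15345, 1, 9⟩) (.one ⟨14937, 1, 11⟩))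 (.node 1 (.one ⟨1572, 0, 11⟩) (.one ⟨11581, 1, 10⟩)))) (.node 4 (.node 2 (.node 1 (.one ⟨8294, 2, 10⟩) (.one ⟨3487, 1, 8⟩)) (.node 1 (.one ⟨3043, 1, 11⟩) (.one ⟨13465, 2, 7⟩))) (.node 2 (.node 1 (.one ⟨1076, 1, 5⟩) (.one ⟨12997, 1, 3⟩)) (.node 1 (.one ⟨13483, 1, 9⟩) (.one ⟨8055, 2, 10⟩)))))) (.node 16 (.node 8 (.node 4 (.node 2 (.node 1 (.one ⟨5534, 0, 9⟩) (.one ⟨14699, 2, 8⟩)) (.node 1 (.one ⟨4693, 0, 7⟩) (.one ⟨11793, 0, 10⟩))) (.node 2 (.node 1 (.one ⟨2001, 2, 10⟩) (.one ⟨12082, 0, 10⟩)) (.node 1 (.one ⟨1082, 1, 7⟩) (.one ⟨1182, 2, 8⟩)))) (.node 4 (.node 2 (.node 1 (.one ⟨3144, 2, 5⟩) (.one ⟨422, 1, 8⟩)) (.node 1 (.one ⟨12256, 1, 10⟩) (.one ⟨14700, 2, 7⟩))) (.node 2 (.node 1 (.one ⟨6538, 1, 8⟩) (.one ⟨8867, 0,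 9⟩)) (.node 1 (.one ⟨11036, 2, 8⟩) (.one ⟨12170, 0, 9⟩))))) (.node 8 (.node 4 (.node 2 (.node 1 (.one ⟨3345, 1, 8⟩) (.one ⟨11399, 0, 10⟩)) (.node 1 (.one ⟨8166, 0, 9⟩) (.one ⟨4662, 0, 9⟩))) (.node 2 (.node 1 (.one ⟨13705, 0, 9⟩) (.one ⟨841, 0, 11⟩)) (.node 1 (.one ⟨10595, 1, 8⟩) (.one ⟨13909, 2, 10⟩)))) (.node 4 (.node 2 (.node 1 (.one ⟨8858, 2, 8⟩) (.one ⟨16724, 2, 9⟩)) (.node 1 (.one ⟨3173, 1, 7⟩) (.one ⟨3859, 0, 11⟩))) (.node 2 (.node 1 (.one ⟨10341, 2, 8⟩) (.one ⟨2034, 2, 6⟩)) (.node 1 (.one ⟨13365, 0, 8⟩) (.one ⟨1449, 0, 8⟩)))))))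
def par10_2_5 : Arr Par :=
  (.node 32 (.node 16 (.node 8 (.node 4 (.node 2 (.node 1 (.one ⟨7138, 0, 9⟩) (.one ⟨15093, 0, 5⟩)) (.node 1 (.one ⟨16230, 2, 9⟩) (.one ⟨10762, 0, 10⟩))) (.node 2 (.node 1 (.one ⟨15138, 0, 11⟩) (.one ⟨2501, 1, 11⟩)) (.node 1 (.one ⟨819, 0, 9⟩) (.one ⟨10769, 2, 10⟩)))) (.node 4 (.node 2 (.node 1 (.one ⟨15223, 1, 8⟩) (.one ⟨8599, 0, 7⟩)) (.node 1 (.one ⟨3268, 2, 9⟩) (.one ⟨8606, 0, 6⟩))) (.node 2 (.node 1 (.one ⟨6454, 2, 9⟩) (.one ⟨5248, 0, 7⟩)) (.node 1 (.one ⟨8600, 0, 8⟩) (.one ⟨3896, 1, 1⟩))))) (.node 8 (.node 4 (.node 2 (.node 1 (.one ⟨2819, 2, 9⟩) (.one ⟨6800, 2, 8⟩)) (.node 1 (.one ⟨7157, 1, 3⟩) (.one ⟨6475, 2, 10⟩))) (.node 2 (.node 1 (.one ⟨5418, 2, 7⟩) (.one ⟨9029, 2, 8⟩)) (.node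 1 (.one ⟨2582, 2, 8⟩) (.one ⟨14151, 0, 4⟩)))) (.node 4 (.node 2 (.node 1 (.one ⟨3666, 2, 10⟩) (.one ⟨4235, 2, 3⟩)) (.node 1 (.one ⟨2037, 2, 9⟩) (.one ⟨14483, 0, 9⟩))) (.node 2 (.node 1 (.one ⟨6141, 1, 11⟩) (.one ⟨10407, 1, 5⟩)) (.node 1 (.one ⟨11652, 2, 11⟩) (.one ⟨11994, 1, 11⟩)))))) (.node 16 (.node 8 (.node 4 (.node 2 (.node 1 (.one ⟨13957, 0, 11⟩) (.one ⟨1593, 0, 10⟩)) (.node 1 (.one ⟨7140, 0, 6⟩) (.one ⟨1630, 2, 6⟩))) (.node 2 (.node 1 (.one ⟨16459, 0, 10⟩) (.one ⟨4834, 0, 11⟩)) (.node 1 (.one ⟨8220, 0, 9⟩) (.one ⟨7385, 0, 7⟩)))) (.node 4 (.node 2 (.node 1 (.one ⟨12615, 0, 9⟩) (.one ⟨11604, 0, 10⟩)) (.node 1 (.one ⟨14417, 2, 10⟩) (.one ⟨7930, 1, 9⟩))) (.node 2 (.node 1 (.one ⟨5321, 0, 7⟩) (.one ⟨6227, 1, 6⟩))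 (.node 1 (.one ⟨14003, 0, 7⟩) (.one ⟨8667, 2, 9⟩))))) (.node 8 (.node 4 (.node 2 (.node 1 (.one ⟨7352, 2, 10⟩) (.one ⟨15227, 2, 11⟩)) (.node 1 (.one ⟨12554, 0, 7⟩) (.one ⟨13875, 0, 6⟩))) (.node 2 (.node 1 (.one ⟨10499, 2, 9⟩) (.one ⟨2223, 2, 3⟩)) (.node 1 (.one ⟨3667, 2, 6⟩) (.one ⟨4826, 2, 9⟩)))) (.node 4 (.node 2 (.node 1 (.one ⟨2338, 0, 8⟩) (.one ⟨1404, 0, 6⟩)) (.node 1 (.one ⟨12977, 2, 8⟩) (.one ⟨10359, 0, 8⟩))) (.node 2 (.node 1 (.one ⟨9520, 0, 8⟩) (.one ⟨10397, 0, 7⟩)) (.node 1 (.one ⟨7623, 2, 8⟩) (.one ⟨13064, 2, 7⟩)))))))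
def par10_2_6 : Arr Par :=
  (.node 32 (.node 16 (.node 8 (.node 4 (.node 2 (.node 1 (.one ⟨3452, 0, 9⟩) (.one ⟨4212, 0, 6⟩)) (.node 1 (.one ⟨16140, 2, 10⟩) (.one ⟨12774, 0, 8⟩))) (.node 2 (.node 1 (.one ⟨700, 1, 10⟩) (.one ⟨7543, 2, 9⟩)) (.node 1 (.one ⟨9810, 0, 7⟩) (.one ⟨16306, 2, 11⟩)))) (.node 4 (.node 2 (.node 1 (.one ⟨14981, 1, 7⟩) (.one ⟨8287, 2, 9⟩)) (.node 1 (.one ⟨6897, 1, 7⟩) (.one ⟨2517, 0, 9⟩))) (.node 2 (.node 1 (.one ⟨16334, 2, 7⟩) (.one ⟨17108, 2, 8⟩)) (.node 1 (.one ⟨8284, 2, 7⟩) (.one ⟨8738, 1, 8⟩))))) (.node 8 (.node 4 (.node 2 (.node 1 (.one ⟨11644, 2, 7⟩) (.one ⟨3863, 0, 9⟩)) (.node 1 (.one ⟨16157, 2, 9⟩) (.one ⟨3726, 2, 8⟩))) (.node 2 (.node 1 (.one ⟨16726, 0, 8⟩) (.one ⟨3701, 1, 6⟩)) (.node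 1 (.one ⟨5868, 2, 9⟩) (.one ⟨3607, 0, 11⟩)))) (.node 4 (.node 2 (.node 1 (.one ⟨6727, 2, 5⟩) (.one ⟨10531, 1, 2⟩)) (.node 1 (.one ⟨7177, 1, 10⟩) (.one ⟨542, 2, 10⟩))) (.node 2 (.node 1 (.one ⟨539, 2, 8⟩) (.one ⟨211, 1, 9⟩)) (.node 1 (.one ⟨15879, 0, 9⟩) (.one ⟨16726, 2, 8⟩)))))) (.node 16 (.node 8 (.node 4 (.node 2 (.node 1 (.one ⟨17091, 1, 11⟩) (.one ⟨8668, 2, 8⟩)) (.node 1 (.one ⟨13182, 0, 11⟩) (.one ⟨8623, 2, 11⟩))) (.node 2 (.node 1 (.one ⟨8833, 0, 8⟩) (.one ⟨16698, 2, 9⟩)) (.node 1 (.one ⟨8677, 2, 9⟩) (.one ⟨3171, 1, 9⟩)))) (.node 4 (.node 2 (.node 1 (.one ⟨7471, 0, 7⟩) (.one ⟨3824, 2, 6⟩)) (.node 1 (.one ⟨9541, 2, 8⟩) (.one ⟨11607, 2, 5⟩))) (.node 2 (.node 1 (.one ⟨1894, 2, 8⟩) (.one ⟨10802, 2, 6⟩)) (.node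 1 (.one ⟨16792, 0, 7⟩) (.one ⟨13554, 2, 8⟩))))) (.node 8 (.node 4 (.node 2 (.node 1 (.one ⟨2685, 2, 10⟩) (.one ⟨8704, 2, 7⟩)) (.node 1 (.one ⟨1753, 0, 9⟩) (.one ⟨10620, 1, 6⟩))) (.node 2 (.node 1 (.one ⟨13194, 0, 11⟩) (.one ⟨12680, 1, 4⟩)) (.node 1 (.one ⟨12674, 2, 9⟩) (.one ⟨13451, 1, 11⟩)))) (.node 4 (.node 2 (.node 1 (.one ⟨1102, 0, 8⟩) (.one ⟨12242, 0, 8⟩)) (.node 1 (.one ⟨5105, 1, 8⟩) (.one ⟨13019, 1, 10⟩))) (.node 2 (.node 1 (.one ⟨13139, 2, 9⟩) (.one ⟨2295, 1, 9⟩)) (.node 1 (.one ⟨378, 2, 10⟩) (.one ⟨170, 2, 7⟩)))))))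
def par10_2_7 : Arr Par :=
  (.node 32 (.node 16 (.node 8 (.node 4 (.node 2 (.node 1 (.one ⟨15616, 2, 10⟩) (.one ⟨7058, 2, 7⟩)) (.node 1 (.one ⟨10529, 2, 10⟩) (.one ⟨7358, 2, 7⟩))) (.node 2 (.node 1 (.one ⟨618, 0, 11⟩) (.one ⟨15387, 0, 10⟩)) (.node 1 (.one ⟨14689, 2, 9⟩) (.one ⟨2974, 0, 8⟩)))) (.node 4 (.node 2 (.node 1 (.one ⟨6862, 2, 7⟩) (.one ⟨15728, 2, 7⟩)) (.node 1 (.one ⟨5004, 2, 7⟩) (.one ⟨14419, 1, 8⟩))) (.node 2 (.node 1 (.one ⟨16780, 2, 9⟩) (.one ⟨15592, 1, 6⟩)) (.node 1 (.one ⟨11058, 2, 10⟩) (.one ⟨3176, 1, 5⟩))))) (.node 8 (.node 4 (.node 2 (.node 1 (.one ⟨14985, 0, 10⟩) (.one ⟨2105, 2, 9⟩)) (.node 1 (.one ⟨5715, 2, 10⟩) (.one ⟨12831, 0, 9⟩))) (.node 2 (.node 1 (.one ⟨5681, 2, 9⟩) (.one ⟨1571, 0, 8⟩))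 (.node 1 (.one ⟨1628, 1, 7⟩) (.one ⟨8972, 0, 11⟩)))) (.node 4 (.node 2 (.node 1 (.one ⟨6958, 0, 8⟩) (.one ⟨8106, 0, 5⟩)) (.node 1 (.one ⟨6561, 2, 10⟩) (.one ⟨15144, 1, 8⟩))) (.node 2 (.node 1 (.one ⟨14318, 1, 9⟩) (.one ⟨16000, 1, 10⟩)) (.node 1 (.one ⟨4244, 0, 8⟩) (.one ⟨17196, 1, 9⟩)))))) (.node 16 (.node 8 (.node 4 (.node 2 (.node 1 (.one ⟨9827, 2, 6⟩) (.one ⟨6977, 1, 3⟩)) (.node 1 (.one ⟨9138, 0, 8⟩) (.one ⟨8375, 1, 9⟩))) (.node 2 (.node 1 (.one ⟨15803, 0, 7⟩) (.one ⟨6920, 2, 4⟩)) (.node 1 (.one ⟨6551, 1, 9⟩) (.one ⟨9592, 2, 8⟩)))) (.node 4 (.node 2 (.node 1 (.one ⟨4922, 1, 8⟩) (.one ⟨13049, 2, 8⟩)) (.node 1 (.one ⟨6009, 0, 8⟩) (.one ⟨3863, 2, 9⟩))) (.node 2 (.node 1 (.one ⟨10658, 1, 7⟩) (.one ⟨2807, 2, 9⟩)) (.node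 1 (.one ⟨3413, 2, 10⟩) (.one ⟨12791, 1, 10⟩))))) (.node 8 (.node 4 (.node 2 (.node 1 (.one ⟨12218, 1, 9⟩) (.one ⟨3155, 0, 6⟩)) (.node 1 (.one ⟨7928, 1, 10⟩) (.one ⟨13244, 2, 5⟩))) (.node 2 (.node 1 (.one ⟨14135, 2, 8⟩) (.one ⟨15959, 1, 9⟩)) (.node 1 (.one ⟨16818, 1, 9⟩) (.one ⟨8821, 2, 10⟩)))) (.node 4 (.node 2 (.node 1 (.one ⟨14964, 0, 8⟩) (.one ⟨11327, 2, 10⟩)) (.node 1 (.one ⟨4830, 0, 9⟩) (.one ⟨9686, 1, 8⟩))) (.node 2 (.node 1 (.one ⟨8106, 1, 5⟩) (.one ⟨2980, 2, 10⟩)) (.node 1 (.one ⟨7954, 0, 9⟩) (.one ⟨9509, 0, 9⟩)))))))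
def par10_2_8 : Arr Par :=
  (.node 32 (.node 16 (.node 8 (.node 4 (.node 2 (.node 1 (.one ⟨15872, 2, 3⟩) (.one ⟨10211, 2, 9⟩)) (.node 1 (.one ⟨6513, 1, 10⟩) (.one ⟨4030, 1, 10⟩))) (.node 2 (.node 1 (.one ⟨9678, 0, 10⟩) (.one ⟨9184, 2, 9⟩)) (.node 1 (.one ⟨5079, 2, 3⟩) (.one ⟨8837, 2, 8⟩)))) (.node 4 (.node 2 (.node 1 (.one ⟨4049, 1, 1⟩) (.one ⟨4962, 2, 7⟩)) (.node 1 (.one ⟨5992, 2, 7⟩) (.one ⟨5106, 1, 2⟩))) (.node 2 (.node 1 (.one ⟨8470, 2, 8⟩) (.one ⟨2388, 0, 8⟩)) (.node 1 (.one ⟨5400, 2, 8⟩) (.one ⟨8676, 0, 6⟩))))) (.node 8 (.node 4 (.node 2 (.node 1 (.one ⟨8674, 0, 8⟩) (.one ⟨5001, 2, 7⟩)) (.node 1 (.one ⟨655, 2, 8⟩) (.one ⟨5580, 1, 9⟩))) (.node 2 (.node 1 (.one ⟨8671, 0, 9⟩) (.one ⟨8673, 0, 6⟩)) (.node 1 (.one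 ⟨4631, 1, 7⟩) (.one ⟨8853, 2, 7⟩)))) (.node 4 (.node 2 (.node 1 (.one ⟨3495, 2, 6⟩) (.one ⟨2937, 0, 6⟩)) (.node 1 (.one ⟨6601, 0, 6⟩) (.one ⟨13851, 2, 6⟩))) (.node 2 (.node 1 (.one ⟨9534, 0, 8⟩) (.one ⟨9675, 2, 7⟩)) (.node 1 (.one ⟨16060, 2, 8⟩) (.one ⟨10413, 0, 9⟩)))))) (.node 16 (.node 8 (.node 4 (.node 2 (.node 1 (.one ⟨14520, 1, 6⟩) (.one ⟨15699, 2, 9⟩)) (.node 1 (.one ⟨9757, 1, 7⟩) (.one ⟨2189, 0, 5⟩))) (.node 2 (.node 1 (.one ⟨10691, 0, 6⟩) (.one ⟨1961, 1, 10⟩)) (.node 1 (.one ⟨13966, 1, 11⟩) (.one ⟨8867, 2, 9⟩)))) (.node 4 (.node 2 (.node 1 (.one ⟨6212, 0, 9⟩) (.one ⟨12229, 2, 8⟩)) (.node 1 (.one ⟨8857, 0, 7⟩) (.one ⟨4705, 2, 10⟩))) (.node 2 (.node 1 (.one ⟨7915, 1, 10⟩) (.one ⟨13162, 1, 9⟩)) (.node 1 (.one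 ⟨3039, 0, 8⟩) (.one ⟨843, 2, 8⟩))))) (.node 8 (.node 4 (.node 2 (.node 1 (.one ⟨12376, 1, 10⟩) (.one ⟨5861, 2, 10⟩)) (.node 1 (.one ⟨8502, 0, 8⟩) (.one ⟨2283, 0, 6⟩))) (.node 2 (.node 1 (.one ⟨197, 2, 8⟩) (.one ⟨14743, 0, 7⟩)) (.node 1 (.one ⟨5856, 2, 8⟩) (.one ⟨1158, 2, 9⟩)))) (.node 4 (.node 2 (.node 1 (.one ⟨9234, 0, 9⟩) (.one ⟨3251, 2, 8⟩)) (.node 1 (.one ⟨605, 0, 8⟩) (.one ⟨3275, 2, 8⟩))) (.node 2 (.node 1 (.one ⟨6313, 2, 9⟩) (.one ⟨1117, 0, 8⟩)) (.node 1 (.one ⟨12393, 0, 5⟩) (.one ⟨5473, 0, 9⟩)))))))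
def par10_2_9 : Arr Par :=
  (.node 32 (.node 16 (.node 8 (.node 4 (.node 2 (.node 1 (.one ⟨12356, 0, 10⟩) (.one ⟨2310, 2, 9⟩)) (.node 1 (.one ⟨1558, 0, 7⟩) (.one ⟨5498, 0, 8⟩))) (.node 2 (.node 1 (.one ⟨12309, 0, 10⟩) (.one ⟨6349, 1, 10⟩)) (.node 1 (.one ⟨1588, 0, 6⟩) (.one ⟨6965, 2, 6⟩)))) (.node 4 (.node 2 (.node 1 (.one ⟨15050, 2, 8⟩) (.one ⟨16845, 1, 8⟩)) (.node 1 (.one ⟨9327, 2, 7⟩) (.one ⟨13521, 1, 6⟩))) (.node 2 (.node 1 (.one ⟨16747, 1, 5⟩) (.one ⟨9126, 0, 6⟩)) (.node 1 (.one ⟨1353, 1, 8⟩) (.one ⟨5717, 2, 10⟩))))) (.node 8 (.node 4 (.node 2 (.node 1 (.one ⟨7437, 0, 8⟩) (.one ⟨13846, 2, 7⟩)) (.node 1 (.one ⟨12911, 1, 7⟩) (.one ⟨13751, 2, 8⟩))) (.node 2 (.node 1 (.one ⟨8812, 1, 6⟩) (.one ⟨8372, 0, 10⟩)) (.node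 1 (.one ⟨5789, 2, 10⟩) (.one ⟨3393, 2, 9⟩)))) (.node 4 (.node 2 (.node 1 (.one ⟨7565, 2, 8⟩) (.one ⟨6418, 0, 9⟩)) (.node 1 (.one ⟨2548, 0, 9⟩) (.one ⟨5836, 2, 11⟩))) (.node 2 (.node 1 (.one ⟨13396, 0, 11⟩) (.one ⟨3328, 2, 9⟩)) (.node 1 (.one ⟨7293, 2, 8⟩) (.one ⟨2415, 1, 10⟩)))))) (.node 16 (.node 8 (.node 4 (.node 2 (.node 1 (.one ⟨2085, 2, 7⟩) (.one ⟨6743, 2, 4⟩)) (.node 1 (.one ⟨14956, 2, 10⟩) (.one ⟨2637, 2, 7⟩))) (.node 2 (.node 1 (.one ⟨10303, 2, 7⟩) (.one ⟨9261, 1, 10⟩)) (.node 1 (.one ⟨7391, 2, 7⟩) (.one ⟨11270, 2, 10⟩)))) (.node 4 (.node 2 (.node 1 (.one ⟨15154, 1, 9⟩) (.one ⟨12316, 1, 8⟩)) (.node 1 (.one ⟨11604, 1, 10⟩) (.one ⟨1350, 1, 5⟩))) (.node 2 (.node 1 (.one ⟨2894, 2, 9⟩) (.one ⟨10571, 2, 10⟩)) (.node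 1 (.one ⟨8553, 1, 5⟩) (.one ⟨2095, 2, 5⟩))))) (.node 8 (.node 4 (.node 2 (.node 1 (.one ⟨11073, 2, 10⟩) (.one ⟨4661, 0, 7⟩)) (.node 1 (.one ⟨15485, 0, 6⟩) (.one ⟨12660, 1, 9⟩))) (.node 2 (.node 1 (.one ⟨7023, 2, 8⟩) (.one ⟨17097, 2, 6⟩)) (.node 1 (.one ⟨8328, 2, 6⟩) (.one ⟨7431, 0, 9⟩)))) (.node 4 (.node 2 (.node 1 (.one ⟨7053, 0, 9⟩) (.one ⟨15970, 1, 8⟩)) (.node 1 (.one ⟨15550, 0, 10⟩) (.one ⟨1639, 0, 9⟩))) (.node 2 (.node 1 (.one ⟨8824, 2, 7⟩) (.one ⟨1506, 2, 9⟩)) (.node 1 (.one ⟨11539, 1, 8⟩) (.one ⟨4195, 2, 5⟩)))))))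
def par10_2_10 : Arr Par :=
  (.node 32 (.node 16 (.node 8 (.node 4 (.node 2 (.node 1 (.one ⟨9591, 2, 10⟩) (.one ⟨16403, 1, 7⟩)) (.node 1 (.one ⟨15662, 1, 7⟩) (.one ⟨2440, 2, 8⟩))) (.node 2 (.node 1 (.one ⟨1590, 0, 8⟩) (.one ⟨4530, 1, 9⟩)) (.node 1 (.one ⟨13567, 2, 10⟩) (.one ⟨6099, 0, 9⟩)))) (.node 4 (.node 2 (.node 1 (.one ⟨5603, 2, 9⟩) (.one ⟨13156, 2, 9⟩)) (.node 1 (.one ⟨186, 1, 7⟩) (.one ⟨5982, 2, 8⟩))) (.node 2 (.node 1 (.one ⟨9969, 2, 10⟩) (.one ⟨9071, 2, 9⟩)) (.node 1 (.one ⟨6954, 1, 7⟩) (.one ⟨1258, 2, 9⟩))))) (.node 8 (.node 4 (.node 2 (.node 1 (.one ⟨8828, 2, 8⟩) (.one ⟨2054, 0, 7⟩)) (.node 1 (.one ⟨10252, 0, 6⟩) (.one ⟨9655, 0, 9⟩))) (.node 2 (.node 1 (.one ⟨12464, 1, 9⟩) (.one ⟨6168, 0, 9⟩)) (.node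 1 (.one ⟨16991, 1, 10⟩) (.one ⟨11917, 1, 8⟩)))) (.node 4 (.node 2 (.node 1 (.one ⟨4293, 2, 8⟩) (.one ⟨15331, 2, 10⟩)) (.node 1 (.one ⟨3184, 0, 10⟩) (.one ⟨2687, 0, 6⟩))) (.node 2 (.node 1 (.one ⟨15662, 0, 7⟩) (.one ⟨15740, 2, 8⟩)) (.node 1 (.one ⟨16403, 0, 7⟩) (.one ⟨4922, 0, 8⟩)))))) (.node 16 (.node 8 (.node 4 (.node 2 (.node 1 (.one ⟨1657, 0, 8⟩) (.one ⟨12171, 2, 9⟩)) (.node 1 (.one ⟨4661, 2, 7⟩) (.one ⟨7672, 0, 9⟩))) (.node 2 (.node 1 (.one ⟨12837, 1, 9⟩) (.one ⟨16153, 0, 9⟩)) (.node 1 (.one ⟨14778, 0, 9⟩) (.one ⟨7463, 2, 10⟩)))) (.node 4 (.node 2 (.node 1 (.one ⟨5486, 0, 0⟩) (.one ⟨3584, 2, 9⟩)) (.node 1 (.one ⟨8228, 2, 10⟩) (.one ⟨9060, 2, 8⟩))) (.node 2 (.node 1 (.one ⟨4935, 2, 8⟩) (.one ⟨1868, 2, 10⟩)) (.node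 1 (.one ⟨2732, 0, 9⟩) (.one ⟨8700, 1, 10⟩))))) (.node 8 (.node 4 (.node 2 (.node 1 (.one ⟨12898, 2, 7⟩) (.one ⟨13774, 2, 8⟩)) (.node 1 (.one ⟨6488, 0, 7⟩) (.one ⟨6844, 1, 4⟩))) (.node 2 (.node 1 (.one ⟨1372, 2, 9⟩) (.one ⟨3578, 1, 8⟩)) (.node 1 (.one ⟨3632, 0, 11⟩) (.one ⟨7697, 2, 10⟩)))) (.node 4 (.node 2 (.node 1 (.one ⟨5789, 1, 10⟩) (.one ⟨11301, 2, 9⟩)) (.node 1 (.one ⟨2539, 1, 10⟩) (.one ⟨16783, 0, 10⟩))) (.node 2 (.node 1 (.one ⟨15529, 1, 7⟩) (.one ⟨14300, 1, 6⟩)) (.node 1 (.one ⟨16773, 0, 8⟩) (.one ⟨2290, 2, 10⟩)))))))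
def par10_2_11 : Arr Par :=
  (.node 32 (.node 16 (.node 8 (.node 4 (.node 2 (.node 1 (.one ⟨789, 1, 8⟩) (.one ⟨16544, 2, 4⟩)) (.node 1 (.one ⟨14075, 2, 7⟩) (.one ⟨6994, 2, 9⟩))) (.node 2 (.node 1 (.one ⟨7828, 2, 8⟩) (.one ⟨4775, 0, 9⟩)) (.node 1 (.one ⟨10428, 0, 9⟩) (.one ⟨5855, 0, 9⟩)))) (.node 4 (.node 2 (.node 1 (.one ⟨1191, 2, 2⟩) (.one ⟨11355, 2, 5⟩)) (.node 1 (.one ⟨5363, 1, 4⟩) (.one ⟨4027, 2, 10⟩))) (.node 2 (.node 1 (.one ⟨14691, 2, 6⟩) (.one ⟨6372, 2, 7⟩)) (.node 1 (.one ⟨12730, 2, 7⟩) (.one ⟨3788, 2, 9⟩))))) (.node 8 (.node 4 (.node 2 (.node 1 (.one ⟨13441, 1, 8⟩) (.one ⟨15029, 0, 9⟩)) (.node 1 (.one ⟨7941, 2, 8⟩) (.one ⟨12903, 0, 8⟩))) (.node 2 (.node 1 (.one ⟨4470, 1, 8⟩) (.one ⟨15093, 1, 5⟩)) (.node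 1 (.one ⟨11394, 1, 10⟩) (.one ⟨4224, 2, 8⟩)))) (.node 4 (.node 2 (.node 1 (.one ⟨4327, 2, 10⟩) (.one ⟨15494, 2, 6⟩)) (.node 1 (.one ⟨3189, 0, 10⟩) (.one ⟨9672, 0, 8⟩))) (.node 2 (.node 1 (.one ⟨12307, 0, 10⟩) (.one ⟨2867, 1, 4⟩)) (.node 1 (.one ⟨3428, 1, 10⟩) (.one ⟨1903, 2, 9⟩)))))) (.node 16 (.node 8 (.node 4 (.node 2 (.node 1 (.one ⟨6253, 1, 11⟩) (.one ⟨16035, 0, 8⟩)) (.node 1 (.one ⟨11441, 1, 8⟩) (.one ⟨14171, 2, 10⟩))) (.node 2 (.node 1 (.one ⟨2920, 0, 9⟩) (.one ⟨10243, 1, 8⟩)) (.node 1 (.one ⟨4776, 0, 8⟩) (.one ⟨6628, 1, 6⟩)))) (.node 4 (.node 2 (.node 1 (.one ⟨15155, 1, 10⟩) (.one ⟨2103, 0, 8⟩)) (.node 1 (.one ⟨13661, 0, 10⟩) (.one ⟨9750, 2, 10⟩))) (.node 2 (.node 1 (.one ⟨12093, 1, 7⟩) (.one ⟨16356, 0, 9⟩))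 (.node 1 (.one ⟨11802, 2, 8⟩) (.one ⟨2988, 1, 9⟩))))) (.node 8 (.node 4 (.node 2 (.node 1 (.one ⟨8086, 1, 8⟩) (.one ⟨4105, 1, 6⟩)) (.node 1 (.one ⟨7333, 1, 8⟩) (.one ⟨2431, 2, 8⟩))) (.node 2 (.node 1 (.one ⟨7964, 0, 9⟩) (.one ⟨15932, 2, 8⟩)) (.node 1 (.one ⟨53, 0, 7⟩) (.one ⟨11021, 2, 8⟩)))) (.node 4 (.node 2 (.node 1 (.one ⟨6634, 2, 9⟩) (.one ⟨10896, 2, 10⟩)) (.node 1 (.one ⟨6973, 2, 7⟩) (.one ⟨2076, 2, 8⟩))) (.node 2 (.node 1 (.one ⟨10857, 1, 7⟩) (.one ⟨14515, 0, 6⟩)) (.node 1 (.one ⟨10940, 1, 10⟩) (.one ⟨11935, 1, 8⟩)))))))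
def par10_2_12 : Arr Par :=
  (.node 32 (.node 16 (.node 8 (.node 4 (.node 2 (.node 1 (.one ⟨6344, 2, 8⟩) (.one ⟨7738, 2, 7⟩)) (.node 1 (.one ⟨13750, 0, 9⟩) (.one ⟨10900, 2, 8⟩))) (.node 2 (.node 1 (.one ⟨14561, 0, 7⟩) (.one ⟨14999, 0, 9⟩)) (.node 1 (.one ⟨13328, 2, 6⟩) (.one ⟨14333, 2, 7⟩)))) (.node 4 (.node 2 (.node 1 (.one ⟨6645, 1, 5⟩) (.one ⟨3273, 0, 6⟩)) (.node 1 (.one ⟨2240, 0, 9⟩) (.one ⟨5467, 2, 6⟩))) (.node 2 (.node 1 (.one ⟨12676, 2, 3⟩) (.one ⟨14309, 0, 9⟩)) (.node 1 (.one ⟨4504, 1, 9⟩) (.one ⟨13048, 2, 10⟩))))) (.node 8 (.node 4 (.node 2 (.node 1 (.one ⟨15139, 1, 9⟩) (.one ⟨4230, 2, 9⟩)) (.node 1 (.one ⟨3822, 2, 10⟩) (.one ⟨10615, 2, 9⟩))) (.node 2 (.node 1 (.one ⟨10196, 2, 9⟩) (.one ⟨2867, 2, 4⟩)) (.node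 1 (.one ⟨12248, 0, 9⟩) (.one ⟨6578, 1, 7⟩)))) (.node 4 (.node 2 (.node 1 (.one ⟨839, 0, 8⟩) (.one ⟨13252, 2, 9⟩)) (.node 1 (.one ⟨3251, 1, 8⟩) (.one ⟨14248, 1, 9⟩))) (.node 2 (.node 1 (.one ⟨8070, 2, 6⟩) (.one ⟨13333, 2, 8⟩)) (.node 1 (.one ⟨10641, 1, 8⟩) (.one ⟨11001, 0, 8⟩)))))) (.node 16 (.node 8 (.node 4 (.node 2 (.node 1 (.one ⟨2916, 1, 3⟩) (.one ⟨10458, 2, 5⟩)) (.node 1 (.one ⟨549, 2, 9⟩) (.one ⟨12559, 1, 8⟩))) (.node 2 (.node 1 (.one ⟨971, 1, 6⟩) (.one ⟨10459, 2, 9⟩)) (.node 1 (.one ⟨4440, 0, 6⟩) (.one ⟨5656, 2, 8⟩)))) (.node 4 (.node 2 (.node 1 (.one ⟨11533, 0, 8⟩) (.one ⟨13715, 2, 8⟩)) (.node 1 (.one ⟨10871, 1, 9⟩) (.one ⟨14718, 2, 8⟩))) (.node 2 (.node 1 (.one ⟨15999, 1, 10⟩) (.one ⟨3508, 1, 10⟩)) (.node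 1 (.one ⟨3478, 0, 10⟩) (.one ⟨392, 2, 8⟩))))) (.node 8 (.node 4 (.node 2 (.node 1 (.one ⟨6357, 1, 10⟩) (.one ⟨390, 2, 9⟩)) (.node 1 (.one ⟨14691, 1, 6⟩) (.one ⟨3271, 0, 3⟩))) (.node 2 (.node 1 (.one ⟨7656, 2, 9⟩) (.one ⟨10343, 1, 8⟩)) (.node 1 (.one ⟨7658, 2, 7⟩) (.one ⟨10992, 1, 8⟩)))) (.node 4 (.node 2 (.node 1 (.one ⟨8336, 2, 9⟩) (.one ⟨9381, 2, 10⟩)) (.node 1 (.one ⟨10582, 2, 7⟩) (.one ⟨4579, 2, 8⟩))) (.node 2 (.node 1 (.one ⟨15279, 0, 6⟩) (.one ⟨15284, 0, 5⟩)) (.node 1 (.one ⟨1646, 1, 8⟩) (.one ⟨16934, 2, 8⟩)))))))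
def par10_2_13 : Arr Par :=
  (.node 32 (.node 16 (.node 8 (.node 4 (.node 2 (.node 1 (.one ⟨3396, 2, 9⟩) (.one ⟨8040, 2, 11⟩)) (.node 1 (.one ⟨5515, 0, 6⟩) (.one ⟨11448, 2, 7⟩))) (.node 2 (.node 1 (.one ⟨8818, 2, 10⟩) (.one ⟨984, 2, 9⟩)) (.node 1 (.one ⟨6706, 0, 8⟩) (.one ⟨3501, 0, 9⟩)))) (.node 4 (.node 2 (.node 1 (.one ⟨7058, 0, 7⟩) (.one ⟨15429, 0, 7⟩)) (.node 1 (.one ⟨10805, 0, 10⟩) (.one ⟨6051, 0, 4⟩))) (.node 2 (.node 1 (.one ⟨695, 1, 4⟩) (.one ⟨9244, 0, 9⟩)) (.node 1 (.one ⟨14257, 0, 8⟩) (.one ⟨16829, 0, 8⟩))))) (.node 8 (.node 4 (.node 2 (.node 1 (.one ⟨215, 2, 10⟩) (.one ⟨12801, 1, 8⟩)) (.node 1 (.one ⟨15593, 1, 7⟩) (.one ⟨10066, 2, 4⟩))) (.node 2 (.node 1 (.one ⟨14498, 2, 8⟩) (.one ⟨9759, 2, 11⟩)) (.node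 1 (.one ⟨1778, 0, 7⟩) (.one ⟨2837, 2, 5⟩)))) (.node 4 (.node 2 (.node 1 (.one ⟨16037, 0, 8⟩) (.one ⟨1670, 1, 3⟩)) (.node 1 (.one ⟨12828, 2, 10⟩) (.one ⟨3816, 2, 6⟩))) (.node 2 (.node 1 (.one ⟨13628, 0, 8⟩) (.one ⟨2611, 2, 7⟩)) (.node 1 (.one ⟨10334, 1, 4⟩) (.one ⟨6328, 2, 7⟩)))))) (.node 16 (.node 8 (.node 4 (.node 2 (.node 1 (.one ⟨7306, 1, 8⟩) (.one ⟨9332, 0, 3⟩)) (.node 1 (.one ⟨13301, 2, 8⟩) (.one ⟨13970, 1, 9⟩))) (.node 2 (.node 1 (.one ⟨1191, 0, 2⟩) (.one ⟨6348, 1, 8⟩)) (.node 1 (.one ⟨3136, 0, 9⟩) (.one ⟨5989, 2, 8⟩)))) (.node 4 (.node 2 (.node 1 (.one ⟨5369, 2, 8⟩) (.one ⟨16145, 2, 7⟩)) (.node 1 (.one ⟨4733, 0, 11⟩) (.one ⟨4173, 2, 10⟩))) (.node 2 (.node 1 (.one ⟨10958, 1, 8⟩) (.one ⟨10719, 2, 7⟩)) (.node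 1 (.one ⟨16692, 2, 9⟩) (.one ⟨13519, 2, 6⟩))))) (.node 8 (.node 4 (.node 2 (.node 1 (.one ⟨10316, 0, 10⟩) (.one ⟨686, 2, 4⟩)) (.node 1 (.one ⟨7005, 1, 10⟩) (.one ⟨4151, 1, 8⟩))) (.node 2 (.node 1 (.one ⟨17135, 1, 6⟩) (.one ⟨6345, 2, 6⟩)) (.node 1 (.one ⟨13844, 0, 7⟩) (.one ⟨6863, 1, 10⟩)))) (.node 4 (.node 2 (.node 1 (.one ⟨10578, 2, 9⟩) (.one ⟨9780, 0, 5⟩)) (.node 1 (.one ⟨302, 0, 10⟩) (.one ⟨3174, 0, 10⟩))) (.node 2 (.node 1 (.one ⟨2264, 2, 9⟩) (.one ⟨6901, 2, 7⟩)) (.node 1 (.one ⟨1572, 1, 11⟩) (.one ⟨662, 2, 9⟩)))))))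
def par10_2_14 : Arr Par :=
  (.node 32 (.node 16 (.node 8 (.node 4 (.node 2 (.node 1 (.one ⟨14561, 1, 7⟩) (.one ⟨15994, 0, 9⟩)) (.node 1 (.one ⟨16039, 1, 8⟩) (.one ⟨2453, 2, 7⟩))) (.node 2 (.node 1 (.one ⟨8368, 1, 8⟩) (.one ⟨10967, 1, 8⟩)) (.node 1 (.one ⟨13796, 2, 9⟩) (.one ⟨12332, 1, 9⟩)))) (.node 4 (.node 2 (.node 1 (.one ⟨7530, 2, 9⟩) (.one ⟨2855, 0, 9⟩)) (.node 1 (.one ⟨6596, 1, 10⟩) (.one ⟨14666, 0, 9⟩))) (.node 2 (.node 1 (.one ⟨3409, 2, 10⟩) (.one ⟨5685, 0, 9⟩)) (.node 1 (.one ⟨13955, 0, 8⟩) (.one ⟨2766, 1, 8⟩))))) (.node 8 (.node 4 (.node 2 (.node 1 (.one ⟨6152, 1, 8⟩) (.one ⟨16646, 2, 4⟩)) (.node 1 (.one ⟨4792, 0, 10⟩) (.one ⟨12892, 0, 10⟩))) (.node 2 (.node 1 (.one ⟨15258, 1, 6⟩) (.one ⟨2406, 2, 10⟩))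 (.node 1 (.one ⟨17082, 2, 10⟩) (.one ⟨5954, 0, 9⟩)))) (.node 4 (.node 2 (.node 1 (.one ⟨14735, 1, 10⟩) (.one ⟨8659, 2, 8⟩)) (.node 1 (.one ⟨3512, 0, 5⟩) (.one ⟨11409, 0, 7⟩))) (.node 2 (.node 1 (.one ⟨5566, 2, 7⟩) (.one ⟨9986, 0, 10⟩)) (.node 1 (.one ⟨17185, 0, 7⟩) (.one ⟨2369, 2, 6⟩)))))) (.node 16 (.node 8 (.node 4 (.node 2 (.node 1 (.one ⟨5763, 0, 9⟩) (.one ⟨10448, 2, 7⟩)) (.node 1 (.one ⟨10420, 2, 9⟩) (.one ⟨12251, 1, 10⟩))) (.node 2 (.node 1 (.one ⟨4554, 0, 9⟩) (.one ⟨3975, 0, 8⟩)) (.node 1 (.one ⟨2419, 2, 7⟩) (.one ⟨13242, 1, 8⟩)))) (.node 4 (.node 2 (.node 1 (.one ⟨4585, 1, 8⟩) (.one ⟨11770, 1, 7⟩)) (.node 1 (.one ⟨11978, 2, 8⟩) (.one ⟨3255, 2, 10⟩))) (.node 2 (.node 1 (.one ⟨7648, 2, 8⟩) (.one ⟨15913, 0,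 10⟩)) (.node 1 (.one ⟨2504, 1, 8⟩) (.one ⟨9510, 2, 8⟩))))) (.node 8 (.node 4 (.node 2 (.node 1 (.one ⟨8674, 1, 8⟩) (.one ⟨6454, 0, 9⟩)) (.node 1 (.one ⟨3907, 2, 6⟩) (.one ⟨831, 0, 9⟩))) (.node 2 (.node 1 (.one ⟨9389, 0, 8⟩) (.one ⟨9972, 2, 9⟩)) (.node 1 (.one ⟨5948, 0, 10⟩) (.one ⟨9853, 2, 9⟩)))) (.node 4 (.node 2 (.node 1 (.one ⟨11110, 1, 3⟩) (.one ⟨9446, 1, 4⟩)) (.node 1 (.one ⟨7038, 2, 8⟩) (.one ⟨5220, 1, 8⟩))) (.node 2 (.node 1 (.one ⟨14905, 2, 8⟩) (.one ⟨116, 2, 8⟩)) (.node 1 (.one ⟨4359, 1, 9⟩) (.one ⟨6855, 1, 1⟩)))))))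
def par10_2_15 : Arr Par :=
  (.node 32 (.node 16 (.node 8 (.node 4 (.node 2 (.node 1 (.one ⟨5851, 0, 10⟩) (.one ⟨12152, 0, 9⟩)) (.node 1 (.one ⟨11513, 0, 11⟩) (.one ⟨14896, 1, 6⟩))) (.node 2 (.node 1 (.one ⟨11126, 1, 8⟩) (.one ⟨14100, 2, 8⟩)) (.node 1 (.one ⟨6587, 2, 11⟩) (.one ⟨6390, 1, 8⟩)))) (.node 4 (.node 2 (.node 1 (.one ⟨17011, 1, 9⟩) (.one ⟨1313, 1, 8⟩)) (.node 1 (.one ⟨12658, 1, 7⟩) (.one ⟨10759, 2, 1⟩))) (.node 2 (.node 1 (.one ⟨6793, 1, 10⟩) (.one ⟨12030, 1, 9⟩)) (.node 1 (.one ⟨13679, 2, 8⟩) (.one ⟨8516, 0, 8⟩))))) (.node 8 (.node 4 (.node 2 (.node 1 (.one ⟨15454, 2, 4⟩) (.one ⟨4079, 1, 8⟩)) (.node 1 (.one ⟨9444, 1, 7⟩) (.one ⟨5332, 1, 8⟩))) (.node 2 (.node 1 (.one ⟨11099, 1, 5⟩) (.one ⟨11208, 2, 8⟩))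 (.node 1 (.one ⟨15609, 2, 6⟩) (.one ⟨4251, 2, 10⟩)))) (.node 4 (.node 2 (.node 1 (.one ⟨15085, 2, 11⟩) (.one ⟨12381, 2, 10⟩)) (.node 1 (.one ⟨1521, 0, 10⟩) (.one ⟨17134, 0, 9⟩))) (.node 2 (.node 1 (.one ⟨6325, 2, 10⟩) (.one ⟨4779, 2, 11⟩)) (.node 1 (.one ⟨3858, 1, 9⟩) (.one ⟨2791, 2, 7⟩)))))) (.node 16 (.node 8 (.node 4 (.node 2 (.node 1 (.one ⟨14, 2, 7⟩) (.one ⟨550, 2, 9⟩)) (.node 1 (.one ⟨7652, 0, 10⟩) (.one ⟨2797, 2, 10⟩))) (.node 2 (.node 1 (.one ⟨863, 2, 6⟩) (.one ⟨838, 2, 7⟩)) (.node 1 (.one ⟨2796, 2, 8⟩) (.one ⟨4244, 2, 8⟩)))) (.node 4 (.node 2 (.node 1 (.one ⟨14423, 2, 5⟩) (.one ⟨7993, 2, 8⟩)) (.node 1 (.one ⟨2161, 0, 11⟩) (.one ⟨3114, 1, 8⟩))) (.node 2 (.node 1 (.one ⟨768, 2, 7⟩) (.one ⟨12293, 2, 11⟩)) (.node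 1 (.one ⟨2159, 0, 7⟩) (.one ⟨6956, 2, 9⟩))))) (.node 8 (.node 4 (.node 2 (.node 1 (.one ⟨9103, 0, 8⟩) (.one ⟨9155, 2, 7⟩)) (.node 1 (.one ⟨16624, 1, 4⟩) (.one ⟨9483, 1, 11⟩))) (.node 2 (.node 1 (.one ⟨14146, 1, 7⟩) (.one ⟨10975, 1, 7⟩)) (.node 1 (.one ⟨14787, 1, 10⟩) (.one ⟨9576, 1, 9⟩)))) (.node 4 (.node 2 (.node 1 (.one ⟨6700, 0, 6⟩) (.one ⟨3097, 0, 9⟩)) (.node 1 (.one ⟨11347, 2, 5⟩) (.one ⟨12394, 1, 9⟩))) (.node 2 (.node 1 (.one ⟨12462, 0, 8⟩) (.one ⟨13233, 1, 10⟩)) (.node 1 (.one ⟨6133, 0, 8⟩) (.one ⟨1859, 0, 9⟩)))))))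
def par10_2 : Arr Par :=
  (.node 512 (.node 256 (.node 128 (.node 64 par10_2_0 par10_2_1) (.node 64 par10_2_2 par10_2_3)) (.node 128 (.node 64 par10_2_4 par10_2_5) (.node 64 par10_2_6 par10_2_7))) (.node 256 (.node 128 (.node 64 par10_2_8 par10_2_9) (.node 64 par10_2_10 par10_2_11)) (.node 128 (.node 64 par10_2_12 par10_2_13) (.node 64 par10_2_14 par10_2_15))))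
def par10_3_0 : Arr Par :=
  (.node 32 (.node 16 (.node 8 (.node 4 (.node 2 (.node 1 (.one ⟨11060, 1, 9⟩) (.one ⟨14095, 2, 10⟩)) (.node 1 (.one ⟨10040, 0, 10⟩) (.one ⟨17077, 2, 9⟩))) (.node 2 (.node 1 (.one ⟨8997, 2, 10⟩) (.one ⟨1102, 2, 8⟩)) (.node 1 (.one ⟨10265, 2, 7⟩) (.one ⟨15183, 2, 5⟩)))) (.node 4 (.node 2 (.node 1 (.one ⟨15528, 0, 9⟩) (.one ⟨15781, 2, 7⟩)) (.node 1 (.one ⟨6717, 1, 7⟩) (.one ⟨5120, 2, 10⟩))) (.node 2 (.node 1 (.one ⟨9277, 0, 8⟩) (.one ⟨13555, 1, 7⟩)) (.node 1 (.one ⟨2934, 2, 8⟩) (.one ⟨3802, 0, 8⟩))))) (.node 8 (.node 4 (.node 2 (.node 1 (.one ⟨12268, 2, 10⟩) (.one ⟨9440, 1, 6⟩)) (.node 1 (.one ⟨3024, 1, 5⟩) (.one ⟨11707, 0, 7⟩))) (.node 2 (.node 1 (.one ⟨5374, 1, 10⟩) (.one ⟨3780, 2, 6⟩))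 (.node 1 (.one ⟨15032, 2, 8⟩) (.one ⟨5584, 1, 4⟩)))) (.node 4 (.node 2 (.node 1 (.one ⟨8550, 0, 9⟩) (.one ⟨11162, 2, 8⟩)) (.node 1 (.one ⟨4418, 2, 10⟩) (.one ⟨6498, 2, 9⟩))) (.node 2 (.node 1 (.one ⟨16593, 2, 6⟩) (.one ⟨16630, 0, 9⟩)) (.node 1 (.one ⟨3829, 1, 7⟩) (.one ⟨4465, 1, 8⟩)))))) (.node 16 (.node 8 (.node 4 (.node 2 (.node 1 (.one ⟨3011, 2, 7⟩) (.one ⟨9487, 2, 9⟩)) (.node 1 (.one ⟨8346, 2, 8⟩) (.one ⟨4105, 0, 6⟩))) (.node 2 (.node 1 (.one ⟨1321, 1, 8⟩) (.one ⟨6539, 0, 7⟩)) (.node 1 (.one ⟨8039, 0, 9⟩) (.one ⟨3047, 1, 9⟩)))) (.node 4 (.node 2 (.node 1 (.one ⟨8522, 0, 8⟩) (.one ⟨1877, 0, 4⟩)) (.node 1 (.one ⟨7759, 2, 7⟩) (.one ⟨10744, 2, 3⟩))) (.node 2 (.node 1 (.one ⟨15919, 0, 11⟩) (.one ⟨11027, 0, 6⟩)) (.node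 1 (.one ⟨8744, 2, 4⟩) (.one ⟨5304, 2, 9⟩))))) (.node 8 (.node 4 (.node 2 (.node 1 (.one ⟨9405, 0, 5⟩) (.one ⟨3001, 2, 5⟩)) (.node 1 (.one ⟨7032, 2, 6⟩) (.one ⟨10543, 2, 10⟩))) (.node 2 (.node 1 (.one ⟨14514, 2, 7⟩) (.one ⟨11835, 2, 8⟩)) (.node 1 (.one ⟨13669, 1, 8⟩) (.one ⟨4039, 1, 9⟩)))) (.node 4 (.node 2 (.node 1 (.one ⟨13837, 2, 7⟩) (.one ⟨13832, 2, 6⟩)) (.node 1 (.one ⟨1046, 2, 8⟩) (.one ⟨1549, 1, 7⟩))) (.node 2 (.node 1 (.one ⟨661, 2, 6⟩) (.one ⟨525, 2, 6⟩)) (.node 1 (.one ⟨13836, 2, 8⟩) (.one ⟨1219, 0, 9⟩)))))))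
def par10_3_1 : Arr Par :=
  (.node 32 (.node 16 (.node 8 (.node 4 (.node 2 (.node 1 (.one ⟨12818, 2, 8⟩) (.one ⟨14754, 0, 9⟩)) (.node 1 (.one ⟨6668, 0, 9⟩) (.one ⟨7888, 2, 9⟩))) (.node 2 (.node 1 (.one ⟨79, 0, 6⟩) (.one ⟨12308, 2, 7⟩)) (.node 1 (.one ⟨4153, 2, 3⟩) (.one ⟨11106, 0, 8⟩)))) (.node 4 (.node 2 (.node 1 (.one ⟨12747, 1, 4⟩) (.one ⟨13581, 0, 11⟩)) (.node 1 (.one ⟨4203, 0, 10⟩) (.one ⟨7477, 1, 8⟩))) (.node 2 (.node 1 (.one ⟨16426, 1, 10⟩) (.one ⟨2169, 0, 8⟩)) (.node 1 (.one ⟨12122, 1, 8⟩) (.one ⟨8107, 2, 8⟩))))) (.node 8 (.node 4 (.node 2 (.node 1 (.one ⟨3743, 2, 3⟩) (.one ⟨9250, 2, 6⟩)) (.node 1 (.one ⟨13805, 2, 10⟩) (.one ⟨17189, 2, 5⟩))) (.node 2 (.node 1 (.one ⟨13609, 2, 10⟩) (.one ⟨3298, 2, 7⟩)) (.node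 1 (.one ⟨7131, 2, 5⟩) (.one ⟨1745, 0, 8⟩)))) (.node 4 (.node 2 (.node 1 (.one ⟨9866, 0, 9⟩) (.one ⟨8820, 1, 9⟩)) (.node 1 (.one ⟨6189, 2, 7⟩) (.one ⟨5348, 1, 9⟩))) (.node 2 (.node 1 (.one ⟨3140, 1, 7⟩) (.one ⟨5853, 0, 8⟩)) (.node 1 (.one ⟨5941, 1, 9⟩) (.one ⟨15379, 2, 9⟩)))))) (.node 16 (.node 8 (.node 4 (.node 2 (.node 1 (.one ⟨7487, 1, 10⟩) (.one ⟨4929, 2, 9⟩)) (.node 1 (.one ⟨16400, 2, 8⟩) (.one ⟨10314, 0, 8⟩))) (.node 2 (.node 1 (.one ⟨8314, 2, 11⟩) (.one ⟨7264, 2, 6⟩)) (.node 1 (.one ⟨9470, 2, 9⟩) (.one ⟨10547, 2, 6⟩)))) (.node 4 (.node 2 (.node 1 (.one ⟨5787, 2, 4⟩) (.one ⟨11029, 2, 7⟩)) (.node 1 (.one ⟨1525, 1, 6⟩) (.one ⟨3724, 1, 10⟩))) (.node 2 (.node 1 (.one ⟨9307, 0, 6⟩) (.one ⟨10531, 2, 2⟩)) (.node 1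 (.one ⟨2961, 1, 5⟩) (.one ⟨15199, 2, 10⟩))))) (.node 8 (.node 4 (.node 2 (.node 1 (.one ⟨6850, 0, 9⟩) (.one ⟨3022, 0, 9⟩)) (.node 1 (.one ⟨818, 2, 7⟩) (.one ⟨15203, 2, 8⟩))) (.node 2 (.node 1 (.one ⟨1038, 1, 8⟩) (.one ⟨15200, 2, 9⟩)) (.node 1 (.one ⟨284, 2, 9⟩) (.one ⟨14131, 2, 8⟩)))) (.node 4 (.node 2 (.node 1 (.one ⟨2730, 1, 11⟩) (.one ⟨8576, 2, 7⟩)) (.node 1 (.one ⟨2209, 0, 7⟩) (.one ⟨9267, 1, 7⟩))) (.node 2 (.node 1 (.one ⟨4181, 2, 10⟩) (.one ⟨12929, 2, 9⟩)) (.node 1 (.one ⟨11499, 2, 8⟩) (.one ⟨9277, 1, 8⟩)))))))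
def par10_3_2 : Arr Par :=
  (.node 32 (.node 16 (.node 8 (.node 4 (.node 2 (.node 1 (.one ⟨5385, 0, 8⟩) (.one ⟨6992, 2, 10⟩)) (.node 1 (.one ⟨12692, 0, 8⟩) (.one ⟨15508, 1, 10⟩))) (.node 2 (.node 1 (.one ⟨6663, 0, 9⟩) (.one ⟨9211, 2, 8⟩)) (.node 1 (.one ⟨15541, 0, 7⟩) (.one ⟨7545, 1, 9⟩)))) (.node 4 (.node 2 (.node 1 (.one ⟨5388, 2, 8⟩) (.one ⟨2785, 0, 9⟩)) (.node 1 (.one ⟨15433, 0, 10⟩) (.one ⟨10395, 1, 10⟩))) (.node 2 (.node 1 (.one ⟨11200, 0, 9⟩) (.one ⟨13388, 2, 8⟩)) (.node 1 (.one ⟨13482, 2, 9⟩) (.one ⟨8075, 0, 8⟩))))) (.node 8 (.node 4 (.node 2 (.node 1 (.one ⟨3892, 0, 10⟩) (.one ⟨3890, 0, 8⟩)) (.node 1 (.one ⟨8073, 0, 9⟩) (.one ⟨15443, 2, 9⟩))) (.node 2 (.node 1 (.one ⟨8078, 0, 6⟩) (.one ⟨8072, 0, 6⟩)) (.node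 1 (.one ⟨3887, 0, 10⟩) (.one ⟨13783, 0, 7⟩)))) (.node 4 (.node 2 (.node 1 (.one ⟨14018, 0, 7⟩) (.one ⟨2194, 0, 6⟩)) (.node 1 (.one ⟨1311, 0, 9⟩) (.one ⟨7591, 1, 5⟩))) (.node 2 (.node 1 (.one ⟨15602, 0, 7⟩) (.one ⟨7371, 2, 7⟩)) (.node 1 (.one ⟨3159, 0, 9⟩) (.one ⟨13188, 2, 10⟩)))))) (.node 16 (.node 8 (.node 4 (.node 2 (.node 1 (.one ⟨13404, 2, 9⟩) (.one ⟨10899, 0, 10⟩)) (.node 1 (.one ⟨16017, 1, 11⟩) (.one ⟨9044, 2, 10⟩))) (.node 2 (.node 1 (.one ⟨8815, 2, 11⟩) (.one ⟨16343, 1, 7⟩)) (.node 1 (.one ⟨14204, 2, 10⟩) (.one ⟨12227, 2, 8⟩)))) (.node 4 (.node 2 (.node 1 (.one ⟨2909, 2, 8⟩) (.one ⟨9132, 2, 9⟩)) (.node 1 (.one ⟨3463, 1, 9⟩) (.one ⟨1912, 2, 10⟩))) (.node 2 (.node 1 (.one ⟨13425, 2, 8⟩) (.one ⟨15017, 2, 9⟩))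 (.node 1 (.one ⟨2001, 1, 10⟩) (.one ⟨15195, 1, 4⟩))))) (.node 8 (.node 4 (.node 2 (.node 1 (.one ⟨16451, 1, 9⟩) (.one ⟨16040, 1, 7⟩)) (.node 1 (.one ⟨14628, 1, 10⟩) (.one ⟨5321, 2, 7⟩))) (.node 2 (.node 1 (.one ⟨3239, 0, 9⟩) (.one ⟨7247, 0, 7⟩)) (.node 1 (.one ⟨7765, 0, 9⟩) (.one ⟨13013, 0, 9⟩)))) (.node 4 (.node 2 (.node 1 (.one ⟨552, 1, 7⟩) (.one ⟨6063, 2, 7⟩)) (.node 1 (.one ⟨613, 2, 9⟩) (.one ⟨15690, 0, 5⟩))) (.node 2 (.node 1 (.one ⟨550, 1, 9⟩) (.one ⟨6067, 2, 7⟩)) (.node 1 (.one ⟨50, 2, 8⟩) (.one ⟨10876, 1, 6⟩)))))))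
def par10_3_3 : Arr Par :=
  (.node 32 (.node 16 (.node 8 (.node 4 (.node 2 (.node 1 (.one ⟨6855, 0, 1⟩) (.one ⟨5229, 2, 9⟩)) (.node 1 (.one ⟨16875, 0, 4⟩) (.one ⟨13511, 0, 8⟩))) (.node 2 (.node 1 (.one ⟨10816, 1, 8⟩) (.one ⟨14187, 2, 5⟩)) (.node 1 (.one ⟨2209, 1, 7⟩) (.one ⟨2568, 2, 2⟩)))) (.node 4 (.node 2 (.node 1 (.one ⟨10964, 1, 10⟩) (.one ⟨7675, 2, 5⟩)) (.node 1 (.one ⟨2630, 1, 7⟩) (.one ⟨8276, 2, 7⟩))) (.node 2 (.node 1 (.one ⟨2522, 2, 11⟩) (.one ⟨523, 2, 5⟩)) (.node 1 (.one ⟨9563, 0, 10⟩) (.one ⟨9824, 0, 8⟩))))) (.node 8 (.node 4 (.node 2 (.node 1 (.one ⟨13872, 2, 10⟩) (.one ⟨8895, 1, 10⟩)) (.node 1 (.one ⟨14797, 1, 6⟩) (.one ⟨8213, 2, 8⟩))) (.node 2 (.node 1 (.one ⟨9240, 0, 10⟩) (.one ⟨6623, 2, 10⟩)) (.node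 1 (.one ⟨6635, 1, 5⟩) (.one ⟨1131, 2, 8⟩)))) (.node 4 (.node 2 (.node 1 (.one ⟨3910, 2, 8⟩) (.one ⟨8186, 2, 6⟩)) (.node 1 (.one ⟨5846, 2, 10⟩) (.one ⟨15723, 0, 7⟩))) (.node 2 (.node 1 (.one ⟨4404, 2, 8⟩) (.one ⟨15630, 0, 7⟩)) (.node 1 (.one ⟨14051, 0, 9⟩) (.one ⟨7588, 2, 7⟩)))))) (.node 16 (.node 8 (.node 4 (.node 2 (.node 1 (.one ⟨15668, 1, 6⟩) (.one ⟨561, 0, 8⟩)) (.node 1 (.one ⟨10979, 2, 6⟩) (.one ⟨9923, 0, 6⟩))) (.node 2 (.node 1 (.one ⟨6452, 2, 6⟩) (.one ⟨9974, 2, 8⟩)) (.node 1 (.one ⟨11592, 0, 11⟩) (.one ⟨14833, 0, 10⟩)))) (.node 4 (.node 2 (.node 1 (.one ⟨7106, 1, 7⟩) (.one ⟨2091, 2, 9⟩)) (.node 1 (.one ⟨10049, 1, 7⟩) (.one ⟨9744, 2, 10⟩))) (.node 2 (.node 1 (.one ⟨7118, 0, 9⟩) (.one ⟨9995, 2, 9⟩)) (.node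 1 (.one ⟨10615, 0, 9⟩) (.one ⟨1325, 2, 8⟩))))) (.node 8 (.node 4 (.node 2 (.node 1 (.one ⟨14024, 2, 9⟩) (.one ⟨11872, 0, 9⟩)) (.node 1 (.one ⟨1746, 1, 9⟩) (.one ⟨6345, 1, 6⟩))) (.node 2 (.node 1 (.one ⟨12776, 2, 10⟩) (.one ⟨1471, 0, 7⟩)) (.node 1 (.one ⟨14536, 2, 9⟩) (.one ⟨7217, 2, 11⟩)))) (.node 4 (.node 2 (.node 1 (.one ⟨8190, 2, 10⟩) (.one ⟨11277, 2, 12⟩)) (.node 1 (.one ⟨12124, 2, 8⟩) (.one ⟨12751, 2, 7⟩))) (.node 2 (.node 1 (.one ⟨9966, 1, 7⟩) (.one ⟨8448, 2, 7⟩)) (.node 1 (.one ⟨10034, 1, 8⟩) (.one ⟨11914, 2, 8⟩)))))))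
def par10_3_4 : Arr Par :=
  (.node 32 (.node 16 (.node 8 (.node 4 (.node 2 (.node 1 (.one ⟨13084, 2, 8⟩) (.one ⟨8855, 0, 9⟩)) (.node 1 (.one ⟨4646, 0, 9⟩) (.one ⟨416, 2, 8⟩))) (.node 2 (.node 1 (.one ⟨2802, 2, 9⟩) (.one ⟨3620, 2, 8⟩)) (.node 1 (.one ⟨4632, 2, 8⟩) (.one ⟨16153, 1, 9⟩)))) (.node 4 (.node 2 (.node 1 (.one ⟨10977, 0, 11⟩) (.one ⟨11985, 0, 8⟩)) (.node 1 (.one ⟨14948, 1, 8⟩) (.one ⟨13090, 2, 10⟩))) (.node 2 (.node 1 (.one ⟨12566, 2, 10⟩) (.one ⟨2446, 1, 8⟩)) (.node 1 (.one ⟨10281, 1, 11⟩) (.one ⟨12894, 0, 8⟩))))) (.node 8 (.node 4 (.node 2 (.node 1 (.one ⟨3886, 2, 8⟩) (.one ⟨7920, 2, 7⟩)) (.node 1 (.one ⟨11552, 0, 9⟩) (.one ⟨7867, 1, 9⟩))) (.node 2 (.node 1 (.one ⟨16207, 2, 9⟩) (.one ⟨16035, 1, 8⟩)) (.node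 1 (.one ⟨13890, 2, 9⟩) (.one ⟨16252, 0, 9⟩)))) (.node 4 (.node 2 (.node 1 (.one ⟨6203, 1, 7⟩) (.one ⟨6140, 0, 11⟩)) (.node 1 (.one ⟨12230, 0, 9⟩) (.one ⟨13612, 0, 10⟩))) (.node 2 (.node 1 (.one ⟨13884, 2, 11⟩) (.one ⟨14791, 1, 4⟩)) (.node 1 (.one ⟨5455, 1, 9⟩) (.one ⟨11794, 2, 9⟩)))))) (.node 16 (.node 8 (.node 4 (.node 2 (.node 1 (.one ⟨15640, 0, 11⟩) (.one ⟨7743, 2, 9⟩)) (.node 1 (.one ⟨11487, 1, 8⟩) (.one ⟨3395, 2, 8⟩))) (.node 2 (.node 1 (.one ⟨15812, 0, 9⟩) (.one ⟨15404, 2, 7⟩)) (.node 1 (.one ⟨9034, 2, 6⟩) (.one ⟨14454, 2, 9⟩)))) (.node 4 (.node 2 (.node 1 (.one ⟨7842, 2, 7⟩) (.one ⟨12710, 2, 9⟩)) (.node 1 (.one ⟨3186, 2, 8⟩) (.one ⟨6056, 0, 9⟩))) (.node 2 (.node 1 (.one ⟨9004, 2, 6⟩) (.one ⟨12072, 2, 6⟩))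 (.node 1 (.one ⟨742, 2, 7⟩) (.one ⟨929, 2, 9⟩))))) (.node 8 (.node 4 (.node 2 (.node 1 (.one ⟨5974, 0, 8⟩) (.one ⟨8610, 2, 8⟩)) (.node 1 (.one ⟨5968, 0, 8⟩) (.one ⟨15284, 2, 5⟩))) (.node 2 (.node 1 (.one ⟨7368, 2, 8⟩) (.one ⟨13262, 1, 7⟩)) (.node 1 (.one ⟨5970, 0, 5⟩) (.one ⟨3373, 0, 7⟩)))) (.node 4 (.node 2 (.node 1 (.one ⟨16519, 2, 7⟩) (.one ⟨12178, 2, 8⟩)) (.node 1 (.one ⟨6301, 2, 8⟩) (.one ⟨9157, 0, 9⟩))) (.node 2 (.node 1 (.one ⟨16769, 1, 6⟩) (.one ⟨12737, 2, 7⟩)) (.node 1 (.one ⟨2972, 0, 8⟩) (.one ⟨11057, 2, 8⟩)))))))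
def par10_3_5 : Arr Par :=
  (.node 32 (.node 16 (.node 8 (.node 4 (.node 2 (.node 1 (.one ⟨7358, 1, 7⟩) (.one ⟨1334, 1, 8⟩)) (.node 1 (.one ⟨16159, 2, 10⟩) (.one ⟨4706, 0, 7⟩))) (.node 2 (.node 1 (.one ⟨573, 2, 8⟩) (.one ⟨295, 1, 8⟩)) (.node 1 (.one ⟨15789, 0, 10⟩) (.one ⟨8103, 2, 8⟩)))) (.node 4 (.node 2 (.node 1 (.one ⟨7576, 2, 6⟩) (.one ⟨9680, 2, 10⟩)) (.node 1 (.one ⟨13239, 2, 6⟩) (.one ⟨7730, 2, 4⟩))) (.node 2 (.node 1 (.one ⟨7128, 2, 6⟩) (.one ⟨9944, 2, 8⟩)) (.node 1 (.one ⟨10927, 1, 8⟩) (.one ⟨4257, 2, 10⟩))))) (.node 8 (.node 4 (.node 2 (.node 1 (.one ⟨3173, 2, 7⟩) (.one ⟨718, 2, 9⟩)) (.node 1 (.one ⟨2844, 1, 7⟩) (.one ⟨1446, 0, 7⟩))) (.node 2 (.node 1 (.one ⟨11210, 2, 10⟩) (.one ⟨9464, 2, 9⟩)) (.node 1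 (.one ⟨3788, 1, 9⟩) (.one ⟨3194, 2, 8⟩)))) (.node 4 (.node 2 (.node 1 (.one ⟨6800, 0, 8⟩) (.one ⟨2910, 2, 5⟩)) (.node 1 (.one ⟨8690, 0, 9⟩) (.one ⟨1304, 2, 8⟩))) (.node 2 (.node 1 (.one ⟨11501, 2, 10⟩) (.one ⟨2494, 2, 11⟩)) (.node 1 (.one ⟨10387, 0, 6⟩) (.one ⟨1327, 1, 2⟩)))))) (.node 16 (.node 8 (.node 4 (.node 2 (.node 1 (.one ⟨5106, 0, 2⟩) (.one ⟨15517, 0, 9⟩)) (.node 1 (.one ⟨4834, 2, 11⟩) (.one ⟨15881, 0, 9⟩))) (.node 2 (.node 1 (.one ⟨268, 2, 9⟩) (.one ⟨7626, 0, 9⟩)) (.node 1 (.one ⟨6198, 1, 11⟩) (.one ⟨1131, 0, 8⟩)))) (.node 4 (.node 2 (.node 1 (.one ⟨3924, 0, 8⟩) (.one ⟨15325, 2, 8⟩)) (.node 1 (.one ⟨16259, 2, 10⟩) (.one ⟨4821, 2, 9⟩))) (.node 2 (.node 1 (.one ⟨1353, 2, 8⟩) (.one ⟨6110, 2, 7⟩)) (.node 1 (.one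 ⟨3379, 1, 6⟩) (.one ⟨3288, 0, 9⟩))))) (.node 8 (.node 4 (.node 2 (.node 1 (.one ⟨976, 0, 9⟩) (.one ⟨2497, 2, 8⟩)) (.node 1 (.one ⟨12420, 2, 6⟩) (.one ⟨6527, 2, 9⟩))) (.node 2 (.node 1 (.one ⟨3295, 0, 8⟩) (.one ⟨13022, 2, 8⟩)) (.node 1 (.one ⟨2864, 2, 11⟩) (.one ⟨6263, 0, 8⟩)))) (.node 4 (.node 2 (.node 1 (.one ⟨469, 0, 9⟩) (.one ⟨11561, 1, 8⟩)) (.node 1 (.one ⟨3292, 0, 9⟩) (.one ⟨9040, 2, 6⟩))) (.node 2 (.node 1 (.one ⟨17092, 2, 8⟩) (.one ⟨9064, 2, 6⟩)) (.node 1 (.one ⟨17084, 2, 6⟩) (.one ⟨13984, 0, 9⟩)))))))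
def par10_3_6 : Arr Par :=
  (.node 32 (.node 16 (.node 8 (.node 4 (.node 2 (.node 1 (.one ⟨9211, 1, 8⟩) (.one ⟨11639, 1, 10⟩)) (.node 1 (.one ⟨16853, 1, 7⟩) (.one ⟨5859, 0, 9⟩))) (.node 2 (.node 1 (.one ⟨14692, 2, 5⟩) (.one ⟨8690, 1, 9⟩)) (.node 1 (.one ⟨13237, 0, 10⟩) (.one ⟨10679, 2, 8⟩)))) (.node 4 (.node 2 (.node 1 (.one ⟨8934, 2, 8⟩) (.one ⟨1991, 1, 10⟩)) (.node 1 (.one ⟨11096, 2, 9⟩) (.one ⟨1436, 2, 8⟩))) (.node 2 (.node 1 (.one ⟨16585, 2, 8⟩) (.one ⟨16330, 2, 8⟩)) (.node 1 (.one ⟨12424, 1, 7⟩) (.one ⟨9355, 1, 6⟩))))) (.node 8 (.node 4 (.node 2 (.node 1 (.one ⟨5183, 1, 7⟩) (.one ⟨5390, 1, 8⟩)) (.node 1 (.one ⟨10153, 1, 7⟩) (.one ⟨6128, 2, 8⟩))) (.node 2 (.node 1 (.one ⟨9957, 2, 9⟩) (.one ⟨6752, 0, 8⟩)) (.node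 1 (.one ⟨15921, 0, 9⟩) (.one ⟨10267, 2, 10⟩)))) (.node 4 (.node 2 (.node 1 (.one ⟨7050, 0, 7⟩) (.one ⟨1708, 2, 9⟩)) (.node 1 (.one ⟨4525, 2, 6⟩) (.one ⟨2806, 0, 8⟩))) (.node 2 (.node 1 (.one ⟨16281, 2, 9⟩) (.one ⟨5874, 2, 8⟩)) (.node 1 (.one ⟨8340, 2, 10⟩) (.one ⟨8713, 2, 7⟩)))))) (.node 16 (.node 8 (.node 4 (.node 2 (.node 1 (.one ⟨5899, 2, 8⟩) (.one ⟨3107, 1, 7⟩)) (.node 1 (.one ⟨4045, 2, 8⟩) (.one ⟨12432, 2, 6⟩))) (.node 2 (.node 1 (.one ⟨6920, 0, 4⟩) (.one ⟨14034, 2, 7⟩)) (.node 1 (.one ⟨16532, 2, 2⟩) (.one ⟨870, 2, 5⟩)))) (.node 4 (.node 2 (.node 1 (.one ⟨3888, 2, 6⟩) (.one ⟨9208, 1, 7⟩)) (.node 1 (.one ⟨102, 2, 9⟩) (.one ⟨3891, 2, 8⟩))) (.node 2 (.node 1 (.one ⟨530, 2, 6⟩) (.one ⟨794, 2, 8⟩)) (.node 1 (.one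 ⟨3889, 2, 5⟩) (.one ⟨8894, 1, 10⟩))))) (.node 8 (.node 4 (.node 2 (.node 1 (.one ⟨7215, 0, 10⟩) (.one ⟨10990, 2, 9⟩)) (.node 1 (.one ⟨12323, 1, 5⟩) (.one ⟨2614, 1, 9⟩))) (.node 2 (.node 1 (.one ⟨6657, 2, 9⟩) (.one ⟨13844, 2, 7⟩)) (.node 1 (.one ⟨7221, 0, 8⟩) (.one ⟨15959, 0, 9⟩)))) (.node 4 (.node 2 (.node 1 (.one ⟨4685, 2, 4⟩) (.one ⟨11262, 2, 10⟩)) (.node 1 (.one ⟨4083, 2, 10⟩) (.one ⟨2076, 0, 8⟩))) (.node 2 (.node 1 (.one ⟨3325, 2, 8⟩) (.one ⟨12883, 2, 9⟩)) (.node 1 (.one ⟨772, 2, 10⟩) (.one ⟨11299, 2, 8⟩)))))))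
def par10_3_7 : Arr Par :=
  (.node 32 (.node 16 (.node 8 (.node 4 (.node 2 (.node 1 (.one ⟨3208, 2, 9⟩) (.one ⟨3188, 2, 9⟩)) (.node 1 (.one ⟨5782, 1, 10⟩) (.one ⟨11255, 2, 9⟩))) (.node 2 (.node 1 (.one ⟨3215, 2, 9⟩) (.one ⟨3240, 2, 9⟩)) (.node 1 (.one ⟨8931, 1, 5⟩) (.one ⟨10899, 2, 10⟩)))) (.node 4 (.node 2 (.node 1 (.one ⟨15181, 2, 8⟩) (.one ⟨16428, 2, 8⟩)) (.node 1 (.one ⟨11883, 2, 9⟩) (.one ⟨6758, 2, 8⟩))) (.node 2 (.node 1 (.one ⟨7033, 0, 8⟩) (.one ⟨4163, 2, 10⟩)) (.node 1 (.one ⟨2614, 0, 9⟩) (.one ⟨16106, 1, 9⟩))))) (.node 8 (.node 4 (.node 2 (.node 1 (.one ⟨734, 1, 11⟩) (.one ⟨3928, 0, 9⟩)) (.node 1 (.one ⟨10186, 1, 9⟩) (.one ⟨461, 2, 9⟩))) (.node 2 (.node 1 (.one ⟨3839, 0, 10⟩) (.one ⟨454, 2, 10⟩)) (.node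 1 (.one ⟨3916, 2, 10⟩) (.one ⟨11132, 1, 9⟩)))) (.node 4 (.node 2 (.node 1 (.one ⟨3563, 0, 10⟩) (.one ⟨15596, 2, 10⟩)) (.node 1 (.one ⟨1257, 0, 9⟩) (.one ⟨5170, 2, 6⟩))) (.node 2 (.node 1 (.one ⟨17032, 0, 8⟩) (.one ⟨1094, 1, 5⟩)) (.node 1 (.one ⟨15396, 0, 10⟩) (.one ⟨5598, 2, 10⟩)))))) (.node 16 (.node 8 (.node 4 (.node 2 (.node 1 (.one ⟨13437, 0, 9⟩) (.one ⟨1735, 0, 10⟩)) (.node 1 (.one ⟨3239, 2, 9⟩) (.one ⟨6205, 1, 9⟩))) (.node 2 (.node 1 (.one ⟨12504, 1, 7⟩) (.one ⟨7765, 2, 9⟩)) (.node 1 (.one ⟨5115, 0, 9⟩) (.one ⟨14249, 1, 10⟩)))) (.node 4 (.node 2 (.node 1 (.one ⟨7958, 1, 8⟩) (.one ⟨3700, 1, 8⟩)) (.node 1 (.one ⟨10175, 1, 8⟩) (.one ⟨10991, 0, 9⟩))) (.node 2 (.node 1 (.one ⟨7029, 0, 7⟩) (.one ⟨16567, 2, 6⟩)) (.node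 1 (.one ⟨16429, 2, 10⟩) (.one ⟨7403, 2, 3⟩))))) (.node 8 (.node 4 (.node 2 (.node 1 (.one ⟨3528, 1, 9⟩) (.one ⟨10935, 2, 7⟩)) (.node 1 (.one ⟨15590, 1, 9⟩) (.one ⟨11204, 2, 9⟩))) (.node 2 (.node 1 (.one ⟨10867, 2, 8⟩) (.one ⟨866, 0, 9⟩)) (.node 1 (.one ⟨5304, 1, 9⟩) (.one ⟨12991, 0, 7⟩)))) (.node 4 (.node 2 (.node 1 (.one ⟨8273, 0, 6⟩) (.one ⟨15428, 0, 6⟩)) (.node 1 (.one ⟨13923, 2, 7⟩) (.one ⟨11723, 2, 8⟩))) (.node 2 (.node 1 (.one ⟨8557, 0, 7⟩) (.one ⟨13815, 0, 9⟩)) (.node 1 (.one ⟨4278, 1, 8⟩) (.one ⟨12206, 1, 9⟩)))))))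
def par10_3_8 : Arr Par :=
  (.node 32 (.node 16 (.node 8 (.node 4 (.node 2 (.node 1 (.one ⟨3929, 2, 8⟩) (.one ⟨1498, 2, 8⟩)) (.node 1 (.one ⟨14794, 2, 8⟩) (.one ⟨14123, 1, 9⟩))) (.node 2 (.node 1 (.one ⟨4703, 0, 9⟩) (.one ⟨3961, 0, 7⟩)) (.node 1 (.one ⟨12853, 2, 7⟩) (.one ⟨7361, 1, 8⟩)))) (.node 4 (.node 2 (.node 1 (.one ⟨3, 0, 8⟩) (.one ⟨10384, 0, 8⟩)) (.node 1 (.one ⟨13857, 2, 7⟩) (.one ⟨7556, 0, 9⟩))) (.node 2 (.node 1 (.one ⟨13350, 1, 8⟩) (.one ⟨3707, 0, 8⟩)) (.node 1 (.one ⟨15012, 0, 9⟩) (.one ⟨4001, 0, 9⟩))))) (.node 8 (.node 4 (.node 2 (.node 1 (.one ⟨5125, 0, 7⟩) (.one ⟨2463, 0, 9⟩)) (.node 1 (.one ⟨3611, 2, 9⟩) (.one ⟨17033, 0, 9⟩))) (.node 2 (.node 1 (.one ⟨15215, 2, 9⟩) (.one ⟨15186, 0, 8⟩)) (.node 1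 (.one ⟨6762, 2, 7⟩) (.one ⟨9472, 2, 10⟩)))) (.node 4 (.node 2 (.node 1 (.one ⟨11727, 2, 7⟩) (.one ⟨1631, 2, 9⟩)) (.node 1 (.one ⟨5539, 0, 9⟩) (.one ⟨545, 0, 8⟩))) (.node 2 (.node 1 (.one ⟨10095, 2, 10⟩) (.one ⟨17097, 0, 6⟩)) (.node 1 (.one ⟨5133, 0, 11⟩) (.one ⟨11689, 1, 5⟩)))))) (.node 16 (.node 8 (.node 4 (.node 2 (.node 1 (.one ⟨4182, 2, 8⟩) (.one ⟨6836, 2, 10⟩)) (.node 1 (.one ⟨10766, 2, 9⟩) (.one ⟨14124, 2, 7⟩))) (.node 2 (.node 1 (.one ⟨14947, 1, 7⟩) (.one ⟨1156, 1, 9⟩)) (.node 1 (.one ⟨8643, 0, 9⟩) (.one ⟨14921, 2, 8⟩)))) (.node 4 (.node 2 (.node 1 (.one ⟨16877, 1, 6⟩) (.one ⟨13384, 1, 8⟩)) (.node 1 (.one ⟨7725, 1, 8⟩) (.one ⟨9469, 0, 6⟩))) (.node 2 (.node 1 (.one ⟨5539, 2, 9⟩) (.one ⟨15987, 2, 8⟩)) (.node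 1 (.one ⟨13976, 1, 8⟩) (.one ⟨3567, 1, 4⟩))))) (.node 8 (.node 4 (.node 2 (.node 1 (.one ⟨7145, 2, 10⟩) (.one ⟨203, 0, 8⟩)) (.node 1 (.one ⟨15230, 2, 5⟩) (.one ⟨7097, 2, 9⟩))) (.node 2 (.node 1 (.one ⟨6988, 0, 8⟩) (.one ⟨15277, 2, 9⟩)) (.node 1 (.one ⟨7176, 2, 10⟩) (.one ⟨4621, 1, 8⟩)))) (.node 4 (.node 2 (.node 1 (.one ⟨12276, 2, 9⟩) (.one ⟨3478, 1, 10⟩)) (.node 1 (.one ⟨14506, 2, 9⟩) (.one ⟨13730, 2, 8⟩))) (.node 2 (.node 1 (.one ⟨9984, 0, 9⟩) (.one ⟨11918, 2, 5⟩)) (.node 1 (.one ⟨1281, 0, 8⟩) (.one ⟨5776, 1, 10⟩)))))))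
def par10_3_9 : Arr Par :=
  (.node 32 (.node 16 (.node 8 (.node 4 (.node 2 (.node 1 (.one ⟨10363, 1, 10⟩) (.one ⟨3454, 1, 7⟩)) (.node 1 (.one ⟨15007, 1, 7⟩) (.one ⟨13896, 0, 9⟩))) (.node 2 (.node 1 (.one ⟨13357, 1, 8⟩) (.one ⟨4388, 1, 8⟩)) (.node 1 (.one ⟨11598, 0, 9⟩) (.one ⟨15970, 0, 8⟩)))) (.node 4 (.node 2 (.node 1 (.one ⟨16405, 0, 9⟩) (.one ⟨455, 2, 8⟩)) (.node 1 (.one ⟨1045, 1, 10⟩) (.one ⟨6207, 0, 8⟩))) (.node 2 (.node 1 (.one ⟨5606, 0, 8⟩) (.one ⟨969, 2, 10⟩)) (.node 1 (.one ⟨812, 2, 11⟩) (.one ⟨13784, 2, 8⟩))))) (.node 8 (.node 4 (.node 2 (.node 1 (.one ⟨3320, 2, 11⟩) (.one ⟨15272, 2, 10⟩)) (.node 1 (.one ⟨2281, 1, 9⟩) (.one ⟨9165, 2, 5⟩))) (.node 2 (.node 1 (.one ⟨6976, 0, 9⟩) (.one ⟨11379, 2, 9⟩)) (.node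 1 (.one ⟨5742, 2, 9⟩) (.one ⟨11939, 2, 9⟩)))) (.node 4 (.node 2 (.node 1 (.one ⟨8574, 0, 9⟩) (.one ⟨12016, 0, 8⟩)) (.node 1 (.one ⟨12570, 2, 9⟩) (.one ⟨5531, 0, 4⟩))) (.node 2 (.node 1 (.one ⟨11140, 0, 5⟩) (.one ⟨14829, 2, 9⟩)) (.node 1 (.one ⟨8560, 2, 10⟩) (.one ⟨3129, 2, 7⟩)))))) (.node 16 (.node 8 (.node 4 (.node 2 (.node 1 (.one ⟨2634, 0, 8⟩) (.one ⟨11175, 0, 9⟩)) (.node 1 (.one ⟨13329, 0, 8⟩) (.one ⟨7897, 0, 9⟩))) (.node 2 (.node 1 (.one ⟨973, 1, 5⟩) (.one ⟨16073, 2, 5⟩)) (.node 1 (.one ⟨17197, 0, 9⟩) (.one ⟨12275, 2, 8⟩)))) (.node 4 (.node 2 (.node 1 (.one ⟨12799, 1, 9⟩) (.one ⟨9656, 1, 7⟩)) (.node 1 (.one ⟨7003, 0, 9⟩) (.one ⟨16638, 2, 9⟩))) (.node 2 (.node 1 (.one ⟨12863, 1, 9⟩) (.one ⟨10996, 0, 3⟩)) (.node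 1 (.one ⟨1476, 0, 9⟩) (.one ⟨13779, 0, 8⟩))))) (.node 8 (.node 4 (.node 2 (.node 1 (.one ⟨5238, 2, 8⟩) (.one ⟨7322, 2, 9⟩)) (.node 1 (.one ⟨4934, 0, 10⟩) (.one ⟨10229, 1, 9⟩))) (.node 2 (.node 1 (.one ⟨6534, 0, 7⟩) (.one ⟨13284, 0, 5⟩)) (.node 1 (.one ⟨12568, 1, 6⟩) (.one ⟨2593, 2, 10⟩)))) (.node 4 (.node 2 (.node 1 (.one ⟨15776, 1, 9⟩) (.one ⟨14493, 2, 6⟩)) (.node 1 (.one ⟨15777, 1, 9⟩) (.one ⟨10083, 2, 7⟩))) (.node 2 (.node 1 (.one ⟨13993, 2, 9⟩) (.one ⟨15579, 0, 6⟩)) (.node 1 (.one ⟨1943, 2, 8⟩) (.one ⟨4355, 1, 10⟩)))))))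
def par10_3_10 : Arr Par :=
  (.node 32 (.node 16 (.node 8 (.node 4 (.node 2 (.node 1 (.one ⟨9209, 2, 11⟩) (.one ⟨10634, 2, 10⟩)) (.node 1 (.one ⟨4527, 2, 6⟩) (.one ⟨16393, 0, 7⟩))) (.node 2 (.node 1 (.one ⟨6342, 2, 7⟩) (.one ⟨6184, 2, 10⟩)) (.node 1 (.one ⟨16169, 1, 11⟩) (.one ⟨2041, 0, 7⟩)))) (.node 4 (.node 2 (.node 1 (.one ⟨13620, 1, 10⟩) (.one ⟨5442, 2, 7⟩)) (.node 1 (.one ⟨10230, 2, 9⟩) (.one ⟨9754, 1, 9⟩))) (.node 2 (.node 1 (.one ⟨2319, 2, 9⟩) (.one ⟨2477, 0, 7⟩)) (.node 1 (.one ⟨4852, 2, 7⟩) (.one ⟨2674, 2, 7⟩))))) (.node 8 (.node 4 (.node 2 (.node 1 (.one ⟨12294, 1, 6⟩) (.one ⟨3439, 0, 10⟩)) (.node 1 (.one ⟨8511, 2, 5⟩) (.one ⟨3064, 2, 7⟩))) (.node 2 (.node 1 (.one ⟨10220, 1, 8⟩) (.one ⟨1262, 0, 5⟩)) (.node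 1 (.one ⟨4125, 1, 8⟩) (.one ⟨6211, 2, 8⟩)))) (.node 4 (.node 2 (.node 1 (.one ⟨14836, 2, 9⟩) (.one ⟨10102, 0, 10⟩)) (.node 1 (.one ⟨12923, 0, 8⟩) (.one ⟨16727, 0, 5⟩))) (.node 2 (.node 1 (.one ⟨16444, 2, 9⟩) (.one ⟨8380, 0, 6⟩)) (.node 1 (.one ⟨14987, 1, 9⟩) (.one ⟨13374, 1, 2⟩)))))) (.node 16 (.node 8 (.node 4 (.node 2 (.node 1 (.one ⟨5898, 2, 9⟩) (.one ⟨10001, 0, 10⟩)) (.node 1 (.one ⟨14437, 0, 5⟩) (.one ⟨6837, 2, 6⟩))) (.node 2 (.node 1 (.one ⟨13920, 2, 8⟩) (.one ⟨10003, 0, 8⟩)) (.node 1 (.one ⟨4769, 2, 8⟩) (.one ⟨15733, 1, 7⟩)))) (.node 4 (.node 2 (.node 1 (.one ⟨16678, 2, 8⟩) (.one ⟨7853, 2, 6⟩)) (.node 1 (.one ⟨4305, 1, 9⟩) (.one ⟨14141, 2, 7⟩))) (.node 2 (.node 1 (.one ⟨3650, 2, 8⟩) (.one ⟨892, 1, 9⟩)) (.node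 1 (.one ⟨6541, 1, 8⟩) (.one ⟨16679, 2, 10⟩))))) (.node 8 (.node 4 (.node 2 (.node 1 (.one ⟨13940, 0, 9⟩) (.one ⟨2577, 1, 8⟩)) (.node 1 (.one ⟨9198, 0, 8⟩) (.one ⟨16548, 0, 11⟩))) (.node 2 (.node 1 (.one ⟨14416, 0, 9⟩) (.one ⟨4043, 1, 5⟩)) (.node 1 (.one ⟨16098, 2, 9⟩) (.one ⟨11893, 1, 9⟩)))) (.node 4 (.node 2 (.node 1 (.one ⟨9569, 1, 10⟩) (.one ⟨13968, 1, 7⟩)) (.node 1 (.one ⟨12408, 2, 10⟩) (.one ⟨4741, 0, 9⟩))) (.node 2 (.node 1 (.one ⟨13242, 0, 8⟩) (.one ⟨15101, 0, 9⟩)) (.node 1 (.one ⟨8884, 2, 10⟩) (.one ⟨9936, 2, 9⟩)))))))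
def par10_3_11 : Arr Par :=
  (.node 32 (.node 16 (.node 8 (.node 4 (.node 2 (.node 1 (.one ⟨17122, 2, 9⟩) (.one ⟨1521, 2, 10⟩)) (.node 1 (.one ⟨8831, 2, 9⟩) (.one ⟨6859, 2, 7⟩))) (.node 2 (.node 1 (.one ⟨4190, 2, 5⟩) (.one ⟨16729, 1, 9⟩)) (.node 1 (.one ⟨15821, 1, 8⟩) (.one ⟨12368, 2, 5⟩)))) (.node 4 (.node 2 (.node 1 (.one ⟨12495, 1, 9⟩) (.one ⟨4352, 2, 8⟩)) (.node 1 (.one ⟨4671, 0, 6⟩) (.one ⟨3499, 0, 9⟩))) (.node 2 (.node 1 (.one ⟨12449, 2, 8⟩) (.one ⟨12399, 2, 10⟩)) (.node 1 (.one ⟨4271, 2, 10⟩) (.one ⟨6561, 0, 10⟩))))) (.node 8 (.node 4 (.node 2 (.node 1 (.one ⟨6928, 2, 7⟩) (.one ⟨4710, 2, 10⟩)) (.node 1 (.one ⟨10276, 2, 8⟩) (.one ⟨11847, 1, 9⟩))) (.node 2 (.node 1 (.one ⟨15847, 0, 8⟩) (.one ⟨11891, 1, 9⟩))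 (.node 1 (.one ⟨13047, 0, 7⟩) (.one ⟨7068, 2, 8⟩)))) (.node 4 (.node 2 (.node 1 (.one ⟨4479, 2, 8⟩) (.one ⟨7936, 1, 9⟩)) (.node 1 (.one ⟨11526, 2, 7⟩) (.one ⟨13922, 1, 8⟩))) (.node 2 (.node 1 (.one ⟨15655, 0, 10⟩) (.one ⟨9953, 0, 11⟩)) (.node 1 (.one ⟨1959, 0, 9⟩) (.one ⟨5459, 2, 6⟩)))))) (.node 16 (.node 8 (.node 4 (.node 2 (.node 1 (.one ⟨17028, 0, 9⟩) (.one ⟨3691, 1, 10⟩)) (.node 1 (.one ⟨10517, 0, 7⟩) (.one ⟨15851, 1, 8⟩))) (.node 2 (.node 1 (.one ⟨4791, 1, 9⟩) (.one ⟨11077, 1, 10⟩)) (.node 1 (.one ⟨7853, 0, 6⟩) (.one ⟨1431, 1, 4⟩)))) (.node 4 (.node 2 (.node 1 (.one ⟨9817, 2, 5⟩) (.one ⟨13241, 0, 7⟩)) (.node 1 (.one ⟨7367, 1, 10⟩) (.one ⟨16884, 0, 9⟩))) (.node 2 (.node 1 (.one ⟨9838, 0, 3⟩) (.one ⟨12622, 1,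 11⟩)) (.node 1 (.one ⟨1052, 2, 9⟩) (.one ⟨15865, 1, 9⟩))))) (.node 8 (.node 4 (.node 2 (.node 1 (.one ⟨918, 2, 5⟩) (.one ⟨8083, 1, 8⟩)) (.node 1 (.one ⟨8571, 1, 9⟩) (.one ⟨10914, 1, 8⟩))) (.node 2 (.node 1 (.one ⟨9526, 1, 9⟩) (.one ⟨12461, 0, 6⟩)) (.node 1 (.one ⟨15671, 2, 9⟩) (.one ⟨1426, 1, 9⟩)))) (.node 4 (.node 2 (.node 1 (.one ⟨8679, 2, 4⟩) (.one ⟨11978, 0, 8⟩)) (.node 1 (.one ⟨11207, 0, 11⟩) (.one ⟨8809, 2, 8⟩))) (.node 2 (.node 1 (.one ⟨4637, 0, 8⟩) (.one ⟨2673, 1, 8⟩)) (.node 1 (.one ⟨13512, 0, 9⟩) (.one ⟨7035, 2, 9⟩)))))))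
def par10_3_12 : Arr Par :=
  (.node 32 (.node 16 (.node 8 (.node 4 (.node 2 (.node 1 (.one ⟨10785, 2, 10⟩) (.one ⟨4236, 2, 9⟩)) (.node 1 (.one ⟨16618, 2, 10⟩) (.one ⟨4004, 2, 11⟩))) (.node 2 (.node 1 (.one ⟨16496, 2, 10⟩) (.one ⟨6756, 2, 9⟩)) (.node 1 (.one ⟨10495, 2, 7⟩) (.one ⟨14673, 0, 9⟩)))) (.node 4 (.node 2 (.node 1 (.one ⟨3879, 1, 5⟩) (.one ⟨15478, 2, 6⟩)) (.node 1 (.one ⟨2164, 2, 10⟩) (.one ⟨1677, 2, 8⟩))) (.node 2 (.node 1 (.one ⟨15608, 2, 9⟩) (.one ⟨3883, 1, 6⟩)) (.node 1 (.one ⟨1993, 2, 7⟩) (.one ⟨11614, 2, 8⟩))))) (.node 8 (.node 4 (.node 2 (.node 1 (.one ⟨1887, 2, 5⟩) (.one ⟨12148, 2, 5⟩)) (.node 1 (.one ⟨3725, 0, 8⟩) (.one ⟨12577, 2, 10⟩))) (.node 2 (.node 1 (.one ⟨5016, 1, 9⟩) (.one ⟨11922, 2, 8⟩))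 (.node 1 (.one ⟨1309, 2, 7⟩) (.one ⟨12223, 2, 8⟩)))) (.node 4 (.node 2 (.node 1 (.one ⟨7827, 1, 7⟩) (.one ⟨2883, 2, 8⟩)) (.node 1 (.one ⟨15346, 2, 6⟩) (.one ⟨9731, 2, 6⟩))) (.node 2 (.node 1 (.one ⟨11732, 0, 9⟩) (.one ⟨3194, 1, 8⟩)) (.node 1 (.one ⟨16565, 2, 4⟩) (.one ⟨9372, 1, 10⟩)))))) (.node 16 (.node 8 (.node 4 (.node 2 (.node 1 (.one ⟨14528, 2, 6⟩) (.one ⟨1254, 0, 9⟩)) (.node 1 (.one ⟨15405, 0, 9⟩) (.one ⟨11865, 2, 7⟩))) (.node 2 (.node 1 (.one ⟨4166, 1, 8⟩) (.one ⟨5455, 2, 9⟩)) (.node 1 (.one ⟨3423, 2, 3⟩) (.one ⟨15533, 0, 4⟩)))) (.node 4 (.node 2 (.node 1 (.one ⟨8547, 2, 8⟩) (.one ⟨16578, 2, 8⟩)) (.node 1 (.one ⟨12330, 2, 6⟩) (.one ⟨7536, 0, 5⟩))) (.node 2 (.node 1 (.one ⟨4046, 0, 9⟩) (.one ⟨8628, 0, 10⟩))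 (.node 1 (.one ⟨7198, 2, 7⟩) (.one ⟨15363, 2, 9⟩))))) (.node 8 (.node 4 (.node 2 (.node 1 (.one ⟨15292, 1, 5⟩) (.one ⟨4379, 0, 4⟩)) (.node 1 (.one ⟨10722, 2, 7⟩) (.one ⟨7075, 2, 7⟩))) (.node 2 (.node 1 (.one ⟨10773, 2, 9⟩) (.one ⟨15264, 2, 8⟩)) (.node 1 (.one ⟨1345, 2, 7⟩) (.one ⟨17103, 2, 7⟩)))) (.node 4 (.node 2 (.node 1 (.one ⟨5515, 1, 0⟩) (.one ⟨4646, 2, 9⟩)) (.node 1 (.one ⟨7994, 1, 7⟩) (.one ⟨6479, 2, 4⟩))) (.node 2 (.node 1 (.one ⟨8036, 1, 10⟩) (.one ⟨11452, 0, 9⟩)) (.node 1 (.one ⟨9628, 0, 6⟩) (.one ⟨16697, 1, 3⟩)))))))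
def par10_3_13 : Arr Par :=
  (.node 32 (.node 16 (.node 8 (.node 4 (.node 2 (.node 1 (.one ⟨361, 2, 11⟩) (.one ⟨16742, 1, 10⟩)) (.node 1 (.one ⟨8898, 2, 11⟩) (.one ⟨8896, 2, 5⟩))) (.node 2 (.node 1 (.one ⟨6845, 0, 9⟩) (.one ⟨11412, 1, 9⟩)) (.node 1 (.one ⟨639, 1, 7⟩) (.one ⟨10563, 2, 8⟩)))) (.node 4 (.node 2 (.node 1 (.one ⟨939, 2, 7⟩) (.one ⟨13432, 2, 9⟩)) (.node 1 (.one ⟨4618, 2, 9⟩) (.one ⟨12978, 2, 10⟩))) (.node 2 (.node 1 (.one ⟨5104, 2, 9⟩) (.one ⟨9972, 0, 9⟩)) (.node 1 (.one ⟨2332, 2, 6⟩) (.one ⟨3087, 0, 9⟩))))) (.node 8 (.node 4 (.node 2 (.node 1 (.one ⟨13276, 1, 11⟩) (.one ⟨4166, 2, 8⟩)) (.node 1 (.one ⟨14199, 2, 7⟩) (.one ⟨16247, 2, 8⟩))) (.node 2 (.node 1 (.one ⟨235, 2, 7⟩) (.one ⟨11841, 2, 7⟩)) (.node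 1 (.one ⟨13309, 1, 8⟩) (.one ⟨14759, 0, 9⟩)))) (.node 4 (.node 2 (.node 1 (.one ⟨7033, 2, 8⟩) (.one ⟨15557, 1, 7⟩)) (.node 1 (.one ⟨7841, 0, 9⟩) (.one ⟨12267, 1, 8⟩))) (.node 2 (.node 1 (.one ⟨7109, 1, 7⟩) (.one ⟨9917, 1, 10⟩)) (.node 1 (.one ⟨8393, 1, 9⟩) (.one ⟨8771, 1, 8⟩)))))) (.node 16 (.node 8 (.node 4 (.node 2 (.node 1 (.one ⟨2272, 0, 5⟩) (.one ⟨10403, 2, 11⟩)) (.node 1 (.one ⟨3181, 1, 3⟩) (.one ⟨17184, 2, 9⟩))) (.node 2 (.node 1 (.one ⟨7646, 1, 10⟩) (.one ⟨15444, 2, 10⟩)) (.node 1 (.one ⟨4628, 1, 11⟩) (.one ⟨13357, 2, 8⟩)))) (.node 4 (.node 2 (.node 1 (.one ⟨5197, 2, 10⟩) (.one ⟨14239, 1, 10⟩)) (.node 1 (.one ⟨9502, 0, 10⟩) (.one ⟨12204, 2, 9⟩))) (.node 2 (.node 1 (.one ⟨4039, 2, 9⟩) (.one ⟨12123, 1, 9⟩))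 (.node 1 (.one ⟨7501, 0, 9⟩) (.one ⟨10888, 2, 8⟩))))) (.node 8 (.node 4 (.node 2 (.node 1 (.one ⟨12070, 1, 7⟩) (.one ⟨13782, 2, 10⟩)) (.node 1 (.one ⟨9078, 2, 10⟩) (.one ⟨10848, 2, 10⟩))) (.node 2 (.node 1 (.one ⟨11054, 0, 9⟩) (.one ⟨8157, 1, 9⟩)) (.node 1 (.one ⟨9053, 2, 10⟩) (.one ⟨7817, 2, 8⟩)))) (.node 4 (.node 2 (.node 1 (.one ⟨12114, 0, 9⟩) (.one ⟨169, 0, 6⟩)) (.node 1 (.one ⟨191, 1, 8⟩) (.one ⟨13045, 2, 8⟩))) (.node 2 (.node 1 (.one ⟨16114, 2, 7⟩) (.one ⟨216, 2, 5⟩)) (.node 1 (.one ⟨224, 1, 9⟩) (.one ⟨11195, 2, 9⟩)))))))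
def par10_3_14 : Arr Par :=
  (.node 32 (.node 16 (.node 8 (.node 4 (.node 2 (.node 1 (.one ⟨11003, 2, 10⟩) (.one ⟨8337, 0, 10⟩)) (.node 1 (.one ⟨10630, 2, 8⟩) (.one ⟨13063, 0, 10⟩))) (.node 2 (.node 1 (.one ⟨5394, 2, 9⟩) (.one ⟨6760, 0, 9⟩)) (.node 1 (.one ⟨3719, 2, 8⟩) (.one ⟨7635, 2, 7⟩)))) (.node 4 (.node 2 (.node 1 (.one ⟨8351, 1, 9⟩) (.one ⟨910, 2, 7⟩)) (.node 1 (.one ⟨8, 2, 8⟩) (.one ⟨8353, 1, 5⟩))) (.node 2 (.node 1 (.one ⟨7631, 2, 8⟩) (.one ⟨873, 1, 9⟩)) (.node 1 (.one ⟨872, 1, 8⟩) (.one ⟨9000, 2, 8⟩))))) (.node 8 (.node 4 (.node 2 (.node 1 (.one ⟨16404, 2, 9⟩) (.one ⟨7873, 1, 10⟩)) (.node 1 (.one ⟨2233, 1, 8⟩) (.one ⟨6345, 0, 6⟩))) (.node 2 (.node 1 (.one ⟨14895, 2, 8⟩) (.one ⟨8316, 1, 9⟩)) (.node 1 (.one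 ⟨4478, 2, 9⟩) (.one ⟨13071, 0, 9⟩)))) (.node 4 (.node 2 (.node 1 (.one ⟨6383, 2, 5⟩) (.one ⟨16120, 0, 9⟩)) (.node 1 (.one ⟨2139, 2, 8⟩) (.one ⟨13736, 2, 10⟩))) (.node 2 (.node 1 (.one ⟨13100, 0, 9⟩) (.one ⟨10611, 2, 10⟩)) (.node 1 (.one ⟨3218, 1, 10⟩) (.one ⟨12835, 0, 5⟩)))))) (.node 16 (.node 8 (.node 4 (.node 2 (.node 1 (.one ⟨5957, 2, 9⟩) (.one ⟨5403, 2, 8⟩)) (.node 1 (.one ⟨116, 1, 8⟩) (.one ⟨13939, 2, 8⟩))) (.node 2 (.node 1 (.one ⟨14733, 2, 10⟩) (.one ⟨5712, 0, 9⟩)) (.node 1 (.one ⟨7527, 0, 11⟩) (.one ⟨15847, 2, 8⟩)))) (.node 4 (.node 2 (.node 1 (.one ⟨2674, 1, 7⟩) (.one ⟨12028, 1, 7⟩)) (.node 1 (.one ⟨9619, 1, 6⟩) (.one ⟨15035, 2, 9⟩))) (.node 2 (.node 1 (.one ⟨11548, 2, 10⟩) (.one ⟨7133, 0, 4⟩)) (.node 1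 (.one ⟨6713, 1, 10⟩) (.one ⟨14578, 2, 8⟩))))) (.node 8 (.node 4 (.node 2 (.node 1 (.one ⟨15558, 2, 8⟩) (.one ⟨6965, 1, 6⟩)) (.node 1 (.one ⟨13190, 1, 9⟩) (.one ⟨4519, 1, 10⟩))) (.node 2 (.node 1 (.one ⟨11721, 2, 4⟩) (.one ⟨5717, 1, 10⟩)) (.node 1 (.one ⟨6227, 0, 6⟩) (.one ⟨5478, 1, 7⟩)))) (.node 4 (.node 2 (.node 1 (.one ⟨15944, 2, 6⟩) (.one ⟨334, 0, 8⟩)) (.node 1 (.one ⟨12726, 2, 11⟩) (.one ⟨502, 2, 9⟩))) (.node 2 (.node 1 (.one ⟨2690, 2, 8⟩) (.one ⟨6855, 2, 1⟩)) (.node 1 (.one ⟨4738, 0, 9⟩) (.one ⟨5913, 2, 7⟩)))))))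
def par10_3_15 : Arr Par :=
  (.node 32 (.node 16 (.node 8 (.node 4 (.node 2 (.node 1 (.one ⟨9790, 2, 9⟩) (.one ⟨6858, 0, 9⟩)) (.node 1 (.one ⟨13714, 2, 8⟩) (.one ⟨3493, 1, 8⟩))) (.node 2 (.node 1 (.one ⟨5243, 2, 7⟩) (.one ⟨3918, 0, 7⟩)) (.node 1 (.one ⟨12989, 0, 6⟩) (.one ⟨14224, 2, 8⟩)))) (.node 4 (.node 2 (.node 1 (.one ⟨2058, 2, 8⟩) (.one ⟨14151, 2, 4⟩)) (.node 1 (.one ⟨2158, 2, 8⟩) (.one ⟨8679, 0, 4⟩))) (.node 2 (.node 1 (.one ⟨805, 1, 7⟩) (.one ⟨8268, 2, 7⟩)) (.node 1 (.one ⟨12391, 2, 8⟩) (.one ⟨3815, 2, 5⟩))))) (.node 8 (.node 4 (.node 2 (.node 1 (.one ⟨12804, 2, 10⟩) (.one ⟨5505, 1, 0⟩)) (.node 1 (.one ⟨1147, 0, 7⟩) (.one ⟨8273, 1, 6⟩))) (.node 2 (.node 1 (.one ⟨1636, 2, 6⟩) (.one ⟨13228, 2, 9⟩)) (.node 1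 (.one ⟨14426, 1, 10⟩) (.one ⟨3267, 2, 9⟩)))) (.node 4 (.node 2 (.node 1 (.one ⟨1959, 1, 9⟩) (.one ⟨6522, 1, 10⟩)) (.node 1 (.one ⟨15076, 2, 9⟩) (.one ⟨16224, 1, 6⟩))) (.node 2 (.node 1 (.one ⟨13787, 1, 6⟩) (.one ⟨10483, 1, 10⟩)) (.node 1 (.one ⟨6282, 2, 9⟩) (.one ⟨1111, 0, 8⟩)))))) (.node 16 (.node 8 (.node 4 (.node 2 (.node 1 (.one ⟨15669, 2, 9⟩) (.one ⟨3132, 0, 7⟩)) (.node 1 (.one ⟨9377, 2, 10⟩) (.one ⟨164, 1, 6⟩))) (.node 2 (.node 1 (.one ⟨6597, 0, 5⟩) (.one ⟨7575, 2, 9⟩)) (.node 1 (.one ⟨6225, 0, 8⟩) (.one ⟨6493, 1, 9⟩)))) (.node 4 (.node 2 (.node 1 (.one ⟨7232, 0, 10⟩) (.one ⟨13499, 2, 8⟩)) (.node 1 (.one ⟨2964, 2, 7⟩) (.one ⟨13062, 0, 10⟩))) (.node 2 (.node 1 (.one ⟨7541, 0, 7⟩) (.one ⟨3898, 2, 8⟩)) (.node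 1 (.one ⟨8019, 0, 4⟩) (.one ⟨13968, 0, 7⟩))))) (.node 8 (.node 4 (.node 2 (.node 1 (.one ⟨7534, 1, 8⟩) (.one ⟨5663, 2, 4⟩)) (.node 1 (.one ⟨1420, 0, 9⟩) (.one ⟨11852, 2, 9⟩))) (.node 2 (.node 1 (.one ⟨7264, 0, 6⟩) (.one ⟨10584, 1, 8⟩)) (.node 1 (.one ⟨2442, 2, 8⟩) (.one ⟨8456, 2, 8⟩)))) (.node 4 (.node 2 (.node 1 (.one ⟨8838, 2, 7⟩) (.one ⟨4768, 0, 8⟩)) (.node 1 (.one ⟨2427, 1, 9⟩) (.one ⟨15525, 2, 10⟩))) (.node 2 (.node 1 (.one ⟨7927, 1, 9⟩) (.one ⟨10451, 1, 5⟩)) (.node 1 (.one ⟨8217, 2, 9⟩) (.one ⟨15164, 2, 8⟩)))))))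
def par10_3 : Arr Par :=
  (.node 512 (.node 256 (.node 128 (.node 64 par10_3_0 par10_3_1) (.node 64 par10_3_2 par10_3_3)) (.node 128 (.node 64 par10_3_4 par10_3_5) (.node 64 par10_3_6 par10_3_7))) (.node 256 (.node 128 (.node 64 par10_3_8 par10_3_9) (.node 64 par10_3_10 par10_3_11)) (.node 128 (.node 64 par10_3_12 par10_3_13) (.node 64 par10_3_14 par10_3_15))))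
def par10_4_0 : Arr Par :=
  (.node 32 (.node 16 (.node 8 (.node 4 (.node 2 (.node 1 (.one ⟨11396, 2, 9⟩) (.one ⟨13223, 2, 9⟩)) (.node 1 (.one ⟨17028, 2, 9⟩) (.one ⟨2769, 0, 10⟩))) (.node 2 (.node 1 (.one ⟨3589, 2, 8⟩) (.one ⟨1099, 2, 10⟩)) (.node 1 (.one ⟨5743, 2, 10⟩) (.one ⟨9158, 2, 10⟩)))) (.node 4 (.node 2 (.node 1 (.one ⟨11906, 0, 10⟩) (.one ⟨4696, 2, 5⟩)) (.node 1 (.one ⟨4114, 2, 8⟩) (.one ⟨3366, 2, 7⟩))) (.node 2 (.node 1 (.one ⟨782, 2, 7⟩) (.one ⟨12187, 2, 8⟩)) (.node 1 (.one ⟨5022, 1, 7⟩) (.one ⟨2879, 2, 9⟩))))) (.node 8 (.node 4 (.node 2 (.node 1 (.one ⟨3277, 0, 6⟩) (.one ⟨7622, 2, 7⟩)) (.node 1 (.one ⟨15386, 0, 7⟩) (.one ⟨10390, 0, 8⟩))) (.node 2 (.node 1 (.one ⟨8591, 2, 7⟩) (.one ⟨15328, 2, 8⟩)) (.node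 1 (.one ⟨6596, 0, 10⟩) (.one ⟨1825, 1, 9⟩)))) (.node 4 (.node 2 (.node 1 (.one ⟨14218, 2, 9⟩) (.one ⟨12006, 1, 10⟩)) (.node 1 (.one ⟨3453, 2, 7⟩) (.one ⟨2985, 2, 8⟩))) (.node 2 (.node 1 (.one ⟨3081, 0, 8⟩) (.one ⟨14612, 2, 7⟩)) (.node 1 (.one ⟨4045, 0, 8⟩) (.one ⟨6337, 2, 7⟩)))))) (.node 16 (.node 8 (.node 4 (.node 2 (.node 1 (.one ⟨12225, 1, 10⟩) (.one ⟨3649, 2, 8⟩)) (.node 1 (.one ⟨12459, 2, 7⟩) (.one ⟨3496, 0, 7⟩))) (.node 2 (.node 1 (.one ⟨7977, 0, 10⟩) (.one ⟨13781, 2, 10⟩)) (.node 1 (.one ⟨3411, 1, 8⟩) (.one ⟨3686, 2, 10⟩)))) (.node 4 (.node 2 (.node 1 (.one ⟨11872, 2, 9⟩) (.one ⟨3087, 1, 9⟩)) (.node 1 (.one ⟨8618, 2, 6⟩) (.one ⟨4883, 1, 9⟩))) (.node 2 (.node 1 (.one ⟨1671, 0, 8⟩) (.one ⟨10056, 2, 6⟩)) (.node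 1 (.one ⟨13476, 1, 5⟩) (.one ⟨8850, 0, 8⟩))))) (.node 8 (.node 4 (.node 2 (.node 1 (.one ⟨14857, 2, 10⟩) (.one ⟨17009, 2, 10⟩)) (.node 1 (.one ⟨8293, 1, 9⟩) (.one ⟨7710, 2, 9⟩))) (.node 2 (.node 1 (.one ⟨15609, 0, 6⟩) (.one ⟨3152, 2, 4⟩)) (.node 1 (.one ⟨6203, 2, 7⟩) (.one ⟨15683, 2, 7⟩)))) (.node 4 (.node 2 (.node 1 (.one ⟨6720, 0, 8⟩) (.one ⟨14728, 2, 2⟩)) (.node 1 (.one ⟨8925, 2, 7⟩) (.one ⟨12185, 2, 9⟩))) (.node 2 (.node 1 (.one ⟨997, 2, 8⟩) (.one ⟨11436, 2, 8⟩)) (.node 1 (.one ⟨4697, 2, 9⟩) (.one ⟨8082, 0, 9⟩)))))))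
def par10_4_1 : Arr Par :=
  (.node 32 (.node 16 (.node 8 (.node 4 (.node 2 (.node 1 (.one ⟨2414, 2, 8⟩) (.one ⟨4262, 2, 7⟩)) (.node 1 (.one ⟨11838, 2, 10⟩) (.one ⟨9579, 2, 9⟩))) (.node 2 (.node 1 (.one ⟨2958, 0, 9⟩) (.one ⟨5123, 0, 7⟩)) (.node 1 (.one ⟨11859, 2, 7⟩) (.one ⟨14943, 0, 10⟩)))) (.node 4 (.node 2 (.node 1 (.one ⟨1070, 2, 9⟩) (.one ⟨5140, 2, 8⟩)) (.node 1 (.one ⟨9271, 2, 8⟩) (.one ⟨11961, 1, 9⟩))) (.node 2 (.node 1 (.one ⟨14728, 0, 2⟩) (.one ⟨1905, 0, 9⟩)) (.node 1 (.one ⟨11855, 2, 5⟩) (.one ⟨1990, 0, 8⟩))))) (.node 8 (.node 4 (.node 2 (.node 1 (.one ⟨16386, 2, 9⟩) (.one ⟨912, 1, 10⟩)) (.node 1 (.one ⟨12623, 0, 9⟩) (.one ⟨6083, 2, 6⟩))) (.node 2 (.node 1 (.one ⟨2952, 0, 10⟩) (.one ⟨6480, 2, 9⟩)) (.node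 1 (.one ⟨10594, 2, 7⟩) (.one ⟨7640, 1, 11⟩)))) (.node 4 (.node 2 (.node 1 (.one ⟨12316, 0, 8⟩) (.one ⟨8461, 2, 9⟩)) (.node 1 (.one ⟨8911, 1, 6⟩) (.one ⟨9930, 0, 8⟩))) (.node 2 (.node 1 (.one ⟨5874, 1, 8⟩) (.one ⟨10051, 2, 9⟩)) (.node 1 (.one ⟨12757, 1, 4⟩) (.one ⟨2537, 2, 9⟩)))))) (.node 16 (.node 8 (.node 4 (.node 2 (.node 1 (.one ⟨14701, 1, 8⟩) (.one ⟨6690, 2, 9⟩)) (.node 1 (.one ⟨8635, 1, 6⟩) (.one ⟨5064, 1, 4⟩))) (.node 2 (.node 1 (.one ⟨16312, 2, 10⟩) (.one ⟨11482, 1, 9⟩)) (.node 1 (.one ⟨10558, 1, 10⟩) (.one ⟨476, 2, 6⟩)))) (.node 4 (.node 2 (.node 1 (.one ⟨13708, 0, 9⟩) (.one ⟨16579, 2, 9⟩)) (.node 1 (.one ⟨9118, 2, 6⟩) (.one ⟨3134, 0, 9⟩))) (.node 2 (.node 1 (.one ⟨4238, 2, 10⟩) (.one ⟨6173, 1, 8⟩)) (.node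 1 (.one ⟨15224, 2, 8⟩) (.one ⟨6299, 2, 6⟩))))) (.node 8 (.node 4 (.node 2 (.node 1 (.one ⟨8229, 0, 9⟩) (.one ⟨2344, 1, 6⟩)) (.node 1 (.one ⟨6250, 2, 9⟩) (.one ⟨9105, 1, 9⟩))) (.node 2 (.node 1 (.one ⟨6284, 2, 5⟩) (.one ⟨3994, 0, 9⟩)) (.node 1 (.one ⟨15258, 2, 6⟩) (.one ⟨6872, 0, 7⟩)))) (.node 4 (.node 2 (.node 1 (.one ⟨12379, 1, 9⟩) (.one ⟨548, 2, 10⟩)) (.node 1 (.one ⟨16753, 0, 9⟩) (.one ⟨2607, 1, 9⟩))) (.node 2 (.node 1 (.one ⟨16558, 0, 9⟩) (.one ⟨6798, 0, 9⟩)) (.node 1 (.one ⟨727, 2, 9⟩) (.one ⟨14674, 2, 5⟩)))))))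
def par10_4_2 : Arr Par :=
  (.node 32 (.node 16 (.node 8 (.node 4 (.node 2 (.node 1 (.one ⟨6372, 1, 7⟩) (.one ⟨1761, 1, 10⟩)) (.node 1 (.one ⟨14678, 1, 9⟩) (.one ⟨5087, 1, 9⟩))) (.node 2 (.node 1 (.one ⟨3275, 0, 8⟩) (.one ⟨599, 2, 8⟩)) (.node 1 (.one ⟨8416, 1, 8⟩) (.one ⟨8562, 1, 9⟩)))) (.node 4 (.node 2 (.node 1 (.one ⟨2845, 2, 9⟩) (.one ⟨7671, 1, 7⟩)) (.node 1 (.one ⟨3502, 1, 6⟩) (.one ⟨13842, 2, 2⟩))) (.node 2 (.node 1 (.one ⟨14637, 1, 8⟩) (.one ⟨15044, 2, 8⟩)) (.node 1 (.one ⟨11267, 2, 9⟩) (.one ⟨10986, 0, 9⟩))))) (.node 8 (.node 4 (.node 2 (.node 1 (.one ⟨7878, 2, 8⟩) (.one ⟨2547, 1, 6⟩)) (.node 1 (.one ⟨14029, 1, 9⟩) (.one ⟨1091, 2, 7⟩))) (.node 2 (.node 1 (.one ⟨14918, 2, 7⟩) (.one ⟨15982, 0, 10⟩)) (.node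 1 (.one ⟨730, 0, 9⟩) (.one ⟨15483, 2, 9⟩)))) (.node 4 (.node 2 (.node 1 (.one ⟨7441, 2, 8⟩) (.one ⟨12290, 1, 9⟩)) (.node 1 (.one ⟨7502, 0, 10⟩) (.one ⟨7453, 2, 9⟩))) (.node 2 (.node 1 (.one ⟨15832, 0, 10⟩) (.one ⟨7431, 2, 9⟩)) (.node 1 (.one ⟨15526, 2, 10⟩) (.one ⟨1550, 2, 9⟩)))))) (.node 16 (.node 8 (.node 4 (.node 2 (.node 1 (.one ⟨8225, 0, 7⟩) (.one ⟨15039, 2, 9⟩)) (.node 1 (.one ⟨2105, 0, 9⟩) (.one ⟨8357, 2, 9⟩))) (.node 2 (.node 1 (.one ⟨12285, 1, 10⟩) (.one ⟨13279, 2, 7⟩)) (.node 1 (.one ⟨8333, 0, 6⟩) (.one ⟨1147, 2, 7⟩)))) (.node 4 (.node 2 (.node 1 (.one ⟨16447, 0, 9⟩) (.one ⟨7438, 0, 8⟩)) (.node 1 (.one ⟨8699, 0, 9⟩) (.one ⟨6947, 2, 8⟩))) (.node 2 (.node 1 (.one ⟨15957, 1, 7⟩) (.one ⟨9373, 0, 9⟩)) (.node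 1 (.one ⟨4678, 1, 9⟩) (.one ⟨3682, 2, 9⟩))))) (.node 8 (.node 4 (.node 2 (.node 1 (.one ⟨4263, 0, 8⟩) (.one ⟨1715, 0, 9⟩)) (.node 1 (.one ⟨4458, 0, 9⟩) (.one ⟨11944, 2, 8⟩))) (.node 2 (.node 1 (.one ⟨14388, 1, 8⟩) (.one ⟨6628, 2, 6⟩)) (.node 1 (.one ⟨8642, 2, 7⟩) (.one ⟨1919, 1, 9⟩)))) (.node 4 (.node 2 (.node 1 (.one ⟨13243, 2, 9⟩) (.one ⟨15146, 2, 8⟩)) (.node 1 (.one ⟨2994, 2, 7⟩) (.one ⟨9445, 2, 9⟩))) (.node 2 (.node 1 (.one ⟨5631, 2, 8⟩) (.one ⟨4360, 2, 8⟩)) (.node 1 (.one ⟨6894, 0, 9⟩) (.one ⟨15788, 2, 8⟩)))))))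
def par10_4_3 : Arr Par :=
  (.node 32 (.node 16 (.node 8 (.node 4 (.node 2 (.node 1 (.one ⟨1192, 2, 7⟩) (.one ⟨4504, 0, 9⟩)) (.node 1 (.one ⟨15306, 1, 7⟩) (.one ⟨1626, 0, 8⟩))) (.node 2 (.node 1 (.one ⟨4108, 2, 8⟩) (.one ⟨4138, 2, 7⟩)) (.node 1 (.one ⟨14406, 2, 7⟩) (.one ⟨12090, 2, 10⟩)))) (.node 4 (.node 2 (.node 1 (.one ⟨7411, 2, 6⟩) (.one ⟨7827, 2, 7⟩)) (.node 1 (.one ⟨10850, 2, 5⟩) (.one ⟨11304, 0, 10⟩))) (.node 2 (.node 1 (.one ⟨15586, 2, 10⟩) (.one ⟨17125, 0, 7⟩)) (.node 1 (.one ⟨16770, 1, 7⟩) (.one ⟨1793, 2, 8⟩))))) (.node 8 (.node 4 (.node 2 (.node 1 (.one ⟨10360, 2, 8⟩) (.one ⟨7869, 0, 8⟩)) (.node 1 (.one ⟨10243, 0, 8⟩) (.one ⟨4223, 2, 6⟩))) (.node 2 (.node 1 (.one ⟨11947, 2, 5⟩) (.one ⟨5186, 2, 8⟩)) (.node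 1 (.one ⟨12806, 2, 9⟩) (.one ⟨12283, 2, 7⟩)))) (.node 4 (.node 2 (.node 1 (.one ⟨10666, 0, 9⟩) (.one ⟨14116, 0, 8⟩)) (.node 1 (.one ⟨8688, 1, 10⟩) (.one ⟨12512, 0, 8⟩))) (.node 2 (.node 1 (.one ⟨7534, 2, 8⟩) (.one ⟨8784, 0, 9⟩)) (.node 1 (.one ⟨16102, 0, 10⟩) (.one ⟨6576, 1, 10⟩)))))) (.node 16 (.node 8 (.node 4 (.node 2 (.node 1 (.one ⟨6167, 2, 5⟩) (.one ⟨12110, 1, 8⟩)) (.node 1 (.one ⟨16237, 0, 7⟩) (.one ⟨2189, 2, 5⟩))) (.node 2 (.node 1 (.one ⟨14307, 0, 10⟩) (.one ⟨13693, 2, 7⟩)) (.node 1 (.one ⟨5742, 1, 9⟩) (.one ⟨5103, 0, 9⟩)))) (.node 4 (.node 2 (.node 1 (.one ⟨13015, 2, 7⟩) (.one ⟨13344, 2, 7⟩)) (.node 1 (.one ⟨3235, 2, 11⟩) (.one ⟨1229, 2, 8⟩))) (.node 2 (.node 1 (.one ⟨1713, 0, 8⟩) (.one ⟨12362, 2, 8⟩))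 (.node 1 (.one ⟨2677, 2, 7⟩) (.one ⟨14918, 1, 7⟩))))) (.node 8 (.node 4 (.node 2 (.node 1 (.one ⟨13445, 1, 9⟩) (.one ⟨12530, 2, 9⟩)) (.node 1 (.one ⟨12722, 2, 9⟩) (.one ⟨16197, 2, 10⟩))) (.node 2 (.node 1 (.one ⟨15243, 1, 10⟩) (.one ⟨6845, 1, 9⟩)) (.node 1 (.one ⟨3432, 2, 9⟩) (.one ⟨13747, 2, 10⟩)))) (.node 4 (.node 2 (.node 1 (.one ⟨3452, 1, 9⟩) (.one ⟨990, 0, 6⟩)) (.node 1 (.one ⟨11635, 2, 9⟩) (.one ⟨7498, 2, 9⟩))) (.node 2 (.node 1 (.one ⟨15242, 0, 9⟩) (.one ⟨8269, 1, 7⟩)) (.node 1 (.one ⟨10022, 1, 8⟩) (.one ⟨16219, 1, 7⟩)))))))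
def par10_4_4 : Arr Par :=
  (.node 32 (.node 16 (.node 8 (.node 4 (.node 2 (.node 1 (.one ⟨9544, 2, 7⟩) (.one ⟨16146, 2, 10⟩)) (.node 1 (.one ⟨11752, 2, 10⟩) (.one ⟨892, 0, 9⟩))) (.node 2 (.node 1 (.one ⟨100, 0, 6⟩) (.one ⟨6167, 1, 5⟩)) (.node 1 (.one ⟨2005, 2, 10⟩) (.one ⟨6959, 0, 8⟩)))) (.node 4 (.node 2 (.node 1 (.one ⟨7397, 1, 7⟩) (.one ⟨16655, 1, 10⟩)) (.node 1 (.one ⟨13104, 1, 9⟩) (.one ⟨11312, 0, 9⟩))) (.node 2 (.node 1 (.one ⟨2934, 1, 8⟩) (.one ⟨7087, 0, 11⟩)) (.node 1 (.one ⟨2857, 2, 9⟩) (.one ⟨11678, 2, 9⟩))))) (.node 8 (.node 4 (.node 2 (.node 1 (.one ⟨14344, 2, 9⟩) (.one ⟨7818, 2, 9⟩)) (.node 1 (.one ⟨2331, 2, 8⟩) (.one ⟨6708, 2, 11⟩))) (.node 2 (.node 1 (.one ⟨6918, 0, 8⟩) (.one ⟨1991, 0, 10⟩)) (.node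 1 (.one ⟨16820, 2, 8⟩) (.one ⟨13542, 2, 5⟩)))) (.node 4 (.node 2 (.node 1 (.one ⟨8258, 2, 9⟩) (.one ⟨7020, 0, 10⟩)) (.node 1 (.one ⟨14810, 2, 6⟩) (.one ⟨12995, 2, 3⟩))) (.node 2 (.node 1 (.one ⟨7017, 0, 7⟩) (.one ⟨7015, 0, 8⟩)) (.node 1 (.one ⟨15256, 2, 8⟩) (.one ⟨3730, 2, 6⟩)))))) (.node 16 (.node 8 (.node 4 (.node 2 (.node 1 (.one ⟨12712, 0, 7⟩) (.one ⟨4078, 1, 5⟩)) (.node 1 (.one ⟨11691, 1, 9⟩) (.one ⟨16925, 2, 9⟩))) (.node 2 (.node 1 (.one ⟨3100, 2, 7⟩) (.one ⟨2961, 2, 5⟩)) (.node 1 (.one ⟨14619, 1, 7⟩) (.one ⟨9838, 1, 3⟩)))) (.node 4 (.node 2 (.node 1 (.one ⟨17166, 0, 5⟩) (.one ⟨12150, 0, 11⟩)) (.node 1 (.one ⟨12308, 0, 7⟩) (.one ⟨8189, 1, 8⟩))) (.node 2 (.node 1 (.one ⟨10946, 0, 9⟩) (.one ⟨13823, 0, 10⟩)) (.node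 1 (.one ⟨14575, 2, 7⟩) (.one ⟨13954, 1, 5⟩))))) (.node 8 (.node 4 (.node 2 (.node 1 (.one ⟨13376, 0, 8⟩) (.one ⟨10678, 0, 6⟩)) (.node 1 (.one ⟨8335, 2, 9⟩) (.one ⟨16697, 0, 3⟩))) (.node 2 (.node 1 (.one ⟨4857, 0, 7⟩) (.one ⟨846, 0, 7⟩)) (.node 1 (.one ⟨14011, 0, 6⟩) (.one ⟨968, 1, 10⟩)))) (.node 4 (.node 2 (.node 1 (.one ⟨7190, 0, 7⟩) (.one ⟨13713, 2, 7⟩)) (.node 1 (.one ⟨2355, 0, 10⟩) (.one ⟨8453, 0, 9⟩))) (.node 2 (.node 1 (.one ⟨6751, 0, 9⟩) (.one ⟨3599, 0, 10⟩)) (.node 1 (.one ⟨1383, 0, 8⟩) (.one ⟨11374, 2, 9⟩)))))))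
def par10_4_5 : Arr Par :=
  (.node 32 (.node 16 (.node 8 (.node 4 (.node 2 (.node 1 (.one ⟨7332, 1, 8⟩) (.one ⟨2986, 1, 9⟩)) (.node 1 (.one ⟨5767, 2, 9⟩) (.one ⟨6310, 0, 9⟩))) (.node 2 (.node 1 (.one ⟨3938, 2, 4⟩) (.one ⟨4701, 0, 9⟩)) (.node 1 (.one ⟨7138, 2, 9⟩) (.one ⟨14761, 0, 10⟩)))) (.node 4 (.node 2 (.node 1 (.one ⟨12332, 0, 9⟩) (.one ⟨10177, 2, 9⟩)) (.node 1 (.one ⟨8778, 0, 7⟩) (.one ⟨7027, 1, 8⟩))) (.node 2 (.node 1 (.one ⟨9081, 0, 9⟩) (.one ⟨15002, 0, 7⟩)) (.node 1 (.one ⟨14120, 2, 10⟩) (.one ⟨15223, 2, 8⟩))))) (.node 8 (.node 4 (.node 2 (.node 1 (.one ⟨7200, 1, 7⟩) (.one ⟨12327, 2, 8⟩)) (.node 1 (.one ⟨495, 2, 8⟩) (.one ⟨6621, 2, 7⟩))) (.node 2 (.node 1 (.one ⟨16197, 1, 10⟩) (.one ⟨10801, 0, 7⟩)) (.node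 1 (.one ⟨10300, 2, 10⟩) (.one ⟨8644, 0, 8⟩)))) (.node 4 (.node 2 (.node 1 (.one ⟨13954, 0, 5⟩) (.one ⟨2662, 0, 8⟩)) (.node 1 (.one ⟨8344, 1, 9⟩) (.one ⟨6960, 1, 9⟩))) (.node 2 (.node 1 (.one ⟨10127, 2, 10⟩) (.one ⟨9954, 2, 10⟩)) (.node 1 (.one ⟨14606, 0, 10⟩) (.one ⟨1150, 2, 9⟩)))))) (.node 16 (.node 8 (.node 4 (.node 2 (.node 1 (.one ⟨16822, 2, 7⟩) (.one ⟨16838, 2, 9⟩)) (.node 1 (.one ⟨2719, 1, 9⟩) (.one ⟨12516, 2, 10⟩))) (.node 2 (.node 1 (.one ⟨7017, 2, 7⟩) (.one ⟨7007, 2, 9⟩)) (.node 1 (.one ⟨12022, 0, 10⟩) (.one ⟨12471, 2, 10⟩)))) (.node 4 (.node 2 (.node 1 (.one ⟨4416, 2, 9⟩) (.one ⟨12520, 2, 7⟩)) (.node 1 (.one ⟨4432, 2, 8⟩) (.one ⟨15425, 0, 10⟩))) (.node 2 (.node 1 (.one ⟨12517, 2, 8⟩) (.one ⟨4427, 2, 9⟩))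 (.node 1 (.one ⟨12468, 2, 6⟩) (.one ⟨8635, 2, 6⟩))))) (.node 8 (.node 4 (.node 2 (.node 1 (.one ⟨3195, 2, 8⟩) (.one ⟨13854, 2, 7⟩)) (.node 1 (.one ⟨12433, 2, 9⟩) (.one ⟨4031, 1, 8⟩))) (.node 2 (.node 1 (.one ⟨5141, 1, 9⟩) (.one ⟨12285, 2, 10⟩)) (.node 1 (.one ⟨3987, 0, 7⟩) (.one ⟨2737, 0, 9⟩)))) (.node 4 (.node 2 (.node 1 (.one ⟨14809, 2, 9⟩) (.one ⟨4534, 2, 9⟩)) (.node 1 (.one ⟨3671, 2, 10⟩) (.one ⟨16053, 1, 9⟩))) (.node 2 (.node 1 (.one ⟨10980, 2, 6⟩) (.one ⟨8655, 2, 8⟩)) (.node 1 (.one ⟨8212, 1, 8⟩) (.one ⟨11245, 0, 7⟩)))))))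
def par10_4_6 : Arr Par :=
  (.node 32 (.node 16 (.node 8 (.node 4 (.node 2 (.node 1 (.one ⟨8061, 2, 5⟩) (.one ⟨12033, 2, 10⟩)) (.node 1 (.one ⟨10923, 1, 9⟩) (.one ⟨3110, 2, 10⟩))) (.node 2 (.node 1 (.one ⟨16256, 2, 11⟩) (.one ⟨3709, 2, 7⟩)) (.node 1 (.one ⟨10904, 1, 8⟩) (.one ⟨13829, 2, 7⟩)))) (.node 4 (.node 2 (.node 1 (.one ⟨3328, 0, 9⟩) (.one ⟨6751, 1, 9⟩)) (.node 1 (.one ⟨1897, 0, 10⟩) (.one ⟨1371, 2, 9⟩))) (.node 2 (.node 1 (.one ⟨6214, 2, 9⟩) (.one ⟨5076, 2, 9⟩)) (.node 1 (.one ⟨13077, 1, 9⟩) (.one ⟨12079, 2, 6⟩))))) (.node 8 (.node 4 (.node 2 (.node 1 (.one ⟨5740, 1, 9⟩) (.one ⟨2129, 2, 5⟩)) (.node 1 (.one ⟨7377, 0, 7⟩) (.one ⟨3472, 2, 8⟩))) (.node 2 (.node 1 (.one ⟨12239, 2, 8⟩) (.one ⟨16758, 1, 5⟩)) (.node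 1 (.one ⟨380, 2, 8⟩) (.one ⟨14004, 2, 6⟩)))) (.node 4 (.node 2 (.node 1 (.one ⟨7437, 2, 8⟩) (.one ⟨16209, 2, 9⟩)) (.node 1 (.one ⟨10664, 0, 8⟩) (.one ⟨9830, 0, 8⟩))) (.node 2 (.node 1 (.one ⟨8755, 1, 9⟩) (.one ⟨12288, 1, 3⟩)) (.node 1 (.one ⟨7545, 0, 9⟩) (.one ⟨13999, 2, 9⟩)))))) (.node 16 (.node 8 (.node 4 (.node 2 (.node 1 (.one ⟨5511, 1, 11⟩) (.one ⟨2567, 1, 9⟩)) (.node 1 (.one ⟨4823, 1, 11⟩) (.one ⟨11675, 2, 10⟩))) (.node 2 (.node 1 (.one ⟨8019, 2, 4⟩) (.one ⟨6886, 1, 6⟩)) (.node 1 (.one ⟨7444, 2, 5⟩) (.one ⟨7593, 2, 9⟩)))) (.node 4 (.node 2 (.node 1 (.one ⟨15653, 2, 8⟩) (.one ⟨17015, 2, 9⟩)) (.node 1 (.one ⟨4524, 0, 9⟩) (.one ⟨9187, 2, 9⟩))) (.node 2 (.node 1 (.one ⟨901, 2, 8⟩) (.one ⟨3879, 2, 5⟩)) (.node 1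 (.one ⟨4523, 0, 10⟩) (.one ⟨4932, 0, 5⟩))))) (.node 8 (.node 4 (.node 2 (.node 1 (.one ⟨5234, 2, 9⟩) (.one ⟨6794, 1, 6⟩)) (.node 1 (.one ⟨10770, 0, 8⟩) (.one ⟨7588, 1, 7⟩))) (.node 2 (.node 1 (.one ⟨8491, 2, 9⟩) (.one ⟨3992, 1, 6⟩)) (.node 1 (.one ⟨1362, 0, 8⟩) (.one ⟨1347, 2, 8⟩)))) (.node 4 (.node 2 (.node 1 (.one ⟨7050, 2, 7⟩) (.one ⟨10861, 2, 8⟩)) (.node 1 (.one ⟨873, 0, 9⟩) (.one ⟨9240, 1, 10⟩))) (.node 2 (.node 1 (.one ⟨6313, 1, 9⟩) (.one ⟨11527, 2, 11⟩)) (.node 1 (.one ⟨14341, 2, 9⟩) (.one ⟨3175, 1, 7⟩)))))))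
def par10_4_7 : Arr Par :=
  (.node 32 (.node 16 (.node 8 (.node 4 (.node 2 (.node 1 (.one ⟨13536, 1, 6⟩) (.one ⟨2606, 2, 9⟩)) (.node 1 (.one ⟨4327, 0, 10⟩) (.one ⟨4601, 2, 8⟩))) (.node 2 (.node 1 (.one ⟨10289, 2, 5⟩) (.one ⟨13475, 2, 8⟩)) (.node 1 (.one ⟨12460, 0, 10⟩) (.one ⟨2624, 2, 11⟩)))) (.node 4 (.node 2 (.node 1 (.one ⟨15209, 0, 8⟩) (.one ⟨12667, 1, 9⟩)) (.node 1 (.one ⟨16039, 0, 8⟩) (.one ⟨2965, 0, 11⟩))) (.node 2 (.node 1 (.one ⟨4636, 1, 8⟩) (.one ⟨14645, 2, 10⟩)) (.node 1 (.one ⟨16869, 2, 8⟩) (.one ⟨9635, 1, 9⟩))))) (.node 8 (.node 4 (.node 2 (.node 1 (.one ⟨12828, 1, 10⟩) (.one ⟨15840, 0, 10⟩)) (.node 1 (.one ⟨10041, 2, 12⟩) (.one ⟨4743, 1, 8⟩))) (.node 2 (.node 1 (.one ⟨414, 0, 9⟩) (.one ⟨1688, 1, 10⟩))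 (.node 1 (.one ⟨11481, 0, 11⟩) (.one ⟨8657, 1, 9⟩)))) (.node 4 (.node 2 (.node 1 (.one ⟨8272, 0, 7⟩) (.one ⟨2454, 0, 10⟩)) (.node 1 (.one ⟨1757, 1, 10⟩) (.one ⟨182, 2, 8⟩))) (.node 2 (.node 1 (.one ⟨12294, 0, 6⟩) (.one ⟨10934, 1, 9⟩)) (.node 1 (.one ⟨3104, 1, 8⟩) (.one ⟨4591, 1, 9⟩)))))) (.node 16 (.node 8 (.node 4 (.node 2 (.node 1 (.one ⟨276, 2, 6⟩) (.one ⟨528, 2, 7⟩)) (.node 1 (.one ⟨13159, 2, 10⟩) (.one ⟨7371, 0, 7⟩))) (.node 2 (.node 1 (.one ⟨243, 1, 9⟩) (.one ⟨1028, 2, 9⟩)) (.node 1 (.one ⟨13164, 2, 9⟩) (.one ⟨1821, 1, 8⟩)))) (.node 4 (.node 2 (.node 1 (.one ⟨14854, 2, 7⟩) (.one ⟨16905, 2, 7⟩)) (.node 1 (.one ⟨11429, 0, 7⟩) (.one ⟨51, 0, 8⟩))) (.node 2 (.node 1 (.one ⟨15842, 2, 9⟩) (.one ⟨14311, 2, 9⟩)) (.node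 1 (.one ⟨16332, 0, 10⟩) (.one ⟨1135, 2, 8⟩))))) (.node 8 (.node 4 (.node 2 (.node 1 (.one ⟨14154, 2, 10⟩) (.one ⟨7379, 0, 7⟩)) (.node 1 (.one ⟨16908, 2, 8⟩) (.one ⟨5477, 2, 10⟩))) (.node 2 (.node 1 (.one ⟨16888, 2, 8⟩) (.one ⟨5474, 0, 8⟩)) (.node 1 (.one ⟨14146, 2, 7⟩) (.one ⟨11617, 2, 7⟩)))) (.node 4 (.node 2 (.node 1 (.one ⟨16628, 1, 9⟩) (.one ⟨8391, 2, 7⟩)) (.node 1 (.one ⟨14198, 1, 11⟩) (.one ⟨11773, 1, 7⟩))) (.node 2 (.node 1 (.one ⟨15826, 1, 9⟩) (.one ⟨1076, 2, 5⟩)) (.node 1 (.one ⟨10446, 2, 11⟩) (.one ⟨12926, 0, 10⟩)))))))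
def par10_4_8 : Arr Par :=
  (.node 32 (.node 16 (.node 8 (.node 4 (.node 2 (.node 1 (.one ⟨12568, 2, 6⟩) (.one ⟨16357, 2, 9⟩)) (.node 1 (.one ⟨10045, 2, 11⟩) (.one ⟨16910, 2, 9⟩))) (.node 2 (.node 1 (.one ⟨16230, 0, 9⟩) (.one ⟨14709, 2, 9⟩)) (.node 1 (.one ⟨8563, 0, 6⟩) (.one ⟨11727, 0, 7⟩)))) (.node 4 (.node 2 (.node 1 (.one ⟨5820, 2, 7⟩) (.one ⟨3848, 2, 6⟩)) (.node 1 (.one ⟨1293, 0, 8⟩) (.one ⟨16639, 1, 8⟩))) (.node 2 (.node 1 (.one ⟨4713, 2, 11⟩) (.one ⟨11755, 0, 7⟩)) (.node 1 (.one ⟨7815, 1, 7⟩) (.one ⟨9317, 0, 10⟩))))) (.node 8 (.node 4 (.node 2 (.node 1 (.one ⟨7235, 2, 9⟩) (.one ⟨3539, 2, 10⟩)) (.node 1 (.one ⟨1257, 2, 9⟩) (.one ⟨1132, 1, 9⟩))) (.node 2 (.node 1 (.one ⟨13237, 2, 10⟩) (.one ⟨13660, 2, 10⟩))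 (.node 1 (.one ⟨15826, 2, 9⟩) (.one ⟨15450, 2, 6⟩)))) (.node 4 (.node 2 (.node 1 (.one ⟨7377, 2, 7⟩) (.one ⟨7538, 2, 10⟩)) (.node 1 (.one ⟨15612, 2, 8⟩) (.one ⟨10609, 1, 10⟩))) (.node 2 (.node 1 (.one ⟨165, 2, 7⟩) (.one ⟨2160, 2, 7⟩)) (.node 1 (.one ⟨10240, 2, 8⟩) (.one ⟨14022, 2, 9⟩)))))) (.node 16 (.node 8 (.node 4 (.node 2 (.node 1 (.one ⟨3317, 0, 8⟩) (.one ⟨15013, 2, 7⟩)) (.node 1 (.one ⟨8584, 1, 10⟩) (.one ⟨11559, 0, 7⟩))) (.node 2 (.node 1 (.one ⟨15114, 0, 8⟩) (.one ⟨10017, 0, 10⟩)) (.node 1 (.one ⟨14592, 0, 8⟩) (.one ⟨14342, 1, 9⟩)))) (.node 4 (.node 2 (.node 1 (.one ⟨2982, 2, 8⟩) (.one ⟨5144, 0, 9⟩)) (.node 1 (.one ⟨16836, 1, 8⟩) (.one ⟨8031, 0, 7⟩))) (.node 2 (.node 1 (.one ⟨4037, 0, 8⟩) (.one ⟨15297, 2,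 10⟩)) (.node 1 (.one ⟨9244, 1, 9⟩) (.one ⟨15543, 2, 8⟩))))) (.node 8 (.node 4 (.node 2 (.node 1 (.one ⟨11439, 2, 8⟩) (.one ⟨1871, 2, 10⟩)) (.node 1 (.one ⟨13805, 0, 10⟩) (.one ⟨4688, 1, 7⟩))) (.node 2 (.node 1 (.one ⟨15216, 2, 8⟩) (.one ⟨5687, 2, 6⟩)) (.node 1 (.one ⟨1104, 2, 8⟩) (.one ⟨8022, 2, 6⟩)))) (.node 4 (.node 2 (.node 1 (.one ⟨8269, 2, 7⟩) (.one ⟨7420, 0, 10⟩)) (.node 1 (.one ⟨14443, 2, 9⟩) (.one ⟨502, 0, 9⟩))) (.node 2 (.node 1 (.one ⟨13013, 2, 9⟩) (.one ⟨8919, 1, 9⟩)) (.node 1 (.one ⟨2739, 2, 5⟩) (.one ⟨9683, 2, 5⟩)))))))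
def par10_4_9 : Arr Par :=
  (.node 32 (.node 16 (.node 8 (.node 4 (.node 2 (.node 1 (.one ⟨503, 0, 8⟩) (.one ⟨4274, 0, 10⟩)) (.node 1 (.one ⟨15168, 2, 8⟩) (.one ⟨16443, 1, 8⟩))) (.node 2 (.node 1 (.one ⟨15218, 1, 8⟩) (.one ⟨7306, 0, 8⟩)) (.node 1 (.one ⟨15025, 2, 8⟩) (.one ⟨12543, 2, 7⟩)))) (.node 4 (.node 2 (.node 1 (.one ⟨8861, 0, 8⟩) (.one ⟨2337, 2, 9⟩)) (.node 1 (.one ⟨2790, 2, 9⟩) (.one ⟨12191, 2, 9⟩))) (.node 2 (.node 1 (.one ⟨8371, 1, 5⟩) (.one ⟨4172, 1, 3⟩)) (.node 1 (.one ⟨3045, 2, 8⟩) (.one ⟨16449, 0, 9⟩))))) (.node 8 (.node 4 (.node 2 (.node 1 (.one ⟨7184, 0, 6⟩) (.one ⟨7022, 2, 10⟩)) (.node 1 (.one ⟨14784, 0, 8⟩) (.one ⟨9345, 0, 9⟩))) (.node 2 (.node 1 (.one ⟨3936, 0, 6⟩) (.one ⟨9956, 2, 6⟩)) (.node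 1 (.one ⟨6744, 2, 7⟩) (.one ⟨14492, 2, 8⟩)))) (.node 4 (.node 2 (.node 1 (.one ⟨12757, 2, 4⟩) (.one ⟨12223, 0, 8⟩)) (.node 1 (.one ⟨15126, 2, 6⟩) (.one ⟨10843, 0, 10⟩))) (.node 2 (.node 1 (.one ⟨13557, 2, 9⟩) (.one ⟨9200, 0, 8⟩)) (.node 1 (.one ⟨15345, 2, 9⟩) (.one ⟨9414, 2, 8⟩)))))) (.node 16 (.node 8 (.node 4 (.node 2 (.node 1 (.one ⟨4101, 0, 11⟩) (.one ⟨2803, 2, 9⟩)) (.node 1 (.one ⟨11904, 0, 6⟩) (.one ⟨11003, 0, 10⟩))) (.node 2 (.node 1 (.one ⟨15240, 1, 9⟩) (.one ⟨6969, 2, 3⟩)) (.node 1 (.one ⟨8093, 2, 9⟩) (.one ⟨8752, 2, 8⟩)))) (.node 4 (.node 2 (.node 1 (.one ⟨12385, 2, 10⟩) (.one ⟨1951, 2, 10⟩)) (.node 1 (.one ⟨9680, 0, 10⟩) (.one ⟨12063, 2, 3⟩))) (.node 2 (.node 1 (.one ⟨4965, 1, 9⟩) (.one ⟨5849, 0, 9⟩))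 (.node 1 (.one ⟨1641, 2, 8⟩) (.one ⟨6395, 2, 8⟩))))) (.node 8 (.node 4 (.node 2 (.node 1 (.one ⟨4768, 2, 8⟩) (.one ⟨9134, 2, 8⟩)) (.node 1 (.one ⟨9737, 1, 9⟩) (.one ⟨2601, 2, 9⟩))) (.node 2 (.node 1 (.one ⟨8716, 2, 10⟩) (.one ⟨6352, 0, 8⟩)) (.node 1 (.one ⟨15642, 1, 9⟩) (.one ⟨11579, 2, 8⟩)))) (.node 4 (.node 2 (.node 1 (.one ⟨11580, 2, 10⟩) (.one ⟨219, 2, 9⟩)) (.node 1 (.one ⟨208, 2, 10⟩) (.one ⟨569, 1, 7⟩))) (.node 2 (.node 1 (.one ⟨9146, 0, 9⟩) (.one ⟨11581, 2, 10⟩)) (.node 1 (.one ⟨11582, 2, 10⟩) (.one ⟨12425, 2, 5⟩)))))))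
def par10_4_10 : Arr Par :=
  (.node 32 (.node 16 (.node 8 (.node 4 (.node 2 (.node 1 (.one ⟨1666, 2, 10⟩) (.one ⟨11996, 1, 9⟩)) (.node 1 (.one ⟨4636, 0, 8⟩) (.one ⟨10354, 2, 9⟩))) (.node 2 (.node 1 (.one ⟨4001, 1, 9⟩) (.one ⟨4031, 2, 8⟩)) (.node 1 (.one ⟨9481, 0, 9⟩) (.one ⟨10804, 2, 7⟩)))) (.node 4 (.node 2 (.node 1 (.one ⟨4944, 2, 8⟩) (.one ⟨13360, 0, 11⟩)) (.node 1 (.one ⟨4024, 0, 7⟩) (.one ⟨6738, 2, 8⟩))) (.node 2 (.node 1 (.one ⟨183, 0, 4⟩) (.one ⟨11206, 1, 8⟩)) (.node 1 (.one ⟨12168, 0, 10⟩) (.one ⟨15424, 2, 5⟩))))) (.node 8 (.node 4 (.node 2 (.node 1 (.one ⟨9502, 2, 10⟩) (.one ⟨8654, 1, 8⟩)) (.node 1 (.one ⟨10114, 0, 7⟩) (.one ⟨8218, 0, 10⟩))) (.node 2 (.node 1 (.one ⟨6818, 2, 10⟩) (.one ⟨12171, 0, 9⟩)) (.node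 1 (.one ⟨4281, 0, 9⟩) (.one ⟨4857, 2, 7⟩)))) (.node 4 (.node 2 (.node 1 (.one ⟨10588, 2, 8⟩) (.one ⟨7461, 2, 8⟩)) (.node 1 (.one ⟨16007, 2, 8⟩) (.one ⟨10567, 0, 9⟩))) (.node 2 (.node 1 (.one ⟨17151, 2, 7⟩) (.one ⟨4122, 2, 8⟩)) (.node 1 (.one ⟨5495, 0, 10⟩) (.one ⟨16180, 2, 6⟩)))))) (.node 16 (.node 8 (.node 4 (.node 2 (.node 1 (.one ⟨16343, 0, 7⟩) (.one ⟨6213, 2, 7⟩)) (.node 1 (.one ⟨1495, 2, 6⟩) (.one ⟨2903, 0, 6⟩))) (.node 2 (.node 1 (.one ⟨5770, 2, 8⟩) (.one ⟨11981, 2, 7⟩)) (.node 1 (.one ⟨16824, 0, 8⟩) (.one ⟨12220, 2, 8⟩)))) (.node 4 (.node 2 (.node 1 (.one ⟨125, 2, 7⟩) (.one ⟨14257, 1, 8⟩)) (.node 1 (.one ⟨15332, 0, 10⟩) (.one ⟨12221, 2, 10⟩))) (.node 2 (.node 1 (.one ⟨16779, 1, 10⟩) (.one ⟨2807, 0, 9⟩)) (.node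 1 (.one ⟨12216, 2, 10⟩) (.one ⟨4972, 1, 7⟩))))) (.node 8 (.node 4 (.node 2 (.node 1 (.one ⟨5033, 2, 9⟩) (.one ⟨14353, 0, 7⟩)) (.node 1 (.one ⟨7267, 1, 8⟩) (.one ⟨11977, 0, 8⟩))) (.node 2 (.node 1 (.one ⟨13382, 2, 9⟩) (.one ⟨16476, 2, 6⟩)) (.node 1 (.one ⟨11208, 0, 8⟩) (.one ⟨4659, 2, 8⟩)))) (.node 4 (.node 2 (.node 1 (.one ⟨6264, 0, 9⟩) (.one ⟨2773, 2, 6⟩)) (.node 1 (.one ⟨8533, 2, 10⟩) (.one ⟨13165, 1, 8⟩))) (.node 2 (.node 1 (.one ⟨15517, 2, 9⟩) (.one ⟨3450, 1, 10⟩)) (.node 1 (.one ⟨16842, 2, 5⟩) (.one ⟨13057, 2, 8⟩)))))))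
def par10_4_11 : Arr Par :=
  (.node 32 (.node 16 (.node 8 (.node 4 (.node 2 (.node 1 (.one ⟨9335, 2, 9⟩) (.one ⟨4987, 2, 8⟩)) (.node 1 (.one ⟨651, 2, 5⟩) (.one ⟨11130, 2, 7⟩))) (.node 2 (.node 1 (.one ⟨1649, 0, 8⟩) (.one ⟨3093, 2, 7⟩)) (.node 1 (.one ⟨3629, 2, 9⟩) (.one ⟨15833, 2, 8⟩)))) (.node 4 (.node 2 (.node 1 (.one ⟨1730, 1, 7⟩) (.one ⟨15832, 2, 10⟩)) (.node 1 (.one ⟨15831, 2, 7⟩) (.one ⟨792, 2, 8⟩))) (.node 2 (.node 1 (.one ⟨793, 2, 9⟩) (.one ⟨16886, 0, 10⟩)) (.node 1 (.one ⟨11238, 0, 3⟩) (.one ⟨4768, 1, 8⟩))))) (.node 8 (.node 4 (.node 2 (.node 1 (.one ⟨2133, 0, 8⟩) (.one ⟨8125, 2, 8⟩)) (.node 1 (.one ⟨8860, 2, 7⟩) (.one ⟨9852, 1, 10⟩))) (.node 2 (.node 1 (.one ⟨4258, 2, 10⟩) (.one ⟨7033, 1, 8⟩)) (.node 1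 (.one ⟨9657, 0, 10⟩) (.one ⟨16071, 2, 10⟩)))) (.node 4 (.node 2 (.node 1 (.one ⟨15398, 1, 9⟩) (.one ⟨442, 2, 7⟩)) (.node 1 (.one ⟨14427, 2, 8⟩) (.one ⟨1284, 0, 11⟩))) (.node 2 (.node 1 (.one ⟨10203, 2, 10⟩) (.one ⟨8251, 1, 10⟩)) (.node 1 (.one ⟨7678, 2, 8⟩) (.one ⟨15169, 2, 10⟩)))))) (.node 16 (.node 8 (.node 4 (.node 2 (.node 1 (.one ⟨8530, 2, 8⟩) (.one ⟨1170, 2, 7⟩)) (.node 1 (.one ⟨5776, 0, 10⟩) (.one ⟨3400, 0, 7⟩))) (.node 2 (.node 1 (.one ⟨11540, 0, 9⟩) (.one ⟨15012, 1, 9⟩)) (.node 1 (.one ⟨14604, 2, 7⟩) (.one ⟨277, 1, 5⟩)))) (.node 4 (.node 2 (.node 1 (.one ⟨2198, 2, 7⟩) (.one ⟨1401, 0, 8⟩)) (.node 1 (.one ⟨16713, 1, 4⟩) (.one ⟨2196, 0, 6⟩))) (.node 2 (.node 1 (.one ⟨11011, 0, 8⟩) (.one ⟨10432, 0, 9⟩)) (.node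 1 (.one ⟨3152, 0, 4⟩) (.one ⟨6445, 0, 7⟩))))) (.node 8 (.node 4 (.node 2 (.node 1 (.one ⟨14624, 0, 10⟩) (.one ⟨16683, 2, 9⟩)) (.node 1 (.one ⟨2849, 2, 6⟩) (.one ⟨16525, 1, 8⟩))) (.node 2 (.node 1 (.one ⟨891, 2, 6⟩) (.one ⟨7455, 1, 10⟩)) (.node 1 (.one ⟨1616, 0, 8⟩) (.one ⟨8768, 2, 9⟩)))) (.node 4 (.node 2 (.node 1 (.one ⟨13706, 2, 10⟩) (.one ⟨16152, 0, 6⟩)) (.node 1 (.one ⟨8474, 0, 10⟩) (.one ⟨15852, 0, 6⟩))) (.node 2 (.node 1 (.one ⟨8555, 0, 5⟩) (.one ⟨11914, 0, 8⟩)) (.node 1 (.one ⟨4617, 0, 7⟩) (.one ⟨4971, 2, 10⟩)))))))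
def par10_4_12 : Arr Par :=
  (.node 32 (.node 16 (.node 8 (.node 4 (.node 2 (.node 1 (.one ⟨14814, 1, 6⟩) (.one ⟨2201, 1, 9⟩)) (.node 1 (.one ⟨4586, 2, 8⟩) (.one ⟨16278, 0, 9⟩))) (.node 2 (.node 1 (.one ⟨1150, 0, 9⟩) (.one ⟨6987, 2, 6⟩)) (.node 1 (.one ⟨12991, 1, 7⟩) (.one ⟨3832, 2, 5⟩)))) (.node 4 (.node 2 (.node 1 (.one ⟨12798, 0, 9⟩) (.one ⟨12820, 0, 9⟩)) (.node 1 (.one ⟨3835, 2, 9⟩) (.one ⟨3836, 2, 9⟩))) (.node 2 (.node 1 (.one ⟨676, 2, 9⟩) (.one ⟨44, 2, 8⟩)) (.node 1 (.one ⟨16941, 0, 10⟩) (.one ⟨4189, 2, 10⟩))))) (.node 8 (.node 4 (.node 2 (.node 1 (.one ⟨15549, 1, 10⟩) (.one ⟨5830, 0, 7⟩)) (.node 1 (.one ⟨12337, 1, 9⟩) (.one ⟨14457, 0, 8⟩))) (.node 2 (.node 1 (.one ⟨10150, 1, 7⟩) (.one ⟨6962, 2, 10⟩)) (.node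 1 (.one ⟨16800, 1, 6⟩) (.one ⟨308, 0, 8⟩)))) (.node 4 (.node 2 (.node 1 (.one ⟨15848, 1, 9⟩) (.one ⟨11724, 2, 6⟩)) (.node 1 (.one ⟨5283, 1, 9⟩) (.one ⟨4968, 2, 8⟩))) (.node 2 (.node 1 (.one ⟨13018, 2, 6⟩) (.one ⟨11678, 0, 9⟩)) (.node 1 (.one ⟨7213, 1, 10⟩) (.one ⟨10713, 1, 8⟩)))))) (.node 16 (.node 8 (.node 4 (.node 2 (.node 1 (.one ⟨10444, 1, 9⟩) (.one ⟨5115, 1, 9⟩)) (.node 1 (.one ⟨16008, 2, 8⟩) (.one ⟨1505, 2, 8⟩))) (.node 2 (.node 1 (.one ⟨2844, 0, 7⟩) (.one ⟨10953, 2, 8⟩)) (.node 1 (.one ⟨3748, 2, 9⟩) (.one ⟨3532, 2, 9⟩)))) (.node 4 (.node 2 (.node 1 (.one ⟨351, 2, 11⟩) (.one ⟨2145, 1, 5⟩)) (.node 1 (.one ⟨12124, 1, 8⟩) (.one ⟨6242, 2, 10⟩))) (.node 2 (.node 1 (.one ⟨8119, 2, 10⟩) (.one ⟨15412, 1, 9⟩)) (.node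 1 (.one ⟨2347, 0, 8⟩) (.one ⟨5614, 1, 11⟩))))) (.node 8 (.node 4 (.node 2 (.node 1 (.one ⟨7054, 0, 8⟩) (.one ⟨12104, 1, 9⟩)) (.node 1 (.one ⟨4747, 0, 9⟩) (.one ⟨8985, 2, 10⟩))) (.node 2 (.node 1 (.one ⟨4338, 0, 10⟩) (.one ⟨8300, 0, 8⟩)) (.node 1 (.one ⟨247, 2, 8⟩) (.one ⟨8315, 2, 11⟩)))) (.node 4 (.node 2 (.node 1 (.one ⟨7078, 0, 8⟩) (.one ⟨15939, 0, 9⟩)) (.node 1 (.one ⟨16393, 2, 7⟩) (.one ⟨16485, 1, 9⟩))) (.node 2 (.node 1 (.one ⟨10747, 2, 7⟩) (.one ⟨16794, 1, 10⟩)) (.node 1 (.one ⟨9263, 2, 8⟩) (.one ⟨15938, 2, 4⟩)))))))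
def par10_4_13 : Arr Par :=
  (.node 32 (.node 16 (.node 8 (.node 4 (.node 2 (.node 1 (.one ⟨8746, 1, 9⟩) (.one ⟨2911, 0, 8⟩)) (.node 1 (.one ⟨1620, 0, 8⟩) (.one ⟨14652, 2, 7⟩))) (.node 2 (.node 1 (.one ⟨5010, 2, 4⟩) (.one ⟨831, 1, 9⟩)) (.node 1 (.one ⟨15139, 2, 9⟩) (.one ⟨3491, 1, 7⟩)))) (.node 4 (.node 2 (.node 1 (.one ⟨2577, 0, 8⟩) (.one ⟨5773, 0, 9⟩)) (.node 1 (.one ⟨5767, 0, 9⟩) (.one ⟨5334, 2, 6⟩))) (.node 2 (.node 1 (.one ⟨4079, 2, 8⟩) (.one ⟨915, 2, 7⟩)) (.node 1 (.one ⟨5770, 0, 8⟩) (.one ⟨3851, 0, 9⟩))))) (.node 8 (.node 4 (.node 2 (.node 1 (.one ⟨14033, 2, 7⟩) (.one ⟨4843, 0, 7⟩)) (.node 1 (.one ⟨16868, 2, 8⟩) (.one ⟨16767, 1, 10⟩))) (.node 2 (.node 1 (.one ⟨14287, 1, 10⟩) (.one ⟨16975, 1, 10⟩)) (.node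 1 (.one ⟨10568, 0, 10⟩) (.one ⟨15864, 1, 9⟩)))) (.node 4 (.node 2 (.node 1 (.one ⟨11698, 2, 6⟩) (.one ⟨15803, 2, 7⟩)) (.node 1 (.one ⟨14641, 2, 9⟩) (.one ⟨7255, 0, 8⟩))) (.node 2 (.node 1 (.one ⟨4405, 1, 8⟩) (.one ⟨11406, 0, 8⟩)) (.node 1 (.one ⟨6989, 1, 7⟩) (.one ⟨3977, 0, 8⟩)))))) (.node 16 (.node 8 (.node 4 (.node 2 (.node 1 (.one ⟨16926, 0, 9⟩) (.one ⟨15214, 2, 8⟩)) (.node 1 (.one ⟨14493, 0, 6⟩) (.one ⟨6998, 0, 10⟩))) (.node 2 (.node 1 (.one ⟨14063, 1, 8⟩) (.one ⟨7958, 0, 8⟩)) (.node 1 (.one ⟨12992, 0, 8⟩) (.one ⟨16480, 2, 8⟩)))) (.node 4 (.node 2 (.node 1 (.one ⟨7658, 0, 7⟩) (.one ⟨4976, 2, 10⟩)) (.node 1 (.one ⟨16922, 2, 10⟩) (.one ⟨15480, 0, 9⟩))) (.node 2 (.node 1 (.one ⟨8165, 0, 6⟩) (.one ⟨16951, 1, 12⟩))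 (.node 1 (.one ⟨1455, 2, 9⟩) (.one ⟨1840, 0, 8⟩))))) (.node 8 (.node 4 (.node 2 (.node 1 (.one ⟨7692, 2, 9⟩) (.one ⟨3408, 1, 8⟩)) (.node 1 (.one ⟨16360, 1, 9⟩) (.one ⟨8499, 1, 5⟩))) (.node 2 (.node 1 (.one ⟨822, 2, 8⟩) (.one ⟨249, 2, 10⟩)) (.node 1 (.one ⟨6613, 0, 7⟩) (.one ⟨4825, 0, 8⟩)))) (.node 4 (.node 2 (.node 1 (.one ⟨4801, 1, 9⟩) (.one ⟨13919, 1, 6⟩)) (.node 1 (.one ⟨1238, 2, 10⟩) (.one ⟨3882, 2, 7⟩))) (.node 2 (.node 1 (.one ⟨10392, 0, 8⟩) (.one ⟨6821, 2, 9⟩)) (.node 1 (.one ⟨8520, 2, 10⟩) (.one ⟨12621, 0, 10⟩)))))))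
def par10_4_14 : Arr Par :=
  (.node 32 (.node 16 (.node 8 (.node 4 (.node 2 (.node 1 (.one ⟨16121, 2, 9⟩) (.one ⟨7291, 2, 9⟩)) (.node 1 (.one ⟨14441, 2, 10⟩) (.one ⟨2705, 0, 8⟩))) (.node 2 (.node 1 (.one ⟨15944, 0, 6⟩) (.one ⟨8837, 1, 8⟩)) (.node 1 (.one ⟨16773, 1, 8⟩) (.one ⟨13036, 0, 8⟩)))) (.node 4 (.node 2 (.node 1 (.one ⟨2074, 2, 10⟩) (.one ⟨16608, 1, 6⟩)) (.node 1 (.one ⟨16120, 1, 9⟩) (.one ⟨13096, 1, 9⟩))) (.node 2 (.node 1 (.one ⟨11904, 1, 6⟩) (.one ⟨16323, 2, 9⟩)) (.node 1 (.one ⟨211, 2, 9⟩) (.one ⟨14282, 2, 9⟩))))) (.node 8 (.node 4 (.node 2 (.node 1 (.one ⟨8743, 1, 10⟩) (.one ⟨5188, 2, 10⟩)) (.node 1 (.one ⟨2304, 1, 3⟩) (.one ⟨14391, 1, 9⟩))) (.node 2 (.node 1 (.one ⟨8037, 2, 10⟩) (.one ⟨13017, 1, 3⟩))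 (.node 1 (.one ⟨14112, 0, 5⟩) (.one ⟨6989, 2, 7⟩)))) (.node 4 (.node 2 (.node 1 (.one ⟨10464, 0, 8⟩) (.one ⟨1030, 0, 10⟩)) (.node 1 (.one ⟨13616, 2, 8⟩) (.one ⟨15862, 2, 8⟩))) (.node 2 (.node 1 (.one ⟨11593, 2, 8⟩) (.one ⟨4917, 2, 9⟩)) (.node 1 (.one ⟨15639, 0, 6⟩) (.one ⟨16706, 1, 10⟩)))))) (.node 16 (.node 8 (.node 4 (.node 2 (.node 1 (.one ⟨17185, 1, 7⟩) (.one ⟨5122, 2, 9⟩)) (.node 1 (.one ⟨9835, 0, 10⟩) (.one ⟨5834, 1, 10⟩))) (.node 2 (.node 1 (.one ⟨6281, 1, 9⟩) (.one ⟨3343, 2, 9⟩)) (.node 1 (.one ⟨14838, 1, 8⟩) (.one ⟨3344, 2, 9⟩)))) (.node 4 (.node 2 (.node 1 (.one ⟨15611, 0, 5⟩) (.one ⟨4945, 1, 8⟩)) (.node 1 (.one ⟨8726, 1, 7⟩) (.one ⟨10486, 2, 11⟩))) (.node 2 (.node 1 (.one ⟨2470, 2, 10⟩) (.one ⟨2390, 2,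 9⟩)) (.node 1 (.one ⟨10438, 2, 7⟩) (.one ⟨17033, 1, 9⟩))))) (.node 8 (.node 4 (.node 2 (.node 1 (.one ⟨3124, 0, 8⟩) (.one ⟨10830, 0, 7⟩)) (.node 1 (.one ⟨10467, 0, 8⟩) (.one ⟨16937, 1, 10⟩))) (.node 2 (.node 1 (.one ⟨5282, 1, 9⟩) (.one ⟨11640, 0, 9⟩)) (.node 1 (.one ⟨13260, 0, 6⟩) (.one ⟨16979, 0, 11⟩)))) (.node 4 (.node 2 (.node 1 (.one ⟨1288, 1, 7⟩) (.one ⟨5994, 0, 10⟩)) (.node 1 (.one ⟨15961, 0, 8⟩) (.one ⟨10130, 0, 9⟩))) (.node 2 (.node 1 (.one ⟨3880, 0, 9⟩) (.one ⟨5114, 0, 8⟩)) (.node 1 (.one ⟨9040, 1, 6⟩) (.one ⟨12680, 0, 4⟩)))))))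
def par10_4_15 : Arr Par :=
  (.node 32 (.node 16 (.node 8 (.node 4 (.node 2 (.node 1 (.one ⟨6445, 2, 7⟩) (.one ⟨1293, 1, 8⟩)) (.node 1 (.one ⟨12626, 0, 9⟩) (.one ⟨4208, 2, 10⟩))) (.node 2 (.node 1 (.one ⟨1614, 0, 8⟩) (.one ⟨9043, 1, 9⟩)) (.node 1 (.one ⟨7952, 0, 7⟩) (.one ⟨2095, 1, 5⟩)))) (.node 4 (.node 2 (.node 1 (.one ⟨2916, 2, 3⟩) (.one ⟨4036, 1, 8⟩)) (.node 1 (.one ⟨1186, 1, 8⟩) (.one ⟨3180, 0, 7⟩))) (.node 2 (.node 1 (.one ⟨971, 2, 6⟩) (.one ⟨2876, 1, 7⟩)) (.node 1 (.one ⟨5508, 1, 9⟩) (.one ⟨11907, 2, 8⟩))))) (.node 8 (.node 4 (.node 2 (.node 1 (.one ⟨3208, 1, 9⟩) (.one ⟨2903, 2, 6⟩)) (.node 1 (.one ⟨12460, 1, 10⟩) (.one ⟨9776, 2, 6⟩))) (.node 2 (.node 1 (.one ⟨9028, 1, 8⟩) (.one ⟨4537, 2, 9⟩)) (.node 1 (.one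 ⟨11525, 2, 9⟩) (.one ⟨1191, 1, 2⟩)))) (.node 4 (.node 2 (.node 1 (.one ⟨16840, 1, 8⟩) (.one ⟨12639, 2, 10⟩)) (.node 1 (.one ⟨905, 2, 10⟩) (.one ⟨907, 2, 8⟩))) (.node 2 (.node 1 (.one ⟨11193, 0, 10⟩) (.one ⟨11235, 0, 8⟩)) (.node 1 (.one ⟨12640, 2, 11⟩) (.one ⟨9627, 2, 8⟩)))))) (.node 16 (.node 8 (.node 4 (.node 2 (.node 1 (.one ⟨3819, 1, 10⟩) (.one ⟨2425, 1, 7⟩)) (.node 1 (.one ⟨14660, 0, 9⟩) (.one ⟨3409, 1, 10⟩))) (.node 2 (.node 1 (.one ⟨7933, 0, 10⟩) (.one ⟨5085, 1, 9⟩)) (.node 1 (.one ⟨16300, 2, 9⟩) (.one ⟨15925, 1, 11⟩)))) (.node 4 (.node 2 (.node 1 (.one ⟨1197, 2, 8⟩) (.one ⟨12815, 0, 10⟩)) (.node 1 (.one ⟨6634, 0, 9⟩) (.one ⟨12104, 2, 9⟩))) (.node 2 (.node 1 (.one ⟨13484, 0, 10⟩) (.one ⟨5654, 1, 9⟩)) (.node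 1 (.one ⟨15225, 1, 9⟩) (.one ⟨3924, 2, 8⟩))))) (.node 8 (.node 4 (.node 2 (.node 1 (.one ⟨3755, 2, 8⟩) (.one ⟨16605, 0, 7⟩)) (.node 1 (.one ⟨3896, 0, 1⟩) (.one ⟨17086, 2, 8⟩))) (.node 2 (.node 1 (.one ⟨16517, 2, 9⟩) (.one ⟨15309, 2, 10⟩)) (.node 1 (.one ⟨15865, 0, 9⟩) (.one ⟨3707, 2, 8⟩)))) (.node 4 (.node 2 (.node 1 (.one ⟨10703, 2, 10⟩) (.one ⟨7978, 0, 10⟩)) (.node 1 (.one ⟨2575, 2, 7⟩) (.one ⟨3251, 0, 8⟩))) (.node 2 (.node 1 (.one ⟨7188, 1, 9⟩) (.one ⟨6755, 1, 6⟩)) (.node 1 (.one ⟨12561, 2, 11⟩) (.one ⟨6742, 2, 8⟩)))))))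
def par10_4 : Arr Par :=
  (.node 512 (.node 256 (.node 128 (.node 64 par10_4_0 par10_4_1) (.node 64 par10_4_2 par10_4_3)) (.node 128 (.node 64 par10_4_4 par10_4_5) (.node 64 par10_4_6 par10_4_7))) (.node 256 (.node 128 (.node 64 par10_4_8 par10_4_9) (.node 64 par10_4_10 par10_4_11)) (.node 128 (.node 64 par10_4_12 par10_4_13) (.node 64 par10_4_14 par10_4_15))))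
def par10_5_0 : Arr Par :=
  (.node 32 (.node 16 (.node 8 (.node 4 (.node 2 (.node 1 (.one ⟨13856, 2, 9⟩) (.one ⟨13803, 2, 10⟩)) (.node 1 (.one ⟨7468, 0, 8⟩) (.one ⟨14814, 2, 6⟩))) (.node 2 (.node 1 (.one ⟨5799, 2, 9⟩) (.one ⟨5732, 2, 6⟩)) (.node 1 (.one ⟨9110, 1, 8⟩) (.one ⟨16530, 1, 9⟩)))) (.node 4 (.node 2 (.node 1 (.one ⟨12548, 2, 12⟩) (.one ⟨3577, 1, 7⟩)) (.node 1 (.one ⟨15815, 2, 8⟩) (.one ⟨7737, 2, 7⟩))) (.node 2 (.node 1 (.one ⟨14268, 1, 8⟩) (.one ⟨4493, 2, 10⟩)) (.node 1 (.one ⟨9194, 2, 10⟩) (.one ⟨4942, 0, 9⟩))))) (.node 8 (.node 4 (.node 2 (.node 1 (.one ⟨5262, 2, 7⟩) (.one ⟨4938, 0, 10⟩)) (.node 1 (.one ⟨8957, 0, 6⟩) (.one ⟨3695, 2, 9⟩))) (.node 2 (.node 1 (.one ⟨345, 2, 7⟩) (.one ⟨8952, 0, 8⟩)) (.node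 1 (.one ⟨5288, 2, 8⟩) (.one ⟨11697, 2, 5⟩)))) (.node 4 (.node 2 (.node 1 (.one ⟨15821, 0, 8⟩) (.one ⟨11402, 0, 8⟩)) (.node 1 (.one ⟨16144, 2, 7⟩) (.one ⟨7744, 0, 10⟩))) (.node 2 (.node 1 (.one ⟨16889, 0, 6⟩) (.one ⟨16827, 1, 9⟩)) (.node 1 (.one ⟨3732, 2, 9⟩) (.one ⟨12365, 0, 9⟩)))))) (.node 16 (.node 8 (.node 4 (.node 2 (.node 1 (.one ⟨2798, 1, 9⟩) (.one ⟨4111, 1, 10⟩)) (.node 1 (.one ⟨12537, 1, 7⟩) (.one ⟨8586, 0, 8⟩))) (.node 2 (.node 1 (.one ⟨5138, 1, 7⟩) (.one ⟨1382, 1, 10⟩)) (.node 1 (.one ⟨9923, 1, 6⟩) (.one ⟨2456, 2, 6⟩)))) (.node 4 (.node 2 (.node 1 (.one ⟨5183, 0, 7⟩) (.one ⟨2128, 2, 6⟩)) (.node 1 (.one ⟨9639, 0, 8⟩) (.one ⟨1576, 2, 6⟩))) (.node 2 (.node 1 (.one ⟨10500, 2, 9⟩) (.one ⟨2528, 2, 7⟩)) (.node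 1 (.one ⟨9360, 0, 7⟩) (.one ⟨6029, 2, 9⟩))))) (.node 8 (.node 4 (.node 2 (.node 1 (.one ⟨12934, 2, 10⟩) (.one ⟨1710, 2, 8⟩)) (.node 1 (.one ⟨16758, 2, 5⟩) (.one ⟨5878, 2, 8⟩))) (.node 2 (.node 1 (.one ⟨13065, 2, 10⟩) (.one ⟨2193, 2, 8⟩)) (.node 1 (.one ⟨9803, 1, 8⟩) (.one ⟨1943, 1, 8⟩)))) (.node 4 (.node 2 (.node 1 (.one ⟨12336, 1, 10⟩) (.one ⟨1153, 2, 9⟩)) (.node 1 (.one ⟨15604, 0, 8⟩) (.one ⟨10107, 2, 9⟩))) (.node 2 (.node 1 (.one ⟨210, 2, 9⟩) (.one ⟨14932, 2, 7⟩)) (.node 1 (.one ⟨6807, 2, 9⟩) (.one ⟨3816, 0, 6⟩)))))))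
def par10_5_1 : Arr Par :=
  (.node 32 (.node 16 (.node 8 (.node 4 (.node 2 (.node 1 (.one ⟨1123, 0, 10⟩) (.one ⟨11300, 0, 8⟩)) (.node 1 (.one ⟨11714, 2, 7⟩) (.one ⟨13796, 1, 9⟩))) (.node 2 (.node 1 (.one ⟨10169, 1, 9⟩) (.one ⟨11748, 2, 11⟩)) (.node 1 (.one ⟨15677, 1, 10⟩) (.one ⟨9546, 2, 9⟩)))) (.node 4 (.node 2 (.node 1 (.one ⟨4710, 0, 10⟩) (.one ⟨8634, 2, 9⟩)) (.node 1 (.one ⟨7806, 2, 6⟩) (.one ⟨1742, 2, 6⟩))) (.node 2 (.node 1 (.one ⟨3103, 2, 9⟩) (.one ⟨4695, 0, 9⟩)) (.node 1 (.one ⟨15670, 2, 7⟩) (.one ⟨16725, 2, 10⟩))))) (.node 8 (.node 4 (.node 2 (.node 1 (.one ⟨4201, 2, 10⟩) (.one ⟨15180, 2, 9⟩)) (.node 1 (.one ⟨1765, 2, 10⟩) (.one ⟨8302, 1, 6⟩))) (.node 2 (.node 1 (.one ⟨15470, 2, 7⟩) (.one ⟨4444, 2, 11⟩))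 (.node 1 (.one ⟨13104, 0, 9⟩) (.one ⟨11015, 1, 10⟩)))) (.node 4 (.node 2 (.node 1 (.one ⟨15936, 1, 9⟩) (.one ⟨8412, 2, 10⟩)) (.node 1 (.one ⟨8676, 2, 6⟩) (.one ⟨17119, 0, 10⟩))) (.node 2 (.node 1 (.one ⟨3344, 1, 9⟩) (.one ⟨11705, 2, 10⟩)) (.node 1 (.one ⟨5755, 1, 10⟩) (.one ⟨4365, 2, 12⟩)))))) (.node 16 (.node 8 (.node 4 (.node 2 (.node 1 (.one ⟨2485, 2, 5⟩) (.one ⟨4980, 2, 9⟩)) (.node 1 (.one ⟨2963, 2, 11⟩) (.one ⟨17146, 2, 11⟩))) (.node 2 (.node 1 (.one ⟨15637, 2, 7⟩) (.one ⟨7026, 1, 9⟩)) (.node 1 (.one ⟨5025, 0, 10⟩) (.one ⟨7188, 2, 9⟩)))) (.node 4 (.node 2 (.node 1 (.one ⟨7088, 2, 7⟩) (.one ⟨7168, 2, 10⟩)) (.node 1 (.one ⟨7140, 2, 6⟩) (.one ⟨16105, 0, 7⟩))) (.node 2 (.node 1 (.one ⟨6260, 2, 10⟩) (.one ⟨10341,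 1, 8⟩)) (.node 1 (.one ⟨6303, 2, 9⟩) (.one ⟨15916, 1, 5⟩))))) (.node 8 (.node 4 (.node 2 (.node 1 (.one ⟨16436, 2, 10⟩) (.one ⟨428, 1, 6⟩)) (.node 1 (.one ⟨16433, 2, 8⟩) (.one ⟨621, 2, 8⟩))) (.node 2 (.node 1 (.one ⟨16437, 2, 10⟩) (.one ⟨4586, 0, 8⟩)) (.node 1 (.one ⟨16432, 2, 7⟩) (.one ⟨3605, 2, 9⟩)))) (.node 4 (.node 2 (.node 1 (.one ⟨7855, 1, 6⟩) (.one ⟨11722, 2, 8⟩)) (.node 1 (.one ⟨14019, 2, 7⟩) (.one ⟨15944, 1, 6⟩))) (.node 2 (.node 1 (.one ⟨4015, 1, 9⟩) (.one ⟨13479, 0, 9⟩)) (.node 1 (.one ⟨5935, 0, 10⟩) (.one ⟨12992, 2, 8⟩)))))))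
def par10_5_2 : Arr Par :=
  (.node 32 (.node 16 (.node 8 (.node 4 (.node 2 (.node 1 (.one ⟨6655, 0, 6⟩) (.one ⟨6661, 0, 11⟩)) (.node 1 (.one ⟨8558, 2, 7⟩) (.one ⟨2760, 2, 3⟩))) (.node 2 (.node 1 (.one ⟨16084, 2, 10⟩) (.one ⟨3826, 2, 10⟩)) (.node 1 (.one ⟨14813, 2, 9⟩) (.one ⟨7866, 1, 5⟩)))) (.node 4 (.node 2 (.node 1 (.one ⟨3528, 2, 9⟩) (.one ⟨17105, 1, 6⟩)) (.node 1 (.one ⟨7670, 1, 4⟩) (.one ⟨2182, 1, 7⟩))) (.node 2 (.node 1 (.one ⟨6179, 2, 8⟩) (.one ⟨14993, 2, 5⟩)) (.node 1 (.one ⟨1817, 1, 6⟩) (.one ⟨5412, 1, 8⟩))))) (.node 8 (.node 4 (.node 2 (.node 1 (.one ⟨7928, 0, 10⟩) (.one ⟨15657, 2, 10⟩)) (.node 1 (.one ⟨10765, 0, 8⟩) (.one ⟨6495, 0, 7⟩))) (.node 2 (.node 1 (.one ⟨17162, 1, 10⟩) (.one ⟨1739, 2, 10⟩)) (.node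 1 (.one ⟨3408, 2, 8⟩) (.one ⟨5378, 2, 7⟩)))) (.node 4 (.node 2 (.node 1 (.one ⟨16713, 2, 4⟩) (.one ⟨11143, 2, 6⟩)) (.node 1 (.one ⟨13200, 0, 9⟩) (.one ⟨16737, 0, 6⟩))) (.node 2 (.node 1 (.one ⟨14397, 1, 9⟩) (.one ⟨14467, 2, 8⟩)) (.node 1 (.one ⟨1363, 2, 9⟩) (.one ⟨11505, 2, 10⟩)))))) (.node 16 (.node 8 (.node 4 (.node 2 (.node 1 (.one ⟨15486, 0, 11⟩) (.one ⟨13978, 2, 9⟩)) (.node 1 (.one ⟨13383, 2, 8⟩) (.one ⟨10106, 2, 8⟩))) (.node 2 (.node 1 (.one ⟨7455, 0, 10⟩) (.one ⟨14562, 1, 10⟩)) (.node 1 (.one ⟨16302, 1, 9⟩) (.one ⟨7193, 0, 3⟩)))) (.node 4 (.node 2 (.node 1 (.one ⟨14984, 2, 7⟩) (.one ⟨1670, 0, 3⟩)) (.node 1 (.one ⟨4288, 1, 8⟩) (.one ⟨8411, 2, 10⟩))) (.node 2 (.node 1 (.one ⟨9458, 2, 11⟩) (.one ⟨16108, 0, 8⟩))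 (.node 1 (.one ⟨9082, 2, 6⟩) (.one ⟨5751, 1, 6⟩))))) (.node 8 (.node 4 (.node 2 (.node 1 (.one ⟨9672, 1, 8⟩) (.one ⟨5635, 2, 5⟩)) (.node 1 (.one ⟨6175, 1, 11⟩) (.one ⟨12775, 0, 11⟩))) (.node 2 (.node 1 (.one ⟨517, 0, 10⟩) (.one ⟨11315, 2, 8⟩)) (.node 1 (.one ⟨1097, 2, 9⟩) (.one ⟨13456, 2, 9⟩)))) (.node 4 (.node 2 (.node 1 (.one ⟨15481, 0, 8⟩) (.one ⟨7969, 2, 9⟩)) (.node 1 (.one ⟨13155, 1, 7⟩) (.one ⟨1946, 1, 9⟩))) (.node 2 (.node 1 (.one ⟨5406, 2, 7⟩) (.one ⟨12568, 0, 6⟩)) (.node 1 (.one ⟨16021, 2, 6⟩) (.one ⟨4223, 0, 6⟩)))))))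
def par10_5_3 : Arr Par :=
  (.node 32 (.node 16 (.node 8 (.node 4 (.node 2 (.node 1 (.one ⟨13406, 1, 11⟩) (.one ⟨3021, 2, 10⟩)) (.node 1 (.one ⟨11150, 2, 7⟩) (.one ⟨324, 1, 8⟩))) (.node 2 (.node 1 (.one ⟨2482, 1, 10⟩) (.one ⟨1988, 2, 11⟩)) (.node 1 (.one ⟨8124, 1, 9⟩) (.one ⟨1176, 2, 10⟩)))) (.node 4 (.node 2 (.node 1 (.one ⟨4771, 1, 7⟩) (.one ⟨1696, 0, 6⟩)) (.node 1 (.one ⟨9641, 0, 7⟩) (.one ⟨17154, 2, 10⟩))) (.node 2 (.node 1 (.one ⟨263, 0, 9⟩) (.one ⟨6532, 2, 8⟩)) (.node 1 (.one ⟨5016, 2, 9⟩) (.one ⟨16765, 0, 8⟩))))) (.node 8 (.node 4 (.node 2 (.node 1 (.one ⟨2941, 2, 8⟩) (.one ⟨4598, 0, 8⟩)) (.node 1 (.one ⟨6461, 1, 7⟩) (.one ⟨16495, 1, 10⟩))) (.node 2 (.node 1 (.one ⟨14630, 2, 7⟩) (.one ⟨4889, 2, 7⟩)) (.node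 1 (.one ⟨10891, 0, 5⟩) (.one ⟨13424, 2, 9⟩)))) (.node 4 (.node 2 (.node 1 (.one ⟨14657, 2, 6⟩) (.one ⟨15623, 2, 8⟩)) (.node 1 (.one ⟨7042, 0, 8⟩) (.one ⟨11024, 0, 9⟩))) (.node 2 (.node 1 (.one ⟨16466, 1, 8⟩) (.one ⟨7614, 2, 7⟩)) (.node 1 (.one ⟨12913, 1, 9⟩) (.one ⟨15735, 1, 10⟩)))))) (.node 16 (.node 8 (.node 4 (.node 2 (.node 1 (.one ⟨6702, 1, 8⟩) (.one ⟨2939, 2, 11⟩)) (.node 1 (.one ⟨1477, 2, 8⟩) (.one ⟨9076, 0, 9⟩))) (.node 2 (.node 1 (.one ⟨3810, 2, 8⟩) (.one ⟨16485, 0, 9⟩)) (.node 1 (.one ⟨169, 2, 6⟩) (.one ⟨592, 2, 9⟩)))) (.node 4 (.node 2 (.node 1 (.one ⟨37, 2, 9⟩) (.one ⟨4097, 1, 10⟩)) (.node 1 (.one ⟨586, 2, 9⟩) (.one ⟨1285, 2, 9⟩))) (.node 2 (.node 1 (.one ⟨1282, 2, 11⟩) (.one ⟨1281, 2, 8⟩)) (.node 1 (.one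 ⟨9703, 0, 10⟩) (.one ⟨16240, 1, 8⟩))))) (.node 8 (.node 4 (.node 2 (.node 1 (.one ⟨6520, 1, 8⟩) (.one ⟨15698, 2, 8⟩)) (.node 1 (.one ⟨15761, 1, 7⟩) (.one ⟨8153, 2, 3⟩))) (.node 2 (.node 1 (.one ⟨14793, 2, 9⟩) (.one ⟨13535, 1, 8⟩)) (.node 1 (.one ⟨13114, 2, 7⟩) (.one ⟨1863, 2, 7⟩)))) (.node 4 (.node 2 (.node 1 (.one ⟨16510, 2, 9⟩) (.one ⟨7230, 2, 7⟩)) (.node 1 (.one ⟨12249, 2, 10⟩) (.one ⟨16651, 2, 10⟩))) (.node 2 (.node 1 (.one ⟨6678, 0, 9⟩) (.one ⟨12065, 2, 9⟩)) (.node 1 (.one ⟨7508, 2, 9⟩) (.one ⟨574, 1, 8⟩)))))))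
def par10_5_4 : Arr Par :=
  (.node 32 (.node 16 (.node 8 (.node 4 (.node 2 (.node 1 (.one ⟨952, 1, 10⟩) (.one ⟨10320, 2, 8⟩)) (.node 1 (.one ⟨10155, 0, 6⟩) (.one ⟨8636, 0, 9⟩))) (.node 2 (.node 1 (.one ⟨13467, 1, 8⟩) (.one ⟨774, 1, 11⟩)) (.node 1 (.one ⟨166, 1, 8⟩) (.one ⟨4898, 1, 9⟩)))) (.node 4 (.node 2 (.node 1 (.one ⟨16098, 1, 9⟩) (.one ⟨3220, 2, 7⟩)) (.node 1 (.one ⟨804, 2, 9⟩) (.one ⟨4342, 1, 10⟩))) (.node 2 (.node 1 (.one ⟨4608, 0, 7⟩) (.one ⟨15955, 2, 9⟩)) (.node 1 (.one ⟨569, 0, 7⟩) (.one ⟨6193, 2, 7⟩))))) (.node 8 (.node 4 (.node 2 (.node 1 (.one ⟨7949, 2, 10⟩) (.one ⟨1668, 0, 8⟩)) (.node 1 (.one ⟨5633, 1, 8⟩) (.one ⟨978, 2, 10⟩))) (.node 2 (.node 1 (.one ⟨4357, 2, 6⟩) (.one ⟨2950, 2, 10⟩)) (.node 1 (.one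 ⟨11119, 1, 8⟩) (.one ⟨2944, 2, 8⟩)))) (.node 4 (.node 2 (.node 1 (.one ⟨4463, 1, 7⟩) (.one ⟨8421, 2, 10⟩)) (.node 1 (.one ⟨13167, 1, 9⟩) (.one ⟨6118, 0, 7⟩))) (.node 2 (.node 1 (.one ⟨5186, 1, 8⟩) (.one ⟨12734, 2, 8⟩)) (.node 1 (.one ⟨11377, 0, 6⟩) (.one ⟨3917, 1, 10⟩)))))) (.node 16 (.node 8 (.node 4 (.node 2 (.node 1 (.one ⟨12784, 1, 8⟩) (.one ⟨12155, 0, 7⟩)) (.node 1 (.one ⟨10089, 2, 10⟩) (.one ⟨2356, 0, 10⟩))) (.node 2 (.node 1 (.one ⟨13459, 2, 7⟩) (.one ⟨7469, 1, 8⟩)) (.node 1 (.one ⟨10574, 0, 10⟩) (.one ⟨13081, 1, 9⟩)))) (.node 4 (.node 2 (.node 1 (.one ⟨10583, 1, 8⟩) (.one ⟨14556, 0, 9⟩)) (.node 1 (.one ⟨8960, 0, 6⟩) (.one ⟨12499, 0, 10⟩))) (.node 2 (.node 1 (.one ⟨9984, 1, 9⟩) (.one ⟨4637, 1, 8⟩)) (.node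 1 (.one ⟨2238, 1, 8⟩) (.one ⟨16059, 1, 10⟩))))) (.node 8 (.node 4 (.node 2 (.node 1 (.one ⟨1590, 1, 8⟩) (.one ⟨15193, 1, 10⟩)) (.node 1 (.one ⟨13422, 2, 9⟩) (.one ⟨3525, 2, 10⟩))) (.node 2 (.node 1 (.one ⟨13502, 1, 10⟩) (.one ⟨8075, 1, 8⟩)) (.node 1 (.one ⟨5939, 2, 9⟩) (.one ⟨15816, 2, 6⟩)))) (.node 4 (.node 2 (.node 1 (.one ⟨11561, 2, 8⟩) (.one ⟨6687, 1, 8⟩)) (.node 1 (.one ⟨921, 2, 8⟩) (.one ⟨16978, 1, 10⟩))) (.node 2 (.node 1 (.one ⟨16267, 2, 7⟩) (.one ⟨3528, 0, 9⟩)) (.node 1 (.one ⟨15707, 1, 8⟩) (.one ⟨1238, 0, 10⟩)))))))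
def par10_5_5 : Arr Par :=
  (.node 32 (.node 16 (.node 8 (.node 4 (.node 2 (.node 1 (.one ⟨6694, 2, 9⟩) (.one ⟨10971, 2, 9⟩)) (.node 1 (.one ⟨12437, 1, 6⟩) (.one ⟨2888, 2, 8⟩))) (.node 2 (.node 1 (.one ⟨9311, 1, 9⟩) (.one ⟨12228, 1, 9⟩)) (.node 1 (.one ⟨10917, 1, 8⟩) (.one ⟨11387, 1, 10⟩)))) (.node 4 (.node 2 (.node 1 (.one ⟨6666, 1, 9⟩) (.one ⟨11106, 2, 8⟩)) (.node 1 (.one ⟨4698, 1, 7⟩) (.one ⟨16839, 0, 8⟩))) (.node 2 (.node 1 (.one ⟨9998, 2, 9⟩) (.one ⟨13615, 0, 9⟩)) (.node 1 (.one ⟨15903, 0, 7⟩) (.one ⟨12669, 0, 8⟩))))) (.node 8 (.node 4 (.node 2 (.node 1 (.one ⟨11401, 0, 8⟩) (.one ⟨3018, 2, 8⟩)) (.node 1 (.one ⟨9280, 1, 10⟩) (.one ⟨6727, 0, 5⟩))) (.node 2 (.node 1 (.one ⟨16534, 2, 7⟩) (.one ⟨6843, 2, 9⟩)) (.node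 1 (.one ⟨11402, 1, 8⟩) (.one ⟨16501, 2, 8⟩)))) (.node 4 (.node 2 (.node 1 (.one ⟨10325, 0, 8⟩) (.one ⟨9179, 0, 7⟩)) (.node 1 (.one ⟨7060, 2, 7⟩) (.one ⟨5906, 2, 5⟩))) (.node 2 (.node 1 (.one ⟨2251, 0, 10⟩) (.one ⟨16122, 1, 6⟩)) (.node 1 (.one ⟨15976, 2, 7⟩) (.one ⟨6639, 1, 9⟩)))))) (.node 16 (.node 8 (.node 4 (.node 2 (.node 1 (.one ⟨475, 1, 10⟩) (.one ⟨8416, 0, 8⟩)) (.node 1 (.one ⟨10662, 2, 7⟩) (.one ⟨8629, 2, 9⟩))) (.node 2 (.node 1 (.one ⟨3116, 2, 12⟩) (.one ⟨5359, 2, 9⟩)) (.node 1 (.one ⟨7560, 2, 6⟩) (.one ⟨1201, 2, 9⟩)))) (.node 4 (.node 2 (.node 1 (.one ⟨6368, 1, 4⟩) (.one ⟨8129, 2, 7⟩)) (.node 1 (.one ⟨12943, 2, 10⟩) (.one ⟨16190, 0, 9⟩))) (.node 2 (.node 1 (.one ⟨15259, 1, 9⟩) (.one ⟨13240, 2, 10⟩)) (.node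 1 (.one ⟨8557, 1, 7⟩) (.one ⟨161, 1, 5⟩))))) (.node 8 (.node 4 (.node 2 (.node 1 (.one ⟨8947, 1, 10⟩) (.one ⟨638, 1, 5⟩)) (.node 1 (.one ⟨10438, 0, 7⟩) (.one ⟨3495, 0, 6⟩))) (.node 2 (.node 1 (.one ⟨11243, 2, 9⟩) (.one ⟨3379, 2, 6⟩)) (.node 1 (.one ⟨14271, 0, 10⟩) (.one ⟨1247, 2, 9⟩)))) (.node 4 (.node 2 (.node 1 (.one ⟨8419, 0, 10⟩) (.one ⟨16214, 0, 10⟩)) (.node 1 (.one ⟨13555, 2, 7⟩) (.one ⟨12043, 1, 7⟩))) (.node 2 (.node 1 (.one ⟨4816, 0, 9⟩) (.one ⟨12009, 0, 8⟩)) (.node 1 (.one ⟨10977, 2, 11⟩) (.one ⟨595, 2, 10⟩)))))))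
def par10_5_6 : Arr Par :=
  (.node 32 (.node 16 (.node 8 (.node 4 (.node 2 (.node 1 (.one ⟨85, 2, 10⟩) (.one ⟨2179, 1, 8⟩)) (.node 1 (.one ⟨0, 2, 7⟩) (.one ⟨1377, 2, 9⟩))) (.node 2 (.node 1 (.one ⟨13679, 0, 8⟩) (.one ⟨9434, 1, 7⟩)) (.node 1 (.one ⟨1382, 2, 10⟩) (.one ⟨10163, 0, 10⟩)))) (.node 4 (.node 2 (.node 1 (.one ⟨11892, 0, 4⟩) (.one ⟨4920, 0, 9⟩)) (.node 1 (.one ⟨4861, 2, 9⟩) (.one ⟨2533, 0, 5⟩))) (.node 2 (.node 1 (.one ⟨4261, 0, 8⟩) (.one ⟨12831, 1, 9⟩)) (.node 1 (.one ⟨11553, 0, 9⟩) (.one ⟨7504, 0, 9⟩))))) (.node 8 (.node 4 (.node 2 (.node 1 (.one ⟨16232, 2, 9⟩) (.one ⟨10248, 2, 9⟩)) (.node 1 (.one ⟨8307, 2, 6⟩) (.one ⟨12565, 1, 8⟩))) (.node 2 (.node 1 (.one ⟨6102, 2, 7⟩) (.one ⟨4126, 2, 9⟩)) (.node 1 (.one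 ⟨13708, 2, 9⟩) (.one ⟨10039, 0, 9⟩)))) (.node 4 (.node 2 (.node 1 (.one ⟨5556, 2, 9⟩) (.one ⟨1011, 0, 8⟩)) (.node 1 (.one ⟨2875, 2, 9⟩) (.one ⟨13624, 0, 3⟩))) (.node 2 (.node 1 (.one ⟨16377, 0, 10⟩) (.one ⟨16999, 1, 9⟩)) (.node 1 (.one ⟨8189, 0, 8⟩) (.one ⟨9383, 2, 10⟩)))))) (.node 16 (.node 8 (.node 4 (.node 2 (.node 1 (.one ⟨13610, 1, 8⟩) (.one ⟨7315, 2, 9⟩)) (.node 1 (.one ⟨14636, 2, 10⟩) (.one ⟨11968, 0, 8⟩))) (.node 2 (.node 1 (.one ⟨7613, 2, 6⟩) (.one ⟨11949, 1, 7⟩)) (.node 1 (.one ⟨13191, 2, 8⟩) (.one ⟨9001, 1, 11⟩)))) (.node 4 (.node 2 (.node 1 (.one ⟨3442, 0, 7⟩) (.one ⟨6747, 2, 10⟩)) (.node 1 (.one ⟨7155, 2, 9⟩) (.one ⟨3043, 0, 11⟩))) (.node 2 (.node 1 (.one ⟨6795, 2, 9⟩) (.one ⟨119, 2, 5⟩)) (.node 1 (.one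 ⟨2460, 2, 9⟩) (.one ⟨10743, 2, 10⟩))))) (.node 8 (.node 4 (.node 2 (.node 1 (.one ⟨16927, 2, 7⟩) (.one ⟨4122, 0, 8⟩)) (.node 1 (.one ⟨6151, 2, 9⟩) (.one ⟨1705, 0, 11⟩))) (.node 2 (.node 1 (.one ⟨13679, 1, 8⟩) (.one ⟨12225, 0, 10⟩)) (.node 1 (.one ⟨14132, 1, 11⟩) (.one ⟨9762, 2, 8⟩)))) (.node 4 (.node 2 (.node 1 (.one ⟨15729, 2, 10⟩) (.one ⟨4608, 2, 7⟩)) (.node 1 (.one ⟨6592, 2, 10⟩) (.one ⟨2101, 1, 11⟩))) (.node 2 (.node 1 (.one ⟨6964, 1, 9⟩) (.one ⟨8814, 0, 9⟩)) (.node 1 (.one ⟨9531, 2, 6⟩) (.one ⟨6257, 2, 3⟩)))))))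
def par10_5_7 : Arr Par :=
  (.node 32 (.node 16 (.node 8 (.node 4 (.node 2 (.node 1 (.one ⟨15863, 1, 9⟩) (.one ⟨5101, 2, 10⟩)) (.node 1 (.one ⟨9347, 2, 9⟩) (.one ⟨3520, 1, 10⟩))) (.node 2 (.node 1 (.one ⟨13827, 2, 9⟩) (.one ⟨5937, 1, 11⟩)) (.node 1 (.one ⟨12899, 2, 10⟩) (.one ⟨8337, 2, 10⟩)))) (.node 4 (.node 2 (.node 1 (.one ⟨2656, 1, 8⟩) (.one ⟨1089, 2, 9⟩)) (.node 1 (.one ⟨5683, 1, 5⟩) (.one ⟨10322, 2, 8⟩))) (.node 2 (.node 1 (.one ⟨1510, 0, 8⟩) (.one ⟨10393, 1, 9⟩)) (.node 1 (.one ⟨5624, 1, 8⟩) (.one ⟨8834, 2, 2⟩))))) (.node 8 (.node 4 (.node 2 (.node 1 (.one ⟨5583, 0, 3⟩) (.one ⟨5584, 0, 4⟩)) (.node 1 (.one ⟨6269, 2, 8⟩) (.one ⟨16929, 2, 7⟩))) (.node 2 (.node 1 (.one ⟨12654, 2, 8⟩) (.one ⟨5590, 0, 10⟩)) (.node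 1 (.one ⟨5588, 0, 9⟩) (.one ⟨6593, 2, 7⟩)))) (.node 4 (.node 2 (.node 1 (.one ⟨406, 2, 9⟩) (.one ⟨13810, 0, 11⟩)) (.node 1 (.one ⟨12108, 2, 10⟩) (.one ⟨14998, 0, 9⟩))) (.node 2 (.node 1 (.one ⟨8349, 2, 12⟩) (.one ⟨11168, 2, 10⟩)) (.node 1 (.one ⟨13776, 1, 9⟩) (.one ⟨8310, 2, 6⟩)))))) (.node 16 (.node 8 (.node 4 (.node 2 (.node 1 (.one ⟨10842, 0, 9⟩) (.one ⟨2378, 1, 10⟩)) (.node 1 (.one ⟨5389, 0, 10⟩) (.one ⟨10034, 0, 8⟩))) (.node 2 (.node 1 (.one ⟨14631, 2, 11⟩) (.one ⟨3956, 0, 10⟩)) (.node 1 (.one ⟨12533, 0, 7⟩) (.one ⟨8452, 2, 10⟩)))) (.node 4 (.node 2 (.node 1 (.one ⟨2838, 2, 10⟩) (.one ⟨9801, 1, 8⟩)) (.node 1 (.one ⟨11366, 1, 9⟩) (.one ⟨7244, 2, 7⟩))) (.node 2 (.node 1 (.one ⟨16856, 0, 9⟩) (.one ⟨10029, 0, 8⟩))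 (.node 1 (.one ⟨16453, 0, 10⟩) (.one ⟨14336, 2, 11⟩))))) (.node 8 (.node 4 (.node 2 (.node 1 (.one ⟨11532, 2, 9⟩) (.one ⟨1024, 0, 10⟩)) (.node 1 (.one ⟨13817, 2, 10⟩) (.one ⟨14074, 0, 9⟩))) (.node 2 (.node 1 (.one ⟨10637, 1, 10⟩) (.one ⟨7078, 2, 8⟩)) (.node 1 (.one ⟨1080, 2, 8⟩) (.one ⟨2077, 1, 7⟩)))) (.node 4 (.node 2 (.node 1 (.one ⟨8666, 0, 7⟩) (.one ⟨14828, 2, 8⟩)) (.node 1 (.one ⟨14806, 2, 11⟩) (.one ⟨16823, 1, 8⟩))) (.node 2 (.node 1 (.one ⟨13527, 1, 9⟩) (.one ⟨14967, 2, 10⟩)) (.node 1 (.one ⟨14979, 2, 7⟩) (.one ⟨9547, 0, 7⟩)))))))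
def par10_5_8 : Arr Par :=
  (.node 32 (.node 16 (.node 8 (.node 4 (.node 2 (.node 1 (.one ⟨13310, 2, 7⟩) (.one ⟨1226, 0, 7⟩)) (.node 1 (.one ⟨16858, 0, 9⟩) (.one ⟨5848, 1, 4⟩))) (.node 2 (.node 1 (.one ⟨2030, 1, 6⟩) (.one ⟨10424, 2, 10⟩)) (.node 1 (.one ⟨9276, 0, 10⟩) (.one ⟨8139, 2, 8⟩)))) (.node 4 (.node 2 (.node 1 (.one ⟨8154, 2, 9⟩) (.one ⟨12637, 0, 10⟩)) (.node 1 (.one ⟨8874, 0, 9⟩) (.one ⟨1161, 1, 9⟩))) (.node 2 (.node 1 (.one ⟨7919, 1, 4⟩) (.one ⟨16179, 2, 9⟩)) (.node 1 (.one ⟨11740, 1, 8⟩) (.one ⟨9125, 1, 9⟩))))) (.node 8 (.node 4 (.node 2 (.node 1 (.one ⟨5482, 0, 11⟩) (.one ⟨1799, 0, 1⟩)) (.node 1 (.one ⟨6281, 2, 9⟩) (.one ⟨3374, 2, 8⟩))) (.node 2 (.node 1 (.one ⟨14773, 2, 8⟩) (.one ⟨6423, 0, 7⟩)) (.node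 1 (.one ⟨8487, 2, 8⟩) (.one ⟨16187, 1, 10⟩)))) (.node 4 (.node 2 (.node 1 (.one ⟨4112, 0, 7⟩) (.one ⟨14827, 2, 10⟩)) (.node 1 (.one ⟨1232, 2, 9⟩) (.one ⟨4957, 0, 9⟩))) (.node 2 (.node 1 (.one ⟨16630, 1, 9⟩) (.one ⟨11226, 0, 9⟩)) (.node 1 (.one ⟨14196, 1, 9⟩) (.one ⟨11238, 1, 3⟩)))))) (.node 16 (.node 8 (.node 4 (.node 2 (.node 1 (.one ⟨5432, 0, 9⟩) (.one ⟨681, 0, 8⟩)) (.node 1 (.one ⟨9113, 0, 10⟩) (.one ⟨6291, 1, 9⟩))) (.node 2 (.node 1 (.one ⟨5538, 0, 11⟩) (.one ⟨7258, 1, 8⟩)) (.node 1 (.one ⟨9833, 1, 9⟩) (.one ⟨3428, 2, 10⟩)))) (.node 4 (.node 2 (.node 1 (.one ⟨15546, 2, 9⟩) (.one ⟨8292, 0, 8⟩)) (.node 1 (.one ⟨2865, 2, 10⟩) (.one ⟨10700, 2, 9⟩))) (.node 2 (.node 1 (.one ⟨6485, 2, 9⟩) (.one ⟨6086, 2, 9⟩)) (.node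 1 (.one ⟨9981, 1, 10⟩) (.one ⟨6367, 2, 9⟩))))) (.node 8 (.node 4 (.node 2 (.node 1 (.one ⟨10735, 2, 6⟩) (.one ⟨5552, 1, 8⟩)) (.node 1 (.one ⟨1769, 0, 10⟩) (.one ⟨2086, 2, 4⟩))) (.node 2 (.node 1 (.one ⟨13894, 2, 10⟩) (.one ⟨9415, 0, 8⟩)) (.node 1 (.one ⟨5724, 1, 10⟩) (.one ⟨12190, 1, 5⟩)))) (.node 4 (.node 2 (.node 1 (.one ⟨7771, 2, 8⟩) (.one ⟨12530, 0, 9⟩)) (.node 1 (.one ⟨13172, 0, 9⟩) (.one ⟨7071, 2, 10⟩))) (.node 2 (.node 1 (.one ⟨14482, 1, 11⟩) (.one ⟨1216, 1, 10⟩)) (.node 1 (.one ⟨2623, 2, 10⟩) (.one ⟨204, 2, 11⟩)))))))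
def par10_5_9 : Arr Par :=
  (.node 32 (.node 16 (.node 8 (.node 4 (.node 2 (.node 1 (.one ⟨7250, 2, 7⟩) (.one ⟨12109, 1, 11⟩)) (.node 1 (.one ⟨14952, 0, 9⟩) (.one ⟨7248, 2, 5⟩))) (.node 2 (.node 1 (.one ⟨10087, 1, 10⟩) (.one ⟨7254, 2, 7⟩)) (.node 1 (.one ⟨4342, 0, 10⟩) (.one ⟨8020, 1, 9⟩)))) (.node 4 (.node 2 (.node 1 (.one ⟨9138, 1, 8⟩) (.one ⟨9176, 2, 10⟩)) (.node 1 (.one ⟨3679, 1, 8⟩) (.one ⟨16391, 2, 10⟩))) (.node 2 (.node 1 (.one ⟨16395, 0, 8⟩) (.one ⟨5729, 1, 8⟩)) (.node 1 (.one ⟨5595, 2, 10⟩) (.one ⟨12921, 2, 9⟩))))) (.node 8 (.node 4 (.node 2 (.node 1 (.one ⟨10160, 2, 8⟩) (.one ⟨547, 2, 9⟩)) (.node 1 (.one ⟨4926, 2, 9⟩) (.one ⟨1919, 0, 9⟩))) (.node 2 (.node 1 (.one ⟨11697, 1, 5⟩) (.one ⟨10450, 2, 9⟩)) (.node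 1 (.one ⟨13518, 2, 10⟩) (.one ⟨14158, 1, 8⟩)))) (.node 4 (.node 2 (.node 1 (.one ⟨5870, 2, 10⟩) (.one ⟨1132, 0, 9⟩)) (.node 1 (.one ⟨14481, 0, 9⟩) (.one ⟨11110, 2, 3⟩))) (.node 2 (.node 1 (.one ⟨11687, 2, 9⟩) (.one ⟨10701, 0, 10⟩)) (.node 1 (.one ⟨6042, 0, 6⟩) (.one ⟨4965, 2, 9⟩)))))) (.node 16 (.node 8 (.node 4 (.node 2 (.node 1 (.one ⟨12080, 2, 10⟩) (.one ⟨10158, 2, 7⟩)) (.node 1 (.one ⟨12802, 0, 9⟩) (.one ⟨7659, 1, 8⟩))) (.node 2 (.node 1 (.one ⟨9817, 0, 5⟩) (.one ⟨9140, 1, 10⟩)) (.node 1 (.one ⟨2433, 0, 7⟩) (.one ⟨10967, 2, 8⟩)))) (.node 4 (.node 2 (.node 1 (.one ⟨7881, 0, 10⟩) (.one ⟨6951, 2, 7⟩)) (.node 1 (.one ⟨3954, 1, 11⟩) (.one ⟨13128, 2, 11⟩))) (.node 2 (.node 1 (.one ⟨4165, 2, 8⟩) (.one ⟨10752, 0, 10⟩))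 (.node 1 (.one ⟨3325, 0, 8⟩) (.one ⟨12592, 2, 9⟩))))) (.node 8 (.node 4 (.node 2 (.node 1 (.one ⟨15055, 1, 10⟩) (.one ⟨3014, 1, 12⟩)) (.node 1 (.one ⟨5005, 0, 10⟩) (.one ⟨16859, 2, 8⟩))) (.node 2 (.node 1 (.one ⟨8761, 2, 7⟩) (.one ⟨725, 2, 10⟩)) (.node 1 (.one ⟨5392, 0, 11⟩) (.one ⟨15266, 2, 5⟩)))) (.node 4 (.node 2 (.node 1 (.one ⟨12952, 2, 7⟩) (.one ⟨14878, 2, 8⟩)) (.node 1 (.one ⟨1998, 1, 9⟩) (.one ⟨2358, 2, 9⟩))) (.node 2 (.node 1 (.one ⟨12130, 0, 1⟩) (.one ⟨1105, 2, 7⟩)) (.node 1 (.one ⟨1219, 1, 9⟩) (.one ⟨10023, 0, 8⟩)))))))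
def par10_5_10 : Arr Par :=
  (.node 32 (.node 16 (.node 8 (.node 4 (.node 2 (.node 1 (.one ⟨10139, 1, 8⟩) (.one ⟨8474, 2, 10⟩)) (.node 1 (.one ⟨5748, 2, 8⟩) (.one ⟨6390, 2, 8⟩))) (.node 2 (.node 1 (.one ⟨8757, 2, 7⟩) (.one ⟨16428, 0, 8⟩)) (.node 1 (.one ⟨2138, 2, 4⟩) (.one ⟨16625, 2, 8⟩)))) (.node 4 (.node 2 (.node 1 (.one ⟨4847, 2, 8⟩) (.one ⟨3383, 2, 8⟩)) (.node 1 (.one ⟨15370, 2, 7⟩) (.one ⟨5136, 0, 8⟩))) (.node 2 (.node 1 (.one ⟨5142, 0, 9⟩) (.one ⟨14195, 2, 8⟩)) (.node 1 (.one ⟨5138, 0, 7⟩) (.one ⟨4742, 2, 10⟩))))) (.node 8 (.node 4 (.node 2 (.node 1 (.one ⟨2230, 2, 9⟩) (.one ⟨12664, 2, 10⟩)) (.node 1 (.one ⟨11276, 1, 10⟩) (.one ⟨5166, 2, 8⟩))) (.node 2 (.node 1 (.one ⟨6558, 0, 9⟩) (.one ⟨13107, 2, 10⟩)) (.node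 1 (.one ⟨9700, 2, 9⟩) (.one ⟨7848, 2, 9⟩)))) (.node 4 (.node 2 (.node 1 (.one ⟨2816, 2, 9⟩) (.one ⟨10401, 2, 9⟩)) (.node 1 (.one ⟨16848, 2, 10⟩) (.one ⟨6081, 1, 3⟩))) (.node 2 (.node 1 (.one ⟨5962, 0, 2⟩) (.one ⟨16521, 2, 9⟩)) (.node 1 (.one ⟨5965, 0, 9⟩) (.one ⟨4932, 1, 5⟩)))))) (.node 16 (.node 8 (.node 4 (.node 2 (.node 1 (.one ⟨14478, 2, 10⟩) (.one ⟨7324, 2, 8⟩)) (.node 1 (.one ⟨16086, 2, 9⟩) (.one ⟨10981, 2, 8⟩))) (.node 2 (.node 1 (.one ⟨13829, 1, 7⟩) (.one ⟨12113, 0, 7⟩)) (.node 1 (.one ⟨8680, 1, 10⟩) (.one ⟨11145, 0, 8⟩)))) (.node 4 (.node 2 (.node 1 (.one ⟨6053, 2, 6⟩) (.one ⟨12011, 2, 10⟩)) (.node 1 (.one ⟨5335, 1, 10⟩) (.one ⟨4065, 0, 8⟩))) (.node 2 (.node 1 (.one ⟨1867, 1, 7⟩) (.one ⟨16937, 0, 10⟩)) (.node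 1 (.one ⟨15744, 0, 10⟩) (.one ⟨1966, 2, 9⟩))))) (.node 8 (.node 4 (.node 2 (.node 1 (.one ⟨16107, 0, 9⟩) (.one ⟨10017, 2, 10⟩)) (.node 1 (.one ⟨1942, 2, 9⟩) (.one ⟨9977, 2, 7⟩))) (.node 2 (.node 1 (.one ⟨4996, 1, 7⟩) (.one ⟨15619, 0, 8⟩)) (.node 1 (.one ⟨5888, 1, 6⟩) (.one ⟨13927, 1, 9⟩)))) (.node 4 (.node 2 (.node 1 (.one ⟨11786, 2, 3⟩) (.one ⟨1519, 2, 9⟩)) (.node 1 (.one ⟨3655, 1, 9⟩) (.one ⟨15290, 2, 8⟩))) (.node 2 (.node 1 (.one ⟨15399, 2, 6⟩) (.one ⟨8102, 1, 8⟩)) (.node 1 (.one ⟨9039, 2, 4⟩) (.one ⟨723, 2, 8⟩)))))))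
def par10_5_11 : Arr Par :=
  (.node 32 (.node 16 (.node 8 (.node 4 (.node 2 (.node 1 (.one ⟨14167, 1, 9⟩) (.one ⟨5881, 2, 7⟩)) (.node 1 (.one ⟨1844, 0, 8⟩) (.one ⟨12829, 0, 10⟩))) (.node 2 (.node 1 (.one ⟨399, 2, 8⟩) (.one ⟨202, 2, 10⟩)) (.node 1 (.one ⟨5884, 2, 6⟩) (.one ⟨10800, 2, 7⟩)))) (.node 4 (.node 2 (.node 1 (.one ⟨15869, 0, 9⟩) (.one ⟨9562, 1, 10⟩)) (.node 1 (.one ⟨10318, 2, 9⟩) (.one ⟨13914, 0, 9⟩))) (.node 2 (.node 1 (.one ⟨11737, 0, 10⟩) (.one ⟨17191, 0, 9⟩)) (.node 1 (.one ⟨11314, 0, 8⟩) (.one ⟨11882, 1, 9⟩))))) (.node 8 (.node 4 (.node 2 (.node 1 (.one ⟨4188, 2, 9⟩) (.one ⟨14346, 0, 10⟩)) (.node 1 (.one ⟨1773, 2, 10⟩) (.one ⟨1829, 2, 10⟩))) (.node 2 (.node 1 (.one ⟨1983, 0, 7⟩) (.one ⟨4325, 2, 8⟩))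 (.node 1 (.one ⟨16173, 0, 9⟩) (.one ⟨2441, 2, 10⟩)))) (.node 4 (.node 2 (.node 1 (.one ⟨11342, 2, 3⟩) (.one ⟨10992, 0, 8⟩)) (.node 1 (.one ⟨8688, 0, 10⟩) (.one ⟨10472, 2, 9⟩))) (.node 2 (.node 1 (.one ⟨5930, 1, 5⟩) (.one ⟨15798, 0, 7⟩)) (.node 1 (.one ⟨10519, 2, 10⟩) (.one ⟨2823, 0, 8⟩)))))) (.node 16 (.node 8 (.node 4 (.node 2 (.node 1 (.one ⟨14545, 1, 7⟩) (.one ⟨2155, 1, 8⟩)) (.node 1 (.one ⟨9935, 2, 4⟩) (.one ⟨16171, 0, 8⟩))) (.node 2 (.node 1 (.one ⟨9521, 2, 11⟩) (.one ⟨5652, 2, 9⟩)) (.node 1 (.one ⟨13702, 2, 5⟩) (.one ⟨8913, 0, 9⟩)))) (.node 4 (.node 2 (.node 1 (.one ⟨9167, 2, 7⟩) (.one ⟨11449, 1, 7⟩)) (.node 1 (.one ⟨15363, 0, 9⟩) (.one ⟨11638, 0, 10⟩))) (.node 2 (.node 1 (.one ⟨5308, 2, 8⟩) (.one ⟨16502, 2,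 10⟩)) (.node 1 (.one ⟨1146, 0, 9⟩) (.one ⟨13599, 0, 8⟩))))) (.node 8 (.node 4 (.node 2 (.node 1 (.one ⟨3958, 1, 11⟩) (.one ⟨11182, 2, 10⟩)) (.node 1 (.one ⟨16605, 2, 7⟩) (.one ⟨1921, 1, 8⟩))) (.node 2 (.node 1 (.one ⟨4129, 1, 9⟩) (.one ⟨7006, 2, 5⟩)) (.node 1 (.one ⟨7230, 0, 7⟩) (.one ⟨13926, 0, 11⟩)))) (.node 4 (.node 2 (.node 1 (.one ⟨10545, 1, 7⟩) (.one ⟨17084, 1, 6⟩)) (.node 1 (.one ⟨17046, 1, 9⟩) (.one ⟨13965, 0, 8⟩))) (.node 2 (.node 1 (.one ⟨9557, 1, 5⟩) (.one ⟨4902, 2, 10⟩)) (.node 1 (.one ⟨17065, 2, 11⟩) (.one ⟨3849, 2, 7⟩)))))))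
def par10_5_12 : Arr Par :=
  (.node 32 (.node 16 (.node 8 (.node 4 (.node 2 (.node 1 (.one ⟨12830, 2, 5⟩) (.one ⟨14725, 2, 9⟩)) (.node 1 (.one ⟨479, 1, 7⟩) (.one ⟨16524, 1, 9⟩))) (.node 2 (.node 1 (.one ⟨3266, 0, 5⟩) (.one ⟨11180, 2, 5⟩)) (.node 1 (.one ⟨6095, 0, 6⟩) (.one ⟨5409, 2, 8⟩)))) (.node 4 (.node 2 (.node 1 (.one ⟨7203, 2, 9⟩) (.one ⟨16493, 2, 9⟩)) (.node 1 (.one ⟨11048, 2, 8⟩) (.one ⟨9547, 1, 7⟩))) (.node 2 (.node 1 (.one ⟨13979, 1, 7⟩) (.one ⟨15690, 1, 5⟩)) (.node 1 (.one ⟨11648, 1, 9⟩) (.one ⟨6626, 2, 10⟩))))) (.node 8 (.node 4 (.node 2 (.node 1 (.one ⟨10620, 2, 6⟩) (.one ⟨8363, 2, 9⟩)) (.node 1 (.one ⟨12680, 2, 4⟩) (.one ⟨5187, 2, 10⟩))) (.node 2 (.node 1 (.one ⟨5491, 0, 7⟩) (.one ⟨13480, 0, 10⟩)) (.node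 1 (.one ⟨4070, 0, 9⟩) (.one ⟨15461, 1, 6⟩)))) (.node 4 (.node 2 (.node 1 (.one ⟨19, 2, 9⟩) (.one ⟨3999, 2, 6⟩)) (.node 1 (.one ⟨11744, 2, 8⟩) (.one ⟨9455, 2, 11⟩))) (.node 2 (.node 1 (.one ⟨2574, 2, 9⟩) (.one ⟨4074, 1, 8⟩)) (.node 1 (.one ⟨12042, 2, 10⟩) (.one ⟨2590, 2, 9⟩)))))) (.node 16 (.node 8 (.node 4 (.node 2 (.node 1 (.one ⟨12615, 2, 9⟩) (.one ⟨8491, 1, 9⟩)) (.node 1 (.one ⟨4977, 2, 9⟩) (.one ⟨1416, 1, 10⟩))) (.node 2 (.node 1 (.one ⟨6337, 0, 7⟩) (.one ⟨9075, 2, 11⟩)) (.node 1 (.one ⟨11848, 1, 9⟩) (.one ⟨9158, 0, 10⟩)))) (.node 4 (.node 2 (.node 1 (.one ⟨10400, 2, 9⟩) (.one ⟨9544, 1, 7⟩)) (.node 1 (.one ⟨16529, 2, 4⟩) (.one ⟨12053, 0, 10⟩))) (.node 2 (.node 1 (.one ⟨8847, 2, 7⟩) (.one ⟨1932, 1, 7⟩)) (.node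 1 (.one ⟨14189, 1, 9⟩) (.one ⟨14491, 2, 9⟩))))) (.node 8 (.node 4 (.node 2 (.node 1 (.one ⟨9769, 1, 10⟩) (.one ⟨14471, 2, 10⟩)) (.node 1 (.one ⟨6434, 2, 10⟩) (.one ⟨4931, 0, 8⟩))) (.node 2 (.node 1 (.one ⟨7420, 2, 10⟩) (.one ⟨15489, 2, 8⟩)) (.node 1 (.one ⟨12475, 0, 8⟩) (.one ⟨2583, 2, 8⟩)))) (.node 4 (.node 2 (.node 1 (.one ⟨8396, 0, 8⟩) (.one ⟨14071, 2, 10⟩)) (.node 1 (.one ⟨1178, 2, 10⟩) (.one ⟨14609, 2, 10⟩))) (.node 2 (.node 1 (.one ⟨15201, 0, 9⟩) (.one ⟨9661, 0, 10⟩)) (.node 1 (.one ⟨12901, 0, 10⟩) (.one ⟨1935, 1, 11⟩)))))))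
def par10_5_13 : Arr Par :=
  (.node 32 (.node 16 (.node 8 (.node 4 (.node 2 (.node 1 (.one ⟨5848, 0, 4⟩) (.one ⟨836, 2, 10⟩)) (.node 1 (.one ⟨8021, 2, 8⟩) (.one ⟨5735, 2, 9⟩))) (.node 2 (.node 1 (.one ⟨3687, 2, 9⟩) (.one ⟨16488, 2, 8⟩)) (.node 1 (.one ⟨11114, 2, 10⟩) (.one ⟨4558, 2, 9⟩)))) (.node 4 (.node 2 (.node 1 (.one ⟨5654, 2, 9⟩) (.one ⟨5649, 1, 2⟩)) (.node 1 (.one ⟨2215, 0, 1⟩) (.one ⟨8390, 1, 9⟩))) (.node 2 (.node 1 (.one ⟨6259, 0, 10⟩) (.one ⟨6262, 0, 8⟩)) (.node 1 (.one ⟨12715, 2, 8⟩) (.one ⟨15117, 1, 9⟩))))) (.node 8 (.node 4 (.node 2 (.node 1 (.one ⟨13935, 2, 7⟩) (.one ⟨5247, 0, 9⟩)) (.node 1 (.one ⟨5251, 0, 4⟩) (.one ⟨8603, 0, 7⟩))) (.node 2 (.node 1 (.one ⟨993, 2, 9⟩) (.one ⟨10855, 1, 8⟩)) (.node 1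 (.one ⟨7019, 2, 7⟩) (.one ⟨9091, 0, 8⟩)))) (.node 4 (.node 2 (.node 1 (.one ⟨1, 2, 9⟩) (.one ⟨600, 2, 8⟩)) (.node 1 (.one ⟨83, 2, 8⟩) (.one ⟨9145, 2, 9⟩))) (.node 2 (.node 1 (.one ⟨10897, 1, 11⟩) (.one ⟨9146, 2, 9⟩)) (.node 1 (.one ⟨1446, 1, 7⟩) (.one ⟨11908, 2, 9⟩)))))) (.node 16 (.node 8 (.node 4 (.node 2 (.node 1 (.one ⟨7417, 2, 11⟩) (.one ⟨2827, 1, 7⟩)) (.node 1 (.one ⟨4016, 0, 9⟩) (.one ⟨9852, 0, 10⟩))) (.node 2 (.node 1 (.one ⟨4267, 2, 9⟩) (.one ⟨6019, 1, 7⟩)) (.node 1 (.one ⟨9610, 2, 11⟩) (.one ⟨16098, 0, 9⟩)))) (.node 4 (.node 2 (.node 1 (.one ⟨16691, 0, 6⟩) (.one ⟨4435, 0, 8⟩)) (.node 1 (.one ⟨5449, 0, 9⟩) (.one ⟨8567, 2, 9⟩))) (.node 2 (.node 1 (.one ⟨15031, 1, 8⟩) (.one ⟨5602, 2, 11⟩)) (.node 1 (.one ⟨1452,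 1, 8⟩) (.one ⟨17189, 0, 5⟩))))) (.node 8 (.node 4 (.node 2 (.node 1 (.one ⟨11504, 2, 9⟩) (.one ⟨5165, 2, 8⟩)) (.node 1 (.one ⟨6933, 0, 4⟩) (.one ⟨9414, 1, 8⟩))) (.node 2 (.node 1 (.one ⟨6236, 0, 8⟩) (.one ⟨15747, 0, 7⟩)) (.node 1 (.one ⟨771, 2, 10⟩) (.one ⟨2467, 2, 12⟩)))) (.node 4 (.node 2 (.node 1 (.one ⟨14681, 2, 8⟩) (.one ⟨14256, 2, 7⟩)) (.node 1 (.one ⟨2757, 2, 10⟩) (.one ⟨15432, 2, 9⟩))) (.node 2 (.node 1 (.one ⟨1117, 2, 8⟩) (.one ⟨3155, 2, 6⟩)) (.node 1 (.one ⟨13852, 2, 11⟩) (.one ⟨15100, 1, 10⟩)))))))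
def par10_5_14 : Arr Par :=
  (.node 32 (.node 16 (.node 8 (.node 4 (.node 2 (.node 1 (.one ⟨8999, 0, 11⟩) (.one ⟨2785, 1, 9⟩)) (.node 1 (.one ⟨11850, 2, 8⟩) (.one ⟨5751, 0, 6⟩))) (.node 2 (.node 1 (.one ⟨14100, 1, 8⟩) (.one ⟨9410, 1, 10⟩)) (.node 1 (.one ⟨281, 1, 9⟩) (.one ⟨1604, 1, 8⟩)))) (.node 4 (.node 2 (.node 1 (.one ⟨412, 2, 9⟩) (.one ⟨10682, 0, 10⟩)) (.node 1 (.one ⟨5612, 2, 10⟩) (.one ⟨1445, 1, 10⟩))) (.node 2 (.node 1 (.one ⟨11204, 0, 9⟩) (.one ⟨15177, 1, 8⟩)) (.node 1 (.one ⟨11988, 0, 9⟩) (.one ⟨7260, 1, 8⟩))))) (.node 8 (.node 4 (.node 2 (.node 1 (.one ⟨956, 0, 10⟩) (.one ⟨7965, 2, 9⟩)) (.node 1 (.one ⟨15013, 0, 7⟩) (.one ⟨15348, 2, 9⟩))) (.node 2 (.node 1 (.one ⟨5272, 2, 5⟩) (.one ⟨7184, 1, 6⟩)) (.node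 1 (.one ⟨13196, 2, 5⟩) (.one ⟨6177, 2, 8⟩)))) (.node 4 (.node 2 (.node 1 (.one ⟨3546, 2, 10⟩) (.one ⟨1413, 2, 9⟩)) (.node 1 (.one ⟨2183, 0, 5⟩) (.one ⟨15794, 2, 4⟩))) (.node 2 (.node 1 (.one ⟨10200, 2, 11⟩) (.one ⟨11996, 0, 9⟩)) (.node 1 (.one ⟨13623, 2, 7⟩) (.one ⟨8816, 2, 8⟩)))))) (.node 16 (.node 8 (.node 4 (.node 2 (.node 1 (.one ⟨12375, 1, 10⟩) (.one ⟨11447, 2, 10⟩)) (.node 1 (.one ⟨16093, 2, 9⟩) (.one ⟨15873, 2, 3⟩))) (.node 2 (.node 1 (.one ⟨11332, 2, 4⟩) (.one ⟨16376, 1, 5⟩)) (.node 1 (.one ⟨14918, 0, 7⟩) (.one ⟨3228, 2, 8⟩)))) (.node 4 (.node 2 (.node 1 (.one ⟨9597, 2, 8⟩) (.one ⟨9987, 1, 8⟩)) (.node 1 (.one ⟨16536, 1, 11⟩) (.one ⟨1797, 2, 12⟩))) (.node 2 (.node 1 (.one ⟨11340, 2, 6⟩) (.one ⟨8969, 2, 7⟩))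 (.node 1 (.one ⟨15809, 2, 9⟩) (.one ⟨14499, 2, 6⟩))))) (.node 8 (.node 4 (.node 2 (.node 1 (.one ⟨4847, 0, 8⟩) (.one ⟨172, 2, 10⟩)) (.node 1 (.one ⟨9653, 2, 9⟩) (.one ⟨10335, 2, 6⟩))) (.node 2 (.node 1 (.one ⟨2342, 2, 8⟩) (.one ⟨5814, 2, 7⟩)) (.node 1 (.one ⟨13754, 2, 9⟩) (.one ⟨11631, 2, 8⟩)))) (.node 4 (.node 2 (.node 1 (.one ⟨8932, 2, 10⟩) (.one ⟨13271, 2, 9⟩)) (.node 1 (.one ⟨7803, 2, 9⟩) (.one ⟨9601, 2, 7⟩))) (.node 2 (.node 1 (.one ⟨3367, 1, 10⟩) (.one ⟨11230, 1, 7⟩)) (.node 1 (.one ⟨5636, 2, 7⟩) (.one ⟨11321, 2, 11⟩)))))))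
def par10_5_15 : Arr Par :=
  (.node 32 (.node 16 (.node 8 (.node 4 (.node 2 (.node 1 (.one ⟨9783, 1, 2⟩) (.one ⟨5649, 0, 2⟩)) (.node 1 (.one ⟨7440, 0, 11⟩) (.one ⟨6822, 0, 5⟩))) (.node 2 (.node 1 (.one ⟨779, 2, 8⟩) (.one ⟨14643, 0, 9⟩)) (.node 1 (.one ⟨14395, 0, 8⟩) (.one ⟨9217, 2, 9⟩)))) (.node 4 (.node 2 (.node 1 (.one ⟨15106, 2, 7⟩) (.one ⟨1695, 1, 9⟩)) (.node 1 (.one ⟨3044, 0, 7⟩) (.one ⟨5329, 0, 9⟩))) (.node 2 (.node 1 (.one ⟨6283, 2, 8⟩) (.one ⟨12206, 0, 9⟩)) (.node 1 (.one ⟨7387, 2, 7⟩) (.one ⟨9649, 2, 5⟩))))) (.node 8 (.node 4 (.node 2 (.node 1 (.one ⟨1424, 0, 9⟩) (.one ⟨1192, 0, 7⟩)) (.node 1 (.one ⟨13476, 0, 5⟩) (.one ⟨5391, 0, 8⟩))) (.node 2 (.node 1 (.one ⟨9331, 0, 4⟩) (.one ⟨12371, 1, 10⟩)) (.node 1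 (.one ⟨13787, 2, 6⟩) (.one ⟨147, 1, 10⟩)))) (.node 4 (.node 2 (.node 1 (.one ⟨15354, 2, 7⟩) (.one ⟨15454, 0, 4⟩)) (.node 1 (.one ⟨14771, 2, 10⟩) (.one ⟨3777, 2, 11⟩))) (.node 2 (.node 1 (.one ⟨7488, 0, 4⟩) (.one ⟨9829, 1, 9⟩)) (.node 1 (.one ⟨7413, 2, 6⟩) (.one ⟨8039, 2, 9⟩)))))) (.node 16 (.node 8 (.node 4 (.node 2 (.node 1 (.one ⟨13605, 2, 10⟩) (.one ⟨11789, 2, 9⟩)) (.node 1 (.one ⟨5895, 1, 9⟩) (.one ⟨2684, 0, 8⟩))) (.node 2 (.node 1 (.one ⟨1054, 2, 9⟩) (.one ⟨3331, 2, 9⟩)) (.node 1 (.one ⟨13960, 2, 6⟩) (.one ⟨14178, 1, 5⟩)))) (.node 4 (.node 2 (.node 1 (.one ⟨1511, 1, 9⟩) (.one ⟨11666, 1, 8⟩)) (.node 1 (.one ⟨15980, 0, 9⟩) (.one ⟨273, 0, 7⟩))) (.node 2 (.node 1 (.one ⟨5554, 0, 10⟩) (.one ⟨7318, 2, 9⟩)) (.node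 1 (.one ⟨13632, 2, 9⟩) (.one ⟨2103, 1, 8⟩))))) (.node 8 (.node 4 (.node 2 (.node 1 (.one ⟨13607, 2, 7⟩) (.one ⟨12871, 2, 10⟩)) (.node 1 (.one ⟨1249, 2, 9⟩) (.one ⟨9885, 1, 10⟩))) (.node 2 (.node 1 (.one ⟨7241, 0, 7⟩) (.one ⟨1170, 0, 7⟩)) (.node 1 (.one ⟨10124, 1, 10⟩) (.one ⟨7162, 1, 6⟩)))) (.node 4 (.node 2 (.node 1 (.one ⟨12529, 0, 10⟩) (.one ⟨14250, 1, 8⟩)) (.node 1 (.one ⟨6727, 1, 5⟩) (.one ⟨10996, 1, 3⟩))) (.node 2 (.node 1 (.one ⟨548, 0, 10⟩) (.one ⟨11761, 0, 10⟩)) (.node 1 (.one ⟨11549, 1, 8⟩) (.one ⟨36, 2, 8⟩)))))))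
def par10_5 : Arr Par :=
  (.node 512 (.node 256 (.node 128 (.node 64 par10_5_0 par10_5_1) (.node 64 par10_5_2 par10_5_3)) (.node 128 (.node 64 par10_5_4 par10_5_5) (.node 64 par10_5_6 par10_5_7))) (.node 256 (.node 128 (.node 64 par10_5_8 par10_5_9) (.node 64 par10_5_10 par10_5_11)) (.node 128 (.node 64 par10_5_12 par10_5_13) (.node 64 par10_5_14 par10_5_15))))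
def par10_6_0 : Arr Par :=
  (.node 32 (.node 16 (.node 8 (.node 4 (.node 2 (.node 1 (.one ⟨6028, 0, 10⟩) (.one ⟨587, 2, 10⟩)) (.node 1 (.one ⟨14129, 0, 10⟩) (.one ⟨9565, 2, 9⟩))) (.node 2 (.node 1 (.one ⟨11977, 1, 8⟩) (.one ⟨9561, 2, 11⟩)) (.node 1 (.one ⟨9562, 2, 10⟩) (.one ⟨2817, 2, 8⟩)))) (.node 4 (.node 2 (.node 1 (.one ⟨1730, 0, 7⟩) (.one ⟨6523, 0, 10⟩)) (.node 1 (.one ⟨6525, 0, 10⟩) (.one ⟨3288, 2, 9⟩))) (.node 2 (.node 1 (.one ⟨6803, 2, 9⟩) (.one ⟨10370, 2, 9⟩)) (.node 1 (.one ⟨6524, 0, 5⟩) (.one ⟨1682, 1, 8⟩))))) (.node 8 (.node 4 (.node 2 (.node 1 (.one ⟨14584, 2, 8⟩) (.one ⟨4774, 1, 9⟩)) (.node 1 (.one ⟨11258, 2, 10⟩) (.one ⟨17079, 2, 6⟩))) (.node 2 (.node 1 (.one ⟨4199, 0, 7⟩) (.one ⟨14145, 1, 6⟩)) (.node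 1 (.one ⟨12290, 0, 9⟩) (.one ⟨16837, 0, 4⟩)))) (.node 4 (.node 2 (.node 1 (.one ⟨10098, 2, 8⟩) (.one ⟨4334, 2, 8⟩)) (.node 1 (.one ⟨3205, 2, 9⟩) (.one ⟨1227, 2, 9⟩))) (.node 2 (.node 1 (.one ⟨4936, 2, 9⟩) (.one ⟨9291, 0, 7⟩)) (.node 1 (.one ⟨4431, 0, 9⟩) (.one ⟨13152, 2, 10⟩)))))) (.node 16 (.node 8 (.node 4 (.node 2 (.node 1 (.one ⟨9598, 2, 8⟩) (.one ⟨15365, 2, 7⟩)) (.node 1 (.one ⟨15760, 2, 9⟩) (.one ⟨1808, 2, 7⟩))) (.node 2 (.node 1 (.one ⟨5237, 2, 9⟩) (.one ⟨3444, 0, 9⟩)) (.node 1 (.one ⟨13737, 1, 7⟩) (.one ⟨12784, 2, 8⟩)))) (.node 4 (.node 2 (.node 1 (.one ⟨4156, 1, 9⟩) (.one ⟨3963, 2, 9⟩)) (.node 1 (.one ⟨723, 1, 8⟩) (.one ⟨12558, 1, 9⟩))) (.node 2 (.node 1 (.one ⟨9793, 1, 5⟩) (.one ⟨9860, 1, 6⟩)) (.node 1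 (.one ⟨12481, 1, 9⟩) (.one ⟨8518, 2, 4⟩))))) (.node 8 (.node 4 (.node 2 (.node 1 (.one ⟨6747, 1, 10⟩) (.one ⟨10636, 2, 6⟩)) (.node 1 (.one ⟨14297, 1, 9⟩) (.one ⟨15059, 1, 7⟩))) (.node 2 (.node 1 (.one ⟨15678, 0, 9⟩) (.one ⟨6480, 1, 9⟩)) (.node 1 (.one ⟨3448, 2, 10⟩) (.one ⟨12640, 0, 11⟩)))) (.node 4 (.node 2 (.node 1 (.one ⟨16216, 1, 8⟩) (.one ⟨5053, 1, 9⟩)) (.node 1 (.one ⟨14093, 2, 10⟩) (.one ⟨6814, 0, 6⟩))) (.node 2 (.node 1 (.one ⟨16461, 1, 7⟩) (.one ⟨13758, 2, 8⟩)) (.node 1 (.one ⟨10242, 2, 8⟩) (.one ⟨10956, 2, 7⟩)))))))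
def par10_6_1 : Arr Par :=
  (.node 32 (.node 16 (.node 8 (.node 4 (.node 2 (.node 1 (.one ⟨2895, 1, 9⟩) (.one ⟨5044, 2, 10⟩)) (.node 1 (.one ⟨4214, 2, 7⟩) (.one ⟨1459, 0, 7⟩))) (.node 2 (.node 1 (.one ⟨10228, 2, 8⟩) (.one ⟨12679, 0, 6⟩)) (.node 1 (.one ⟨12009, 1, 8⟩) (.one ⟨10691, 1, 6⟩)))) (.node 4 (.node 2 (.node 1 (.one ⟨8099, 2, 10⟩) (.one ⟨2391, 1, 5⟩)) (.node 1 (.one ⟨1883, 0, 9⟩) (.one ⟨2595, 1, 6⟩))) (.node 2 (.node 1 (.one ⟨1348, 2, 10⟩) (.one ⟨2188, 0, 8⟩)) (.node 1 (.one ⟨9472, 0, 10⟩) (.one ⟨303, 2, 7⟩))))) (.node 8 (.node 4 (.node 2 (.node 1 (.one ⟨16988, 1, 10⟩) (.one ⟨76, 2, 7⟩)) (.node 1 (.one ⟨11813, 2, 6⟩) (.one ⟨11808, 2, 5⟩))) (.node 2 (.node 1 (.one ⟨513, 2, 5⟩) (.one ⟨11809, 2, 9⟩)) (.node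 1 (.one ⟨4447, 0, 10⟩) (.one ⟨5976, 2, 10⟩)))) (.node 4 (.node 2 (.node 1 (.one ⟨6146, 2, 11⟩) (.one ⟨6903, 1, 10⟩)) (.node 1 (.one ⟨4758, 1, 10⟩) (.one ⟨8880, 2, 10⟩))) (.node 2 (.node 1 (.one ⟨8769, 2, 7⟩) (.one ⟨4618, 0, 9⟩)) (.node 1 (.one ⟨12803, 1, 4⟩) (.one ⟨12191, 0, 9⟩)))))) (.node 16 (.node 8 (.node 4 (.node 2 (.node 1 (.one ⟨16838, 1, 9⟩) (.one ⟨1995, 0, 8⟩)) (.node 1 (.one ⟨7007, 1, 9⟩) (.one ⟨16792, 2, 7⟩))) (.node 2 (.node 1 (.one ⟨3005, 2, 9⟩) (.one ⟨13797, 2, 7⟩)) (.node 1 (.one ⟨3617, 2, 11⟩) (.one ⟨989, 2, 9⟩)))) (.node 4 (.node 2 (.node 1 (.one ⟨11334, 2, 11⟩) (.one ⟨15874, 2, 10⟩)) (.node 1 (.one ⟨8817, 2, 8⟩) (.one ⟨3511, 1, 10⟩))) (.node 2 (.node 1 (.one ⟨16815, 2, 8⟩) (.one ⟨2725, 0, 10⟩))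 (.node 1 (.one ⟨4087, 0, 9⟩) (.one ⟨6264, 2, 9⟩))))) (.node 8 (.node 4 (.node 2 (.node 1 (.one ⟨5106, 2, 2⟩) (.one ⟨8834, 1, 2⟩)) (.node 1 (.one ⟨2567, 0, 9⟩) (.one ⟨10564, 2, 9⟩))) (.node 2 (.node 1 (.one ⟨17113, 2, 9⟩) (.one ⟨14090, 2, 7⟩)) (.node 1 (.one ⟨12976, 2, 7⟩) (.one ⟨6951, 0, 7⟩)))) (.node 4 (.node 2 (.node 1 (.one ⟨10377, 2, 8⟩) (.one ⟨14390, 2, 10⟩)) (.node 1 (.one ⟨8448, 0, 7⟩) (.one ⟨5701, 0, 8⟩))) (.node 2 (.node 1 (.one ⟨14357, 1, 6⟩) (.one ⟨2852, 2, 7⟩)) (.node 1 (.one ⟨8083, 0, 8⟩) (.one ⟨1137, 2, 9⟩)))))))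
def par10_6_2 : Arr Par :=
  (.node 32 (.node 16 (.node 8 (.node 4 (.node 2 (.node 1 (.one ⟨4164, 2, 10⟩) (.one ⟨13525, 2, 9⟩)) (.node 1 (.one ⟨12619, 0, 10⟩) (.one ⟨10845, 2, 12⟩))) (.node 2 (.node 1 (.one ⟨3936, 1, 6⟩) (.one ⟨11104, 0, 9⟩)) (.node 1 (.one ⟨2817, 1, 8⟩) (.one ⟨14714, 2, 8⟩)))) (.node 4 (.node 2 (.node 1 (.one ⟨2019, 1, 5⟩) (.one ⟨2140, 2, 8⟩)) (.node 1 (.one ⟨8102, 2, 8⟩) (.one ⟨14950, 1, 7⟩))) (.node 2 (.node 1 (.one ⟨11721, 0, 4⟩) (.one ⟨16376, 2, 5⟩)) (.node 1 (.one ⟨9505, 0, 7⟩) (.one ⟨6296, 2, 10⟩))))) (.node 8 (.node 4 (.node 2 (.node 1 (.one ⟨11690, 2, 10⟩) (.one ⟨2877, 1, 6⟩)) (.node 1 (.one ⟨8256, 0, 9⟩) (.one ⟨12121, 2, 8⟩))) (.node 2 (.node 1 (.one ⟨5576, 2, 9⟩) (.one ⟨3609, 1, 10⟩))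 (.node 1 (.one ⟨6520, 2, 8⟩) (.one ⟨15222, 1, 11⟩)))) (.node 4 (.node 2 (.node 1 (.one ⟨15809, 0, 9⟩) (.one ⟨11332, 0, 4⟩)) (.node 1 (.one ⟨15502, 1, 9⟩) (.one ⟨15822, 0, 5⟩))) (.node 2 (.node 1 (.one ⟨7774, 2, 9⟩) (.one ⟨2637, 1, 7⟩)) (.node 1 (.one ⟨9800, 1, 7⟩) (.one ⟨8952, 2, 8⟩)))))) (.node 16 (.node 8 (.node 4 (.node 2 (.node 1 (.one ⟨14344, 1, 9⟩) (.one ⟨5895, 0, 9⟩)) (.node 1 (.one ⟨14349, 1, 9⟩) (.one ⟨11394, 0, 10⟩))) (.node 2 (.node 1 (.one ⟨1067, 1, 9⟩) (.one ⟨9974, 0, 8⟩)) (.node 1 (.one ⟨15290, 0, 8⟩) (.one ⟨8627, 2, 11⟩)))) (.node 4 (.node 2 (.node 1 (.one ⟨16236, 1, 7⟩) (.one ⟨3509, 0, 8⟩)) (.node 1 (.one ⟨767, 2, 11⟩) (.one ⟨8326, 0, 7⟩))) (.node 2 (.node 1 (.one ⟨3505, 0, 10⟩) (.one ⟨8319, 0, 8⟩))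 (.node 1 (.one ⟨7182, 2, 8⟩) (.one ⟨16676, 0, 11⟩))))) (.node 8 (.node 4 (.node 2 (.node 1 (.one ⟨9254, 1, 11⟩) (.one ⟨16596, 0, 10⟩)) (.node 1 (.one ⟨2456, 1, 6⟩) (.one ⟨10916, 2, 8⟩))) (.node 2 (.node 1 (.one ⟨2150, 2, 9⟩) (.one ⟨2366, 2, 9⟩)) (.node 1 (.one ⟨11483, 2, 10⟩) (.one ⟨8657, 2, 9⟩)))) (.node 4 (.node 2 (.node 1 (.one ⟨4047, 2, 6⟩) (.one ⟨5260, 0, 9⟩)) (.node 1 (.one ⟨6251, 2, 11⟩) (.one ⟨11132, 0, 9⟩))) (.node 2 (.node 1 (.one ⟨6043, 2, 5⟩) (.one ⟨8955, 2, 7⟩)) (.node 1 (.one ⟨3875, 2, 8⟩) (.one ⟨14447, 2, 8⟩)))))))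
def par10_6_3 : Arr Par :=
  (.node 32 (.node 16 (.node 8 (.node 4 (.node 2 (.node 1 (.one ⟨8949, 2, 9⟩) (.one ⟨11933, 2, 6⟩)) (.node 1 (.one ⟨3112, 2, 9⟩) (.one ⟨441, 2, 9⟩))) (.node 2 (.node 1 (.one ⟨6468, 0, 9⟩) (.one ⟨14141, 0, 7⟩)) (.node 1 (.one ⟨15649, 2, 6⟩) (.one ⟨16593, 0, 6⟩)))) (.node 4 (.node 2 (.node 1 (.one ⟨8129, 0, 7⟩) (.one ⟨5055, 2, 5⟩)) (.node 1 (.one ⟨5061, 2, 10⟩) (.one ⟨10678, 1, 6⟩))) (.node 2 (.node 1 (.one ⟨887, 2, 7⟩) (.one ⟨5060, 2, 9⟩)) (.node 1 (.one ⟨6018, 0, 9⟩) (.one ⟨12241, 2, 10⟩))))) (.node 8 (.node 4 (.node 2 (.node 1 (.one ⟨1136, 2, 7⟩) (.one ⟨6078, 2, 8⟩)) (.node 1 (.one ⟨16196, 2, 10⟩) (.one ⟨13516, 2, 9⟩))) (.node 2 (.node 1 (.one ⟨10730, 1, 7⟩) (.one ⟨15419, 0, 9⟩)) (.node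 1 (.one ⟨4701, 1, 9⟩) (.one ⟨14888, 0, 9⟩)))) (.node 4 (.node 2 (.node 1 (.one ⟨10984, 0, 6⟩) (.one ⟨12904, 1, 7⟩)) (.node 1 (.one ⟨5336, 1, 7⟩) (.one ⟨6447, 0, 2⟩))) (.node 2 (.node 1 (.one ⟨2365, 0, 7⟩) (.one ⟨10748, 1, 9⟩)) (.node 1 (.one ⟨7277, 2, 9⟩) (.one ⟨8230, 2, 8⟩)))))) (.node 16 (.node 8 (.node 4 (.node 2 (.node 1 (.one ⟨2223, 0, 3⟩) (.one ⟨10614, 2, 8⟩)) (.node 1 (.one ⟨1344, 1, 8⟩) (.one ⟨2225, 0, 2⟩))) (.node 2 (.node 1 (.one ⟨7465, 2, 6⟩) (.one ⟨6158, 0, 6⟩)) (.node 1 (.one ⟨13448, 2, 10⟩) (.one ⟨7220, 2, 9⟩)))) (.node 4 (.node 2 (.node 1 (.one ⟨9746, 2, 10⟩) (.one ⟨15221, 2, 8⟩)) (.node 1 (.one ⟨1168, 2, 8⟩) (.one ⟨11493, 0, 10⟩))) (.node 2 (.node 1 (.one ⟨11013, 2, 10⟩) (.one ⟨14520, 2, 6⟩)) (.node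 1 (.one ⟨3419, 0, 9⟩) (.one ⟨8589, 1, 4⟩))))) (.node 8 (.node 4 (.node 2 (.node 1 (.one ⟨6397, 2, 7⟩) (.one ⟨5367, 2, 8⟩)) (.node 1 (.one ⟨11753, 2, 7⟩) (.one ⟨2585, 2, 7⟩))) (.node 2 (.node 1 (.one ⟨10960, 2, 10⟩) (.one ⟨16123, 0, 9⟩)) (.node 1 (.one ⟨6946, 0, 7⟩) (.one ⟨14960, 1, 7⟩)))) (.node 4 (.node 2 (.node 1 (.one ⟨27, 2, 9⟩) (.one ⟨1720, 2, 10⟩)) (.node 1 (.one ⟨9332, 2, 3⟩) (.one ⟨5406, 0, 7⟩))) (.node 2 (.node 1 (.one ⟨10040, 2, 10⟩) (.one ⟨2761, 0, 6⟩)) (.node 1 (.one ⟨455, 0, 8⟩) (.one ⟨6795, 1, 9⟩)))))))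
def par10_6_4 : Arr Par :=
  (.node 32 (.node 16 (.node 8 (.node 4 (.node 2 (.node 1 (.one ⟨3370, 0, 9⟩) (.one ⟨10893, 0, 7⟩)) (.node 1 (.one ⟨16583, 1, 7⟩) (.one ⟨11943, 1, 9⟩))) (.node 2 (.node 1 (.one ⟨3854, 2, 8⟩) (.one ⟨13775, 0, 9⟩)) (.node 1 (.one ⟨7779, 2, 9⟩) (.one ⟨13303, 2, 8⟩)))) (.node 4 (.node 2 (.node 1 (.one ⟨11917, 0, 8⟩) (.one ⟨1724, 2, 9⟩)) (.node 1 (.one ⟨13601, 2, 9⟩) (.one ⟨15983, 1, 8⟩))) (.node 2 (.node 1 (.one ⟨5650, 2, 10⟩) (.one ⟨16007, 0, 8⟩)) (.node 1 (.one ⟨16180, 1, 6⟩) (.one ⟨12236, 2, 8⟩))))) (.node 8 (.node 4 (.node 2 (.node 1 (.one ⟨9723, 2, 9⟩) (.one ⟨4112, 2, 7⟩)) (.node 1 (.one ⟨2017, 2, 8⟩) (.one ⟨5452, 1, 10⟩))) (.node 2 (.node 1 (.one ⟨6329, 0, 10⟩) (.one ⟨2699, 1, 9⟩)) (.node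 1 (.one ⟨4320, 0, 6⟩) (.one ⟨8941, 2, 6⟩)))) (.node 4 (.node 2 (.node 1 (.one ⟨7638, 0, 8⟩) (.one ⟨12027, 1, 10⟩)) (.node 1 (.one ⟨8958, 1, 5⟩) (.one ⟨4841, 2, 9⟩))) (.node 2 (.node 1 (.one ⟨13118, 2, 10⟩) (.one ⟨4643, 1, 8⟩)) (.node 1 (.one ⟨4322, 0, 8⟩) (.one ⟨16229, 0, 10⟩)))))) (.node 16 (.node 8 (.node 4 (.node 2 (.node 1 (.one ⟨10111, 2, 7⟩) (.one ⟨4479, 0, 8⟩)) (.node 1 (.one ⟨5432, 1, 9⟩) (.one ⟨2683, 1, 10⟩))) (.node 2 (.node 1 (.one ⟨14969, 1, 7⟩) (.one ⟨16222, 1, 8⟩)) (.node 1 (.one ⟨10128, 2, 9⟩) (.one ⟨11180, 1, 5⟩)))) (.node 4 (.node 2 (.node 1 (.one ⟨14860, 2, 9⟩) (.one ⟨15617, 1, 8⟩)) (.node 1 (.one ⟨2754, 2, 8⟩) (.one ⟨6387, 0, 8⟩))) (.node 2 (.node 1 (.one ⟨12388, 2, 6⟩) (.one ⟨15320, 2, 6⟩)) (.node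 1 (.one ⟨8326, 1, 7⟩) (.one ⟨14599, 0, 1⟩))))) (.node 8 (.node 4 (.node 2 (.node 1 (.one ⟨11022, 1, 8⟩) (.one ⟨7015, 1, 8⟩)) (.node 1 (.one ⟨2927, 0, 7⟩) (.one ⟨13906, 1, 7⟩))) (.node 2 (.node 1 (.one ⟨16399, 2, 5⟩) (.one ⟨15943, 2, 7⟩)) (.node 1 (.one ⟨9264, 2, 8⟩) (.one ⟨9175, 1, 6⟩)))) (.node 4 (.node 2 (.node 1 (.one ⟨13614, 2, 10⟩) (.one ⟨1468, 0, 9⟩)) (.node 1 (.one ⟨2252, 1, 7⟩) (.one ⟨11816, 2, 6⟩))) (.node 2 (.node 1 (.one ⟨1111, 2, 8⟩) (.one ⟨8333, 2, 6⟩)) (.node 1 (.one ⟨10307, 1, 9⟩) (.one ⟨12017, 2, 6⟩)))))))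
def par10_6_5 : Arr Par :=
  (.node 32 (.node 16 (.node 8 (.node 4 (.node 2 (.node 1 (.one ⟨11396, 1, 9⟩) (.one ⟨4457, 1, 8⟩)) (.node 1 (.one ⟨7909, 0, 7⟩) (.one ⟨15747, 2, 7⟩))) (.node 2 (.node 1 (.one ⟨11717, 2, 8⟩) (.one ⟨10686, 0, 7⟩)) (.node 1 (.one ⟨223, 2, 10⟩) (.one ⟨1442, 0, 8⟩)))) (.node 4 (.node 2 (.node 1 (.one ⟨9220, 2, 10⟩) (.one ⟨6281, 0, 9⟩)) (.node 1 (.one ⟨15999, 2, 10⟩) (.one ⟨13079, 1, 9⟩))) (.node 2 (.node 1 (.one ⟨13544, 0, 6⟩) (.one ⟨7871, 1, 10⟩)) (.node 1 (.one ⟨9177, 1, 7⟩) (.one ⟨9180, 1, 3⟩))))) (.node 8 (.node 4 (.node 2 (.node 1 (.one ⟨3925, 0, 8⟩) (.one ⟨885, 2, 9⟩)) (.node 1 (.one ⟨14277, 1, 10⟩) (.one ⟨2271, 1, 2⟩))) (.node 2 (.node 1 (.one ⟨13671, 1, 8⟩) (.one ⟨12629, 0, 8⟩)) (.node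 1 (.one ⟨5600, 1, 10⟩) (.one ⟨16013, 0, 9⟩)))) (.node 4 (.node 2 (.node 1 (.one ⟨3120, 2, 6⟩) (.one ⟨8049, 1, 4⟩)) (.node 1 (.one ⟨5398, 2, 9⟩) (.one ⟨3141, 0, 8⟩))) (.node 2 (.node 1 (.one ⟨6285, 0, 6⟩) (.one ⟨11746, 0, 8⟩)) (.node 1 (.one ⟨3895, 2, 8⟩) (.one ⟨4142, 2, 6⟩)))))) (.node 16 (.node 8 (.node 4 (.node 2 (.node 1 (.one ⟨16428, 1, 8⟩) (.one ⟨11759, 1, 9⟩)) (.node 1 (.one ⟨16111, 2, 8⟩) (.one ⟨15967, 1, 11⟩))) (.node 2 (.node 1 (.one ⟨15789, 2, 10⟩) (.one ⟨12671, 0, 9⟩)) (.node 1 (.one ⟨639, 0, 7⟩) (.one ⟨16739, 2, 9⟩)))) (.node 4 (.node 2 (.node 1 (.one ⟨1642, 2, 9⟩) (.one ⟨4158, 2, 10⟩)) (.node 1 (.one ⟨14738, 0, 9⟩) (.one ⟨14530, 2, 8⟩))) (.node 2 (.node 1 (.one ⟨5267, 2, 8⟩) (.one ⟨2311, 0, 8⟩)) (.node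 1 (.one ⟨15739, 2, 10⟩) (.one ⟨15601, 1, 11⟩))))) (.node 8 (.node 4 (.node 2 (.node 1 (.one ⟨15050, 0, 8⟩) (.one ⟨15539, 0, 9⟩)) (.node 1 (.one ⟨10382, 1, 9⟩) (.one ⟨10240, 0, 8⟩))) (.node 2 (.node 1 (.one ⟨14249, 2, 10⟩) (.one ⟨15733, 2, 7⟩)) (.node 1 (.one ⟨15770, 2, 9⟩) (.one ⟨6368, 0, 4⟩)))) (.node 4 (.node 2 (.node 1 (.one ⟨6372, 0, 7⟩) (.one ⟨5496, 1, 0⟩)) (.node 1 (.one ⟨6367, 0, 9⟩) (.one ⟨6369, 0, 9⟩))) (.node 2 (.node 1 (.one ⟨13433, 2, 4⟩) (.one ⟨17085, 2, 9⟩)) (.node 1 (.one ⟨7999, 1, 9⟩) (.one ⟨3932, 2, 8⟩)))))))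
def par10_6_6 : Arr Par :=
  (.node 32 (.node 16 (.node 8 (.node 4 (.node 2 (.node 1 (.one ⟨7050, 1, 7⟩) (.one ⟨13847, 1, 6⟩)) (.node 1 (.one ⟨6844, 0, 4⟩) (.one ⟨11034, 1, 7⟩))) (.node 2 (.node 1 (.one ⟨14407, 0, 7⟩) (.one ⟨7987, 0, 6⟩)) (.node 1 (.one ⟨1220, 2, 6⟩) (.one ⟨2870, 2, 8⟩)))) (.node 4 (.node 2 (.node 1 (.one ⟨11423, 0, 7⟩) (.one ⟨1628, 0, 7⟩)) (.node 1 (.one ⟨7952, 2, 7⟩) (.one ⟨12143, 2, 6⟩))) (.node 2 (.node 1 (.one ⟨7569, 0, 7⟩) (.one ⟨4179, 2, 7⟩)) (.node 1 (.one ⟨9589, 1, 3⟩) (.one ⟨6154, 2, 11⟩))))) (.node 8 (.node 4 (.node 2 (.node 1 (.one ⟨6172, 2, 10⟩) (.one ⟨6493, 0, 9⟩)) (.node 1 (.one ⟨14209, 2, 10⟩) (.one ⟨14250, 2, 8⟩))) (.node 2 (.node 1 (.one ⟨14205, 2, 9⟩) (.one ⟨10049, 0, 7⟩)) (.node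 1 (.one ⟨6182, 2, 8⟩) (.one ⟨1626, 2, 8⟩)))) (.node 4 (.node 2 (.node 1 (.one ⟨7542, 2, 7⟩) (.one ⟨809, 2, 8⟩)) (.node 1 (.one ⟨7487, 2, 10⟩) (.one ⟨12728, 0, 8⟩))) (.node 2 (.node 1 (.one ⟨5758, 2, 10⟩) (.one ⟨10402, 1, 9⟩)) (.node 1 (.one ⟨5929, 2, 8⟩) (.one ⟨10855, 2, 8⟩)))))) (.node 16 (.node 8 (.node 4 (.node 2 (.node 1 (.one ⟨3727, 1, 8⟩) (.one ⟨14302, 0, 9⟩)) (.node 1 (.one ⟨8258, 0, 9⟩) (.one ⟨6951, 1, 7⟩))) (.node 2 (.node 1 (.one ⟨15442, 2, 9⟩) (.one ⟨7567, 1, 8⟩)) (.node 1 (.one ⟨16541, 1, 10⟩) (.one ⟨10910, 2, 8⟩)))) (.node 4 (.node 2 (.node 1 (.one ⟨3202, 2, 9⟩) (.one ⟨12579, 2, 11⟩)) (.node 1 (.one ⟨14233, 1, 10⟩) (.one ⟨2588, 2, 9⟩))) (.node 2 (.node 1 (.one ⟨10179, 2, 8⟩) (.one ⟨4771, 2, 7⟩)) (.node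 1 (.one ⟨13272, 2, 9⟩) (.one ⟨10595, 2, 8⟩))))) (.node 8 (.node 4 (.node 2 (.node 1 (.one ⟨12799, 2, 9⟩) (.one ⟨7336, 2, 10⟩)) (.node 1 (.one ⟨11257, 0, 6⟩) (.one ⟨7883, 2, 10⟩))) (.node 2 (.node 1 (.one ⟨7222, 2, 12⟩) (.one ⟨3939, 1, 10⟩)) (.node 1 (.one ⟨12268, 0, 10⟩) (.one ⟨11679, 2, 9⟩)))) (.node 4 (.node 2 (.node 1 (.one ⟨10698, 2, 10⟩) (.one ⟨14947, 0, 7⟩)) (.node 1 (.one ⟨12280, 2, 8⟩) (.one ⟨16087, 0, 10⟩))) (.node 2 (.node 1 (.one ⟨3520, 2, 10⟩) (.one ⟨6982, 1, 7⟩)) (.node 1 (.one ⟨16289, 0, 10⟩) (.one ⟨16993, 2, 10⟩)))))))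
def par10_6_7 : Arr Par :=
  (.node 32 (.node 16 (.node 8 (.node 4 (.node 2 (.node 1 (.one ⟨6515, 1, 9⟩) (.one ⟨3780, 0, 6⟩)) (.node 1 (.one ⟨7407, 0, 10⟩) (.one ⟨4138, 0, 7⟩))) (.node 2 (.node 1 (.one ⟨13104, 2, 9⟩) (.one ⟨3000, 2, 4⟩)) (.node 1 (.one ⟨12464, 2, 9⟩) (.one ⟨8073, 2, 9⟩)))) (.node 4 (.node 2 (.node 1 (.one ⟨1048, 2, 9⟩) (.one ⟨277, 0, 5⟩)) (.node 1 (.one ⟨8075, 2, 8⟩) (.one ⟨365, 2, 9⟩))) (.node 2 (.node 1 (.one ⟨8078, 2, 6⟩) (.one ⟨8072, 2, 6⟩)) (.node 1 (.one ⟨8637, 1, 6⟩) (.one ⟨7316, 1, 9⟩))))) (.node 8 (.node 4 (.node 2 (.node 1 (.one ⟨8654, 2, 8⟩) (.one ⟨7836, 2, 9⟩)) (.node 1 (.one ⟨6476, 1, 7⟩) (.one ⟨3688, 2, 10⟩))) (.node 2 (.node 1 (.one ⟨13587, 0, 8⟩) (.one ⟨10671, 2, 6⟩)) (.node 1 (.one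 ⟨14611, 1, 9⟩) (.one ⟨14504, 2, 9⟩)))) (.node 4 (.node 2 (.node 1 (.one ⟨6098, 1, 6⟩) (.one ⟨7649, 0, 8⟩)) (.node 1 (.one ⟨13606, 2, 10⟩) (.one ⟨16733, 1, 7⟩))) (.node 2 (.node 1 (.one ⟨3807, 1, 7⟩) (.one ⟨8606, 2, 6⟩)) (.node 1 (.one ⟨13560, 2, 5⟩) (.one ⟨15671, 1, 9⟩)))))) (.node 16 (.node 8 (.node 4 (.node 2 (.node 1 (.one ⟨11973, 1, 11⟩) (.one ⟨4284, 2, 9⟩)) (.node 1 (.one ⟨4382, 2, 9⟩) (.one ⟨11482, 0, 9⟩))) (.node 2 (.node 1 (.one ⟨2837, 0, 5⟩) (.one ⟨4617, 1, 7⟩)) (.node 1 (.one ⟨2128, 0, 6⟩) (.one ⟨12905, 0, 10⟩)))) (.node 4 (.node 2 (.node 1 (.one ⟨15095, 2, 9⟩) (.one ⟨8595, 2, 8⟩)) (.node 1 (.one ⟨15166, 2, 8⟩) (.one ⟨16713, 0, 4⟩))) (.node 2 (.node 1 (.one ⟨5845, 1, 9⟩) (.one ⟨16535, 0, 8⟩)) (.node 1 (.one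 ⟨2194, 2, 6⟩) (.one ⟨13517, 2, 8⟩))))) (.node 8 (.node 4 (.node 2 (.node 1 (.one ⟨7434, 2, 9⟩) (.one ⟨10797, 2, 12⟩)) (.node 1 (.one ⟨8170, 2, 11⟩) (.one ⟨11000, 1, 9⟩))) (.node 2 (.node 1 (.one ⟨4352, 1, 8⟩) (.one ⟨1804, 0, 4⟩)) (.node 1 (.one ⟨6890, 0, 4⟩) (.one ⟨12383, 2, 8⟩)))) (.node 4 (.node 2 (.node 1 (.one ⟨14494, 2, 10⟩) (.one ⟨15819, 1, 6⟩)) (.node 1 (.one ⟨3052, 2, 8⟩) (.one ⟨4891, 1, 9⟩))) (.node 2 (.node 1 (.one ⟨8007, 2, 6⟩) (.one ⟨1641, 1, 8⟩)) (.node 1 (.one ⟨13319, 2, 9⟩) (.one ⟨9508, 2, 5⟩)))))))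
def par10_6_8 : Arr Par :=
  (.node 32 (.node 16 (.node 8 (.node 4 (.node 2 (.node 1 (.one ⟨2380, 0, 10⟩) (.one ⟨2377, 0, 8⟩)) (.node 1 (.one ⟨12973, 1, 9⟩) (.one ⟨2382, 0, 9⟩))) (.node 2 (.node 1 (.one ⟨2379, 0, 7⟩) (.one ⟨4289, 2, 10⟩)) (.node 1 (.one ⟨2375, 0, 11⟩) (.one ⟨1816, 2, 8⟩)))) (.node 4 (.node 2 (.node 1 (.one ⟨4671, 2, 6⟩) (.one ⟨515, 0, 8⟩)) (.node 1 (.one ⟨14948, 2, 8⟩) (.one ⟨15136, 2, 10⟩))) (.node 2 (.node 1 (.one ⟨15968, 2, 8⟩) (.one ⟨13148, 1, 10⟩)) (.node 1 (.one ⟨634, 2, 11⟩) (.one ⟨2463, 1, 9⟩))))) (.node 8 (.node 4 (.node 2 (.node 1 (.one ⟨15521, 1, 10⟩) (.one ⟨7060, 1, 7⟩)) (.node 1 (.one ⟨10726, 2, 8⟩) (.one ⟨1849, 2, 9⟩))) (.node 2 (.node 1 (.one ⟨10011, 1, 10⟩) (.one ⟨15551, 2, 8⟩)) (.node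 1 (.one ⟨7160, 2, 8⟩) (.one ⟨2514, 0, 11⟩)))) (.node 4 (.node 2 (.node 1 (.one ⟨2052, 1, 10⟩) (.one ⟨3686, 0, 10⟩)) (.node 1 (.one ⟨2008, 2, 10⟩) (.one ⟨1654, 1, 10⟩))) (.node 2 (.node 1 (.one ⟨9683, 0, 5⟩) (.one ⟨11030, 1, 7⟩)) (.node 1 (.one ⟨6031, 2, 9⟩) (.one ⟨2060, 2, 7⟩)))))) (.node 16 (.node 8 (.node 4 (.node 2 (.node 1 (.one ⟨10163, 1, 10⟩) (.one ⟨11054, 1, 9⟩)) (.node 1 (.one ⟨5333, 2, 8⟩) (.one ⟨17019, 2, 4⟩))) (.node 2 (.node 1 (.one ⟨972, 1, 10⟩) (.one ⟨13934, 2, 9⟩)) (.node 1 (.one ⟨12193, 1, 8⟩) (.one ⟨4605, 2, 6⟩)))) (.node 4 (.node 2 (.node 1 (.one ⟨16312, 1, 10⟩) (.one ⟨14873, 2, 9⟩)) (.node 1 (.one ⟨7710, 1, 9⟩) (.one ⟨2626, 2, 8⟩))) (.node 2 (.node 1 (.one ⟨7813, 2, 5⟩) (.one ⟨16310, 2, 10⟩)) (.node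 1 (.one ⟨9641, 2, 7⟩) (.one ⟨1022, 0, 7⟩))))) (.node 8 (.node 4 (.node 2 (.node 1 (.one ⟨6612, 0, 9⟩) (.one ⟨4187, 0, 9⟩)) (.node 1 (.one ⟨13258, 2, 7⟩) (.one ⟨5507, 2, 10⟩))) (.node 2 (.node 1 (.one ⟨5675, 2, 10⟩) (.one ⟨12088, 0, 9⟩)) (.node 1 (.one ⟨13932, 2, 9⟩) (.one ⟨16868, 0, 8⟩)))) (.node 4 (.node 2 (.node 1 (.one ⟨2069, 2, 10⟩) (.one ⟨2352, 2, 9⟩)) (.node 1 (.one ⟨3217, 1, 9⟩) (.one ⟨8822, 0, 9⟩))) (.node 2 (.node 1 (.one ⟨2499, 2, 8⟩) (.one ⟨1696, 2, 6⟩)) (.node 1 (.one ⟨3870, 1, 5⟩) (.one ⟨15347, 2, 6⟩)))))))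
def par10_6_9 : Arr Par :=
  (.node 32 (.node 16 (.node 8 (.node 4 (.node 2 (.node 1 (.one ⟨125, 0, 7⟩) (.one ⟨11156, 0, 10⟩)) (.node 1 (.one ⟨8612, 0, 8⟩) (.one ⟨17092, 0, 8⟩))) (.node 2 (.node 1 (.one ⟨3403, 0, 5⟩) (.one ⟨11223, 2, 6⟩)) (.node 1 (.one ⟨11643, 2, 8⟩) (.one ⟨5567, 0, 4⟩)))) (.node 4 (.node 2 (.node 1 (.one ⟨13720, 0, 9⟩) (.one ⟨11542, 2, 7⟩)) (.node 1 (.one ⟨15192, 0, 11⟩) (.one ⟨11128, 1, 7⟩))) (.node 2 (.node 1 (.one ⟨14412, 2, 7⟩) (.one ⟨6842, 2, 9⟩)) (.node 1 (.one ⟨3157, 0, 8⟩) (.one ⟨14461, 2, 6⟩))))) (.node 8 (.node 4 (.node 2 (.node 1 (.one ⟨9180, 0, 3⟩) (.one ⟨10052, 2, 9⟩)) (.node 1 (.one ⟨8782, 2, 7⟩) (.one ⟨10890, 1, 9⟩))) (.node 2 (.node 1 (.one ⟨16680, 1, 9⟩) (.one ⟨8652, 2, 9⟩)) (.node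 1 (.one ⟨11773, 0, 7⟩) (.one ⟨9454, 1, 3⟩)))) (.node 4 (.node 2 (.node 1 (.one ⟨6823, 1, 6⟩) (.one ⟨11666, 0, 8⟩)) (.node 1 (.one ⟨15392, 0, 10⟩) (.one ⟨6294, 0, 9⟩))) (.node 2 (.node 1 (.one ⟨1066, 2, 9⟩) (.one ⟨1067, 2, 9⟩)) (.node 1 (.one ⟨220, 1, 9⟩) (.one ⟨16003, 0, 8⟩)))))) (.node 16 (.node 8 (.node 4 (.node 2 (.node 1 (.one ⟨7471, 2, 7⟩) (.one ⟨11508, 1, 8⟩)) (.node 1 (.one ⟨15512, 2, 7⟩) (.one ⟨12425, 0, 5⟩))) (.node 2 (.node 1 (.one ⟨8718, 2, 8⟩) (.one ⟨4042, 2, 9⟩)) (.node 1 (.one ⟨8281, 0, 7⟩) (.one ⟨6809, 1, 10⟩)))) (.node 4 (.node 2 (.node 1 (.one ⟨4754, 2, 8⟩) (.one ⟨7599, 2, 9⟩)) (.node 1 (.one ⟨241, 0, 6⟩) (.one ⟨8029, 0, 11⟩))) (.node 2 (.node 1 (.one ⟨7436, 2, 10⟩) (.one ⟨2461, 2, 10⟩)) (.node 1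 (.one ⟨518, 2, 10⟩) (.one ⟨14041, 2, 6⟩))))) (.node 8 (.node 4 (.node 2 (.node 1 (.one ⟨2638, 2, 9⟩) (.one ⟨2645, 2, 11⟩)) (.node 1 (.one ⟨2996, 0, 9⟩) (.one ⟨12424, 0, 7⟩))) (.node 2 (.node 1 (.one ⟨4848, 0, 11⟩) (.one ⟨309, 2, 9⟩)) (.node 1 (.one ⟨9632, 1, 8⟩) (.one ⟨7544, 0, 8⟩)))) (.node 4 (.node 2 (.node 1 (.one ⟨175, 2, 9⟩) (.one ⟨7568, 2, 9⟩)) (.node 1 (.one ⟨7749, 2, 11⟩) (.one ⟨4564, 0, 10⟩))) (.node 2 (.node 1 (.one ⟨8045, 2, 8⟩) (.one ⟨16427, 0, 11⟩)) (.node 1 (.one ⟨1898, 2, 9⟩) (.one ⟨11017, 0, 10⟩)))))))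
def par10_6_10 : Arr Par :=
  (.node 32 (.node 16 (.node 8 (.node 4 (.node 2 (.node 1 (.one ⟨9216, 1, 7⟩) (.one ⟨5175, 2, 9⟩)) (.node 1 (.one ⟨4621, 0, 8⟩) (.one ⟨12576, 0, 9⟩))) (.node 2 (.node 1 (.one ⟨2114, 0, 11⟩) (.one ⟨14973, 1, 9⟩)) (.node 1 (.one ⟨14798, 1, 6⟩) (.one ⟨1311, 1, 9⟩)))) (.node 4 (.node 2 (.node 1 (.one ⟨9349, 2, 8⟩) (.one ⟨10402, 0, 9⟩)) (.node 1 (.one ⟨1076, 0, 5⟩) (.one ⟨11508, 0, 8⟩))) (.node 2 (.node 1 (.one ⟨5771, 2, 9⟩) (.one ⟨16962, 2, 11⟩)) (.node 1 (.one ⟨4031, 0, 8⟩) (.one ⟨15124, 2, 11⟩))))) (.node 8 (.node 4 (.node 2 (.node 1 (.one ⟨10372, 2, 7⟩) (.one ⟨14394, 2, 10⟩)) (.node 1 (.one ⟨10218, 0, 8⟩) (.one ⟨8868, 2, 8⟩))) (.node 2 (.node 1 (.one ⟨12237, 0, 10⟩) (.one ⟨3041, 1, 10⟩))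 (.node 1 (.one ⟨5233, 2, 7⟩) (.one ⟨3619, 2, 8⟩)))) (.node 4 (.node 2 (.node 1 (.one ⟨5676, 2, 10⟩) (.one ⟨7924, 0, 9⟩)) (.node 1 (.one ⟨1056, 2, 5⟩) (.one ⟨944, 1, 12⟩))) (.node 2 (.node 1 (.one ⟨11626, 0, 10⟩) (.one ⟨13082, 2, 8⟩)) (.node 1 (.one ⟨16296, 0, 5⟩) (.one ⟨14245, 2, 10⟩)))))) (.node 16 (.node 8 (.node 4 (.node 2 (.node 1 (.one ⟨15900, 1, 10⟩) (.one ⟨1447, 0, 11⟩)) (.node 1 (.one ⟨9481, 1, 9⟩) (.one ⟨12505, 2, 11⟩))) (.node 2 (.node 1 (.one ⟨6560, 2, 9⟩) (.one ⟨11688, 2, 8⟩)) (.node 1 (.one ⟨5584, 2, 4⟩) (.one ⟨3095, 2, 5⟩)))) (.node 4 (.node 2 (.node 1 (.one ⟨11151, 2, 6⟩) (.one ⟨4677, 0, 9⟩)) (.node 1 (.one ⟨12764, 0, 9⟩) (.one ⟨2064, 2, 9⟩))) (.node 2 (.node 1 (.one ⟨10136, 2, 10⟩) (.one ⟨14296, 1,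 9⟩)) (.node 1 (.one ⟨10083, 0, 7⟩) (.one ⟨3494, 0, 3⟩))))) (.node 8 (.node 4 (.node 2 (.node 1 (.one ⟨10851, 1, 7⟩) (.one ⟨2921, 1, 8⟩)) (.node 1 (.one ⟨9368, 2, 8⟩) (.one ⟨10428, 2, 9⟩))) (.node 2 (.node 1 (.one ⟨12114, 1, 9⟩) (.one ⟨10451, 2, 5⟩)) (.node 1 (.one ⟨1883, 1, 9⟩) (.one ⟨9781, 2, 9⟩)))) (.node 4 (.node 2 (.node 1 (.one ⟨5242, 1, 8⟩) (.one ⟨1841, 1, 7⟩)) (.node 1 (.one ⟨6589, 2, 8⟩) (.one ⟨2883, 1, 8⟩))) (.node 2 (.node 1 (.one ⟨13017, 2, 3⟩) (.one ⟨8023, 2, 8⟩)) (.node 1 (.one ⟨4116, 1, 8⟩) (.one ⟨9815, 0, 10⟩)))))))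
def par10_6_11 : Arr Par :=
  (.node 32 (.node 16 (.node 8 (.node 4 (.node 2 (.node 1 (.one ⟨6271, 0, 10⟩) (.one ⟨7488, 2, 4⟩)) (.node 1 (.one ⟨3862, 2, 8⟩) (.one ⟨9272, 2, 8⟩))) (.node 2 (.node 1 (.one ⟨16995, 2, 8⟩) (.one ⟨11560, 2, 7⟩)) (.node 1 (.one ⟨15980, 2, 9⟩) (.one ⟨5511, 1, 0⟩)))) (.node 4 (.node 2 (.node 1 (.one ⟨16156, 2, 5⟩) (.one ⟨10864, 2, 9⟩)) (.node 1 (.one ⟨15115, 0, 8⟩) (.one ⟨5999, 2, 6⟩))) (.node 2 (.node 1 (.one ⟨13673, 2, 10⟩) (.one ⟨12993, 2, 10⟩)) (.node 1 (.one ⟨3460, 1, 6⟩) (.one ⟨1044, 2, 9⟩))))) (.node 8 (.node 4 (.node 2 (.node 1 (.one ⟨3350, 1, 10⟩) (.one ⟨1384, 0, 9⟩)) (.node 1 (.one ⟨3255, 0, 10⟩) (.one ⟨7368, 0, 8⟩))) (.node 2 (.node 1 (.one ⟨5600, 0, 10⟩) (.one ⟨1883, 2, 9⟩)) (.node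 1 (.one ⟨1882, 2, 6⟩) (.one ⟨1397, 0, 8⟩)))) (.node 4 (.node 2 (.node 1 (.one ⟨7094, 2, 6⟩) (.one ⟨6775, 2, 9⟩)) (.node 1 (.one ⟨12301, 0, 6⟩) (.one ⟨10443, 2, 10⟩))) (.node 2 (.node 1 (.one ⟨12902, 2, 7⟩) (.one ⟨15581, 0, 8⟩)) (.node 1 (.one ⟨8377, 0, 10⟩) (.one ⟨8968, 1, 9⟩)))))) (.node 16 (.node 8 (.node 4 (.node 2 (.node 1 (.one ⟨13197, 2, 4⟩) (.one ⟨8183, 0, 10⟩)) (.node 1 (.one ⟨196, 1, 11⟩) (.one ⟨6916, 1, 10⟩))) (.node 2 (.node 1 (.one ⟨14681, 0, 8⟩) (.one ⟨11081, 0, 8⟩)) (.node 1 (.one ⟨14437, 2, 5⟩) (.one ⟨5529, 2, 9⟩)))) (.node 4 (.node 2 (.node 1 (.one ⟨15651, 0, 8⟩) (.one ⟨1187, 2, 9⟩)) (.node 1 (.one ⟨2457, 2, 3⟩) (.one ⟨1932, 0, 7⟩))) (.node 2 (.node 1 (.one ⟨2050, 1, 7⟩) (.one ⟨2636, 2, 6⟩)) (.node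 1 (.one ⟨1902, 2, 8⟩) (.one ⟨11655, 0, 10⟩))))) (.node 8 (.node 4 (.node 2 (.node 1 (.one ⟨2175, 2, 9⟩) (.one ⟨12301, 2, 6⟩)) (.node 1 (.one ⟨7098, 1, 7⟩) (.one ⟨1397, 2, 8⟩))) (.node 2 (.node 1 (.one ⟨8405, 2, 9⟩) (.one ⟨15511, 2, 6⟩)) (.node 1 (.one ⟨3680, 0, 9⟩) (.one ⟨7059, 2, 9⟩)))) (.node 4 (.node 2 (.node 1 (.one ⟨13739, 1, 9⟩) (.one ⟨13426, 0, 9⟩)) (.node 1 (.one ⟨8300, 2, 8⟩) (.one ⟨7832, 2, 6⟩))) (.node 2 (.node 1 (.one ⟨14707, 1, 5⟩) (.one ⟨14686, 0, 7⟩)) (.node 1 (.one ⟨7279, 2, 4⟩) (.one ⟨8179, 1, 9⟩)))))))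
def par10_6_12 : Arr Par :=
  (.node 32 (.node 16 (.node 8 (.node 4 (.node 2 (.node 1 (.one ⟨16413, 1, 6⟩) (.one ⟨2430, 2, 9⟩)) (.node 1 (.one ⟨14737, 0, 10⟩) (.one ⟨815, 2, 7⟩))) (.node 2 (.node 1 (.one ⟨2428, 2, 9⟩) (.one ⟨515, 1, 8⟩)) (.node 1 (.one ⟨2425, 2, 7⟩) (.one ⟨16254, 1, 8⟩)))) (.node 4 (.node 2 (.node 1 (.one ⟨1707, 2, 3⟩) (.one ⟨13205, 1, 10⟩)) (.node 1 (.one ⟨14282, 0, 9⟩) (.one ⟨15323, 2, 8⟩))) (.node 2 (.node 1 (.one ⟨6891, 1, 8⟩) (.one ⟨12035, 2, 10⟩)) (.node 1 (.one ⟨5375, 2, 9⟩) (.one ⟨10768, 2, 9⟩))))) (.node 8 (.node 4 (.node 2 (.node 1 (.one ⟨10980, 0, 6⟩) (.one ⟨16920, 2, 9⟩)) (.node 1 (.one ⟨4359, 2, 9⟩) (.one ⟨6933, 2, 4⟩))) (.node 2 (.node 1 (.one ⟨5143, 0, 6⟩) (.one ⟨12288, 0, 3⟩)) (.node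 1 (.one ⟨4374, 0, 9⟩) (.one ⟨5946, 0, 11⟩)))) (.node 4 (.node 2 (.node 1 (.one ⟨1549, 2, 7⟩) (.one ⟨12849, 0, 9⟩)) (.node 1 (.one ⟨13398, 1, 10⟩) (.one ⟨16171, 2, 8⟩))) (.node 2 (.node 1 (.one ⟨15598, 2, 10⟩) (.one ⟨2413, 2, 7⟩)) (.node 1 (.one ⟨4741, 2, 9⟩) (.one ⟨8203, 2, 6⟩)))))) (.node 16 (.node 8 (.node 4 (.node 2 (.node 1 (.one ⟨1836, 2, 10⟩) (.one ⟨13775, 1, 9⟩)) (.node 1 (.one ⟨16728, 0, 6⟩) (.one ⟨12129, 2, 7⟩))) (.node 2 (.node 1 (.one ⟨6849, 1, 5⟩) (.one ⟨11779, 2, 9⟩)) (.node 1 (.one ⟨14634, 2, 7⟩) (.one ⟨1149, 2, 6⟩)))) (.node 4 (.node 2 (.node 1 (.one ⟨10608, 0, 10⟩) (.one ⟨16913, 2, 9⟩)) (.node 1 (.one ⟨10979, 0, 6⟩) (.one ⟨4422, 2, 10⟩))) (.node 2 (.node 1 (.one ⟨6958, 2, 8⟩) (.one ⟨4952, 0, 7⟩))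 (.node 1 (.one ⟨11840, 0, 7⟩) (.one ⟨16648, 0, 7⟩))))) (.node 8 (.node 4 (.node 2 (.node 1 (.one ⟨12823, 2, 8⟩) (.one ⟨7773, 2, 12⟩)) (.node 1 (.one ⟨7026, 0, 9⟩) (.one ⟨10251, 2, 11⟩))) (.node 2 (.node 1 (.one ⟨7807, 2, 8⟩) (.one ⟨2657, 0, 5⟩)) (.node 1 (.one ⟨7315, 0, 9⟩) (.one ⟨12064, 2, 9⟩)))) (.node 4 (.node 2 (.node 1 (.one ⟨7040, 1, 10⟩) (.one ⟨13842, 1, 2⟩)) (.node 1 (.one ⟨10838, 1, 9⟩) (.one ⟨14115, 1, 9⟩))) (.node 2 (.node 1 (.one ⟨11024, 1, 9⟩) (.one ⟨7408, 2, 6⟩)) (.node 1 (.one ⟨13159, 0, 10⟩) (.one ⟨5999, 1, 6⟩)))))))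
def par10_6_13 : Arr Par :=
  (.node 32 (.node 16 (.node 8 (.node 4 (.node 2 (.node 1 (.one ⟨7280, 2, 8⟩) (.one ⟨5756, 2, 2⟩)) (.node 1 (.one ⟨10436, 1, 10⟩) (.one ⟨9764, 2, 9⟩))) (.node 2 (.node 1 (.one ⟨5029, 0, 10⟩) (.one ⟨13084, 0, 8⟩)) (.node 1 (.one ⟨11407, 2, 6⟩) (.one ⟨11603, 1, 8⟩)))) (.node 4 (.node 2 (.node 1 (.one ⟨5247, 2, 9⟩) (.one ⟨6959, 2, 8⟩)) (.node 1 (.one ⟨8591, 1, 7⟩) (.one ⟨12393, 2, 5⟩))) (.node 2 (.node 1 (.one ⟨11170, 2, 7⟩) (.one ⟨11724, 0, 6⟩)) (.node 1 (.one ⟨6901, 0, 7⟩) (.one ⟨7144, 1, 7⟩))))) (.node 8 (.node 4 (.node 2 (.node 1 (.one ⟨2914, 0, 9⟩) (.one ⟨10720, 1, 9⟩)) (.node 1 (.one ⟨3779, 0, 8⟩) (.one ⟨10583, 2, 8⟩))) (.node 2 (.node 1 (.one ⟨16596, 1, 10⟩) (.one ⟨1835, 0, 8⟩)) (.node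 1 (.one ⟨16809, 0, 9⟩) (.one ⟨1943, 0, 8⟩)))) (.node 4 (.node 2 (.node 1 (.one ⟨16473, 2, 9⟩) (.one ⟨2576, 1, 9⟩)) (.node 1 (.one ⟨10801, 1, 7⟩) (.one ⟨2505, 2, 8⟩))) (.node 2 (.node 1 (.one ⟨1398, 2, 8⟩) (.one ⟨15502, 2, 9⟩)) (.node 1 (.one ⟨15080, 2, 4⟩) (.one ⟨10791, 2, 8⟩)))))) (.node 16 (.node 8 (.node 4 (.node 2 (.node 1 (.one ⟨662, 1, 9⟩) (.one ⟨2688, 2, 11⟩)) (.node 1 (.one ⟨4004, 0, 11⟩) (.one ⟨10827, 1, 10⟩))) (.node 2 (.node 1 (.one ⟨11930, 0, 7⟩) (.one ⟨9374, 0, 9⟩)) (.node 1 (.one ⟨2552, 0, 9⟩) (.one ⟨1148, 2, 7⟩)))) (.node 4 (.node 2 (.node 1 (.one ⟨3889, 0, 5⟩) (.one ⟨1766, 2, 6⟩)) (.node 1 (.one ⟨3891, 0, 8⟩) (.one ⟨11416, 1, 6⟩))) (.node 2 (.node 1 (.one ⟨4187, 2, 9⟩) (.one ⟨6695, 1, 7⟩)) (.node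 1 (.one ⟨8074, 0, 9⟩) (.one ⟨2927, 1, 7⟩))))) (.node 8 (.node 4 (.node 2 (.node 1 (.one ⟨10016, 2, 12⟩) (.one ⟨10882, 1, 9⟩)) (.node 1 (.one ⟨13002, 2, 8⟩) (.one ⟨5159, 0, 7⟩))) (.node 2 (.node 1 (.one ⟨6681, 2, 11⟩) (.one ⟨5549, 0, 6⟩)) (.node 1 (.one ⟨7606, 2, 11⟩) (.one ⟨2879, 1, 9⟩)))) (.node 4 (.node 2 (.node 1 (.one ⟨6646, 2, 5⟩) (.one ⟨4378, 2, 7⟩)) (.node 1 (.one ⟨9971, 1, 7⟩) (.one ⟨8502, 1, 8⟩))) (.node 2 (.node 1 (.one ⟨17099, 2, 6⟩) (.one ⟨9442, 2, 8⟩)) (.node 1 (.one ⟨7029, 2, 7⟩) (.one ⟨11449, 2, 7⟩)))))))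
def par10_6_14 : Arr Par :=
  (.node 32 (.node 16 (.node 8 (.node 4 (.node 2 (.node 1 (.one ⟨11132, 2, 9⟩) (.one ⟨1091, 0, 7⟩)) (.node 1 (.one ⟨16576, 2, 7⟩) (.one ⟨2900, 0, 9⟩))) (.node 2 (.node 1 (.one ⟨2054, 1, 7⟩) (.one ⟨10867, 1, 8⟩)) (.node 1 (.one ⟨7294, 2, 7⟩) (.one ⟨6297, 1, 5⟩)))) (.node 4 (.node 2 (.node 1 (.one ⟨10710, 2, 9⟩) (.one ⟨1939, 1, 10⟩)) (.node 1 (.one ⟨8707, 2, 6⟩) (.one ⟨11520, 1, 9⟩))) (.node 2 (.node 1 (.one ⟨13557, 0, 9⟩) (.one ⟨1864, 2, 8⟩)) (.node 1 (.one ⟨14327, 2, 7⟩) (.one ⟨10644, 2, 10⟩))))) (.node 8 (.node 4 (.node 2 (.node 1 (.one ⟨289, 2, 8⟩) (.one ⟨10641, 2, 8⟩)) (.node 1 (.one ⟨880, 2, 6⟩) (.one ⟨789, 2, 8⟩))) (.node 2 (.node 1 (.one ⟨10640, 2, 6⟩) (.one ⟨374, 2, 5⟩)) (.node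 1 (.one ⟨10645, 2, 9⟩) (.one ⟨7291, 0, 9⟩)))) (.node 4 (.node 2 (.node 1 (.one ⟨11280, 2, 6⟩) (.one ⟨2654, 2, 9⟩)) (.node 1 (.one ⟨2996, 2, 9⟩) (.one ⟨5548, 0, 10⟩))) (.node 2 (.node 1 (.one ⟨13538, 2, 7⟩) (.one ⟨4011, 2, 10⟩)) (.node 1 (.one ⟨15053, 1, 10⟩) (.one ⟨3344, 0, 9⟩)))))) (.node 16 (.node 8 (.node 4 (.node 2 (.node 1 (.one ⟨173, 2, 11⟩) (.one ⟨14256, 0, 7⟩)) (.node 1 (.one ⟨15971, 2, 9⟩) (.one ⟨15951, 2, 6⟩))) (.node 2 (.node 1 (.one ⟨6315, 2, 8⟩) (.one ⟨7990, 1, 10⟩)) (.node 1 (.one ⟨12400, 2, 7⟩) (.one ⟨12904, 0, 7⟩)))) (.node 4 (.node 2 (.node 1 (.one ⟨8179, 0, 9⟩) (.one ⟨6899, 0, 9⟩)) (.node 1 (.one ⟨4452, 1, 8⟩) (.one ⟨9055, 2, 9⟩))) (.node 2 (.node 1 (.one ⟨16689, 2, 9⟩) (.one ⟨16832, 1, 10⟩)) (.node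 1 (.one ⟨4460, 2, 9⟩) (.one ⟨6966, 2, 10⟩))))) (.node 8 (.node 4 (.node 2 (.node 1 (.one ⟨12139, 2, 6⟩) (.one ⟨17164, 2, 9⟩)) (.node 1 (.one ⟨7385, 1, 7⟩) (.one ⟨1164, 0, 10⟩))) (.node 2 (.node 1 (.one ⟨11755, 1, 7⟩) (.one ⟨3081, 2, 8⟩)) (.node 1 (.one ⟨9786, 1, 5⟩) (.one ⟨14321, 1, 9⟩)))) (.node 4 (.node 2 (.node 1 (.one ⟨6137, 2, 9⟩) (.one ⟨7073, 2, 8⟩)) (.node 1 (.one ⟨6188, 2, 6⟩) (.one ⟨2497, 0, 8⟩))) (.node 2 (.node 1 (.one ⟨12728, 1, 8⟩) (.one ⟨4282, 1, 8⟩)) (.node 1 (.one ⟨14979, 1, 7⟩) (.one ⟨11560, 1, 7⟩)))))))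
def par10_6_15 : Arr Par :=
  (.node 32 (.node 16 (.node 8 (.node 4 (.node 2 (.node 1 (.one ⟨10072, 1, 8⟩) (.one ⟨13312, 2, 7⟩)) (.node 1 (.one ⟨8732, 2, 6⟩) (.one ⟨13012, 1, 9⟩))) (.node 2 (.node 1 (.one ⟨12364, 1, 10⟩) (.one ⟨15349, 0, 6⟩)) (.node 1 (.one ⟨8919, 0, 9⟩) (.one ⟨12896, 1, 9⟩)))) (.node 4 (.node 2 (.node 1 (.one ⟨11476, 1, 6⟩) (.one ⟨2870, 1, 8⟩)) (.node 1 (.one ⟨5062, 1, 8⟩) (.one ⟨7458, 2, 9⟩))) (.node 2 (.node 1 (.one ⟨1263, 0, 8⟩) (.one ⟨2146, 2, 10⟩)) (.node 1 (.one ⟨1243, 0, 8⟩) (.one ⟨13664, 1, 10⟩))))) (.node 8 (.node 4 (.node 2 (.node 1 (.one ⟨14587, 2, 10⟩) (.one ⟨14598, 2, 9⟩)) (.node 1 (.one ⟨6568, 1, 10⟩) (.one ⟨14620, 2, 9⟩))) (.node 2 (.node 1 (.one ⟨8890, 1, 7⟩) (.one ⟨6536, 2, 8⟩))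 (.node 1 (.one ⟨14628, 2, 10⟩) (.one ⟨12749, 2, 4⟩)))) (.node 4 (.node 2 (.node 1 (.one ⟨5055, 1, 5⟩) (.one ⟨7259, 0, 8⟩)) (.node 1 (.one ⟨14659, 2, 8⟩) (.one ⟨6394, 0, 4⟩))) (.node 2 (.node 1 (.one ⟨11689, 2, 5⟩) (.one ⟨2760, 0, 3⟩)) (.node 1 (.one ⟨6771, 1, 8⟩) (.one ⟨14853, 0, 7⟩)))))) (.node 16 (.node 8 (.node 4 (.node 2 (.node 1 (.one ⟨9992, 2, 8⟩) (.one ⟨312, 0, 6⟩)) (.node 1 (.one ⟨13701, 0, 8⟩) (.one ⟨1458, 2, 11⟩))) (.node 2 (.node 1 (.one ⟨14211, 0, 5⟩) (.one ⟨14981, 0, 7⟩)) (.node 1 (.one ⟨2978, 0, 10⟩) (.one ⟨13769, 2, 10⟩)))) (.node 4 (.node 2 (.node 1 (.one ⟨3685, 0, 6⟩) (.one ⟨8138, 2, 9⟩)) (.node 1 (.one ⟨15720, 2, 10⟩) (.one ⟨5611, 0, 8⟩))) (.node 2 (.node 1 (.one ⟨2055, 1, 7⟩) (.one ⟨9684, 0, 9⟩))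 (.node 1 (.one ⟨3559, 2, 11⟩) (.one ⟨628, 2, 8⟩))))) (.node 8 (.node 4 (.node 2 (.node 1 (.one ⟨630, 2, 9⟩) (.one ⟨9820, 1, 9⟩)) (.node 1 (.one ⟨16960, 0, 11⟩) (.one ⟨7383, 1, 8⟩))) (.node 2 (.node 1 (.one ⟨627, 2, 9⟩) (.one ⟨8834, 0, 2⟩)) (.node 1 (.one ⟨1760, 0, 9⟩) (.one ⟨9405, 2, 5⟩)))) (.node 4 (.node 2 (.node 1 (.one ⟨13439, 2, 7⟩) (.one ⟨6367, 1, 9⟩)) (.node 1 (.one ⟨8288, 0, 5⟩) (.one ⟨12057, 0, 8⟩))) (.node 2 (.node 1 (.one ⟨15040, 1, 6⟩) (.one ⟨158, 2, 10⟩)) (.node 1 (.one ⟨14103, 1, 10⟩) (.one ⟨11988, 1, 9⟩)))))))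
def par10_6 : Arr Par :=
  (.node 512 (.node 256 (.node 128 (.node 64 par10_6_0 par10_6_1) (.node 64 par10_6_2 par10_6_3)) (.node 128 (.node 64 par10_6_4 par10_6_5) (.node 64 par10_6_6 par10_6_7))) (.node 256 (.node 128 (.node 64 par10_6_8 par10_6_9) (.node 64 par10_6_10 par10_6_11)) (.node 128 (.node 64 par10_6_12 par10_6_13) (.node 64 par10_6_14 par10_6_15))))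
def par10_7_0 : Arr Par :=
  (.node 32 (.node 16 (.node 8 (.node 4 (.node 2 (.node 1 (.one ⟨14660, 2, 9⟩) (.one ⟨4338, 1, 10⟩)) (.node 1 (.one ⟨8756, 2, 9⟩) (.one ⟨11196, 2, 9⟩))) (.node 2 (.node 1 (.one ⟨15387, 1, 10⟩) (.one ⟨12751, 1, 7⟩)) (.node 1 (.one ⟨2486, 2, 10⟩) (.one ⟨1890, 0, 10⟩)))) (.node 4 (.node 2 (.node 1 (.one ⟨16861, 2, 9⟩) (.one ⟨4372, 0, 9⟩)) (.node 1 (.one ⟨9721, 0, 8⟩) (.one ⟨1921, 0, 8⟩))) (.node 2 (.node 1 (.one ⟨12027, 0, 10⟩) (.one ⟨10677, 2, 9⟩)) (.node 1 (.one ⟨755, 2, 7⟩) (.one ⟨8928, 1, 6⟩))))) (.node 8 (.node 4 (.node 2 (.node 1 (.one ⟨14692, 0, 5⟩) (.one ⟨2948, 2, 9⟩)) (.node 1 (.one ⟨1931, 0, 7⟩) (.one ⟨10597, 0, 5⟩))) (.node 2 (.node 1 (.one ⟨7079, 2, 8⟩) (.one ⟨11431, 1, 7⟩)) (.node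 1 (.one ⟨10989, 2, 6⟩) (.one ⟨14118, 2, 8⟩)))) (.node 4 (.node 2 (.node 1 (.one ⟨13470, 0, 8⟩) (.one ⟨13374, 0, 2⟩)) (.node 1 (.one ⟨2903, 1, 6⟩) (.one ⟨14571, 1, 8⟩))) (.node 2 (.node 1 (.one ⟨15186, 1, 8⟩) (.one ⟨7607, 1, 8⟩)) (.node 1 (.one ⟨8563, 1, 6⟩) (.one ⟨5221, 2, 10⟩)))))) (.node 16 (.node 8 (.node 4 (.node 2 (.node 1 (.one ⟨14691, 0, 6⟩) (.one ⟨17014, 2, 9⟩)) (.node 1 (.one ⟨4204, 1, 11⟩) (.one ⟨3727, 2, 8⟩))) (.node 2 (.node 1 (.one ⟨6142, 2, 9⟩) (.one ⟨16039, 2, 8⟩)) (.node 1 (.one ⟨10218, 2, 8⟩) (.one ⟨7109, 2, 7⟩)))) (.node 4 (.node 2 (.node 1 (.one ⟨2449, 0, 10⟩) (.one ⟨14984, 1, 7⟩)) (.node 1 (.one ⟨6725, 0, 7⟩) (.one ⟨16016, 2, 7⟩))) (.node 2 (.node 1 (.one ⟨7855, 0, 6⟩) (.one ⟨12489, 0, 9⟩)) (.node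 1 (.one ⟨301, 2, 9⟩) (.one ⟨2163, 0, 9⟩))))) (.node 8 (.node 4 (.node 2 (.node 1 (.one ⟨8553, 2, 5⟩) (.one ⟨6562, 2, 10⟩)) (.node 1 (.one ⟨15323, 1, 8⟩) (.one ⟨10222, 2, 8⟩))) (.node 2 (.node 1 (.one ⟨15325, 1, 8⟩) (.one ⟨2764, 2, 7⟩)) (.node 1 (.one ⟨150, 1, 11⟩) (.one ⟨13249, 2, 12⟩)))) (.node 4 (.node 2 (.node 1 (.one ⟨15518, 1, 8⟩) (.one ⟨5362, 2, 8⟩)) (.node 1 (.one ⟨869, 1, 9⟩) (.one ⟨7204, 0, 10⟩))) (.node 2 (.node 1 (.one ⟨6823, 0, 6⟩) (.one ⟨12533, 1, 7⟩)) (.node 1 (.one ⟨16193, 0, 6⟩) (.one ⟨12029, 0, 10⟩)))))))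
def par10_7_1 : Arr Par :=
  (.node 32 (.node 16 (.node 8 (.node 4 (.node 2 (.node 1 (.one ⟨13950, 2, 9⟩) (.one ⟨1225, 0, 8⟩)) (.node 1 (.one ⟨9548, 0, 10⟩) (.one ⟨11828, 2, 8⟩))) (.node 2 (.node 1 (.one ⟨3870, 2, 5⟩) (.one ⟨1310, 0, 8⟩)) (.node 1 (.one ⟨12820, 2, 9⟩) (.one ⟨1660, 2, 10⟩)))) (.node 4 (.node 2 (.node 1 (.one ⟨5015, 2, 8⟩) (.one ⟨4905, 2, 6⟩)) (.node 1 (.one ⟨4422, 0, 10⟩) (.one ⟨9539, 2, 8⟩))) (.node 2 (.node 1 (.one ⟨3907, 0, 6⟩) (.one ⟨12890, 2, 9⟩)) (.node 1 (.one ⟨10102, 2, 10⟩) (.one ⟨6228, 2, 6⟩))))) (.node 8 (.node 4 (.node 2 (.node 1 (.one ⟨4403, 1, 4⟩) (.one ⟨12946, 1, 8⟩)) (.node 1 (.one ⟨7159, 1, 6⟩) (.one ⟨16558, 1, 9⟩))) (.node 2 (.node 1 (.one ⟨6853, 0, 8⟩) (.one ⟨9026, 0, 9⟩)) (.node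 1 (.one ⟨8263, 1, 6⟩) (.one ⟨366, 2, 7⟩)))) (.node 4 (.node 2 (.node 1 (.one ⟨9181, 2, 7⟩) (.one ⟨11983, 1, 9⟩)) (.node 1 (.one ⟨4296, 2, 7⟩) (.one ⟨11214, 2, 7⟩))) (.node 2 (.node 1 (.one ⟨3140, 2, 7⟩) (.one ⟨4999, 2, 9⟩)) (.node 1 (.one ⟨13059, 2, 6⟩) (.one ⟨9082, 1, 6⟩)))))) (.node 16 (.node 8 (.node 4 (.node 2 (.node 1 (.one ⟨2096, 2, 5⟩) (.one ⟨17052, 2, 9⟩)) (.node 1 (.one ⟨11706, 1, 8⟩) (.one ⟨7920, 0, 7⟩))) (.node 2 (.node 1 (.one ⟨1424, 2, 9⟩) (.one ⟨5238, 1, 8⟩)) (.node 1 (.one ⟨1584, 2, 9⟩) (.one ⟨4774, 2, 9⟩)))) (.node 4 (.node 2 (.node 1 (.one ⟨7478, 2, 10⟩) (.one ⟨10291, 2, 10⟩)) (.node 1 (.one ⟨16012, 2, 9⟩) (.one ⟨1510, 2, 8⟩))) (.node 2 (.node 1 (.one ⟨14614, 1, 8⟩) (.one ⟨15489, 1, 8⟩)) (.node 1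 (.one ⟨11069, 0, 9⟩) (.one ⟨7403, 1, 3⟩))))) (.node 8 (.node 4 (.node 2 (.node 1 (.one ⟨927, 0, 7⟩) (.one ⟨8903, 1, 9⟩)) (.node 1 (.one ⟨5991, 1, 10⟩) (.one ⟨11715, 0, 8⟩))) (.node 2 (.node 1 (.one ⟨13469, 0, 9⟩) (.one ⟨16895, 1, 9⟩)) (.node 1 (.one ⟨14231, 1, 10⟩) (.one ⟨16601, 2, 9⟩)))) (.node 4 (.node 2 (.node 1 (.one ⟨15950, 1, 7⟩) (.one ⟨4680, 1, 9⟩)) (.node 1 (.one ⟨11248, 2, 7⟩) (.one ⟨8212, 2, 8⟩))) (.node 2 (.node 1 (.one ⟨12742, 2, 8⟩) (.one ⟨15557, 2, 7⟩)) (.node 1 (.one ⟨12721, 1, 6⟩) (.one ⟨17192, 1, 9⟩)))))))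
def par10_7_2 : Arr Par :=
  (.node 32 (.node 16 (.node 8 (.node 4 (.node 2 (.node 1 (.one ⟨10667, 2, 8⟩) (.one ⟨5413, 2, 9⟩)) (.node 1 (.one ⟨8852, 0, 10⟩) (.one ⟨12522, 2, 10⟩))) (.node 2 (.node 1 (.one ⟨16362, 0, 9⟩) (.one ⟨11881, 2, 10⟩)) (.node 1 (.one ⟨3431, 2, 9⟩) (.one ⟨12856, 2, 10⟩)))) (.node 4 (.node 2 (.node 1 (.one ⟨16699, 1, 8⟩) (.one ⟨5181, 1, 8⟩)) (.node 1 (.one ⟨128, 2, 7⟩) (.one ⟨15464, 0, 7⟩))) (.node 2 (.node 1 (.one ⟨12859, 2, 10⟩) (.one ⟨382, 1, 6⟩)) (.node 1 (.one ⟨14682, 0, 11⟩) (.one ⟨10663, 2, 4⟩))))) (.node 8 (.node 4 (.node 2 (.node 1 (.one ⟨9920, 0, 6⟩) (.one ⟨1977, 0, 7⟩)) (.node 1 (.one ⟨5522, 0, 7⟩) (.one ⟨4810, 2, 8⟩))) (.node 2 (.node 1 (.one ⟨8233, 2, 8⟩) (.one ⟨5545, 2, 11⟩)) (.node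 1 (.one ⟨8001, 2, 8⟩) (.one ⟨1743, 1, 6⟩)))) (.node 4 (.node 2 (.node 1 (.one ⟨16658, 1, 6⟩) (.one ⟨11306, 2, 7⟩)) (.node 1 (.one ⟨2921, 2, 8⟩) (.one ⟨9871, 0, 10⟩))) (.node 2 (.node 1 (.one ⟨15469, 0, 7⟩) (.one ⟨13296, 0, 11⟩)) (.node 1 (.one ⟨4303, 1, 9⟩) (.one ⟨1269, 0, 8⟩)))))) (.node 16 (.node 8 (.node 4 (.node 2 (.node 1 (.one ⟨10686, 1, 7⟩) (.one ⟨5998, 2, 9⟩)) (.node 1 (.one ⟨3141, 1, 8⟩) (.one ⟨9996, 1, 10⟩))) (.node 2 (.node 1 (.one ⟨2545, 2, 7⟩) (.one ⟨14003, 2, 7⟩)) (.node 1 (.one ⟨9244, 2, 9⟩) (.one ⟨11886, 0, 10⟩)))) (.node 4 (.node 2 (.node 1 (.one ⟨9046, 0, 9⟩) (.one ⟨7075, 1, 7⟩)) (.node 1 (.one ⟨3635, 2, 10⟩) (.one ⟨16053, 2, 9⟩))) (.node 2 (.node 1 (.one ⟨2208, 1, 7⟩) (.one ⟨5529, 0, 9⟩)) (.node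 1 (.one ⟨15953, 0, 7⟩) (.one ⟨1757, 0, 10⟩))))) (.node 8 (.node 4 (.node 2 (.node 1 (.one ⟨3325, 1, 8⟩) (.one ⟨9171, 2, 6⟩)) (.node 1 (.one ⟨5306, 2, 8⟩) (.one ⟨11576, 1, 10⟩))) (.node 2 (.node 1 (.one ⟨7526, 2, 8⟩) (.one ⟨1821, 0, 8⟩)) (.node 1 (.one ⟨9736, 0, 8⟩) (.one ⟨1948, 2, 11⟩)))) (.node 4 (.node 2 (.node 1 (.one ⟨2960, 2, 9⟩) (.one ⟨11040, 2, 7⟩)) (.node 1 (.one ⟨10028, 2, 8⟩) (.one ⟨10003, 2, 8⟩))) (.node 2 (.node 1 (.one ⟨11032, 2, 10⟩) (.one ⟨12765, 0, 9⟩)) (.node 1 (.one ⟨1956, 2, 6⟩) (.one ⟨7897, 2, 9⟩)))))))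
def par10_7_3 : Arr Par :=
  (.node 32 (.node 16 (.node 8 (.node 4 (.node 2 (.node 1 (.one ⟨12630, 2, 9⟩) (.one ⟨6630, 2, 7⟩)) (.node 1 (.one ⟨5396, 1, 7⟩) (.one ⟨6533, 2, 7⟩))) (.node 2 (.node 1 (.one ⟨3385, 1, 9⟩) (.one ⟨8848, 2, 6⟩)) (.node 1 (.one ⟨12435, 2, 7⟩) (.one ⟨2025, 0, 9⟩)))) (.node 4 (.node 2 (.node 1 (.one ⟨806, 2, 7⟩) (.one ⟨7788, 2, 10⟩)) (.node 1 (.one ⟨8778, 2, 7⟩) (.one ⟨2877, 2, 6⟩))) (.node 2 (.node 1 (.one ⟨2173, 0, 8⟩) (.one ⟨9808, 0, 6⟩)) (.node 1 (.one ⟨10642, 1, 10⟩) (.one ⟨17063, 2, 8⟩))))) (.node 8 (.node 4 (.node 2 (.node 1 (.one ⟨12928, 2, 7⟩) (.one ⟨12066, 2, 6⟩)) (.node 1 (.one ⟨4303, 0, 9⟩) (.one ⟨13203, 2, 6⟩))) (.node 2 (.node 1 (.one ⟨16509, 2, 8⟩) (.one ⟨16286, 2, 8⟩)) (.node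 1 (.one ⟨11637, 2, 10⟩) (.one ⟨9404, 2, 7⟩)))) (.node 4 (.node 2 (.node 1 (.one ⟨7157, 2, 3⟩) (.one ⟨7016, 2, 6⟩)) (.node 1 (.one ⟨10733, 2, 8⟩) (.one ⟨6083, 1, 6⟩))) (.node 2 (.node 1 (.one ⟨7786, 0, 8⟩) (.one ⟨14997, 0, 10⟩)) (.node 1 (.one ⟨5757, 0, 8⟩) (.one ⟨15047, 2, 6⟩)))))) (.node 16 (.node 8 (.node 4 (.node 2 (.node 1 (.one ⟨3376, 2, 9⟩) (.one ⟨14545, 2, 7⟩)) (.node 1 (.one ⟨4850, 1, 7⟩) (.one ⟨9046, 2, 9⟩))) (.node 2 (.node 1 (.one ⟨3386, 1, 9⟩) (.one ⟨8000, 2, 6⟩)) (.node 1 (.one ⟨12467, 2, 10⟩) (.one ⟨3916, 0, 10⟩)))) (.node 4 (.node 2 (.node 1 (.one ⟨15153, 0, 10⟩) (.one ⟨1775, 1, 7⟩)) (.node 1 (.one ⟨7350, 1, 9⟩) (.one ⟨2276, 2, 2⟩))) (.node 2 (.node 1 (.one ⟨1302, 1, 9⟩) (.one ⟨9912, 0, 9⟩)) (.node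 1 (.one ⟨4459, 2, 11⟩) (.one ⟨7076, 2, 9⟩))))) (.node 8 (.node 4 (.node 2 (.node 1 (.one ⟨13072, 2, 5⟩) (.one ⟨16727, 1, 5⟩)) (.node 1 (.one ⟨13352, 1, 9⟩) (.one ⟨10192, 2, 5⟩))) (.node 2 (.node 1 (.one ⟨7876, 2, 6⟩) (.one ⟨11140, 1, 5⟩)) (.node 1 (.one ⟨15523, 1, 8⟩) (.one ⟨2489, 2, 9⟩)))) (.node 4 (.node 2 (.node 1 (.one ⟨13073, 2, 7⟩) (.one ⟨16011, 2, 10⟩)) (.node 1 (.one ⟨228, 1, 10⟩) (.one ⟨16873, 1, 9⟩))) (.node 2 (.node 1 (.one ⟨4304, 2, 9⟩) (.one ⟨15664, 0, 10⟩)) (.node 1 (.one ⟨6459, 0, 7⟩) (.one ⟨12707, 2, 5⟩)))))))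
def par10_7_4 : Arr Par :=
  (.node 32 (.node 16 (.node 8 (.node 4 (.node 2 (.node 1 (.one ⟨15280, 0, 9⟩) (.one ⟨7841, 2, 9⟩)) (.node 1 (.one ⟨7591, 2, 5⟩) (.one ⟨14775, 2, 9⟩))) (.node 2 (.node 1 (.one ⟨16369, 2, 9⟩) (.one ⟨641, 2, 8⟩)) (.node 1 (.one ⟨5491, 2, 7⟩) (.one ⟨16773, 2, 8⟩)))) (.node 4 (.node 2 (.node 1 (.one ⟨6415, 1, 9⟩) (.one ⟨14512, 2, 7⟩)) (.node 1 (.one ⟨2155, 0, 8⟩) (.one ⟨12046, 0, 10⟩))) (.node 2 (.node 1 (.one ⟨12477, 0, 9⟩) (.one ⟨12284, 0, 7⟩)) (.node 1 (.one ⟨5309, 2, 7⟩) (.one ⟨8823, 1, 8⟩))))) (.node 8 (.node 4 (.node 2 (.node 1 (.one ⟨1815, 0, 10⟩) (.one ⟨3705, 2, 7⟩)) (.node 1 (.one ⟨11535, 1, 9⟩) (.one ⟨3684, 2, 6⟩))) (.node 2 (.node 1 (.one ⟨15794, 0, 4⟩) (.one ⟨9204, 1, 9⟩)) (.node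 1 (.one ⟨12959, 1, 9⟩) (.one ⟨13260, 1, 6⟩)))) (.node 4 (.node 2 (.node 1 (.one ⟨9343, 1, 6⟩) (.one ⟨2212, 0, 9⟩)) (.node 1 (.one ⟨15497, 1, 8⟩) (.one ⟨2463, 2, 9⟩))) (.node 2 (.node 1 (.one ⟨4895, 2, 9⟩) (.one ⟨1278, 2, 8⟩)) (.node 1 (.one ⟨5125, 2, 7⟩) (.one ⟨14318, 2, 9⟩)))))) (.node 16 (.node 8 (.node 4 (.node 2 (.node 1 (.one ⟨12309, 1, 10⟩) (.one ⟨11553, 1, 9⟩)) (.node 1 (.one ⟨5561, 0, 8⟩) (.one ⟨10650, 2, 7⟩))) (.node 2 (.node 1 (.one ⟨9243, 2, 8⟩) (.one ⟨3496, 1, 7⟩)) (.node 1 (.one ⟨9200, 1, 8⟩) (.one ⟨16469, 1, 9⟩)))) (.node 4 (.node 2 (.node 1 (.one ⟨15482, 1, 9⟩) (.one ⟨6519, 1, 5⟩)) (.node 1 (.one ⟨12124, 0, 8⟩) (.one ⟨4825, 2, 8⟩))) (.node 2 (.node 1 (.one ⟨9151, 0, 7⟩) (.one ⟨7309, 2, 7⟩)) (.node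 1 (.one ⟨3045, 1, 8⟩) (.one ⟨5877, 2, 6⟩))))) (.node 8 (.node 4 (.node 2 (.node 1 (.one ⟨16503, 2, 8⟩) (.one ⟨7224, 2, 9⟩)) (.node 1 (.one ⟨16279, 2, 10⟩) (.one ⟨2790, 1, 9⟩))) (.node 2 (.node 1 (.one ⟨6381, 2, 7⟩) (.one ⟨15895, 2, 7⟩)) (.node 1 (.one ⟨6602, 2, 9⟩) (.one ⟨9036, 2, 11⟩)))) (.node 4 (.node 2 (.node 1 (.one ⟨4612, 0, 10⟩) (.one ⟨8806, 2, 10⟩)) (.node 1 (.one ⟨1895, 2, 9⟩) (.one ⟨9300, 0, 10⟩))) (.node 2 (.node 1 (.one ⟨8819, 2, 10⟩) (.one ⟨115, 2, 9⟩)) (.node 1 (.one ⟨9042, 2, 9⟩) (.one ⟨16253, 2, 9⟩)))))))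
def par10_7_5 : Arr Par :=
  (.node 32 (.node 16 (.node 8 (.node 4 (.node 2 (.node 1 (.one ⟨14734, 0, 3⟩) (.one ⟨10438, 1, 7⟩)) (.node 1 (.one ⟨5223, 0, 10⟩) (.one ⟨3133, 1, 7⟩))) (.node 2 (.node 1 (.one ⟨1540, 1, 6⟩) (.one ⟨109, 0, 9⟩)) (.node 1 (.one ⟨15959, 2, 9⟩) (.one ⟨4287, 2, 9⟩)))) (.node 4 (.node 2 (.node 1 (.one ⟨4303, 2, 9⟩) (.one ⟨9302, 0, 10⟩)) (.node 1 (.one ⟨4388, 2, 8⟩) (.one ⟨10654, 1, 11⟩))) (.node 2 (.node 1 (.one ⟨8571, 0, 9⟩) (.one ⟨13430, 2, 8⟩)) (.node 1 (.one ⟨11876, 0, 9⟩) (.one ⟨12349, 2, 10⟩))))) (.node 8 (.node 4 (.node 2 (.node 1 (.one ⟨10793, 2, 8⟩) (.one ⟨4219, 2, 10⟩)) (.node 1 (.one ⟨9478, 0, 8⟩) (.one ⟨1891, 1, 10⟩))) (.node 2 (.node 1 (.one ⟨7829, 0, 8⟩) (.one ⟨15826, 0, 9⟩)) (.node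 1 (.one ⟨10054, 2, 9⟩) (.one ⟨7348, 0, 9⟩)))) (.node 4 (.node 2 (.node 1 (.one ⟨12082, 1, 10⟩) (.one ⟨3170, 1, 9⟩)) (.node 1 (.one ⟨1542, 1, 8⟩) (.one ⟨12966, 1, 9⟩))) (.node 2 (.node 1 (.one ⟨12196, 1, 8⟩) (.one ⟨3134, 1, 9⟩)) (.node 1 (.one ⟨302, 1, 10⟩) (.one ⟨13419, 2, 10⟩)))))) (.node 16 (.node 8 (.node 4 (.node 2 (.node 1 (.one ⟨13498, 2, 10⟩) (.one ⟨9772, 1, 10⟩)) (.node 1 (.one ⟨15417, 2, 6⟩) (.one ⟨1916, 2, 10⟩))) (.node 2 (.node 1 (.one ⟨2006, 2, 5⟩) (.one ⟨7667, 2, 7⟩)) (.node 1 (.one ⟨7772, 2, 7⟩) (.one ⟨11558, 2, 10⟩)))) (.node 4 (.node 2 (.node 1 (.one ⟨12194, 2, 9⟩) (.one ⟨981, 2, 9⟩)) (.node 1 (.one ⟨4922, 2, 8⟩) (.one ⟨5073, 0, 7⟩))) (.node 2 (.node 1 (.one ⟨10658, 2, 7⟩) (.one ⟨1822, 0, 8⟩)) (.node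 1 (.one ⟨12369, 0, 7⟩) (.one ⟨15429, 1, 7⟩))))) (.node 8 (.node 4 (.node 2 (.node 1 (.one ⟨8286, 0, 4⟩) (.one ⟨9490, 2, 6⟩)) (.node 1 (.one ⟨10230, 1, 9⟩) (.one ⟨17159, 2, 8⟩))) (.node 2 (.node 1 (.one ⟨13785, 1, 10⟩) (.one ⟨13793, 2, 6⟩)) (.node 1 (.one ⟨11211, 1, 6⟩) (.one ⟨1646, 0, 8⟩)))) (.node 4 (.node 2 (.node 1 (.one ⟨13952, 2, 7⟩) (.one ⟨8771, 2, 8⟩)) (.node 1 (.one ⟨16749, 0, 7⟩) (.one ⟨7897, 1, 9⟩))) (.node 2 (.node 1 (.one ⟨8702, 0, 9⟩) (.one ⟨9485, 0, 9⟩)) (.node 1 (.one ⟨16451, 0, 9⟩) (.one ⟨8675, 2, 8⟩)))))))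
def par10_7_6 : Arr Par :=
  (.node 32 (.node 16 (.node 8 (.node 4 (.node 2 (.node 1 (.one ⟨5374, 0, 10⟩) (.one ⟨3189, 1, 10⟩)) (.node 1 (.one ⟨3187, 1, 9⟩) (.one ⟨5474, 2, 8⟩))) (.node 2 (.node 1 (.one ⟨3679, 0, 8⟩) (.one ⟨5220, 0, 8⟩)) (.node 1 (.one ⟨6009, 2, 8⟩) (.one ⟨2987, 0, 11⟩)))) (.node 4 (.node 2 (.node 1 (.one ⟨8106, 2, 5⟩) (.one ⟨3680, 2, 9⟩)) (.node 1 (.one ⟨3024, 0, 5⟩) (.one ⟨14216, 2, 8⟩))) (.node 2 (.node 1 (.one ⟨17183, 2, 9⟩) (.one ⟨13546, 2, 7⟩)) (.node 1 (.one ⟨9920, 2, 6⟩) (.one ⟨14917, 2, 7⟩))))) (.node 8 (.node 4 (.node 2 (.node 1 (.one ⟨5466, 2, 8⟩) (.one ⟨9440, 0, 6⟩)) (.node 1 (.one ⟨5234, 0, 9⟩) (.one ⟨15930, 1, 8⟩))) (.node 2 (.node 1 (.one ⟨13956, 2, 9⟩) (.one ⟨17075, 2, 9⟩)) (.node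 1 (.one ⟨13416, 0, 11⟩) (.one ⟨2874, 2, 8⟩)))) (.node 4 (.node 2 (.node 1 (.one ⟨4149, 2, 5⟩) (.one ⟨1928, 0, 7⟩)) (.node 1 (.one ⟨10118, 2, 9⟩) (.one ⟨11491, 1, 8⟩))) (.node 2 (.node 1 (.one ⟨16747, 0, 5⟩) (.one ⟨5490, 2, 8⟩)) (.node 1 (.one ⟨3445, 0, 9⟩) (.one ⟨11898, 2, 10⟩)))))) (.node 16 (.node 8 (.node 4 (.node 2 (.node 1 (.one ⟨2717, 1, 9⟩) (.one ⟨3884, 0, 10⟩)) (.node 1 (.one ⟨1690, 0, 11⟩) (.one ⟨7921, 0, 9⟩))) (.node 2 (.node 1 (.one ⟨6601, 2, 6⟩) (.one ⟨8639, 2, 10⟩)) (.node 1 (.one ⟨6460, 0, 9⟩) (.one ⟨16529, 0, 4⟩)))) (.node 4 (.node 2 (.node 1 (.one ⟨126, 2, 10⟩) (.one ⟨3229, 1, 8⟩)) (.node 1 (.one ⟨867, 1, 11⟩) (.one ⟨10387, 2, 6⟩))) (.node 2 (.node 1 (.one ⟨10356, 2, 6⟩) (.one ⟨16641, 2, 6⟩)) (.node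 1 (.one ⟨16581, 2, 7⟩) (.one ⟨16839, 1, 8⟩))))) (.node 8 (.node 4 (.node 2 (.node 1 (.one ⟨3165, 1, 9⟩) (.one ⟨3162, 2, 8⟩)) (.node 1 (.one ⟨14639, 0, 5⟩) (.one ⟨5690, 1, 10⟩))) (.node 2 (.node 1 (.one ⟨4826, 0, 9⟩) (.one ⟨372, 2, 9⟩)) (.node 1 (.one ⟨3160, 2, 10⟩) (.one ⟨10153, 0, 7⟩)))) (.node 4 (.node 2 (.node 1 (.one ⟨15746, 2, 7⟩) (.one ⟨5311, 0, 7⟩)) (.node 1 (.one ⟨16352, 2, 8⟩) (.one ⟨5086, 2, 12⟩))) (.node 2 (.node 1 (.one ⟨7576, 0, 6⟩) (.one ⟨3176, 0, 5⟩)) (.node 1 (.one ⟨15304, 1, 6⟩) (.one ⟨11716, 1, 11⟩)))))))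
def par10_7_7 : Arr Par :=
  (.node 32 (.node 16 (.node 8 (.node 4 (.node 2 (.node 1 (.one ⟨1834, 2, 9⟩) (.one ⟨10294, 2, 8⟩)) (.node 1 (.one ⟨3782, 2, 9⟩) (.one ⟨11715, 1, 8⟩))) (.node 2 (.node 1 (.one ⟨14769, 2, 7⟩) (.one ⟨940, 0, 5⟩)) (.node 1 (.one ⟨16813, 2, 6⟩) (.one ⟨3613, 1, 7⟩)))) (.node 4 (.node 2 (.node 1 (.one ⟨8662, 1, 11⟩) (.one ⟨13861, 2, 8⟩)) (.node 1 (.one ⟨16240, 2, 8⟩) (.one ⟨13908, 1, 10⟩))) (.node 2 (.node 1 (.one ⟨10220, 2, 8⟩) (.one ⟨8261, 2, 10⟩)) (.node 1 (.one ⟨8887, 0, 10⟩) (.one ⟨16477, 2, 7⟩))))) (.node 8 (.node 4 (.node 2 (.node 1 (.one ⟨11981, 0, 7⟩) (.one ⟨8682, 2, 9⟩)) (.node 1 (.one ⟨5966, 2, 9⟩) (.one ⟨12955, 2, 6⟩))) (.node 2 (.node 1 (.one ⟨5456, 1, 9⟩) (.one ⟨5032, 2, 6⟩)) (.node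 1 (.one ⟨1984, 2, 7⟩) (.one ⟨10580, 2, 6⟩)))) (.node 4 (.node 2 (.node 1 (.one ⟨7646, 0, 10⟩) (.one ⟨14859, 2, 8⟩)) (.node 1 (.one ⟨12170, 2, 9⟩) (.one ⟨12061, 2, 8⟩))) (.node 2 (.node 1 (.one ⟨14680, 2, 8⟩) (.one ⟨16717, 2, 9⟩)) (.node 1 (.one ⟨7641, 0, 9⟩) (.one ⟨14945, 2, 9⟩)))))) (.node 16 (.node 8 (.node 4 (.node 2 (.node 1 (.one ⟨16819, 0, 7⟩) (.one ⟨3404, 0, 7⟩)) (.node 1 (.one ⟨14904, 0, 8⟩) (.one ⟨8352, 2, 9⟩))) (.node 2 (.node 1 (.one ⟨15398, 2, 9⟩) (.one ⟨6652, 1, 7⟩)) (.node 1 (.one ⟨4953, 2, 8⟩) (.one ⟨6173, 2, 8⟩)))) (.node 4 (.node 2 (.node 1 (.one ⟨16292, 2, 8⟩) (.one ⟨9864, 0, 9⟩)) (.node 1 (.one ⟨1743, 0, 6⟩) (.one ⟨2107, 2, 7⟩))) (.node 2 (.node 1 (.one ⟨7590, 0, 10⟩) (.one ⟨17176, 1, 9⟩)) (.node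 1 (.one ⟨15230, 1, 5⟩) (.one ⟨2858, 2, 10⟩))))) (.node 8 (.node 4 (.node 2 (.node 1 (.one ⟨1611, 0, 10⟩) (.one ⟨4975, 0, 9⟩)) (.node 1 (.one ⟨2812, 2, 8⟩) (.one ⟨7739, 1, 6⟩))) (.node 2 (.node 1 (.one ⟨5114, 1, 8⟩) (.one ⟨7642, 1, 10⟩)) (.node 1 (.one ⟨1792, 2, 3⟩) (.one ⟨13801, 0, 6⟩)))) (.node 4 (.node 2 (.node 1 (.one ⟨15749, 0, 8⟩) (.one ⟨9196, 2, 9⟩)) (.node 1 (.one ⟨14597, 2, 7⟩) (.one ⟨6542, 2, 4⟩))) (.node 2 (.node 1 (.one ⟨11651, 1, 8⟩) (.one ⟨11936, 2, 6⟩)) (.node 1 (.one ⟨11730, 1, 7⟩) (.one ⟨13177, 0, 6⟩)))))))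
def par10_7_8 : Arr Par :=
  (.node 32 (.node 16 (.node 8 (.node 4 (.node 2 (.node 1 (.one ⟨7235, 0, 9⟩) (.one ⟨9809, 0, 10⟩)) (.node 1 (.one ⟨5484, 2, 10⟩) (.one ⟨16892, 2, 9⟩))) (.node 2 (.node 1 (.one ⟨2660, 2, 8⟩) (.one ⟨9651, 1, 7⟩)) (.node 1 (.one ⟨3142, 0, 4⟩) (.one ⟨11848, 2, 9⟩)))) (.node 4 (.node 2 (.node 1 (.one ⟨14576, 0, 9⟩) (.one ⟨13671, 2, 8⟩)) (.node 1 (.one ⟨13228, 1, 9⟩) (.one ⟨11443, 2, 10⟩))) (.node 2 (.node 1 (.one ⟨12797, 0, 8⟩) (.one ⟨16919, 2, 6⟩)) (.node 1 (.one ⟨15638, 2, 6⟩) (.one ⟨13509, 2, 8⟩))))) (.node 8 (.node 4 (.node 2 (.node 1 (.one ⟨3659, 1, 9⟩) (.one ⟨11964, 2, 9⟩)) (.node 1 (.one ⟨7608, 0, 8⟩) (.one ⟨17081, 2, 9⟩))) (.node 2 (.node 1 (.one ⟨5737, 2, 8⟩) (.one ⟨16192, 2, 8⟩))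 (.node 1 (.one ⟨7670, 0, 4⟩) (.one ⟨16155, 1, 10⟩)))) (.node 4 (.node 2 (.node 1 (.one ⟨2446, 2, 8⟩) (.one ⟨2434, 0, 11⟩)) (.node 1 (.one ⟨2517, 1, 9⟩) (.one ⟨10216, 2, 11⟩))) (.node 2 (.node 1 (.one ⟨2653, 2, 10⟩) (.one ⟨10374, 2, 8⟩)) (.node 1 (.one ⟨1306, 2, 8⟩) (.one ⟨13572, 2, 10⟩)))))) (.node 16 (.node 8 (.node 4 (.node 2 (.node 1 (.one ⟨1835, 1, 8⟩) (.one ⟨8566, 0, 8⟩)) (.node 1 (.one ⟨5022, 2, 7⟩) (.one ⟨10590, 2, 8⟩))) (.node 2 (.node 1 (.one ⟨15747, 1, 7⟩) (.one ⟨2321, 2, 9⟩)) (.node 1 (.one ⟨627, 0, 9⟩) (.one ⟨15379, 0, 9⟩)))) (.node 4 (.node 2 (.node 1 (.one ⟨7524, 2, 6⟩) (.one ⟨2261, 1, 9⟩)) (.node 1 (.one ⟨12408, 1, 10⟩) (.one ⟨1168, 0, 8⟩))) (.node 2 (.node 1 (.one ⟨15344, 0, 9⟩) (.one ⟨7106, 0, 7⟩))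 (.node 1 (.one ⟨10148, 1, 8⟩) (.one ⟨15140, 2, 8⟩))))) (.node 8 (.node 4 (.node 2 (.node 1 (.one ⟨13282, 0, 7⟩) (.one ⟨7760, 1, 9⟩)) (.node 1 (.one ⟨9163, 1, 3⟩) (.one ⟨15434, 0, 10⟩))) (.node 2 (.node 1 (.one ⟨8781, 2, 10⟩) (.one ⟨13984, 2, 9⟩)) (.node 1 (.one ⟨10831, 2, 7⟩) (.one ⟨9530, 1, 10⟩)))) (.node 4 (.node 2 (.node 1 (.one ⟨1620, 2, 8⟩) (.one ⟨10876, 2, 6⟩)) (.node 1 (.one ⟨17105, 0, 6⟩) (.one ⟨6635, 2, 5⟩))) (.node 2 (.node 1 (.one ⟨243, 0, 9⟩) (.one ⟨6179, 1, 8⟩)) (.node 1 (.one ⟨4974, 0, 10⟩) (.one ⟨4465, 2, 8⟩)))))))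
def par10_7_9 : Arr Par :=
  (.node 32 (.node 16 (.node 8 (.node 4 (.node 2 (.node 1 (.one ⟨4156, 0, 9⟩) (.one ⟨5624, 2, 8⟩)) (.node 1 (.one ⟨9014, 1, 10⟩) (.one ⟨16647, 2, 11⟩))) (.node 2 (.node 1 (.one ⟨4460, 1, 9⟩) (.one ⟨2180, 0, 10⟩)) (.node 1 (.one ⟨16830, 2, 10⟩) (.one ⟨2179, 0, 8⟩)))) (.node 4 (.node 2 (.node 1 (.one ⟨5708, 2, 9⟩) (.one ⟨17103, 0, 7⟩)) (.node 1 (.one ⟨486, 2, 9⟩) (.one ⟨15931, 0, 10⟩))) (.node 2 (.node 1 (.one ⟨3283, 1, 9⟩) (.one ⟨3384, 0, 8⟩)) (.node 1 (.one ⟨9184, 0, 9⟩) (.one ⟨16021, 1, 6⟩))))) (.node 8 (.node 4 (.node 2 (.node 1 (.one ⟨5509, 2, 8⟩) (.one ⟨9493, 2, 7⟩)) (.node 1 (.one ⟨3967, 2, 10⟩) (.one ⟨9087, 2, 10⟩))) (.node 2 (.node 1 (.one ⟨15004, 2, 8⟩) (.one ⟨1290, 0, 8⟩)) (.node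 1 (.one ⟨12981, 0, 9⟩) (.one ⟨12977, 0, 8⟩)))) (.node 4 (.node 2 (.node 1 (.one ⟨12650, 0, 8⟩) (.one ⟨4310, 2, 10⟩)) (.node 1 (.one ⟨9870, 1, 10⟩) (.one ⟨13633, 2, 7⟩))) (.node 2 (.node 1 (.one ⟨11816, 1, 6⟩) (.one ⟨8249, 2, 11⟩)) (.node 1 (.one ⟨9534, 1, 8⟩) (.one ⟨1252, 2, 8⟩)))))) (.node 16 (.node 8 (.node 4 (.node 2 (.node 1 (.one ⟨3822, 1, 10⟩) (.one ⟨12791, 0, 10⟩)) (.node 1 (.one ⟨1438, 1, 7⟩) (.one ⟨10855, 0, 8⟩))) (.node 2 (.node 1 (.one ⟨3980, 0, 9⟩) (.one ⟨12892, 2, 10⟩)) (.node 1 (.one ⟨15398, 0, 9⟩) (.one ⟨7752, 1, 10⟩)))) (.node 4 (.node 2 (.node 1 (.one ⟨1132, 2, 9⟩) (.one ⟨3278, 1, 11⟩)) (.node 1 (.one ⟨9186, 0, 7⟩) (.one ⟨12487, 2, 9⟩))) (.node 2 (.node 1 (.one ⟨13150, 0, 9⟩) (.one ⟨10269, 2, 9⟩))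 (.node 1 (.one ⟨1038, 0, 8⟩) (.one ⟨2503, 2, 9⟩))))) (.node 8 (.node 4 (.node 2 (.node 1 (.one ⟨11799, 2, 10⟩) (.one ⟨12377, 2, 8⟩)) (.node 1 (.one ⟨1954, 2, 10⟩) (.one ⟨2088, 2, 8⟩))) (.node 2 (.node 1 (.one ⟨12488, 2, 9⟩) (.one ⟨15619, 1, 8⟩)) (.node 1 (.one ⟨3996, 1, 10⟩) (.one ⟨7893, 2, 9⟩)))) (.node 4 (.node 2 (.node 1 (.one ⟨15829, 0, 9⟩) (.one ⟨9641, 1, 7⟩)) (.node 1 (.one ⟨15344, 1, 9⟩) (.one ⟨9541, 0, 8⟩))) (.node 2 (.node 1 (.one ⟨7733, 0, 10⟩) (.one ⟨6937, 2, 10⟩)) (.node 1 (.one ⟨13253, 1, 5⟩) (.one ⟨8271, 2, 7⟩)))))))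
def par10_7_10 : Arr Par :=
  (.node 32 (.node 16 (.node 8 (.node 4 (.node 2 (.node 1 (.one ⟨665, 2, 6⟩) (.one ⟨2526, 2, 9⟩)) (.node 1 (.one ⟨7714, 2, 8⟩) (.one ⟨2204, 2, 9⟩))) (.node 2 (.node 1 (.one ⟨8192, 2, 11⟩) (.one ⟨7992, 2, 4⟩)) (.node 1 (.one ⟨2421, 2, 4⟩) (.one ⟨8717, 2, 6⟩)))) (.node 4 (.node 2 (.node 1 (.one ⟨16485, 2, 9⟩) (.one ⟨4962, 1, 7⟩)) (.node 1 (.one ⟨16527, 2, 8⟩) (.one ⟨11617, 1, 7⟩))) (.node 2 (.node 1 (.one ⟨9310, 2, 7⟩) (.one ⟨2041, 2, 7⟩)) (.node 1 (.one ⟨9671, 2, 8⟩) (.one ⟨382, 0, 6⟩))))) (.node 8 (.node 4 (.node 2 (.node 1 (.one ⟨10563, 0, 8⟩) (.one ⟨16176, 2, 7⟩)) (.node 1 (.one ⟨16701, 0, 4⟩) (.one ⟨5467, 0, 6⟩))) (.node 2 (.node 1 (.one ⟨12945, 0, 7⟩) (.one ⟨1222, 2, 7⟩)) (.node 1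 (.one ⟨6389, 1, 10⟩) (.one ⟨5196, 1, 10⟩)))) (.node 4 (.node 2 (.node 1 (.one ⟨3631, 2, 5⟩) (.one ⟨7296, 1, 9⟩)) (.node 1 (.one ⟨592, 0, 9⟩) (.one ⟨376, 0, 9⟩))) (.node 2 (.node 1 (.one ⟨7260, 2, 8⟩) (.one ⟨7321, 1, 8⟩)) (.node 1 (.one ⟨311, 2, 10⟩) (.one ⟨246, 1, 7⟩)))))) (.node 16 (.node 8 (.node 4 (.node 2 (.node 1 (.one ⟨13985, 2, 8⟩) (.one ⟨2702, 2, 8⟩)) (.node 1 (.one ⟨5893, 2, 6⟩) (.one ⟨9269, 2, 10⟩))) (.node 2 (.node 1 (.one ⟨14549, 2, 8⟩) (.one ⟨479, 2, 7⟩)) (.node 1 (.one ⟨7811, 1, 10⟩) (.one ⟨15032, 1, 8⟩)))) (.node 4 (.node 2 (.node 1 (.one ⟨13987, 2, 8⟩) (.one ⟨5585, 1, 5⟩)) (.node 1 (.one ⟨11377, 2, 6⟩) (.one ⟨3277, 2, 6⟩))) (.node 2 (.node 1 (.one ⟨11941, 1, 10⟩) (.one ⟨6691, 0, 5⟩)) (.node 1 (.one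 ⟨7255, 2, 8⟩) (.one ⟨8371, 2, 5⟩))))) (.node 8 (.node 4 (.node 2 (.node 1 (.one ⟨15929, 0, 6⟩) (.one ⟨11417, 2, 9⟩)) (.node 1 (.one ⟨12569, 0, 8⟩) (.one ⟨16224, 2, 6⟩))) (.node 2 (.node 1 (.one ⟨7987, 1, 6⟩) (.one ⟨7291, 1, 9⟩)) (.node 1 (.one ⟨3365, 1, 8⟩) (.one ⟨11891, 2, 9⟩)))) (.node 4 (.node 2 (.node 1 (.one ⟨3739, 1, 6⟩) (.one ⟨3185, 0, 10⟩)) (.node 1 (.one ⟨11892, 2, 4⟩) (.one ⟨384, 2, 8⟩))) (.node 2 (.node 1 (.one ⟨15385, 1, 9⟩) (.one ⟨9757, 0, 7⟩)) (.node 1 (.one ⟨364, 2, 9⟩) (.one ⟨4309, 2, 9⟩)))))))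
def par10_7_11 : Arr Par :=
  (.node 32 (.node 16 (.node 8 (.node 4 (.node 2 (.node 1 (.one ⟨1867, 2, 7⟩) (.one ⟨8429, 2, 9⟩)) (.node 1 (.one ⟨7340, 2, 8⟩) (.one ⟨6422, 1, 7⟩))) (.node 2 (.node 1 (.one ⟨4013, 2, 5⟩) (.one ⟨14897, 0, 6⟩)) (.node 1 (.one ⟨8557, 2, 7⟩) (.one ⟨6395, 1, 8⟩)))) (.node 4 (.node 2 (.node 1 (.one ⟨8946, 0, 8⟩) (.one ⟨16370, 0, 9⟩)) (.node 1 (.one ⟨5186, 0, 8⟩) (.one ⟨458, 0, 9⟩))) (.node 2 (.node 1 (.one ⟨12021, 1, 10⟩) (.one ⟨223, 1, 10⟩)) (.node 1 (.one ⟨11082, 0, 8⟩) (.one ⟨12607, 0, 10⟩))))) (.node 8 (.node 4 (.node 2 (.node 1 (.one ⟨6673, 2, 8⟩) (.one ⟨14272, 0, 9⟩)) (.node 1 (.one ⟨17182, 2, 8⟩) (.one ⟨10181, 2, 7⟩))) (.node 2 (.node 1 (.one ⟨1732, 2, 8⟩) (.one ⟨4044, 2, 8⟩)) (.node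 1 (.one ⟨8888, 0, 10⟩) (.one ⟨5073, 1, 7⟩)))) (.node 4 (.node 2 (.node 1 (.one ⟨9973, 0, 10⟩) (.one ⟨1880, 0, 8⟩)) (.node 1 (.one ⟨17028, 1, 9⟩) (.one ⟨9938, 2, 9⟩))) (.node 2 (.node 1 (.one ⟨7158, 2, 10⟩) (.one ⟨7228, 0, 7⟩)) (.node 1 (.one ⟨7580, 0, 6⟩) (.one ⟨9706, 2, 5⟩)))))) (.node 16 (.node 8 (.node 4 (.node 2 (.node 1 (.one ⟨4320, 2, 6⟩) (.one ⟨1778, 2, 7⟩)) (.node 1 (.one ⟨12533, 2, 7⟩) (.one ⟨10020, 2, 8⟩))) (.node 2 (.node 1 (.one ⟨12216, 1, 10⟩) (.one ⟨15816, 0, 6⟩)) (.node 1 (.one ⟨9361, 0, 10⟩) (.one ⟨13549, 2, 9⟩)))) (.node 4 (.node 2 (.node 1 (.one ⟨1760, 1, 9⟩) (.one ⟨2665, 2, 9⟩)) (.node 1 (.one ⟨14882, 2, 8⟩) (.one ⟨9526, 0, 9⟩))) (.node 2 (.node 1 (.one ⟨9931, 0, 6⟩) (.one ⟨11578, 0, 10⟩)) (.node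 1 (.one ⟨15585, 2, 9⟩) (.one ⟨11965, 2, 3⟩))))) (.node 8 (.node 4 (.node 2 (.node 1 (.one ⟨11287, 2, 6⟩) (.one ⟨1315, 2, 8⟩)) (.node 1 (.one ⟨4679, 2, 8⟩) (.one ⟨16367, 2, 9⟩))) (.node 2 (.node 1 (.one ⟨15573, 2, 8⟩) (.one ⟨6015, 2, 11⟩)) (.node 1 (.one ⟨8525, 2, 8⟩) (.one ⟨2388, 2, 8⟩)))) (.node 4 (.node 2 (.node 1 (.one ⟨11864, 2, 9⟩) (.one ⟨14716, 2, 10⟩)) (.node 1 (.one ⟨9074, 2, 8⟩) (.one ⟨8723, 2, 8⟩))) (.node 2 (.node 1 (.one ⟨15509, 2, 7⟩) (.one ⟨12306, 2, 9⟩)) (.node 1 (.one ⟨2703, 0, 10⟩) (.one ⟨14178, 2, 5⟩)))))))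
def par10_7_12 : Arr Par :=
  (.node 32 (.node 16 (.node 8 (.node 4 (.node 2 (.node 1 (.one ⟨10697, 2, 8⟩) (.one ⟨15470, 1, 7⟩)) (.node 1 (.one ⟨7234, 0, 11⟩) (.one ⟨10523, 2, 9⟩))) (.node 2 (.node 1 (.one ⟨7893, 1, 9⟩) (.one ⟨9966, 2, 7⟩)) (.node 1 (.one ⟨14527, 2, 7⟩) (.one ⟨2711, 2, 9⟩)))) (.node 4 (.node 2 (.node 1 (.one ⟨12043, 2, 7⟩) (.one ⟨8484, 2, 10⟩)) (.node 1 (.one ⟨7902, 1, 7⟩) (.one ⟨15651, 2, 8⟩))) (.node 2 (.node 1 (.one ⟨8943, 2, 9⟩) (.one ⟨13933, 1, 9⟩)) (.node 1 (.one ⟨1932, 2, 7⟩) (.one ⟨8763, 1, 8⟩))))) (.node 8 (.node 4 (.node 2 (.node 1 (.one ⟨3227, 2, 6⟩) (.one ⟨6074, 0, 10⟩)) (.node 1 (.one ⟨1337, 0, 8⟩) (.one ⟨15885, 2, 11⟩))) (.node 2 (.node 1 (.one ⟨8949, 0, 9⟩) (.one ⟨7280, 1, 8⟩)) (.node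 1 (.one ⟨6110, 0, 7⟩) (.one ⟨9403, 2, 7⟩)))) (.node 4 (.node 2 (.node 1 (.one ⟨13151, 0, 10⟩) (.one ⟨13575, 0, 10⟩)) (.node 1 (.one ⟨4032, 0, 10⟩) (.one ⟨16018, 2, 4⟩))) (.node 2 (.node 1 (.one ⟨10713, 2, 8⟩) (.one ⟨16860, 1, 8⟩)) (.node 1 (.one ⟨13617, 1, 10⟩) (.one ⟨11223, 0, 6⟩)))))) (.node 16 (.node 8 (.node 4 (.node 2 (.node 1 (.one ⟨8142, 1, 9⟩) (.one ⟨16045, 2, 8⟩)) (.node 1 (.one ⟨1681, 0, 10⟩) (.one ⟨5337, 2, 9⟩))) (.node 2 (.node 1 (.one ⟨2023, 0, 10⟩) (.one ⟨11503, 0, 6⟩)) (.node 1 (.one ⟨15361, 2, 9⟩) (.one ⟨124, 1, 9⟩)))) (.node 4 (.node 2 (.node 1 (.one ⟨2726, 1, 10⟩) (.one ⟨11993, 2, 9⟩)) (.node 1 (.one ⟨11996, 2, 9⟩) (.one ⟨11997, 2, 9⟩))) (.node 2 (.node 1 (.one ⟨9844, 0, 10⟩) (.one ⟨15844, 1, 11⟩))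 (.node 1 (.one ⟨16412, 1, 5⟩) (.one ⟨4436, 2, 11⟩))))) (.node 8 (.node 4 (.node 2 (.node 1 (.one ⟨16102, 1, 10⟩) (.one ⟨9167, 0, 7⟩)) (.node 1 (.one ⟨11409, 2, 7⟩) (.one ⟨9707, 2, 5⟩))) (.node 2 (.node 1 (.one ⟨7144, 2, 7⟩) (.one ⟨15736, 0, 9⟩)) (.node 1 (.one ⟨4983, 2, 9⟩) (.one ⟨12010, 0, 7⟩)))) (.node 4 (.node 2 (.node 1 (.one ⟨9180, 2, 3⟩) (.one ⟨11219, 2, 7⟩)) (.node 1 (.one ⟨12429, 2, 6⟩) (.one ⟨7922, 2, 9⟩))) (.node 2 (.node 1 (.one ⟨6617, 2, 9⟩) (.one ⟨6191, 2, 5⟩)) (.node 1 (.one ⟨16397, 0, 7⟩) (.one ⟨1344, 0, 8⟩)))))))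
def par10_7_13 : Arr Par :=
  (.node 32 (.node 16 (.node 8 (.node 4 (.node 2 (.node 1 (.one ⟨8288, 2, 5⟩) (.one ⟨15746, 0, 7⟩)) (.node 1 (.one ⟨7460, 2, 9⟩) (.one ⟨7003, 2, 9⟩))) (.node 2 (.node 1 (.one ⟨11751, 2, 10⟩) (.one ⟨3436, 1, 9⟩)) (.node 1 (.one ⟨10918, 2, 9⟩) (.one ⟨12075, 0, 5⟩)))) (.node 4 (.node 2 (.node 1 (.one ⟨5310, 0, 7⟩) (.one ⟨9536, 2, 11⟩)) (.node 1 (.one ⟨12878, 2, 8⟩) (.one ⟨13921, 2, 8⟩))) (.node 2 (.node 1 (.one ⟨16546, 2, 7⟩) (.one ⟨313, 1, 8⟩)) (.node 1 (.one ⟨11570, 1, 6⟩) (.one ⟨2913, 0, 4⟩))))) (.node 8 (.node 4 (.node 2 (.node 1 (.one ⟨10563, 1, 8⟩) (.one ⟨14099, 1, 6⟩)) (.node 1 (.one ⟨6736, 0, 4⟩) (.one ⟨14497, 0, 3⟩))) (.node 2 (.node 1 (.one ⟨6469, 2, 8⟩) (.one ⟨2473, 1, 7⟩)) (.node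 1 (.one ⟨4516, 1, 5⟩) (.one ⟨7850, 1, 7⟩)))) (.node 4 (.node 2 (.node 1 (.one ⟨7466, 1, 9⟩) (.one ⟨3293, 1, 8⟩)) (.node 1 (.one ⟨51, 2, 8⟩) (.one ⟨13639, 2, 10⟩))) (.node 2 (.node 1 (.one ⟨14027, 1, 8⟩) (.one ⟨13645, 2, 10⟩)) (.node 1 (.one ⟨15007, 0, 7⟩) (.one ⟨4212, 2, 6⟩)))))) (.node 16 (.node 8 (.node 4 (.node 2 (.node 1 (.one ⟨16234, 1, 8⟩) (.one ⟨16609, 2, 9⟩)) (.node 1 (.one ⟨3452, 2, 9⟩) (.one ⟨8091, 1, 7⟩))) (.node 2 (.node 1 (.one ⟨2430, 0, 9⟩) (.one ⟨8938, 0, 9⟩)) (.node 1 (.one ⟨4854, 2, 9⟩) (.one ⟨3493, 2, 8⟩)))) (.node 4 (.node 2 (.node 1 (.one ⟨9098, 2, 10⟩) (.one ⟨8475, 2, 8⟩)) (.node 1 (.one ⟨14233, 0, 10⟩) (.one ⟨16988, 0, 10⟩))) (.node 2 (.node 1 (.one ⟨12312, 1, 7⟩) (.one ⟨7973, 0, 7⟩)) (.node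 1 (.one ⟨11519, 0, 9⟩) (.one ⟨16195, 2, 7⟩))))) (.node 8 (.node 4 (.node 2 (.node 1 (.one ⟨7057, 2, 9⟩) (.one ⟨15945, 2, 3⟩)) (.node 1 (.one ⟨7205, 2, 9⟩) (.one ⟨16734, 0, 8⟩))) (.node 2 (.node 1 (.one ⟨12161, 1, 9⟩) (.one ⟨12880, 2, 8⟩)) (.node 1 (.one ⟨2691, 2, 9⟩) (.one ⟨16130, 2, 9⟩)))) (.node 4 (.node 2 (.node 1 (.one ⟨13999, 1, 9⟩) (.one ⟨11491, 0, 8⟩)) (.node 1 (.one ⟨14330, 2, 8⟩) (.one ⟨7444, 1, 5⟩))) (.node 2 (.node 1 (.one ⟨10479, 2, 9⟩) (.one ⟨8019, 1, 4⟩)) (.node 1 (.one ⟨5775, 2, 11⟩) (.one ⟨5723, 2, 4⟩)))))))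
def par10_7_14 : Arr Par :=
  (.node 32 (.node 16 (.node 8 (.node 4 (.node 2 (.node 1 (.one ⟨6785, 2, 10⟩) (.one ⟨13853, 2, 9⟩)) (.node 1 (.one ⟨14767, 2, 10⟩) (.one ⟨14856, 2, 9⟩))) (.node 2 (.node 1 (.one ⟨8318, 0, 7⟩) (.one ⟨5828, 0, 9⟩)) (.node 1 (.one ⟨5272, 1, 5⟩) (.one ⟨4380, 0, 8⟩)))) (.node 4 (.node 2 (.node 1 (.one ⟨7813, 0, 5⟩) (.one ⟨7807, 0, 8⟩)) (.node 1 (.one ⟨7044, 2, 8⟩) (.one ⟨7808, 0, 7⟩))) (.node 2 (.node 1 (.one ⟨6967, 2, 10⟩) (.one ⟨1621, 2, 8⟩)) (.node 1 (.one ⟨7814, 0, 5⟩) (.one ⟨15739, 1, 10⟩))))) (.node 8 (.node 4 (.node 2 (.node 1 (.one ⟨9252, 2, 11⟩) (.one ⟨4859, 1, 7⟩)) (.node 1 (.one ⟨14564, 0, 8⟩) (.one ⟨6975, 2, 7⟩))) (.node 2 (.node 1 (.one ⟨3388, 2, 7⟩) (.one ⟨15575, 2, 7⟩)) (.node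 1 (.one ⟨10975, 2, 7⟩) (.one ⟨11189, 1, 4⟩)))) (.node 4 (.node 2 (.node 1 (.one ⟨2153, 2, 10⟩) (.one ⟨11800, 1, 10⟩)) (.node 1 (.one ⟨2036, 1, 9⟩) (.one ⟨11674, 2, 6⟩))) (.node 2 (.node 1 (.one ⟨14112, 1, 5⟩) (.one ⟨12234, 2, 8⟩)) (.node 1 (.one ⟨11746, 2, 8⟩) (.one ⟨6949, 0, 10⟩)))))) (.node 16 (.node 8 (.node 4 (.node 2 (.node 1 (.one ⟨6001, 1, 9⟩) (.one ⟨2657, 2, 5⟩)) (.node 1 (.one ⟨13361, 2, 10⟩) (.one ⟨463, 2, 9⟩))) (.node 2 (.node 1 (.one ⟨2033, 1, 7⟩) (.one ⟨10691, 2, 6⟩)) (.node 1 (.one ⟨11134, 0, 7⟩) (.one ⟨10434, 2, 7⟩)))) (.node 4 (.node 2 (.node 1 (.one ⟨8527, 0, 9⟩) (.one ⟨858, 0, 10⟩)) (.node 1 (.one ⟨14812, 0, 4⟩) (.one ⟨11237, 2, 7⟩))) (.node 2 (.node 1 (.one ⟨4804, 0, 9⟩) (.one ⟨6071, 0, 9⟩)) (.node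 1 (.one ⟨10952, 0, 10⟩) (.one ⟨10359, 2, 8⟩))))) (.node 8 (.node 4 (.node 2 (.node 1 (.one ⟨16448, 1, 9⟩) (.one ⟨6323, 0, 9⟩)) (.node 1 (.one ⟨11436, 1, 8⟩) (.one ⟨1225, 2, 8⟩))) (.node 2 (.node 1 (.one ⟨2093, 2, 9⟩) (.one ⟨6128, 0, 8⟩)) (.node 1 (.one ⟨13655, 0, 8⟩) (.one ⟨8777, 2, 9⟩)))) (.node 4 (.node 2 (.node 1 (.one ⟨10013, 2, 11⟩) (.one ⟨4394, 0, 8⟩)) (.node 1 (.one ⟨14780, 2, 9⟩) (.one ⟨12649, 2, 9⟩))) (.node 2 (.node 1 (.one ⟨6573, 2, 8⟩) (.one ⟨11821, 0, 7⟩)) (.node 1 (.one ⟨9175, 0, 6⟩) (.one ⟨8573, 2, 9⟩)))))))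
def par10_7_15 : Arr Par :=
  (.node 32 (.node 16 (.node 8 (.node 4 (.node 2 (.node 1 (.one ⟨8008, 2, 8⟩) (.one ⟨11823, 2, 6⟩)) (.node 1 (.one ⟨13026, 2, 8⟩) (.one ⟨15367, 1, 10⟩))) (.node 2 (.node 1 (.one ⟨14755, 1, 9⟩) (.one ⟨10139, 2, 8⟩)) (.node 1 (.one ⟨10941, 2, 10⟩) (.one ⟨12508, 1, 9⟩)))) (.node 4 (.node 2 (.node 1 (.one ⟨13333, 0, 8⟩) (.one ⟨4692, 2, 7⟩)) (.node 1 (.one ⟨9975, 2, 8⟩) (.one ⟨16896, 0, 7⟩))) (.node 2 (.node 1 (.one ⟨14950, 2, 7⟩) (.one ⟨15956, 2, 9⟩)) (.node 1 (.one ⟨3345, 0, 8⟩) (.one ⟨8316, 0, 9⟩))))) (.node 8 (.node 4 (.node 2 (.node 1 (.one ⟨8510, 2, 8⟩) (.one ⟨7878, 0, 8⟩)) (.node 1 (.one ⟨153, 0, 4⟩) (.one ⟨14672, 0, 11⟩))) (.node 2 (.node 1 (.one ⟨13078, 0, 9⟩) (.one ⟨15243, 0, 10⟩))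 (.node 1 (.one ⟨12438, 2, 9⟩) (.one ⟨4277, 2, 7⟩)))) (.node 4 (.node 2 (.node 1 (.one ⟨710, 2, 9⟩) (.one ⟨9606, 1, 2⟩)) (.node 1 (.one ⟨14435, 0, 8⟩) (.one ⟨12440, 2, 11⟩))) (.node 2 (.node 1 (.one ⟨10005, 0, 10⟩) (.one ⟨15981, 2, 8⟩)) (.node 1 (.one ⟨6660, 1, 8⟩) (.one ⟨11943, 0, 9⟩)))))) (.node 16 (.node 8 (.node 4 (.node 2 (.node 1 (.one ⟨5625, 2, 9⟩) (.one ⟨9357, 2, 9⟩)) (.node 1 (.one ⟨6393, 1, 11⟩) (.one ⟨10405, 2, 10⟩))) (.node 2 (.node 1 (.one ⟨6384, 2, 8⟩) (.one ⟨10478, 2, 5⟩)) (.node 1 (.one ⟨2446, 0, 8⟩) (.one ⟨9605, 1, 2⟩)))) (.node 4 (.node 2 (.node 1 (.one ⟨6354, 2, 11⟩) (.one ⟨2223, 1, 3⟩)) (.node 1 (.one ⟨5664, 0, 10⟩) (.one ⟨14393, 0, 9⟩))) (.node 2 (.node 1 (.one ⟨14642, 0, 9⟩) (.one ⟨252, 2, 9⟩))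 (.node 1 (.one ⟨254, 2, 9⟩) (.one ⟨14361, 2, 8⟩))))) (.node 8 (.node 4 (.node 2 (.node 1 (.one ⟨4966, 2, 9⟩) (.one ⟨9940, 2, 9⟩)) (.node 1 (.one ⟨7097, 0, 9⟩) (.one ⟨6432, 0, 8⟩))) (.node 2 (.node 1 (.one ⟨1010, 2, 6⟩) (.one ⟨12647, 2, 10⟩)) (.node 1 (.one ⟨3600, 0, 8⟩) (.one ⟨13055, 2, 9⟩)))) (.node 4 (.node 2 (.node 1 (.one ⟨1188, 2, 7⟩) (.one ⟨13042, 2, 9⟩)) (.node 1 (.one ⟨855, 2, 5⟩) (.one ⟨5259, 2, 8⟩))) (.node 2 (.node 1 (.one ⟨10711, 2, 7⟩) (.one ⟨5294, 2, 7⟩)) (.node 1 (.one ⟨10729, 2, 9⟩) (.one ⟨16273, 0, 9⟩)))))))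
def par10_7 : Arr Par :=
  (.node 512 (.node 256 (.node 128 (.node 64 par10_7_0 par10_7_1) (.node 64 par10_7_2 par10_7_3)) (.node 128 (.node 64 par10_7_4 par10_7_5) (.node 64 par10_7_6 par10_7_7))) (.node 256 (.node 128 (.node 64 par10_7_8 par10_7_9) (.node 64 par10_7_10 par10_7_11)) (.node 128 (.node 64 par10_7_12 par10_7_13) (.node 64 par10_7_14 par10_7_15))))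
def par10_8_0 : Arr Par :=
  (.node 32 (.node 16 (.node 8 (.node 4 (.node 2 (.node 1 (.one ⟨12151, 0, 10⟩) (.one ⟨5701, 1, 8⟩)) (.node 1 (.one ⟨9004, 0, 6⟩) (.one ⟨2027, 0, 10⟩))) (.node 2 (.node 1 (.one ⟨8734, 2, 10⟩) (.one ⟨1104, 1, 8⟩)) (.node 1 (.one ⟨17177, 2, 7⟩) (.one ⟨16908, 1, 8⟩)))) (.node 4 (.node 2 (.node 1 (.one ⟨4772, 0, 9⟩) (.one ⟨14907, 1, 10⟩)) (.node 1 (.one ⟨12736, 2, 8⟩) (.one ⟨7826, 2, 5⟩))) (.node 2 (.node 1 (.one ⟨1508, 0, 7⟩) (.one ⟨5056, 0, 8⟩)) (.node 1 (.one ⟨4518, 1, 6⟩) (.one ⟨1546, 2, 9⟩))))) (.node 8 (.node 4 (.node 2 (.node 1 (.one ⟨8874, 1, 9⟩) (.one ⟨8084, 2, 8⟩)) (.node 1 (.one ⟨7084, 1, 10⟩) (.one ⟨6964, 2, 9⟩))) (.node 2 (.node 1 (.one ⟨8350, 2, 7⟩) (.one ⟨3300, 0, 7⟩)) (.node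 1 (.one ⟨2458, 2, 11⟩) (.one ⟨6279, 1, 9⟩)))) (.node 4 (.node 2 (.node 1 (.one ⟨667, 2, 10⟩) (.one ⟨3589, 1, 8⟩)) (.node 1 (.one ⟨8871, 2, 9⟩) (.one ⟨681, 2, 8⟩))) (.node 2 (.node 1 (.one ⟨15004, 0, 8⟩) (.one ⟨8872, 2, 9⟩)) (.node 1 (.one ⟨6802, 1, 9⟩) (.one ⟨10392, 2, 8⟩)))))) (.node 16 (.node 8 (.node 4 (.node 2 (.node 1 (.one ⟨7006, 0, 5⟩) (.one ⟨15883, 2, 6⟩)) (.node 1 (.one ⟨8219, 1, 9⟩) (.one ⟨7137, 0, 7⟩))) (.node 2 (.node 1 (.one ⟨8758, 2, 9⟩) (.one ⟨7959, 0, 8⟩)) (.node 1 (.one ⟨2813, 2, 7⟩) (.one ⟨10404, 2, 10⟩)))) (.node 4 (.node 2 (.node 1 (.one ⟨3532, 1, 9⟩) (.one ⟨2528, 1, 7⟩)) (.node 1 (.one ⟨11476, 0, 6⟩) (.one ⟨2289, 2, 10⟩))) (.node 2 (.node 1 (.one ⟨6, 0, 9⟩) (.one ⟨2149, 0, 9⟩)) (.node 1 (.one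 ⟨12228, 0, 9⟩) (.one ⟨7693, 1, 7⟩))))) (.node 8 (.node 4 (.node 2 (.node 1 (.one ⟨11044, 2, 10⟩) (.one ⟨2551, 1, 11⟩)) (.node 1 (.one ⟨8286, 1, 4⟩) (.one ⟨16855, 0, 9⟩))) (.node 2 (.node 1 (.one ⟨4408, 2, 8⟩) (.one ⟨14734, 1, 3⟩)) (.node 1 (.one ⟨12623, 1, 9⟩) (.one ⟨3271, 1, 3⟩)))) (.node 4 (.node 2 (.node 1 (.one ⟨4805, 1, 8⟩) (.one ⟨12145, 0, 10⟩)) (.node 1 (.one ⟨9493, 0, 7⟩) (.one ⟨13553, 0, 9⟩))) (.node 2 (.node 1 (.one ⟨3369, 1, 10⟩) (.one ⟨12353, 0, 11⟩)) (.node 1 (.one ⟨10084, 0, 9⟩) (.one ⟨581, 0, 10⟩)))))))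
def par10_8_1 : Arr Par :=
  (.node 32 (.node 16 (.node 8 (.node 4 (.node 2 (.node 1 (.one ⟨15078, 2, 8⟩) (.one ⟨16586, 2, 10⟩)) (.node 1 (.one ⟨4268, 2, 8⟩) (.one ⟨16037, 2, 8⟩))) (.node 2 (.node 1 (.one ⟨5323, 2, 11⟩) (.one ⟨3490, 2, 9⟩)) (.node 1 (.one ⟨11609, 1, 10⟩) (.one ⟨8561, 0, 5⟩)))) (.node 4 (.node 2 (.node 1 (.one ⟨5616, 1, 10⟩) (.one ⟨3108, 2, 9⟩)) (.node 1 (.one ⟨8427, 2, 7⟩) (.one ⟨4856, 0, 11⟩))) (.node 2 (.node 1 (.one ⟨1174, 1, 6⟩) (.one ⟨11792, 0, 6⟩)) (.node 1 (.one ⟨5025, 1, 10⟩) (.one ⟨1495, 1, 6⟩))))) (.node 8 (.node 4 (.node 2 (.node 1 (.one ⟨9490, 0, 6⟩) (.one ⟨13938, 2, 5⟩)) (.node 1 (.one ⟨1814, 1, 7⟩) (.one ⟨7674, 0, 8⟩))) (.node 2 (.node 1 (.one ⟨5699, 0, 6⟩) (.one ⟨8234, 0, 7⟩)) (.node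 1 (.one ⟨4081, 1, 5⟩) (.one ⟨10979, 1, 6⟩)))) (.node 4 (.node 2 (.node 1 (.one ⟨12811, 0, 9⟩) (.one ⟨6837, 0, 6⟩)) (.node 1 (.one ⟨7502, 1, 10⟩) (.one ⟨11738, 1, 6⟩))) (.node 2 (.node 1 (.one ⟨16889, 1, 6⟩) (.one ⟨15016, 0, 8⟩)) (.node 1 (.one ⟨9163, 2, 3⟩) (.one ⟨5561, 1, 8⟩)))))) (.node 16 (.node 8 (.node 4 (.node 2 (.node 1 (.one ⟨1154, 2, 4⟩) (.one ⟨4677, 2, 9⟩)) (.node 1 (.one ⟨14250, 0, 8⟩) (.one ⟨4032, 2, 10⟩))) (.node 2 (.node 1 (.one ⟨4688, 2, 7⟩) (.one ⟨7260, 0, 8⟩)) (.node 1 (.one ⟨124, 0, 9⟩) (.one ⟨8698, 2, 8⟩)))) (.node 4 (.node 2 (.node 1 (.one ⟨3924, 1, 8⟩) (.one ⟨67, 0, 11⟩)) (.node 1 (.one ⟨4495, 2, 7⟩) (.one ⟨8678, 2, 9⟩))) (.node 2 (.node 1 (.one ⟨4296, 0, 7⟩) (.one ⟨9446, 0, 4⟩)) (.node 1 (.one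 ⟨4420, 2, 5⟩) (.one ⟨6285, 2, 6⟩))))) (.node 8 (.node 4 (.node 2 (.node 1 (.one ⟨10633, 2, 10⟩) (.one ⟨6625, 2, 10⟩)) (.node 1 (.one ⟨11039, 2, 9⟩) (.one ⟨3403, 2, 5⟩))) (.node 2 (.node 1 (.one ⟨15499, 2, 10⟩) (.one ⟨12656, 0, 10⟩)) (.node 1 (.one ⟨12026, 0, 5⟩) (.one ⟨6699, 2, 9⟩)))) (.node 4 (.node 2 (.node 1 (.one ⟨8293, 0, 9⟩) (.one ⟨10676, 0, 9⟩)) (.node 1 (.one ⟨6473, 1, 10⟩) (.one ⟨17190, 2, 10⟩))) (.node 2 (.node 1 (.one ⟨8886, 2, 8⟩) (.one ⟨12250, 2, 11⟩)) (.node 1 (.one ⟨4093, 2, 6⟩) (.one ⟨6982, 2, 7⟩)))))))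
def par10_8_2 : Arr Par :=
  (.node 32 (.node 16 (.node 8 (.node 4 (.node 2 (.node 1 (.one ⟨3270, 2, 8⟩) (.one ⟨5537, 1, 10⟩)) (.node 1 (.one ⟨3832, 1, 5⟩) (.one ⟨6448, 2, 9⟩))) (.node 2 (.node 1 (.one ⟨3049, 0, 9⟩) (.one ⟨10723, 2, 9⟩)) (.node 1 (.one ⟨3048, 0, 6⟩) (.one ⟨6386, 2, 8⟩)))) (.node 4 (.node 2 (.node 1 (.one ⟨9775, 2, 5⟩) (.one ⟨7850, 2, 7⟩)) (.node 1 (.one ⟨12199, 2, 9⟩) (.one ⟨14997, 1, 10⟩))) (.node 2 (.node 1 (.one ⟨8772, 2, 11⟩) (.one ⟨15696, 0, 5⟩)) (.node 1 (.one ⟨6698, 2, 10⟩) (.one ⟨4079, 0, 8⟩))))) (.node 8 (.node 4 (.node 2 (.node 1 (.one ⟨4746, 2, 8⟩) (.one ⟨16857, 0, 9⟩)) (.node 1 (.one ⟨145, 1, 9⟩) (.one ⟨2338, 2, 8⟩))) (.node 2 (.node 1 (.one ⟨287, 1, 9⟩) (.one ⟨567, 2, 10⟩)) (.node 1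 (.one ⟨3960, 1, 10⟩) (.one ⟨4488, 2, 10⟩)))) (.node 4 (.node 2 (.node 1 (.one ⟨1963, 2, 8⟩) (.one ⟨9161, 0, 8⟩)) (.node 1 (.one ⟨4022, 0, 7⟩) (.one ⟨5823, 1, 9⟩))) (.node 2 (.node 1 (.one ⟨9628, 1, 6⟩) (.one ⟨5702, 1, 11⟩)) (.node 1 (.one ⟨9752, 1, 6⟩) (.one ⟨7477, 0, 8⟩)))))) (.node 16 (.node 8 (.node 4 (.node 2 (.node 1 (.one ⟨3975, 1, 8⟩) (.one ⟨8049, 0, 4⟩)) (.node 1 (.one ⟨3980, 1, 9⟩) (.one ⟨1950, 0, 8⟩))) (.node 2 (.node 1 (.one ⟨252, 1, 9⟩) (.one ⟨5466, 0, 8⟩)) (.node 1 (.one ⟨13365, 2, 8⟩) (.one ⟨4034, 2, 9⟩)))) (.node 4 (.node 2 (.node 1 (.one ⟨4065, 2, 8⟩) (.one ⟨12118, 2, 10⟩)) (.node 1 (.one ⟨12084, 2, 10⟩) (.one ⟨12198, 2, 8⟩))) (.node 2 (.node 1 (.one ⟨9482, 0, 10⟩) (.one ⟨9814, 0, 9⟩)) (.node 1 (.one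 ⟨11947, 0, 5⟩) (.one ⟨16453, 1, 10⟩))))) (.node 8 (.node 4 (.node 2 (.node 1 (.one ⟨7877, 2, 7⟩) (.one ⟨2245, 2, 11⟩)) (.node 1 (.one ⟨8067, 0, 10⟩) (.one ⟨8286, 2, 4⟩))) (.node 2 (.node 1 (.one ⟨16530, 0, 9⟩) (.one ⟨16257, 2, 7⟩)) (.node 1 (.one ⟨1709, 2, 9⟩) (.one ⟨7361, 2, 8⟩)))) (.node 4 (.node 2 (.node 1 (.one ⟨11235, 2, 8⟩) (.one ⟨7130, 0, 9⟩)) (.node 1 (.one ⟨9834, 2, 7⟩) (.one ⟨2771, 2, 9⟩))) (.node 2 (.node 1 (.one ⟨14639, 2, 5⟩) (.one ⟨2266, 2, 9⟩)) (.node 1 (.one ⟨14398, 2, 9⟩) (.one ⟨11216, 0, 9⟩)))))))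
def par10_8_3 : Arr Par :=
  (.node 32 (.node 16 (.node 8 (.node 4 (.node 2 (.node 1 (.one ⟨8642, 1, 7⟩) (.one ⟨13870, 1, 8⟩)) (.node 1 (.one ⟨10788, 2, 10⟩) (.one ⟨16535, 1, 8⟩))) (.node 2 (.node 1 (.one ⟨5108, 1, 10⟩) (.one ⟨10610, 1, 7⟩)) (.node 1 (.one ⟨2448, 2, 8⟩) (.one ⟨16658, 2, 6⟩)))) (.node 4 (.node 2 (.node 1 (.one ⟨3760, 2, 10⟩) (.one ⟨8718, 0, 8⟩)) (.node 1 (.one ⟨15239, 1, 7⟩) (.one ⟨16645, 2, 9⟩))) (.node 2 (.node 1 (.one ⟨3807, 2, 7⟩) (.one ⟨15939, 1, 9⟩)) (.node 1 (.one ⟨2938, 1, 11⟩) (.one ⟨530, 1, 6⟩))))) (.node 8 (.node 4 (.node 2 (.node 1 (.one ⟨15855, 2, 7⟩) (.one ⟨4406, 2, 7⟩)) (.node 1 (.one ⟨8010, 0, 9⟩) (.one ⟨16545, 2, 7⟩))) (.node 2 (.node 1 (.one ⟨11009, 2, 9⟩) (.one ⟨7332, 2, 8⟩)) (.node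 1 (.one ⟨8521, 0, 7⟩) (.one ⟨13482, 1, 9⟩)))) (.node 4 (.node 2 (.node 1 (.one ⟨6524, 1, 5⟩) (.one ⟨3034, 1, 11⟩)) (.node 1 (.one ⟨16084, 1, 10⟩) (.one ⟨8641, 2, 9⟩))) (.node 2 (.node 1 (.one ⟨2204, 1, 9⟩) (.one ⟨16734, 2, 8⟩)) (.node 1 (.one ⟨8026, 2, 9⟩) (.one ⟨11192, 0, 8⟩)))))) (.node 16 (.node 8 (.node 4 (.node 2 (.node 1 (.one ⟨16662, 2, 7⟩) (.one ⟨7716, 2, 8⟩)) (.node 1 (.one ⟨13217, 2, 9⟩) (.one ⟨2452, 2, 9⟩))) (.node 2 (.node 1 (.one ⟨15541, 1, 7⟩) (.one ⟨637, 0, 9⟩)) (.node 1 (.one ⟨11556, 2, 8⟩) (.one ⟨552, 2, 7⟩)))) (.node 4 (.node 2 (.node 1 (.one ⟨10561, 1, 8⟩) (.one ⟨14846, 2, 9⟩)) (.node 1 (.one ⟨57, 2, 7⟩) (.one ⟨17116, 1, 6⟩))) (.node 2 (.node 1 (.one ⟨3829, 0, 7⟩) (.one ⟨90, 2, 8⟩)) (.node 1 (.one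 ⟨10265, 0, 7⟩) (.one ⟨7042, 2, 8⟩))))) (.node 8 (.node 4 (.node 2 (.node 1 (.one ⟨1420, 2, 9⟩) (.one ⟨13230, 0, 10⟩)) (.node 1 (.one ⟨2606, 1, 9⟩) (.one ⟨7081, 2, 10⟩))) (.node 2 (.node 1 (.one ⟨4605, 0, 6⟩) (.one ⟨17089, 1, 4⟩)) (.node 1 (.one ⟨260, 0, 10⟩) (.one ⟨6361, 2, 8⟩)))) (.node 4 (.node 2 (.node 1 (.one ⟨12229, 0, 8⟩) (.one ⟨1270, 2, 9⟩)) (.node 1 (.one ⟨7129, 2, 9⟩) (.one ⟨13042, 1, 9⟩))) (.node 2 (.node 1 (.one ⟨11193, 2, 10⟩) (.one ⟨10511, 2, 11⟩)) (.node 1 (.one ⟨12902, 0, 7⟩) (.one ⟨13093, 2, 10⟩)))))))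
def par10_8_4 : Arr Par :=
  (.node 32 (.node 16 (.node 8 (.node 4 (.node 2 (.node 1 (.one ⟨213, 0, 6⟩) (.one ⟨125, 1, 7⟩)) (.node 1 (.one ⟨11070, 2, 9⟩) (.one ⟨10482, 2, 8⟩))) (.node 2 (.node 1 (.one ⟨4587, 2, 9⟩) (.one ⟨6467, 0, 8⟩)) (.node 1 (.one ⟨12032, 2, 9⟩) (.one ⟨12849, 1, 9⟩)))) (.node 4 (.node 2 (.node 1 (.one ⟨8194, 1, 7⟩) (.one ⟨11516, 2, 8⟩)) (.node 1 (.one ⟨11375, 1, 4⟩) (.one ⟨17129, 1, 4⟩))) (.node 2 (.node 1 (.one ⟨3738, 1, 9⟩) (.one ⟨2505, 1, 8⟩)) (.node 1 (.one ⟨15867, 2, 8⟩) (.one ⟨8423, 1, 8⟩))))) (.node 8 (.node 4 (.node 2 (.node 1 (.one ⟨10390, 2, 8⟩) (.one ⟨15866, 2, 7⟩)) (.node 1 (.one ⟨9980, 0, 10⟩) (.one ⟨6595, 2, 8⟩))) (.node 2 (.node 1 (.one ⟨16580, 2, 8⟩) (.one ⟨10914, 0, 8⟩)) (.node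 1 (.one ⟨5203, 2, 7⟩) (.one ⟨4281, 1, 9⟩)))) (.node 4 (.node 2 (.node 1 (.one ⟨15992, 2, 11⟩) (.one ⟨16001, 2, 7⟩)) (.node 1 (.one ⟨9437, 0, 9⟩) (.one ⟨10114, 1, 7⟩))) (.node 2 (.node 1 (.one ⟨15535, 1, 9⟩) (.one ⟨11391, 1, 8⟩)) (.node 1 (.one ⟨13616, 1, 8⟩) (.one ⟨2875, 1, 9⟩)))))) (.node 16 (.node 8 (.node 4 (.node 2 (.node 1 (.one ⟨11803, 2, 9⟩) (.one ⟨1158, 1, 9⟩)) (.node 1 (.one ⟨8755, 2, 9⟩) (.one ⟨10197, 0, 9⟩))) (.node 2 (.node 1 (.one ⟨2986, 2, 9⟩) (.one ⟨15628, 0, 8⟩)) (.node 1 (.one ⟨14310, 2, 9⟩) (.one ⟨846, 1, 7⟩)))) (.node 4 (.node 2 (.node 1 (.one ⟨14632, 1, 9⟩) (.one ⟨14793, 0, 9⟩)) (.node 1 (.one ⟨14292, 2, 11⟩) (.one ⟨14290, 2, 8⟩))) (.node 2 (.node 1 (.one ⟨163, 2, 9⟩) (.one ⟨14289, 2, 9⟩)) (.node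 1 (.one ⟨156, 2, 10⟩) (.one ⟨12957, 2, 8⟩))))) (.node 8 (.node 4 (.node 2 (.node 1 (.one ⟨10264, 2, 9⟩) (.one ⟨5034, 2, 8⟩)) (.node 1 (.one ⟨1648, 2, 9⟩) (.one ⟨13381, 2, 4⟩))) (.node 2 (.node 1 (.one ⟨10368, 2, 9⟩) (.one ⟨5226, 2, 7⟩)) (.node 1 (.one ⟨12129, 0, 7⟩) (.one ⟨8206, 2, 7⟩)))) (.node 4 (.node 2 (.node 1 (.one ⟨15418, 0, 10⟩) (.one ⟨12185, 0, 9⟩)) (.node 1 (.one ⟨13420, 0, 11⟩) (.one ⟨1093, 2, 9⟩))) (.node 2 (.node 1 (.one ⟨3066, 0, 6⟩) (.one ⟨14116, 1, 8⟩)) (.node 1 (.one ⟨12070, 2, 7⟩) (.one ⟨9331, 1, 4⟩)))))))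
def par10_8_5 : Arr Par :=
  (.node 32 (.node 16 (.node 8 (.node 4 (.node 2 (.node 1 (.one ⟨7775, 1, 9⟩) (.one ⟨8783, 2, 10⟩)) (.node 1 (.one ⟨3922, 0, 8⟩) (.one ⟨106, 2, 8⟩))) (.node 2 (.node 1 (.one ⟨3153, 0, 7⟩) (.one ⟨14392, 0, 9⟩)) (.node 1 (.one ⟨5583, 1, 3⟩) (.one ⟨8318, 2, 7⟩)))) (.node 4 (.node 2 (.node 1 (.one ⟨11779, 0, 9⟩) (.one ⟨10750, 2, 6⟩)) (.node 1 (.one ⟨13285, 2, 7⟩) (.one ⟨363, 2, 9⟩))) (.node 2 (.node 1 (.one ⟨938, 0, 8⟩) (.one ⟨15798, 2, 7⟩)) (.node 1 (.one ⟨15042, 2, 7⟩) (.one ⟨3594, 2, 8⟩))))) (.node 8 (.node 4 (.node 2 (.node 1 (.one ⟨10699, 2, 9⟩) (.one ⟨8928, 2, 6⟩)) (.node 1 (.one ⟨15149, 2, 7⟩) (.one ⟨1335, 2, 8⟩))) (.node 2 (.node 1 (.one ⟨12413, 2, 9⟩) (.one ⟨4678, 0, 9⟩)) (.node 1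 (.one ⟨16671, 1, 9⟩) (.one ⟨2732, 1, 9⟩)))) (.node 4 (.node 2 (.node 1 (.one ⟨13746, 2, 8⟩) (.one ⟨14281, 2, 10⟩)) (.node 1 (.one ⟨11947, 1, 5⟩) (.one ⟨1082, 0, 7⟩))) (.node 2 (.node 1 (.one ⟨2360, 2, 9⟩) (.one ⟨1123, 1, 10⟩)) (.node 1 (.one ⟨5540, 1, 7⟩) (.one ⟨9413, 2, 6⟩)))))) (.node 16 (.node 8 (.node 4 (.node 2 (.node 1 (.one ⟨16660, 1, 11⟩) (.one ⟨12772, 2, 8⟩)) (.node 1 (.one ⟨11606, 2, 11⟩) (.one ⟨8853, 0, 7⟩))) (.node 2 (.node 1 (.one ⟨16619, 2, 11⟩) (.one ⟨15045, 2, 10⟩)) (.node 1 (.one ⟨2817, 0, 8⟩) (.one ⟨3120, 1, 6⟩)))) (.node 4 (.node 2 (.node 1 (.one ⟨1134, 1, 6⟩) (.one ⟨9331, 2, 4⟩)) (.node 1 (.one ⟨8289, 0, 10⟩) (.one ⟨14804, 2, 4⟩))) (.node 2 (.node 1 (.one ⟨1374, 0, 8⟩) (.one ⟨10113, 2, 6⟩)) (.node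 1 (.one ⟨3856, 1, 6⟩) (.one ⟨3426, 2, 12⟩))))) (.node 8 (.node 4 (.node 2 (.node 1 (.one ⟨8041, 0, 9⟩) (.one ⟨15261, 0, 4⟩)) (.node 1 (.one ⟨6629, 2, 8⟩) (.one ⟨4020, 2, 5⟩))) (.node 2 (.node 1 (.one ⟨5816, 0, 4⟩) (.one ⟨12304, 2, 6⟩)) (.node 1 (.one ⟨3298, 0, 7⟩) (.one ⟨8266, 1, 8⟩)))) (.node 4 (.node 2 (.node 1 (.one ⟨6373, 1, 7⟩) (.one ⟨4625, 1, 11⟩)) (.node 1 (.one ⟨11141, 2, 10⟩) (.one ⟨3040, 2, 8⟩))) (.node 2 (.node 1 (.one ⟨3947, 0, 10⟩) (.one ⟨11081, 2, 8⟩)) (.node 1 (.one ⟨3085, 2, 8⟩) (.one ⟨16739, 0, 9⟩)))))))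
def par10_8_6 : Arr Par :=
  (.node 32 (.node 16 (.node 8 (.node 4 (.node 2 (.node 1 (.one ⟨13203, 0, 6⟩) (.one ⟨8603, 2, 7⟩)) (.node 1 (.one ⟨335, 2, 8⟩) (.one ⟨15888, 2, 10⟩))) (.node 2 (.node 1 (.one ⟨11085, 2, 8⟩) (.one ⟨4294, 1, 8⟩)) (.node 1 (.one ⟨7597, 2, 7⟩) (.one ⟨16613, 2, 9⟩)))) (.node 4 (.node 2 (.node 1 (.one ⟨14643, 2, 9⟩) (.one ⟨8991, 1, 7⟩)) (.node 1 (.one ⟨1323, 0, 7⟩) (.one ⟨12625, 2, 9⟩))) (.node 2 (.node 1 (.one ⟨10940, 2, 10⟩) (.one ⟨9838, 2, 3⟩)) (.node 1 (.one ⟨17100, 0, 5⟩) (.one ⟨5231, 2, 6⟩))))) (.node 8 (.node 4 (.node 2 (.node 1 (.one ⟨6877, 0, 9⟩) (.one ⟨13263, 2, 9⟩)) (.node 1 (.one ⟨5183, 2, 7⟩) (.one ⟨4017, 2, 7⟩))) (.node 2 (.node 1 (.one ⟨7745, 1, 9⟩) (.one ⟨12176, 2, 6⟩)) (.node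 1 (.one ⟨4096, 2, 10⟩) (.one ⟨7997, 2, 6⟩)))) (.node 4 (.node 2 (.node 1 (.one ⟨11840, 2, 7⟩) (.one ⟨3380, 0, 9⟩)) (.node 1 (.one ⟨8525, 1, 8⟩) (.one ⟨3379, 0, 6⟩))) (.node 2 (.node 1 (.one ⟨8526, 1, 8⟩) (.one ⟨13628, 2, 8⟩)) (.node 1 (.one ⟨194, 2, 5⟩) (.one ⟨15002, 2, 7⟩)))))) (.node 16 (.node 8 (.node 4 (.node 2 (.node 1 (.one ⟨3543, 2, 10⟩) (.one ⟨1068, 0, 10⟩)) (.node 1 (.one ⟨942, 2, 7⟩) (.one ⟨14915, 0, 9⟩))) (.node 2 (.node 1 (.one ⟨4952, 2, 7⟩) (.one ⟨10887, 1, 7⟩)) (.node 1 (.one ⟨14853, 1, 7⟩) (.one ⟨11883, 0, 9⟩)))) (.node 4 (.node 2 (.node 1 (.one ⟨782, 1, 7⟩) (.one ⟨14563, 0, 8⟩)) (.node 1 (.one ⟨4696, 1, 5⟩) (.one ⟨5386, 0, 10⟩))) (.node 2 (.node 1 (.one ⟨13918, 2, 9⟩) (.one ⟨11153, 2, 10⟩)) (.node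 1 (.one ⟨12649, 0, 9⟩) (.one ⟨7990, 0, 10⟩))))) (.node 8 (.node 4 (.node 2 (.node 1 (.one ⟨10169, 0, 9⟩) (.one ⟨561, 2, 8⟩)) (.node 1 (.one ⟨15728, 0, 7⟩) (.one ⟨1842, 0, 10⟩))) (.node 2 (.node 1 (.one ⟨15940, 0, 9⟩) (.one ⟨203, 2, 8⟩)) (.node 1 (.one ⟨12883, 1, 9⟩) (.one ⟨8802, 2, 8⟩)))) (.node 4 (.node 2 (.node 1 (.one ⟨4941, 1, 8⟩) (.one ⟨10094, 2, 5⟩)) (.node 1 (.one ⟨6225, 1, 8⟩) (.one ⟨14005, 2, 5⟩))) (.node 2 (.node 1 (.one ⟨2823, 2, 8⟩) (.one ⟨4748, 0, 5⟩)) (.node 1 (.one ⟨16397, 2, 7⟩) (.one ⟨8138, 1, 9⟩)))))))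
def par10_8_7 : Arr Par :=
  (.node 32 (.node 16 (.node 8 (.node 4 (.node 2 (.node 1 (.one ⟨3939, 0, 10⟩) (.one ⟨3057, 2, 8⟩)) (.node 1 (.one ⟨12437, 0, 6⟩) (.one ⟨10141, 0, 8⟩))) (.node 2 (.node 1 (.one ⟨16168, 2, 7⟩) (.one ⟨5811, 1, 8⟩)) (.node 1 (.one ⟨15594, 2, 9⟩) (.one ⟨12598, 0, 11⟩)))) (.node 4 (.node 2 (.node 1 (.one ⟨8735, 1, 11⟩) (.one ⟨13519, 1, 6⟩)) (.node 1 (.one ⟨6287, 1, 11⟩) (.one ⟨14744, 0, 10⟩))) (.node 2 (.node 1 (.one ⟨3229, 0, 8⟩) (.one ⟨14247, 1, 11⟩)) (.node 1 (.one ⟨2827, 2, 7⟩) (.one ⟨7537, 0, 7⟩))))) (.node 8 (.node 4 (.node 2 (.node 1 (.one ⟨7390, 2, 9⟩) (.one ⟨7778, 2, 8⟩)) (.node 1 (.one ⟨2856, 1, 9⟩) (.one ⟨13974, 0, 7⟩))) (.node 2 (.node 1 (.one ⟨3372, 0, 7⟩) (.one ⟨10889, 0, 10⟩))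 (.node 1 (.one ⟨6336, 0, 10⟩) (.one ⟨13759, 1, 10⟩)))) (.node 4 (.node 2 (.node 1 (.one ⟨15779, 2, 10⟩) (.one ⟨8164, 1, 9⟩)) (.node 1 (.one ⟨8637, 2, 6⟩) (.one ⟨15250, 1, 8⟩))) (.node 2 (.node 1 (.one ⟨15831, 0, 7⟩) (.one ⟨8381, 1, 10⟩)) (.node 1 (.one ⟨12005, 1, 10⟩) (.one ⟨14193, 2, 8⟩)))))) (.node 16 (.node 8 (.node 4 (.node 2 (.node 1 (.one ⟨1990, 2, 8⟩) (.one ⟨17127, 2, 5⟩)) (.node 1 (.one ⟨5396, 2, 7⟩) (.one ⟨4939, 0, 7⟩))) (.node 2 (.node 1 (.one ⟨8958, 0, 5⟩) (.one ⟨1510, 1, 8⟩)) (.node 1 (.one ⟨15827, 2, 8⟩) (.one ⟨3494, 2, 3⟩)))) (.node 4 (.node 2 (.node 1 (.one ⟨3441, 2, 9⟩) (.one ⟨1692, 1, 6⟩)) (.node 1 (.one ⟨11549, 2, 8⟩) (.one ⟨12952, 1, 7⟩))) (.node 2 (.node 1 (.one ⟨10754, 2, 9⟩) (.one ⟨7679, 0,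 7⟩)) (.node 1 (.one ⟨2732, 2, 9⟩) (.one ⟨4784, 1, 10⟩))))) (.node 8 (.node 4 (.node 2 (.node 1 (.one ⟨6415, 0, 9⟩) (.one ⟨717, 1, 9⟩)) (.node 1 (.one ⟨5048, 2, 8⟩) (.one ⟨760, 2, 11⟩))) (.node 2 (.node 1 (.one ⟨5050, 2, 9⟩) (.one ⟨5054, 2, 7⟩)) (.node 1 (.one ⟨3988, 0, 9⟩) (.one ⟨9340, 2, 8⟩)))) (.node 4 (.node 2 (.node 1 (.one ⟨15787, 2, 7⟩) (.one ⟨4278, 0, 8⟩)) (.node 1 (.one ⟨5226, 1, 7⟩) (.one ⟨3061, 2, 8⟩))) (.node 2 (.node 1 (.one ⟨8699, 2, 9⟩) (.one ⟨16488, 1, 8⟩)) (.node 1 (.one ⟨16772, 2, 8⟩) (.one ⟨13381, 1, 4⟩)))))))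
def par10_8_8 : Arr Par :=
  (.node 32 (.node 16 (.node 8 (.node 4 (.node 2 (.node 1 (.one ⟨12716, 1, 6⟩) (.one ⟨4624, 0, 10⟩)) (.node 1 (.one ⟨6151, 1, 9⟩) (.one ⟨1580, 1, 5⟩))) (.node 2 (.node 1 (.one ⟨3380, 2, 9⟩) (.one ⟨16775, 1, 9⟩)) (.node 1 (.one ⟨9530, 0, 10⟩) (.one ⟨3130, 1, 9⟩)))) (.node 4 (.node 2 (.node 1 (.one ⟨6215, 2, 7⟩) (.one ⟨16321, 2, 6⟩)) (.node 1 (.one ⟨14113, 2, 8⟩) (.one ⟨2194, 1, 6⟩))) (.node 2 (.node 1 (.one ⟨2476, 0, 9⟩) (.one ⟨12521, 2, 5⟩)) (.node 1 (.one ⟨10201, 2, 7⟩) (.one ⟨1169, 2, 9⟩))))) (.node 8 (.node 4 (.node 2 (.node 1 (.one ⟨12198, 1, 8⟩) (.one ⟨4335, 2, 8⟩)) (.node 1 (.one ⟨13672, 0, 10⟩) (.one ⟨3129, 1, 7⟩))) (.node 2 (.node 1 (.one ⟨9741, 1, 7⟩) (.one ⟨11744, 0, 8⟩)) (.node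 1 (.one ⟨14896, 0, 6⟩) (.one ⟨1256, 2, 10⟩)))) (.node 4 (.node 2 (.node 1 (.one ⟨15439, 2, 9⟩) (.one ⟨3618, 1, 10⟩)) (.node 1 (.one ⟨1813, 2, 9⟩) (.one ⟨9656, 0, 7⟩))) (.node 2 (.node 1 (.one ⟨14197, 1, 5⟩) (.one ⟨12799, 0, 9⟩)) (.node 1 (.one ⟨12863, 0, 9⟩) (.one ⟨15027, 2, 10⟩)))))) (.node 16 (.node 8 (.node 4 (.node 2 (.node 1 (.one ⟨15290, 1, 8⟩) (.one ⟨4979, 2, 6⟩)) (.node 1 (.one ⟨12826, 0, 7⟩) (.one ⟨7134, 2, 9⟩))) (.node 2 (.node 1 (.one ⟨4404, 1, 8⟩) (.one ⟨13268, 2, 10⟩)) (.node 1 (.one ⟨17189, 1, 5⟩) (.one ⟨15037, 2, 9⟩)))) (.node 4 (.node 2 (.node 1 (.one ⟨12875, 1, 3⟩) (.one ⟨6908, 2, 6⟩)) (.node 1 (.one ⟨3769, 2, 8⟩) (.one ⟨1617, 0, 7⟩))) (.node 2 (.node 1 (.one ⟨6735, 0, 7⟩) (.one ⟨16733, 2, 7⟩)) (.node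 1 (.one ⟨9910, 2, 5⟩) (.one ⟨16795, 2, 9⟩))))) (.node 8 (.node 4 (.node 2 (.node 1 (.one ⟨1143, 2, 7⟩) (.one ⟨4433, 2, 9⟩)) (.node 1 (.one ⟨9985, 1, 9⟩) (.one ⟨7534, 0, 8⟩))) (.node 2 (.node 1 (.one ⟨14340, 1, 8⟩) (.one ⟨9126, 1, 6⟩)) (.node 1 (.one ⟨11413, 1, 8⟩) (.one ⟨11912, 0, 10⟩)))) (.node 4 (.node 2 (.node 1 (.one ⟨12805, 1, 10⟩) (.one ⟨7997, 0, 6⟩)) (.node 1 (.one ⟨15390, 1, 10⟩) (.one ⟨15438, 0, 7⟩))) (.node 2 (.node 1 (.one ⟨4754, 1, 8⟩) (.one ⟨3348, 0, 10⟩)) (.node 1 (.one ⟨7232, 1, 10⟩) (.one ⟨10842, 1, 9⟩)))))))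
def par10_8_9 : Arr Par :=
  (.node 32 (.node 16 (.node 8 (.node 4 (.node 2 (.node 1 (.one ⟨35, 2, 8⟩) (.one ⟨82, 2, 6⟩)) (.node 1 (.one ⟨1683, 1, 10⟩) (.one ⟨9291, 2, 7⟩))) (.node 2 (.node 1 (.one ⟨9294, 2, 10⟩) (.one ⟨13458, 1, 11⟩)) (.node 1 (.one ⟨9293, 2, 9⟩) (.one ⟨9449, 0, 9⟩)))) (.node 4 (.node 2 (.node 1 (.one ⟨9614, 0, 7⟩) (.one ⟨11406, 1, 8⟩)) (.node 1 (.one ⟨15063, 2, 6⟩) (.one ⟨1423, 0, 2⟩))) (.node 2 (.node 1 (.one ⟨7757, 1, 9⟩) (.one ⟨13042, 0, 9⟩)) (.node 1 (.one ⟨3856, 2, 6⟩) (.one ⟨11444, 2, 9⟩))))) (.node 8 (.node 4 (.node 2 (.node 1 (.one ⟨4803, 2, 8⟩) (.one ⟨11448, 1, 7⟩)) (.node 1 (.one ⟨1250, 2, 9⟩) (.one ⟨3524, 1, 10⟩))) (.node 2 (.node 1 (.one ⟨12132, 2, 8⟩) (.one ⟨4975, 2, 9⟩)) (.node 1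 (.one ⟨16046, 1, 9⟩) (.one ⟨10815, 0, 11⟩)))) (.node 4 (.node 2 (.node 1 (.one ⟨3370, 1, 9⟩) (.one ⟨10087, 2, 10⟩)) (.node 1 (.one ⟨16542, 1, 10⟩) (.one ⟨16758, 0, 5⟩))) (.node 2 (.node 1 (.one ⟨15049, 2, 9⟩) (.one ⟨7892, 0, 9⟩)) (.node 1 (.one ⟨6269, 1, 8⟩) (.one ⟨5952, 0, 5⟩)))))) (.node 16 (.node 8 (.node 4 (.node 2 (.node 1 (.one ⟨16919, 1, 6⟩) (.one ⟨16923, 1, 9⟩)) (.node 1 (.one ⟨1175, 2, 7⟩) (.one ⟨5561, 2, 8⟩))) (.node 2 (.node 1 (.one ⟨13930, 0, 8⟩) (.one ⟨11722, 0, 8⟩)) (.node 1 (.one ⟨20, 1, 9⟩) (.one ⟨15604, 2, 8⟩)))) (.node 4 (.node 2 (.node 1 (.one ⟨10180, 1, 9⟩) (.one ⟨12909, 1, 7⟩)) (.node 1 (.one ⟨15629, 2, 8⟩) (.one ⟨13375, 1, 9⟩))) (.node 2 (.node 1 (.one ⟨6530, 2, 5⟩) (.one ⟨5230, 1, 10⟩)) (.node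 1 (.one ⟨14610, 2, 8⟩) (.one ⟨4461, 1, 10⟩))))) (.node 8 (.node 4 (.node 2 (.node 1 (.one ⟨16770, 0, 7⟩) (.one ⟨6932, 0, 7⟩)) (.node 1 (.one ⟨11395, 2, 9⟩) (.one ⟨4467, 2, 9⟩))) (.node 2 (.node 1 (.one ⟨9095, 2, 8⟩) (.one ⟨3796, 0, 9⟩)) (.node 1 (.one ⟨1271, 2, 8⟩) (.one ⟨6422, 0, 7⟩)))) (.node 4 (.node 2 (.node 1 (.one ⟨11674, 1, 6⟩) (.one ⟨8209, 1, 9⟩)) (.node 1 (.one ⟨13384, 2, 8⟩) (.one ⟨2523, 2, 9⟩))) (.node 2 (.node 1 (.one ⟨8272, 2, 7⟩) (.one ⟨11093, 2, 11⟩)) (.node 1 (.one ⟨4542, 1, 10⟩) (.one ⟨10967, 0, 8⟩)))))))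
def par10_8_10 : Arr Par :=
  (.node 32 (.node 16 (.node 8 (.node 4 (.node 2 (.node 1 (.one ⟨16824, 1, 8⟩) (.one ⟨12751, 0, 7⟩)) (.node 1 (.one ⟨4049, 0, 1⟩) (.one ⟨4802, 2, 6⟩))) (.node 2 (.node 1 (.one ⟨11363, 0, 8⟩) (.one ⟨8436, 2, 7⟩)) (.node 1 (.one ⟨13021, 2, 6⟩) (.one ⟨8795, 2, 6⟩)))) (.node 4 (.node 2 (.node 1 (.one ⟨7225, 2, 9⟩) (.one ⟨7829, 2, 8⟩)) (.node 1 (.one ⟨5873, 2, 11⟩) (.one ⟨10319, 2, 9⟩))) (.node 2 (.node 1 (.one ⟨12068, 2, 8⟩) (.one ⟨13045, 0, 8⟩)) (.node 1 (.one ⟨12931, 2, 9⟩) (.one ⟨10241, 2, 6⟩))))) (.node 8 (.node 4 (.node 2 (.node 1 (.one ⟨7963, 0, 5⟩) (.one ⟨11506, 2, 8⟩)) (.node 1 (.one ⟨762, 0, 7⟩) (.one ⟨1934, 1, 9⟩))) (.node 2 (.node 1 (.one ⟨7656, 0, 9⟩) (.one ⟨7739, 2, 6⟩)) (.node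 1 (.one ⟨3439, 1, 10⟩) (.one ⟨9727, 2, 8⟩)))) (.node 4 (.node 2 (.node 1 (.one ⟨7964, 2, 9⟩) (.one ⟨15047, 0, 6⟩)) (.node 1 (.one ⟨5123, 2, 7⟩) (.one ⟨13656, 0, 6⟩))) (.node 2 (.node 1 (.one ⟨16313, 1, 6⟩) (.one ⟨7312, 2, 7⟩)) (.node 1 (.one ⟨8573, 0, 9⟩) (.one ⟨13342, 2, 9⟩)))))) (.node 16 (.node 8 (.node 4 (.node 2 (.node 1 (.one ⟨3432, 1, 9⟩) (.one ⟨16016, 0, 7⟩)) (.node 1 (.one ⟨12841, 2, 10⟩) (.one ⟨14773, 0, 8⟩))) (.node 2 (.node 1 (.one ⟨6102, 1, 7⟩) (.one ⟨5349, 1, 10⟩)) (.node 1 (.one ⟨7412, 0, 7⟩) (.one ⟨7437, 1, 8⟩)))) (.node 4 (.node 2 (.node 1 (.one ⟨10926, 1, 8⟩) (.one ⟨11644, 1, 7⟩)) (.node 1 (.one ⟨5552, 0, 8⟩) (.one ⟨8470, 1, 8⟩))) (.node 2 (.node 1 (.one ⟨4218, 2, 10⟩) (.one ⟨13660, 0, 10⟩)) (.node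 1 (.one ⟨10308, 2, 9⟩) (.one ⟨2, 2, 7⟩))))) (.node 8 (.node 4 (.node 2 (.node 1 (.one ⟨4100, 1, 9⟩) (.one ⟨738, 1, 10⟩)) (.node 1 (.one ⟨5096, 0, 9⟩) (.one ⟨9434, 2, 7⟩))) (.node 2 (.node 1 (.one ⟨9437, 2, 9⟩) (.one ⟨9756, 0, 9⟩)) (.node 1 (.one ⟨9291, 1, 7⟩) (.one ⟨16947, 2, 9⟩)))) (.node 4 (.node 2 (.node 1 (.one ⟨1146, 2, 9⟩) (.one ⟨68, 0, 10⟩)) (.node 1 (.one ⟨1525, 0, 6⟩) (.one ⟨14937, 2, 11⟩))) (.node 2 (.node 1 (.one ⟨7243, 0, 9⟩) (.one ⟨9324, 1, 9⟩)) (.node 1 (.one ⟨8702, 2, 9⟩) (.one ⟨12495, 2, 9⟩)))))))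
def par10_8_11 : Arr Par :=
  (.node 32 (.node 16 (.node 8 (.node 4 (.node 2 (.node 1 (.one ⟨11332, 1, 4⟩) (.one ⟨9294, 1, 10⟩)) (.node 1 (.one ⟨16320, 0, 10⟩) (.one ⟨3683, 1, 10⟩))) (.node 2 (.node 1 (.one ⟨11727, 1, 7⟩) (.one ⟨1426, 2, 9⟩)) (.node 1 (.one ⟨4754, 0, 8⟩) (.one ⟨12503, 2, 8⟩)))) (.node 4 (.node 2 (.node 1 (.one ⟨9280, 0, 10⟩) (.one ⟨4392, 1, 6⟩)) (.node 1 (.one ⟨6298, 2, 10⟩) (.one ⟨3677, 2, 10⟩))) (.node 2 (.node 1 (.one ⟨3608, 1, 8⟩) (.one ⟨10516, 2, 9⟩)) (.node 1 (.one ⟨7071, 1, 10⟩) (.one ⟨6646, 0, 5⟩))))) (.node 8 (.node 4 (.node 2 (.node 1 (.one ⟨15590, 2, 9⟩) (.one ⟨9532, 0, 8⟩)) (.node 1 (.one ⟨11233, 2, 9⟩) (.one ⟨1391, 0, 9⟩))) (.node 2 (.node 1 (.one ⟨14393, 2, 9⟩) (.one ⟨11909, 2, 10⟩))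 (.node 1 (.one ⟨10685, 2, 9⟩) (.one ⟨12126, 2, 8⟩)))) (.node 4 (.node 2 (.node 1 (.one ⟨12081, 1, 9⟩) (.one ⟨7720, 0, 7⟩)) (.node 1 (.one ⟨2701, 1, 10⟩) (.one ⟨3024, 2, 5⟩))) (.node 2 (.node 1 (.one ⟨9293, 1, 9⟩) (.one ⟨9440, 2, 6⟩)) (.node 1 (.one ⟨2616, 0, 10⟩) (.one ⟨4883, 0, 9⟩)))))) (.node 16 (.node 8 (.node 4 (.node 2 (.node 1 (.one ⟨6849, 2, 5⟩) (.one ⟨15328, 1, 8⟩)) (.node 1 (.one ⟨1681, 1, 10⟩) (.one ⟨17089, 2, 4⟩))) (.node 2 (.node 1 (.one ⟨12794, 2, 9⟩) (.one ⟨11968, 2, 8⟩)) (.node 1 (.one ⟨9542, 0, 7⟩) (.one ⟨13510, 1, 10⟩)))) (.node 4 (.node 2 (.node 1 (.one ⟨8093, 0, 9⟩) (.one ⟨6754, 0, 8⟩)) (.node 1 (.one ⟨10985, 2, 8⟩) (.one ⟨16429, 0, 10⟩))) (.node 2 (.node 1 (.one ⟨14888, 2, 9⟩) (.one ⟨3675, 1,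 5⟩)) (.node 1 (.one ⟨11050, 1, 10⟩) (.one ⟨511, 1, 8⟩))))) (.node 8 (.node 4 (.node 2 (.node 1 (.one ⟨5490, 1, 8⟩) (.one ⟨5491, 1, 7⟩)) (.node 1 (.one ⟨14766, 2, 7⟩) (.one ⟨11772, 2, 9⟩))) (.node 2 (.node 1 (.one ⟨451, 1, 9⟩) (.one ⟨811, 2, 8⟩)) (.node 1 (.one ⟨5493, 1, 7⟩) (.one ⟨16189, 2, 8⟩)))) (.node 4 (.node 2 (.node 1 (.one ⟨3404, 2, 7⟩) (.one ⟨2270, 2, 8⟩)) (.node 1 (.one ⟨2578, 0, 9⟩) (.one ⟨11111, 1, 6⟩))) (.node 2 (.node 1 (.one ⟨5768, 0, 9⟩) (.one ⟨1434, 2, 5⟩)) (.node 1 (.one ⟨16624, 2, 4⟩) (.one ⟨12252, 2, 12⟩)))))))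
def par10_8_12 : Arr Par :=
  (.node 32 (.node 16 (.node 8 (.node 4 (.node 2 (.node 1 (.one ⟨6052, 2, 5⟩) (.one ⟨6198, 0, 11⟩)) (.node 1 (.one ⟨1589, 1, 9⟩) (.one ⟨9056, 2, 8⟩))) (.node 2 (.node 1 (.one ⟨11010, 2, 10⟩) (.one ⟨8933, 1, 9⟩)) (.node 1 (.one ⟨1873, 2, 10⟩) (.one ⟨5352, 2, 10⟩)))) (.node 4 (.node 2 (.node 1 (.one ⟨12187, 0, 8⟩) (.one ⟨12721, 0, 6⟩)) (.node 1 (.one ⟨147, 0, 10⟩) (.one ⟨5625, 0, 9⟩))) (.node 2 (.node 1 (.one ⟨13289, 2, 10⟩) (.one ⟨12826, 1, 7⟩)) (.node 1 (.one ⟨5518, 1, 10⟩) (.one ⟨12243, 2, 9⟩))))) (.node 8 (.node 4 (.node 2 (.node 1 (.one ⟨4081, 2, 5⟩) (.one ⟨1685, 2, 9⟩)) (.node 1 (.one ⟨10043, 2, 10⟩) (.one ⟨762, 1, 7⟩))) (.node 2 (.node 1 (.one ⟨2850, 2, 10⟩) (.one ⟨15438, 1, 7⟩))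 (.node 1 (.one ⟨4762, 0, 9⟩) (.one ⟨10211, 1, 9⟩)))) (.node 4 (.node 2 (.node 1 (.one ⟨13224, 1, 9⟩) (.one ⟨13856, 1, 9⟩)) (.node 1 (.one ⟨7383, 2, 8⟩) (.one ⟨8792, 2, 10⟩))) (.node 2 (.node 1 (.one ⟨5270, 2, 9⟩) (.one ⟨9959, 2, 11⟩)) (.node 1 (.one ⟨13739, 0, 9⟩) (.one ⟨14798, 2, 6⟩)))))) (.node 16 (.node 8 (.node 4 (.node 2 (.node 1 (.one ⟨6798, 1, 9⟩) (.one ⟨4013, 1, 5⟩)) (.node 1 (.one ⟨11953, 2, 10⟩) (.one ⟨3560, 2, 9⟩))) (.node 2 (.node 1 (.one ⟨17069, 1, 9⟩) (.one ⟨9430, 1, 9⟩)) (.node 1 (.one ⟨11913, 1, 5⟩) (.one ⟨8455, 2, 10⟩)))) (.node 4 (.node 2 (.node 1 (.one ⟨14613, 0, 7⟩) (.one ⟨17162, 0, 10⟩)) (.node 1 (.one ⟨3451, 0, 7⟩) (.one ⟨11932, 2, 10⟩))) (.node 2 (.node 1 (.one ⟨935, 2, 5⟩) (.one ⟨15473, 0,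 7⟩)) (.node 1 (.one ⟨8479, 2, 10⟩) (.one ⟨11956, 2, 8⟩))))) (.node 8 (.node 4 (.node 2 (.node 1 (.one ⟨5072, 2, 10⟩) (.one ⟨3359, 1, 10⟩)) (.node 1 (.one ⟨11980, 2, 7⟩) (.one ⟨3939, 2, 10⟩))) (.node 2 (.node 1 (.one ⟨14950, 0, 7⟩) (.one ⟨13111, 2, 8⟩)) (.node 1 (.one ⟨3931, 2, 9⟩) (.one ⟨7123, 2, 10⟩)))) (.node 4 (.node 2 (.node 1 (.one ⟨7550, 1, 10⟩) (.one ⟨4309, 1, 9⟩)) (.node 1 (.one ⟨2981, 1, 9⟩) (.one ⟨1281, 1, 8⟩))) (.node 2 (.node 1 (.one ⟨9170, 2, 7⟩) (.one ⟨8462, 2, 9⟩)) (.node 1 (.one ⟨6496, 2, 9⟩) (.one ⟨7088, 1, 7⟩)))))))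
def par10_8_13 : Arr Par :=
  (.node 32 (.node 16 (.node 8 (.node 4 (.node 2 (.node 1 (.one ⟨15240, 0, 9⟩) (.one ⟨1283, 1, 10⟩)) (.node 1 (.one ⟨256, 0, 8⟩) (.one ⟨15604, 1, 8⟩))) (.node 2 (.node 1 (.one ⟨9697, 0, 7⟩) (.one ⟨9989, 1, 7⟩)) (.node 1 (.one ⟨7658, 1, 7⟩) (.one ⟨15096, 2, 10⟩)))) (.node 4 (.node 2 (.node 1 (.one ⟨9993, 2, 10⟩) (.one ⟨15443, 0, 9⟩)) (.node 1 (.one ⟨14351, 2, 5⟩) (.one ⟨3489, 2, 8⟩))) (.node 2 (.node 1 (.one ⟨6557, 2, 10⟩) (.one ⟨6764, 2, 11⟩)) (.node 1 (.one ⟨16745, 1, 9⟩) (.one ⟨1792, 0, 3⟩))))) (.node 8 (.node 4 (.node 2 (.node 1 (.one ⟨6002, 2, 5⟩) (.one ⟨8695, 0, 9⟩)) (.node 1 (.one ⟨11539, 2, 8⟩) (.one ⟨1334, 2, 8⟩))) (.node 2 (.node 1 (.one ⟨14696, 0, 9⟩) (.one ⟨15441, 2, 7⟩)) (.node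 1 (.one ⟨11740, 0, 8⟩) (.one ⟨12465, 2, 9⟩)))) (.node 4 (.node 2 (.node 1 (.one ⟨7524, 0, 6⟩) (.one ⟨6943, 2, 7⟩)) (.node 1 (.one ⟨3483, 2, 9⟩) (.one ⟨7525, 0, 8⟩))) (.node 2 (.node 1 (.one ⟨7526, 0, 8⟩) (.one ⟨6408, 2, 9⟩)) (.node 1 (.one ⟨730, 2, 9⟩) (.one ⟨14699, 1, 8⟩)))))) (.node 16 (.node 8 (.node 4 (.node 2 (.node 1 (.one ⟨6719, 0, 7⟩) (.one ⟨11600, 2, 10⟩)) (.node 1 (.one ⟨1388, 0, 9⟩) (.one ⟨2175, 1, 9⟩))) (.node 2 (.node 1 (.one ⟨15087, 1, 7⟩) (.one ⟨12215, 1, 9⟩)) (.node 1 (.one ⟨14976, 2, 10⟩) (.one ⟨2675, 2, 10⟩)))) (.node 4 (.node 2 (.node 1 (.one ⟨14674, 0, 5⟩) (.one ⟨7162, 0, 6⟩)) (.node 1 (.one ⟨5049, 1, 11⟩) (.one ⟨15236, 1, 9⟩))) (.node 2 (.node 1 (.one ⟨12888, 2, 9⟩) (.one ⟨15703, 1, 9⟩)) (.node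 1 (.one ⟨5056, 1, 8⟩) (.one ⟨1383, 1, 8⟩))))) (.node 8 (.node 4 (.node 2 (.node 1 (.one ⟨8737, 0, 7⟩) (.one ⟨16156, 1, 5⟩)) (.node 1 (.one ⟨6226, 1, 7⟩) (.one ⟨10270, 2, 10⟩))) (.node 2 (.node 1 (.one ⟨6450, 2, 8⟩) (.one ⟨9088, 1, 8⟩)) (.node 1 (.one ⟨6398, 2, 9⟩) (.one ⟨5161, 1, 7⟩)))) (.node 4 (.node 2 (.node 1 (.one ⟨7613, 1, 6⟩) (.one ⟨4664, 2, 8⟩)) (.node 1 (.one ⟨12091, 2, 5⟩) (.one ⟨1892, 0, 11⟩))) (.node 2 (.node 1 (.one ⟨2287, 2, 10⟩) (.one ⟨7631, 1, 8⟩)) (.node 1 (.one ⟨8979, 2, 8⟩) (.one ⟨1384, 1, 9⟩)))))))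
def par10_8_14 : Arr Par :=
  (.node 32 (.node 16 (.node 8 (.node 4 (.node 2 (.node 1 (.one ⟨9177, 2, 7⟩) (.one ⟨2696, 0, 10⟩)) (.node 1 (.one ⟨15192, 1, 11⟩) (.one ⟨16403, 2, 7⟩))) (.node 2 (.node 1 (.one ⟨16756, 0, 10⟩) (.one ⟨6806, 1, 8⟩)) (.node 1 (.one ⟨14341, 0, 9⟩) (.one ⟨12979, 1, 7⟩)))) (.node 4 (.node 2 (.node 1 (.one ⟨10607, 1, 10⟩) (.one ⟨11489, 2, 8⟩)) (.node 1 (.one ⟨5144, 1, 9⟩) (.one ⟨15528, 2, 9⟩))) (.node 2 (.node 1 (.one ⟨764, 2, 10⟩) (.one ⟨7541, 2, 7⟩)) (.node 1 (.one ⟨10153, 2, 7⟩) (.one ⟨9629, 2, 7⟩))))) (.node 8 (.node 4 (.node 2 (.node 1 (.one ⟨312, 1, 6⟩) (.one ⟨16307, 2, 8⟩)) (.node 1 (.one ⟨4160, 1, 9⟩) (.one ⟨2975, 1, 7⟩))) (.node 2 (.node 1 (.one ⟨8130, 2, 9⟩) (.one ⟨15471, 0, 5⟩)) (.node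 1 (.one ⟨2050, 2, 7⟩) (.one ⟨5567, 1, 4⟩)))) (.node 4 (.node 2 (.node 1 (.one ⟨13594, 2, 12⟩) (.one ⟨7775, 0, 9⟩)) (.node 1 (.one ⟨3238, 0, 11⟩) (.one ⟨1790, 0, 9⟩))) (.node 2 (.node 1 (.one ⟨12088, 1, 9⟩) (.one ⟨7694, 0, 7⟩)) (.node 1 (.one ⟨16296, 1, 5⟩) (.one ⟨683, 2, 9⟩)))))) (.node 16 (.node 8 (.node 4 (.node 2 (.node 1 (.one ⟨8118, 2, 9⟩) (.one ⟨5110, 1, 10⟩)) (.node 1 (.one ⟨8115, 2, 9⟩) (.one ⟨8831, 1, 9⟩))) (.node 2 (.node 1 (.one ⟨5625, 1, 9⟩) (.one ⟨258, 2, 8⟩)) (.node 1 (.one ⟨4081, 0, 5⟩) (.one ⟨16843, 0, 10⟩)))) (.node 4 (.node 2 (.node 1 (.one ⟨7780, 0, 10⟩) (.one ⟨7307, 2, 8⟩)) (.node 1 (.one ⟨220, 0, 9⟩) (.one ⟨13581, 2, 11⟩))) (.node 2 (.node 1 (.one ⟨8230, 1, 8⟩) (.one ⟨11306, 0, 7⟩)) (.node 1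 (.one ⟨6605, 1, 7⟩) (.one ⟨7602, 0, 6⟩))))) (.node 8 (.node 4 (.node 2 (.node 1 (.one ⟨4594, 2, 9⟩) (.one ⟨5773, 1, 9⟩)) (.node 1 (.one ⟨6912, 2, 7⟩) (.one ⟨5793, 1, 9⟩))) (.node 2 (.node 1 (.one ⟨9663, 2, 9⟩) (.one ⟨16033, 2, 9⟩)) (.node 1 (.one ⟨15921, 2, 9⟩) (.one ⟨5283, 2, 9⟩)))) (.node 4 (.node 2 (.node 1 (.one ⟨2049, 1, 9⟩) (.one ⟨12789, 2, 8⟩)) (.node 1 (.one ⟨12838, 2, 8⟩) (.one ⟨10454, 2, 8⟩))) (.node 2 (.node 1 (.one ⟨10084, 1, 9⟩) (.one ⟨1572, 2, 11⟩)) (.node 1 (.one ⟨2024, 1, 10⟩) (.one ⟨1174, 2, 6⟩)))))))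
def par10_8_15 : Arr Par :=
  (.node 32 (.node 16 (.node 8 (.node 4 (.node 2 (.node 1 (.one ⟨3982, 2, 9⟩) (.one ⟨13580, 0, 10⟩)) (.node 1 (.one ⟨15263, 2, 8⟩) (.one ⟨2030, 0, 6⟩))) (.node 2 (.node 1 (.one ⟨10277, 0, 7⟩) (.one ⟨12254, 2, 8⟩)) (.node 1 (.one ⟨9994, 2, 9⟩) (.one ⟨11061, 1, 9⟩)))) (.node 4 (.node 2 (.node 1 (.one ⟨8510, 1, 8⟩) (.one ⟨7994, 2, 7⟩)) (.node 1 (.one ⟨9088, 2, 8⟩) (.one ⟨3007, 2, 2⟩))) (.node 2 (.node 1 (.one ⟨2521, 2, 6⟩) (.one ⟨16565, 1, 4⟩)) (.node 1 (.one ⟨12665, 2, 8⟩) (.one ⟨6332, 2, 6⟩))))) (.node 8 (.node 4 (.node 2 (.node 1 (.one ⟨10231, 2, 11⟩) (.one ⟨9645, 0, 9⟩)) (.node 1 (.one ⟨4527, 0, 6⟩) (.one ⟨2183, 2, 5⟩))) (.node 2 (.node 1 (.one ⟨14387, 2, 7⟩) (.one ⟨7826, 0, 5⟩)) (.node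 1 (.one ⟨14795, 0, 10⟩) (.one ⟨10850, 0, 5⟩)))) (.node 4 (.node 2 (.node 1 (.one ⟨3515, 0, 9⟩) (.one ⟨16435, 0, 6⟩)) (.node 1 (.one ⟨14553, 1, 9⟩) (.one ⟨10323, 2, 6⟩))) (.node 2 (.node 1 (.one ⟨5962, 2, 2⟩) (.one ⟨2671, 2, 6⟩)) (.node 1 (.one ⟨13821, 2, 9⟩) (.one ⟨592, 1, 9⟩)))))) (.node 16 (.node 8 (.node 4 (.node 2 (.node 1 (.one ⟨10927, 2, 8⟩) (.one ⟨579, 1, 10⟩)) (.node 1 (.one ⟨13403, 2, 6⟩) (.one ⟨1360, 0, 8⟩))) (.node 2 (.node 1 (.one ⟨12046, 2, 10⟩) (.one ⟨2876, 2, 7⟩)) (.node 1 (.one ⟨9169, 2, 10⟩) (.one ⟨3104, 2, 8⟩)))) (.node 4 (.node 2 (.node 1 (.one ⟨9828, 2, 4⟩) (.one ⟨5525, 2, 10⟩)) (.node 1 (.one ⟨12144, 2, 9⟩) (.one ⟨16340, 2, 10⟩))) (.node 2 (.node 1 (.one ⟨83, 1, 8⟩) (.one ⟨14099, 2, 6⟩)) (.node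 1 (.one ⟨6695, 2, 7⟩) (.one ⟨7422, 1, 8⟩))))) (.node 8 (.node 4 (.node 2 (.node 1 (.one ⟨14693, 2, 7⟩) (.one ⟨5858, 0, 5⟩)) (.node 1 (.one ⟨10212, 2, 11⟩) (.one ⟨7436, 1, 10⟩))) (.node 2 (.node 1 (.one ⟨10310, 0, 8⟩) (.one ⟨15976, 0, 7⟩)) (.node 1 (.one ⟨14461, 0, 6⟩) (.one ⟨5460, 2, 8⟩)))) (.node 4 (.node 2 (.node 1 (.one ⟨4174, 0, 6⟩) (.one ⟨9996, 0, 10⟩)) (.node 1 (.one ⟨11516, 1, 8⟩) (.one ⟨11720, 0, 7⟩))) (.node 2 (.node 1 (.one ⟨10436, 0, 10⟩) (.one ⟨11540, 1, 9⟩)) (.node 1 (.one ⟨2504, 0, 8⟩) (.one ⟨14087, 2, 8⟩)))))))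
def par10_8 : Arr Par :=
  (.node 512 (.node 256 (.node 128 (.node 64 par10_8_0 par10_8_1) (.node 64 par10_8_2 par10_8_3)) (.node 128 (.node 64 par10_8_4 par10_8_5) (.node 64 par10_8_6 par10_8_7))) (.node 256 (.node 128 (.node 64 par10_8_8 par10_8_9) (.node 64 par10_8_10 par10_8_11)) (.node 128 (.node 64 par10_8_12 par10_8_13) (.node 64 par10_8_14 par10_8_15))))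
def par10_9_0 : Arr Par :=
  (.node 32 (.node 16 (.node 8 (.node 4 (.node 2 (.node 1 (.one ⟨9931, 2, 6⟩) (.one ⟨9229, 1, 8⟩)) (.node 1 (.one ⟨16621, 2, 10⟩) (.one ⟨8582, 1, 8⟩))) (.node 2 (.node 1 (.one ⟨16494, 2, 9⟩) (.one ⟨13687, 2, 10⟩)) (.node 1 (.one ⟨9526, 2, 9⟩) (.one ⟨8533, 1, 10⟩)))) (.node 4 (.node 2 (.node 1 (.one ⟨14302, 2, 9⟩) (.one ⟨13346, 2, 8⟩)) (.node 1 (.one ⟨2886, 2, 9⟩) (.one ⟨9588, 0, 11⟩))) (.node 2 (.node 1 (.one ⟨11881, 1, 10⟩) (.one ⟨9926, 0, 7⟩)) (.node 1 (.one ⟨3425, 2, 10⟩) (.one ⟨8543, 1, 7⟩))))) (.node 8 (.node 4 (.node 2 (.node 1 (.one ⟨16612, 2, 10⟩) (.one ⟨8577, 1, 8⟩)) (.node 1 (.one ⟨16902, 2, 8⟩) (.one ⟨9010, 0, 8⟩))) (.node 2 (.node 1 (.one ⟨15754, 2, 10⟩) (.one ⟨2055, 0, 7⟩))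 (.node 1 (.one ⟨16411, 2, 10⟩) (.one ⟨1475, 2, 10⟩)))) (.node 4 (.node 2 (.node 1 (.one ⟨16745, 0, 9⟩) (.one ⟨15839, 2, 10⟩)) (.node 1 (.one ⟨4638, 1, 9⟩) (.one ⟨2975, 2, 7⟩))) (.node 2 (.node 1 (.one ⟨15161, 0, 8⟩) (.one ⟨16779, 2, 10⟩)) (.node 1 (.one ⟨459, 2, 9⟩) (.one ⟨3647, 2, 11⟩)))))) (.node 16 (.node 8 (.node 4 (.node 2 (.node 1 (.one ⟨9545, 2, 9⟩) (.one ⟨4805, 2, 8⟩)) (.node 1 (.one ⟨14437, 1, 5⟩) (.one ⟨14184, 2, 9⟩))) (.node 2 (.node 1 (.one ⟨6290, 0, 10⟩) (.one ⟨14701, 2, 8⟩)) (.node 1 (.one ⟨8532, 2, 10⟩) (.one ⟨10698, 1, 10⟩)))) (.node 4 (.node 2 (.node 1 (.one ⟨16874, 2, 10⟩) (.one ⟨1011, 2, 8⟩)) (.node 1 (.one ⟨11740, 2, 8⟩) (.one ⟨2653, 1, 10⟩))) (.node 2 (.node 1 (.one ⟨3361, 2, 10⟩) (.one ⟨15869,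 2, 9⟩)) (.node 1 (.one ⟨6075, 2, 8⟩) (.one ⟨15556, 0, 7⟩))))) (.node 8 (.node 4 (.node 2 (.node 1 (.one ⟨6328, 0, 7⟩) (.one ⟨15661, 1, 10⟩)) (.node 1 (.one ⟨5334, 0, 6⟩) (.one ⟨13787, 0, 6⟩))) (.node 2 (.node 1 (.one ⟨14013, 2, 8⟩) (.one ⟨13046, 0, 9⟩)) (.node 1 (.one ⟨11902, 2, 8⟩) (.one ⟨12911, 0, 7⟩)))) (.node 4 (.node 2 (.node 1 (.one ⟨10550, 2, 7⟩) (.one ⟨11273, 1, 10⟩)) (.node 1 (.one ⟨10655, 2, 10⟩) (.one ⟨12360, 0, 6⟩))) (.node 2 (.node 1 (.one ⟨9070, 2, 9⟩) (.one ⟨16500, 2, 7⟩)) (.node 1 (.one ⟨3387, 0, 10⟩) (.one ⟨5451, 1, 9⟩)))))))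
def par10_9_1 : Arr Par :=
  (.node 32 (.node 16 (.node 8 (.node 4 (.node 2 (.node 1 (.one ⟨2013, 2, 9⟩) (.one ⟨5473, 1, 9⟩)) (.node 1 (.one ⟨5436, 1, 8⟩) (.one ⟨205, 2, 9⟩))) (.node 2 (.node 1 (.one ⟨14942, 2, 9⟩) (.one ⟨1569, 2, 9⟩)) (.node 1 (.one ⟨14987, 2, 9⟩) (.one ⟨16974, 1, 5⟩)))) (.node 4 (.node 2 (.node 1 (.one ⟨2577, 2, 8⟩) (.one ⟨16992, 1, 9⟩)) (.node 1 (.one ⟨3820, 0, 4⟩) (.one ⟨15924, 2, 6⟩))) (.node 2 (.node 1 (.one ⟨4730, 2, 11⟩) (.one ⟨16035, 2, 8⟩)) (.node 1 (.one ⟨4777, 2, 9⟩) (.one ⟨3012, 2, 9⟩))))) (.node 8 (.node 4 (.node 2 (.node 1 (.one ⟨13255, 2, 8⟩) (.one ⟨9189, 0, 8⟩)) (.node 1 (.one ⟨10827, 2, 10⟩) (.one ⟨12355, 2, 8⟩))) (.node 2 (.node 1 (.one ⟨281, 2, 9⟩) (.one ⟨9930, 2, 8⟩)) (.node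 1 (.one ⟨3974, 2, 9⟩) (.one ⟨8826, 2, 9⟩)))) (.node 4 (.node 2 (.node 1 (.one ⟨2768, 2, 9⟩) (.one ⟨5275, 2, 7⟩)) (.node 1 (.one ⟨6702, 2, 8⟩) (.one ⟨13954, 2, 5⟩))) (.node 2 (.node 1 (.one ⟨5502, 0, 0⟩) (.one ⟨1213, 0, 10⟩)) (.node 1 (.one ⟨79, 1, 6⟩) (.one ⟨6077, 2, 8⟩)))))) (.node 16 (.node 8 (.node 4 (.node 2 (.node 1 (.one ⟨13332, 2, 10⟩) (.one ⟨17137, 2, 10⟩)) (.node 1 (.one ⟨1544, 2, 9⟩) (.one ⟨858, 2, 10⟩))) (.node 2 (.node 1 (.one ⟨17198, 2, 10⟩) (.one ⟨13247, 2, 9⟩)) (.node 1 (.one ⟨6111, 2, 10⟩) (.one ⟨14702, 2, 9⟩)))) (.node 4 (.node 2 (.node 1 (.one ⟨4283, 2, 10⟩) (.one ⟨10002, 2, 9⟩)) (.node 1 (.one ⟨13500, 1, 10⟩) (.one ⟨11176, 2, 9⟩))) (.node 2 (.node 1 (.one ⟨8189, 2, 8⟩) (.one ⟨13944, 2, 8⟩)) (.node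 1 (.one ⟨5447, 2, 11⟩) (.one ⟨9763, 2, 6⟩))))) (.node 8 (.node 4 (.node 2 (.node 1 (.one ⟨8592, 1, 10⟩) (.one ⟨6867, 0, 9⟩)) (.node 1 (.one ⟨10092, 0, 9⟩) (.one ⟨6371, 2, 3⟩))) (.node 2 (.node 1 (.one ⟨1551, 2, 2⟩) (.one ⟨12617, 1, 10⟩)) (.node 1 (.one ⟨4615, 1, 8⟩) (.one ⟨13924, 2, 8⟩)))) (.node 4 (.node 2 (.node 1 (.one ⟨10371, 2, 8⟩) (.one ⟨8497, 1, 9⟩)) (.node 1 (.one ⟨8101, 2, 7⟩) (.one ⟨12711, 1, 9⟩))) (.node 2 (.node 1 (.one ⟨5726, 2, 7⟩) (.one ⟨16105, 2, 7⟩)) (.node 1 (.one ⟨12319, 2, 10⟩) (.one ⟨14868, 2, 5⟩)))))))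
def par10_9_2 : Arr Par :=
  (.node 32 (.node 16 (.node 8 (.node 4 (.node 2 (.node 1 (.one ⟨2937, 2, 6⟩) (.one ⟨493, 0, 8⟩)) (.node 1 (.one ⟨3814, 2, 7⟩) (.one ⟨515, 2, 8⟩))) (.node 2 (.node 1 (.one ⟨14253, 2, 9⟩) (.one ⟨11559, 1, 7⟩)) (.node 1 (.one ⟨4460, 0, 9⟩) (.one ⟨3490, 1, 9⟩)))) (.node 4 (.node 2 (.node 1 (.one ⟨2723, 2, 10⟩) (.one ⟨12314, 0, 10⟩)) (.node 1 (.one ⟨2933, 2, 7⟩) (.one ⟨16412, 0, 5⟩))) (.node 2 (.node 1 (.one ⟨15600, 2, 6⟩) (.one ⟨15481, 1, 8⟩)) (.node 1 (.one ⟨14239, 2, 10⟩) (.one ⟨7256, 2, 8⟩))))) (.node 8 (.node 4 (.node 2 (.node 1 (.one ⟨11738, 2, 6⟩) (.one ⟨17191, 2, 9⟩)) (.node 1 (.one ⟨307, 2, 10⟩) (.one ⟨11299, 0, 8⟩))) (.node 2 (.node 1 (.one ⟨5519, 0, 10⟩) (.one ⟨15832, 1, 10⟩)) (.node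 1 (.one ⟨7894, 0, 11⟩) (.one ⟨13496, 2, 9⟩)))) (.node 4 (.node 2 (.node 1 (.one ⟨5911, 2, 7⟩) (.one ⟨3314, 2, 10⟩)) (.node 1 (.one ⟨16138, 2, 9⟩) (.one ⟨10394, 2, 11⟩))) (.node 2 (.node 1 (.one ⟨8527, 2, 9⟩) (.one ⟨4282, 2, 8⟩)) (.node 1 (.one ⟨14695, 2, 8⟩) (.one ⟨10830, 2, 7⟩)))))) (.node 16 (.node 8 (.node 4 (.node 2 (.node 1 (.one ⟨82, 1, 6⟩) (.one ⟨11117, 2, 9⟩)) (.node 1 (.one ⟨4036, 2, 8⟩) (.one ⟨3094, 0, 9⟩))) (.node 2 (.node 1 (.one ⟨11059, 0, 10⟩) (.one ⟨13190, 2, 9⟩)) (.node 1 (.one ⟨1842, 2, 10⟩) (.one ⟨10856, 2, 9⟩)))) (.node 4 (.node 2 (.node 1 (.one ⟨4504, 2, 9⟩) (.one ⟨14096, 2, 11⟩)) (.node 1 (.one ⟨8823, 2, 8⟩) (.one ⟨9192, 0, 5⟩))) (.node 2 (.node 1 (.one ⟨1333, 2, 9⟩) (.one ⟨16236, 2, 7⟩)) (.node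 1 (.one ⟨594, 1, 11⟩) (.one ⟨9401, 2, 11⟩))))) (.node 8 (.node 4 (.node 2 (.node 1 (.one ⟨3381, 2, 8⟩) (.one ⟨5735, 1, 9⟩)) (.node 1 (.one ⟨13833, 1, 8⟩) (.one ⟨10137, 1, 9⟩))) (.node 2 (.node 1 (.one ⟨1982, 1, 5⟩) (.one ⟨638, 2, 5⟩)) (.node 1 (.one ⟨11474, 2, 8⟩) (.one ⟨8032, 2, 9⟩)))) (.node 4 (.node 2 (.node 1 (.one ⟨16851, 2, 8⟩) (.one ⟨2955, 0, 10⟩)) (.node 1 (.one ⟨6054, 2, 8⟩) (.one ⟨17160, 0, 6⟩))) (.node 2 (.node 1 (.one ⟨5699, 1, 6⟩) (.one ⟨4709, 0, 4⟩)) (.node 1 (.one ⟨11121, 2, 9⟩) (.one ⟨14098, 1, 7⟩)))))))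
def par10_9_3 : Arr Par :=
  (.node 32 (.node 16 (.node 8 (.node 4 (.node 2 (.node 1 (.one ⟨1060, 0, 8⟩) (.one ⟨16245, 2, 7⟩)) (.node 1 (.one ⟨15487, 2, 9⟩) (.one ⟨14113, 1, 8⟩))) (.node 2 (.node 1 (.one ⟨5986, 1, 10⟩) (.one ⟨14005, 1, 5⟩)) (.node 1 (.one ⟨16967, 0, 7⟩) (.one ⟨12717, 2, 7⟩)))) (.node 4 (.node 2 (.node 1 (.one ⟨9407, 2, 8⟩) (.one ⟨5267, 0, 8⟩)) (.node 1 (.one ⟨1706, 1, 10⟩) (.one ⟨1966, 0, 9⟩))) (.node 2 (.node 1 (.one ⟨1612, 1, 6⟩) (.one ⟨695, 2, 4⟩)) (.node 1 (.one ⟨1687, 1, 9⟩) (.one ⟨5542, 1, 9⟩))))) (.node 8 (.node 4 (.node 2 (.node 1 (.one ⟨5498, 1, 8⟩) (.one ⟨6915, 2, 8⟩)) (.node 1 (.one ⟨9640, 2, 8⟩) (.one ⟨16525, 2, 8⟩))) (.node 2 (.node 1 (.one ⟨13553, 1, 9⟩) (.one ⟨4729, 2, 10⟩)) (.node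 1 (.one ⟨12729, 0, 8⟩) (.one ⟨11566, 2, 9⟩)))) (.node 4 (.node 2 (.node 1 (.one ⟨6424, 2, 9⟩) (.one ⟨12831, 2, 9⟩)) (.node 1 (.one ⟨7982, 2, 6⟩) (.one ⟨16946, 2, 12⟩))) (.node 2 (.node 1 (.one ⟨8988, 1, 10⟩) (.one ⟨14939, 2, 8⟩)) (.node 1 (.one ⟨13575, 1, 10⟩) (.one ⟨11062, 1, 9⟩)))))) (.node 16 (.node 8 (.node 4 (.node 2 (.node 1 (.one ⟨4078, 2, 5⟩) (.one ⟨11097, 1, 8⟩)) (.node 1 (.one ⟨1983, 2, 7⟩) (.one ⟨12790, 0, 7⟩))) (.node 2 (.node 1 (.one ⟨4385, 2, 6⟩) (.one ⟨14581, 2, 8⟩)) (.node 1 (.one ⟨1359, 2, 3⟩) (.one ⟨14800, 1, 8⟩)))) (.node 4 (.node 2 (.node 1 (.one ⟨5372, 0, 10⟩) (.one ⟨13022, 0, 8⟩)) (.node 1 (.one ⟨6825, 1, 10⟩) (.one ⟨14880, 1, 9⟩))) (.node 2 (.node 1 (.one ⟨6720, 1, 8⟩) (.one ⟨14092, 2, 9⟩))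 (.node 1 (.one ⟨2225, 2, 2⟩) (.one ⟨9658, 1, 10⟩))))) (.node 8 (.node 4 (.node 2 (.node 1 (.one ⟨6599, 2, 10⟩) (.one ⟨15628, 2, 8⟩)) (.node 1 (.one ⟨13115, 0, 10⟩) (.one ⟨13301, 0, 8⟩))) (.node 2 (.node 1 (.one ⟨11050, 0, 10⟩) (.one ⟨1814, 0, 7⟩)) (.node 1 (.one ⟨4383, 0, 7⟩) (.one ⟨2805, 0, 9⟩)))) (.node 4 (.node 2 (.node 1 (.one ⟨5332, 0, 8⟩) (.one ⟨2210, 2, 9⟩)) (.node 1 (.one ⟨5942, 1, 9⟩) (.one ⟨2403, 2, 7⟩))) (.node 2 (.node 1 (.one ⟨15015, 0, 7⟩) (.one ⟨5766, 0, 5⟩)) (.node 1 (.one ⟨8298, 0, 8⟩) (.one ⟨10393, 2, 9⟩)))))))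
def par10_9_4 : Arr Par :=
  (.node 32 (.node 16 (.node 8 (.node 4 (.node 2 (.node 1 (.one ⟨14696, 2, 9⟩) (.one ⟨15804, 2, 10⟩)) (.node 1 (.one ⟨12793, 0, 11⟩) (.one ⟨8185, 2, 10⟩))) (.node 2 (.node 1 (.one ⟨4800, 2, 10⟩) (.one ⟨1298, 2, 10⟩)) (.node 1 (.one ⟨7319, 2, 7⟩) (.one ⟨14268, 0, 8⟩)))) (.node 4 (.node 2 (.node 1 (.one ⟨2997, 1, 10⟩) (.one ⟨13329, 2, 8⟩)) (.node 1 (.one ⟨15864, 2, 9⟩) (.one ⟨16883, 0, 10⟩))) (.node 2 (.node 1 (.one ⟨15567, 2, 9⟩) (.one ⟨7259, 2, 8⟩)) (.node 1 (.one ⟨151, 2, 8⟩) (.one ⟨1186, 2, 8⟩))))) (.node 8 (.node 4 (.node 2 (.node 1 (.one ⟨10949, 2, 9⟩) (.one ⟨72, 1, 9⟩)) (.node 1 (.one ⟨10929, 2, 5⟩) (.one ⟨13292, 2, 9⟩))) (.node 2 (.node 1 (.one ⟨1363, 0, 9⟩) (.one ⟨13260, 2, 6⟩))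 (.node 1 (.one ⟨578, 1, 8⟩) (.one ⟨13206, 2, 10⟩)))) (.node 4 (.node 2 (.node 1 (.one ⟨4336, 2, 10⟩) (.one ⟨7063, 2, 10⟩)) (.node 1 (.one ⟨13958, 2, 10⟩) (.one ⟨1757, 2, 10⟩))) (.node 2 (.node 1 (.one ⟨9387, 0, 6⟩) (.one ⟨16337, 2, 8⟩)) (.node 1 (.one ⟨16628, 0, 9⟩) (.one ⟨16237, 1, 7⟩)))))) (.node 16 (.node 8 (.node 4 (.node 2 (.node 1 (.one ⟨16218, 1, 8⟩) (.one ⟨14533, 0, 6⟩)) (.node 1 (.one ⟨16193, 1, 6⟩) (.one ⟨12513, 2, 9⟩))) (.node 2 (.node 1 (.one ⟨153, 2, 4⟩) (.one ⟨13441, 2, 8⟩)) (.node 1 (.one ⟨2825, 2, 7⟩) (.one ⟨5344, 2, 9⟩)))) (.node 4 (.node 2 (.node 1 (.one ⟨10905, 2, 9⟩) (.one ⟨4399, 2, 6⟩)) (.node 1 (.one ⟨9503, 2, 8⟩) (.one ⟨8835, 0, 7⟩))) (.node 2 (.node 1 (.one ⟨12470, 1, 9⟩) (.one ⟨6965, 0, 6⟩))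 (.node 1 (.one ⟨12521, 1, 5⟩) (.one ⟨14867, 2, 9⟩))))) (.node 8 (.node 4 (.node 2 (.node 1 (.one ⟨7075, 0, 7⟩) (.one ⟨9014, 0, 10⟩)) (.node 1 (.one ⟨3855, 1, 9⟩) (.one ⟨419, 2, 7⟩))) (.node 2 (.node 1 (.one ⟨8493, 0, 10⟩) (.one ⟨11906, 1, 10⟩)) (.node 1 (.one ⟨295, 0, 8⟩) (.one ⟨5512, 0, 5⟩)))) (.node 4 (.node 2 (.node 1 (.one ⟨2725, 2, 10⟩) (.one ⟨4851, 2, 9⟩)) (.node 1 (.one ⟨10530, 0, 9⟩) (.one ⟨16412, 2, 5⟩))) (.node 2 (.node 1 (.one ⟨15602, 2, 7⟩) (.one ⟨15847, 1, 8⟩)) (.node 1 (.one ⟨12312, 0, 7⟩) (.one ⟨10196, 1, 9⟩)))))))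
def par10_9_5 : Arr Par :=
  (.node 32 (.node 16 (.node 8 (.node 4 (.node 2 (.node 1 (.one ⟨12095, 0, 10⟩) (.one ⟨12323, 0, 5⟩)) (.node 1 (.one ⟨2918, 0, 10⟩) (.one ⟨3786, 2, 7⟩))) (.node 2 (.node 1 (.one ⟨4186, 2, 7⟩) (.one ⟨12909, 0, 7⟩)) (.node 1 (.one ⟨2475, 0, 6⟩) (.one ⟨6206, 2, 9⟩)))) (.node 4 (.node 2 (.node 1 (.one ⟨8976, 0, 6⟩) (.one ⟨13902, 1, 8⟩)) (.node 1 (.one ⟨5853, 1, 8⟩) (.one ⟨15633, 0, 6⟩))) (.node 2 (.node 1 (.one ⟨12947, 2, 9⟩) (.one ⟨8991, 2, 7⟩)) (.node 1 (.one ⟨13932, 1, 9⟩) (.one ⟨12787, 2, 9⟩))))) (.node 8 (.node 4 (.node 2 (.node 1 (.one ⟨10227, 1, 10⟩) (.one ⟨8674, 2, 8⟩)) (.node 1 (.one ⟨13995, 1, 9⟩) (.one ⟨7944, 0, 8⟩))) (.node 2 (.node 1 (.one ⟨1020, 2, 9⟩) (.one ⟨4814, 0, 4⟩)) (.node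 1 (.one ⟨2863, 0, 9⟩) (.one ⟨2127, 1, 10⟩)))) (.node 4 (.node 2 (.node 1 (.one ⟨2096, 1, 5⟩) (.one ⟨6863, 2, 10⟩)) (.node 1 (.one ⟨9646, 2, 9⟩) (.one ⟨14566, 2, 9⟩))) (.node 2 (.node 1 (.one ⟨10178, 1, 8⟩) (.one ⟨10606, 0, 8⟩)) (.node 1 (.one ⟨15922, 2, 10⟩) (.one ⟨4106, 2, 9⟩)))))) (.node 16 (.node 8 (.node 4 (.node 2 (.node 1 (.one ⟨9582, 1, 10⟩) (.one ⟨8440, 2, 9⟩)) (.node 1 (.one ⟨8786, 0, 10⟩) (.one ⟨7454, 2, 8⟩))) (.node 2 (.node 1 (.one ⟨16793, 2, 7⟩) (.one ⟨11168, 1, 10⟩)) (.node 1 (.one ⟨12356, 2, 10⟩) (.one ⟨9478, 2, 8⟩)))) (.node 4 (.node 2 (.node 1 (.one ⟨11398, 0, 8⟩) (.one ⟨3802, 1, 8⟩)) (.node 1 (.one ⟨11888, 1, 10⟩) (.one ⟨6541, 0, 8⟩))) (.node 2 (.node 1 (.one ⟨4651, 2, 8⟩) (.one ⟨3776, 2, 10⟩))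 (.node 1 (.one ⟨10852, 2, 9⟩) (.one ⟨5515, 2, 6⟩))))) (.node 8 (.node 4 (.node 2 (.node 1 (.one ⟨14260, 2, 7⟩) (.one ⟨2724, 2, 10⟩)) (.node 1 (.one ⟨14584, 1, 8⟩) (.one ⟨14592, 1, 8⟩))) (.node 2 (.node 1 (.one ⟨16806, 2, 10⟩) (.one ⟨2276, 0, 2⟩)) (.node 1 (.one ⟨7354, 0, 9⟩) (.one ⟨2307, 1, 9⟩)))) (.node 4 (.node 2 (.node 1 (.one ⟨15727, 2, 7⟩) (.one ⟨14690, 0, 10⟩)) (.node 1 (.one ⟨2343, 1, 9⟩) (.one ⟨16781, 2, 10⟩))) (.node 2 (.node 1 (.one ⟨569, 2, 7⟩) (.one ⟨14260, 0, 7⟩)) (.node 1 (.one ⟨4614, 2, 7⟩) (.one ⟨12489, 1, 9⟩)))))))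
def par10_9_6 : Arr Par :=
  (.node 32 (.node 16 (.node 8 (.node 4 (.node 2 (.node 1 (.one ⟨6444, 0, 7⟩) (.one ⟨1632, 2, 6⟩)) (.node 1 (.one ⟨10147, 2, 7⟩) (.one ⟨12513, 1, 9⟩))) (.node 2 (.node 1 (.one ⟨12502, 1, 9⟩) (.one ⟨2215, 2, 1⟩)) (.node 1 (.one ⟨9308, 2, 1⟩) (.one ⟨2033, 2, 7⟩)))) (.node 4 (.node 2 (.node 1 (.one ⟨16200, 1, 9⟩) (.one ⟨252, 0, 9⟩)) (.node 1 (.one ⟨4402, 1, 10⟩) (.one ⟨16210, 1, 9⟩))) (.node 2 (.node 1 (.one ⟨8738, 0, 8⟩) (.one ⟨10339, 2, 10⟩)) (.node 1 (.one ⟨2687, 2, 6⟩) (.one ⟨9624, 2, 11⟩))))) (.node 8 (.node 4 (.node 2 (.node 1 (.one ⟨3406, 2, 9⟩) (.one ⟨12686, 2, 7⟩)) (.node 1 (.one ⟨440, 0, 8⟩) (.one ⟨6645, 0, 5⟩))) (.node 2 (.node 1 (.one ⟨5069, 2, 8⟩) (.one ⟨6172, 0, 10⟩)) (.node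 1 (.one ⟨3991, 1, 10⟩) (.one ⟨7021, 2, 8⟩)))) (.node 4 (.node 2 (.node 1 (.one ⟨15739, 0, 10⟩) (.one ⟨8017, 2, 7⟩)) (.node 1 (.one ⟨12066, 1, 6⟩) (.one ⟨16397, 1, 7⟩))) (.node 2 (.node 1 (.one ⟨118, 2, 5⟩) (.one ⟨8366, 1, 6⟩)) (.node 1 (.one ⟨16379, 1, 8⟩) (.one ⟨3881, 0, 9⟩)))))) (.node 16 (.node 8 (.node 4 (.node 2 (.node 1 (.one ⟨16712, 0, 7⟩) (.one ⟨14396, 2, 10⟩)) (.node 1 (.one ⟨12678, 2, 8⟩) (.one ⟨14699, 0, 8⟩))) (.node 2 (.node 1 (.one ⟨1197, 0, 8⟩) (.one ⟨725, 1, 10⟩)) (.node 1 (.one ⟨12203, 0, 10⟩) (.one ⟨13693, 0, 7⟩)))) (.node 4 (.node 2 (.node 1 (.one ⟨419, 1, 7⟩) (.one ⟨8380, 2, 6⟩)) (.node 1 (.one ⟨14868, 1, 5⟩) (.one ⟨8376, 2, 9⟩))) (.node 2 (.node 1 (.one ⟨4614, 1, 7⟩) (.one ⟨7182, 0, 8⟩)) (.node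 1 (.one ⟨754, 2, 8⟩) (.one ⟨16909, 2, 9⟩))))) (.node 8 (.node 4 (.node 2 (.node 1 (.one ⟨5363, 2, 4⟩) (.one ⟨1804, 2, 4⟩)) (.node 1 (.one ⟨16894, 0, 10⟩) (.one ⟨4480, 0, 6⟩))) (.node 2 (.node 1 (.one ⟨15145, 0, 9⟩) (.one ⟨5481, 2, 8⟩)) (.node 1 (.one ⟨17055, 2, 9⟩) (.one ⟨4328, 2, 8⟩)))) (.node 4 (.node 2 (.node 1 (.one ⟨2849, 0, 6⟩) (.one ⟨11462, 2, 9⟩)) (.node 1 (.one ⟨2986, 0, 9⟩) (.one ⟨10031, 0, 8⟩))) (.node 2 (.node 1 (.one ⟨10100, 2, 7⟩) (.one ⟨9145, 0, 9⟩)) (.node 1 (.one ⟨6220, 1, 11⟩) (.one ⟨13165, 0, 8⟩)))))))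
def par10_9_7 : Arr Par :=
  (.node 32 (.node 16 (.node 8 (.node 4 (.node 2 (.node 1 (.one ⟨16079, 0, 9⟩) (.one ⟨6946, 2, 7⟩)) (.node 1 (.one ⟨8084, 0, 8⟩) (.one ⟨2893, 2, 10⟩))) (.node 2 (.node 1 (.one ⟨2955, 1, 10⟩) (.one ⟨13108, 2, 9⟩)) (.node 1 (.one ⟨7091, 0, 11⟩) (.one ⟨16177, 2, 7⟩)))) (.node 4 (.node 2 (.node 1 (.one ⟨9344, 2, 7⟩) (.one ⟨9786, 0, 5⟩)) (.node 1 (.one ⟨14796, 2, 9⟩) (.one ⟨6036, 1, 6⟩))) (.node 2 (.node 1 (.one ⟨2477, 2, 7⟩) (.one ⟨4840, 2, 8⟩)) (.node 1 (.one ⟨5654, 0, 9⟩) (.one ⟨8882, 0, 10⟩))))) (.node 8 (.node 4 (.node 2 (.node 1 (.one ⟨7037, 0, 9⟩) (.one ⟨16430, 2, 10⟩)) (.node 1 (.one ⟨4805, 0, 8⟩) (.one ⟨15973, 2, 4⟩))) (.node 2 (.node 1 (.one ⟨4282, 0, 8⟩) (.one ⟨8739, 1, 10⟩)) (.node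 1 (.one ⟨6289, 2, 7⟩) (.one ⟨2769, 2, 10⟩)))) (.node 4 (.node 2 (.node 1 (.one ⟨9421, 1, 5⟩) (.one ⟨15834, 0, 11⟩)) (.node 1 (.one ⟨9719, 1, 10⟩) (.one ⟨8623, 1, 11⟩))) (.node 2 (.node 1 (.one ⟨3577, 0, 7⟩) (.one ⟨14466, 2, 11⟩)) (.node 1 (.one ⟨13077, 0, 9⟩) (.one ⟨40, 2, 10⟩)))))) (.node 16 (.node 8 (.node 4 (.node 2 (.node 1 (.one ⟨4892, 1, 7⟩) (.one ⟨9808, 2, 6⟩)) (.node 1 (.one ⟨16855, 1, 9⟩) (.one ⟨16734, 1, 8⟩))) (.node 2 (.node 1 (.one ⟨14457, 1, 8⟩) (.one ⟨5346, 1, 9⟩)) (.node 1 (.one ⟨1938, 2, 9⟩) (.one ⟨6845, 2, 9⟩)))) (.node 4 (.node 2 (.node 1 (.one ⟨4804, 1, 9⟩) (.one ⟨9417, 1, 9⟩)) (.node 1 (.one ⟨6831, 0, 4⟩) (.one ⟨12703, 0, 4⟩))) (.node 2 (.node 1 (.one ⟨4738, 1, 9⟩) (.one ⟨13066, 2, 10⟩)) (.node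 1 (.one ⟨7904, 0, 7⟩) (.one ⟨13431, 0, 10⟩))))) (.node 8 (.node 4 (.node 2 (.node 1 (.one ⟨6299, 1, 6⟩) (.one ⟨16978, 0, 10⟩)) (.node 1 (.one ⟨12708, 0, 11⟩) (.one ⟨1825, 2, 9⟩))) (.node 2 (.node 1 (.one ⟨1742, 0, 6⟩) (.one ⟨2672, 0, 11⟩)) (.node 1 (.one ⟨7452, 2, 10⟩) (.one ⟨735, 2, 9⟩)))) (.node 4 (.node 2 (.node 1 (.one ⟨4787, 1, 9⟩) (.one ⟨1326, 2, 7⟩)) (.node 1 (.one ⟨10352, 2, 8⟩) (.one ⟨4579, 0, 8⟩))) (.node 2 (.node 1 (.one ⟨1605, 2, 10⟩) (.one ⟨30, 0, 9⟩)) (.node 1 (.one ⟨1668, 2, 8⟩) (.one ⟨4793, 1, 7⟩)))))))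
def par10_9_8 : Arr Par :=
  (.node 32 (.node 16 (.node 8 (.node 4 (.node 2 (.node 1 (.one ⟨1194, 2, 6⟩) (.one ⟨432, 2, 9⟩)) (.node 1 (.one ⟨7105, 0, 8⟩) (.one ⟨8459, 2, 5⟩))) (.node 2 (.node 1 (.one ⟨15267, 0, 9⟩) (.one ⟨4109, 2, 9⟩)) (.node 1 (.one ⟨8444, 2, 11⟩) (.one ⟨7548, 0, 10⟩)))) (.node 4 (.node 2 (.node 1 (.one ⟨4038, 2, 7⟩) (.one ⟨10926, 2, 8⟩)) (.node 1 (.one ⟨2569, 2, 8⟩) (.one ⟨9419, 1, 10⟩))) (.node 2 (.node 1 (.one ⟨2170, 0, 8⟩) (.one ⟨12476, 2, 6⟩)) (.node 1 (.one ⟨4568, 2, 8⟩) (.one ⟨6893, 0, 7⟩))))) (.node 8 (.node 4 (.node 2 (.node 1 (.one ⟨7506, 0, 9⟩) (.one ⟨950, 2, 8⟩)) (.node 1 (.one ⟨11806, 1, 9⟩) (.one ⟨10188, 0, 8⟩))) (.node 2 (.node 1 (.one ⟨138, 2, 10⟩) (.one ⟨6768, 0, 10⟩)) (.node 1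 (.one ⟨7372, 0, 9⟩) (.one ⟨3284, 2, 11⟩)))) (.node 4 (.node 2 (.node 1 (.one ⟨277, 2, 5⟩) (.one ⟨15918, 2, 7⟩)) (.node 1 (.one ⟨4131, 0, 8⟩) (.one ⟨10035, 0, 10⟩))) (.node 2 (.node 1 (.one ⟨15114, 2, 8⟩) (.one ⟨5014, 2, 6⟩)) (.node 1 (.one ⟨12112, 0, 6⟩) (.one ⟨12271, 2, 10⟩)))))) (.node 16 (.node 8 (.node 4 (.node 2 (.node 1 (.one ⟨4609, 1, 10⟩) (.one ⟨7036, 0, 7⟩)) (.node 1 (.one ⟨6593, 1, 7⟩) (.one ⟨16354, 2, 5⟩))) (.node 2 (.node 1 (.one ⟨12823, 1, 8⟩) (.one ⟨15732, 1, 10⟩)) (.node 1 (.one ⟨14724, 1, 9⟩) (.one ⟨13420, 1, 11⟩)))) (.node 4 (.node 2 (.node 1 (.one ⟨4625, 2, 11⟩) (.one ⟨9577, 2, 9⟩)) (.node 1 (.one ⟨16832, 2, 10⟩) (.one ⟨6278, 2, 9⟩))) (.node 2 (.node 1 (.one ⟨4571, 2, 9⟩) (.one ⟨9097, 0, 9⟩)) (.node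 1 (.one ⟨11737, 1, 10⟩) (.one ⟨3693, 1, 4⟩))))) (.node 8 (.node 4 (.node 2 (.node 1 (.one ⟨14423, 0, 5⟩) (.one ⟨3402, 0, 7⟩)) (.node 1 (.one ⟨1123, 2, 10⟩) (.one ⟨9747, 2, 9⟩))) (.node 2 (.node 1 (.one ⟨5064, 2, 4⟩) (.one ⟨1978, 2, 8⟩)) (.node 1 (.one ⟨6913, 0, 10⟩) (.one ⟨3896, 2, 1⟩)))) (.node 4 (.node 2 (.node 1 (.one ⟨7062, 0, 10⟩) (.one ⟨5063, 2, 6⟩)) (.node 1 (.one ⟨3903, 2, 4⟩) (.one ⟨1151, 0, 9⟩))) (.node 2 (.node 1 (.one ⟨13151, 2, 10⟩) (.one ⟨13144, 2, 11⟩)) (.node 1 (.one ⟨11984, 2, 8⟩) (.one ⟨12597, 2, 5⟩)))))))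
def par10_9_9 : Arr Par :=
  (.node 32 (.node 16 (.node 8 (.node 4 (.node 2 (.node 1 (.one ⟨9005, 2, 8⟩) (.one ⟨699, 2, 4⟩)) (.node 1 (.one ⟨2877, 0, 6⟩) (.one ⟨8950, 2, 8⟩))) (.node 2 (.node 1 (.one ⟨2874, 0, 8⟩) (.one ⟨14451, 2, 9⟩)) (.node 1 (.one ⟨7424, 0, 10⟩) (.one ⟨5405, 2, 9⟩)))) (.node 4 (.node 2 (.node 1 (.one ⟨3460, 2, 6⟩) (.one ⟨617, 2, 7⟩)) (.node 1 (.one ⟨4778, 1, 11⟩) (.one ⟨7106, 2, 7⟩))) (.node 2 (.node 1 (.one ⟨8923, 2, 6⟩) (.one ⟨7967, 2, 7⟩)) (.node 1 (.one ⟨12491, 0, 9⟩) (.one ⟨9410, 2, 10⟩))))) (.node 8 (.node 4 (.node 2 (.node 1 (.one ⟨7866, 0, 5⟩) (.one ⟨3531, 2, 9⟩)) (.node 1 (.one ⟨11674, 0, 6⟩) (.one ⟨4900, 1, 8⟩))) (.node 2 (.node 1 (.one ⟨1753, 1, 9⟩) (.one ⟨8053, 1, 9⟩)) (.node 1 (.one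 ⟨12797, 2, 8⟩) (.one ⟨9400, 2, 9⟩)))) (.node 4 (.node 2 (.node 1 (.one ⟨1746, 0, 9⟩) (.one ⟨15195, 0, 4⟩)) (.node 1 (.one ⟨15404, 1, 7⟩) (.one ⟨13409, 2, 9⟩))) (.node 2 (.node 1 (.one ⟨11516, 0, 8⟩) (.one ⟨3572, 2, 9⟩)) (.node 1 (.one ⟨11518, 1, 9⟩) (.one ⟨5379, 0, 10⟩)))))) (.node 16 (.node 8 (.node 4 (.node 2 (.node 1 (.one ⟨10074, 2, 7⟩) (.one ⟨925, 1, 6⟩)) (.node 1 (.one ⟨6105, 1, 5⟩) (.one ⟨6108, 1, 5⟩))) (.node 2 (.node 1 (.one ⟨16062, 2, 3⟩) (.one ⟨9305, 2, 8⟩)) (.node 1 (.one ⟨11820, 2, 7⟩) (.one ⟨5907, 1, 11⟩)))) (.node 4 (.node 2 (.node 1 (.one ⟨16861, 1, 9⟩) (.one ⟨8204, 2, 8⟩)) (.node 1 (.one ⟨16963, 1, 6⟩) (.one ⟨4007, 2, 9⟩))) (.node 2 (.node 1 (.one ⟨4522, 1, 10⟩) (.one ⟨11089, 1, 10⟩)) (.node 1 (.one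 ⟨2383, 2, 2⟩) (.one ⟨12080, 0, 10⟩))))) (.node 8 (.node 4 (.node 2 (.node 1 (.one ⟨5178, 2, 9⟩) (.one ⟨807, 0, 10⟩)) (.node 1 (.one ⟨8243, 2, 10⟩) (.one ⟨2914, 2, 9⟩))) (.node 2 (.node 1 (.one ⟨200, 2, 9⟩) (.one ⟨16220, 1, 10⟩)) (.node 1 (.one ⟨4129, 0, 9⟩) (.one ⟨1768, 0, 8⟩)))) (.node 4 (.node 2 (.node 1 (.one ⟨13540, 1, 11⟩) (.one ⟨7388, 2, 9⟩)) (.node 1 (.one ⟨10693, 1, 10⟩) (.one ⟨1584, 1, 9⟩))) (.node 2 (.node 1 (.one ⟨2590, 0, 9⟩) (.one ⟨10008, 0, 8⟩)) (.node 1 (.one ⟨1723, 1, 8⟩) (.one ⟨1667, 2, 8⟩)))))))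
def par10_9_10 : Arr Par :=
  (.node 32 (.node 16 (.node 8 (.node 4 (.node 2 (.node 1 (.one ⟨1707, 1, 3⟩) (.one ⟨9696, 2, 8⟩)) (.node 1 (.one ⟨6615, 2, 10⟩) (.one ⟨1610, 0, 9⟩))) (.node 2 (.node 1 (.one ⟨745, 2, 5⟩) (.one ⟨12258, 1, 9⟩)) (.node 1 (.one ⟨9528, 2, 11⟩) (.one ⟨1999, 1, 10⟩)))) (.node 4 (.node 2 (.node 1 (.one ⟨2231, 2, 8⟩) (.one ⟨15420, 1, 9⟩)) (.node 1 (.one ⟨8428, 2, 8⟩) (.one ⟨7665, 1, 10⟩))) (.node 2 (.node 1 (.one ⟨8798, 2, 9⟩) (.one ⟨12937, 2, 9⟩)) (.node 1 (.one ⟨1391, 2, 9⟩) (.one ⟨12211, 2, 9⟩))))) (.node 8 (.node 4 (.node 2 (.node 1 (.one ⟨1568, 1, 10⟩) (.one ⟨16362, 2, 9⟩)) (.node 1 (.one ⟨8656, 0, 10⟩) (.one ⟨13711, 2, 9⟩))) (.node 2 (.node 1 (.one ⟨9725, 0, 10⟩) (.one ⟨1797, 1, 12⟩)) (.node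 1 (.one ⟨12795, 0, 9⟩) (.one ⟨16096, 2, 10⟩)))) (.node 4 (.node 2 (.node 1 (.one ⟨5723, 0, 4⟩) (.one ⟨3658, 2, 11⟩)) (.node 1 (.one ⟨14151, 1, 4⟩) (.one ⟨11668, 2, 10⟩))) (.node 2 (.node 1 (.one ⟨2186, 1, 9⟩) (.one ⟨7676, 2, 9⟩)) (.node 1 (.one ⟨13731, 1, 4⟩) (.one ⟨12030, 2, 9⟩)))))) (.node 16 (.node 8 (.node 4 (.node 2 (.node 1 (.one ⟨7988, 1, 8⟩) (.one ⟨14812, 1, 4⟩)) (.node 1 (.one ⟨12918, 1, 9⟩) (.one ⟨6348, 0, 8⟩))) (.node 2 (.node 1 (.one ⟨14749, 1, 9⟩) (.one ⟨2268, 0, 11⟩)) (.node 1 (.one ⟨1882, 1, 6⟩) (.one ⟨13375, 0, 9⟩)))) (.node 4 (.node 2 (.node 1 (.one ⟨12140, 1, 12⟩) (.one ⟨4546, 2, 11⟩)) (.node 1 (.one ⟨4615, 2, 8⟩) (.one ⟨16819, 2, 7⟩))) (.node 2 (.node 1 (.one ⟨749, 1, 10⟩) (.one ⟨16306, 1, 11⟩))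 (.node 1 (.one ⟨1968, 1, 11⟩) (.one ⟨6043, 1, 5⟩))))) (.node 8 (.node 4 (.node 2 (.node 1 (.one ⟨11761, 2, 10⟩) (.one ⟨2188, 1, 8⟩)) (.node 1 (.one ⟨6006, 2, 11⟩) (.one ⟨6170, 1, 10⟩))) (.node 2 (.node 1 (.one ⟨3177, 2, 8⟩) (.one ⟨15691, 2, 10⟩)) (.node 1 (.one ⟨5723, 1, 4⟩) (.one ⟨13174, 1, 9⟩)))) (.node 4 (.node 2 (.node 1 (.one ⟨578, 2, 8⟩) (.one ⟨4147, 1, 10⟩)) (.node 1 (.one ⟨579, 2, 10⟩) (.one ⟨13446, 1, 10⟩))) (.node 2 (.node 1 (.one ⟨1781, 1, 8⟩) (.one ⟨9430, 2, 9⟩)) (.node 1 (.one ⟨9425, 2, 9⟩) (.one ⟨9826, 2, 6⟩)))))))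
def par10_9_11 : Arr Par :=
  (.node 32 (.node 16 (.node 8 (.node 4 (.node 2 (.node 1 (.one ⟨13168, 2, 5⟩) (.one ⟨1933, 0, 10⟩)) (.node 1 (.one ⟨15690, 2, 5⟩) (.one ⟨14187, 0, 5⟩))) (.node 2 (.node 1 (.one ⟨1403, 2, 9⟩) (.one ⟨7757, 2, 9⟩)) (.node 1 (.one ⟨11698, 0, 6⟩) (.one ⟨4438, 0, 11⟩)))) (.node 4 (.node 2 (.node 1 (.one ⟨17026, 0, 10⟩) (.one ⟨14091, 1, 10⟩)) (.node 1 (.one ⟨10049, 2, 7⟩) (.one ⟨11697, 0, 5⟩))) (.node 2 (.node 1 (.one ⟨14587, 1, 10⟩) (.one ⟨6380, 1, 11⟩)) (.node 1 (.one ⟨2416, 1, 11⟩) (.one ⟨2760, 1, 3⟩))))) (.node 8 (.node 4 (.node 2 (.node 1 (.one ⟨1313, 2, 8⟩) (.one ⟨8029, 1, 11⟩)) (.node 1 (.one ⟨8594, 1, 8⟩) (.one ⟨4630, 2, 10⟩))) (.node 2 (.node 1 (.one ⟨1840, 1, 8⟩) (.one ⟨7818, 1, 9⟩))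 (.node 1 (.one ⟨8419, 1, 10⟩) (.one ⟨9817, 1, 5⟩)))) (.node 4 (.node 2 (.node 1 (.one ⟨16518, 0, 7⟩) (.one ⟨13556, 0, 10⟩)) (.node 1 (.one ⟨6869, 0, 10⟩) (.one ⟨11989, 0, 8⟩))) (.node 2 (.node 1 (.one ⟨3150, 2, 9⟩) (.one ⟨2547, 0, 6⟩)) (.node 1 (.one ⟨4598, 2, 8⟩) (.one ⟨3174, 2, 10⟩)))))) (.node 16 (.node 8 (.node 4 (.node 2 (.node 1 (.one ⟨10919, 0, 6⟩) (.one ⟨10166, 2, 10⟩)) (.node 1 (.one ⟨747, 2, 9⟩) (.one ⟨11157, 0, 8⟩))) (.node 2 (.node 1 (.one ⟨2272, 1, 5⟩) (.one ⟨12447, 0, 8⟩)) (.node 1 (.one ⟨9278, 2, 11⟩) (.one ⟨9643, 0, 10⟩)))) (.node 4 (.node 2 (.node 1 (.one ⟨6340, 2, 10⟩) (.one ⟨10854, 2, 8⟩)) (.node 1 (.one ⟨6614, 2, 10⟩) (.one ⟨1114, 2, 11⟩))) (.node 2 (.node 1 (.one ⟨13776, 2, 9⟩) (.one ⟨5357, 0,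 9⟩)) (.node 1 (.one ⟨15241, 2, 6⟩) (.one ⟨8737, 2, 7⟩))))) (.node 8 (.node 4 (.node 2 (.node 1 (.one ⟨15280, 1, 9⟩) (.one ⟨637, 2, 9⟩)) (.node 1 (.one ⟨6736, 1, 4⟩) (.one ⟨8742, 2, 6⟩))) (.node 2 (.node 1 (.one ⟨4150, 0, 8⟩) (.one ⟨283, 2, 9⟩)) (.node 1 (.one ⟨13114, 0, 7⟩) (.one ⟨3807, 0, 7⟩)))) (.node 4 (.node 2 (.node 1 (.one ⟨5673, 1, 9⟩) (.one ⟨16658, 0, 6⟩)) (.node 1 (.one ⟨16151, 2, 8⟩) (.one ⟨5665, 2, 9⟩))) (.node 2 (.node 1 (.one ⟨17029, 2, 9⟩) (.one ⟨1161, 0, 9⟩)) (.node 1 (.one ⟨14850, 0, 9⟩) (.one ⟨5651, 1, 9⟩)))))))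
def par10_9_12 : Arr Par :=
  (.node 32 (.node 16 (.node 8 (.node 4 (.node 2 (.node 1 (.one ⟨1674, 2, 8⟩) (.one ⟨90, 0, 8⟩)) (.node 1 (.one ⟨15430, 2, 9⟩) (.one ⟨1628, 2, 7⟩))) (.node 2 (.node 1 (.one ⟨1563, 2, 7⟩) (.one ⟨16180, 0, 6⟩)) (.node 1 (.one ⟨6728, 0, 10⟩) (.one ⟨12475, 1, 8⟩)))) (.node 4 (.node 2 (.node 1 (.one ⟨57, 0, 7⟩) (.one ⟨16613, 1, 9⟩)) (.node 1 (.one ⟨3606, 2, 8⟩) (.one ⟨9602, 2, 8⟩))) (.node 2 (.node 1 (.one ⟨16898, 2, 9⟩) (.one ⟨7526, 1, 8⟩)) (.node 1 (.one ⟨1822, 1, 8⟩) (.one ⟨3524, 2, 10⟩))))) (.node 8 (.node 4 (.node 2 (.node 1 (.one ⟨16849, 1, 4⟩) (.one ⟨16938, 2, 9⟩)) (.node 1 (.one ⟨1745, 1, 8⟩) (.one ⟨1300, 2, 7⟩))) (.node 2 (.node 1 (.one ⟨544, 0, 8⟩) (.one ⟨15419, 2, 9⟩)) (.node 1 (.one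 ⟨11272, 2, 10⟩) (.one ⟨7641, 1, 9⟩)))) (.node 4 (.node 2 (.node 1 (.one ⟨552, 0, 7⟩) (.one ⟨4674, 1, 9⟩)) (.node 1 (.one ⟨3786, 0, 7⟩) (.one ⟨8641, 0, 9⟩))) (.node 2 (.node 1 (.one ⟨7346, 0, 9⟩) (.one ⟨4740, 2, 10⟩)) (.node 1 (.one ⟨9022, 0, 10⟩) (.one ⟨14608, 2, 8⟩)))))) (.node 16 (.node 8 (.node 4 (.node 2 (.node 1 (.one ⟨11198, 2, 11⟩) (.one ⟨4940, 2, 9⟩)) (.node 1 (.one ⟨5570, 1, 10⟩) (.one ⟨2771, 0, 9⟩))) (.node 2 (.node 1 (.one ⟨8391, 0, 7⟩) (.one ⟨6930, 2, 10⟩)) (.node 1 (.one ⟨1638, 2, 7⟩) (.one ⟨3175, 0, 7⟩)))) (.node 4 (.node 2 (.node 1 (.one ⟨2912, 2, 9⟩) (.one ⟨13292, 1, 9⟩)) (.node 1 (.one ⟨1437, 0, 11⟩) (.one ⟨382, 2, 6⟩))) (.node 2 (.node 1 (.one ⟨16967, 1, 7⟩) (.one ⟨3129, 0, 7⟩)) (.node 1 (.one ⟨9930,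 1, 8⟩) (.one ⟨10893, 2, 7⟩))))) (.node 8 (.node 4 (.node 2 (.node 1 (.one ⟨3370, 2, 9⟩) (.one ⟨12063, 1, 3⟩)) (.node 1 (.one ⟨9356, 2, 7⟩) (.one ⟨14487, 0, 9⟩))) (.node 2 (.node 1 (.one ⟨14720, 2, 10⟩) (.one ⟨13775, 2, 9⟩)) (.node 1 (.one ⟨6443, 2, 9⟩) (.one ⟨9088, 0, 8⟩)))) (.node 4 (.node 2 (.node 1 (.one ⟨609, 2, 9⟩) (.one ⟨10883, 1, 11⟩)) (.node 1 (.one ⟨11001, 1, 8⟩) (.one ⟨9145, 1, 9⟩))) (.node 2 (.node 1 (.one ⟨13981, 0, 9⟩) (.one ⟨9284, 2, 10⟩)) (.node 1 (.one ⟨9285, 2, 10⟩) (.one ⟨3792, 2, 8⟩)))))))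
def par10_9_13 : Arr Par :=
  (.node 32 (.node 16 (.node 8 (.node 4 (.node 2 (.node 1 (.one ⟨16613, 0, 9⟩) (.one ⟨8717, 0, 6⟩)) (.node 1 (.one ⟨4510, 0, 10⟩) (.one ⟨14713, 2, 8⟩))) (.node 2 (.node 1 (.one ⟨14498, 1, 8⟩) (.one ⟨15521, 0, 10⟩)) (.node 1 (.one ⟨2602, 2, 8⟩) (.one ⟨8721, 1, 9⟩)))) (.node 4 (.node 2 (.node 1 (.one ⟨9886, 2, 5⟩) (.one ⟨11025, 0, 8⟩)) (.node 1 (.one ⟨3866, 2, 7⟩) (.one ⟨1615, 0, 9⟩))) (.node 2 (.node 1 (.one ⟨2868, 2, 10⟩) (.one ⟨1276, 1, 9⟩)) (.node 1 (.one ⟨5756, 0, 2⟩) (.one ⟨1441, 0, 9⟩))))) (.node 8 (.node 4 (.node 2 (.node 1 (.one ⟨4291, 0, 9⟩) (.one ⟨14507, 0, 10⟩)) (.node 1 (.one ⟨10062, 1, 3⟩) (.one ⟨15660, 2, 9⟩))) (.node 2 (.node 1 (.one ⟨7551, 2, 9⟩) (.one ⟨215, 1, 10⟩)) (.node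 1 (.one ⟨15634, 2, 5⟩) (.one ⟨15309, 0, 10⟩)))) (.node 4 (.node 2 (.node 1 (.one ⟨11755, 2, 7⟩) (.one ⟨4802, 0, 6⟩)) (.node 1 (.one ⟨13851, 1, 6⟩) (.one ⟨16716, 2, 8⟩))) (.node 2 (.node 1 (.one ⟨5606, 2, 8⟩) (.one ⟨12626, 2, 9⟩)) (.node 1 (.one ⟨1229, 1, 8⟩) (.one ⟨11638, 2, 10⟩)))))) (.node 16 (.node 8 (.node 4 (.node 2 (.node 1 (.one ⟨13997, 2, 11⟩) (.one ⟨13325, 2, 12⟩)) (.node 1 (.one ⟨7028, 1, 12⟩) (.one ⟨1404, 2, 6⟩))) (.node 2 (.node 1 (.one ⟨7620, 2, 8⟩) (.one ⟨3126, 2, 9⟩)) (.node 1 (.one ⟨8869, 2, 11⟩) (.one ⟨2699, 0, 9⟩)))) (.node 4 (.node 2 (.node 1 (.one ⟨4524, 1, 9⟩) (.one ⟨11364, 1, 9⟩)) (.node 1 (.one ⟨9656, 2, 7⟩) (.one ⟨4980, 1, 9⟩))) (.node 2 (.node 1 (.one ⟨2238, 0, 8⟩) (.one ⟨12833, 2, 10⟩))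 (.node 1 (.one ⟨695, 0, 4⟩) (.one ⟨12365, 2, 9⟩))))) (.node 8 (.node 4 (.node 2 (.node 1 (.one ⟨12486, 2, 7⟩) (.one ⟨7452, 1, 10⟩)) (.node 1 (.one ⟨12562, 0, 7⟩) (.one ⟨14783, 0, 9⟩))) (.node 2 (.node 1 (.one ⟨13919, 2, 6⟩) (.one ⟨13545, 0, 7⟩)) (.node 1 (.one ⟨14115, 0, 9⟩) (.one ⟨16845, 2, 8⟩)))) (.node 4 (.node 2 (.node 1 (.one ⟨7777, 2, 11⟩) (.one ⟨112, 0, 6⟩)) (.node 1 (.one ⟨15306, 0, 7⟩) (.one ⟨12062, 2, 8⟩))) (.node 2 (.node 1 (.one ⟨15225, 0, 9⟩) (.one ⟨1271, 1, 8⟩)) (.node 1 (.one ⟨3627, 1, 7⟩) (.one ⟨8960, 1, 6⟩)))))))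
def par10_9_14 : Arr Par :=
  (.node 32 (.node 16 (.node 8 (.node 4 (.node 2 (.node 1 (.one ⟨12969, 1, 8⟩) (.one ⟨13168, 1, 5⟩)) (.node 1 (.one ⟨14896, 2, 6⟩) (.one ⟨4434, 0, 9⟩))) (.node 2 (.node 1 (.one ⟨7855, 2, 6⟩) (.one ⟨5673, 2, 9⟩)) (.node 1 (.one ⟨11049, 2, 8⟩) (.one ⟨8892, 0, 10⟩)))) (.node 4 (.node 2 (.node 1 (.one ⟨6918, 1, 8⟩) (.one ⟨2068, 2, 10⟩)) (.node 1 (.one ⟨12158, 0, 11⟩) (.one ⟨13712, 2, 9⟩))) (.node 2 (.node 1 (.one ⟨4206, 0, 9⟩) (.one ⟨9439, 2, 10⟩)) (.node 1 (.one ⟨9146, 1, 9⟩) (.one ⟨13688, 2, 9⟩))))) (.node 8 (.node 4 (.node 2 (.node 1 (.one ⟨14866, 1, 8⟩) (.one ⟨9147, 1, 9⟩)) (.node 1 (.one ⟨7321, 0, 8⟩) (.one ⟨5176, 2, 11⟩))) (.node 2 (.node 1 (.one ⟨7080, 1, 10⟩) (.one ⟨3951, 0, 9⟩)) (.node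 1 (.one ⟨6885, 1, 9⟩) (.one ⟨8731, 1, 8⟩)))) (.node 4 (.node 2 (.node 1 (.one ⟨17164, 1, 9⟩) (.one ⟨3864, 2, 8⟩)) (.node 1 (.one ⟨2394, 1, 10⟩) (.one ⟨10610, 2, 7⟩))) (.node 2 (.node 1 (.one ⟨14310, 1, 9⟩) (.one ⟨12093, 2, 7⟩)) (.node 1 (.one ⟨2110, 0, 9⟩) (.one ⟨4577, 0, 8⟩)))))) (.node 16 (.node 8 (.node 4 (.node 2 (.node 1 (.one ⟨8644, 2, 8⟩) (.one ⟨7211, 2, 8⟩)) (.node 1 (.one ⟨12551, 2, 8⟩) (.one ⟨9763, 0, 6⟩))) (.node 2 (.node 1 (.one ⟨6593, 0, 7⟩) (.one ⟨12823, 0, 8⟩)) (.node 1 (.one ⟨14533, 2, 6⟩) (.one ⟨15249, 0, 10⟩)))) (.node 4 (.node 2 (.node 1 (.one ⟨8140, 2, 8⟩) (.one ⟨5699, 2, 6⟩)) (.node 1 (.one ⟨13783, 1, 7⟩) (.one ⟨2391, 2, 5⟩))) (.node 2 (.node 1 (.one ⟨8682, 0, 9⟩) (.one ⟨1226, 1, 7⟩)) (.node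 1 (.one ⟨15638, 1, 6⟩) (.one ⟨9540, 1, 8⟩))))) (.node 8 (.node 4 (.node 2 (.node 1 (.one ⟨12028, 0, 7⟩) (.one ⟨14547, 2, 9⟩)) (.node 1 (.one ⟨10240, 1, 8⟩) (.one ⟨8690, 2, 9⟩))) (.node 2 (.node 1 (.one ⟨13300, 2, 8⟩) (.one ⟨13395, 0, 6⟩)) (.node 1 (.one ⟨8805, 2, 9⟩) (.one ⟨14317, 0, 11⟩)))) (.node 4 (.node 2 (.node 1 (.one ⟨1150, 1, 9⟩) (.one ⟨16702, 2, 8⟩)) (.node 1 (.one ⟨7099, 2, 9⟩) (.one ⟨12981, 2, 9⟩))) (.node 2 (.node 1 (.one ⟨7017, 1, 7⟩) (.one ⟨6984, 0, 10⟩)) (.node 1 (.one ⟨4516, 2, 5⟩) (.one ⟨2777, 0, 7⟩)))))))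
def par10_9_15 : Arr Par :=
  (.node 32 (.node 16 (.node 8 (.node 4 (.node 2 (.node 1 (.one ⟨13284, 1, 5⟩) (.one ⟨3206, 1, 8⟩)) (.node 1 (.one ⟨15239, 2, 7⟩) (.one ⟨11046, 0, 7⟩))) (.node 2 (.node 1 (.one ⟨15930, 0, 8⟩) (.one ⟨15428, 1, 6⟩)) (.node 1 (.one ⟨5913, 1, 7⟩) (.one ⟨1413, 1, 9⟩)))) (.node 4 (.node 2 (.node 1 (.one ⟨11803, 1, 9⟩) (.one ⟨10232, 1, 9⟩)) (.node 1 (.one ⟨256, 2, 8⟩) (.one ⟨11520, 0, 9⟩))) (.node 2 (.node 1 (.one ⟨666, 2, 7⟩) (.one ⟨11761, 1, 10⟩)) (.node 1 (.one ⟨773, 2, 10⟩) (.one ⟨12958, 1, 9⟩))))) (.node 8 (.node 4 (.node 2 (.node 1 (.one ⟨16018, 1, 4⟩) (.one ⟨16139, 2, 9⟩)) (.node 1 (.one ⟨16308, 2, 9⟩) (.one ⟨15061, 1, 10⟩))) (.node 2 (.node 1 (.one ⟨7333, 0, 8⟩) (.one ⟨3798, 2, 8⟩)) (.node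 1 (.one ⟨7727, 1, 9⟩) (.one ⟨12651, 2, 8⟩)))) (.node 4 (.node 2 (.node 1 (.one ⟨1000, 2, 10⟩) (.one ⟨1149, 1, 6⟩)) (.node 1 (.one ⟨6488, 1, 7⟩) (.one ⟨8197, 2, 9⟩))) (.node 2 (.node 1 (.one ⟨15484, 2, 9⟩) (.one ⟨7237, 1, 9⟩)) (.node 1 (.one ⟨1559, 2, 9⟩) (.one ⟨7687, 1, 10⟩)))))) (.node 16 (.node 8 (.node 4 (.node 2 (.node 1 (.one ⟨9563, 1, 10⟩) (.one ⟨7253, 1, 10⟩)) (.node 1 (.one ⟨12914, 0, 8⟩) (.one ⟨15031, 0, 8⟩))) (.node 2 (.node 1 (.one ⟨11326, 1, 10⟩) (.one ⟨13216, 2, 8⟩)) (.node 1 (.one ⟨11577, 1, 11⟩) (.one ⟨15809, 1, 9⟩)))) (.node 4 (.node 2 (.node 1 (.one ⟨13039, 2, 10⟩) (.one ⟨3212, 2, 10⟩)) (.node 1 (.one ⟨15187, 0, 7⟩) (.one ⟨4063, 2, 9⟩))) (.node 2 (.node 1 (.one ⟨3471, 2, 7⟩) (.one ⟨12973, 2, 9⟩))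 (.node 1 (.one ⟨10165, 2, 7⟩) (.one ⟨3714, 2, 7⟩))))) (.node 8 (.node 4 (.node 2 (.node 1 (.one ⟨11134, 2, 7⟩) (.one ⟨5864, 1, 8⟩)) (.node 1 (.one ⟨10227, 0, 10⟩) (.one ⟨10230, 0, 9⟩))) (.node 2 (.node 1 (.one ⟨11770, 2, 7⟩) (.one ⟨10228, 0, 8⟩)) (.node 1 (.one ⟨888, 2, 8⟩) (.one ⟨6835, 0, 10⟩)))) (.node 4 (.node 2 (.node 1 (.one ⟨624, 2, 8⟩) (.one ⟨3628, 0, 10⟩)) (.node 1 (.one ⟨9898, 2, 9⟩) (.one ⟨13821, 0, 9⟩))) (.node 2 (.node 1 (.one ⟨4866, 2, 9⟩) (.one ⟨4547, 2, 9⟩)) (.node 1 (.one ⟨12659, 2, 10⟩) (.one ⟨1202, 2, 6⟩)))))))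
def par10_9 : Arr Par :=
  (.node 512 (.node 256 (.node 128 (.node 64 par10_9_0 par10_9_1) (.node 64 par10_9_2 par10_9_3)) (.node 128 (.node 64 par10_9_4 par10_9_5) (.node 64 par10_9_6 par10_9_7))) (.node 256 (.node 128 (.node 64 par10_9_8 par10_9_9) (.node 64 par10_9_10 par10_9_11)) (.node 128 (.node 64 par10_9_12 par10_9_13) (.node 64 par10_9_14 par10_9_15))))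
def par10_10_0 : Arr Par :=
  (.node 32 (.node 16 (.node 8 (.node 4 (.node 2 (.node 1 (.one ⟨4010, 2, 7⟩) (.one ⟨6635, 0, 5⟩)) (.node 1 (.one ⟨8839, 2, 7⟩) (.one ⟨16477, 0, 7⟩))) (.node 2 (.node 1 (.one ⟨2929, 1, 5⟩) (.one ⟨462, 1, 9⟩)) (.node 1 (.one ⟨2198, 1, 7⟩) (.one ⟨16229, 1, 10⟩)))) (.node 4 (.node 2 (.node 1 (.one ⟨14163, 2, 8⟩) (.one ⟨7587, 0, 10⟩)) (.node 1 (.one ⟨3963, 0, 9⟩) (.one ⟨10817, 1, 10⟩))) (.node 2 (.node 1 (.one ⟨12190, 2, 5⟩) (.one ⟨8844, 1, 9⟩)) (.node 1 (.one ⟨4162, 2, 11⟩) (.one ⟨9551, 1, 10⟩))))) (.node 8 (.node 4 (.node 2 (.node 1 (.one ⟨1576, 0, 6⟩) (.one ⟨15884, 0, 10⟩)) (.node 1 (.one ⟨2177, 0, 10⟩) (.one ⟨5531, 1, 4⟩))) (.node 2 (.node 1 (.one ⟨5696, 2, 8⟩) (.one ⟨3364, 1, 10⟩)) (.node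 1 (.one ⟨17087, 1, 9⟩) (.one ⟨9955, 1, 9⟩)))) (.node 4 (.node 2 (.node 1 (.one ⟨10926, 0, 8⟩) (.one ⟨15391, 2, 6⟩)) (.node 1 (.one ⟨6690, 0, 9⟩) (.one ⟨14079, 0, 9⟩))) (.node 2 (.node 1 (.one ⟨11221, 2, 7⟩) (.one ⟨7102, 2, 8⟩)) (.node 1 (.one ⟨7886, 1, 9⟩) (.one ⟨4830, 2, 9⟩)))))) (.node 16 (.node 8 (.node 4 (.node 2 (.node 1 (.one ⟨1422, 2, 10⟩) (.one ⟨14394, 0, 10⟩)) (.node 1 (.one ⟨15866, 0, 7⟩) (.one ⟨13989, 2, 10⟩))) (.node 2 (.node 1 (.one ⟨12908, 0, 7⟩) (.one ⟨3783, 2, 6⟩)) (.node 1 (.one ⟨2871, 2, 9⟩) (.one ⟨14747, 1, 10⟩)))) (.node 4 (.node 2 (.node 1 (.one ⟨17020, 0, 7⟩) (.one ⟨13937, 2, 10⟩)) (.node 1 (.one ⟨17022, 0, 4⟩) (.one ⟨13984, 1, 9⟩))) (.node 2 (.node 1 (.one ⟨17019, 0, 4⟩) (.one ⟨966, 2, 8⟩))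 (.node 1 (.one ⟨17021, 0, 6⟩) (.one ⟨9737, 2, 9⟩))))) (.node 8 (.node 4 (.node 2 (.node 1 (.one ⟨4535, 2, 9⟩) (.one ⟨6831, 2, 4⟩)) (.node 1 (.one ⟨16668, 0, 10⟩) (.one ⟨1635, 2, 9⟩))) (.node 2 (.node 1 (.one ⟨16665, 0, 10⟩) (.one ⟨15022, 2, 9⟩)) (.node 1 (.one ⟨7904, 2, 7⟩) (.one ⟨2753, 2, 5⟩)))) (.node 4 (.node 2 (.node 1 (.one ⟨2331, 0, 8⟩) (.one ⟨15860, 2, 10⟩)) (.node 1 (.one ⟨8012, 2, 8⟩) (.one ⟨8403, 2, 8⟩))) (.node 2 (.node 1 (.one ⟨4184, 1, 9⟩) (.one ⟨2465, 1, 9⟩)) (.node 1 (.one ⟨4088, 0, 8⟩) (.one ⟨9171, 1, 6⟩)))))))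
def par10_10_1 : Arr Par :=
  (.node 32 (.node 16 (.node 8 (.node 4 (.node 2 (.node 1 (.one ⟨15099, 2, 10⟩) (.one ⟨2722, 2, 8⟩)) (.node 1 (.one ⟨11692, 2, 7⟩) (.one ⟨12299, 2, 8⟩))) (.node 2 (.node 1 (.one ⟨1336, 2, 8⟩) (.one ⟨4597, 0, 9⟩)) (.node 1 (.one ⟨8551, 2, 7⟩) (.one ⟨2291, 0, 8⟩)))) (.node 4 (.node 2 (.node 1 (.one ⟨10464, 1, 8⟩) (.one ⟨1727, 2, 11⟩)) (.node 1 (.one ⟨6604, 0, 7⟩) (.one ⟨16301, 2, 10⟩))) (.node 2 (.node 1 (.one ⟨6068, 0, 9⟩) (.one ⟨3469, 0, 9⟩)) (.node 1 (.one ⟨2203, 1, 8⟩) (.one ⟨6436, 2, 8⟩))))) (.node 8 (.node 4 (.node 2 (.node 1 (.one ⟨7088, 0, 7⟩) (.one ⟨6786, 2, 9⟩)) (.node 1 (.one ⟨7244, 1, 7⟩) (.one ⟨13027, 2, 5⟩))) (.node 2 (.node 1 (.one ⟨10852, 0, 9⟩) (.one ⟨12412, 2, 7⟩)) (.node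 1 (.one ⟨6628, 0, 6⟩) (.one ⟨7210, 0, 8⟩)))) (.node 4 (.node 2 (.node 1 (.one ⟨7731, 2, 11⟩) (.one ⟨16942, 2, 11⟩)) (.node 1 (.one ⟨15434, 2, 10⟩) (.one ⟨15344, 2, 9⟩))) (.node 2 (.node 1 (.one ⟨17012, 2, 10⟩) (.one ⟨7724, 2, 10⟩)) (.node 1 (.one ⟨9163, 0, 3⟩) (.one ⟨5906, 1, 5⟩)))))) (.node 16 (.node 8 (.node 4 (.node 2 (.node 1 (.one ⟨2721, 2, 10⟩) (.one ⟨10775, 2, 6⟩)) (.node 1 (.one ⟨8642, 0, 7⟩) (.one ⟨11541, 2, 9⟩))) (.node 2 (.node 1 (.one ⟨8814, 1, 9⟩) (.one ⟨15689, 0, 7⟩)) (.node 1 (.one ⟨14497, 1, 3⟩) (.one ⟨4209, 2, 7⟩)))) (.node 4 (.node 2 (.node 1 (.one ⟨6485, 1, 9⟩) (.one ⟨3867, 0, 7⟩)) (.node 1 (.one ⟨2720, 2, 9⟩) (.one ⟨10878, 0, 8⟩))) (.node 2 (.node 1 (.one ⟨1934, 0, 9⟩) (.one ⟨6081, 2, 3⟩)) (.node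 1 (.one ⟨7156, 1, 10⟩) (.one ⟨16860, 2, 8⟩))))) (.node 8 (.node 4 (.node 2 (.node 1 (.one ⟨14613, 1, 7⟩) (.one ⟨9164, 2, 7⟩)) (.node 1 (.one ⟨3249, 2, 8⟩) (.one ⟨12085, 0, 8⟩))) (.node 2 (.node 1 (.one ⟨7311, 1, 5⟩) (.one ⟨2904, 1, 9⟩)) (.node 1 (.one ⟨6539, 1, 7⟩) (.one ⟨15957, 0, 7⟩)))) (.node 4 (.node 2 (.node 1 (.one ⟨927, 2, 7⟩) (.one ⟨6070, 0, 10⟩)) (.node 1 (.one ⟨701, 2, 9⟩) (.one ⟨6205, 0, 9⟩))) (.node 2 (.node 1 (.one ⟨12159, 1, 10⟩) (.one ⟨15387, 2, 10⟩)) (.node 1 (.one ⟨166, 2, 8⟩) (.one ⟨9722, 2, 9⟩)))))))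
def par10_10_2 : Arr Par :=
  (.node 32 (.node 16 (.node 8 (.node 4 (.node 2 (.node 1 (.one ⟨7433, 2, 8⟩) (.one ⟨2840, 1, 9⟩)) (.node 1 (.one ⟨16924, 0, 8⟩) (.one ⟨10715, 0, 7⟩))) (.node 2 (.node 1 (.one ⟨14331, 1, 6⟩) (.one ⟨15485, 1, 6⟩)) (.node 1 (.one ⟨13459, 0, 7⟩) (.one ⟨1242, 2, 9⟩)))) (.node 4 (.node 2 (.node 1 (.one ⟨12308, 1, 7⟩) (.one ⟨8782, 1, 7⟩)) (.node 1 (.one ⟨14552, 0, 9⟩) (.one ⟨6041, 0, 10⟩))) (.node 2 (.node 1 (.one ⟨2111, 2, 9⟩) (.one ⟨13092, 1, 10⟩)) (.node 1 (.one ⟨2133, 2, 8⟩) (.one ⟨2668, 0, 10⟩))))) (.node 8 (.node 4 (.node 2 (.node 1 (.one ⟨13564, 2, 7⟩) (.one ⟨1075, 1, 8⟩)) (.node 1 (.one ⟨15894, 2, 10⟩) (.one ⟨2200, 0, 5⟩))) (.node 2 (.node 1 (.one ⟨7592, 2, 11⟩) (.one ⟨3453, 1, 7⟩))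 (.node 1 (.one ⟨522, 2, 7⟩) (.one ⟨3139, 2, 10⟩)))) (.node 4 (.node 2 (.node 1 (.one ⟨439, 2, 7⟩) (.one ⟨10867, 0, 8⟩)) (.node 1 (.one ⟨7145, 0, 10⟩) (.one ⟨3696, 2, 9⟩))) (.node 2 (.node 1 (.one ⟨5327, 2, 9⟩) (.one ⟨5255, 2, 6⟩)) (.node 1 (.one ⟨6559, 1, 9⟩) (.one ⟨13084, 1, 8⟩)))))) (.node 16 (.node 8 (.node 4 (.node 2 (.node 1 (.one ⟨16829, 1, 8⟩) (.one ⟨13362, 0, 8⟩)) (.node 1 (.one ⟨15523, 0, 8⟩) (.one ⟨8818, 0, 10⟩))) (.node 2 (.node 1 (.one ⟨5613, 2, 9⟩) (.one ⟨1802, 2, 9⟩)) (.node 1 (.one ⟨8859, 2, 7⟩) (.one ⟨2393, 0, 4⟩)))) (.node 4 (.node 2 (.node 1 (.one ⟨15685, 2, 10⟩) (.one ⟨7736, 2, 9⟩)) (.node 1 (.one ⟨1480, 2, 9⟩) (.one ⟨16020, 2, 8⟩))) (.node 2 (.node 1 (.one ⟨9249, 0, 9⟩) (.one ⟨621, 0, 8⟩)) (.node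 1 (.one ⟨8089, 2, 11⟩) (.one ⟨4654, 2, 10⟩))))) (.node 8 (.node 4 (.node 2 (.node 1 (.one ⟨6725, 1, 7⟩) (.one ⟨10729, 1, 9⟩)) (.node 1 (.one ⟨8028, 2, 9⟩) (.one ⟨8430, 2, 8⟩))) (.node 2 (.node 1 (.one ⟨15031, 2, 8⟩) (.one ⟨3877, 1, 10⟩)) (.node 1 (.one ⟨3828, 2, 10⟩) (.one ⟨4480, 2, 6⟩)))) (.node 4 (.node 2 (.node 1 (.one ⟨14877, 2, 9⟩) (.one ⟨14563, 2, 8⟩)) (.node 1 (.one ⟨4720, 2, 9⟩) (.one ⟨3403, 1, 5⟩))) (.node 2 (.node 1 (.one ⟨11802, 0, 8⟩) (.one ⟨13232, 2, 10⟩)) (.node 1 (.one ⟨6099, 2, 9⟩) (.one ⟨3508, 2, 10⟩)))))))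
def par10_10_3 : Arr Par :=
  (.node 32 (.node 16 (.node 8 (.node 4 (.node 2 (.node 1 (.one ⟨129, 2, 8⟩) (.one ⟨1042, 2, 7⟩)) (.node 1 (.one ⟨3506, 2, 6⟩) (.one ⟨349, 2, 6⟩))) (.node 2 (.node 1 (.one ⟨3510, 2, 9⟩) (.one ⟨3504, 2, 11⟩)) (.node 1 (.one ⟨821, 2, 6⟩) (.one ⟨11340, 1, 6⟩)))) (.node 4 (.node 2 (.node 1 (.one ⟨16720, 2, 9⟩) (.one ⟨168, 2, 9⟩)) (.node 1 (.one ⟨10639, 0, 10⟩) (.one ⟨10643, 0, 9⟩))) (.node 2 (.node 1 (.one ⟨10641, 0, 8⟩) (.one ⟨14983, 1, 9⟩)) (.node 1 (.one ⟨10644, 0, 10⟩) (.one ⟨16522, 0, 6⟩))))) (.node 8 (.node 4 (.node 2 (.node 1 (.one ⟨13043, 2, 6⟩) (.one ⟨2254, 2, 7⟩)) (.node 1 (.one ⟨16525, 0, 8⟩) (.one ⟨5287, 2, 4⟩))) (.node 2 (.node 1 (.one ⟨12492, 1, 10⟩) (.one ⟨320, 2, 10⟩)) (.node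 1 (.one ⟨10105, 2, 7⟩) (.one ⟨6719, 1, 7⟩)))) (.node 4 (.node 2 (.node 1 (.one ⟨13021, 1, 6⟩) (.one ⟨13546, 1, 7⟩)) (.node 1 (.one ⟨7133, 1, 4⟩) (.one ⟨4982, 0, 8⟩))) (.node 2 (.node 1 (.one ⟨14641, 0, 9⟩) (.one ⟨16352, 1, 8⟩)) (.node 1 (.one ⟨2403, 1, 7⟩) (.one ⟨2727, 2, 11⟩)))))) (.node 16 (.node 8 (.node 4 (.node 2 (.node 1 (.one ⟨10662, 0, 7⟩) (.one ⟨14973, 0, 9⟩)) (.node 1 (.one ⟨1735, 2, 10⟩) (.one ⟨1136, 0, 7⟩))) (.node 2 (.node 1 (.one ⟨6247, 2, 10⟩) (.one ⟨6047, 2, 9⟩)) (.node 1 (.one ⟨14171, 1, 10⟩) (.one ⟨15164, 1, 8⟩)))) (.node 4 (.node 2 (.node 1 (.one ⟨14114, 2, 8⟩) (.one ⟨3152, 1, 4⟩)) (.node 1 (.one ⟨8259, 1, 9⟩) (.one ⟨16009, 0, 9⟩))) (.node 2 (.node 1 (.one ⟨7992, 1, 4⟩) (.one ⟨808, 2, 11⟩)) (.node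 1 (.one ⟨11892, 1, 4⟩) (.one ⟨4773, 2, 8⟩))))) (.node 8 (.node 4 (.node 2 (.node 1 (.one ⟨8731, 2, 8⟩) (.one ⟨14464, 2, 10⟩)) (.node 1 (.one ⟨10587, 2, 7⟩) (.one ⟨4287, 0, 9⟩))) (.node 2 (.node 1 (.one ⟨9745, 2, 9⟩) (.one ⟨10054, 0, 9⟩)) (.node 1 (.one ⟨8956, 2, 10⟩) (.one ⟨11636, 0, 8⟩)))) (.node 4 (.node 2 (.node 1 (.one ⟨7767, 2, 9⟩) (.one ⟨6585, 2, 8⟩)) (.node 1 (.one ⟨4086, 0, 9⟩) (.one ⟨2435, 1, 9⟩))) (.node 2 (.node 1 (.one ⟨317, 1, 9⟩) (.one ⟨3820, 2, 4⟩)) (.node 1 (.one ⟨4533, 2, 7⟩) (.one ⟨9034, 1, 6⟩)))))))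
def par10_10_4 : Arr Par :=
  (.node 32 (.node 16 (.node 8 (.node 4 (.node 2 (.node 1 (.one ⟨1422, 0, 10⟩) (.one ⟨15963, 1, 11⟩)) (.node 1 (.one ⟨15448, 1, 8⟩) (.one ⟨4810, 1, 8⟩))) (.node 2 (.node 1 (.one ⟨12594, 2, 8⟩) (.one ⟨16346, 2, 10⟩)) (.node 1 (.one ⟨10968, 1, 8⟩) (.one ⟨4161, 1, 8⟩)))) (.node 4 (.node 2 (.node 1 (.one ⟨1994, 2, 11⟩) (.one ⟨10151, 2, 11⟩)) (.node 1 (.one ⟨10108, 2, 10⟩) (.one ⟨8033, 1, 10⟩))) (.node 2 (.node 1 (.one ⟨10047, 2, 9⟩) (.one ⟨2080, 2, 8⟩)) (.node 1 (.one ⟨2036, 2, 9⟩) (.one ⟨16455, 1, 10⟩))))) (.node 8 (.node 4 (.node 2 (.node 1 (.one ⟨889, 2, 10⟩) (.one ⟨6092, 0, 9⟩)) (.node 1 (.one ⟨7006, 1, 5⟩) (.one ⟨4964, 2, 9⟩))) (.node 2 (.node 1 (.one ⟨2659, 1, 8⟩) (.one ⟨3965, 0, 6⟩))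 (.node 1 (.one ⟨10570, 0, 9⟩) (.one ⟨8142, 2, 9⟩)))) (.node 4 (.node 2 (.node 1 (.one ⟨16450, 2, 10⟩) (.one ⟨1500, 2, 11⟩)) (.node 1 (.one ⟨16728, 1, 6⟩) (.one ⟨15740, 1, 8⟩))) (.node 2 (.node 1 (.one ⟨7173, 2, 8⟩) (.one ⟨15524, 1, 7⟩)) (.node 1 (.one ⟨9776, 1, 6⟩) (.one ⟨15026, 1, 10⟩)))))) (.node 16 (.node 8 (.node 4 (.node 2 (.node 1 (.one ⟨14146, 0, 7⟩) (.one ⟨10803, 0, 9⟩)) (.node 1 (.one ⟨13315, 2, 8⟩) (.one ⟨4049, 2, 1⟩))) (.node 2 (.node 1 (.one ⟨12098, 2, 8⟩) (.one ⟨2615, 1, 10⟩)) (.node 1 (.one ⟨4130, 2, 8⟩) (.one ⟨13686, 0, 10⟩)))) (.node 4 (.node 2 (.node 1 (.one ⟨1782, 0, 11⟩) (.one ⟨6909, 1, 8⟩)) (.node 1 (.one ⟨157, 2, 9⟩) (.one ⟨15787, 1, 7⟩))) (.node 2 (.node 1 (.one ⟨15092, 0, 7⟩) (.one ⟨2642, 2,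 8⟩)) (.node 1 (.one ⟨2226, 2, 8⟩) (.one ⟨13429, 0, 9⟩))))) (.node 8 (.node 4 (.node 2 (.node 1 (.one ⟨14322, 1, 9⟩) (.one ⟨5014, 0, 6⟩)) (.node 1 (.one ⟨3918, 1, 7⟩) (.one ⟨2006, 0, 5⟩))) (.node 2 (.node 1 (.one ⟨2424, 1, 9⟩) (.one ⟨7031, 2, 10⟩)) (.node 1 (.one ⟨5862, 0, 6⟩) (.one ⟨16007, 1, 8⟩)))) (.node 4 (.node 2 (.node 1 (.one ⟨3645, 0, 6⟩) (.one ⟨3516, 2, 9⟩)) (.node 1 (.one ⟨15885, 0, 11⟩) (.one ⟨12296, 1, 10⟩))) (.node 2 (.node 1 (.one ⟨8846, 1, 10⟩) (.one ⟨2471, 2, 10⟩)) (.node 1 (.one ⟨7654, 2, 9⟩) (.one ⟨6393, 2, 11⟩)))))))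
def par10_10_5 : Arr Par :=
  (.node 32 (.node 16 (.node 8 (.node 4 (.node 2 (.node 1 (.one ⟨16441, 0, 11⟩) (.one ⟨4859, 2, 7⟩)) (.node 1 (.one ⟨2882, 2, 7⟩) (.one ⟨15575, 0, 7⟩))) (.node 2 (.node 1 (.one ⟨9102, 1, 8⟩) (.one ⟨11843, 1, 5⟩)) (.node 1 (.one ⟨2270, 0, 8⟩) (.one ⟨9617, 2, 8⟩)))) (.node 4 (.node 2 (.node 1 (.one ⟨8929, 2, 9⟩) (.one ⟨1633, 2, 9⟩)) (.node 1 (.one ⟨17024, 2, 8⟩) (.one ⟨17134, 2, 9⟩))) (.node 2 (.node 1 (.one ⟨12180, 1, 11⟩) (.one ⟨9099, 2, 10⟩)) (.node 1 (.one ⟨10197, 2, 9⟩) (.one ⟨16812, 2, 9⟩))))) (.node 8 (.node 4 (.node 2 (.node 1 (.one ⟨12539, 2, 10⟩) (.one ⟨986, 1, 10⟩)) (.node 1 (.one ⟨14768, 2, 8⟩) (.one ⟨2587, 1, 7⟩))) (.node 2 (.node 1 (.one ⟨4041, 0, 5⟩) (.one ⟨9072, 2, 8⟩)) (.node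 1 (.one ⟨3746, 2, 6⟩) (.one ⟨12367, 2, 7⟩)))) (.node 4 (.node 2 (.node 1 (.one ⟨6193, 0, 7⟩) (.one ⟨9394, 2, 9⟩)) (.node 1 (.one ⟨13675, 0, 9⟩) (.one ⟨9931, 1, 6⟩))) (.node 2 (.node 1 (.one ⟨10800, 1, 7⟩) (.one ⟨4558, 1, 9⟩)) (.node 1 (.one ⟨6630, 0, 7⟩) (.one ⟨16913, 0, 9⟩)))))) (.node 16 (.node 8 (.node 4 (.node 2 (.node 1 (.one ⟨6424, 0, 9⟩) (.one ⟨17094, 1, 7⟩)) (.node 1 (.one ⟨5862, 1, 6⟩) (.one ⟨16547, 0, 7⟩))) (.node 2 (.node 1 (.one ⟨5748, 0, 8⟩) (.one ⟨326, 2, 4⟩)) (.node 1 (.one ⟨7920, 1, 7⟩) (.one ⟨9416, 2, 9⟩)))) (.node 4 (.node 2 (.node 1 (.one ⟨5991, 2, 10⟩) (.one ⟨10314, 1, 8⟩)) (.node 1 (.one ⟨11052, 0, 10⟩) (.one ⟨8187, 0, 9⟩))) (.node 2 (.node 1 (.one ⟨7199, 0, 11⟩) (.one ⟨13879, 1, 10⟩)) (.node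 1 (.one ⟨11542, 0, 7⟩) (.one ⟨17120, 2, 9⟩))))) (.node 8 (.node 4 (.node 2 (.node 1 (.one ⟨10534, 2, 9⟩) (.one ⟨5762, 0, 9⟩)) (.node 1 (.one ⟨14300, 0, 6⟩) (.one ⟨14886, 0, 9⟩))) (.node 2 (.node 1 (.one ⟨6555, 1, 9⟩) (.one ⟨12984, 0, 10⟩)) (.node 1 (.one ⟨5478, 0, 7⟩) (.one ⟨14564, 2, 8⟩)))) (.node 4 (.node 2 (.node 1 (.one ⟨12637, 1, 10⟩) (.one ⟨12168, 2, 10⟩)) (.node 1 (.one ⟨13500, 2, 10⟩) (.one ⟨3960, 0, 10⟩))) (.node 2 (.node 1 (.one ⟨6910, 2, 5⟩) (.one ⟨3818, 2, 11⟩)) (.node 1 (.one ⟨3516, 1, 9⟩) (.one ⟨11214, 1, 7⟩)))))))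
def par10_10_6 : Arr Par :=
  (.node 32 (.node 16 (.node 8 (.node 4 (.node 2 (.node 1 (.one ⟨17186, 2, 11⟩) (.one ⟨16011, 0, 10⟩)) (.node 1 (.one ⟨8401, 2, 8⟩) (.one ⟨13656, 2, 6⟩))) (.node 2 (.node 1 (.one ⟨10632, 2, 9⟩) (.one ⟨17134, 1, 9⟩)) (.node 1 (.one ⟨1459, 2, 7⟩) (.one ⟨12585, 0, 6⟩)))) (.node 4 (.node 2 (.node 1 (.one ⟨12584, 0, 8⟩) (.one ⟨10428, 1, 9⟩)) (.node 1 (.one ⟨4775, 1, 9⟩) (.one ⟨12589, 0, 8⟩))) (.node 2 (.node 1 (.one ⟨12588, 0, 5⟩) (.one ⟨15703, 0, 9⟩)) (.node 1 (.one ⟨16984, 1, 8⟩) (.one ⟨10720, 2, 9⟩))))) (.node 8 (.node 4 (.node 2 (.node 1 (.one ⟨13542, 1, 5⟩) (.one ⟨10792, 0, 7⟩)) (.node 1 (.one ⟨15366, 2, 9⟩) (.one ⟨6531, 2, 8⟩))) (.node 2 (.node 1 (.one ⟨14036, 2, 9⟩) (.one ⟨1700, 1, 8⟩))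 (.node 1 (.one ⟨6212, 1, 9⟩) (.one ⟨12800, 1, 9⟩)))) (.node 4 (.node 2 (.node 1 (.one ⟨15875, 2, 10⟩) (.one ⟨6229, 1, 10⟩)) (.node 1 (.one ⟨213, 2, 6⟩) (.one ⟨12221, 0, 10⟩))) (.node 2 (.node 1 (.one ⟨15731, 2, 9⟩) (.one ⟨7453, 0, 9⟩)) (.node 1 (.one ⟨11830, 0, 10⟩) (.one ⟨14321, 2, 9⟩)))))) (.node 16 (.node 8 (.node 4 (.node 2 (.node 1 (.one ⟨895, 2, 8⟩) (.one ⟨131, 2, 7⟩)) (.node 1 (.one ⟨14323, 2, 6⟩) (.one ⟨14319, 2, 8⟩))) (.node 2 (.node 1 (.one ⟨631, 2, 7⟩) (.one ⟨354, 2, 9⟩)) (.node 1 (.one ⟨14325, 2, 6⟩) (.one ⟨16697, 2, 3⟩)))) (.node 4 (.node 2 (.node 1 (.one ⟨7994, 0, 7⟩) (.one ⟨10434, 0, 7⟩)) (.node 1 (.one ⟨12569, 2, 8⟩) (.one ⟨639, 2, 7⟩))) (.node 2 (.node 1 (.one ⟨3529, 1, 9⟩) (.one ⟨7147, 0, 9⟩)) (.node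 1 (.one ⟨1858, 1, 10⟩) (.one ⟨16109, 2, 5⟩))))) (.node 8 (.node 4 (.node 2 (.node 1 (.one ⟨9340, 0, 8⟩) (.one ⟨9606, 0, 2⟩)) (.node 1 (.one ⟨11720, 2, 7⟩) (.one ⟨8492, 1, 10⟩))) (.node 2 (.node 1 (.one ⟨12967, 0, 8⟩) (.one ⟨3078, 2, 8⟩)) (.node 1 (.one ⟨8703, 2, 5⟩) (.one ⟨7385, 2, 7⟩)))) (.node 4 (.node 2 (.node 1 (.one ⟨9830, 2, 8⟩) (.one ⟨6650, 0, 9⟩)) (.node 1 (.one ⟨13677, 2, 9⟩) (.one ⟨6611, 2, 11⟩))) (.node 2 (.node 1 (.one ⟨3575, 1, 8⟩) (.one ⟨1349, 1, 8⟩)) (.node 1 (.one ⟨925, 0, 6⟩) (.one ⟨2596, 1, 7⟩)))))))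
def par10_10_7 : Arr Par :=
  (.node 32 (.node 16 (.node 8 (.node 4 (.node 2 (.node 1 (.one ⟨13728, 0, 8⟩) (.one ⟨5818, 2, 10⟩)) (.node 1 (.one ⟨9729, 2, 10⟩) (.one ⟨6043, 0, 5⟩))) (.node 2 (.node 1 (.one ⟨15008, 2, 10⟩) (.one ⟨16106, 2, 9⟩)) (.node 1 (.one ⟨3648, 2, 11⟩) (.one ⟨6335, 0, 9⟩)))) (.node 4 (.node 2 (.node 1 (.one ⟨8750, 0, 6⟩) (.one ⟨4661, 1, 7⟩)) (.node 1 (.one ⟨7751, 2, 9⟩) (.one ⟨11157, 2, 8⟩))) (.node 2 (.node 1 (.one ⟨11401, 1, 8⟩) (.one ⟨5337, 0, 9⟩)) (.node 1 (.one ⟨6323, 1, 9⟩) (.one ⟨4123, 1, 9⟩))))) (.node 8 (.node 4 (.node 2 (.node 1 (.one ⟨17002, 0, 10⟩) (.one ⟨7121, 0, 10⟩)) (.node 1 (.one ⟨12153, 1, 7⟩) (.one ⟨7674, 1, 8⟩))) (.node 2 (.node 1 (.one ⟨1554, 0, 10⟩) (.one ⟨8631, 2, 9⟩)) (.node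 1 (.one ⟨16108, 2, 8⟩) (.one ⟨11316, 0, 6⟩)))) (.node 4 (.node 2 (.node 1 (.one ⟨13459, 1, 7⟩) (.one ⟨6578, 0, 7⟩)) (.node 1 (.one ⟨10894, 0, 9⟩) (.one ⟨13662, 2, 6⟩))) (.node 2 (.node 1 (.one ⟨8247, 2, 4⟩) (.one ⟨13573, 2, 9⟩)) (.node 1 (.one ⟨14004, 0, 6⟩) (.one ⟨11146, 2, 6⟩)))))) (.node 16 (.node 8 (.node 4 (.node 2 (.node 1 (.one ⟨8501, 0, 8⟩) (.one ⟨17099, 0, 6⟩)) (.node 1 (.one ⟨9537, 2, 6⟩) (.one ⟨7078, 1, 8⟩))) (.node 2 (.node 1 (.one ⟨9923, 2, 6⟩) (.one ⟨1696, 1, 6⟩)) (.node 1 (.one ⟨16103, 2, 7⟩) (.one ⟨9262, 1, 9⟩)))) (.node 4 (.node 2 (.node 1 (.one ⟨5606, 1, 8⟩) (.one ⟨9461, 0, 8⟩)) (.node 1 (.one ⟨74, 0, 6⟩) (.one ⟨6936, 2, 8⟩))) (.node 2 (.node 1 (.one ⟨12835, 1, 5⟩) (.one ⟨8969, 1, 7⟩)) (.node 1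 (.one ⟨1698, 2, 8⟩) (.one ⟨15471, 2, 5⟩))))) (.node 8 (.node 4 (.node 2 (.node 1 (.one ⟨1627, 2, 7⟩) (.one ⟨5933, 2, 8⟩)) (.node 1 (.one ⟨11290, 2, 9⟩) (.one ⟨11245, 2, 7⟩))) (.node 2 (.node 1 (.one ⟨14505, 1, 9⟩) (.one ⟨7657, 0, 10⟩)) (.node 1 (.one ⟨15427, 2, 7⟩) (.one ⟨15076, 0, 9⟩)))) (.node 4 (.node 2 (.node 1 (.one ⟨10767, 0, 2⟩) (.one ⟨7283, 2, 9⟩)) (.node 1 (.one ⟨15360, 0, 6⟩) (.one ⟨11407, 0, 6⟩))) (.node 2 (.node 1 (.one ⟨16696, 2, 8⟩) (.one ⟨1246, 1, 10⟩)) (.node 1 (.one ⟨8564, 2, 5⟩) (.one ⟨7702, 0, 5⟩)))))))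
def par10_10_8 : Arr Par :=
  (.node 32 (.node 16 (.node 8 (.node 4 (.node 2 (.node 1 (.one ⟨1803, 2, 9⟩) (.one ⟨9417, 2, 9⟩)) (.node 1 (.one ⟨5367, 0, 8⟩) (.one ⟨1052, 1, 9⟩))) (.node 2 (.node 1 (.one ⟨13546, 0, 7⟩) (.one ⟨6008, 2, 9⟩)) (.node 1 (.one ⟨14148, 0, 9⟩) (.one ⟨5500, 1, 0⟩)))) (.node 4 (.node 2 (.node 1 (.one ⟨6229, 0, 10⟩) (.one ⟨3551, 0, 11⟩)) (.node 1 (.one ⟨15997, 0, 9⟩) (.one ⟨5715, 1, 10⟩))) (.node 2 (.node 1 (.one ⟨10834, 2, 10⟩) (.one ⟨9513, 0, 7⟩)) (.node 1 (.one ⟨6173, 0, 8⟩) (.one ⟨10759, 0, 1⟩))))) (.node 8 (.node 4 (.node 2 (.node 1 (.one ⟨6450, 1, 8⟩) (.one ⟨15200, 0, 9⟩)) (.node 1 (.one ⟨1539, 2, 7⟩) (.one ⟨6527, 1, 9⟩))) (.node 2 (.node 1 (.one ⟨5138, 2, 7⟩) (.one ⟨2738, 2, 8⟩)) (.node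 1 (.one ⟨3324, 2, 8⟩) (.one ⟨15183, 0, 5⟩)))) (.node 4 (.node 2 (.node 1 (.one ⟨6576, 0, 10⟩) (.one ⟨5120, 0, 10⟩)) (.node 1 (.one ⟨12731, 0, 7⟩) (.one ⟨962, 1, 9⟩))) (.node 2 (.node 1 (.one ⟨6036, 0, 6⟩) (.one ⟨4210, 0, 10⟩)) (.node 1 (.one ⟨11917, 2, 8⟩) (.one ⟨218, 2, 5⟩)))))) (.node 16 (.node 8 (.node 4 (.node 2 (.node 1 (.one ⟨2612, 1, 9⟩) (.one ⟨167, 2, 9⟩)) (.node 1 (.one ⟨511, 2, 8⟩) (.one ⟨4424, 0, 10⟩))) (.node 2 (.node 1 (.one ⟨1245, 1, 9⟩) (.one ⟨10022, 0, 8⟩)) (.node 1 (.one ⟨10569, 0, 10⟩) (.one ⟨13626, 2, 7⟩)))) (.node 4 (.node 2 (.node 1 (.one ⟨360, 2, 6⟩) (.one ⟨14033, 0, 7⟩)) (.node 1 (.one ⟨6568, 2, 10⟩) (.one ⟨14037, 0, 9⟩))) (.node 2 (.node 1 (.one ⟨6158, 2, 6⟩) (.one ⟨743, 1, 11⟩)) (.node 1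 (.one ⟨442, 1, 7⟩) (.one ⟨148, 2, 10⟩))))) (.node 8 (.node 4 (.node 2 (.node 1 (.one ⟨15706, 2, 6⟩) (.one ⟨15708, 2, 6⟩)) (.node 1 (.one ⟨5906, 0, 5⟩) (.one ⟨15707, 2, 8⟩))) (.node 2 (.node 1 (.one ⟨10241, 1, 6⟩) (.one ⟨245, 2, 9⟩)) (.node 1 (.one ⟨15705, 2, 8⟩) (.one ⟨7895, 2, 8⟩)))) (.node 4 (.node 2 (.node 1 (.one ⟨14032, 2, 8⟩) (.one ⟨16608, 2, 6⟩)) (.node 1 (.one ⟨6887, 2, 10⟩) (.one ⟨6876, 2, 8⟩))) (.node 2 (.node 1 (.one ⟨16603, 2, 10⟩) (.one ⟨16640, 1, 10⟩)) (.node 1 (.one ⟨7915, 2, 10⟩) (.one ⟨14688, 2, 10⟩)))))))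
def par10_10_9 : Arr Par :=
  (.node 32 (.node 16 (.node 8 (.node 4 (.node 2 (.node 1 (.one ⟨16744, 2, 7⟩) (.one ⟨15642, 2, 9⟩)) (.node 1 (.one ⟨474, 0, 9⟩) (.one ⟨3787, 2, 10⟩))) (.node 2 (.node 1 (.one ⟨493, 2, 8⟩) (.one ⟨5861, 0, 10⟩)) (.node 1 (.one ⟨2527, 2, 10⟩) (.one ⟨10615, 1, 9⟩)))) (.node 4 (.node 2 (.node 1 (.one ⟨15806, 2, 9⟩) (.one ⟨3180, 2, 7⟩)) (.node 1 (.one ⟨6018, 1, 9⟩) (.one ⟨11694, 2, 9⟩))) (.node 2 (.node 1 (.one ⟨13275, 2, 8⟩) (.one ⟨15487, 1, 9⟩)) (.node 1 (.one ⟨7216, 2, 6⟩) (.one ⟨7132, 0, 6⟩))))) (.node 8 (.node 4 (.node 2 (.node 1 (.one ⟨14273, 0, 8⟩) (.one ⟨13815, 1, 9⟩)) (.node 1 (.one ⟨2163, 1, 9⟩) (.one ⟨4178, 2, 10⟩))) (.node 2 (.node 1 (.one ⟨6710, 0, 10⟩) (.one ⟨8344, 0, 9⟩)) (.node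 1 (.one ⟨12434, 2, 8⟩) (.one ⟨16061, 0, 8⟩)))) (.node 4 (.node 2 (.node 1 (.one ⟨13001, 2, 5⟩) (.one ⟨5975, 1, 9⟩)) (.node 1 (.one ⟨6266, 2, 8⟩) (.one ⟨6055, 2, 9⟩))) (.node 2 (.node 1 (.one ⟨15663, 0, 10⟩) (.one ⟨13182, 2, 11⟩)) (.node 1 (.one ⟨17046, 2, 9⟩) (.one ⟨15868, 1, 7⟩)))))) (.node 16 (.node 8 (.node 4 (.node 2 (.node 1 (.one ⟨16449, 1, 9⟩) (.one ⟨13837, 1, 7⟩)) (.node 1 (.one ⟨1875, 2, 4⟩) (.one ⟨16385, 2, 6⟩))) (.node 2 (.node 1 (.one ⟨13321, 2, 8⟩) (.one ⟨8329, 0, 8⟩)) (.node 1 (.one ⟨2142, 0, 7⟩) (.one ⟨5159, 2, 7⟩)))) (.node 4 (.node 2 (.node 1 (.one ⟨10665, 1, 8⟩) (.one ⟨4497, 2, 6⟩)) (.node 1 (.one ⟨9488, 2, 10⟩) (.one ⟨13175, 2, 9⟩))) (.node 2 (.node 1 (.one ⟨3041, 2, 10⟩) (.one ⟨12544, 2, 7⟩))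 (.node 1 (.one ⟨325, 2, 10⟩) (.one ⟨11260, 2, 10⟩))))) (.node 8 (.node 4 (.node 2 (.node 1 (.one ⟨13334, 2, 8⟩) (.one ⟨13011, 0, 10⟩)) (.node 1 (.one ⟨6729, 0, 8⟩) (.one ⟨15452, 2, 7⟩))) (.node 2 (.node 1 (.one ⟨10943, 1, 10⟩) (.one ⟨14270, 0, 10⟩)) (.node 1 (.one ⟨6018, 2, 9⟩) (.one ⟨9110, 2, 8⟩)))) (.node 4 (.node 2 (.node 1 (.one ⟨13795, 0, 9⟩) (.one ⟨4649, 2, 10⟩)) (.node 1 (.one ⟨11543, 2, 10⟩) (.one ⟨16729, 2, 9⟩))) (.node 2 (.node 1 (.one ⟨7311, 2, 5⟩) (.one ⟨1152, 1, 11⟩)) (.node 1 (.one ⟨2907, 2, 7⟩) (.one ⟨8136, 1, 9⟩)))))))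
def par10_10_10 : Arr Par :=
  (.node 32 (.node 16 (.node 8 (.node 4 (.node 2 (.node 1 (.one ⟨6932, 2, 7⟩) (.one ⟨3048, 2, 6⟩)) (.node 1 (.one ⟨9102, 2, 8⟩) (.one ⟨11639, 2, 10⟩))) (.node 2 (.node 1 (.one ⟨14286, 2, 10⟩) (.one ⟨10481, 2, 11⟩)) (.node 1 (.one ⟨15764, 2, 7⟩) (.one ⟨10174, 0, 6⟩)))) (.node 4 (.node 2 (.node 1 (.one ⟨10792, 2, 7⟩) (.one ⟨17060, 2, 9⟩)) (.node 1 (.one ⟨938, 2, 8⟩) (.one ⟨3115, 2, 4⟩))) (.node 2 (.node 1 (.one ⟨16374, 2, 11⟩) (.one ⟨11257, 2, 6⟩)) (.node 1 (.one ⟨7839, 2, 8⟩) (.one ⟨14439, 1, 7⟩))))) (.node 8 (.node 4 (.node 2 (.node 1 (.one ⟨15363, 1, 9⟩) (.one ⟨2408, 2, 10⟩)) (.node 1 (.one ⟨5171, 2, 9⟩) (.one ⟨10351, 0, 9⟩))) (.node 2 (.node 1 (.one ⟨14512, 0, 7⟩) (.one ⟨16580, 0, 8⟩))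 (.node 1 (.one ⟨13103, 2, 8⟩) (.one ⟨1262, 2, 5⟩)))) (.node 4 (.node 2 (.node 1 (.one ⟨11814, 0, 7⟩) (.one ⟨16218, 0, 8⟩)) (.node 1 (.one ⟨4127, 2, 8⟩) (.one ⟨16222, 0, 8⟩))) (.node 2 (.node 1 (.one ⟨16219, 0, 7⟩) (.one ⟨11807, 0, 11⟩)) (.node 1 (.one ⟨5310, 1, 7⟩) (.one ⟨9346, 2, 8⟩)))))) (.node 16 (.node 8 (.node 4 (.node 2 (.node 1 (.one ⟨11373, 2, 10⟩) (.one ⟨13116, 2, 10⟩)) (.node 1 (.one ⟨16659, 0, 7⟩) (.one ⟨8135, 2, 10⟩))) (.node 2 (.node 1 (.one ⟨10100, 1, 7⟩) (.one ⟨6725, 2, 7⟩)) (.node 1 (.one ⟨6210, 2, 8⟩) (.one ⟨13284, 2, 5⟩)))) (.node 4 (.node 2 (.node 1 (.one ⟨5987, 1, 11⟩) (.one ⟨2783, 1, 10⟩)) (.node 1 (.one ⟨3436, 0, 9⟩) (.one ⟨5250, 2, 8⟩))) (.node 2 (.node 1 (.one ⟨26, 0, 9⟩) (.one ⟨2361, 0, 10⟩))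 (.node 1 (.one ⟨4179, 0, 7⟩) (.one ⟨7183, 2, 7⟩))))) (.node 8 (.node 4 (.node 2 (.node 1 (.one ⟨13768, 1, 9⟩) (.one ⟨11573, 2, 4⟩)) (.node 1 (.one ⟨11982, 2, 10⟩) (.one ⟨16650, 0, 9⟩))) (.node 2 (.node 1 (.one ⟨2472, 2, 8⟩) (.one ⟨16964, 2, 11⟩)) (.node 1 (.one ⟨16446, 2, 8⟩) (.one ⟨9397, 2, 6⟩)))) (.node 4 (.node 2 (.node 1 (.one ⟨14325, 0, 6⟩) (.one ⟨14406, 1, 7⟩)) (.node 1 (.one ⟨14319, 0, 8⟩) (.one ⟨6684, 1, 6⟩))) (.node 2 (.node 1 (.one ⟨14322, 0, 9⟩) (.one ⟨14321, 0, 9⟩)) (.node 1 (.one ⟨14324, 0, 8⟩) (.one ⟨16671, 2, 9⟩)))))))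
def par10_10_11 : Arr Par :=
  (.node 32 (.node 16 (.node 8 (.node 4 (.node 2 (.node 1 (.one ⟨7609, 2, 8⟩) (.one ⟨9780, 2, 5⟩)) (.node 1 (.one ⟨3109, 2, 8⟩) (.one ⟨9299, 2, 9⟩))) (.node 2 (.node 1 (.one ⟨2908, 2, 9⟩) (.one ⟨2237, 1, 8⟩)) (.node 1 (.one ⟨7768, 2, 9⟩) (.one ⟨3780, 1, 6⟩)))) (.node 4 (.node 2 (.node 1 (.one ⟨1195, 2, 9⟩) (.one ⟨6578, 2, 7⟩)) (.node 1 (.one ⟨11698, 1, 6⟩) (.one ⟨11157, 1, 8⟩))) (.node 2 (.node 1 (.one ⟨4798, 1, 6⟩) (.one ⟨475, 2, 10⟩)) (.node 1 (.one ⟨17020, 2, 7⟩) (.one ⟨10680, 2, 9⟩))))) (.node 8 (.node 4 (.node 2 (.node 1 (.one ⟨459, 0, 9⟩) (.one ⟨7322, 1, 9⟩)) (.node 1 (.one ⟨6871, 2, 9⟩) (.one ⟨7362, 2, 8⟩))) (.node 2 (.node 1 (.one ⟨8199, 2, 9⟩) (.one ⟨12743, 2, 9⟩)) (.node 1 (.one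 ⟨8376, 0, 9⟩) (.one ⟨2975, 0, 7⟩)))) (.node 4 (.node 2 (.node 1 (.one ⟨9800, 2, 7⟩) (.one ⟨12889, 1, 8⟩)) (.node 1 (.one ⟨4329, 1, 8⟩) (.one ⟨11459, 1, 8⟩))) (.node 2 (.node 1 (.one ⟨10309, 2, 10⟩) (.one ⟨5136, 1, 8⟩)) (.node 1 (.one ⟨6171, 2, 10⟩) (.one ⟨8848, 0, 6⟩)))))) (.node 16 (.node 8 (.node 4 (.node 2 (.node 1 (.one ⟨2668, 2, 10⟩) (.one ⟨12833, 0, 10⟩)) (.node 1 (.one ⟨4488, 0, 10⟩) (.one ⟨5930, 0, 5⟩))) (.node 2 (.node 1 (.one ⟨15084, 2, 5⟩) (.one ⟨10517, 2, 7⟩)) (.node 1 (.one ⟨15776, 2, 9⟩) (.one ⟨14741, 2, 6⟩)))) (.node 4 (.node 2 (.node 1 (.one ⟨8371, 0, 5⟩) (.one ⟨1617, 1, 7⟩)) (.node 1 (.one ⟨15303, 2, 8⟩) (.one ⟨6663, 1, 9⟩))) (.node 2 (.node 1 (.one ⟨5696, 0, 8⟩) (.one ⟨6597, 2, 5⟩)) (.node 1 (.one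 ⟨10861, 1, 8⟩) (.one ⟨7027, 2, 8⟩))))) (.node 8 (.node 4 (.node 2 (.node 1 (.one ⟨13397, 2, 7⟩) (.one ⟨15852, 1, 6⟩)) (.node 1 (.one ⟨1588, 2, 6⟩) (.one ⟨16389, 2, 10⟩))) (.node 2 (.node 1 (.one ⟨2099, 2, 2⟩) (.one ⟨6644, 2, 9⟩)) (.node 1 (.one ⟨13269, 2, 11⟩) (.one ⟨12316, 2, 8⟩)))) (.node 4 (.node 2 (.node 1 (.one ⟨9987, 2, 8⟩) (.one ⟨2402, 2, 7⟩)) (.node 1 (.one ⟨3616, 2, 9⟩) (.one ⟨8605, 2, 9⟩))) (.node 2 (.node 1 (.one ⟨7563, 2, 9⟩) (.one ⟨14824, 2, 11⟩)) (.node 1 (.one ⟨17057, 2, 8⟩) (.one ⟨5495, 2, 10⟩)))))))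
def par10_10_12 : Arr Par :=
  (.node 32 (.node 16 (.node 8 (.node 4 (.node 2 (.node 1 (.one ⟨8053, 2, 9⟩) (.one ⟨10353, 0, 8⟩)) (.node 1 (.one ⟨4126, 1, 9⟩) (.one ⟨3747, 2, 7⟩))) (.node 2 (.node 1 (.one ⟨10677, 0, 9⟩) (.one ⟨8720, 2, 9⟩)) (.node 1 (.one ⟨4507, 2, 9⟩) (.one ⟨15385, 0, 9⟩)))) (.node 4 (.node 2 (.node 1 (.one ⟨3996, 0, 10⟩) (.one ⟨451, 0, 9⟩)) (.node 1 (.one ⟨11911, 2, 9⟩) (.one ⟨14978, 0, 10⟩))) (.node 2 (.node 1 (.one ⟨8734, 1, 10⟩) (.one ⟨408, 2, 7⟩)) (.node 1 (.one ⟨12312, 2, 7⟩) (.one ⟨5242, 2, 8⟩))))) (.node 8 (.node 4 (.node 2 (.node 1 (.one ⟨11011, 2, 8⟩) (.one ⟨16807, 2, 7⟩)) (.node 1 (.one ⟨7229, 2, 8⟩) (.one ⟨3832, 0, 5⟩))) (.node 2 (.node 1 (.one ⟨4663, 0, 7⟩) (.one ⟨15934, 2, 6⟩)) (.node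 1 (.one ⟨6439, 2, 6⟩) (.one ⟨5160, 2, 8⟩)))) (.node 4 (.node 2 (.node 1 (.one ⟨5639, 1, 9⟩) (.one ⟨11941, 2, 10⟩)) (.node 1 (.one ⟨8563, 2, 6⟩) (.one ⟨11507, 2, 10⟩))) (.node 2 (.node 1 (.one ⟨6874, 1, 7⟩) (.one ⟨352, 2, 8⟩)) (.node 1 (.one ⟨7145, 1, 10⟩) (.one ⟨3206, 2, 8⟩)))))) (.node 16 (.node 8 (.node 4 (.node 2 (.node 1 (.one ⟨2344, 2, 6⟩) (.one ⟨11256, 0, 5⟩)) (.node 1 (.one ⟨5323, 0, 11⟩) (.one ⟨1497, 0, 11⟩))) (.node 2 (.node 1 (.one ⟨11286, 2, 9⟩) (.one ⟨11969, 1, 10⟩)) (.node 1 (.one ⟨12143, 0, 6⟩) (.one ⟨4516, 0, 5⟩)))) (.node 4 (.node 2 (.node 1 (.one ⟨2379, 2, 7⟩) (.one ⟨12283, 1, 7⟩)) (.node 1 (.one ⟨2382, 2, 9⟩) (.one ⟨940, 1, 5⟩))) (.node 2 (.node 1 (.one ⟨2376, 2, 9⟩) (.one ⟨10242, 1, 8⟩)) (.node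 1 (.one ⟨2377, 2, 8⟩) (.one ⟨5088, 2, 11⟩))))) (.node 8 (.node 4 (.node 2 (.node 1 (.one ⟨7944, 2, 8⟩) (.one ⟨4024, 1, 7⟩)) (.node 1 (.one ⟨4095, 1, 9⟩) (.one ⟨14973, 2, 9⟩))) (.node 2 (.node 1 (.one ⟨17086, 0, 8⟩) (.one ⟨12768, 2, 8⟩)) (.node 1 (.one ⟨7207, 0, 8⟩) (.one ⟨6777, 1, 10⟩)))) (.node 4 (.node 2 (.node 1 (.one ⟨9471, 1, 10⟩) (.one ⟨13418, 2, 8⟩)) (.node 1 (.one ⟨11521, 2, 7⟩) (.one ⟨6959, 1, 8⟩))) (.node 2 (.node 1 (.one ⟨9918, 1, 10⟩) (.one ⟨2003, 2, 8⟩)) (.node 1 (.one ⟨874, 0, 8⟩) (.one ⟨9396, 2, 6⟩)))))))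
def par10_10_13 : Arr Par :=
  (.node 32 (.node 16 (.node 8 (.node 4 (.node 2 (.node 1 (.one ⟨7946, 2, 8⟩) (.one ⟨16173, 2, 9⟩)) (.node 1 (.one ⟨1760, 2, 9⟩) (.one ⟨14848, 1, 11⟩))) (.node 2 (.node 1 (.one ⟨6192, 2, 11⟩) (.one ⟨9125, 0, 9⟩)) (.node 1 (.one ⟨13456, 0, 9⟩) (.one ⟨230, 1, 9⟩)))) (.node 4 (.node 2 (.node 1 (.one ⟨4914, 0, 10⟩) (.one ⟨3753, 2, 7⟩)) (.node 1 (.one ⟨9080, 2, 7⟩) (.one ⟨15304, 2, 6⟩))) (.node 2 (.node 1 (.one ⟨9761, 2, 8⟩) (.one ⟨11707, 2, 7⟩)) (.node 1 (.one ⟨11150, 1, 7⟩) (.one ⟨12248, 2, 9⟩))))) (.node 8 (.node 4 (.node 2 (.node 1 (.one ⟨10951, 2, 7⟩) (.one ⟨4775, 2, 9⟩)) (.node 1 (.one ⟨12850, 1, 11⟩) (.one ⟨6615, 1, 10⟩))) (.node 2 (.node 1 (.one ⟨7628, 1, 9⟩) (.one ⟨5239, 2, 10⟩))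 (.node 1 (.one ⟨1810, 2, 8⟩) (.one ⟨13349, 1, 9⟩)))) (.node 4 (.node 2 (.node 1 (.one ⟨15862, 0, 8⟩) (.one ⟨10447, 2, 7⟩)) (.node 1 (.one ⟨12404, 1, 9⟩) (.one ⟨2157, 2, 4⟩))) (.node 2 (.node 1 (.one ⟨16, 0, 9⟩) (.one ⟨3964, 2, 8⟩)) (.node 1 (.one ⟨6654, 0, 10⟩) (.one ⟨14102, 2, 9⟩)))))) (.node 16 (.node 8 (.node 4 (.node 2 (.node 1 (.one ⟨10861, 0, 8⟩) (.one ⟨8057, 2, 9⟩)) (.node 1 (.one ⟨6870, 0, 7⟩) (.one ⟨13927, 0, 9⟩))) (.node 2 (.node 1 (.one ⟨4332, 2, 9⟩) (.one ⟨13756, 1, 11⟩)) (.node 1 (.one ⟨10767, 2, 2⟩) (.one ⟨6105, 2, 5⟩)))) (.node 4 (.node 2 (.node 1 (.one ⟨3051, 2, 9⟩) (.one ⟨4593, 2, 8⟩)) (.node 1 (.one ⟨7619, 2, 9⟩) (.one ⟨14584, 0, 8⟩))) (.node 2 (.node 1 (.one ⟨2678, 1, 7⟩) (.one ⟨16711, 2, 8⟩))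 (.node 1 (.one ⟨15620, 1, 10⟩) (.one ⟨5469, 2, 7⟩))))) (.node 8 (.node 4 (.node 2 (.node 1 (.one ⟨14809, 0, 9⟩) (.one ⟨9443, 1, 8⟩)) (.node 1 (.one ⟨12175, 1, 9⟩) (.one ⟨15259, 0, 9⟩))) (.node 2 (.node 1 (.one ⟨12141, 1, 5⟩) (.one ⟨16742, 2, 10⟩)) (.node 1 (.one ⟨11311, 2, 7⟩) (.one ⟨2249, 0, 9⟩)))) (.node 4 (.node 2 (.node 1 (.one ⟨82, 0, 6⟩) (.one ⟨6243, 2, 8⟩)) (.node 1 (.one ⟨10840, 1, 6⟩) (.one ⟨1540, 0, 6⟩))) (.node 2 (.node 1 (.one ⟨4394, 2, 8⟩) (.one ⟨4605, 1, 6⟩)) (.node 1 (.one ⟨10295, 0, 6⟩) (.one ⟨9791, 2, 6⟩)))))))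
def par10_10_14 : Arr Par :=
  (.node 32 (.node 16 (.node 8 (.node 4 (.node 2 (.node 1 (.one ⟨10948, 2, 10⟩) (.one ⟨10783, 2, 6⟩)) (.node 1 (.one ⟨8638, 0, 8⟩) (.one ⟨5404, 2, 9⟩))) (.node 2 (.node 1 (.one ⟨2421, 0, 4⟩) (.one ⟨14223, 0, 9⟩)) (.node 1 (.one ⟨12788, 0, 10⟩) (.one ⟨7536, 2, 5⟩)))) (.node 4 (.node 2 (.node 1 (.one ⟨15611, 2, 5⟩) (.one ⟨3438, 2, 7⟩)) (.node 1 (.one ⟨16399, 0, 5⟩) (.one ⟨8783, 0, 10⟩))) (.node 2 (.node 1 (.one ⟨9189, 2, 8⟩) (.one ⟨5932, 2, 8⟩)) (.node 1 (.one ⟨10802, 0, 6⟩) (.one ⟨6100, 1, 5⟩))))) (.node 8 (.node 4 (.node 2 (.node 1 (.one ⟨6556, 0, 11⟩) (.one ⟨1069, 2, 9⟩)) (.node 1 (.one ⟨4686, 0, 9⟩) (.one ⟨13174, 0, 9⟩))) (.node 2 (.node 1 (.one ⟨9386, 0, 9⟩) (.one ⟨17173, 2, 7⟩)) (.node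 1 (.one ⟨315, 2, 10⟩) (.one ⟨16547, 2, 7⟩)))) (.node 4 (.node 2 (.node 1 (.one ⟨12938, 0, 9⟩) (.one ⟨5293, 1, 9⟩)) (.node 1 (.one ⟨8031, 2, 7⟩) (.one ⟨9736, 2, 8⟩))) (.node 2 (.node 1 (.one ⟨12413, 1, 9⟩) (.one ⟨5664, 2, 10⟩)) (.node 1 (.one ⟨3077, 2, 9⟩) (.one ⟨13777, 1, 10⟩)))))) (.node 16 (.node 8 (.node 4 (.node 2 (.node 1 (.one ⟨8025, 2, 9⟩) (.one ⟨10072, 2, 8⟩)) (.node 1 (.one ⟨3066, 1, 6⟩) (.one ⟨5630, 0, 8⟩))) (.node 2 (.node 1 (.one ⟨3608, 2, 8⟩) (.one ⟨13917, 2, 9⟩)) (.node 1 (.one ⟨13173, 0, 9⟩) (.one ⟨12096, 2, 8⟩)))) (.node 4 (.node 2 (.node 1 (.one ⟨1989, 2, 8⟩) (.one ⟨11252, 1, 7⟩)) (.node 1 (.one ⟨3405, 2, 9⟩) (.one ⟨16327, 2, 9⟩))) (.node 2 (.node 1 (.one ⟨2086, 0, 4⟩) (.one ⟨16583, 2, 7⟩)) (.node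 1 (.one ⟨7237, 2, 9⟩) (.one ⟨4313, 0, 9⟩))))) (.node 8 (.node 4 (.node 2 (.node 1 (.one ⟨3653, 2, 9⟩) (.one ⟨160, 1, 10⟩)) (.node 1 (.one ⟨6833, 2, 9⟩) (.one ⟨3030, 0, 7⟩))) (.node 2 (.node 1 (.one ⟨5198, 0, 8⟩) (.one ⟨5961, 2, 3⟩)) (.node 1 (.one ⟨13330, 1, 10⟩) (.one ⟨6294, 1, 9⟩)))) (.node 4 (.node 2 (.node 1 (.one ⟨6719, 2, 7⟩) (.one ⟨10871, 0, 9⟩)) (.node 1 (.one ⟨14696, 1, 9⟩) (.one ⟨11235, 1, 8⟩))) (.node 2 (.node 1 (.one ⟨10178, 0, 8⟩) (.one ⟨10857, 0, 7⟩)) (.node 1 (.one ⟨1521, 1, 10⟩) (.one ⟨5206, 1, 10⟩)))))))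
def par10_10_15 : Arr Par :=
  (.node 32 (.node 16 (.node 8 (.node 4 (.node 2 (.node 1 (.one ⟨12916, 0, 8⟩) (.one ⟨8999, 2, 11⟩)) (.node 1 (.one ⟨1547, 1, 9⟩) (.one ⟨15389, 0, 10⟩))) (.node 2 (.node 1 (.one ⟨10528, 2, 8⟩) (.one ⟨358, 2, 7⟩)) (.node 1 (.one ⟨10545, 2, 7⟩) (.one ⟨1142, 2, 10⟩)))) (.node 4 (.node 2 (.node 1 (.one ⟨6060, 0, 7⟩) (.one ⟨7290, 2, 8⟩)) (.node 1 (.one ⟨2013, 0, 9⟩) (.one ⟨922, 2, 5⟩))) (.node 2 (.node 1 (.one ⟨16120, 2, 9⟩) (.one ⟨14660, 1, 9⟩)) (.node 1 (.one ⟨13521, 2, 6⟩) (.one ⟨1626, 1, 8⟩))))) (.node 8 (.node 4 (.node 2 (.node 1 (.one ⟨1469, 0, 8⟩) (.one ⟨14263, 2, 9⟩)) (.node 1 (.one ⟨12989, 1, 6⟩) (.one ⟨4223, 1, 6⟩))) (.node 2 (.node 1 (.one ⟨1532, 1, 9⟩) (.one ⟨13074, 1, 6⟩)) (.node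 1 (.one ⟨11300, 1, 8⟩) (.one ⟨16747, 2, 5⟩)))) (.node 4 (.node 2 (.node 1 (.one ⟨16537, 0, 9⟩) (.one ⟨6992, 0, 10⟩)) (.node 1 (.one ⟨3374, 0, 8⟩) (.one ⟨7738, 0, 7⟩))) (.node 2 (.node 1 (.one ⟨11116, 2, 8⟩) (.one ⟨11316, 1, 6⟩)) (.node 1 (.one ⟨14665, 2, 6⟩) (.one ⟨8290, 1, 9⟩)))))) (.node 16 (.node 8 (.node 4 (.node 2 (.node 1 (.one ⟨9143, 0, 10⟩) (.one ⟨4398, 1, 8⟩)) (.node 1 (.one ⟨13855, 2, 8⟩) (.one ⟨15761, 2, 7⟩))) (.node 2 (.node 1 (.one ⟨1531, 1, 9⟩) (.one ⟨15279, 1, 6⟩)) (.node 1 (.one ⟨2216, 2, 2⟩) (.one ⟨6983, 2, 9⟩)))) (.node 4 (.node 2 (.node 1 (.one ⟨9155, 0, 7⟩) (.one ⟨15011, 2, 9⟩)) (.node 1 (.one ⟨15565, 1, 9⟩) (.one ⟨14186, 1, 8⟩))) (.node 2 (.node 1 (.one ⟨5193, 2, 10⟩) (.one ⟨13741, 2, 6⟩)) (.node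 1 (.one ⟨4409, 0, 8⟩) (.one ⟨8890, 2, 7⟩))))) (.node 8 (.node 4 (.node 2 (.node 1 (.one ⟨15883, 0, 6⟩) (.one ⟨7645, 2, 10⟩)) (.node 1 (.one ⟨17009, 1, 10⟩) (.one ⟨13233, 0, 10⟩))) (.node 2 (.node 1 (.one ⟨4798, 2, 6⟩) (.one ⟨7823, 1, 7⟩)) (.node 1 (.one ⟨8436, 0, 7⟩) (.one ⟨15623, 1, 8⟩)))) (.node 4 (.node 2 (.node 1 (.one ⟨4814, 2, 4⟩) (.one ⟨470, 2, 5⟩)) (.node 1 (.one ⟨13907, 0, 9⟩) (.one ⟨10269, 0, 9⟩))) (.node 2 (.node 1 (.one ⟨14391, 0, 9⟩) (.one ⟨15625, 1, 10⟩)) (.node 1 (.one ⟨2691, 0, 9⟩) (.one ⟨9173, 2, 6⟩)))))))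
def par10_10 : Arr Par :=
  (.node 512 (.node 256 (.node 128 (.node 64 par10_10_0 par10_10_1) (.node 64 par10_10_2 par10_10_3)) (.node 128 (.node 64 par10_10_4 par10_10_5) (.node 64 par10_10_6 par10_10_7))) (.node 256 (.node 128 (.node 64 par10_10_8 par10_10_9) (.node 64 par10_10_10 par10_10_11)) (.node 128 (.node 64 par10_10_12 par10_10_13) (.node 64 par10_10_14 par10_10_15))))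
def par10_11_0 : Arr Par :=
  (.node 32 (.node 16 (.node 8 (.node 4 (.node 2 (.node 1 (.one ⟨14962, 1, 9⟩) (.one ⟨5351, 2, 10⟩)) (.node 1 (.one ⟨9914, 2, 11⟩) (.one ⟨574, 0, 8⟩))) (.node 2 (.node 1 (.one ⟨4744, 1, 9⟩) (.one ⟨30, 2, 9⟩)) (.node 1 (.one ⟨16329, 1, 9⟩) (.one ⟨14874, 2, 10⟩)))) (.node 4 (.node 2 (.node 1 (.one ⟨6994, 0, 9⟩) (.one ⟨13349, 0, 9⟩)) (.node 1 (.one ⟨3142, 1, 4⟩) (.one ⟨15457, 1, 10⟩))) (.node 2 (.node 1 (.one ⟨12558, 0, 9⟩) (.one ⟨13748, 2, 11⟩)) (.node 1 (.one ⟨5747, 2, 9⟩) (.one ⟨14425, 2, 5⟩))))) (.node 8 (.node 4 (.node 2 (.node 1 (.one ⟨11843, 2, 5⟩) (.one ⟨13851, 0, 6⟩)) (.node 1 (.one ⟨13847, 0, 6⟩) (.one ⟨15651, 1, 8⟩))) (.node 2 (.node 1 (.one ⟨14200, 2, 11⟩) (.one ⟨998, 2, 7⟩))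 (.node 1 (.one ⟨8274, 2, 8⟩) (.one ⟨11918, 1, 5⟩)))) (.node 4 (.node 2 (.node 1 (.one ⟨13276, 2, 11⟩) (.one ⟨8323, 1, 10⟩)) (.node 1 (.one ⟨3193, 1, 8⟩) (.one ⟨10964, 2, 10⟩))) (.node 2 (.node 1 (.one ⟨8710, 2, 11⟩) (.one ⟨9857, 0, 9⟩)) (.node 1 (.one ⟨5322, 0, 8⟩) (.one ⟨7243, 2, 9⟩)))))) (.node 16 (.node 8 (.node 4 (.node 2 (.node 1 (.one ⟨6919, 2, 9⟩) (.one ⟨13678, 2, 10⟩)) (.node 1 (.one ⟨10096, 1, 8⟩) (.one ⟨12028, 2, 7⟩))) (.node 2 (.node 1 (.one ⟨11730, 2, 7⟩) (.one ⟨1658, 1, 8⟩)) (.node 1 (.one ⟨11457, 1, 7⟩) (.one ⟨13401, 2, 9⟩)))) (.node 4 (.node 2 (.node 1 (.one ⟨12567, 2, 9⟩) (.one ⟨6946, 1, 7⟩)) (.node 1 (.one ⟨10945, 0, 6⟩) (.one ⟨11169, 2, 9⟩))) (.node 2 (.node 1 (.one ⟨5711, 0, 10⟩) (.one ⟨13106,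 1, 10⟩)) (.node 1 (.one ⟨3860, 2, 10⟩) (.one ⟨3907, 1, 6⟩))))) (.node 8 (.node 4 (.node 2 (.node 1 (.one ⟨4297, 0, 8⟩) (.one ⟨15803, 1, 7⟩)) (.node 1 (.one ⟨9179, 2, 7⟩) (.one ⟨6193, 1, 7⟩))) (.node 2 (.node 1 (.one ⟨17166, 2, 5⟩) (.one ⟨9796, 1, 9⟩)) (.node 1 (.one ⟨6824, 1, 7⟩) (.one ⟨9925, 1, 10⟩)))) (.node 4 (.node 2 (.node 1 (.one ⟨7241, 2, 7⟩) (.one ⟨12932, 2, 10⟩)) (.node 1 (.one ⟨8187, 2, 9⟩) (.one ⟨7874, 2, 9⟩))) (.node 2 (.node 1 (.one ⟨7964, 1, 9⟩) (.one ⟨14067, 0, 10⟩)) (.node 1 (.one ⟨10196, 0, 9⟩) (.one ⟨10393, 0, 9⟩)))))))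
def par10_11_1 : Arr Par :=
  (.node 32 (.node 16 (.node 8 (.node 4 (.node 2 (.node 1 (.one ⟨2520, 2, 9⟩) (.one ⟨1716, 2, 10⟩)) (.node 1 (.one ⟨13789, 2, 6⟩) (.one ⟨443, 1, 7⟩))) (.node 2 (.node 1 (.one ⟨12997, 0, 3⟩) (.one ⟨11176, 0, 9⟩)) (.node 1 (.one ⟨13330, 0, 10⟩) (.one ⟨8879, 2, 8⟩)))) (.node 4 (.node 2 (.node 1 (.one ⟨13914, 2, 9⟩) (.one ⟨7954, 1, 9⟩)) (.node 1 (.one ⟨6471, 0, 9⟩) (.one ⟨17073, 2, 11⟩))) (.node 2 (.node 1 (.one ⟨13542, 0, 5⟩) (.one ⟨4616, 0, 8⟩)) (.node 1 (.one ⟨1423, 2, 2⟩) (.one ⟨8417, 1, 9⟩))))) (.node 8 (.node 4 (.node 2 (.node 1 (.one ⟨1542, 2, 8⟩) (.one ⟨3580, 1, 8⟩)) (.node 1 (.one ⟨14977, 1, 10⟩) (.one ⟨14001, 0, 4⟩))) (.node 2 (.node 1 (.one ⟨4458, 1, 9⟩) (.one ⟨10482, 1, 8⟩)) (.node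 1 (.one ⟨3170, 2, 9⟩) (.one ⟨1139, 2, 8⟩)))) (.node 4 (.node 2 (.node 1 (.one ⟨3331, 1, 9⟩) (.one ⟨6086, 1, 9⟩)) (.node 1 (.one ⟨5537, 0, 10⟩) (.one ⟨8169, 2, 4⟩))) (.node 2 (.node 1 (.one ⟨4766, 0, 11⟩) (.one ⟨12919, 2, 8⟩)) (.node 1 (.one ⟨8081, 2, 8⟩) (.one ⟨10748, 0, 9⟩)))))) (.node 16 (.node 8 (.node 4 (.node 2 (.node 1 (.one ⟨13712, 1, 9⟩) (.one ⟨12678, 0, 8⟩)) (.node 1 (.one ⟨761, 2, 7⟩) (.one ⟨9712, 2, 7⟩))) (.node 2 (.node 1 (.one ⟨7734, 0, 8⟩) (.one ⟨7240, 1, 9⟩)) (.node 1 (.one ⟨7567, 0, 8⟩) (.one ⟨714, 2, 10⟩)))) (.node 4 (.node 2 (.node 1 (.one ⟨15563, 1, 4⟩) (.one ⟨6655, 2, 6⟩)) (.node 1 (.one ⟨5437, 1, 10⟩) (.one ⟨13889, 2, 8⟩))) (.node 2 (.node 1 (.one ⟨10988, 2, 9⟩) (.one ⟨10820, 2, 9⟩)) (.node 1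 (.one ⟨14063, 2, 8⟩) (.one ⟨8779, 0, 3⟩))))) (.node 8 (.node 4 (.node 2 (.node 1 (.one ⟨6877, 1, 9⟩) (.one ⟨10473, 2, 5⟩)) (.node 1 (.one ⟨15245, 1, 9⟩) (.one ⟨1308, 2, 8⟩))) (.node 2 (.node 1 (.one ⟨2444, 1, 8⟩) (.one ⟨12676, 0, 3⟩)) (.node 1 (.one ⟨182, 0, 8⟩) (.one ⟨12547, 2, 7⟩)))) (.node 4 (.node 2 (.node 1 (.one ⟨14595, 2, 8⟩) (.one ⟨11686, 0, 8⟩)) (.node 1 (.one ⟨421, 1, 11⟩) (.one ⟨1936, 2, 9⟩))) (.node 2 (.node 1 (.one ⟨8090, 2, 10⟩) (.one ⟨3461, 2, 10⟩)) (.node 1 (.one ⟨9093, 2, 9⟩) (.one ⟨12284, 2, 7⟩)))))))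
def par10_11_2 : Arr Par :=
  (.node 32 (.node 16 (.node 8 (.node 4 (.node 2 (.node 1 (.one ⟨11615, 1, 10⟩) (.one ⟨4043, 2, 5⟩)) (.node 1 (.one ⟨14086, 2, 9⟩) (.one ⟨11227, 2, 8⟩))) (.node 2 (.node 1 (.one ⟨8638, 2, 8⟩) (.one ⟨3444, 2, 9⟩)) (.node 1 (.one ⟨16533, 2, 7⟩) (.one ⟨3208, 0, 9⟩)))) (.node 4 (.node 2 (.node 1 (.one ⟨14094, 2, 9⟩) (.one ⟨14366, 2, 7⟩)) (.node 1 (.one ⟨6060, 2, 7⟩) (.one ⟨2530, 2, 9⟩))) (.node 2 (.node 1 (.one ⟨10941, 1, 10⟩) (.one ⟨16603, 0, 10⟩)) (.node 1 (.one ⟨367, 2, 7⟩) (.one ⟨12323, 2, 5⟩))))) (.node 8 (.node 4 (.node 2 (.node 1 (.one ⟨12877, 2, 5⟩) (.one ⟨3502, 2, 6⟩)) (.node 1 (.one ⟨1643, 2, 10⟩) (.one ⟨12360, 2, 6⟩))) (.node 2 (.node 1 (.one ⟨12953, 2, 8⟩) (.one ⟨4084, 0, 7⟩))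 (.node 1 (.one ⟨9327, 0, 7⟩) (.one ⟨2243, 1, 10⟩)))) (.node 4 (.node 2 (.node 1 (.one ⟨15292, 0, 5⟩) (.one ⟨7054, 1, 8⟩)) (.node 1 (.one ⟨2341, 1, 11⟩) (.one ⟨12025, 2, 9⟩))) (.node 2 (.node 1 (.one ⟨3476, 0, 10⟩) (.one ⟨14166, 0, 10⟩)) (.node 1 (.one ⟨11328, 0, 10⟩) (.one ⟨5170, 0, 6⟩)))))) (.node 16 (.node 8 (.node 4 (.node 2 (.node 1 (.one ⟨3259, 1, 6⟩) (.one ⟨3257, 1, 8⟩)) (.node 1 (.one ⟨8841, 0, 9⟩) (.one ⟨1950, 2, 8⟩))) (.node 2 (.node 1 (.one ⟨13995, 2, 9⟩) (.one ⟨5216, 2, 6⟩)) (.node 1 (.one ⟨5831, 0, 8⟩) (.one ⟨16800, 2, 6⟩)))) (.node 4 (.node 2 (.node 1 (.one ⟨10374, 1, 8⟩) (.one ⟨4953, 1, 8⟩)) (.node 1 (.one ⟨15943, 1, 7⟩) (.one ⟨16569, 0, 10⟩))) (.node 2 (.node 1 (.one ⟨10150, 2, 7⟩) (.one ⟨13870, 0,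 8⟩)) (.node 1 (.one ⟨15062, 0, 9⟩) (.one ⟨1755, 2, 7⟩))))) (.node 8 (.node 4 (.node 2 (.node 1 (.one ⟨7903, 2, 6⟩) (.one ⟨1508, 2, 7⟩)) (.node 1 (.one ⟨8048, 2, 10⟩) (.one ⟨4901, 2, 9⟩))) (.node 2 (.node 1 (.one ⟨6832, 2, 8⟩) (.one ⟨13598, 1, 3⟩)) (.node 1 (.one ⟨6985, 2, 9⟩) (.one ⟨4374, 2, 9⟩)))) (.node 4 (.node 2 (.node 1 (.one ⟨16122, 2, 6⟩) (.one ⟨10070, 2, 6⟩)) (.node 1 (.one ⟨6489, 2, 5⟩) (.one ⟨5261, 1, 6⟩))) (.node 2 (.node 1 (.one ⟨7469, 0, 8⟩) (.one ⟨14586, 2, 7⟩)) (.node 1 (.one ⟨3441, 0, 9⟩) (.one ⟨1304, 1, 8⟩)))))))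
def par10_11_3 : Arr Par :=
  (.node 32 (.node 16 (.node 8 (.node 4 (.node 2 (.node 1 (.one ⟨11012, 2, 10⟩) (.one ⟨11316, 2, 6⟩)) (.node 1 (.one ⟨8107, 0, 8⟩) (.one ⟨16853, 2, 7⟩))) (.node 2 (.node 1 (.one ⟨2430, 1, 9⟩) (.one ⟨2545, 0, 7⟩)) (.node 1 (.one ⟨16765, 2, 8⟩) (.one ⟨4465, 0, 8⟩)))) (.node 4 (.node 2 (.node 1 (.one ⟨5309, 1, 7⟩) (.one ⟨5812, 2, 8⟩)) (.node 1 (.one ⟨3762, 0, 9⟩) (.one ⟨15211, 1, 10⟩))) (.node 2 (.node 1 (.one ⟨14446, 2, 8⟩) (.one ⟨2364, 0, 9⟩)) (.node 1 (.one ⟨6494, 2, 9⟩) (.one ⟨8055, 1, 10⟩))))) (.node 8 (.node 4 (.node 2 (.node 1 (.one ⟨16020, 1, 8⟩) (.one ⟨1333, 1, 9⟩)) (.node 1 (.one ⟨9794, 1, 7⟩) (.one ⟨11846, 0, 8⟩))) (.node 2 (.node 1 (.one ⟨6100, 2, 5⟩) (.one ⟨13402, 1, 10⟩)) (.node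 1 (.one ⟨10955, 2, 9⟩) (.one ⟨1321, 2, 8⟩)))) (.node 4 (.node 2 (.node 1 (.one ⟨6488, 2, 7⟩) (.one ⟨5094, 2, 10⟩)) (.node 1 (.one ⟨8612, 2, 8⟩) (.one ⟨12893, 1, 9⟩))) (.node 2 (.node 1 (.one ⟨12767, 2, 9⟩) (.one ⟨3204, 1, 10⟩)) (.node 1 (.one ⟨10380, 2, 10⟩) (.one ⟨782, 0, 7⟩)))))) (.node 16 (.node 8 (.node 4 (.node 2 (.node 1 (.one ⟨11619, 2, 8⟩) (.one ⟨1300, 1, 7⟩)) (.node 1 (.one ⟨7090, 2, 8⟩) (.one ⟨16634, 0, 7⟩))) (.node 2 (.node 1 (.one ⟨11453, 1, 8⟩) (.one ⟨1217, 2, 9⟩)) (.node 1 (.one ⟨11368, 2, 5⟩) (.one ⟨8126, 2, 7⟩)))) (.node 4 (.node 2 (.node 1 (.one ⟨11927, 2, 8⟩) (.one ⟨5810, 2, 10⟩)) (.node 1 (.one ⟨11408, 0, 6⟩) (.one ⟨9266, 2, 7⟩))) (.node 2 (.node 1 (.one ⟨13570, 1, 9⟩) (.one ⟨12045, 2, 9⟩)) (.node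 1 (.one ⟨10830, 1, 7⟩) (.one ⟨12315, 2, 5⟩))))) (.node 8 (.node 4 (.node 2 (.node 1 (.one ⟨9346, 1, 8⟩) (.one ⟨11395, 1, 9⟩)) (.node 1 (.one ⟨15092, 1, 7⟩) (.one ⟨2132, 2, 9⟩))) (.node 2 (.node 1 (.one ⟨16461, 0, 7⟩) (.one ⟨4315, 2, 9⟩)) (.node 1 (.one ⟨7018, 2, 9⟩) (.one ⟨9887, 2, 10⟩)))) (.node 4 (.node 2 (.node 1 (.one ⟨822, 0, 8⟩) (.one ⟨1784, 2, 10⟩)) (.node 1 (.one ⟨1749, 1, 10⟩) (.one ⟨10891, 2, 5⟩))) (.node 2 (.node 1 (.one ⟨16805, 0, 7⟩) (.one ⟨13985, 0, 8⟩)) (.node 1 (.one ⟨10908, 2, 8⟩) (.one ⟨15343, 2, 8⟩)))))))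
def par10_11_4 : Arr Par :=
  (.node 32 (.node 16 (.node 8 (.node 4 (.node 2 (.node 1 (.one ⟨1855, 0, 8⟩) (.one ⟨15609, 1, 6⟩)) (.node 1 (.one ⟨8401, 0, 8⟩) (.one ⟨9350, 1, 10⟩))) (.node 2 (.node 1 (.one ⟨8000, 0, 6⟩) (.one ⟨3109, 0, 8⟩)) (.node 1 (.one ⟨2369, 1, 6⟩) (.one ⟨9014, 2, 10⟩)))) (.node 4 (.node 2 (.node 1 (.one ⟨9214, 1, 9⟩) (.one ⟨7434, 1, 9⟩)) (.node 1 (.one ⟨12917, 0, 10⟩) (.one ⟨7013, 1, 10⟩))) (.node 2 (.node 1 (.one ⟨2722, 1, 8⟩) (.one ⟨9065, 2, 7⟩)) (.node 1 (.one ⟨16455, 0, 10⟩) (.one ⟨1658, 2, 8⟩))))) (.node 8 (.node 4 (.node 2 (.node 1 (.one ⟨10096, 2, 8⟩) (.one ⟨11457, 2, 7⟩)) (.node 1 (.one ⟨6626, 0, 10⟩) (.one ⟨10801, 2, 7⟩))) (.node 2 (.node 1 (.one ⟨13350, 0, 8⟩) (.one ⟨10664, 1, 8⟩)) (.node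 1 (.one ⟨10514, 2, 6⟩) (.one ⟨3464, 1, 9⟩)))) (.node 4 (.node 2 (.node 1 (.one ⟨7541, 1, 7⟩) (.one ⟨11363, 1, 8⟩)) (.node 1 (.one ⟨15153, 1, 10⟩) (.one ⟨13750, 1, 9⟩))) (.node 2 (.node 1 (.one ⟨9345, 1, 9⟩) (.one ⟨17094, 2, 7⟩)) (.node 1 (.one ⟨13157, 0, 10⟩) (.one ⟨15070, 2, 10⟩)))))) (.node 16 (.node 8 (.node 4 (.node 2 (.node 1 (.one ⟨16915, 2, 8⟩) (.one ⟨4426, 2, 8⟩)) (.node 1 (.one ⟨15528, 1, 9⟩) (.one ⟨10963, 0, 9⟩))) (.node 2 (.node 1 (.one ⟨7851, 0, 7⟩) (.one ⟨2621, 0, 9⟩)) (.node 1 (.one ⟨11382, 2, 9⟩) (.one ⟨9518, 2, 6⟩)))) (.node 4 (.node 2 (.node 1 (.one ⟨11621, 2, 6⟩) (.one ⟨5073, 2, 7⟩)) (.node 1 (.one ⟨3338, 2, 9⟩) (.one ⟨8837, 0, 8⟩))) (.node 2 (.node 1 (.one ⟨6572, 1, 9⟩) (.one ⟨14795, 2, 10⟩)) (.node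 1 (.one ⟨16443, 2, 8⟩) (.one ⟨235, 1, 7⟩))))) (.node 8 (.node 4 (.node 2 (.node 1 (.one ⟨2765, 2, 8⟩) (.one ⟨15766, 2, 10⟩)) (.node 1 (.one ⟨6524, 2, 5⟩) (.one ⟨10904, 0, 8⟩))) (.node 2 (.node 1 (.one ⟨8008, 1, 8⟩) (.one ⟨12997, 2, 3⟩)) (.node 1 (.one ⟨3179, 2, 11⟩) (.one ⟨9743, 0, 8⟩)))) (.node 4 (.node 2 (.node 1 (.one ⟨1584, 0, 9⟩) (.one ⟨1654, 0, 10⟩)) (.node 1 (.one ⟨8205, 2, 9⟩) (.one ⟨9344, 0, 7⟩))) (.node 2 (.node 1 (.one ⟨16884, 2, 9⟩) (.one ⟨14392, 2, 9⟩)) (.node 1 (.one ⟨15881, 2, 9⟩) (.one ⟨16251, 1, 10⟩)))))))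
def par10_11_5 : Arr Par :=
  (.node 32 (.node 16 (.node 8 (.node 4 (.node 2 (.node 1 (.one ⟨7996, 1, 10⟩) (.one ⟨10222, 1, 8⟩)) (.node 1 (.one ⟨12387, 2, 8⟩) (.one ⟨5346, 2, 9⟩))) (.node 2 (.node 1 (.one ⟨3160, 0, 10⟩) (.one ⟨15754, 1, 10⟩)) (.node 1 (.one ⟨8256, 1, 9⟩) (.one ⟨7963, 1, 5⟩)))) (.node 4 (.node 2 (.node 1 (.one ⟨7754, 2, 10⟩) (.one ⟨16710, 1, 7⟩)) (.node 1 (.one ⟨9019, 2, 9⟩) (.one ⟨10901, 1, 9⟩))) (.node 2 (.node 1 (.one ⟨3110, 0, 10⟩) (.one ⟨3149, 2, 9⟩)) (.node 1 (.one ⟨1378, 0, 8⟩) (.one ⟨9515, 2, 8⟩))))) (.node 8 (.node 4 (.node 2 (.node 1 (.one ⟨486, 0, 9⟩) (.one ⟨5713, 1, 10⟩)) (.node 1 (.one ⟨6848, 0, 11⟩) (.one ⟨10439, 2, 7⟩))) (.node 2 (.node 1 (.one ⟨6723, 2, 9⟩) (.one ⟨3608, 0, 8⟩)) (.node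 1 (.one ⟨8517, 1, 10⟩) (.one ⟨2421, 1, 4⟩)))) (.node 4 (.node 2 (.node 1 (.one ⟨4729, 0, 10⟩) (.one ⟨14987, 0, 9⟩)) (.node 1 (.one ⟨2139, 1, 8⟩) (.one ⟨13460, 0, 11⟩))) (.node 2 (.node 1 (.one ⟨6863, 0, 10⟩) (.one ⟨14114, 1, 8⟩)) (.node 1 (.one ⟨12520, 1, 7⟩) (.one ⟨5449, 2, 9⟩)))))) (.node 16 (.node 8 (.node 4 (.node 2 (.node 1 (.one ⟨12983, 0, 9⟩) (.one ⟨16769, 0, 6⟩)) (.node 1 (.one ⟨14555, 0, 10⟩) (.one ⟨16161, 1, 7⟩))) (.node 2 (.node 1 (.one ⟨13849, 2, 9⟩) (.one ⟨3492, 1, 5⟩)) (.node 1 (.one ⟨9692, 2, 8⟩) (.one ⟨12097, 2, 9⟩)))) (.node 4 (.node 2 (.node 1 (.one ⟨3682, 1, 9⟩) (.one ⟨10515, 1, 10⟩)) (.node 1 (.one ⟨2610, 2, 9⟩) (.one ⟨11800, 2, 10⟩))) (.node 2 (.node 1 (.one ⟨10365, 2, 11⟩) (.one ⟨2569, 1, 8⟩))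 (.node 1 (.one ⟨14004, 1, 6⟩) (.one ⟨15106, 1, 7⟩))))) (.node 8 (.node 4 (.node 2 (.node 1 (.one ⟨2150, 0, 9⟩) (.one ⟨3749, 1, 9⟩)) (.node 1 (.one ⟨1963, 1, 8⟩) (.one ⟨14954, 1, 8⟩))) (.node 2 (.node 1 (.one ⟨6652, 0, 7⟩) (.one ⟨16423, 2, 9⟩)) (.node 1 (.one ⟨1631, 0, 9⟩) (.one ⟨3605, 0, 9⟩)))) (.node 4 (.node 2 (.node 1 (.one ⟨9409, 0, 8⟩) (.one ⟨11165, 2, 11⟩)) (.node 1 (.one ⟨11579, 0, 8⟩) (.one ⟨16770, 2, 7⟩))) (.node 2 (.node 1 (.one ⟨13863, 0, 6⟩) (.one ⟨12402, 2, 6⟩)) (.node 1 (.one ⟨14018, 1, 7⟩) (.one ⟨3539, 1, 10⟩)))))))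
def par10_11_6 : Arr Par :=
  (.node 32 (.node 16 (.node 8 (.node 4 (.node 2 (.node 1 (.one ⟨5764, 2, 8⟩) (.one ⟨414, 2, 9⟩)) (.node 1 (.one ⟨5765, 2, 9⟩) (.one ⟨8890, 0, 7⟩))) (.node 2 (.node 1 (.one ⟨814, 1, 10⟩) (.one ⟨15328, 0, 8⟩)) (.node 1 (.one ⟨2094, 1, 10⟩) (.one ⟨1637, 0, 9⟩)))) (.node 4 (.node 2 (.node 1 (.one ⟨13223, 1, 9⟩) (.one ⟨11381, 1, 4⟩)) (.node 1 (.one ⟨16552, 1, 7⟩) (.one ⟨16076, 1, 7⟩))) (.node 2 (.node 1 (.one ⟨14972, 2, 10⟩) (.one ⟨13861, 0, 8⟩)) (.node 1 (.one ⟨13966, 0, 11⟩) (.one ⟨13961, 2, 8⟩))))) (.node 8 (.node 4 (.node 2 (.node 1 (.one ⟨7903, 1, 6⟩) (.one ⟨12471, 1, 10⟩)) (.node 1 (.one ⟨9360, 2, 7⟩) (.one ⟨13121, 0, 7⟩))) (.node 2 (.node 1 (.one ⟨2279, 1, 9⟩) (.one ⟨5835, 2, 10⟩))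 (.node 1 (.one ⟨13346, 0, 8⟩) (.one ⟨15433, 1, 10⟩)))) (.node 4 (.node 2 (.node 1 (.one ⟨3485, 1, 9⟩) (.one ⟨15624, 0, 9⟩)) (.node 1 (.one ⟨2533, 2, 5⟩) (.one ⟨8057, 1, 9⟩))) (.node 2 (.node 1 (.one ⟨10465, 0, 10⟩) (.one ⟨679, 1, 9⟩)) (.node 1 (.one ⟨9468, 2, 8⟩) (.one ⟨13333, 1, 8⟩)))))) (.node 16 (.node 8 (.node 4 (.node 2 (.node 1 (.one ⟨13757, 2, 8⟩) (.one ⟨8068, 1, 8⟩)) (.node 1 (.one ⟨859, 0, 10⟩) (.one ⟨3443, 1, 10⟩))) (.node 2 (.node 1 (.one ⟨15573, 1, 8⟩) (.one ⟨13943, 1, 9⟩)) (.node 1 (.one ⟨15475, 2, 7⟩) (.one ⟨2613, 1, 8⟩)))) (.node 4 (.node 2 (.node 1 (.one ⟨8543, 2, 7⟩) (.one ⟨16018, 0, 4⟩)) (.node 1 (.one ⟨13178, 2, 9⟩) (.one ⟨12545, 2, 8⟩))) (.node 2 (.node 1 (.one ⟨15485, 2, 6⟩) (.one ⟨1164, 1, 10⟩))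 (.node 1 (.one ⟨8934, 1, 8⟩) (.one ⟨9991, 2, 9⟩))))) (.node 8 (.node 4 (.node 2 (.node 1 (.one ⟨7486, 1, 10⟩) (.one ⟨1920, 2, 4⟩)) (.node 1 (.one ⟨9970, 2, 5⟩) (.one ⟨2952, 2, 10⟩))) (.node 2 (.node 1 (.one ⟨11000, 2, 9⟩) (.one ⟨14311, 0, 9⟩)) (.node 1 (.one ⟨2927, 2, 7⟩) (.one ⟨6924, 2, 9⟩)))) (.node 4 (.node 2 (.node 1 (.one ⟨15727, 1, 7⟩) (.one ⟨3597, 0, 9⟩)) (.node 1 (.one ⟨12616, 2, 7⟩) (.one ⟨6038, 0, 6⟩))) (.node 2 (.node 1 (.one ⟨5420, 2, 10⟩) (.one ⟨15330, 2, 5⟩)) (.node 1 (.one ⟨17023, 2, 11⟩) (.one ⟨11684, 2, 9⟩)))))))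
def par10_11_7 : Arr Par :=
  (.node 32 (.node 16 (.node 8 (.node 4 (.node 2 (.node 1 (.one ⟨5198, 2, 8⟩) (.one ⟨15632, 0, 8⟩)) (.node 1 (.one ⟨7621, 1, 6⟩) (.one ⟨3442, 2, 7⟩))) (.node 2 (.node 1 (.one ⟨10278, 2, 10⟩) (.one ⟨4614, 0, 7⟩)) (.node 1 (.one ⟨5295, 2, 7⟩) (.one ⟨16452, 2, 8⟩)))) (.node 4 (.node 2 (.node 1 (.one ⟨2475, 2, 6⟩) (.one ⟨9454, 0, 3⟩)) (.node 1 (.one ⟨6226, 2, 7⟩) (.one ⟨15575, 1, 7⟩))) (.node 2 (.node 1 (.one ⟨13113, 2, 5⟩) (.one ⟨1195, 0, 9⟩)) (.node 1 (.one ⟨16981, 2, 7⟩) (.one ⟨17010, 2, 6⟩))))) (.node 8 (.node 4 (.node 2 (.node 1 (.one ⟨11023, 0, 9⟩) (.one ⟨3865, 0, 9⟩)) (.node 1 (.one ⟨12940, 2, 6⟩) (.one ⟨16724, 0, 9⟩))) (.node 2 (.node 1 (.one ⟨8473, 2, 8⟩) (.one ⟨4670, 0, 6⟩)) (.node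 1 (.one ⟨1665, 1, 6⟩) (.one ⟨15147, 2, 8⟩)))) (.node 4 (.node 2 (.node 1 (.one ⟨10295, 1, 6⟩) (.one ⟨2263, 2, 9⟩)) (.node 1 (.one ⟨13476, 2, 5⟩) (.one ⟨10075, 2, 9⟩))) (.node 2 (.node 1 (.one ⟨4850, 2, 7⟩) (.one ⟨7233, 2, 9⟩)) (.node 1 (.one ⟨16332, 2, 10⟩) (.one ⟨1506, 1, 9⟩)))))) (.node 16 (.node 8 (.node 4 (.node 2 (.node 1 (.one ⟨11034, 0, 7⟩) (.one ⟨7909, 1, 7⟩)) (.node 1 (.one ⟨2483, 2, 7⟩) (.one ⟨3670, 1, 10⟩))) (.node 2 (.node 1 (.one ⟨1661, 2, 10⟩) (.one ⟨1961, 0, 10⟩)) (.node 1 (.one ⟨10995, 1, 11⟩) (.one ⟨14298, 2, 9⟩)))) (.node 4 (.node 2 (.node 1 (.one ⟨11427, 2, 9⟩) (.one ⟨15843, 0, 6⟩)) (.node 1 (.one ⟨14879, 2, 8⟩) (.one ⟨9943, 2, 6⟩))) (.node 2 (.node 1 (.one ⟨3551, 1, 11⟩) (.one ⟨14554, 2, 9⟩))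 (.node 1 (.one ⟨12020, 0, 10⟩) (.one ⟨15250, 0, 8⟩))))) (.node 8 (.node 4 (.node 2 (.node 1 (.one ⟨10108, 1, 10⟩) (.one ⟨6, 2, 9⟩)) (.node 1 (.one ⟨3261, 0, 8⟩) (.one ⟨16108, 1, 8⟩))) (.node 2 (.node 1 (.one ⟨4212, 1, 6⟩) (.one ⟨4287, 1, 9⟩)) (.node 1 (.one ⟨12113, 2, 7⟩) (.one ⟨14214, 1, 10⟩)))) (.node 4 (.node 2 (.node 1 (.one ⟨13099, 2, 10⟩) (.one ⟨3736, 1, 10⟩)) (.node 1 (.one ⟨6622, 0, 6⟩) (.one ⟨4391, 2, 4⟩))) (.node 2 (.node 1 (.one ⟨9710, 2, 8⟩) (.one ⟨13919, 0, 6⟩)) (.node 1 (.one ⟨11183, 2, 10⟩) (.one ⟨3576, 1, 7⟩)))))))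
def par10_11_8 : Arr Par :=
  (.node 32 (.node 16 (.node 8 (.node 4 (.node 2 (.node 1 (.one ⟨12712, 1, 7⟩) (.one ⟨12296, 0, 10⟩)) (.node 1 (.one ⟨6594, 2, 11⟩) (.one ⟨9117, 2, 8⟩))) (.node 2 (.node 1 (.one ⟨10101, 0, 8⟩) (.one ⟨11044, 1, 10⟩)) (.node 1 (.one ⟨1634, 0, 10⟩) (.one ⟨13122, 0, 8⟩)))) (.node 4 (.node 2 (.node 1 (.one ⟨2140, 1, 8⟩) (.one ⟨16928, 2, 9⟩)) (.node 1 (.one ⟨4029, 1, 2⟩) (.one ⟨11792, 2, 6⟩))) (.node 2 (.node 1 (.one ⟨9743, 1, 8⟩) (.one ⟨5831, 2, 8⟩)) (.node 1 (.one ⟨3368, 0, 8⟩) (.one ⟨7268, 0, 10⟩))))) (.node 8 (.node 4 (.node 2 (.node 1 (.one ⟨8553, 0, 5⟩) (.one ⟨14702, 0, 9⟩)) (.node 1 (.one ⟨13930, 2, 8⟩) (.one ⟨2553, 1, 11⟩))) (.node 2 (.node 1 (.one ⟨5683, 2, 5⟩) (.one ⟨3207, 2, 10⟩))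 (.node 1 (.one ⟨11738, 0, 6⟩) (.one ⟨12750, 0, 9⟩)))) (.node 4 (.node 2 (.node 1 (.one ⟨13224, 0, 9⟩) (.one ⟨3337, 0, 9⟩)) (.node 1 (.one ⟨12904, 2, 7⟩) (.one ⟨121, 2, 8⟩))) (.node 2 (.node 1 (.one ⟨505, 2, 9⟩) (.one ⟨982, 1, 11⟩)) (.node 1 (.one ⟨415, 2, 8⟩) (.one ⟨7043, 2, 10⟩)))))) (.node 16 (.node 8 (.node 4 (.node 2 (.node 1 (.one ⟨11573, 0, 4⟩) (.one ⟨1667, 1, 8⟩)) (.node 1 (.one ⟨14638, 1, 9⟩) (.one ⟨11570, 0, 6⟩))) (.node 2 (.node 1 (.one ⟨12307, 1, 10⟩) (.one ⟨14425, 1, 5⟩)) (.node 1 (.one ⟨429, 2, 6⟩) (.one ⟨4705, 0, 10⟩)))) (.node 4 (.node 2 (.node 1 (.one ⟨6931, 0, 5⟩) (.one ⟨12982, 2, 8⟩)) (.node 1 (.one ⟨4700, 0, 10⟩) (.one ⟨6176, 1, 9⟩))) (.node 2 (.node 1 (.one ⟨9673, 1, 6⟩) (.one ⟨16930, 2, 6⟩))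 (.node 1 (.one ⟨11452, 1, 9⟩) (.one ⟨15696, 1, 5⟩))))) (.node 8 (.node 4 (.node 2 (.node 1 (.one ⟨3749, 2, 9⟩) (.one ⟨6604, 1, 7⟩)) (.node 1 (.one ⟨4530, 2, 9⟩) (.one ⟨8915, 0, 10⟩))) (.node 2 (.node 1 (.one ⟨7737, 1, 7⟩) (.one ⟨9531, 1, 6⟩)) (.node 1 (.one ⟨3025, 2, 9⟩) (.one ⟨15947, 2, 7⟩)))) (.node 4 (.node 2 (.node 1 (.one ⟨58, 0, 9⟩) (.one ⟨9172, 2, 8⟩)) (.node 1 (.one ⟨8932, 0, 10⟩) (.one ⟨13604, 0, 7⟩))) (.node 2 (.node 1 (.one ⟨13125, 1, 8⟩) (.one ⟨12477, 1, 9⟩)) (.node 1 (.one ⟨8803, 0, 9⟩) (.one ⟨8175, 0, 9⟩)))))))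
def par10_11_9 : Arr Par :=
  (.node 32 (.node 16 (.node 8 (.node 4 (.node 2 (.node 1 (.one ⟨6823, 2, 6⟩) (.one ⟨16321, 0, 6⟩)) (.node 1 (.one ⟨11876, 1, 9⟩) (.one ⟨1431, 2, 4⟩))) (.node 2 (.node 1 (.one ⟨8279, 2, 7⟩) (.one ⟨9368, 1, 8⟩)) (.node 1 (.one ⟨9197, 0, 7⟩) (.one ⟨14234, 2, 8⟩)))) (.node 4 (.node 2 (.node 1 (.one ⟨11206, 0, 8⟩) (.one ⟨7583, 0, 11⟩)) (.node 1 (.one ⟨6165, 2, 7⟩) (.one ⟨2532, 0, 8⟩))) (.node 2 (.node 1 (.one ⟨7950, 1, 8⟩) (.one ⟨15109, 2, 10⟩)) (.node 1 (.one ⟨15997, 1, 9⟩) (.one ⟨14807, 1, 4⟩))))) (.node 8 (.node 4 (.node 2 (.node 1 (.one ⟨14988, 0, 10⟩) (.one ⟨4632, 0, 8⟩)) (.node 1 (.one ⟨9703, 2, 10⟩) (.one ⟨9527, 1, 6⟩))) (.node 2 (.node 1 (.one ⟨12610, 0, 9⟩) (.one ⟨6865, 0, 10⟩)) (.node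 1 (.one ⟨8638, 1, 8⟩) (.one ⟨14510, 2, 10⟩)))) (.node 4 (.node 2 (.node 1 (.one ⟨4114, 0, 8⟩) (.one ⟨3079, 2, 6⟩)) (.node 1 (.one ⟨15294, 2, 11⟩) (.one ⟨16190, 1, 9⟩))) (.node 2 (.node 1 (.one ⟨8526, 2, 8⟩) (.one ⟨2994, 1, 7⟩)) (.node 1 (.one ⟨15825, 1, 9⟩) (.one ⟨15618, 2, 9⟩)))))) (.node 16 (.node 8 (.node 4 (.node 2 (.node 1 (.one ⟨7598, 2, 8⟩) (.one ⟨3840, 1, 11⟩)) (.node 1 (.one ⟨15614, 2, 10⟩) (.one ⟨1850, 0, 9⟩))) (.node 2 (.node 1 (.one ⟨7535, 2, 8⟩) (.one ⟨7559, 2, 12⟩)) (.node 1 (.one ⟨15652, 2, 7⟩) (.one ⟨13930, 1, 8⟩)))) (.node 4 (.node 2 (.node 1 (.one ⟨7066, 2, 10⟩) (.one ⟨12379, 2, 9⟩)) (.node 1 (.one ⟨872, 0, 8⟩) (.one ⟨7905, 2, 8⟩))) (.node 2 (.node 1 (.one ⟨5979, 2, 10⟩) (.one ⟨8646, 0, 10⟩)) (.node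 1 (.one ⟨11540, 2, 9⟩) (.one ⟨16880, 2, 7⟩))))) (.node 8 (.node 4 (.node 2 (.node 1 (.one ⟨14642, 2, 9⟩) (.one ⟨4237, 1, 9⟩)) (.node 1 (.one ⟨9373, 1, 9⟩) (.one ⟨83, 0, 8⟩))) (.node 2 (.node 1 (.one ⟨11238, 2, 3⟩) (.one ⟨11766, 2, 8⟩)) (.node 1 (.one ⟨10609, 2, 10⟩) (.one ⟨663, 2, 9⟩)))) (.node 4 (.node 2 (.node 1 (.one ⟨7790, 2, 9⟩) (.one ⟨15184, 0, 10⟩)) (.node 1 (.one ⟨2840, 2, 9⟩) (.one ⟨15613, 0, 10⟩))) (.node 2 (.node 1 (.one ⟨3453, 0, 7⟩) (.one ⟨2706, 0, 7⟩)) (.node 1 (.one ⟨14612, 0, 7⟩) (.one ⟨6754, 1, 8⟩)))))))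
def par10_11_10 : Arr Par :=
  (.node 32 (.node 16 (.node 8 (.node 4 (.node 2 (.node 1 (.one ⟨2272, 2, 5⟩) (.one ⟨10182, 2, 8⟩)) (.node 1 (.one ⟨4650, 2, 9⟩) (.one ⟨8565, 0, 7⟩))) (.node 2 (.node 1 (.one ⟨12810, 2, 8⟩) (.one ⟨8164, 0, 9⟩)) (.node 1 (.one ⟨9034, 0, 6⟩) (.one ⟨14431, 2, 8⟩)))) (.node 4 (.node 2 (.node 1 (.one ⟨17087, 0, 9⟩) (.one ⟨16092, 0, 4⟩)) (.node 1 (.one ⟨3400, 2, 7⟩) (.one ⟨15997, 2, 9⟩))) (.node 2 (.node 1 (.one ⟨8583, 1, 10⟩) (.one ⟨6897, 2, 7⟩)) (.node 1 (.one ⟨4715, 2, 4⟩) (.one ⟨14054, 2, 10⟩))))) (.node 8 (.node 4 (.node 2 (.node 1 (.one ⟨2361, 1, 10⟩) (.one ⟨14201, 0, 11⟩)) (.node 1 (.one ⟨12284, 1, 7⟩) (.one ⟨11302, 2, 8⟩))) (.node 2 (.node 1 (.one ⟨14112, 2, 5⟩) (.one ⟨9374, 1, 9⟩))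 (.node 1 (.one ⟨2390, 1, 9⟩) (.one ⟨11770, 0, 7⟩)))) (.node 4 (.node 2 (.node 1 (.one ⟨10019, 2, 10⟩) (.one ⟨13412, 2, 7⟩)) (.node 1 (.one ⟨7602, 2, 6⟩) (.one ⟨7575, 0, 9⟩))) (.node 2 (.node 1 (.one ⟨5085, 2, 9⟩) (.one ⟨504, 2, 5⟩)) (.node 1 (.one ⟨15622, 2, 9⟩) (.one ⟨682, 2, 7⟩)))))) (.node 16 (.node 8 (.node 4 (.node 2 (.node 1 (.one ⟨11771, 0, 5⟩) (.one ⟨12714, 1, 10⟩)) (.node 1 (.one ⟨259, 2, 10⟩) (.one ⟨13701, 1, 8⟩))) (.node 2 (.node 1 (.one ⟨14205, 0, 9⟩) (.one ⟨668, 2, 9⟩)) (.node 1 (.one ⟨15409, 2, 9⟩) (.one ⟨6097, 2, 8⟩)))) (.node 4 (.node 2 (.node 1 (.one ⟨13538, 0, 7⟩) (.one ⟨15441, 0, 7⟩)) (.node 1 (.one ⟨12046, 1, 10⟩) (.one ⟨6736, 2, 4⟩))) (.node 2 (.node 1 (.one ⟨11844, 0, 8⟩) (.one ⟨13789, 0, 6⟩))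 (.node 1 (.one ⟨3315, 2, 7⟩) (.one ⟨5848, 2, 4⟩))))) (.node 8 (.node 4 (.node 2 (.node 1 (.one ⟨15606, 1, 10⟩) (.one ⟨4747, 1, 9⟩)) (.node 1 (.one ⟨10517, 1, 7⟩) (.one ⟨72, 0, 9⟩))) (.node 2 (.node 1 (.one ⟨7029, 1, 7⟩) (.one ⟨11517, 2, 9⟩)) (.node 1 (.one ⟨15563, 2, 4⟩) (.one ⟨14051, 2, 9⟩)))) (.node 4 (.node 2 (.node 1 (.one ⟨15857, 0, 9⟩) (.one ⟨8083, 2, 8⟩)) (.node 1 (.one ⟨5253, 2, 11⟩) (.one ⟨3956, 1, 10⟩))) (.node 2 (.node 1 (.one ⟨9753, 1, 8⟩) (.one ⟨2271, 0, 2⟩)) (.node 1 (.one ⟨13434, 2, 9⟩) (.one ⟨11616, 2, 10⟩)))))))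
def par10_11_11 : Arr Par :=
  (.node 32 (.node 16 (.node 8 (.node 4 (.node 2 (.node 1 (.one ⟨2473, 2, 7⟩) (.one ⟨12464, 0, 9⟩)) (.node 1 (.one ⟨14033, 1, 7⟩) (.one ⟨3927, 2, 10⟩))) (.node 2 (.node 1 (.one ⟨9449, 2, 9⟩) (.one ⟨15719, 2, 10⟩)) (.node 1 (.one ⟨6309, 2, 9⟩) (.one ⟨11155, 2, 10⟩)))) (.node 4 (.node 2 (.node 1 (.one ⟨14550, 0, 9⟩) (.one ⟨14412, 0, 7⟩)) (.node 1 (.one ⟨6463, 0, 7⟩) (.one ⟨16722, 1, 10⟩))) (.node 2 (.node 1 (.one ⟨12139, 1, 6⟩) (.one ⟨15244, 2, 6⟩)) (.node 1 (.one ⟨16357, 1, 9⟩) (.one ⟨6446, 2, 8⟩))))) (.node 8 (.node 4 (.node 2 (.node 1 (.one ⟨9104, 2, 7⟩) (.one ⟨11764, 2, 7⟩)) (.node 1 (.one ⟨17075, 0, 9⟩) (.one ⟨9018, 2, 10⟩))) (.node 2 (.node 1 (.one ⟨6341, 2, 8⟩) (.one ⟨10851, 2, 7⟩))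 (.node 1 (.one ⟨11960, 1, 10⟩) (.one ⟨16803, 2, 9⟩)))) (.node 4 (.node 2 (.node 1 (.one ⟨9833, 2, 9⟩) (.one ⟨12629, 2, 8⟩)) (.node 1 (.one ⟨2243, 0, 10⟩) (.one ⟨2279, 0, 9⟩))) (.node 2 (.node 1 (.one ⟨14395, 2, 8⟩) (.one ⟨578, 0, 8⟩)) (.node 1 (.one ⟨10637, 2, 10⟩) (.one ⟨5777, 0, 11⟩)))))) (.node 16 (.node 8 (.node 4 (.node 2 (.node 1 (.one ⟨3469, 2, 9⟩) (.one ⟨15459, 0, 8⟩)) (.node 1 (.one ⟨9661, 2, 10⟩) (.one ⟨12776, 1, 10⟩))) (.node 2 (.node 1 (.one ⟨1840, 2, 8⟩) (.one ⟨7349, 0, 9⟩)) (.node 1 (.one ⟨11364, 2, 9⟩) (.one ⟨10917, 0, 8⟩)))) (.node 4 (.node 2 (.node 1 (.one ⟨2513, 1, 10⟩) (.one ⟨5075, 0, 7⟩)) (.node 1 (.one ⟨13074, 0, 6⟩) (.one ⟨3468, 2, 9⟩))) (.node 2 (.node 1 (.one ⟨11777, 1, 11⟩) (.one ⟨15678,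 1, 9⟩)) (.node 1 (.one ⟨11509, 2, 10⟩) (.one ⟨1719, 2, 8⟩))))) (.node 8 (.node 4 (.node 2 (.node 1 (.one ⟨13290, 2, 7⟩) (.one ⟨14425, 0, 5⟩)) (.node 1 (.one ⟨16410, 1, 10⟩) (.one ⟨4746, 1, 8⟩))) (.node 2 (.node 1 (.one ⟨230, 0, 9⟩) (.one ⟨5399, 0, 9⟩)) (.node 1 (.one ⟨12183, 0, 9⟩) (.one ⟨15876, 1, 9⟩)))) (.node 4 (.node 2 (.node 1 (.one ⟨3576, 0, 7⟩) (.one ⟨11900, 2, 8⟩)) (.node 1 (.one ⟨12762, 2, 4⟩) (.one ⟨12748, 2, 9⟩))) (.node 2 (.node 1 (.one ⟨11904, 2, 6⟩) (.one ⟨2031, 0, 9⟩)) (.node 1 (.one ⟨189, 0, 8⟩) (.one ⟨13200, 1, 9⟩)))))))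
def par10_11_12 : Arr Par :=
  (.node 32 (.node 16 (.node 8 (.node 4 (.node 2 (.node 1 (.one ⟨1723, 2, 8⟩) (.one ⟨7936, 2, 9⟩)) (.node 1 (.one ⟨9002, 0, 8⟩) (.one ⟨6894, 1, 9⟩))) (.node 2 (.node 1 (.one ⟨4473, 2, 10⟩) (.one ⟨6276, 2, 7⟩)) (.node 1 (.one ⟨14388, 2, 8⟩) (.one ⟨11618, 2, 11⟩)))) (.node 4 (.node 2 (.node 1 (.one ⟨3262, 2, 9⟩) (.one ⟨10024, 0, 10⟩)) (.node 1 (.one ⟨16228, 2, 9⟩) (.one ⟨13123, 2, 6⟩))) (.node 2 (.node 1 (.one ⟨2716, 1, 8⟩) (.one ⟨6261, 2, 8⟩)) (.node 1 (.one ⟨16448, 2, 9⟩) (.one ⟨676, 0, 9⟩))))) (.node 8 (.node 4 (.node 2 (.node 1 (.one ⟨1589, 2, 9⟩) (.one ⟨7618, 2, 10⟩)) (.node 1 (.one ⟨5957, 1, 9⟩) (.one ⟨16153, 2, 9⟩))) (.node 2 (.node 1 (.one ⟨12576, 1, 9⟩) (.one ⟨6813, 0, 9⟩)) (.node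 1 (.one ⟨10148, 2, 8⟩) (.one ⟨153, 1, 4⟩)))) (.node 4 (.node 2 (.node 1 (.one ⟨10657, 0, 8⟩) (.one ⟨805, 0, 7⟩)) (.node 1 (.one ⟨12639, 0, 10⟩) (.one ⟨3739, 0, 6⟩))) (.node 2 (.node 1 (.one ⟨16368, 1, 5⟩) (.one ⟨3133, 0, 7⟩)) (.node 1 (.one ⟨6037, 2, 7⟩) (.one ⟨10531, 0, 2⟩)))))) (.node 16 (.node 8 (.node 4 (.node 2 (.node 1 (.one ⟨11985, 1, 8⟩) (.one ⟨7959, 2, 8⟩)) (.node 1 (.one ⟨2145, 2, 5⟩) (.one ⟨13611, 2, 9⟩))) (.node 2 (.node 1 (.one ⟨15630, 2, 7⟩) (.one ⟨2169, 1, 8⟩)) (.node 1 (.one ⟨1794, 2, 6⟩) (.one ⟨1875, 0, 4⟩)))) (.node 4 (.node 2 (.node 1 (.one ⟨13560, 0, 5⟩) (.one ⟨12475, 2, 8⟩)) (.node 1 (.one ⟨4727, 0, 9⟩) (.one ⟨3115, 0, 4⟩))) (.node 2 (.node 1 (.one ⟨794, 1, 8⟩) (.one ⟨11228, 0, 9⟩)) (.node 1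 (.one ⟨16401, 2, 8⟩) (.one ⟨14423, 1, 5⟩))))) (.node 8 (.node 4 (.node 2 (.node 1 (.one ⟨1020, 0, 9⟩) (.one ⟨5552, 2, 8⟩)) (.node 1 (.one ⟨9659, 2, 9⟩) (.one ⟨8713, 1, 7⟩))) (.node 2 (.node 1 (.one ⟨6665, 1, 9⟩) (.one ⟨5680, 2, 7⟩)) (.node 1 (.one ⟨16033, 0, 9⟩) (.one ⟨11066, 2, 8⟩)))) (.node 4 (.node 2 (.node 1 (.one ⟨14236, 2, 8⟩) (.one ⟨16990, 2, 8⟩)) (.node 1 (.one ⟨12089, 2, 9⟩) (.one ⟨6933, 1, 4⟩))) (.node 2 (.node 1 (.one ⟨9441, 2, 9⟩) (.one ⟨8635, 0, 6⟩)) (.node 1 (.one ⟨4271, 0, 10⟩) (.one ⟨12725, 2, 9⟩)))))))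
def par10_11_13 : Arr Par :=
  (.node 32 (.node 16 (.node 8 (.node 4 (.node 2 (.node 1 (.one ⟨7677, 2, 7⟩) (.one ⟨14779, 0, 8⟩)) (.node 1 (.one ⟨16805, 1, 7⟩) (.one ⟨3326, 2, 9⟩))) (.node 2 (.node 1 (.one ⟨13778, 0, 10⟩) (.one ⟨3029, 1, 9⟩)) (.node 1 (.one ⟨15547, 1, 10⟩) (.one ⟨11950, 0, 8⟩)))) (.node 4 (.node 2 (.node 1 (.one ⟨6918, 2, 8⟩) (.one ⟨9077, 2, 9⟩)) (.node 1 (.one ⟨7368, 1, 8⟩) (.one ⟨4187, 1, 9⟩))) (.node 2 (.node 1 (.one ⟨5826, 1, 9⟩) (.one ⟨8700, 0, 10⟩)) (.node 1 (.one ⟨15662, 2, 7⟩) (.one ⟨15116, 2, 9⟩))))) (.node 8 (.node 4 (.node 2 (.node 1 (.one ⟨14989, 0, 5⟩) (.one ⟨10876, 0, 6⟩)) (.node 1 (.one ⟨2532, 2, 8⟩) (.one ⟨13843, 2, 9⟩))) (.node 2 (.node 1 (.one ⟨15656, 0, 10⟩) (.one ⟨5171, 1, 9⟩))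 (.node 1 (.one ⟨3171, 2, 9⟩) (.one ⟨3796, 1, 9⟩)))) (.node 4 (.node 2 (.node 1 (.one ⟨13579, 2, 8⟩) (.one ⟨13221, 2, 7⟩)) (.node 1 (.one ⟨2801, 2, 7⟩) (.one ⟨12192, 2, 8⟩))) (.node 2 (.node 1 (.one ⟨1603, 2, 7⟩) (.one ⟨2575, 1, 7⟩)) (.node 1 (.one ⟨12372, 2, 7⟩) (.one ⟨10299, 0, 9⟩)))))) (.node 16 (.node 8 (.node 4 (.node 2 (.node 1 (.one ⟨12264, 1, 10⟩) (.one ⟨8092, 2, 6⟩)) (.node 1 (.one ⟨5518, 1, 0⟩) (.one ⟨12369, 2, 7⟩))) (.node 2 (.node 1 (.one ⟨2107, 0, 7⟩) (.one ⟨2292, 0, 10⟩)) (.node 1 (.one ⟨9663, 0, 9⟩) (.one ⟨4096, 1, 10⟩)))) (.node 4 (.node 2 (.node 1 (.one ⟨5084, 2, 11⟩) (.one ⟨2952, 1, 10⟩)) (.node 1 (.one ⟨5475, 1, 10⟩) (.one ⟨4748, 2, 5⟩))) (.node 2 (.node 1 (.one ⟨2339, 2, 11⟩) (.one ⟨3878, 0, 4⟩))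 (.node 1 (.one ⟨6964, 0, 9⟩) (.one ⟨8561, 2, 5⟩))))) (.node 8 (.node 4 (.node 2 (.node 1 (.one ⟨12512, 1, 8⟩) (.one ⟨15482, 2, 9⟩)) (.node 1 (.one ⟨2441, 1, 10⟩) (.one ⟨7916, 1, 7⟩))) (.node 2 (.node 1 (.one ⟨658, 2, 4⟩) (.one ⟨1565, 2, 9⟩)) (.node 1 (.one ⟨12572, 2, 10⟩) (.one ⟨2681, 2, 9⟩)))) (.node 4 (.node 2 (.node 1 (.one ⟨4380, 2, 8⟩) (.one ⟨1134, 0, 6⟩)) (.node 1 (.one ⟨8574, 2, 9⟩) (.one ⟨2595, 2, 6⟩))) (.node 2 (.node 1 (.one ⟨16056, 0, 10⟩) (.one ⟨6913, 2, 10⟩)) (.node 1 (.one ⟨8646, 2, 10⟩) (.one ⟨379, 2, 9⟩)))))))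
def par10_11_14 : Arr Par :=
  (.node 32 (.node 16 (.node 8 (.node 4 (.node 2 (.node 1 (.one ⟨230, 2, 9⟩) (.one ⟨14637, 0, 8⟩)) (.node 1 (.one ⟨16096, 1, 10⟩) (.one ⟨16540, 2, 7⟩))) (.node 2 (.node 1 (.one ⟨16541, 2, 10⟩) (.one ⟨1032, 2, 11⟩)) (.node 1 (.one ⟨697, 2, 8⟩) (.one ⟨414, 1, 9⟩)))) (.node 4 (.node 2 (.node 1 (.one ⟨7414, 2, 9⟩) (.one ⟨4065, 1, 8⟩)) (.node 1 (.one ⟨9354, 2, 8⟩) (.one ⟨10525, 2, 8⟩))) (.node 2 (.node 1 (.one ⟨14774, 2, 9⟩) (.one ⟨8716, 0, 10⟩)) (.node 1 (.one ⟨1625, 0, 9⟩) (.one ⟨15619, 2, 8⟩))))) (.node 8 (.node 4 (.node 2 (.node 1 (.one ⟨6646, 1, 5⟩) (.one ⟨7701, 1, 9⟩)) (.node 1 (.one ⟨11840, 1, 7⟩) (.one ⟨11915, 2, 10⟩))) (.node 2 (.node 1 (.one ⟨5093, 2, 10⟩) (.one ⟨13452, 1, 10⟩))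 (.node 1 (.one ⟨8883, 1, 8⟩) (.one ⟨4351, 2, 8⟩)))) (.node 4 (.node 2 (.node 1 (.one ⟨13800, 0, 7⟩) (.one ⟨2883, 0, 8⟩)) (.node 1 (.one ⟨10839, 1, 9⟩) (.one ⟨6219, 2, 7⟩))) (.node 2 (.node 1 (.one ⟨6197, 2, 10⟩) (.one ⟨1879, 1, 10⟩)) (.node 1 (.one ⟨7919, 2, 4⟩) (.one ⟨9686, 0, 8⟩)))))) (.node 16 (.node 8 (.node 4 (.node 2 (.node 1 (.one ⟨14647, 0, 7⟩) (.one ⟨14537, 2, 7⟩)) (.node 1 (.one ⟨14118, 0, 8⟩) (.one ⟨8748, 2, 8⟩))) (.node 2 (.node 1 (.one ⟨13906, 0, 7⟩) (.one ⟨4045, 1, 8⟩)) (.node 1 (.one ⟨15059, 0, 7⟩) (.one ⟨8227, 1, 8⟩)))) (.node 4 (.node 2 (.node 1 (.one ⟨6510, 1, 11⟩) (.one ⟨543, 2, 10⟩)) (.node 1 (.one ⟨11172, 0, 9⟩) (.one ⟨7797, 2, 9⟩))) (.node 2 (.node 1 (.one ⟨7468, 1, 8⟩) (.one ⟨1869, 1, 9⟩))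 (.node 1 (.one ⟨872, 2, 8⟩) (.one ⟨10665, 0, 8⟩))))) (.node 8 (.node 4 (.node 2 (.node 1 (.one ⟨8694, 1, 10⟩) (.one ⟨12555, 1, 9⟩)) (.node 1 (.one ⟨4199, 1, 7⟩) (.one ⟨822, 1, 8⟩))) (.node 2 (.node 1 (.one ⟨12513, 0, 9⟩) (.one ⟨12235, 2, 10⟩)) (.node 1 (.one ⟨10807, 0, 9⟩) (.one ⟨7333, 2, 8⟩)))) (.node 4 (.node 2 (.node 1 (.one ⟨15879, 2, 9⟩) (.one ⟨16886, 2, 10⟩)) (.node 1 (.one ⟨4215, 0, 8⟩) (.one ⟨5145, 2, 9⟩))) (.node 2 (.node 1 (.one ⟨1105, 0, 7⟩) (.one ⟨9347, 0, 9⟩)) (.node 1 (.one ⟨3602, 2, 10⟩) (.one ⟨6824, 2, 7⟩)))))))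
def par10_11_15 : Arr Par :=
  (.node 32 (.node 16 (.node 8 (.node 4 (.node 2 (.node 1 (.one ⟨14537, 1, 7⟩) (.one ⟨2924, 2, 9⟩)) (.node 1 (.one ⟨14645, 0, 10⟩) (.one ⟨5830, 1, 7⟩))) (.node 2 (.node 1 (.one ⟨1263, 2, 8⟩) (.one ⟨8180, 0, 7⟩)) (.node 1 (.one ⟨6094, 2, 8⟩) (.one ⟨16667, 2, 10⟩)))) (.node 4 (.node 2 (.node 1 (.one ⟨14207, 0, 10⟩) (.one ⟨93, 1, 10⟩)) (.node 1 (.one ⟨10552, 0, 7⟩) (.one ⟨3592, 2, 9⟩))) (.node 2 (.node 1 (.one ⟨15733, 0, 7⟩) (.one ⟨4265, 2, 9⟩)) (.node 1 (.one ⟨1343, 2, 11⟩) (.one ⟨98, 2, 7⟩))))) (.node 8 (.node 4 (.node 2 (.node 1 (.one ⟨4703, 1, 9⟩) (.one ⟨9961, 1, 9⟩)) (.node 1 (.one ⟨7448, 2, 7⟩) (.one ⟨16274, 0, 8⟩))) (.node 2 (.node 1 (.one ⟨6377, 0, 9⟩) (.one ⟨14051, 1, 9⟩)) (.node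 1 (.one ⟨7292, 1, 9⟩) (.one ⟨15173, 1, 9⟩)))) (.node 4 (.node 2 (.node 1 (.one ⟨6784, 2, 8⟩) (.one ⟨10806, 0, 9⟩)) (.node 1 (.one ⟨11191, 2, 10⟩) (.one ⟨11851, 2, 9⟩))) (.node 2 (.node 1 (.one ⟨14535, 0, 11⟩) (.one ⟨5164, 1, 10⟩)) (.node 1 (.one ⟨2100, 0, 7⟩) (.one ⟨16161, 0, 7⟩)))))) (.node 16 (.node 8 (.node 4 (.node 2 (.node 1 (.one ⟨2317, 2, 9⟩) (.one ⟨8681, 2, 7⟩)) (.node 1 (.one ⟨12132, 0, 8⟩) (.one ⟨12956, 2, 8⟩))) (.node 2 (.node 1 (.one ⟨7441, 1, 8⟩) (.one ⟨8810, 2, 9⟩)) (.node 1 (.one ⟨14522, 2, 8⟩) (.one ⟨4531, 2, 8⟩)))) (.node 4 (.node 2 (.node 1 (.one ⟨7957, 2, 9⟩) (.one ⟨4271, 1, 10⟩)) (.node 1 (.one ⟨1653, 2, 11⟩) (.one ⟨4307, 0, 7⟩))) (.node 2 (.node 1 (.one ⟨1639, 2, 9⟩) (.one ⟨4647, 2, 10⟩)) (.node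 1 (.one ⟨4047, 0, 6⟩) (.one ⟨7921, 1, 9⟩))))) (.node 8 (.node 4 (.node 2 (.node 1 (.one ⟨4104, 2, 11⟩) (.one ⟨10644, 1, 10⟩)) (.node 1 (.one ⟨16001, 1, 7⟩) (.one ⟨12731, 1, 7⟩))) (.node 2 (.node 1 (.one ⟨4023, 2, 8⟩) (.one ⟨7259, 1, 8⟩)) (.node 1 (.one ⟨4715, 1, 4⟩) (.one ⟨13177, 1, 6⟩)))) (.node 4 (.node 2 (.node 1 (.one ⟨12591, 0, 7⟩) (.one ⟨13535, 2, 8⟩)) (.node 1 (.one ⟨2126, 2, 6⟩) (.one ⟨13519, 0, 6⟩))) (.node 2 (.node 1 (.one ⟨8366, 2, 6⟩) (.one ⟨6003, 2, 9⟩)) (.node 1 (.one ⟨3501, 1, 9⟩) (.one ⟨8159, 0, 10⟩)))))))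
def par10_11 : Arr Par :=
  (.node 512 (.node 256 (.node 128 (.node 64 par10_11_0 par10_11_1) (.node 64 par10_11_2 par10_11_3)) (.node 128 (.node 64 par10_11_4 par10_11_5) (.node 64 par10_11_6 par10_11_7))) (.node 256 (.node 128 (.node 64 par10_11_8 par10_11_9) (.node 64 par10_11_10 par10_11_11)) (.node 128 (.node 64 par10_11_12 par10_11_13) (.node 64 par10_11_14 par10_11_15))))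
def par10_12_0 : Arr Par :=
  (.node 32 (.node 16 (.node 8 (.node 4 (.node 2 (.node 1 (.one ⟨2271, 2, 2⟩) (.one ⟨14772, 2, 7⟩)) (.node 1 (.one ⟨8266, 0, 8⟩) (.one ⟨13676, 2, 9⟩))) (.node 2 (.node 1 (.one ⟨4485, 0, 8⟩) (.one ⟨2303, 1, 10⟩)) (.node 1 (.one ⟨3266, 2, 5⟩) (.one ⟨12620, 2, 9⟩)))) (.node 4 (.node 2 (.node 1 (.one ⟨10737, 0, 9⟩) (.one ⟨2734, 2, 10⟩)) (.node 1 (.one ⟨3978, 2, 9⟩) (.one ⟨2764, 1, 7⟩))) (.node 2 (.node 1 (.one ⟨15133, 0, 8⟩) (.one ⟨12315, 0, 5⟩)) (.node 1 (.one ⟨4836, 1, 10⟩) (.one ⟨17141, 2, 9⟩))))) (.node 8 (.node 4 (.node 2 (.node 1 (.one ⟨11140, 2, 5⟩) (.one ⟨15520, 2, 8⟩)) (.node 1 (.one ⟨12650, 2, 8⟩) (.one ⟨6535, 2, 9⟩))) (.node 2 (.node 1 (.one ⟨3857, 2, 6⟩) (.one ⟨8219, 2, 9⟩)) (.node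 1 (.one ⟨688, 2, 9⟩) (.one ⟨10659, 0, 9⟩)))) (.node 4 (.node 2 (.node 1 (.one ⟨11124, 2, 6⟩) (.one ⟨2995, 2, 10⟩)) (.node 1 (.one ⟨11067, 2, 9⟩) (.one ⟨10033, 2, 4⟩))) (.node 2 (.node 1 (.one ⟨1977, 2, 7⟩) (.one ⟨10120, 2, 9⟩)) (.node 1 (.one ⟨15538, 1, 10⟩) (.one ⟨15979, 0, 9⟩)))))) (.node 16 (.node 8 (.node 4 (.node 2 (.node 1 (.one ⟨4050, 2, 8⟩) (.one ⟨8931, 0, 5⟩)) (.node 1 (.one ⟨1789, 2, 9⟩) (.one ⟨3878, 2, 4⟩))) (.node 2 (.node 1 (.one ⟨6332, 1, 6⟩) (.one ⟨4076, 1, 8⟩)) (.node 1 (.one ⟨3728, 2, 7⟩) (.one ⟨4207, 1, 7⟩)))) (.node 4 (.node 2 (.node 1 (.one ⟨5162, 1, 9⟩) (.one ⟨7720, 1, 7⟩)) (.node 1 (.one ⟨8561, 1, 5⟩) (.one ⟨6364, 2, 8⟩))) (.node 2 (.node 1 (.one ⟨5450, 2, 8⟩) (.one ⟨6537, 1, 8⟩)) (.node 1 (.one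 ⟨15550, 2, 10⟩) (.one ⟨14532, 0, 8⟩))))) (.node 8 (.node 4 (.node 2 (.node 1 (.one ⟨9666, 0, 9⟩) (.one ⟨6348, 2, 8⟩)) (.node 1 (.one ⟨4148, 2, 7⟩) (.one ⟨14714, 1, 8⟩))) (.node 2 (.node 1 (.one ⟨3377, 2, 9⟩) (.one ⟨16580, 1, 8⟩)) (.node 1 (.one ⟨12869, 2, 9⟩) (.one ⟨8121, 2, 9⟩)))) (.node 4 (.node 2 (.node 1 (.one ⟨7930, 2, 9⟩) (.one ⟨1549, 0, 7⟩)) (.node 1 (.one ⟨5437, 2, 10⟩) (.one ⟨11003, 1, 10⟩))) (.node 2 (.node 1 (.one ⟨13904, 0, 10⟩) (.one ⟨7450, 2, 9⟩)) (.node 1 (.one ⟨14515, 1, 6⟩) (.one ⟨3891, 1, 8⟩)))))))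
def par10_12_1 : Arr Par :=
  (.node 32 (.node 16 (.node 8 (.node 4 (.node 2 (.node 1 (.one ⟨15851, 2, 8⟩) (.one ⟨1210, 2, 10⟩)) (.node 1 (.one ⟨4792, 1, 10⟩) (.one ⟨4022, 1, 7⟩))) (.node 2 (.node 1 (.one ⟨5144, 2, 9⟩) (.one ⟨15676, 0, 8⟩)) (.node 1 (.one ⟨4673, 1, 11⟩) (.one ⟨4267, 0, 9⟩)))) (.node 4 (.node 2 (.node 1 (.one ⟨11771, 2, 5⟩) (.one ⟨2062, 0, 9⟩)) (.node 1 (.one ⟨5406, 1, 7⟩) (.one ⟨16124, 2, 11⟩))) (.node 2 (.node 1 (.one ⟨1601, 2, 9⟩) (.one ⟨9665, 0, 8⟩)) (.node 1 (.one ⟨7178, 2, 9⟩) (.one ⟨14528, 0, 6⟩))))) (.node 8 (.node 4 (.node 2 (.node 1 (.one ⟨11721, 1, 4⟩) (.one ⟨2556, 2, 6⟩)) (.node 1 (.one ⟨16053, 0, 9⟩) (.one ⟨198, 2, 9⟩))) (.node 2 (.node 1 (.one ⟨862, 2, 6⟩) (.one ⟨2555, 2, 9⟩)) (.node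 1 (.one ⟨1881, 0, 10⟩) (.one ⟨1156, 0, 9⟩)))) (.node 4 (.node 2 (.node 1 (.one ⟨897, 2, 9⟩) (.one ⟨12153, 0, 7⟩)) (.node 1 (.one ⟨10366, 1, 9⟩) (.one ⟨383, 2, 8⟩))) (.node 2 (.node 1 (.one ⟨1694, 2, 7⟩) (.one ⟨12166, 1, 9⟩)) (.node 1 (.one ⟨2065, 0, 10⟩) (.one ⟨742, 0, 7⟩)))))) (.node 16 (.node 8 (.node 4 (.node 2 (.node 1 (.one ⟨16031, 0, 10⟩) (.one ⟨2988, 2, 9⟩)) (.node 1 (.one ⟨374, 1, 5⟩) (.one ⟨11424, 2, 7⟩))) (.node 2 (.node 1 (.one ⟨12071, 0, 5⟩) (.one ⟨2291, 2, 8⟩)) (.node 1 (.one ⟨6988, 2, 8⟩) (.one ⟨1775, 2, 7⟩)))) (.node 4 (.node 2 (.node 1 (.one ⟨5217, 1, 10⟩) (.one ⟨12749, 0, 4⟩)) (.node 1 (.one ⟨14954, 2, 8⟩) (.one ⟨15118, 2, 10⟩))) (.node 2 (.node 1 (.one ⟨4809, 2, 11⟩) (.one ⟨6535, 0, 9⟩)) (.node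 1 (.one ⟨4369, 1, 10⟩) (.one ⟨6745, 0, 9⟩))))) (.node 8 (.node 4 (.node 2 (.node 1 (.one ⟨13278, 1, 6⟩) (.one ⟨4847, 1, 8⟩)) (.node 1 (.one ⟨4041, 2, 5⟩) (.one ⟨10596, 2, 9⟩))) (.node 2 (.node 1 (.one ⟨6732, 0, 8⟩) (.one ⟨3389, 1, 8⟩)) (.node 1 (.one ⟨15667, 2, 10⟩) (.one ⟨9814, 2, 9⟩)))) (.node 4 (.node 2 (.node 1 (.one ⟨12660, 2, 9⟩) (.one ⟨12486, 1, 7⟩)) (.node 1 (.one ⟨6502, 1, 8⟩) (.one ⟨13344, 1, 7⟩))) (.node 2 (.node 1 (.one ⟨7264, 1, 6⟩) (.one ⟨11082, 2, 8⟩)) (.node 1 (.one ⟨11706, 2, 8⟩) (.one ⟨5271, 0, 8⟩)))))))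
def par10_12_2 : Arr Par :=
  (.node 32 (.node 16 (.node 8 (.node 4 (.node 2 (.node 1 (.one ⟨8351, 2, 9⟩) (.one ⟨8577, 0, 8⟩)) (.node 1 (.one ⟨11086, 2, 8⟩) (.one ⟨17059, 2, 8⟩))) (.node 2 (.node 1 (.one ⟨5272, 0, 5⟩) (.one ⟨5275, 0, 7⟩)) (.node 1 (.one ⟨3114, 2, 8⟩) (.one ⟨6013, 1, 7⟩)))) (.node 4 (.node 2 (.node 1 (.one ⟨12721, 2, 6⟩) (.one ⟨11375, 2, 4⟩)) (.node 1 (.one ⟨16434, 0, 9⟩) (.one ⟨9161, 2, 8⟩))) (.node 2 (.node 1 (.one ⟨4080, 2, 9⟩) (.one ⟨4149, 1, 5⟩)) (.node 1 (.one ⟨15018, 0, 7⟩) (.one ⟨10753, 2, 10⟩))))) (.node 8 (.node 4 (.node 2 (.node 1 (.one ⟨12148, 1, 5⟩) (.one ⟨12239, 1, 8⟩)) (.node 1 (.one ⟨7058, 1, 7⟩) (.one ⟨14519, 2, 6⟩))) (.node 2 (.node 1 (.one ⟨5140, 1, 8⟩) (.one ⟨1982, 2, 5⟩)) (.node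 1 (.one ⟨9967, 0, 8⟩) (.one ⟨6945, 2, 10⟩)))) (.node 4 (.node 2 (.node 1 (.one ⟨6937, 1, 10⟩) (.one ⟨3002, 2, 9⟩)) (.node 1 (.one ⟨9576, 2, 9⟩) (.one ⟨14908, 2, 10⟩))) (.node 2 (.node 1 (.one ⟨5795, 2, 9⟩) (.one ⟨16295, 1, 8⟩)) (.node 1 (.one ⟨959, 2, 10⟩) (.one ⟨15307, 2, 7⟩)))))) (.node 16 (.node 8 (.node 4 (.node 2 (.node 1 (.one ⟨4344, 2, 10⟩) (.one ⟨7228, 1, 7⟩)) (.node 1 (.one ⟨27, 0, 9⟩) (.one ⟨4311, 1, 8⟩))) (.node 2 (.node 1 (.one ⟨16644, 2, 9⟩) (.one ⟨12482, 0, 9⟩)) (.node 1 (.one ⟨11444, 1, 9⟩) (.one ⟨2977, 1, 8⟩)))) (.node 4 (.node 2 (.node 1 (.one ⟨4310, 1, 10⟩) (.one ⟨4107, 2, 8⟩)) (.node 1 (.one ⟨12648, 2, 6⟩) (.one ⟨213, 1, 6⟩))) (.node 2 (.node 1 (.one ⟨4558, 0, 9⟩) (.one ⟨13690, 2, 5⟩)) (.node 1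 (.one ⟨7397, 2, 7⟩) (.one ⟨4619, 2, 9⟩))))) (.node 8 (.node 4 (.node 2 (.node 1 (.one ⟨12062, 0, 8⟩) (.one ⟨7012, 2, 8⟩)) (.node 1 (.one ⟨3517, 1, 10⟩) (.one ⟨12032, 0, 9⟩))) (.node 2 (.node 1 (.one ⟨12393, 1, 5⟩) (.one ⟨6147, 1, 10⟩)) (.node 1 (.one ⟨3580, 0, 8⟩) (.one ⟨16276, 2, 9⟩)))) (.node 4 (.node 2 (.node 1 (.one ⟨2270, 1, 8⟩) (.one ⟨3866, 0, 7⟩)) (.node 1 (.one ⟨11726, 0, 8⟩) (.one ⟨14647, 2, 7⟩))) (.node 2 (.node 1 (.one ⟨4420, 1, 5⟩) (.one ⟨16836, 2, 8⟩)) (.node 1 (.one ⟨13414, 2, 9⟩) (.one ⟨8143, 1, 10⟩)))))))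
def par10_12_3 : Arr Par :=
  (.node 32 (.node 16 (.node 8 (.node 4 (.node 2 (.node 1 (.one ⟨16952, 2, 10⟩) (.one ⟨8368, 0, 8⟩)) (.node 1 (.one ⟨9753, 0, 8⟩) (.one ⟨4313, 1, 9⟩))) (.node 2 (.node 1 (.one ⟨16954, 2, 7⟩) (.one ⟨622, 1, 10⟩)) (.node 1 (.one ⟨16957, 2, 6⟩) (.one ⟨8921, 2, 8⟩)))) (.node 4 (.node 2 (.node 1 (.one ⟨13870, 2, 8⟩) (.one ⟨191, 0, 8⟩)) (.node 1 (.one ⟨6957, 2, 8⟩) (.one ⟨14661, 0, 8⟩))) (.node 2 (.node 1 (.one ⟨11061, 2, 9⟩) (.one ⟨4401, 1, 7⟩)) (.node 1 (.one ⟨489, 2, 9⟩) (.one ⟨4643, 0, 8⟩))))) (.node 8 (.node 4 (.node 2 (.node 1 (.one ⟨3591, 2, 9⟩) (.one ⟨4462, 1, 7⟩)) (.node 1 (.one ⟨5667, 2, 10⟩) (.one ⟨3488, 2, 9⟩))) (.node 2 (.node 1 (.one ⟨6558, 2, 9⟩) (.one ⟨13153, 0, 10⟩)) (.node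 1 (.one ⟨4470, 2, 8⟩) (.one ⟨4859, 0, 7⟩)))) (.node 4 (.node 2 (.node 1 (.one ⟨9776, 0, 6⟩) (.one ⟨16674, 2, 10⟩)) (.node 1 (.one ⟨9517, 1, 7⟩) (.one ⟨12345, 1, 8⟩))) (.node 2 (.node 1 (.one ⟨5146, 2, 8⟩) (.one ⟨2682, 1, 11⟩)) (.node 1 (.one ⟨14293, 1, 10⟩) (.one ⟨3972, 1, 10⟩)))))) (.node 16 (.node 8 (.node 4 (.node 2 (.node 1 (.one ⟨6605, 0, 7⟩) (.one ⟨1130, 2, 8⟩)) (.node 1 (.one ⟨5683, 0, 5⟩) (.one ⟨1966, 1, 9⟩))) (.node 2 (.node 1 (.one ⟨12671, 2, 9⟩) (.one ⟨12270, 1, 7⟩)) (.node 1 (.one ⟨14429, 0, 8⟩) (.one ⟨16231, 1, 10⟩)))) (.node 4 (.node 2 (.node 1 (.one ⟨12461, 2, 6⟩) (.one ⟨10663, 0, 4⟩)) (.node 1 (.one ⟨1532, 0, 9⟩) (.one ⟨6244, 1, 10⟩))) (.node 2 (.node 1 (.one ⟨5340, 2, 9⟩) (.one ⟨5326, 2, 10⟩)) (.node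 1 (.one ⟨5416, 2, 9⟩) (.one ⟨3751, 2, 8⟩))))) (.node 8 (.node 4 (.node 2 (.node 1 (.one ⟨925, 2, 6⟩) (.one ⟨6650, 2, 9⟩)) (.node 1 (.one ⟨8614, 2, 8⟩) (.one ⟨10296, 2, 9⟩))) (.node 2 (.node 1 (.one ⟨12445, 2, 9⟩) (.one ⟨17121, 2, 6⟩)) (.node 1 (.one ⟨12901, 1, 10⟩) (.one ⟨4325, 1, 8⟩)))) (.node 4 (.node 2 (.node 1 (.one ⟨11138, 1, 9⟩) (.one ⟨11146, 0, 6⟩)) (.node 1 (.one ⟨9317, 2, 10⟩) (.one ⟨12886, 2, 9⟩))) (.node 2 (.node 1 (.one ⟨2900, 1, 9⟩) (.one ⟨12636, 0, 11⟩)) (.node 1 (.one ⟨14897, 2, 6⟩) (.one ⟨11796, 0, 6⟩)))))))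
def par10_12_4 : Arr Par :=
  (.node 32 (.node 16 (.node 8 (.node 4 (.node 2 (.node 1 (.one ⟨11476, 2, 6⟩) (.one ⟨4617, 2, 7⟩)) (.node 1 (.one ⟨10875, 2, 10⟩) (.one ⟨2283, 2, 6⟩))) (.node 2 (.node 1 (.one ⟨4779, 0, 11⟩) (.one ⟨1931, 2, 7⟩)) (.node 1 (.one ⟨11930, 2, 7⟩) (.one ⟨15718, 2, 7⟩)))) (.node 4 (.node 2 (.node 1 (.one ⟨759, 2, 10⟩) (.one ⟨903, 1, 10⟩)) (.node 1 (.one ⟨15711, 2, 6⟩) (.one ⟨721, 2, 8⟩))) (.node 2 (.node 1 (.one ⟨10057, 0, 9⟩) (.one ⟨15672, 0, 9⟩)) (.node 1 (.one ⟨7988, 0, 8⟩) (.one ⟨7902, 2, 7⟩))))) (.node 8 (.node 4 (.node 2 (.node 1 (.one ⟨2722, 0, 8⟩) (.one ⟨4159, 1, 10⟩)) (.node 1 (.one ⟨5143, 2, 6⟩) (.one ⟨2827, 0, 7⟩))) (.node 2 (.node 1 (.one ⟨14217, 1, 10⟩) (.one ⟨6874, 2, 7⟩)) (.node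 1 (.one ⟨14262, 0, 9⟩) (.one ⟨14532, 2, 8⟩)))) (.node 4 (.node 2 (.node 1 (.one ⟨1350, 0, 5⟩) (.one ⟨7612, 2, 7⟩)) (.node 1 (.one ⟨1111, 1, 8⟩) (.one ⟨6290, 1, 10⟩))) (.node 2 (.node 1 (.one ⟨12305, 2, 9⟩) (.one ⟨2750, 0, 9⟩)) (.node 1 (.one ⟨10540, 1, 8⟩) (.one ⟨2765, 1, 8⟩)))))) (.node 16 (.node 8 (.node 4 (.node 2 (.node 1 (.one ⟨6915, 0, 8⟩) (.one ⟨10601, 2, 9⟩)) (.node 1 (.one ⟨2882, 1, 7⟩) (.one ⟨9885, 2, 10⟩))) (.node 2 (.node 1 (.one ⟨10311, 2, 9⟩) (.one ⟨7867, 0, 9⟩)) (.node 1 (.one ⟨1977, 1, 7⟩) (.one ⟨15267, 2, 9⟩)))) (.node 4 (.node 2 (.node 1 (.one ⟨10939, 2, 7⟩) (.one ⟨15084, 0, 5⟩)) (.node 1 (.one ⟨11281, 0, 7⟩) (.one ⟨15362, 2, 9⟩))) (.node 2 (.node 1 (.one ⟨15080, 0, 4⟩) (.one ⟨15086, 0, 7⟩)) (.node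 1 (.one ⟨11282, 0, 7⟩) (.one ⟨6038, 2, 6⟩))))) (.node 8 (.node 4 (.node 2 (.node 1 (.one ⟨16902, 0, 8⟩) (.one ⟨12707, 1, 5⟩)) (.node 1 (.one ⟨7379, 2, 7⟩) (.one ⟨12001, 0, 9⟩))) (.node 2 (.node 1 (.one ⟨745, 1, 5⟩) (.one ⟨12703, 1, 4⟩)) (.node 1 (.one ⟨3455, 2, 10⟩) (.one ⟨2279, 2, 9⟩)))) (.node 4 (.node 2 (.node 1 (.one ⟨16357, 0, 9⟩) (.one ⟨11910, 1, 7⟩)) (.node 1 (.one ⟨6800, 1, 8⟩) (.one ⟨7999, 0, 9⟩))) (.node 2 (.node 1 (.one ⟨12916, 1, 8⟩) (.one ⟨7709, 1, 9⟩)) (.node 1 (.one ⟨11041, 1, 6⟩) (.one ⟨9392, 2, 9⟩)))))))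
def par10_12_5 : Arr Par :=
  (.node 32 (.node 16 (.node 8 (.node 4 (.node 2 (.node 1 (.one ⟨334, 1, 8⟩) (.one ⟨6241, 2, 9⟩)) (.node 1 (.one ⟨7376, 2, 8⟩) (.one ⟨3407, 0, 11⟩))) (.node 2 (.node 1 (.one ⟨123, 0, 9⟩) (.one ⟨6170, 0, 10⟩)) (.node 1 (.one ⟨15961, 2, 8⟩) (.one ⟨6517, 0, 8⟩)))) (.node 4 (.node 2 (.node 1 (.one ⟨7602, 1, 6⟩) (.one ⟨5260, 2, 9⟩)) (.node 1 (.one ⟨12427, 2, 9⟩) (.one ⟨16923, 0, 9⟩))) (.node 2 (.node 1 (.one ⟨8250, 0, 8⟩) (.one ⟨5845, 0, 9⟩)) (.node 1 (.one ⟨14213, 2, 10⟩) (.one ⟨6005, 2, 8⟩))))) (.node 8 (.node 4 (.node 2 (.node 1 (.one ⟨16965, 1, 10⟩) (.one ⟨11192, 1, 8⟩)) (.node 1 (.one ⟨6302, 2, 8⟩) (.one ⟨14755, 0, 9⟩))) (.node 2 (.node 1 (.one ⟨4125, 2, 8⟩) (.one ⟨3829, 2, 7⟩)) (.node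 1 (.one ⟨4009, 2, 8⟩) (.one ⟨5724, 2, 10⟩)))) (.node 4 (.node 2 (.node 1 (.one ⟨4649, 1, 10⟩) (.one ⟨15923, 0, 10⟩)) (.node 1 (.one ⟨9639, 1, 8⟩) (.one ⟨5578, 2, 6⟩))) (.node 2 (.node 1 (.one ⟨4000, 0, 10⟩) (.one ⟨12837, 0, 9⟩)) (.node 1 (.one ⟨5311, 1, 7⟩) (.one ⟨8157, 2, 9⟩)))))) (.node 16 (.node 8 (.node 4 (.node 2 (.node 1 (.one ⟨11387, 0, 10⟩) (.one ⟨7167, 2, 10⟩)) (.node 1 (.one ⟨9513, 2, 7⟩) (.one ⟨11977, 2, 8⟩))) (.node 2 (.node 1 (.one ⟨16589, 1, 11⟩) (.one ⟨11371, 2, 9⟩)) (.node 1 (.one ⟨3084, 1, 9⟩) (.one ⟨3876, 2, 9⟩)))) (.node 4 (.node 2 (.node 1 (.one ⟨14351, 1, 5⟩) (.one ⟨7906, 2, 8⟩)) (.node 1 (.one ⟨5161, 0, 7⟩) (.one ⟨11524, 2, 7⟩))) (.node 2 (.node 1 (.one ⟨14126, 2, 8⟩) (.one ⟨8819, 0, 10⟩)) (.node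 1 (.one ⟨6013, 0, 7⟩) (.one ⟨1366, 0, 10⟩))))) (.node 8 (.node 4 (.node 2 (.node 1 (.one ⟨16689, 0, 9⟩) (.one ⟨14556, 2, 9⟩)) (.node 1 (.one ⟨15600, 0, 6⟩) (.one ⟨3191, 1, 9⟩))) (.node 2 (.node 1 (.one ⟨9030, 2, 8⟩) (.one ⟨3399, 2, 9⟩)) (.node 1 (.one ⟨14885, 2, 9⟩) (.one ⟨14373, 2, 10⟩)))) (.node 4 (.node 2 (.node 1 (.one ⟨376, 2, 9⟩) (.one ⟨8838, 1, 7⟩)) (.node 1 (.one ⟨14364, 1, 10⟩) (.one ⟨1038, 2, 8⟩))) (.node 2 (.node 1 (.one ⟨14370, 2, 9⟩) (.one ⟨4698, 0, 7⟩)) (.node 1 (.one ⟨6270, 1, 9⟩) (.one ⟨4945, 2, 8⟩)))))))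
def par10_12_6 : Arr Par :=
  (.node 32 (.node 16 (.node 8 (.node 4 (.node 2 (.node 1 (.one ⟨1184, 0, 10⟩) (.one ⟨1736, 2, 9⟩)) (.node 1 (.one ⟨3912, 1, 8⟩) (.one ⟨15579, 1, 6⟩))) (.node 2 (.node 1 (.one ⟨9605, 0, 2⟩) (.one ⟨1814, 2, 7⟩)) (.node 1 (.one ⟨5294, 0, 7⟩) (.one ⟨14211, 2, 5⟩)))) (.node 4 (.node 2 (.node 1 (.one ⟨4235, 0, 3⟩) (.one ⟨15846, 2, 11⟩)) (.node 1 (.one ⟨4537, 1, 9⟩) (.one ⟨312, 2, 6⟩))) (.node 2 (.node 1 (.one ⟨2978, 2, 10⟩) (.one ⟨3700, 2, 8⟩)) (.node 1 (.one ⟨13403, 1, 6⟩) (.one ⟨13189, 2, 11⟩))))) (.node 8 (.node 4 (.node 2 (.node 1 (.one ⟨4111, 2, 10⟩) (.one ⟨11056, 0, 9⟩)) (.node 1 (.one ⟨1536, 2, 8⟩) (.one ⟨4719, 1, 9⟩))) (.node 2 (.node 1 (.one ⟨11787, 0, 7⟩) (.one ⟨9706, 1, 5⟩)) (.node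 1 (.one ⟨4672, 2, 9⟩) (.one ⟨14353, 2, 7⟩)))) (.node 4 (.node 2 (.node 1 (.one ⟨8597, 1, 7⟩) (.one ⟨16744, 1, 7⟩)) (.node 1 (.one ⟨16827, 2, 9⟩) (.one ⟨9097, 2, 9⟩))) (.node 2 (.node 1 (.one ⟨3785, 1, 9⟩) (.one ⟨14714, 0, 8⟩)) (.node 1 (.one ⟨6555, 2, 9⟩) (.one ⟨1670, 2, 3⟩)))))) (.node 16 (.node 8 (.node 4 (.node 2 (.node 1 (.one ⟨12594, 1, 8⟩) (.one ⟨14762, 2, 10⟩)) (.node 1 (.one ⟨299, 1, 9⟩) (.one ⟨10334, 2, 4⟩))) (.node 2 (.node 1 (.one ⟨14669, 2, 10⟩) (.one ⟨7194, 2, 7⟩)) (.node 1 (.one ⟨195, 2, 8⟩) (.one ⟨14361, 0, 8⟩)))) (.node 4 (.node 2 (.node 1 (.one ⟨8059, 2, 6⟩) (.one ⟨9891, 1, 9⟩)) (.node 1 (.one ⟨3796, 2, 9⟩) (.one ⟨1175, 0, 7⟩))) (.node 2 (.node 1 (.one ⟨12707, 0, 5⟩) (.one ⟨6700, 1, 6⟩)) (.node 1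 (.one ⟨12297, 2, 11⟩) (.one ⟨16157, 1, 9⟩))))) (.node 8 (.node 4 (.node 2 (.node 1 (.one ⟨8604, 2, 9⟩) (.one ⟨7675, 0, 5⟩)) (.node 1 (.one ⟨12741, 0, 8⟩) (.one ⟨1852, 0, 9⟩))) (.node 2 (.node 1 (.one ⟨11913, 2, 5⟩) (.one ⟨12223, 1, 8⟩)) (.node 1 (.one ⟨7989, 1, 10⟩) (.one ⟨13447, 2, 8⟩)))) (.node 4 (.node 2 (.node 1 (.one ⟨7228, 2, 7⟩) (.one ⟨9741, 2, 7⟩)) (.node 1 (.one ⟨12420, 1, 6⟩) (.one ⟨7580, 2, 6⟩))) (.node 2 (.node 1 (.one ⟨13167, 2, 9⟩) (.one ⟨7703, 2, 11⟩)) (.node 1 (.one ⟨6019, 0, 7⟩) (.one ⟨11844, 2, 8⟩)))))))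
def par10_12_7 : Arr Par :=
  (.node 32 (.node 16 (.node 8 (.node 4 (.node 2 (.node 1 (.one ⟨8508, 1, 7⟩) (.one ⟨11223, 1, 6⟩)) (.node 1 (.one ⟨957, 0, 9⟩) (.one ⟨11605, 2, 9⟩))) (.node 2 (.node 1 (.one ⟨7569, 1, 7⟩) (.one ⟨7671, 2, 7⟩)) (.node 1 (.one ⟨9164, 0, 7⟩) (.one ⟨15573, 0, 8⟩)))) (.node 4 (.node 2 (.node 1 (.one ⟨12942, 2, 7⟩) (.one ⟨12033, 1, 10⟩)) (.node 1 (.one ⟨10942, 2, 9⟩) (.one ⟨11965, 0, 3⟩))) (.node 2 (.node 1 (.one ⟨1315, 0, 8⟩) (.one ⟨6483, 2, 3⟩)) (.node 1 (.one ⟨11318, 2, 8⟩) (.one ⟨9619, 2, 6⟩))))) (.node 8 (.node 4 (.node 2 (.node 1 (.one ⟨1682, 0, 8⟩) (.one ⟨15063, 1, 6⟩)) (.node 1 (.one ⟨11205, 0, 8⟩) (.one ⟨4369, 0, 10⟩))) (.node 2 (.node 1 (.one ⟨10721, 2, 7⟩) (.one ⟨12995, 0, 3⟩)) (.node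 1 (.one ⟨11101, 2, 9⟩) (.one ⟨4286, 1, 10⟩)))) (.node 4 (.node 2 (.node 1 (.one ⟨3616, 1, 9⟩) (.one ⟨14540, 2, 7⟩)) (.node 1 (.one ⟨1707, 0, 3⟩) (.one ⟨14362, 2, 9⟩))) (.node 2 (.node 1 (.one ⟨15323, 0, 8⟩) (.one ⟨15792, 2, 8⟩)) (.node 1 (.one ⟨15235, 0, 8⟩) (.one ⟨6005, 1, 8⟩)))))) (.node 16 (.node 8 (.node 4 (.node 2 (.node 1 (.one ⟨16634, 1, 7⟩) (.one ⟨3213, 1, 9⟩)) (.node 1 (.one ⟨11981, 1, 7⟩) (.one ⟨4270, 2, 10⟩))) (.node 2 (.node 1 (.one ⟨4463, 2, 7⟩) (.one ⟨7530, 1, 9⟩)) (.node 1 (.one ⟨9926, 2, 7⟩) (.one ⟨2024, 0, 10⟩)))) (.node 4 (.node 2 (.node 1 (.one ⟨2692, 2, 9⟩) (.one ⟨11021, 0, 8⟩)) (.node 1 (.one ⟨10882, 0, 9⟩) (.one ⟨15550, 1, 10⟩))) (.node 2 (.node 1 (.one ⟨8318, 1, 7⟩) (.one ⟨4370, 0, 9⟩)) (.node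 1 (.one ⟨4116, 0, 8⟩) (.one ⟨926, 2, 9⟩))))) (.node 8 (.node 4 (.node 2 (.node 1 (.one ⟨15541, 2, 7⟩) (.one ⟨924, 2, 10⟩)) (.node 1 (.one ⟨15720, 1, 10⟩) (.one ⟨16902, 1, 8⟩))) (.node 2 (.node 1 (.one ⟨15539, 2, 9⟩) (.one ⟨3741, 1, 7⟩)) (.node 1 (.one ⟨9752, 0, 6⟩) (.one ⟨5071, 2, 9⟩)))) (.node 4 (.node 2 (.node 1 (.one ⟨2474, 2, 9⟩) (.one ⟨4626, 0, 10⟩)) (.node 1 (.one ⟨8396, 2, 8⟩) (.one ⟨6262, 2, 8⟩))) (.node 2 (.node 1 (.one ⟨8942, 2, 11⟩) (.one ⟨4793, 2, 7⟩)) (.node 1 (.one ⟨1215, 2, 8⟩) (.one ⟨16716, 0, 8⟩)))))))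
def par10_12_8 : Arr Par :=
  (.node 32 (.node 16 (.node 8 (.node 4 (.node 2 (.node 1 (.one ⟨7620, 0, 8⟩) (.one ⟨7596, 0, 7⟩)) (.node 1 (.one ⟨14508, 0, 8⟩) (.one ⟨6977, 0, 3⟩))) (.node 2 (.node 1 (.one ⟨13636, 0, 9⟩) (.one ⟨17196, 0, 9⟩)) (.node 1 (.one ⟨14706, 1, 8⟩) (.one ⟨11746, 1, 8⟩)))) (.node 4 (.node 2 (.node 1 (.one ⟨10553, 1, 10⟩) (.one ⟨16333, 0, 11⟩)) (.node 1 (.one ⟨4202, 2, 7⟩) (.one ⟨15466, 2, 8⟩))) (.node 2 (.node 1 (.one ⟨8671, 2, 9⟩) (.one ⟨8857, 2, 7⟩)) (.node 1 (.one ⟨6650, 1, 9⟩) (.one ⟨5588, 2, 9⟩))))) (.node 8 (.node 4 (.node 2 (.node 1 (.one ⟨11078, 2, 10⟩) (.one ⟨6978, 2, 11⟩)) (.node 1 (.one ⟨9542, 2, 7⟩) (.one ⟨3794, 2, 9⟩))) (.node 2 (.node 1 (.one ⟨16482, 2, 8⟩) (.one ⟨4599, 2, 8⟩)) (.node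 1 (.one ⟨4833, 0, 8⟩) (.one ⟨3882, 0, 7⟩)))) (.node 4 (.node 2 (.node 1 (.one ⟨704, 1, 10⟩) (.one ⟨7616, 0, 10⟩)) (.node 1 (.one ⟨3286, 2, 6⟩) (.one ⟨12834, 1, 10⟩))) (.node 2 (.node 1 (.one ⟨8360, 0, 9⟩) (.one ⟨14504, 0, 9⟩)) (.node 1 (.one ⟨6394, 1, 4⟩) (.one ⟨1014, 2, 8⟩)))))) (.node 16 (.node 8 (.node 4 (.node 2 (.node 1 (.one ⟨162, 2, 9⟩) (.one ⟨14783, 2, 9⟩)) (.node 1 (.one ⟨14790, 2, 9⟩) (.one ⟨14786, 2, 4⟩))) (.node 2 (.node 1 (.one ⟨9666, 1, 9⟩) (.one ⟨616, 2, 8⟩)) (.node 1 (.one ⟨217, 1, 7⟩) (.one ⟨2479, 2, 9⟩)))) (.node 4 (.node 2 (.node 1 (.one ⟨2619, 1, 9⟩) (.one ⟨12535, 2, 9⟩)) (.node 1 (.one ⟨13492, 1, 9⟩) (.one ⟨9323, 0, 10⟩))) (.node 2 (.node 1 (.one ⟨1668, 1, 8⟩) (.one ⟨2173, 2, 8⟩)) (.node 1 (.one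 ⟨10894, 2, 9⟩) (.one ⟨9393, 2, 10⟩))))) (.node 8 (.node 4 (.node 2 (.node 1 (.one ⟨8693, 2, 8⟩) (.one ⟨3186, 0, 8⟩)) (.node 1 (.one ⟨12453, 2, 10⟩) (.one ⟨14954, 0, 8⟩))) (.node 2 (.node 1 (.one ⟨1963, 0, 8⟩) (.one ⟨11724, 1, 6⟩)) (.node 1 (.one ⟨2068, 0, 10⟩) (.one ⟨8042, 2, 11⟩)))) (.node 4 (.node 2 (.node 1 (.one ⟨4912, 0, 9⟩) (.one ⟨12828, 0, 10⟩)) (.node 1 (.one ⟨11359, 2, 10⟩) (.one ⟨7130, 1, 9⟩))) (.node 2 (.node 1 (.one ⟨8666, 1, 7⟩) (.one ⟨7625, 0, 9⟩)) (.node 1 (.one ⟨13882, 2, 10⟩) (.one ⟨11603, 0, 8⟩)))))))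
def par10_12_9 : Arr Par :=
  (.node 32 (.node 16 (.node 8 (.node 4 (.node 2 (.node 1 (.one ⟨4820, 1, 11⟩) (.one ⟨9618, 2, 9⟩)) (.node 1 (.one ⟨7386, 0, 9⟩) (.one ⟨4274, 1, 10⟩))) (.node 2 (.node 1 (.one ⟨5223, 1, 10⟩) (.one ⟨16836, 0, 8⟩)) (.node 1 (.one ⟨2178, 2, 8⟩) (.one ⟨10710, 0, 9⟩)))) (.node 4 (.node 2 (.node 1 (.one ⟨6098, 2, 6⟩) (.one ⟨732, 1, 7⟩)) (.node 1 (.one ⟨5771, 1, 9⟩) (.one ⟨3264, 0, 2⟩))) (.node 2 (.node 1 (.one ⟨4946, 2, 9⟩) (.one ⟨8679, 1, 4⟩)) (.node 1 (.one ⟨8529, 2, 7⟩) (.one ⟨14561, 2, 7⟩))))) (.node 8 (.node 4 (.node 2 (.node 1 (.one ⟨12928, 0, 7⟩) (.one ⟨9724, 1, 11⟩)) (.node 1 (.one ⟨16023, 0, 10⟩) (.one ⟨3102, 2, 8⟩))) (.node 2 (.node 1 (.one ⟨8534, 2, 10⟩) (.one ⟨767, 1, 11⟩)) (.node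 1 (.one ⟨4437, 1, 8⟩) (.one ⟨7648, 0, 8⟩)))) (.node 4 (.node 2 (.node 1 (.one ⟨3237, 2, 8⟩) (.one ⟨5830, 2, 7⟩)) (.node 1 (.one ⟨16860, 0, 8⟩) (.one ⟨2425, 0, 7⟩))) (.node 2 (.node 1 (.one ⟨7467, 0, 9⟩) (.one ⟨4405, 2, 8⟩)) (.node 1 (.one ⟨10809, 0, 7⟩) (.one ⟨13015, 1, 7⟩)))))) (.node 16 (.node 8 (.node 4 (.node 2 (.node 1 (.one ⟨1481, 2, 8⟩) (.one ⟨6118, 2, 7⟩)) (.node 1 (.one ⟨16881, 0, 6⟩) (.one ⟨15311, 1, 9⟩))) (.node 2 (.node 1 (.one ⟨7625, 2, 9⟩) (.one ⟨3803, 2, 9⟩)) (.node 1 (.one ⟨8186, 0, 6⟩) (.one ⟨6463, 2, 7⟩)))) (.node 4 (.node 2 (.node 1 (.one ⟨17116, 2, 6⟩) (.one ⟨8468, 2, 9⟩)) (.node 1 (.one ⟨1798, 1, 11⟩) (.one ⟨16426, 0, 10⟩))) (.node 2 (.node 1 (.one ⟨715, 2, 6⟩) (.one ⟨10565, 2, 6⟩)) (.node 1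 (.one ⟨5399, 2, 9⟩) (.one ⟨2670, 2, 6⟩))))) (.node 8 (.node 4 (.node 2 (.node 1 (.one ⟨9587, 2, 9⟩) (.one ⟨2444, 0, 8⟩)) (.node 1 (.one ⟨9894, 2, 7⟩) (.one ⟨2141, 2, 9⟩))) (.node 2 (.node 1 (.one ⟨10373, 2, 7⟩) (.one ⟨12276, 0, 9⟩)) (.node 1 (.one ⟨11900, 0, 8⟩) (.one ⟨2299, 0, 7⟩)))) (.node 4 (.node 2 (.node 1 (.one ⟨10994, 2, 7⟩) (.one ⟨6502, 2, 8⟩)) (.node 1 (.one ⟨4235, 1, 3⟩) (.one ⟨5894, 2, 7⟩))) (.node 2 (.node 1 (.one ⟨4120, 1, 10⟩) (.one ⟨8718, 1, 8⟩)) (.node 1 (.one ⟨11361, 2, 9⟩) (.one ⟨9721, 1, 8⟩)))))))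
def par10_12_10 : Arr Par :=
  (.node 32 (.node 16 (.node 8 (.node 4 (.node 2 (.node 1 (.one ⟨5877, 0, 6⟩) (.one ⟨2659, 2, 8⟩)) (.node 1 (.one ⟨12452, 1, 10⟩) (.one ⟨16488, 0, 8⟩))) (.node 2 (.node 1 (.one ⟨168, 1, 9⟩) (.one ⟨4202, 1, 7⟩)) (.node 1 (.one ⟨14999, 2, 9⟩) (.one ⟨11012, 0, 10⟩)))) (.node 4 (.node 2 (.node 1 (.one ⟨15884, 2, 10⟩) (.one ⟨1498, 0, 8⟩)) (.node 1 (.one ⟨3912, 0, 8⟩) (.one ⟨12614, 2, 9⟩))) (.node 2 (.node 1 (.one ⟨9786, 2, 5⟩) (.one ⟨10890, 0, 9⟩)) (.node 1 (.one ⟨13328, 0, 6⟩) (.one ⟨2488, 0, 9⟩))))) (.node 8 (.node 4 (.node 2 (.node 1 (.one ⟨6885, 0, 9⟩) (.one ⟨15564, 0, 6⟩)) (.node 1 (.one ⟨9977, 0, 7⟩) (.one ⟨12903, 1, 8⟩))) (.node 2 (.node 1 (.one ⟨10149, 2, 9⟩) (.one ⟨15388, 0, 10⟩))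 (.node 1 (.one ⟨6732, 1, 8⟩) (.one ⟨10070, 1, 6⟩)))) (.node 4 (.node 2 (.node 1 (.one ⟨7061, 2, 6⟩) (.one ⟨14619, 0, 7⟩)) (.node 1 (.one ⟨15117, 2, 9⟩) (.one ⟨16539, 1, 5⟩))) (.node 2 (.node 1 (.one ⟨7036, 2, 7⟩) (.one ⟨8745, 1, 7⟩)) (.node 1 (.one ⟨15141, 2, 8⟩) (.one ⟨4297, 2, 8⟩)))))) (.node 16 (.node 8 (.node 4 (.node 2 (.node 1 (.one ⟨4155, 1, 10⟩) (.one ⟨10450, 0, 9⟩)) (.node 1 (.one ⟨14026, 0, 8⟩) (.one ⟨10448, 0, 7⟩))) (.node 2 (.node 1 (.one ⟨3089, 2, 7⟩) (.one ⟨95, 2, 7⟩)) (.node 1 (.one ⟨10454, 0, 8⟩) (.one ⟨2777, 2, 7⟩)))) (.node 4 (.node 2 (.node 1 (.one ⟨16136, 2, 8⟩) (.one ⟨6621, 0, 7⟩)) (.node 1 (.one ⟨13071, 1, 9⟩) (.one ⟨7389, 2, 11⟩))) (.node 2 (.node 1 (.one ⟨14944, 1, 10⟩) (.one ⟨15223, 0, 8⟩))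 (.node 1 (.one ⟨7767, 1, 9⟩) (.one ⟨4458, 2, 9⟩))))) (.node 8 (.node 4 (.node 2 (.node 1 (.one ⟨14145, 0, 6⟩) (.one ⟨15152, 0, 7⟩)) (.node 1 (.one ⟨14298, 0, 9⟩) (.one ⟨15592, 0, 6⟩))) (.node 2 (.node 1 (.one ⟨13103, 1, 8⟩) (.one ⟨14879, 0, 8⟩)) (.node 1 (.one ⟨14353, 1, 7⟩) (.one ⟨16829, 2, 8⟩)))) (.node 4 (.node 2 (.node 1 (.one ⟨14354, 2, 9⟩) (.one ⟨15122, 2, 10⟩)) (.node 1 (.one ⟨8595, 1, 8⟩) (.one ⟨4583, 2, 9⟩))) (.node 2 (.node 1 (.one ⟨1349, 2, 8⟩) (.one ⟨3492, 2, 5⟩)) (.node 1 (.one ⟨4464, 2, 9⟩) (.one ⟨14011, 2, 6⟩)))))))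
def par10_12_11 : Arr Par :=
  (.node 32 (.node 16 (.node 8 (.node 4 (.node 2 (.node 1 (.one ⟨6322, 2, 7⟩) (.one ⟨10137, 0, 9⟩)) (.node 1 (.one ⟨4174, 1, 6⟩) (.one ⟨9783, 2, 2⟩))) (.node 2 (.node 1 (.one ⟨8366, 0, 6⟩) (.one ⟨1327, 2, 2⟩)) (.node 1 (.one ⟨3125, 1, 9⟩) (.one ⟨8555, 2, 5⟩)))) (.node 4 (.node 2 (.node 1 (.one ⟨12994, 2, 7⟩) (.one ⟨15261, 2, 4⟩)) (.node 1 (.one ⟨3178, 2, 7⟩) (.one ⟨8405, 1, 9⟩))) (.node 2 (.node 1 (.one ⟨10935, 0, 7⟩) (.one ⟨8401, 1, 8⟩)) (.node 1 (.one ⟨12123, 2, 9⟩) (.one ⟨8294, 1, 10⟩))))) (.node 8 (.node 4 (.node 2 (.node 1 (.one ⟨16527, 1, 8⟩) (.one ⟨4730, 0, 11⟩)) (.node 1 (.one ⟨6466, 1, 8⟩) (.one ⟨1964, 2, 9⟩))) (.node 2 (.node 1 (.one ⟨2103, 2, 8⟩) (.one ⟨2203, 2, 8⟩)) (.node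 1 (.one ⟨16037, 1, 8⟩) (.one ⟨971, 0, 6⟩)))) (.node 4 (.node 2 (.node 1 (.one ⟨9101, 1, 8⟩) (.one ⟨4029, 2, 2⟩)) (.node 1 (.one ⟨6100, 0, 5⟩) (.one ⟨3056, 2, 9⟩))) (.node 2 (.node 1 (.one ⟨2550, 2, 10⟩) (.one ⟨13695, 2, 5⟩)) (.node 1 (.one ⟨15429, 2, 7⟩) (.one ⟨1417, 0, 7⟩)))))) (.node 16 (.node 8 (.node 4 (.node 2 (.node 1 (.one ⟨1481, 0, 8⟩) (.one ⟨2149, 1, 9⟩)) (.node 1 (.one ⟨5075, 1, 7⟩) (.one ⟨10663, 1, 4⟩))) (.node 2 (.node 1 (.one ⟨11713, 2, 9⟩) (.one ⟨8717, 1, 6⟩)) (.node 1 (.one ⟨10970, 2, 9⟩) (.one ⟨5534, 2, 9⟩)))) (.node 4 (.node 2 (.node 1 (.one ⟨2770, 0, 9⟩) (.one ⟨15646, 2, 6⟩)) (.node 1 (.one ⟨5351, 0, 10⟩) (.one ⟨2211, 2, 10⟩))) (.node 2 (.node 1 (.one ⟨9186, 2, 7⟩) (.one ⟨16022, 2, 10⟩)) (.node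 1 (.one ⟨7746, 2, 11⟩) (.one ⟨3710, 0, 9⟩))))) (.node 8 (.node 4 (.node 2 (.node 1 (.one ⟨16803, 1, 9⟩) (.one ⟨3345, 2, 8⟩)) (.node 1 (.one ⟨4008, 2, 8⟩) (.one ⟨15230, 0, 5⟩))) (.node 2 (.node 1 (.one ⟨14435, 1, 8⟩) (.one ⟨14, 0, 7⟩)) (.node 1 (.one ⟨1088, 2, 8⟩) (.one ⟨3079, 0, 6⟩)))) (.node 4 (.node 2 (.node 1 (.one ⟨5145, 0, 9⟩) (.one ⟨15187, 2, 7⟩)) (.node 1 (.one ⟨2628, 2, 11⟩) (.one ⟨10596, 1, 9⟩))) (.node 2 (.node 1 (.one ⟨4491, 0, 10⟩) (.one ⟨13164, 1, 9⟩)) (.node 1 (.one ⟨15036, 2, 7⟩) (.one ⟨9271, 0, 8⟩)))))))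
def par10_12_12 : Arr Par :=
  (.node 32 (.node 16 (.node 8 (.node 4 (.node 2 (.node 1 (.one ⟨10857, 2, 7⟩) (.one ⟨1305, 0, 7⟩)) (.node 1 (.one ⟨14183, 2, 8⟩) (.one ⟨14989, 1, 5⟩))) (.node 2 (.node 1 (.one ⟨10811, 0, 9⟩) (.one ⟨10630, 1, 8⟩)) (.node 1 (.one ⟨2798, 0, 9⟩) (.one ⟨7349, 2, 9⟩)))) (.node 4 (.node 2 (.node 1 (.one ⟨863, 0, 6⟩) (.one ⟨817, 1, 9⟩)) (.node 1 (.one ⟨7810, 2, 9⟩) (.one ⟨8517, 2, 10⟩))) (.node 2 (.node 1 (.one ⟨4652, 2, 9⟩) (.one ⟨8453, 1, 9⟩)) (.node 1 (.one ⟨6484, 2, 9⟩) (.one ⟨13535, 0, 8⟩))))) (.node 8 (.node 4 (.node 2 (.node 1 (.one ⟨4709, 1, 4⟩) (.one ⟨428, 2, 6⟩)) (.node 1 (.one ⟨15916, 2, 5⟩) (.one ⟨10141, 1, 8⟩))) (.node 2 (.node 1 (.one ⟨7269, 2, 9⟩) (.one ⟨1334, 0, 8⟩)) (.node 1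 (.one ⟨15115, 2, 8⟩) (.one ⟨15448, 2, 8⟩)))) (.node 4 (.node 2 (.node 1 (.one ⟨12977, 1, 8⟩) (.one ⟨15568, 2, 8⟩)) (.node 1 (.one ⟨14090, 1, 7⟩) (.one ⟨568, 2, 8⟩))) (.node 2 (.node 1 (.one ⟨7373, 2, 7⟩) (.one ⟨9816, 0, 10⟩)) (.node 1 (.one ⟨10118, 0, 9⟩) (.one ⟨14392, 1, 9⟩)))))) (.node 16 (.node 8 (.node 4 (.node 2 (.node 1 (.one ⟨3167, 2, 10⟩) (.one ⟨10991, 2, 9⟩)) (.node 1 (.one ⟨6008, 0, 9⟩) (.one ⟨5134, 0, 11⟩))) (.node 2 (.node 1 (.one ⟨3858, 2, 9⟩) (.one ⟨550, 0, 9⟩)) (.node 1 (.one ⟨9849, 2, 10⟩) (.one ⟨16003, 1, 8⟩)))) (.node 4 (.node 2 (.node 1 (.one ⟨2113, 0, 8⟩) (.one ⟨14702, 1, 9⟩)) (.node 1 (.one ⟨2793, 0, 9⟩) (.one ⟨5957, 0, 9⟩))) (.node 2 (.node 1 (.one ⟨3060, 2, 8⟩) (.one ⟨6638, 0, 7⟩)) (.node 1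 (.one ⟨11164, 2, 10⟩) (.one ⟨6343, 2, 7⟩))))) (.node 8 (.node 4 (.node 2 (.node 1 (.one ⟨16845, 0, 8⟩) (.one ⟨8091, 2, 7⟩)) (.node 1 (.one ⟨6430, 2, 9⟩) (.one ⟨6264, 1, 9⟩))) (.node 2 (.node 1 (.one ⟨14717, 1, 8⟩) (.one ⟨17120, 1, 9⟩)) (.node 1 (.one ⟨7888, 1, 9⟩) (.one ⟨15798, 1, 7⟩)))) (.node 4 (.node 2 (.node 1 (.one ⟨8453, 2, 9⟩) (.one ⟨4509, 2, 4⟩)) (.node 1 (.one ⟨14375, 2, 6⟩) (.one ⟨16407, 2, 9⟩))) (.node 2 (.node 1 (.one ⟨8355, 0, 9⟩) (.one ⟨6846, 2, 9⟩)) (.node 1 (.one ⟨12927, 2, 9⟩) (.one ⟨3404, 1, 7⟩)))))))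
def par10_12_13 : Arr Par :=
  (.node 32 (.node 16 (.node 8 (.node 4 (.node 2 (.node 1 (.one ⟨12127, 1, 10⟩) (.one ⟨10984, 2, 6⟩)) (.node 1 (.one ⟨15868, 0, 7⟩) (.one ⟨13113, 1, 5⟩))) (.node 2 (.node 1 (.one ⟨2508, 1, 10⟩) (.one ⟨3702, 2, 7⟩)) (.node 1 (.one ⟨9534, 2, 8⟩) (.one ⟨2697, 0, 10⟩)))) (.node 4 (.node 2 (.node 1 (.one ⟨11870, 2, 10⟩) (.one ⟨4396, 0, 10⟩)) (.node 1 (.one ⟨1289, 1, 9⟩) (.one ⟨15934, 1, 6⟩))) (.node 2 (.node 1 (.one ⟨9728, 0, 7⟩) (.one ⟨427, 0, 8⟩)) (.node 1 (.one ⟨7345, 2, 7⟩) (.one ⟨3655, 2, 9⟩))))) (.node 8 (.node 4 (.node 2 (.node 1 (.one ⟨12040, 2, 10⟩) (.one ⟨7115, 0, 10⟩)) (.node 1 (.one ⟨734, 2, 11⟩) (.one ⟨13023, 0, 8⟩))) (.node 2 (.node 1 (.one ⟨10183, 2, 10⟩) (.one ⟨11651, 2, 8⟩))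 (.node 1 (.one ⟨4419, 2, 10⟩) (.one ⟨3734, 2, 9⟩)))) (.node 4 (.node 2 (.node 1 (.one ⟨1949, 2, 10⟩) (.one ⟨12343, 1, 10⟩)) (.node 1 (.one ⟨7894, 2, 11⟩) (.one ⟨14607, 2, 10⟩))) (.node 2 (.node 1 (.one ⟨16408, 2, 9⟩) (.one ⟨12384, 2, 11⟩)) (.node 1 (.one ⟨10343, 0, 8⟩) (.one ⟨16164, 2, 9⟩)))))) (.node 16 (.node 8 (.node 4 (.node 2 (.node 1 (.one ⟨11784, 2, 9⟩) (.one ⟨13866, 2, 9⟩)) (.node 1 (.one ⟨1604, 0, 8⟩) (.one ⟨11816, 0, 6⟩))) (.node 2 (.node 1 (.one ⟨1290, 1, 8⟩) (.one ⟨8485, 2, 9⟩)) (.node 1 (.one ⟨4874, 2, 10⟩) (.one ⟨12958, 2, 9⟩)))) (.node 4 (.node 2 (.node 1 (.one ⟨10210, 1, 9⟩) (.one ⟨2448, 0, 8⟩)) (.node 1 (.one ⟨14480, 2, 8⟩) (.one ⟨11209, 0, 9⟩))) (.node 2 (.node 1 (.one ⟨3493, 0, 8⟩) (.one ⟨10326,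 2, 7⟩)) (.node 1 (.one ⟨5530, 1, 10⟩) (.one ⟨4457, 2, 8⟩))))) (.node 8 (.node 4 (.node 2 (.node 1 (.one ⟨6051, 2, 4⟩) (.one ⟨2135, 2, 8⟩)) (.node 1 (.one ⟨1378, 1, 8⟩) (.one ⟨13183, 1, 10⟩))) (.node 2 (.node 1 (.one ⟨8227, 2, 8⟩) (.one ⟨3975, 2, 8⟩)) (.node 1 (.one ⟨5734, 2, 8⟩) (.one ⟨10878, 2, 8⟩)))) (.node 4 (.node 2 (.node 1 (.one ⟨6691, 1, 5⟩) (.one ⟨691, 2, 5⟩)) (.node 1 (.one ⟨1397, 1, 8⟩) (.one ⟨5206, 2, 10⟩))) (.node 2 (.node 1 (.one ⟨14999, 1, 9⟩) (.one ⟨3988, 1, 9⟩)) (.node 1 (.one ⟨11895, 0, 10⟩) (.one ⟨17069, 0, 9⟩)))))))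
def par10_12_14 : Arr Par :=
  (.node 32 (.node 16 (.node 8 (.node 4 (.node 2 (.node 1 (.one ⟨5412, 0, 8⟩) (.one ⟨10846, 1, 10⟩)) (.node 1 (.one ⟨68, 2, 10⟩) (.one ⟨9555, 2, 9⟩))) (.node 2 (.node 1 (.one ⟨1377, 1, 9⟩) (.one ⟨9551, 2, 10⟩)) (.node 1 (.one ⟨2203, 0, 8⟩) (.one ⟨11034, 2, 7⟩)))) (.node 4 (.node 2 (.node 1 (.one ⟨11199, 2, 11⟩) (.one ⟨3572, 0, 9⟩)) (.node 1 (.one ⟨7587, 2, 10⟩) (.one ⟨1470, 2, 9⟩))) (.node 2 (.node 1 (.one ⟨16875, 1, 4⟩) (.one ⟨4153, 1, 3⟩)) (.node 1 (.one ⟨1394, 1, 10⟩) (.one ⟨1200, 2, 8⟩))))) (.node 8 (.node 4 (.node 2 (.node 1 (.one ⟨15896, 0, 8⟩) (.one ⟨3853, 2, 7⟩)) (.node 1 (.one ⟨1392, 1, 10⟩) (.one ⟨6108, 2, 5⟩))) (.node 2 (.node 1 (.one ⟨10579, 2, 8⟩) (.one ⟨7617, 2, 9⟩)) (.node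 1 (.one ⟨12169, 2, 9⟩) (.one ⟨16556, 1, 7⟩)))) (.node 4 (.node 2 (.node 1 (.one ⟨6284, 1, 5⟩) (.one ⟨1390, 1, 5⟩)) (.node 1 (.one ⟨13610, 0, 8⟩) (.one ⟨17061, 2, 8⟩))) (.node 2 (.node 1 (.one ⟨5210, 0, 7⟩) (.one ⟨14980, 2, 9⟩)) (.node 1 (.one ⟨4007, 0, 9⟩) (.one ⟨7271, 1, 10⟩)))))) (.node 16 (.node 8 (.node 4 (.node 2 (.node 1 (.one ⟨11753, 1, 7⟩) (.one ⟨1414, 2, 8⟩)) (.node 1 (.one ⟨6127, 2, 9⟩) (.one ⟨16483, 1, 8⟩))) (.node 2 (.node 1 (.one ⟨7870, 0, 10⟩) (.one ⟨1395, 1, 6⟩)) (.node 1 (.one ⟨7821, 0, 8⟩) (.one ⟨15629, 0, 8⟩)))) (.node 4 (.node 2 (.node 1 (.one ⟨11313, 2, 8⟩) (.one ⟨5020, 2, 9⟩)) (.node 1 (.one ⟨3992, 0, 6⟩) (.one ⟨12578, 2, 8⟩))) (.node 2 (.node 1 (.one ⟨8030, 0, 8⟩) (.one ⟨8733, 2, 10⟩)) (.node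 1 (.one ⟨1276, 2, 9⟩) (.one ⟨12334, 0, 11⟩))))) (.node 8 (.node 4 (.node 2 (.node 1 (.one ⟨7191, 0, 9⟩) (.one ⟨12863, 2, 9⟩)) (.node 1 (.one ⟨15914, 1, 10⟩) (.one ⟨3670, 2, 10⟩))) (.node 2 (.node 1 (.one ⟨16575, 0, 9⟩) (.one ⟨16465, 2, 9⟩)) (.node 1 (.one ⟨4983, 1, 9⟩) (.one ⟨2200, 1, 5⟩)))) (.node 4 (.node 2 (.node 1 (.one ⟨7130, 2, 9⟩) (.one ⟨1490, 2, 6⟩)) (.node 1 (.one ⟨13545, 2, 7⟩) (.one ⟨9023, 2, 8⟩))) (.node 2 (.node 1 (.one ⟨6831, 1, 4⟩) (.one ⟨11423, 2, 7⟩)) (.node 1 (.one ⟨3679, 2, 8⟩) (.one ⟨723, 0, 8⟩)))))))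
def par10_12_15 : Arr Par :=
  (.node 32 (.node 16 (.node 8 (.node 4 (.node 2 (.node 1 (.one ⟨11184, 1, 10⟩) (.one ⟨7456, 2, 11⟩)) (.node 1 (.one ⟨11362, 0, 8⟩) (.one ⟨6442, 2, 9⟩))) (.node 2 (.node 1 (.one ⟨8870, 0, 8⟩) (.one ⟨6394, 2, 4⟩)) (.node 1 (.one ⟨14481, 2, 9⟩) (.one ⟨8508, 0, 7⟩)))) (.node 4 (.node 2 (.node 1 (.one ⟨5673, 0, 9⟩) (.one ⟨10110, 2, 8⟩)) (.node 1 (.one ⟨10252, 1, 6⟩) (.one ⟨14402, 2, 10⟩))) (.node 2 (.node 1 (.one ⟨14989, 2, 5⟩) (.one ⟨13068, 0, 10⟩)) (.node 1 (.one ⟨14515, 2, 6⟩) (.one ⟨16038, 1, 8⟩))))) (.node 8 (.node 4 (.node 2 (.node 1 (.one ⟨5777, 1, 11⟩) (.one ⟨13718, 2, 10⟩)) (.node 1 (.one ⟨5348, 2, 9⟩) (.one ⟨3844, 0, 11⟩))) (.node 2 (.node 1 (.one ⟨1517, 0, 9⟩) (.one ⟨4542, 0, 10⟩))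 (.node 1 (.one ⟨6186, 2, 9⟩) (.one ⟨15068, 0, 8⟩)))) (.node 4 (.node 2 (.node 1 (.one ⟨1667, 0, 8⟩) (.one ⟨2847, 1, 9⟩)) (.node 1 (.one ⟨3830, 2, 10⟩) (.one ⟨10239, 0, 7⟩))) (.node 2 (.node 1 (.one ⟨6615, 0, 10⟩) (.one ⟨13675, 2, 9⟩)) (.node 1 (.one ⟨745, 0, 5⟩) (.one ⟨10671, 0, 6⟩)))))) (.node 16 (.node 8 (.node 4 (.node 2 (.node 1 (.one ⟨13839, 0, 10⟩) (.one ⟨15559, 2, 9⟩)) (.node 1 (.one ⟨16721, 2, 6⟩) (.one ⟨6453, 0, 8⟩))) (.node 2 (.node 1 (.one ⟨8245, 2, 4⟩) (.one ⟨429, 0, 6⟩)) (.node 1 (.one ⟨5765, 1, 9⟩) (.one ⟨13530, 1, 9⟩)))) (.node 4 (.node 2 (.node 1 (.one ⟨72, 2, 9⟩) (.one ⟨4372, 1, 9⟩)) (.node 1 (.one ⟨79, 2, 6⟩) (.one ⟨9141, 2, 10⟩))) (.node 2 (.node 1 (.one ⟨6164, 0, 8⟩) (.one ⟨9142, 2, 10⟩)) (.node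 1 (.one ⟨9138, 2, 8⟩) (.one ⟨3927, 0, 10⟩))))) (.node 8 (.node 4 (.node 2 (.node 1 (.one ⟨7171, 2, 10⟩) (.one ⟨12187, 1, 8⟩)) (.node 1 (.one ⟨6934, 1, 10⟩) (.one ⟨16041, 1, 11⟩))) (.node 2 (.node 1 (.one ⟨3366, 1, 7⟩) (.one ⟨3565, 2, 7⟩)) (.node 1 (.one ⟨5470, 0, 8⟩) (.one ⟨16719, 2, 7⟩)))) (.node 4 (.node 2 (.node 1 (.one ⟨9324, 2, 9⟩) (.one ⟨12149, 0, 10⟩)) (.node 1 (.one ⟨136, 1, 12⟩) (.one ⟨10873, 0, 11⟩))) (.node 2 (.node 1 (.one ⟨14983, 2, 9⟩) (.one ⟨7263, 2, 7⟩)) (.node 1 (.one ⟨4501, 2, 6⟩) (.one ⟨16876, 2, 9⟩)))))))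
def par10_12 : Arr Par :=
  (.node 512 (.node 256 (.node 128 (.node 64 par10_12_0 par10_12_1) (.node 64 par10_12_2 par10_12_3)) (.node 128 (.node 64 par10_12_4 par10_12_5) (.node 64 par10_12_6 par10_12_7))) (.node 256 (.node 128 (.node 64 par10_12_8 par10_12_9) (.node 64 par10_12_10 par10_12_11)) (.node 128 (.node 64 par10_12_12 par10_12_13) (.node 64 par10_12_14 par10_12_15))))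
def par10_13_0 : Arr Par :=
  (.node 32 (.node 16 (.node 8 (.node 4 (.node 2 (.node 1 (.one ⟨15564, 2, 6⟩) (.one ⟨8856, 2, 10⟩)) (.node 1 (.one ⟨15459, 1, 8⟩) (.one ⟨2100, 1, 7⟩))) (.node 2 (.node 1 (.one ⟨7956, 1, 10⟩) (.one ⟨3346, 1, 10⟩)) (.node 1 (.one ⟨8774, 1, 10⟩) (.one ⟨1046, 1, 8⟩)))) (.node 4 (.node 2 (.node 1 (.one ⟨10751, 2, 6⟩) (.one ⟨12872, 2, 7⟩)) (.node 1 (.one ⟨13236, 2, 10⟩) (.one ⟨1224, 2, 11⟩))) (.node 2 (.node 1 (.one ⟨2293, 2, 6⟩) (.one ⟨1567, 0, 11⟩)) (.node 1 (.one ⟨5336, 2, 7⟩) (.one ⟨12344, 2, 10⟩))))) (.node 8 (.node 4 (.node 2 (.node 1 (.one ⟨936, 2, 5⟩) (.one ⟨4084, 2, 7⟩)) (.node 1 (.one ⟨10103, 2, 9⟩) (.one ⟨11419, 0, 10⟩))) (.node 2 (.node 1 (.one ⟨10838, 0, 9⟩) (.one ⟨10730, 2, 7⟩))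 (.node 1 (.one ⟨3627, 2, 7⟩) (.one ⟨5622, 2, 9⟩)))) (.node 4 (.node 2 (.node 1 (.one ⟨963, 2, 8⟩) (.one ⟨13438, 1, 9⟩)) (.node 1 (.one ⟨16470, 2, 9⟩) (.one ⟨14907, 2, 10⟩))) (.node 2 (.node 1 (.one ⟨14926, 1, 10⟩) (.one ⟨3663, 2, 9⟩)) (.node 1 (.one ⟨7937, 2, 8⟩) (.one ⟨3817, 0, 8⟩)))))) (.node 16 (.node 8 (.node 4 (.node 2 (.node 1 (.one ⟨6098, 0, 6⟩) (.one ⟨5289, 1, 4⟩)) (.node 1 (.one ⟨8529, 0, 7⟩) (.one ⟨11234, 2, 9⟩))) (.node 2 (.node 1 (.one ⟨5302, 2, 10⟩) (.one ⟨12692, 2, 8⟩)) (.node 1 (.one ⟨2932, 2, 7⟩) (.one ⟨14658, 1, 8⟩)))) (.node 4 (.node 2 (.node 1 (.one ⟨16527, 0, 8⟩) (.one ⟨1519, 0, 9⟩)) (.node 1 (.one ⟨9482, 2, 10⟩) (.one ⟨10320, 1, 8⟩))) (.node 2 (.node 1 (.one ⟨14937, 0, 11⟩) (.one ⟨3705, 0, 7⟩))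 (.node 1 (.one ⟨13067, 2, 11⟩) (.one ⟨10712, 2, 8⟩))))) (.node 8 (.node 4 (.node 2 (.node 1 (.one ⟨14293, 0, 10⟩) (.one ⟨11062, 2, 9⟩)) (.node 1 (.one ⟨11787, 2, 7⟩) (.one ⟨2562, 2, 11⟩))) (.node 2 (.node 1 (.one ⟨5475, 2, 10⟩) (.one ⟨10650, 0, 7⟩)) (.node 1 (.one ⟨1948, 0, 11⟩) (.one ⟨13235, 0, 11⟩)))) (.node 4 (.node 2 (.node 1 (.one ⟨4779, 1, 11⟩) (.one ⟨12783, 0, 10⟩)) (.node 1 (.one ⟨7480, 1, 11⟩) (.one ⟨16859, 1, 8⟩))) (.node 2 (.node 1 (.one ⟨1079, 2, 8⟩) (.one ⟨11040, 1, 7⟩)) (.node 1 (.one ⟨14599, 2, 1⟩) (.one ⟨2977, 2, 8⟩)))))))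
def par10_13_1 : Arr Par :=
  (.node 32 (.node 16 (.node 8 (.node 4 (.node 2 (.node 1 (.one ⟨8101, 0, 7⟩) (.one ⟨11047, 2, 6⟩)) (.node 1 (.one ⟨2967, 2, 10⟩) (.one ⟨2936, 2, 10⟩))) (.node 2 (.node 1 (.one ⟨5766, 1, 5⟩) (.one ⟨10996, 2, 3⟩)) (.node 1 (.one ⟨2947, 2, 8⟩) (.one ⟨4084, 1, 7⟩)))) (.node 4 (.node 2 (.node 1 (.one ⟨1471, 2, 7⟩) (.one ⟨2162, 2, 11⟩)) (.node 1 (.one ⟨3419, 1, 9⟩) (.one ⟨7764, 2, 9⟩))) (.node 2 (.node 1 (.one ⟨12898, 0, 7⟩) (.one ⟨8750, 2, 6⟩)) (.node 1 (.one ⟨2249, 1, 9⟩) (.one ⟨12489, 2, 9⟩))))) (.node 8 (.node 4 (.node 2 (.node 1 (.one ⟨12425, 1, 5⟩) (.one ⟨12795, 1, 9⟩)) (.node 1 (.one ⟨14382, 1, 7⟩) (.one ⟨13471, 0, 5⟩))) (.node 2 (.node 1 (.one ⟨11179, 0, 10⟩) (.one ⟨4320, 1, 6⟩)) (.node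 1 (.one ⟨2490, 2, 9⟩) (.one ⟨4498, 2, 8⟩)))) (.node 4 (.node 2 (.node 1 (.one ⟨10617, 1, 11⟩) (.one ⟨14429, 2, 8⟩)) (.node 1 (.one ⟨14627, 2, 9⟩) (.one ⟨7866, 2, 5⟩))) (.node 2 (.node 1 (.one ⟨7786, 2, 8⟩) (.one ⟨11258, 0, 10⟩)) (.node 1 (.one ⟨10205, 2, 10⟩) (.one ⟨1669, 0, 10⟩)))))) (.node 16 (.node 8 (.node 4 (.node 2 (.node 1 (.one ⟨15442, 1, 9⟩) (.one ⟨7337, 2, 8⟩)) (.node 1 (.one ⟨7079, 1, 8⟩) (.one ⟨17099, 1, 6⟩))) (.node 2 (.node 1 (.one ⟨8165, 1, 6⟩) (.one ⟨9971, 2, 7⟩)) (.node 1 (.one ⟨6384, 0, 8⟩) (.one ⟨8746, 0, 9⟩)))) (.node 4 (.node 2 (.node 1 (.one ⟨3260, 2, 10⟩) (.one ⟨5572, 1, 10⟩)) (.node 1 (.one ⟨5210, 1, 7⟩) (.one ⟨10444, 2, 9⟩))) (.node 2 (.node 1 (.one ⟨11419, 2, 10⟩) (.one ⟨5779, 1, 9⟩)) (.node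 1 (.one ⟨16401, 0, 8⟩) (.one ⟨8390, 2, 9⟩))))) (.node 8 (.node 4 (.node 2 (.node 1 (.one ⟨5653, 1, 8⟩) (.one ⟨15761, 0, 7⟩)) (.node 1 (.one ⟨8384, 2, 8⟩) (.one ⟨8469, 1, 9⟩))) (.node 2 (.node 1 (.one ⟨8383, 2, 10⟩) (.one ⟨8389, 2, 8⟩)) (.node 1 (.one ⟨53, 2, 7⟩) (.one ⟨5329, 2, 9⟩)))) (.node 4 (.node 2 (.node 1 (.one ⟨8030, 1, 8⟩) (.one ⟨3494, 1, 3⟩)) (.node 1 (.one ⟨2977, 0, 8⟩) (.one ⟨3950, 2, 10⟩))) (.node 2 (.node 1 (.one ⟨14262, 1, 9⟩) (.one ⟨197, 0, 8⟩)) (.node 1 (.one ⟨11766, 0, 8⟩) (.one ⟨10678, 2, 6⟩)))))))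
def par10_13_2 : Arr Par :=
  (.node 32 (.node 16 (.node 8 (.node 4 (.node 2 (.node 1 (.one ⟨702, 2, 8⟩) (.one ⟨5904, 2, 7⟩)) (.node 1 (.one ⟨13257, 1, 9⟩) (.one ⟨17160, 1, 6⟩))) (.node 2 (.node 1 (.one ⟨2766, 0, 8⟩) (.one ⟨7034, 2, 8⟩)) (.node 1 (.one ⟨15280, 2, 9⟩) (.one ⟨9506, 2, 7⟩)))) (.node 4 (.node 2 (.node 1 (.one ⟨12422, 2, 9⟩) (.one ⟨12490, 2, 9⟩)) (.node 1 (.one ⟨10004, 1, 9⟩) (.one ⟨2955, 2, 10⟩))) (.node 2 (.node 1 (.one ⟨15173, 0, 9⟩) (.one ⟨5269, 2, 11⟩)) (.node 1 (.one ⟨3063, 2, 10⟩) (.one ⟨3547, 1, 7⟩))))) (.node 8 (.node 4 (.node 2 (.node 1 (.one ⟨3755, 0, 8⟩) (.one ⟨16783, 1, 10⟩)) (.node 1 (.one ⟨10586, 2, 10⟩) (.one ⟨9082, 0, 6⟩))) (.node 2 (.node 1 (.one ⟨8846, 2, 10⟩) (.one ⟨7451, 1, 10⟩))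 (.node 1 (.one ⟨7967, 0, 7⟩) (.one ⟨7617, 0, 9⟩)))) (.node 4 (.node 2 (.node 1 (.one ⟨5379, 1, 10⟩) (.one ⟨16413, 0, 6⟩)) (.node 1 (.one ⟨15636, 2, 6⟩) (.one ⟨10435, 0, 7⟩))) (.node 2 (.node 1 (.one ⟨583, 1, 5⟩) (.one ⟨1360, 2, 8⟩)) (.node 1 (.one ⟨5195, 2, 7⟩) (.one ⟨7133, 2, 4⟩)))))) (.node 16 (.node 8 (.node 4 (.node 2 (.node 1 (.one ⟨8126, 1, 7⟩) (.one ⟨7063, 1, 10⟩)) (.node 1 (.one ⟨11441, 2, 8⟩) (.one ⟨16519, 1, 7⟩))) (.node 2 (.node 1 (.one ⟨6139, 2, 4⟩) (.one ⟨9686, 2, 8⟩)) (.node 1 (.one ⟨7327, 0, 9⟩) (.one ⟨1130, 0, 8⟩)))) (.node 4 (.node 2 (.node 1 (.one ⟨3630, 2, 9⟩) (.one ⟨9399, 2, 10⟩)) (.node 1 (.one ⟨7124, 2, 8⟩) (.one ⟨7869, 2, 8⟩))) (.node 2 (.node 1 (.one ⟨11344, 0, 9⟩) (.one ⟨3419, 2, 9⟩)) (.node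 1 (.one ⟨14153, 2, 9⟩) (.one ⟨12962, 0, 9⟩))))) (.node 8 (.node 4 (.node 2 (.node 1 (.one ⟨9175, 2, 6⟩) (.one ⟨17112, 0, 7⟩)) (.node 1 (.one ⟨4301, 2, 8⟩) (.one ⟨2248, 2, 8⟩))) (.node 2 (.node 1 (.one ⟨10310, 2, 8⟩) (.one ⟨13682, 1, 9⟩)) (.node 1 (.one ⟨12959, 0, 9⟩) (.one ⟨8987, 1, 11⟩)))) (.node 4 (.node 2 (.node 1 (.one ⟨12695, 2, 8⟩) (.one ⟨6398, 0, 9⟩)) (.node 1 (.one ⟨7555, 2, 9⟩) (.one ⟨8839, 1, 7⟩))) (.node 2 (.node 1 (.one ⟨15029, 2, 9⟩) (.one ⟨5819, 2, 9⟩)) (.node 1 (.one ⟨5241, 2, 9⟩) (.one ⟨8143, 2, 10⟩)))))))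
def par10_13_3 : Arr Par :=
  (.node 32 (.node 16 (.node 8 (.node 4 (.node 2 (.node 1 (.one ⟨12833, 1, 10⟩) (.one ⟨9284, 1, 10⟩)) (.node 1 (.one ⟨16458, 1, 10⟩) (.one ⟨14244, 0, 10⟩))) (.node 2 (.node 1 (.one ⟨12366, 0, 10⟩) (.one ⟨2477, 1, 7⟩)) (.node 1 (.one ⟨9043, 0, 9⟩) (.one ⟨479, 0, 7⟩)))) (.node 4 (.node 2 (.node 1 (.one ⟨2736, 2, 8⟩) (.one ⟨660, 2, 5⟩)) (.node 1 (.one ⟨12914, 1, 8⟩) (.one ⟨2847, 2, 9⟩))) (.node 2 (.node 1 (.one ⟨7148, 2, 8⟩) (.one ⟨14545, 0, 7⟩)) (.node 1 (.one ⟨14566, 0, 9⟩) (.one ⟨16368, 0, 5⟩))))) (.node 8 (.node 4 (.node 2 (.node 1 (.one ⟨12676, 1, 3⟩) (.one ⟨10259, 2, 5⟩)) (.node 1 (.one ⟨805, 2, 7⟩) (.one ⟨5467, 1, 6⟩))) (.node 2 (.node 1 (.one ⟨16857, 1, 9⟩) (.one ⟨15906, 0, 8⟩)) (.node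 1 (.one ⟨9325, 1, 9⟩) (.one ⟨8594, 2, 8⟩)))) (.node 4 (.node 2 (.node 1 (.one ⟨3487, 2, 8⟩) (.one ⟨15219, 2, 9⟩)) (.node 1 (.one ⟨12946, 2, 8⟩) (.one ⟨12303, 2, 10⟩))) (.node 2 (.node 1 (.one ⟨9283, 1, 10⟩) (.one ⟨9020, 0, 8⟩)) (.node 1 (.one ⟨8207, 2, 10⟩) (.one ⟨12945, 2, 7⟩)))))) (.node 16 (.node 8 (.node 4 (.node 2 (.node 1 (.one ⟨12521, 0, 5⟩) (.one ⟨4717, 2, 10⟩)) (.node 1 (.one ⟨1202, 0, 6⟩) (.one ⟨10716, 1, 5⟩))) (.node 2 (.node 1 (.one ⟨15159, 2, 10⟩) (.one ⟨5690, 2, 10⟩)) (.node 1 (.one ⟨7384, 2, 4⟩) (.one ⟨8901, 1, 10⟩)))) (.node 4 (.node 2 (.node 1 (.one ⟨14707, 0, 5⟩) (.one ⟨3273, 2, 6⟩)) (.node 1 (.one ⟨15428, 2, 6⟩) (.one ⟨7258, 0, 8⟩))) (.node 2 (.node 1 (.one ⟨16248, 2, 9⟩) (.one ⟨151, 0, 8⟩)) (.node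 1 (.one ⟨4285, 0, 9⟩) (.one ⟨6400, 1, 10⟩))))) (.node 8 (.node 4 (.node 2 (.node 1 (.one ⟨12026, 1, 5⟩) (.one ⟨7383, 0, 8⟩)) (.node 1 (.one ⟨9716, 0, 7⟩) (.one ⟨3645, 2, 6⟩))) (.node 2 (.node 1 (.one ⟨11104, 2, 9⟩) (.one ⟨11901, 2, 8⟩)) (.node 1 (.one ⟨2922, 2, 12⟩) (.one ⟨2479, 0, 9⟩)))) (.node 4 (.node 2 (.node 1 (.one ⟨14449, 0, 4⟩) (.one ⟨8747, 2, 8⟩)) (.node 1 (.one ⟨1547, 2, 9⟩) (.one ⟨17015, 1, 9⟩))) (.node 2 (.node 1 (.one ⟨14543, 2, 6⟩) (.one ⟨2754, 0, 8⟩)) (.node 1 (.one ⟨14935, 0, 10⟩) (.one ⟨4662, 1, 9⟩)))))))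
def par10_13_4 : Arr Par :=
  (.node 32 (.node 16 (.node 8 (.node 4 (.node 2 (.node 1 (.one ⟨6241, 0, 9⟩) (.one ⟨17030, 1, 10⟩)) (.node 1 (.one ⟨7079, 0, 8⟩) (.one ⟨12584, 1, 8⟩))) (.node 2 (.node 1 (.one ⟨14342, 0, 9⟩) (.one ⟨7944, 1, 8⟩)) (.node 1 (.one ⟨15100, 0, 10⟩) (.one ⟨13483, 2, 9⟩)))) (.node 4 (.node 2 (.node 1 (.one ⟨2062, 1, 9⟩) (.one ⟨13184, 1, 9⟩)) (.node 1 (.one ⟨5504, 1, 11⟩) (.one ⟨7973, 2, 7⟩))) (.node 2 (.node 1 (.one ⟨6468, 2, 9⟩) (.one ⟨1568, 0, 10⟩)) (.node 1 (.one ⟨7104, 2, 9⟩) (.one ⟨3398, 2, 11⟩))))) (.node 8 (.node 4 (.node 2 (.node 1 (.one ⟨2412, 2, 8⟩) (.one ⟨1185, 2, 10⟩)) (.node 1 (.one ⟨2889, 2, 8⟩) (.one ⟨11798, 2, 7⟩))) (.node 2 (.node 1 (.one ⟨17086, 1, 8⟩) (.one ⟨9437, 1, 9⟩)) (.node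 1 (.one ⟨6821, 0, 9⟩) (.one ⟨14904, 1, 8⟩)))) (.node 4 (.node 2 (.node 1 (.one ⟨963, 1, 8⟩) (.one ⟨8906, 0, 11⟩)) (.node 1 (.one ⟨16032, 0, 11⟩) (.one ⟨4507, 1, 9⟩))) (.node 2 (.node 1 (.one ⟨11535, 0, 9⟩) (.one ⟨15171, 0, 11⟩)) (.node 1 (.one ⟨6447, 2, 2⟩) (.one ⟨3482, 0, 7⟩)))))) (.node 16 (.node 8 (.node 4 (.node 2 (.node 1 (.one ⟨17056, 2, 6⟩) (.one ⟨17057, 1, 8⟩)) (.node 1 (.one ⟨8839, 0, 7⟩) (.one ⟨11539, 0, 8⟩))) (.node 2 (.node 1 (.one ⟨16122, 0, 6⟩) (.one ⟨56, 1, 9⟩)) (.node 1 (.one ⟨16891, 0, 9⟩) (.one ⟨8310, 1, 6⟩)))) (.node 4 (.node 2 (.node 1 (.one ⟨7500, 2, 10⟩) (.one ⟨15072, 2, 9⟩)) (.node 1 (.one ⟨13829, 0, 7⟩) (.one ⟨14610, 0, 8⟩))) (.node 2 (.node 1 (.one ⟨5914, 0, 9⟩) (.one ⟨6091, 2, 10⟩)) (.node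 1 (.one ⟨9427, 1, 9⟩) (.one ⟨1450, 0, 8⟩))))) (.node 8 (.node 4 (.node 2 (.node 1 (.one ⟨14288, 0, 7⟩) (.one ⟨8136, 0, 9⟩)) (.node 1 (.one ⟨11616, 0, 10⟩) (.one ⟨4708, 2, 10⟩))) (.node 2 (.node 1 (.one ⟨13547, 2, 9⟩) (.one ⟨2318, 2, 11⟩)) (.node 1 (.one ⟨10126, 2, 10⟩) (.one ⟨15360, 2, 6⟩)))) (.node 4 (.node 2 (.node 1 (.one ⟨9605, 2, 2⟩) (.one ⟨13681, 2, 9⟩)) (.node 1 (.one ⟨2475, 1, 6⟩) (.one ⟨1612, 0, 6⟩))) (.node 2 (.node 1 (.one ⟨1730, 2, 7⟩) (.one ⟨2560, 1, 4⟩)) (.node 1 (.one ⟨3368, 2, 8⟩) (.one ⟨3308, 2, 10⟩)))))))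
def par10_13_5 : Arr Par :=
  (.node 32 (.node 16 (.node 8 (.node 4 (.node 2 (.node 1 (.one ⟨6266, 1, 8⟩) (.one ⟨1021, 2, 6⟩)) (.node 1 (.one ⟨6062, 1, 10⟩) (.one ⟨5650, 1, 10⟩))) (.node 2 (.node 1 (.one ⟨3306, 2, 8⟩) (.one ⟨3309, 2, 10⟩)) (.node 1 (.one ⟨8198, 0, 8⟩) (.one ⟨11833, 2, 9⟩)))) (.node 4 (.node 2 (.node 1 (.one ⟨7170, 1, 10⟩) (.one ⟨5764, 1, 8⟩)) (.node 1 (.one ⟨9803, 2, 8⟩) (.one ⟨8228, 1, 10⟩))) (.node 2 (.node 1 (.one ⟨4038, 1, 7⟩) (.one ⟨7116, 0, 9⟩)) (.node 1 (.one ⟨3660, 2, 9⟩) (.one ⟨2761, 2, 6⟩))))) (.node 8 (.node 4 (.node 2 (.node 1 (.one ⟨14812, 2, 4⟩) (.one ⟨1873, 1, 10⟩)) (.node 1 (.one ⟨10440, 0, 10⟩) (.one ⟨3176, 2, 5⟩))) (.node 2 (.node 1 (.one ⟨14038, 0, 9⟩) (.one ⟨10518, 2, 10⟩)) (.node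 1 (.one ⟨6377, 2, 9⟩) (.one ⟨1345, 0, 7⟩)))) (.node 4 (.node 2 (.node 1 (.one ⟨12026, 2, 5⟩) (.one ⟨5368, 2, 10⟩)) (.node 1 (.one ⟨6940, 1, 11⟩) (.one ⟨2926, 1, 10⟩))) (.node 2 (.node 1 (.one ⟨6999, 2, 9⟩) (.one ⟨13745, 2, 9⟩)) (.node 1 (.one ⟨4020, 1, 5⟩) (.one ⟨6052, 1, 5⟩)))))) (.node 16 (.node 8 (.node 4 (.node 2 (.node 1 (.one ⟨4123, 0, 9⟩) (.one ⟨14742, 2, 7⟩)) (.node 1 (.one ⟨422, 2, 8⟩) (.one ⟨4609, 2, 10⟩))) (.node 2 (.node 1 (.one ⟨8789, 1, 10⟩) (.one ⟨14847, 2, 7⟩)) (.node 1 (.one ⟨1777, 2, 8⟩) (.one ⟨9420, 2, 7⟩)))) (.node 4 (.node 2 (.node 1 (.one ⟨14349, 0, 9⟩) (.one ⟨6084, 1, 9⟩)) (.node 1 (.one ⟨6247, 1, 10⟩) (.one ⟨16244, 0, 8⟩))) (.node 2 (.node 1 (.one ⟨4808, 2, 8⟩) (.one ⟨14186, 0, 8⟩)) (.node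 1 (.one ⟨4887, 2, 9⟩) (.one ⟨1774, 0, 7⟩))))) (.node 8 (.node 4 (.node 2 (.node 1 (.one ⟨343, 0, 10⟩) (.one ⟨8068, 0, 8⟩)) (.node 1 (.one ⟨7942, 0, 8⟩) (.one ⟨15274, 2, 9⟩))) (.node 2 (.node 1 (.one ⟨5816, 1, 4⟩) (.one ⟨13362, 1, 8⟩)) (.node 1 (.one ⟨15948, 2, 9⟩) (.one ⟨16230, 1, 9⟩)))) (.node 4 (.node 2 (.node 1 (.one ⟨8084, 1, 8⟩) (.one ⟨570, 0, 10⟩)) (.node 1 (.one ⟨1154, 1, 4⟩) (.one ⟨8290, 2, 9⟩))) (.node 2 (.node 1 (.one ⟨8662, 2, 11⟩) (.one ⟨7162, 2, 6⟩)) (.node 1 (.one ⟨5645, 1, 10⟩) (.one ⟨6051, 1, 4⟩)))))))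
def par10_13_6 : Arr Par :=
  (.node 32 (.node 16 (.node 8 (.node 4 (.node 2 (.node 1 (.one ⟨9355, 2, 6⟩) (.one ⟨8369, 1, 12⟩)) (.node 1 (.one ⟨1798, 2, 11⟩) (.one ⟨6665, 2, 9⟩))) (.node 2 (.node 1 (.one ⟨16164, 1, 9⟩) (.one ⟨14816, 2, 7⟩)) (.node 1 (.one ⟨14786, 1, 4⟩) (.one ⟨580, 2, 9⟩)))) (.node 4 (.node 2 (.node 1 (.one ⟨750, 1, 10⟩) (.one ⟨605, 2, 8⟩)) (.node 1 (.one ⟨2025, 1, 9⟩) (.one ⟨1387, 2, 11⟩))) (.node 2 (.node 1 (.one ⟨1383, 2, 8⟩) (.one ⟨1388, 2, 9⟩)) (.node 1 (.one ⟨1384, 2, 9⟩) (.one ⟨1604, 2, 8⟩))))) (.node 8 (.node 4 (.node 2 (.node 1 (.one ⟨12565, 0, 8⟩) (.one ⟨1766, 1, 6⟩)) (.node 1 (.one ⟨11949, 0, 7⟩) (.one ⟨2825, 0, 7⟩))) (.node 2 (.node 1 (.one ⟨8610, 1, 8⟩) (.one ⟨1568, 2, 10⟩)) (.node 1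 (.one ⟨4975, 1, 9⟩) (.one ⟨10484, 2, 10⟩)))) (.node 4 (.node 2 (.node 1 (.one ⟨1113, 2, 8⟩) (.one ⟨13638, 2, 9⟩)) (.node 1 (.one ⟨13712, 0, 9⟩) (.one ⟨14357, 2, 6⟩))) (.node 2 (.node 1 (.one ⟨16871, 1, 10⟩) (.one ⟨13250, 1, 9⟩)) (.node 1 (.one ⟨13820, 0, 10⟩) (.one ⟨1520, 0, 10⟩)))))) (.node 16 (.node 8 (.node 4 (.node 2 (.node 1 (.one ⟨3300, 2, 7⟩) (.one ⟨10407, 0, 5⟩)) (.node 1 (.one ⟨5599, 1, 7⟩) (.one ⟨13598, 2, 3⟩))) (.node 2 (.node 1 (.one ⟨1275, 2, 10⟩) (.one ⟨13862, 2, 9⟩)) (.node 1 (.one ⟨9908, 0, 9⟩) (.one ⟨2936, 1, 10⟩)))) (.node 4 (.node 2 (.node 1 (.one ⟨17122, 0, 9⟩) (.one ⟨8928, 0, 6⟩)) (.node 1 (.one ⟨7180, 2, 11⟩) (.one ⟨166, 0, 8⟩))) (.node 2 (.node 1 (.one ⟨11393, 1, 6⟩) (.one ⟨2006, 1, 5⟩)) (.node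 1 (.one ⟨10037, 0, 10⟩) (.one ⟨10343, 2, 8⟩))))) (.node 8 (.node 4 (.node 2 (.node 1 (.one ⟨3205, 1, 9⟩) (.one ⟨12894, 1, 8⟩)) (.node 1 (.one ⟨12683, 2, 7⟩) (.one ⟨4936, 1, 9⟩))) (.node 2 (.node 1 (.one ⟨12145, 1, 10⟩) (.one ⟨1227, 1, 9⟩)) (.node 1 (.one ⟨7221, 2, 8⟩) (.one ⟨17031, 2, 7⟩)))) (.node 4 (.node 2 (.node 1 (.one ⟨14692, 1, 5⟩) (.one ⟨1970, 2, 9⟩)) (.node 1 (.one ⟨1263, 1, 8⟩) (.one ⟨17160, 2, 6⟩))) (.node 2 (.node 1 (.one ⟨13652, 2, 10⟩) (.one ⟨2777, 1, 7⟩)) (.node 1 (.one ⟨6118, 1, 7⟩) (.one ⟨2856, 2, 9⟩)))))))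
def par10_13_7 : Arr Par :=
  (.node 32 (.node 16 (.node 8 (.node 4 (.node 2 (.node 1 (.one ⟨13615, 2, 9⟩) (.one ⟨13438, 0, 9⟩)) (.node 1 (.one ⟨15456, 2, 9⟩) (.one ⟨4132, 2, 11⟩))) (.node 2 (.node 1 (.one ⟨16839, 2, 8⟩) (.one ⟨4716, 2, 10⟩)) (.node 1 (.one ⟨9135, 1, 7⟩) (.one ⟨5403, 1, 8⟩)))) (.node 4 (.node 2 (.node 1 (.one ⟨9205, 2, 8⟩) (.one ⟨16132, 2, 9⟩)) (.node 1 (.one ⟨2793, 1, 9⟩) (.one ⟨2594, 2, 8⟩))) (.node 2 (.node 1 (.one ⟨7026, 2, 9⟩) (.one ⟨6555, 0, 9⟩)) (.node 1 (.one ⟨10780, 0, 7⟩) (.one ⟨11285, 2, 8⟩))))) (.node 8 (.node 4 (.node 2 (.node 1 (.one ⟨4577, 2, 8⟩) (.one ⟨1874, 2, 9⟩)) (.node 1 (.one ⟨12389, 2, 9⟩) (.one ⟨13324, 2, 7⟩))) (.node 2 (.node 1 (.one ⟨2868, 1, 10⟩) (.one ⟨6055, 0, 9⟩)) (.node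 1 (.one ⟨9936, 0, 9⟩) (.one ⟨4518, 0, 6⟩)))) (.node 4 (.node 2 (.node 1 (.one ⟨10286, 2, 7⟩) (.one ⟨3283, 0, 9⟩)) (.node 1 (.one ⟨10280, 2, 8⟩) (.one ⟨10284, 2, 5⟩))) (.node 2 (.node 1 (.one ⟨8631, 1, 9⟩) (.one ⟨10282, 2, 5⟩)) (.node 1 (.one ⟨12435, 1, 7⟩) (.one ⟨13439, 1, 7⟩)))))) (.node 16 (.node 8 (.node 4 (.node 2 (.node 1 (.one ⟨8363, 1, 9⟩) (.one ⟨9405, 1, 5⟩)) (.node 1 (.one ⟨6626, 1, 10⟩) (.one ⟨3725, 2, 8⟩))) (.node 2 (.node 1 (.one ⟨13922, 0, 8⟩) (.one ⟨10070, 0, 6⟩)) (.node 1 (.one ⟨2770, 2, 9⟩) (.one ⟨9141, 1, 10⟩)))) (.node 4 (.node 2 (.node 1 (.one ⟨14811, 2, 6⟩) (.one ⟨11843, 0, 5⟩)) (.node 1 (.one ⟨8376, 1, 9⟩) (.one ⟨15864, 0, 9⟩))) (.node 2 (.node 1 (.one ⟨13183, 0, 10⟩) (.one ⟨14579, 0, 9⟩)) (.node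 1 (.one ⟨11178, 0, 10⟩) (.one ⟨2434, 2, 11⟩))))) (.node 8 (.node 4 (.node 2 (.node 1 (.one ⟨12907, 0, 11⟩) (.one ⟨9785, 2, 7⟩)) (.node 1 (.one ⟨2278, 2, 10⟩) (.one ⟨16538, 0, 10⟩))) (.node 2 (.node 1 (.one ⟨15431, 2, 9⟩) (.one ⟨9222, 0, 10⟩)) (.node 1 (.one ⟨7334, 0, 10⟩) (.one ⟨10090, 0, 8⟩)))) (.node 4 (.node 2 (.node 1 (.one ⟨17184, 0, 9⟩) (.one ⟨1624, 2, 9⟩)) (.node 1 (.one ⟨9760, 2, 11⟩) (.one ⟨13903, 2, 9⟩))) (.node 2 (.node 1 (.one ⟨16999, 0, 9⟩) (.one ⟨13791, 2, 8⟩)) (.node 1 (.one ⟨13548, 0, 10⟩) (.one ⟨5087, 0, 9⟩)))))))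
def par10_13_8 : Arr Par :=
  (.node 32 (.node 16 (.node 8 (.node 4 (.node 2 (.node 1 (.one ⟨15004, 1, 8⟩) (.one ⟨45, 2, 10⟩)) (.node 1 (.one ⟨8641, 1, 9⟩) (.one ⟨15688, 1, 8⟩))) (.node 2 (.node 1 (.one ⟨3800, 2, 9⟩) (.one ⟨12112, 2, 6⟩)) (.node 1 (.one ⟨4417, 2, 10⟩) (.one ⟨7046, 2, 8⟩)))) (.node 4 (.node 2 (.node 1 (.one ⟨13648, 0, 5⟩) (.one ⟨1417, 2, 7⟩)) (.node 1 (.one ⟨10793, 0, 8⟩) (.one ⟨2899, 1, 5⟩))) (.node 2 (.node 1 (.one ⟨13647, 0, 7⟩) (.one ⟨13651, 0, 6⟩)) (.node 1 (.one ⟨13940, 2, 9⟩) (.one ⟨1832, 2, 9⟩))))) (.node 8 (.node 4 (.node 2 (.node 1 (.one ⟨3367, 2, 10⟩) (.one ⟨10963, 1, 9⟩)) (.node 1 (.one ⟨1776, 0, 1⟩) (.one ⟨3224, 2, 8⟩))) (.node 2 (.node 1 (.one ⟨1295, 2, 6⟩) (.one ⟨6976, 1, 9⟩)) (.node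 1 (.one ⟨8957, 2, 6⟩) (.one ⟨9421, 2, 5⟩)))) (.node 4 (.node 2 (.node 1 (.one ⟨12587, 0, 10⟩) (.one ⟨15707, 0, 8⟩)) (.node 1 (.one ⟨14474, 1, 6⟩) (.one ⟨9793, 2, 5⟩))) (.node 2 (.node 1 (.one ⟨12583, 0, 10⟩) (.one ⟨15705, 0, 8⟩)) (.node 1 (.one ⟨1220, 1, 6⟩) (.one ⟨2060, 1, 7⟩)))))) (.node 16 (.node 8 (.node 4 (.node 2 (.node 1 (.one ⟨12669, 2, 8⟩) (.one ⟨9126, 2, 6⟩)) (.node 1 (.one ⟨15820, 2, 10⟩) (.one ⟨9403, 1, 7⟩))) (.node 2 (.node 1 (.one ⟨6791, 2, 10⟩) (.one ⟨11559, 2, 7⟩)) (.node 1 (.one ⟨12377, 1, 8⟩) (.one ⟨3058, 2, 5⟩)))) (.node 4 (.node 2 (.node 1 (.one ⟨3076, 1, 11⟩) (.one ⟨5774, 1, 8⟩)) (.node 1 (.one ⟨12897, 1, 8⟩) (.one ⟨9617, 0, 8⟩))) (.node 2 (.node 1 (.one ⟨8085, 2, 8⟩) (.one ⟨9142, 1, 10⟩)) (.node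 1 (.one ⟨16518, 2, 7⟩) (.one ⟨16375, 1, 10⟩))))) (.node 8 (.node 4 (.node 2 (.node 1 (.one ⟨15672, 1, 9⟩) (.one ⟨11108, 2, 10⟩)) (.node 1 (.one ⟨3106, 2, 9⟩) (.one ⟨4020, 0, 5⟩))) (.node 2 (.node 1 (.one ⟨9254, 0, 11⟩) (.one ⟨10968, 0, 8⟩)) (.node 1 (.one ⟨10143, 2, 9⟩) (.one ⟨9961, 0, 9⟩)))) (.node 4 (.node 2 (.node 1 (.one ⟨3244, 1, 9⟩) (.one ⟨16360, 2, 9⟩)) (.node 1 (.one ⟨7927, 0, 9⟩) (.one ⟨1429, 2, 10⟩))) (.node 2 (.node 1 (.one ⟨10889, 1, 10⟩) (.one ⟨9691, 2, 12⟩)) (.node 1 (.one ⟨16246, 2, 9⟩) (.one ⟨1417, 1, 7⟩)))))))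
def par10_13_9 : Arr Par :=
  (.node 32 (.node 16 (.node 8 (.node 4 (.node 2 (.node 1 (.one ⟨10865, 1, 11⟩) (.one ⟨13942, 1, 7⟩)) (.node 1 (.one ⟨6585, 1, 8⟩) (.one ⟨10067, 0, 10⟩))) (.node 2 (.node 1 (.one ⟨6613, 1, 7⟩) (.one ⟨7655, 0, 9⟩)) (.node 1 (.one ⟨10906, 1, 9⟩) (.one ⟨3632, 1, 11⟩)))) (.node 4 (.node 2 (.node 1 (.one ⟨1678, 2, 8⟩) (.one ⟨5851, 1, 10⟩)) (.node 1 (.one ⟨8480, 2, 10⟩) (.one ⟨11754, 1, 9⟩))) (.node 2 (.node 1 (.one ⟨9523, 2, 8⟩) (.one ⟨15478, 0, 6⟩)) (.node 1 (.one ⟨7365, 0, 7⟩) (.one ⟨3600, 2, 8⟩))))) (.node 8 (.node 4 (.node 2 (.node 1 (.one ⟨6334, 0, 9⟩) (.one ⟨7911, 2, 10⟩)) (.node 1 (.one ⟨16799, 2, 6⟩) (.one ⟨6891, 2, 8⟩))) (.node 2 (.node 1 (.one ⟨14176, 2, 9⟩) (.one ⟨10199, 1, 9⟩))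 (.node 1 (.one ⟨9225, 2, 9⟩) (.one ⟨74, 2, 6⟩)))) (.node 4 (.node 2 (.node 1 (.one ⟨4145, 1, 11⟩) (.one ⟨581, 2, 10⟩)) (.node 1 (.one ⟨77, 2, 8⟩) (.one ⟨1289, 2, 9⟩))) (.node 2 (.node 1 (.one ⟨12132, 1, 8⟩) (.one ⟨1293, 2, 8⟩)) (.node 1 (.one ⟨1290, 2, 8⟩) (.one ⟨16974, 2, 5⟩)))))) (.node 16 (.node 8 (.node 4 (.node 2 (.node 1 (.one ⟨2100, 2, 7⟩) (.one ⟨16738, 1, 7⟩)) (.node 1 (.one ⟨15086, 2, 7⟩) (.one ⟨2849, 1, 6⟩))) (.node 2 (.node 1 (.one ⟨12270, 2, 7⟩) (.one ⟨9614, 2, 7⟩)) (.node 1 (.one ⟨9108, 2, 10⟩) (.one ⟨11459, 2, 8⟩)))) (.node 4 (.node 2 (.node 1 (.one ⟨9855, 0, 9⟩) (.one ⟨4329, 2, 8⟩)) (.node 1 (.one ⟨3496, 2, 7⟩) (.one ⟨13732, 1, 11⟩))) (.node 2 (.node 1 (.one ⟨13125, 0, 8⟩) (.one ⟨12889, 2, 8⟩)) (.node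 1 (.one ⟨9200, 2, 8⟩) (.one ⟨10945, 1, 6⟩))))) (.node 8 (.node 4 (.node 2 (.node 1 (.one ⟨15569, 2, 8⟩) (.one ⟨16492, 2, 9⟩)) (.node 1 (.one ⟨15563, 0, 4⟩) (.one ⟨5680, 0, 7⟩))) (.node 2 (.node 1 (.one ⟨9462, 2, 8⟩) (.one ⟨12329, 2, 8⟩)) (.node 1 (.one ⟨10295, 2, 6⟩) (.one ⟨1682, 2, 8⟩)))) (.node 4 (.node 2 (.node 1 (.one ⟨13901, 1, 7⟩) (.one ⟨7656, 1, 9⟩)) (.node 1 (.one ⟨7153, 2, 10⟩) (.one ⟨7582, 0, 10⟩))) (.node 2 (.node 1 (.one ⟨9234, 2, 9⟩) (.one ⟨3973, 0, 10⟩)) (.node 1 (.one ⟨15177, 2, 8⟩) (.one ⟨5521, 0, 10⟩)))))))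
def par10_13_10 : Arr Par :=
  (.node 32 (.node 16 (.node 8 (.node 4 (.node 2 (.node 1 (.one ⟨3645, 1, 6⟩) (.one ⟨12047, 1, 10⟩)) (.node 1 (.one ⟨5251, 2, 4⟩) (.one ⟨10881, 2, 7⟩))) (.node 2 (.node 1 (.one ⟨5544, 0, 8⟩) (.one ⟨2836, 0, 10⟩)) (.node 1 (.one ⟨10635, 1, 9⟩) (.one ⟨13828, 0, 10⟩)))) (.node 4 (.node 2 (.node 1 (.one ⟨14674, 1, 5⟩) (.one ⟨10150, 0, 7⟩)) (.node 1 (.one ⟨3629, 0, 9⟩) (.one ⟨2174, 0, 8⟩))) (.node 2 (.node 1 (.one ⟨9553, 1, 9⟩) (.one ⟨5913, 0, 7⟩)) (.node 1 (.one ⟨16096, 0, 10⟩) (.one ⟨8524, 2, 9⟩))))) (.node 8 (.node 4 (.node 2 (.node 1 (.one ⟨15648, 2, 6⟩) (.one ⟨12076, 2, 9⟩)) (.node 1 (.one ⟨232, 2, 8⟩) (.one ⟨5743, 0, 10⟩))) (.node 2 (.node 1 (.one ⟨9887, 0, 10⟩) (.one ⟨6810, 2, 6⟩))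 (.node 1 (.one ⟨17021, 2, 6⟩) (.one ⟨9548, 1, 10⟩)))) (.node 4 (.node 2 (.node 1 (.one ⟨9966, 0, 7⟩) (.one ⟨1593, 2, 10⟩)) (.node 1 (.one ⟨7901, 1, 8⟩) (.one ⟨16737, 2, 6⟩))) (.node 2 (.node 1 (.one ⟨15710, 1, 10⟩) (.one ⟨13054, 2, 8⟩)) (.node 1 (.one ⟨11850, 1, 8⟩) (.one ⟨6271, 2, 10⟩)))))) (.node 16 (.node 8 (.node 4 (.node 2 (.node 1 (.one ⟨16466, 2, 8⟩) (.one ⟨12542, 0, 7⟩)) (.node 1 (.one ⟨7939, 2, 10⟩) (.one ⟨16168, 0, 7⟩))) (.node 2 (.node 1 (.one ⟨11411, 0, 7⟩) (.one ⟨1146, 1, 9⟩)) (.node 1 (.one ⟨4275, 2, 9⟩) (.one ⟨12074, 2, 10⟩)))) (.node 4 (.node 2 (.node 1 (.one ⟨4104, 1, 11⟩) (.one ⟨3128, 2, 8⟩)) (.node 1 (.one ⟨12793, 2, 11⟩) (.one ⟨12709, 2, 8⟩))) (.node 2 (.node 1 (.one ⟨3222, 2, 11⟩) (.one ⟨1611,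 2, 10⟩)) (.node 1 (.one ⟨11972, 2, 10⟩) (.one ⟨13000, 2, 8⟩))))) (.node 8 (.node 4 (.node 2 (.node 1 (.one ⟨3533, 1, 11⟩) (.one ⟨11110, 0, 3⟩)) (.node 1 (.one ⟨12980, 2, 9⟩) (.one ⟨12304, 0, 6⟩))) (.node 2 (.node 1 (.one ⟨10493, 0, 5⟩) (.one ⟨2828, 0, 4⟩)) (.node 1 (.one ⟨14096, 1, 11⟩) (.one ⟨8990, 1, 10⟩)))) (.node 4 (.node 2 (.node 1 (.one ⟨11662, 1, 12⟩) (.one ⟨8692, 2, 10⟩)) (.node 1 (.one ⟨3509, 1, 8⟩) (.one ⟨8063, 0, 5⟩))) (.node 2 (.node 1 (.one ⟨9713, 1, 11⟩) (.one ⟨15152, 1, 7⟩)) (.node 1 (.one ⟨10164, 2, 9⟩) (.one ⟨10831, 1, 7⟩)))))))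
def par10_13_11 : Arr Par :=
  (.node 32 (.node 16 (.node 8 (.node 4 (.node 2 (.node 1 (.one ⟨8034, 1, 10⟩) (.one ⟨9742, 2, 9⟩)) (.node 1 (.one ⟨7408, 0, 6⟩) (.one ⟨10176, 2, 6⟩))) (.node 2 (.node 1 (.one ⟨9156, 0, 8⟩) (.one ⟨13922, 2, 8⟩)) (.node 1 (.one ⟨16810, 0, 8⟩) (.one ⟨16186, 2, 8⟩)))) (.node 4 (.node 2 (.node 1 (.one ⟨13489, 0, 8⟩) (.one ⟨16166, 1, 10⟩)) (.node 1 (.one ⟨14751, 2, 7⟩) (.one ⟨15828, 2, 7⟩))) (.node 2 (.node 1 (.one ⟨13488, 0, 7⟩) (.one ⟨13242, 2, 8⟩)) (.node 1 (.one ⟨15372, 2, 9⟩) (.one ⟨15270, 1, 6⟩))))) (.node 8 (.node 4 (.node 2 (.node 1 (.one ⟨13837, 0, 7⟩) (.one ⟨9752, 2, 6⟩)) (.node 1 (.one ⟨13832, 0, 6⟩) (.one ⟨13838, 0, 10⟩))) (.node 2 (.node 1 (.one ⟨13836, 0, 8⟩) (.one ⟨12421, 2,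 8⟩)) (.node 1 (.one ⟨13833, 0, 8⟩) (.one ⟨6332, 0, 6⟩)))) (.node 4 (.node 2 (.node 1 (.one ⟨15172, 2, 9⟩) (.one ⟨14078, 1, 5⟩)) (.node 1 (.one ⟨14262, 2, 9⟩) (.one ⟨16456, 1, 6⟩))) (.node 2 (.node 1 (.one ⟨16448, 0, 9⟩) (.one ⟨15218, 2, 8⟩)) (.node 1 (.one ⟨15189, 2, 10⟩) (.one ⟨13011, 1, 10⟩)))))) (.node 16 (.node 8 (.node 4 (.node 2 (.node 1 (.one ⟨8416, 2, 8⟩) (.one ⟨9464, 1, 9⟩)) (.node 1 (.one ⟨16497, 0, 9⟩) (.one ⟨8600, 2, 8⟩))) (.node 2 (.node 1 (.one ⟨3200, 1, 9⟩) (.one ⟨11210, 1, 10⟩)) (.node 1 (.one ⟨4331, 1, 9⟩) (.one ⟨10023, 1, 8⟩)))) (.node 4 (.node 2 (.node 1 (.one ⟨4687, 1, 10⟩) (.one ⟨14977, 2, 10⟩)) (.node 1 (.one ⟨1456, 1, 10⟩) (.one ⟨113, 2, 9⟩))) (.node 2 (.node 1 (.one ⟨11711, 2, 10⟩) (.one ⟨10888,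 0, 8⟩)) (.node 1 (.one ⟨16632, 1, 10⟩) (.one ⟨4462, 2, 7⟩))))) (.node 8 (.node 4 (.node 2 (.node 1 (.one ⟨9784, 2, 11⟩) (.one ⟨8471, 2, 10⟩)) (.node 1 (.one ⟨1639, 1, 9⟩) (.one ⟨13126, 0, 9⟩))) (.node 2 (.node 1 (.one ⟨15161, 2, 8⟩) (.one ⟨4087, 2, 9⟩)) (.node 1 (.one ⟨15155, 0, 10⟩) (.one ⟨1849, 0, 9⟩)))) (.node 4 (.node 2 (.node 1 (.one ⟨6530, 0, 5⟩) (.one ⟨6809, 2, 10⟩)) (.node 1 (.one ⟨1231, 2, 8⟩) (.one ⟨12596, 2, 6⟩))) (.node 2 (.node 1 (.one ⟨1455, 1, 9⟩) (.one ⟨363, 1, 9⟩)) (.node 1 (.one ⟨1577, 2, 4⟩) (.one ⟨8319, 2, 8⟩)))))))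
def par10_13_12 : Arr Par :=
  (.node 32 (.node 16 (.node 8 (.node 4 (.node 2 (.node 1 (.one ⟨1043, 2, 7⟩) (.one ⟨5904, 0, 7⟩)) (.node 1 (.one ⟨8326, 2, 7⟩) (.one ⟨15598, 1, 10⟩))) (.node 2 (.node 1 (.one ⟨1627, 1, 7⟩) (.one ⟨353, 2, 8⟩)) (.node 1 (.one ⟨9461, 1, 8⟩) (.one ⟨9626, 2, 7⟩)))) (.node 4 (.node 2 (.node 1 (.one ⟨7344, 2, 9⟩) (.one ⟨16622, 1, 9⟩)) (.node 1 (.one ⟨17056, 0, 6⟩) (.one ⟨9955, 0, 9⟩))) (.node 2 (.node 1 (.one ⟨10268, 0, 8⟩) (.one ⟨7886, 0, 9⟩)) (.node 1 (.one ⟨7993, 0, 8⟩) (.one ⟨16574, 2, 9⟩))))) (.node 8 (.node 4 (.node 2 (.node 1 (.one ⟨10417, 2, 10⟩) (.one ⟨11678, 1, 9⟩)) (.node 1 (.one ⟨10840, 2, 6⟩) (.one ⟨13648, 2, 5⟩))) (.node 2 (.node 1 (.one ⟨13523, 2, 7⟩) (.one ⟨3571, 1, 10⟩)) (.node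 1 (.one ⟨11846, 2, 8⟩) (.one ⟨12701, 2, 9⟩)))) (.node 4 (.node 2 (.node 1 (.one ⟨13497, 1, 10⟩) (.one ⟨15291, 1, 9⟩)) (.node 1 (.one ⟨5528, 1, 10⟩) (.one ⟨8107, 1, 8⟩))) (.node 2 (.node 1 (.one ⟨1329, 2, 9⟩) (.one ⟨3447, 2, 9⟩)) (.node 1 (.one ⟨1442, 1, 8⟩) (.one ⟨10608, 2, 10⟩)))))) (.node 16 (.node 8 (.node 4 (.node 2 (.node 1 (.one ⟨12747, 2, 4⟩) (.one ⟨13439, 0, 7⟩)) (.node 1 (.one ⟨217, 0, 7⟩) (.one ⟨7328, 2, 8⟩))) (.node 2 (.node 1 (.one ⟨7916, 2, 7⟩) (.one ⟨11993, 0, 9⟩)) (.node 1 (.one ⟨10631, 2, 7⟩) (.one ⟨211, 0, 9⟩)))) (.node 4 (.node 2 (.node 1 (.one ⟨16210, 0, 9⟩) (.one ⟨9408, 2, 9⟩)) (.node 1 (.one ⟨2854, 2, 7⟩) (.one ⟨4166, 0, 8⟩))) (.node 2 (.node 1 (.one ⟨12301, 1, 6⟩) (.one ⟨1684, 2, 10⟩)) (.node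 1 (.one ⟨9697, 1, 7⟩) (.one ⟨1691, 1, 10⟩))))) (.node 8 (.node 4 (.node 2 (.node 1 (.one ⟨12214, 2, 10⟩) (.one ⟨17176, 2, 9⟩)) (.node 1 (.one ⟨6190, 2, 10⟩) (.one ⟨1808, 1, 7⟩))) (.node 2 (.node 1 (.one ⟨13398, 2, 10⟩) (.one ⟨11384, 1, 9⟩)) (.node 1 (.one ⟨6998, 2, 10⟩) (.one ⟨12658, 2, 7⟩)))) (.node 4 (.node 2 (.node 1 (.one ⟨704, 2, 10⟩) (.one ⟨5235, 0, 9⟩)) (.node 1 (.one ⟨5922, 0, 10⟩) (.one ⟨14703, 2, 12⟩))) (.node 2 (.node 1 (.one ⟨13278, 0, 6⟩) (.one ⟨9527, 2, 6⟩)) (.node 1 (.one ⟨9579, 0, 9⟩) (.one ⟨3563, 2, 10⟩)))))))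
def par10_13_13 : Arr Par :=
  (.node 32 (.node 16 (.node 8 (.node 4 (.node 2 (.node 1 (.one ⟨17165, 1, 12⟩) (.one ⟨15696, 2, 5⟩)) (.node 1 (.one ⟨9343, 2, 6⟩) (.one ⟨3934, 2, 10⟩))) (.node 2 (.node 1 (.one ⟨5333, 0, 8⟩) (.one ⟨16226, 2, 9⟩)) (.node 1 (.one ⟨10442, 2, 11⟩) (.one ⟨14497, 2, 3⟩)))) (.node 4 (.node 2 (.node 1 (.one ⟨4200, 0, 10⟩) (.one ⟨13728, 1, 8⟩)) (.node 1 (.one ⟨2079, 2, 9⟩) (.one ⟨11976, 0, 10⟩))) (.node 2 (.node 1 (.one ⟨12294, 2, 6⟩) (.one ⟨7696, 2, 10⟩)) (.node 1 (.one ⟨6455, 2, 7⟩) (.one ⟨6353, 0, 9⟩))))) (.node 8 (.node 4 (.node 2 (.node 1 (.one ⟨14902, 0, 9⟩) (.one ⟨1611, 1, 10⟩)) (.node 1 (.one ⟨6765, 2, 11⟩) (.one ⟨3987, 2, 7⟩))) (.node 2 (.node 1 (.one ⟨1774, 1, 7⟩) (.one ⟨15443, 1, 9⟩))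 (.node 1 (.one ⟨15173, 2, 9⟩) (.one ⟨12193, 2, 8⟩)))) (.node 4 (.node 2 (.node 1 (.one ⟨4255, 2, 10⟩) (.one ⟨16212, 1, 9⟩)) (.node 1 (.one ⟨10163, 2, 10⟩) (.one ⟨11983, 0, 9⟩))) (.node 2 (.node 1 (.one ⟨13176, 2, 6⟩) (.one ⟨3619, 1, 8⟩)) (.node 1 (.one ⟨12315, 1, 5⟩) (.one ⟨710, 0, 9⟩)))))) (.node 16 (.node 8 (.node 4 (.node 2 (.node 1 (.one ⟨8659, 1, 8⟩) (.one ⟨4176, 2, 10⟩)) (.node 1 (.one ⟨16849, 2, 4⟩) (.one ⟨1508, 1, 7⟩))) (.node 2 (.node 1 (.one ⟨14309, 1, 9⟩) (.one ⟨15930, 2, 8⟩)) (.node 1 (.one ⟨16816, 1, 5⟩) (.one ⟨2309, 2, 7⟩)))) (.node 4 (.node 2 (.node 1 (.one ⟨4743, 2, 8⟩) (.one ⟨2700, 0, 11⟩)) (.node 1 (.one ⟨1323, 2, 7⟩) (.one ⟨10342, 2, 4⟩))) (.node 2 (.node 1 (.one ⟨12713, 2, 10⟩) (.one ⟨6806, 0,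 8⟩)) (.node 1 (.one ⟨2929, 0, 5⟩) (.one ⟨14669, 0, 10⟩))))) (.node 8 (.node 4 (.node 2 (.node 1 (.one ⟨17163, 2, 10⟩) (.one ⟨13312, 1, 7⟩)) (.node 1 (.one ⟨1548, 2, 11⟩) (.one ⟨12790, 2, 7⟩))) (.node 2 (.node 1 (.one ⟨4818, 0, 8⟩) (.one ⟨3693, 0, 4⟩)) (.node 1 (.one ⟨8228, 0, 10⟩) (.one ⟨11709, 0, 6⟩)))) (.node 4 (.node 2 (.node 1 (.one ⟨15753, 0, 10⟩) (.one ⟨5988, 0, 10⟩)) (.node 1 (.one ⟨10218, 1, 8⟩) (.one ⟨4482, 2, 10⟩))) (.node 2 (.node 1 (.one ⟨2627, 2, 9⟩) (.one ⟨4151, 2, 8⟩)) (.node 1 (.one ⟨4660, 0, 9⟩) (.one ⟨6722, 2, 9⟩)))))))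
def par10_13_14 : Arr Par :=
  (.node 32 (.node 16 (.node 8 (.node 4 (.node 2 (.node 1 (.one ⟨5702, 2, 11⟩) (.one ⟨5769, 2, 9⟩)) (.node 1 (.one ⟨6780, 2, 9⟩) (.one ⟨14791, 2, 4⟩))) (.node 2 (.node 1 (.one ⟨8224, 0, 6⟩) (.one ⟨784, 0, 9⟩)) (.node 1 (.one ⟨7710, 0, 9⟩) (.one ⟨5173, 2, 9⟩)))) (.node 4 (.node 2 (.node 1 (.one ⟨13312, 0, 7⟩) (.one ⟨9580, 2, 9⟩)) (.node 1 (.one ⟨12254, 1, 8⟩) (.one ⟨12844, 2, 9⟩))) (.node 2 (.node 1 (.one ⟨13340, 2, 11⟩) (.one ⟨1950, 1, 8⟩)) (.node 1 (.one ⟨334, 2, 8⟩) (.one ⟨2046, 0, 8⟩))))) (.node 8 (.node 4 (.node 2 (.node 1 (.one ⟨9505, 2, 7⟩) (.one ⟨5393, 2, 9⟩)) (.node 1 (.one ⟨7699, 0, 10⟩) (.one ⟨5220, 2, 8⟩))) (.node 2 (.node 1 (.one ⟨7532, 0, 8⟩) (.one ⟨627, 1, 9⟩)) (.node 1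 (.one ⟨8103, 0, 8⟩) (.one ⟨10901, 2, 9⟩)))) (.node 4 (.node 2 (.node 1 (.one ⟨16710, 2, 7⟩) (.one ⟨16271, 0, 9⟩)) (.node 1 (.one ⟨5566, 1, 7⟩) (.one ⟨517, 2, 10⟩))) (.node 2 (.node 1 (.one ⟨16144, 0, 7⟩) (.one ⟨2859, 1, 9⟩)) (.node 1 (.one ⟨12780, 2, 8⟩) (.one ⟨1602, 2, 9⟩)))))) (.node 16 (.node 8 (.node 4 (.node 2 (.node 1 (.one ⟨3621, 2, 10⟩) (.one ⟨9409, 2, 8⟩)) (.node 1 (.one ⟨11587, 2, 10⟩) (.one ⟨12788, 2, 10⟩))) (.node 2 (.node 1 (.one ⟨13934, 0, 9⟩) (.one ⟨4638, 2, 9⟩)) (.node 1 (.one ⟨2749, 2, 7⟩) (.one ⟨1660, 0, 10⟩)))) (.node 4 (.node 2 (.node 1 (.one ⟨4924, 0, 8⟩) (.one ⟨6323, 2, 9⟩)) (.node 1 (.one ⟨14686, 2, 7⟩) (.one ⟨7870, 1, 10⟩))) (.node 2 (.node 1 (.one ⟨1571, 1, 8⟩) (.one ⟨4776, 1, 8⟩)) (.node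 1 (.one ⟨1301, 2, 10⟩) (.one ⟨5021, 0, 10⟩))))) (.node 8 (.node 4 (.node 2 (.node 1 (.one ⟨6794, 2, 6⟩) (.one ⟨12544, 0, 7⟩)) (.node 1 (.one ⟨8764, 2, 9⟩) (.one ⟨12783, 1, 10⟩))) (.node 2 (.node 1 (.one ⟨1882, 0, 6⟩) (.one ⟨12196, 0, 8⟩)) (.node 1 (.one ⟨8946, 2, 8⟩) (.one ⟨5015, 1, 8⟩)))) (.node 4 (.node 2 (.node 1 (.one ⟨13518, 1, 10⟩) (.one ⟨1660, 1, 10⟩)) (.node 1 (.one ⟨10450, 1, 9⟩) (.one ⟨12890, 1, 9⟩))) (.node 2 (.node 1 (.one ⟨12562, 2, 7⟩) (.one ⟨10102, 1, 10⟩)) (.node 1 (.one ⟨11344, 2, 9⟩) (.one ⟨7296, 0, 9⟩)))))))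
def par10_13_15 : Arr Par :=
  (.node 32 (.node 16 (.node 8 (.node 4 (.node 2 (.node 1 (.one ⟨9415, 2, 8⟩) (.one ⟨14172, 2, 7⟩)) (.node 1 (.one ⟨1896, 1, 9⟩) (.one ⟨1781, 2, 8⟩))) (.node 2 (.node 1 (.one ⟨15049, 1, 9⟩) (.one ⟨5942, 0, 9⟩)) (.node 1 (.one ⟨10048, 0, 10⟩) (.one ⟨11612, 1, 11⟩)))) (.node 4 (.node 2 (.node 1 (.one ⟨490, 1, 10⟩) (.one ⟨16370, 2, 9⟩)) (.node 1 (.one ⟨6177, 0, 8⟩) (.one ⟨2187, 2, 11⟩))) (.node 2 (.node 1 (.one ⟨2718, 2, 8⟩) (.one ⟨11395, 0, 9⟩)) (.node 1 (.one ⟨9268, 2, 9⟩) (.one ⟨14296, 2, 9⟩))))) (.node 8 (.node 4 (.node 2 (.node 1 (.one ⟨4751, 0, 6⟩) (.one ⟨9045, 1, 8⟩)) (.node 1 (.one ⟨11330, 1, 7⟩) (.one ⟨5513, 2, 10⟩))) (.node 2 (.node 1 (.one ⟨15208, 0, 10⟩) (.one ⟨2468, 2, 9⟩))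 (.node 1 (.one ⟨13779, 2, 8⟩) (.one ⟨7355, 1, 9⟩)))) (.node 4 (.node 2 (.node 1 (.one ⟨16774, 0, 8⟩) (.one ⟨506, 2, 8⟩)) (.node 1 (.one ⟨7821, 2, 8⟩) (.one ⟨4702, 0, 10⟩))) (.node 2 (.node 1 (.one ⟨15093, 2, 5⟩) (.one ⟨15598, 0, 10⟩)) (.node 1 (.one ⟨15134, 2, 8⟩) (.one ⟨6250, 0, 9⟩)))))) (.node 16 (.node 8 (.node 4 (.node 2 (.node 1 (.one ⟨8987, 0, 11⟩) (.one ⟨15999, 0, 10⟩)) (.node 1 (.one ⟨5511, 2, 11⟩) (.one ⟨9400, 0, 9⟩))) (.node 2 (.node 1 (.one ⟨5126, 2, 9⟩) (.one ⟨4311, 0, 8⟩)) (.node 1 (.one ⟨3411, 0, 8⟩) (.one ⟨14340, 2, 8⟩)))) (.node 4 (.node 2 (.node 1 (.one ⟨7405, 2, 10⟩) (.one ⟨2810, 0, 8⟩)) (.node 1 (.one ⟨13847, 2, 6⟩) (.one ⟨10809, 2, 7⟩))) (.node 2 (.node 1 (.one ⟨1266, 2, 8⟩) (.one ⟨2355, 2, 10⟩))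 (.node 1 (.one ⟨11205, 2, 8⟩) (.one ⟨6664, 2, 7⟩))))) (.node 8 (.node 4 (.node 2 (.node 1 (.one ⟨6529, 2, 7⟩) (.one ⟨13002, 0, 8⟩)) (.node 1 (.one ⟨10770, 2, 8⟩) (.one ⟨9683, 1, 5⟩))) (.node 2 (.node 1 (.one ⟨10725, 2, 7⟩) (.one ⟨13001, 0, 5⟩)) (.node 1 (.one ⟨6451, 2, 8⟩) (.one ⟨8097, 2, 6⟩)))) (.node 4 (.node 2 (.node 1 (.one ⟨10191, 2, 10⟩) (.one ⟨16123, 1, 9⟩)) (.node 1 (.one ⟨15015, 2, 7⟩) (.one ⟨11099, 2, 5⟩))) (.node 2 (.node 1 (.one ⟨15581, 1, 8⟩) (.one ⟨9171, 0, 6⟩)) (.node 1 (.one ⟨10731, 0, 9⟩) (.one ⟨16541, 0, 10⟩)))))))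
def par10_13 : Arr Par :=
  (.node 512 (.node 256 (.node 128 (.node 64 par10_13_0 par10_13_1) (.node 64 par10_13_2 par10_13_3)) (.node 128 (.node 64 par10_13_4 par10_13_5) (.node 64 par10_13_6 par10_13_7))) (.node 256 (.node 128 (.node 64 par10_13_8 par10_13_9) (.node 64 par10_13_10 par10_13_11)) (.node 128 (.node 64 par10_13_12 par10_13_13) (.node 64 par10_13_14 par10_13_15))))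
def par10_14_0 : Arr Par :=
  (.node 32 (.node 16 (.node 8 (.node 4 (.node 2 (.node 1 (.one ⟨4461, 2, 10⟩) (.one ⟨12522, 1, 10⟩)) (.node 1 (.one ⟨15151, 0, 10⟩) (.one ⟨8178, 0, 10⟩))) (.node 2 (.node 1 (.one ⟨8597, 2, 7⟩) (.one ⟨6830, 2, 8⟩)) (.node 1 (.one ⟨5764, 0, 8⟩) (.one ⟨6303, 1, 9⟩)))) (.node 4 (.node 2 (.node 1 (.one ⟨14572, 2, 8⟩) (.one ⟨90, 1, 8⟩)) (.node 1 (.one ⟨14996, 0, 9⟩) (.one ⟨9567, 0, 10⟩))) (.node 2 (.node 1 (.one ⟨912, 2, 10⟩) (.one ⟨14571, 2, 8⟩)) (.node 1 (.one ⟨6305, 1, 10⟩) (.one ⟨7919, 0, 4⟩))))) (.node 8 (.node 4 (.node 2 (.node 1 (.one ⟨11240, 2, 8⟩) (.one ⟨3382, 2, 6⟩)) (.node 1 (.one ⟨1855, 1, 8⟩) (.one ⟨6495, 1, 7⟩))) (.node 2 (.node 1 (.one ⟨17113, 1, 9⟩) (.one ⟨940, 2, 5⟩)) (.node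 1 (.one ⟨14178, 0, 5⟩) (.one ⟨196, 2, 11⟩)))) (.node 4 (.node 2 (.node 1 (.one ⟨11405, 1, 11⟩) (.one ⟨12372, 0, 7⟩)) (.node 1 (.one ⟨7353, 1, 8⟩) (.one ⟨5390, 2, 8⟩))) (.node 2 (.node 1 (.one ⟨14710, 2, 9⟩) (.one ⟨16826, 1, 9⟩)) (.node 1 (.one ⟨8380, 1, 6⟩) (.one ⟨8002, 0, 10⟩)))))) (.node 16 (.node 8 (.node 4 (.node 2 (.node 1 (.one ⟨11653, 2, 9⟩) (.one ⟨12164, 2, 11⟩)) (.node 1 (.one ⟨1535, 2, 8⟩) (.one ⟨3590, 1, 8⟩))) (.node 2 (.node 1 (.one ⟨6325, 0, 10⟩) (.one ⟨17184, 1, 9⟩)) (.node 1 (.one ⟨2284, 2, 9⟩) (.one ⟨14197, 2, 5⟩)))) (.node 4 (.node 2 (.node 1 (.one ⟨14382, 0, 7⟩) (.one ⟨13477, 2, 9⟩)) (.node 1 (.one ⟨12811, 1, 9⟩) (.one ⟨10695, 2, 10⟩))) (.node 2 (.node 1 (.one ⟨11226, 2, 9⟩) (.one ⟨7639, 1, 7⟩))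 (.node 1 (.one ⟨14375, 0, 6⟩) (.one ⟨8701, 2, 9⟩))))) (.node 8 (.node 4 (.node 2 (.node 1 (.one ⟨16151, 1, 8⟩) (.one ⟨8607, 2, 8⟩)) (.node 1 (.one ⟨9859, 2, 10⟩) (.one ⟨10323, 0, 6⟩))) (.node 2 (.node 1 (.one ⟨7244, 0, 7⟩) (.one ⟨16786, 2, 8⟩)) (.node 1 (.one ⟨8130, 0, 9⟩) (.one ⟨16254, 2, 8⟩)))) (.node 4 (.node 2 (.node 1 (.one ⟨6152, 2, 8⟩) (.one ⟨12242, 2, 8⟩)) (.node 1 (.one ⟨716, 2, 9⟩) (.one ⟨13627, 2, 7⟩))) (.node 2 (.node 1 (.one ⟨9253, 1, 9⟩) (.one ⟨10202, 2, 8⟩)) (.node 1 (.one ⟨1452, 0, 8⟩) (.one ⟨3284, 1, 11⟩)))))))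
def par10_14_1 : Arr Par :=
  (.node 32 (.node 16 (.node 8 (.node 4 (.node 2 (.node 1 (.one ⟨12099, 1, 10⟩) (.one ⟨13572, 1, 10⟩)) (.node 1 (.one ⟨2618, 1, 9⟩) (.one ⟨9252, 1, 11⟩))) (.node 2 (.node 1 (.one ⟨4691, 1, 10⟩) (.one ⟨15438, 2, 7⟩)) (.node 1 (.one ⟨1100, 2, 6⟩) (.one ⟨4839, 2, 6⟩)))) (.node 4 (.node 2 (.node 1 (.one ⟨9514, 2, 9⟩) (.one ⟨6780, 0, 9⟩)) (.node 1 (.one ⟨16975, 2, 10⟩) (.one ⟨14172, 0, 7⟩))) (.node 2 (.node 1 (.one ⟨11416, 2, 6⟩) (.one ⟨6030, 1, 10⟩)) (.node 1 (.one ⟨6164, 1, 8⟩) (.one ⟨3852, 2, 10⟩))))) (.node 8 (.node 4 (.node 2 (.node 1 (.one ⟨2269, 2, 8⟩) (.one ⟨16591, 0, 9⟩)) (.node 1 (.one ⟨5389, 1, 10⟩) (.one ⟨13155, 2, 7⟩))) (.node 2 (.node 1 (.one ⟨2906, 0, 11⟩) (.one ⟨12631, 2, 11⟩))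 (.node 1 (.one ⟨11461, 2, 8⟩) (.one ⟨2386, 2, 4⟩)))) (.node 4 (.node 2 (.node 1 (.one ⟨8049, 2, 4⟩) (.one ⟨10349, 2, 4⟩)) (.node 1 (.one ⟨16006, 2, 9⟩) (.one ⟨12542, 2, 7⟩))) (.node 2 (.node 1 (.one ⟨16251, 0, 10⟩) (.one ⟨1564, 0, 7⟩)) (.node 1 (.one ⟨5600, 2, 10⟩) (.one ⟨2379, 1, 7⟩)))))) (.node 16 (.node 8 (.node 4 (.node 2 (.node 1 (.one ⟨12829, 1, 10⟩) (.one ⟨5516, 1, 9⟩)) (.node 1 (.one ⟨9952, 1, 7⟩) (.one ⟨17142, 2, 7⟩))) (.node 2 (.node 1 (.one ⟨609, 0, 9⟩) (.one ⟨16875, 2, 4⟩)) (.node 1 (.one ⟨5287, 1, 4⟩) (.one ⟨9040, 0, 6⟩)))) (.node 4 (.node 2 (.node 1 (.one ⟨4316, 0, 9⟩) (.one ⟨7147, 1, 9⟩)) (.node 1 (.one ⟨11928, 2, 11⟩) (.one ⟨1599, 1, 8⟩))) (.node 2 (.node 1 (.one ⟨6693, 0, 10⟩) (.one ⟨15673, 2, 8⟩))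 (.node 1 (.one ⟨1345, 1, 7⟩) (.one ⟨16918, 2, 7⟩))))) (.node 8 (.node 4 (.node 2 (.node 1 (.one ⟨10992, 2, 8⟩) (.one ⟨1041, 2, 3⟩)) (.node 1 (.one ⟨8353, 2, 5⟩) (.one ⟨1677, 0, 8⟩))) (.node 2 (.node 1 (.one ⟨13282, 2, 7⟩) (.one ⟨4428, 2, 10⟩)) (.node 1 (.one ⟨5890, 2, 8⟩) (.one ⟨12839, 0, 10⟩)))) (.node 4 (.node 2 (.node 1 (.one ⟨3124, 2, 8⟩) (.one ⟨3872, 2, 7⟩)) (.node 1 (.one ⟨10423, 0, 7⟩) (.one ⟨10684, 2, 9⟩))) (.node 2 (.node 1 (.one ⟨2086, 1, 4⟩) (.one ⟨3899, 2, 5⟩)) (.node 1 (.one ⟨12691, 2, 10⟩) (.one ⟨10714, 0, 10⟩)))))))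
def par10_14_2 : Arr Par :=
  (.node 32 (.node 16 (.node 8 (.node 4 (.node 2 (.node 1 (.one ⟨13514, 2, 9⟩) (.one ⟨10778, 1, 8⟩)) (.node 1 (.one ⟨6750, 2, 10⟩) (.one ⟨14960, 2, 7⟩))) (.node 2 (.node 1 (.one ⟨155, 2, 6⟩) (.one ⟨5080, 2, 9⟩)) (.node 1 (.one ⟨10776, 1, 11⟩) (.one ⟨13547, 0, 9⟩)))) (.node 4 (.node 2 (.node 1 (.one ⟨2338, 1, 8⟩) (.one ⟨2787, 0, 11⟩)) (.node 1 (.one ⟨7127, 0, 5⟩) (.one ⟨11775, 2, 8⟩))) (.node 2 (.node 1 (.one ⟨2831, 2, 11⟩) (.one ⟨1243, 1, 8⟩)) (.node 1 (.one ⟨2240, 1, 9⟩) (.one ⟨14519, 1, 6⟩))))) (.node 8 (.node 4 (.node 2 (.node 1 (.one ⟨10610, 0, 7⟩) (.one ⟨2925, 2, 8⟩)) (.node 1 (.one ⟨5902, 2, 10⟩) (.one ⟨6046, 0, 8⟩))) (.node 2 (.node 1 (.one ⟨9324, 0, 9⟩) (.one ⟨12756, 2, 8⟩)) (.node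 1 (.one ⟨2619, 0, 9⟩) (.one ⟨6771, 2, 8⟩)))) (.node 4 (.node 2 (.node 1 (.one ⟨10753, 1, 10⟩) (.one ⟨9648, 0, 5⟩)) (.node 1 (.one ⟨12635, 0, 7⟩) (.one ⟨681, 1, 8⟩))) (.node 2 (.node 1 (.one ⟨682, 1, 7⟩) (.one ⟨14993, 0, 5⟩)) (.node 1 (.one ⟨683, 1, 9⟩) (.one ⟨11345, 2, 9⟩)))))) (.node 16 (.node 8 (.node 4 (.node 2 (.node 1 (.one ⟨14030, 1, 10⟩) (.one ⟨3264, 2, 2⟩)) (.node 1 (.one ⟨2433, 2, 7⟩) (.one ⟨5858, 1, 5⟩))) (.node 2 (.node 1 (.one ⟨3312, 2, 10⟩) (.one ⟨12093, 0, 7⟩)) (.node 1 (.one ⟨11426, 2, 10⟩) (.one ⟨1627, 0, 7⟩)))) (.node 4 (.node 2 (.node 1 (.one ⟨728, 2, 8⟩) (.one ⟨16482, 0, 8⟩)) (.node 1 (.one ⟨9079, 2, 8⟩) (.one ⟨9699, 2, 9⟩))) (.node 2 (.node 1 (.one ⟨14764, 2, 7⟩) (.one ⟨16531, 0, 7⟩)) (.node 1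 (.one ⟨474, 1, 9⟩) (.one ⟨685, 1, 9⟩))))) (.node 8 (.node 4 (.node 2 (.node 1 (.one ⟨11591, 2, 6⟩) (.one ⟨4510, 2, 10⟩)) (.node 1 (.one ⟨12679, 2, 6⟩) (.one ⟨1350, 2, 5⟩))) (.node 2 (.node 1 (.one ⟨11546, 2, 11⟩) (.one ⟨2756, 2, 9⟩)) (.node 1 (.one ⟨4742, 0, 10⟩) (.one ⟨2391, 0, 5⟩)))) (.node 4 (.node 2 (.node 1 (.one ⟨9880, 0, 5⟩) (.one ⟨1245, 2, 9⟩)) (.node 1 (.one ⟨11910, 0, 7⟩) (.one ⟨10411, 0, 9⟩))) (.node 2 (.node 1 (.one ⟨2393, 1, 4⟩) (.one ⟨13693, 1, 7⟩)) (.node 1 (.one ⟨10232, 2, 9⟩) (.one ⟨8328, 1, 6⟩)))))))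
def par10_14_3 : Arr Par :=
  (.node 32 (.node 16 (.node 8 (.node 4 (.node 2 (.node 1 (.one ⟨10929, 0, 5⟩) (.one ⟨3213, 0, 9⟩)) (.node 1 (.one ⟨5599, 2, 7⟩) (.one ⟨5591, 1, 8⟩))) (.node 2 (.node 1 (.one ⟨14098, 0, 7⟩) (.one ⟨9880, 2, 5⟩)) (.node 1 (.one ⟨4547, 0, 9⟩) (.one ⟨12397, 2, 10⟩)))) (.node 4 (.node 2 (.node 1 (.one ⟨6094, 1, 8⟩) (.one ⟨8302, 0, 6⟩)) (.node 1 (.one ⟨7922, 0, 9⟩) (.one ⟨749, 2, 10⟩))) (.node 2 (.node 1 (.one ⟨3783, 1, 6⟩) (.one ⟨12141, 2, 5⟩)) (.node 1 (.one ⟨1481, 1, 8⟩) (.one ⟨4846, 2, 5⟩))))) (.node 8 (.node 4 (.node 2 (.node 1 (.one ⟨1472, 1, 9⟩) (.one ⟨2397, 2, 6⟩)) (.node 1 (.one ⟨6724, 2, 6⟩) (.one ⟨15551, 0, 8⟩))) (.node 2 (.node 1 (.one ⟨13938, 0, 5⟩) (.one ⟨15365, 0, 7⟩)) (.node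 1 (.one ⟨7141, 2, 8⟩) (.one ⟨2606, 0, 9⟩)))) (.node 4 (.node 2 (.node 1 (.one ⟨1483, 2, 8⟩) (.one ⟨9801, 0, 8⟩)) (.node 1 (.one ⟨339, 2, 8⟩) (.one ⟨9984, 2, 9⟩))) (.node 2 (.node 1 (.one ⟨16160, 2, 8⟩) (.one ⟨493, 1, 8⟩)) (.node 1 (.one ⟨16118, 2, 10⟩) (.one ⟨3226, 2, 10⟩)))))) (.node 16 (.node 8 (.node 4 (.node 2 (.node 1 (.one ⟨5163, 0, 7⟩) (.one ⟨7047, 2, 6⟩)) (.node 1 (.one ⟨5501, 2, 9⟩) (.one ⟨7909, 2, 7⟩))) (.node 2 (.node 1 (.one ⟨2509, 2, 7⟩) (.one ⟨254, 0, 9⟩)) (.node 1 (.one ⟨5924, 2, 8⟩) (.one ⟨109, 2, 9⟩)))) (.node 4 (.node 2 (.node 1 (.one ⟨6550, 2, 9⟩) (.one ⟨4534, 0, 9⟩)) (.node 1 (.one ⟨7880, 1, 9⟩) (.one ⟨10337, 2, 7⟩))) (.node 2 (.node 1 (.one ⟨14043, 2, 7⟩) (.one ⟨3695, 0, 9⟩)) (.node 1 (.one ⟨2694,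 2, 11⟩) (.one ⟨7411, 1, 6⟩))))) (.node 8 (.node 4 (.node 2 (.node 1 (.one ⟨12462, 2, 8⟩) (.one ⟨17067, 2, 11⟩)) (.node 1 (.one ⟨12369, 1, 7⟩) (.one ⟨1340, 2, 8⟩))) (.node 2 (.node 1 (.one ⟨12264, 2, 10⟩) (.one ⟨16967, 2, 7⟩)) (.node 1 (.one ⟨16000, 0, 10⟩) (.one ⟨7423, 0, 6⟩)))) (.node 4 (.node 2 (.node 1 (.one ⟨11281, 2, 7⟩) (.one ⟨6760, 2, 9⟩)) (.node 1 (.one ⟨7426, 0, 6⟩) (.one ⟨2875, 0, 9⟩))) (.node 2 (.node 1 (.one ⟨10581, 2, 9⟩) (.one ⟨7429, 0, 9⟩)) (.node 1 (.one ⟨7543, 1, 9⟩) (.one ⟨2301, 1, 10⟩)))))))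
def par10_14_4 : Arr Par :=
  (.node 32 (.node 16 (.node 8 (.node 4 (.node 2 (.node 1 (.one ⟨11630, 2, 7⟩) (.one ⟨16847, 1, 9⟩)) (.node 1 (.one ⟨864, 2, 10⟩) (.one ⟨14199, 0, 7⟩))) (.node 2 (.node 1 (.one ⟨11624, 2, 10⟩) (.one ⟨16522, 1, 6⟩)) (.node 1 (.one ⟨8833, 1, 8⟩) (.one ⟨5507, 1, 0⟩)))) (.node 4 (.node 2 (.node 1 (.one ⟨14247, 2, 11⟩) (.one ⟨14976, 0, 10⟩)) (.node 1 (.one ⟨13431, 2, 10⟩) (.one ⟨3811, 2, 9⟩))) (.node 2 (.node 1 (.one ⟨6684, 2, 6⟩) (.one ⟨7485, 2, 10⟩)) (.node 1 (.one ⟨1250, 0, 9⟩) (.one ⟨14663, 1, 9⟩))))) (.node 8 (.node 4 (.node 2 (.node 1 (.one ⟨12996, 2, 7⟩) (.one ⟨2350, 1, 9⟩)) (.node 1 (.one ⟨4939, 2, 7⟩) (.one ⟨17057, 0, 8⟩))) (.node 2 (.node 1 (.one ⟨3685, 2, 6⟩) (.one ⟨3676, 2, 6⟩))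 (.node 1 (.one ⟨15764, 0, 7⟩) (.one ⟨12609, 0, 10⟩)))) (.node 4 (.node 2 (.node 1 (.one ⟨3097, 2, 9⟩) (.one ⟨16693, 2, 9⟩)) (.node 1 (.one ⟨4051, 2, 7⟩) (.one ⟨3824, 0, 6⟩))) (.node 2 (.node 1 (.one ⟨3731, 2, 8⟩) (.one ⟨14055, 2, 9⟩)) (.node 1 (.one ⟨3121, 2, 6⟩) (.one ⟨10737, 2, 9⟩)))))) (.node 16 (.node 8 (.node 4 (.node 2 (.node 1 (.one ⟨16208, 2, 9⟩) (.one ⟨3369, 0, 10⟩)) (.node 1 (.one ⟨9972, 1, 9⟩) (.one ⟨15146, 1, 8⟩))) (.node 2 (.node 1 (.one ⟨13776, 0, 9⟩) (.one ⟨6803, 1, 9⟩)) (.node 1 (.one ⟨11503, 1, 6⟩) (.one ⟨16883, 1, 10⟩)))) (.node 4 (.node 2 (.node 1 (.one ⟨6538, 2, 8⟩) (.one ⟨6950, 1, 8⟩)) (.node 1 (.one ⟨15639, 1, 6⟩) (.one ⟨9590, 1, 10⟩))) (.node 2 (.node 1 (.one ⟨5130, 2, 9⟩) (.one ⟨10993, 2,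 7⟩)) (.node 1 (.one ⟨8008, 0, 8⟩) (.one ⟨6368, 2, 4⟩))))) (.node 8 (.node 4 (.node 2 (.node 1 (.one ⟨12154, 0, 10⟩) (.one ⟨10416, 2, 8⟩)) (.node 1 (.one ⟨12289, 2, 8⟩) (.one ⟨13669, 2, 8⟩))) (.node 2 (.node 1 (.one ⟨12103, 0, 9⟩) (.one ⟨1009, 2, 9⟩)) (.node 1 (.one ⟨15121, 1, 10⟩) (.one ⟨7560, 0, 6⟩)))) (.node 4 (.node 2 (.node 1 (.one ⟨6939, 1, 9⟩) (.one ⟨15969, 2, 9⟩)) (.node 1 (.one ⟨13982, 2, 9⟩) (.one ⟨7495, 0, 10⟩))) (.node 2 (.node 1 (.one ⟨6622, 1, 6⟩) (.one ⟨15736, 1, 9⟩)) (.node 1 (.one ⟨5679, 0, 10⟩) (.one ⟨6722, 0, 9⟩)))))))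
def par10_14_5 : Arr Par :=
  (.node 32 (.node 16 (.node 8 (.node 4 (.node 2 (.node 1 (.one ⟨17155, 2, 6⟩) (.one ⟨10850, 1, 5⟩)) (.node 1 (.one ⟨17013, 2, 7⟩) (.one ⟨12790, 1, 7⟩))) (.node 2 (.node 1 (.one ⟨5154, 2, 8⟩) (.one ⟨10277, 2, 7⟩)) (.node 1 (.one ⟨15440, 0, 9⟩) (.one ⟨14232, 2, 8⟩)))) (.node 4 (.node 2 (.node 1 (.one ⟨15993, 2, 8⟩) (.one ⟨2781, 2, 5⟩)) (.node 1 (.one ⟨4603, 2, 8⟩) (.one ⟨4286, 2, 10⟩))) (.node 2 (.node 1 (.one ⟨169, 1, 6⟩) (.one ⟨16825, 2, 9⟩)) (.node 1 (.one ⟨7005, 0, 10⟩) (.one ⟨13900, 0, 9⟩))))) (.node 8 (.node 4 (.node 2 (.node 1 (.one ⟨4279, 2, 10⟩) (.one ⟨7416, 0, 8⟩)) (.node 1 (.one ⟨11189, 0, 4⟩) (.one ⟨10891, 1, 5⟩))) (.node 2 (.node 1 (.one ⟨16246, 1, 9⟩) (.one ⟨6930, 1, 10⟩))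 (.node 1 (.one ⟨2003, 0, 8⟩) (.one ⟨193, 1, 10⟩)))) (.node 4 (.node 2 (.node 1 (.one ⟨14722, 2, 7⟩) (.one ⟨10522, 2, 7⟩)) (.node 1 (.one ⟨7494, 0, 10⟩) (.one ⟨1393, 2, 9⟩))) (.node 2 (.node 1 (.one ⟨3781, 2, 10⟩) (.one ⟨9109, 2, 6⟩)) (.node 1 (.one ⟨7409, 2, 6⟩) (.one ⟨13528, 2, 9⟩)))))) (.node 16 (.node 8 (.node 4 (.node 2 (.node 1 (.one ⟨1946, 0, 9⟩) (.one ⟨13511, 2, 8⟩)) (.node 1 (.one ⟨5424, 2, 9⟩) (.one ⟨5480, 2, 5⟩))) (.node 2 (.node 1 (.one ⟨13520, 2, 4⟩) (.one ⟨15951, 0, 6⟩)) (.node 1 (.one ⟨13504, 2, 11⟩) (.one ⟨1672, 1, 7⟩)))) (.node 4 (.node 2 (.node 1 (.one ⟨4881, 2, 8⟩) (.one ⟨6647, 1, 9⟩)) (.node 1 (.one ⟨149, 2, 6⟩) (.one ⟨11131, 2, 7⟩))) (.node 2 (.node 1 (.one ⟨10732, 2, 6⟩) (.one ⟨11773, 2, 7⟩))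 (.node 1 (.one ⟨13413, 2, 8⟩) (.one ⟨8881, 2, 11⟩))))) (.node 8 (.node 4 (.node 2 (.node 1 (.one ⟨11911, 0, 9⟩) (.one ⟨13703, 2, 10⟩)) (.node 1 (.one ⟨2528, 0, 7⟩) (.one ⟨9446, 2, 4⟩))) (.node 2 (.node 1 (.one ⟨17071, 2, 11⟩) (.one ⟨1578, 1, 8⟩)) (.node 1 (.one ⟨6094, 0, 8⟩) (.one ⟨6213, 0, 7⟩)))) (.node 4 (.node 2 (.node 1 (.one ⟨11942, 0, 10⟩) (.one ⟨762, 2, 7⟩)) (.node 1 (.one ⟨11071, 0, 7⟩) (.one ⟨12262, 1, 9⟩))) (.node 2 (.node 1 (.one ⟨4957, 2, 9⟩) (.one ⟨16015, 2, 7⟩)) (.node 1 (.one ⟨10083, 1, 7⟩) (.one ⟨343, 2, 10⟩)))))))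
def par10_14_6 : Arr Par :=
  (.node 32 (.node 16 (.node 8 (.node 4 (.node 2 (.node 1 (.one ⟨15643, 2, 9⟩) (.one ⟨5474, 1, 8⟩)) (.node 1 (.one ⟨7832, 0, 6⟩) (.one ⟨10130, 1, 9⟩))) (.node 2 (.node 1 (.one ⟨4352, 0, 8⟩) (.one ⟨10908, 1, 8⟩)) (.node 1 (.one ⟨6950, 2, 8⟩) (.one ⟨13029, 2, 7⟩)))) (.node 4 (.node 2 (.node 1 (.one ⟨12130, 2, 1⟩) (.one ⟨15333, 1, 9⟩)) (.node 1 (.one ⟨13031, 1, 10⟩) (.one ⟨1226, 2, 7⟩))) (.node 2 (.node 1 (.one ⟨1810, 0, 8⟩) (.one ⟨5944, 0, 9⟩)) (.node 1 (.one ⟨13374, 2, 2⟩) (.one ⟨2900, 2, 9⟩))))) (.node 8 (.node 4 (.node 2 (.node 1 (.one ⟨534, 2, 10⟩) (.one ⟨1888, 0, 9⟩)) (.node 1 (.one ⟨9572, 0, 8⟩) (.one ⟨2895, 2, 9⟩))) (.node 2 (.node 1 (.one ⟨1022, 1, 7⟩) (.one ⟨2899, 2, 5⟩)) (.node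 1 (.one ⟨527, 2, 6⟩) (.one ⟨1495, 0, 6⟩)))) (.node 4 (.node 2 (.node 1 (.one ⟨15145, 2, 9⟩) (.one ⟨10706, 2, 8⟩)) (.node 1 (.one ⟨6981, 2, 9⟩) (.one ⟨1640, 2, 9⟩))) (.node 2 (.node 1 (.one ⟨2515, 1, 10⟩) (.one ⟨9639, 2, 8⟩)) (.node 1 (.one ⟨7115, 2, 10⟩) (.one ⟨5170, 1, 6⟩)))))) (.node 16 (.node 8 (.node 4 (.node 2 (.node 1 (.one ⟨6640, 2, 10⟩) (.one ⟨10593, 2, 8⟩)) (.node 1 (.one ⟨15688, 0, 8⟩) (.one ⟨2921, 0, 8⟩))) (.node 2 (.node 1 (.one ⟨8547, 0, 8⟩) (.one ⟨15488, 2, 10⟩)) (.node 1 (.one ⟨2437, 2, 10⟩) (.one ⟨5385, 2, 8⟩)))) (.node 4 (.node 2 (.node 1 (.one ⟨3019, 0, 2⟩) (.one ⟨6056, 2, 9⟩)) (.node 1 (.one ⟨2908, 1, 9⟩) (.one ⟨8696, 2, 8⟩))) (.node 2 (.node 1 (.one ⟨2300, 2, 6⟩) (.one ⟨2698, 2, 8⟩)) (.node 1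 (.one ⟨4308, 1, 6⟩) (.one ⟨12560, 2, 9⟩))))) (.node 8 (.node 4 (.node 2 (.node 1 (.one ⟨12544, 1, 7⟩) (.one ⟨15816, 1, 6⟩)) (.node 1 (.one ⟨8501, 1, 8⟩) (.one ⟨16508, 2, 9⟩))) (.node 2 (.node 1 (.one ⟨15929, 2, 6⟩) (.one ⟨2142, 2, 7⟩)) (.node 1 (.one ⟨15520, 1, 8⟩) (.one ⟨2656, 2, 8⟩)))) (.node 4 (.node 2 (.node 1 (.one ⟨14861, 1, 9⟩) (.one ⟨14857, 1, 10⟩)) (.node 1 (.one ⟨12963, 2, 8⟩) (.one ⟨11330, 0, 7⟩))) (.node 2 (.node 1 (.one ⟨13522, 0, 8⟩) (.one ⟨254, 1, 9⟩)) (.node 1 (.one ⟨17144, 0, 9⟩) (.one ⟨9584, 0, 8⟩)))))))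
def par10_14_7 : Arr Par :=
  (.node 32 (.node 16 (.node 8 (.node 4 (.node 2 (.node 1 (.one ⟨4024, 2, 7⟩) (.one ⟨7262, 0, 7⟩)) (.node 1 (.one ⟨3271, 2, 3⟩) (.one ⟨7626, 2, 9⟩))) (.node 2 (.node 1 (.one ⟨7342, 0, 8⟩) (.one ⟨9485, 1, 9⟩)) (.node 1 (.one ⟨9237, 0, 8⟩) (.one ⟨2916, 0, 3⟩)))) (.node 4 (.node 2 (.node 1 (.one ⟨6741, 0, 10⟩) (.one ⟨6061, 0, 8⟩)) (.node 1 (.one ⟨14288, 1, 7⟩) (.one ⟨11412, 0, 9⟩))) (.node 2 (.node 1 (.one ⟨14361, 1, 8⟩) (.one ⟨2200, 2, 5⟩)) (.node 1 (.one ⟨14460, 2, 5⟩) (.one ⟨8124, 0, 9⟩))))) (.node 8 (.node 4 (.node 2 (.node 1 (.one ⟨17094, 0, 7⟩) (.one ⟨6176, 0, 9⟩)) (.node 1 (.one ⟨14735, 0, 10⟩) (.one ⟨14179, 2, 8⟩))) (.node 2 (.node 1 (.one ⟨3424, 2, 3⟩) (.one ⟨6749, 1, 10⟩)) (.node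 1 (.one ⟨2462, 1, 10⟩) (.one ⟨6256, 2, 3⟩)))) (.node 4 (.node 2 (.node 1 (.one ⟨16181, 2, 10⟩) (.one ⟨9375, 0, 8⟩)) (.node 1 (.one ⟨11771, 1, 5⟩) (.one ⟨3512, 2, 5⟩))) (.node 2 (.node 1 (.one ⟨9454, 2, 3⟩) (.one ⟨9478, 1, 8⟩)) (.node 1 (.one ⟨14005, 0, 5⟩) (.one ⟨5506, 2, 8⟩)))))) (.node 16 (.node 8 (.node 4 (.node 2 (.node 1 (.one ⟨14665, 0, 6⟩) (.one ⟨6880, 1, 5⟩)) (.node 1 (.one ⟨193, 0, 10⟩) (.one ⟨5, 2, 9⟩))) (.node 2 (.node 1 (.one ⟨13288, 2, 10⟩) (.one ⟨14964, 1, 8⟩)) (.node 1 (.one ⟨9058, 0, 10⟩) (.one ⟨2350, 0, 9⟩)))) (.node 4 (.node 2 (.node 1 (.one ⟨15627, 0, 10⟩) (.one ⟨3867, 2, 7⟩)) (.node 1 (.one ⟨15656, 1, 10⟩) (.one ⟨14971, 0, 9⟩))) (.node 2 (.node 1 (.one ⟨6423, 1, 7⟩) (.one ⟨1315, 1, 8⟩)) (.node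 1 (.one ⟨7793, 1, 9⟩) (.one ⟨9482, 1, 10⟩))))) (.node 8 (.node 4 (.node 2 (.node 1 (.one ⟨2148, 2, 9⟩) (.one ⟨7004, 2, 9⟩)) (.node 1 (.one ⟨14717, 0, 8⟩) (.one ⟨3816, 1, 6⟩))) (.node 2 (.node 1 (.one ⟨7459, 2, 8⟩) (.one ⟨1473, 0, 8⟩)) (.node 1 (.one ⟨2586, 2, 7⟩) (.one ⟨13024, 0, 9⟩)))) (.node 4 (.node 2 (.node 1 (.one ⟨6261, 1, 8⟩) (.one ⟨8209, 0, 9⟩)) (.node 1 (.one ⟨12375, 2, 10⟩) (.one ⟨10363, 2, 10⟩))) (.node 2 (.node 1 (.one ⟨11801, 2, 10⟩) (.one ⟨14836, 0, 9⟩)) (.node 1 (.one ⟨8539, 0, 8⟩) (.one ⟨7132, 2, 6⟩)))))))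
def par10_14_8 : Arr Par :=
  (.node 32 (.node 16 (.node 8 (.node 4 (.node 2 (.node 1 (.one ⟨2301, 0, 10⟩) (.one ⟨7850, 0, 7⟩)) (.node 1 (.one ⟨7210, 2, 8⟩) (.one ⟨11566, 1, 9⟩))) (.node 2 (.node 1 (.one ⟨7116, 2, 9⟩) (.one ⟨7159, 2, 6⟩)) (.node 1 (.one ⟨14331, 2, 6⟩) (.one ⟨14778, 1, 9⟩)))) (.node 4 (.node 2 (.node 1 (.one ⟨545, 1, 8⟩) (.one ⟨10541, 2, 9⟩)) (.node 1 (.one ⟨28, 2, 10⟩) (.one ⟨13979, 0, 7⟩))) (.node 2 (.node 1 (.one ⟨544, 1, 8⟩) (.one ⟨10540, 2, 8⟩)) (.node 1 (.one ⟨402, 2, 8⟩) (.one ⟨10160, 0, 8⟩))))) (.node 8 (.node 4 (.node 2 (.node 1 (.one ⟨8536, 2, 9⟩) (.one ⟨12401, 2, 9⟩)) (.node 1 (.one ⟨7596, 2, 7⟩) (.one ⟨6915, 1, 8⟩))) (.node 2 (.node 1 (.one ⟨14786, 0, 4⟩) (.one ⟨6399, 2, 10⟩)) (.node 1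 (.one ⟨205, 1, 9⟩) (.one ⟨12638, 2, 8⟩)))) (.node 4 (.node 2 (.node 1 (.one ⟨2322, 2, 10⟩) (.one ⟨16585, 1, 8⟩)) (.node 1 (.one ⟨14505, 0, 9⟩) (.one ⟨11037, 2, 9⟩))) (.node 2 (.node 1 (.one ⟨4194, 2, 7⟩) (.one ⟨15177, 0, 8⟩)) (.node 1 (.one ⟨10435, 2, 7⟩) (.one ⟨16161, 2, 7⟩)))))) (.node 16 (.node 8 (.node 4 (.node 2 (.node 1 (.one ⟨8610, 0, 8⟩) (.one ⟨11837, 2, 10⟩)) (.node 1 (.one ⟨408, 1, 7⟩) (.one ⟨5672, 2, 10⟩))) (.node 2 (.node 1 (.one ⟨15161, 1, 8⟩) (.one ⟨300, 2, 8⟩)) (.node 1 (.one ⟨6752, 2, 8⟩) (.one ⟨9379, 0, 10⟩)))) (.node 4 (.node 2 (.node 1 (.one ⟨14457, 2, 8⟩) (.one ⟨6400, 2, 10⟩)) (.node 1 (.one ⟨14508, 2, 8⟩) (.one ⟨11830, 1, 10⟩))) (.node 2 (.node 1 (.one ⟨4247, 0, 10⟩) (.one ⟨6158, 1, 6⟩)) (.node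 1 (.one ⟨7714, 1, 8⟩) (.one ⟨6859, 0, 7⟩))))) (.node 8 (.node 4 (.node 2 (.node 1 (.one ⟨12148, 0, 5⟩) (.one ⟨6297, 2, 5⟩)) (.node 1 (.one ⟨3987, 1, 7⟩) (.one ⟨13868, 1, 9⟩))) (.node 2 (.node 1 (.one ⟨5521, 1, 10⟩) (.one ⟨17155, 1, 6⟩)) (.node 1 (.one ⟨11383, 0, 8⟩) (.one ⟨9857, 2, 9⟩)))) (.node 4 (.node 2 (.node 1 (.one ⟨16710, 0, 7⟩) (.one ⟨17139, 2, 7⟩)) (.node 1 (.one ⟨14993, 1, 5⟩) (.one ⟨6553, 0, 9⟩))) (.node 2 (.node 1 (.one ⟨5769, 1, 9⟩) (.one ⟨3756, 2, 9⟩)) (.node 1 (.one ⟨4000, 1, 10⟩) (.one ⟨7316, 2, 9⟩)))))))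
def par10_14_9 : Arr Par :=
  (.node 32 (.node 16 (.node 8 (.node 4 (.node 2 (.node 1 (.one ⟨15033, 2, 10⟩) (.one ⟨8372, 1, 10⟩)) (.node 1 (.one ⟨4333, 2, 9⟩) (.one ⟨8503, 2, 8⟩))) (.node 2 (.node 1 (.one ⟨17069, 2, 9⟩) (.one ⟨7876, 0, 6⟩)) (.node 1 (.one ⟨8328, 0, 6⟩) (.one ⟨4563, 2, 9⟩)))) (.node 4 (.node 2 (.node 1 (.one ⟨4060, 2, 7⟩) (.one ⟨4277, 1, 7⟩)) (.node 1 (.one ⟨6369, 2, 9⟩) (.one ⟨16771, 2, 10⟩))) (.node 2 (.node 1 (.one ⟨6378, 0, 9⟩) (.one ⟨16689, 1, 9⟩)) (.node 1 (.one ⟨10143, 0, 9⟩) (.one ⟨7127, 2, 5⟩))))) (.node 8 (.node 4 (.node 2 (.node 1 (.one ⟨15517, 1, 9⟩) (.one ⟨2866, 2, 7⟩)) (.node 1 (.one ⟨6710, 1, 10⟩) (.one ⟨10106, 1, 8⟩))) (.node 2 (.node 1 (.one ⟨9673, 0, 6⟩) (.one ⟨2685, 1, 10⟩)) (.node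 1 (.one ⟨2429, 0, 8⟩) (.one ⟨8913, 2, 9⟩)))) (.node 4 (.node 2 (.node 1 (.one ⟨8916, 2, 10⟩) (.one ⟨8915, 2, 10⟩)) (.node 1 (.one ⟨2008, 1, 10⟩) (.one ⟨15602, 1, 7⟩))) (.node 2 (.node 1 (.one ⟨14869, 1, 11⟩) (.one ⟨10380, 0, 10⟩)) (.node 1 (.one ⟨189, 1, 8⟩) (.one ⟨6465, 2, 9⟩)))))) (.node 16 (.node 8 (.node 4 (.node 2 (.node 1 (.one ⟨4184, 0, 9⟩) (.one ⟨708, 0, 8⟩)) (.node 1 (.one ⟨9232, 0, 11⟩) (.one ⟨5716, 2, 6⟩))) (.node 2 (.node 1 (.one ⟨7200, 0, 7⟩) (.one ⟨8480, 1, 10⟩)) (.node 1 (.one ⟨1817, 2, 6⟩) (.one ⟨3886, 0, 8⟩)))) (.node 4 (.node 2 (.node 1 (.one ⟨15554, 2, 8⟩) (.one ⟨1208, 2, 10⟩)) (.node 1 (.one ⟨7622, 0, 7⟩) (.one ⟨15748, 1, 9⟩))) (.node 2 (.node 1 (.one ⟨3046, 0, 9⟩) (.one ⟨2587, 2, 7⟩)) (.node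 1 (.one ⟨12125, 2, 8⟩) (.one ⟨8906, 2, 11⟩))))) (.node 8 (.node 4 (.node 2 (.node 1 (.one ⟨6426, 2, 6⟩) (.one ⟨11533, 1, 8⟩)) (.node 1 (.one ⟨13334, 0, 8⟩) (.one ⟨7618, 0, 10⟩))) (.node 2 (.node 1 (.one ⟨5493, 2, 7⟩) (.one ⟨12705, 0, 11⟩)) (.node 1 (.one ⟨808, 1, 11⟩) (.one ⟨16506, 2, 9⟩)))) (.node 4 (.node 2 (.node 1 (.one ⟨3639, 2, 9⟩) (.one ⟨9673, 2, 6⟩)) (.node 1 (.one ⟨14586, 1, 7⟩) (.one ⟨7546, 2, 8⟩))) (.node 2 (.node 1 (.one ⟨10149, 1, 9⟩) (.one ⟨4290, 2, 8⟩)) (.node 1 (.one ⟨14932, 1, 7⟩) (.one ⟨7688, 0, 10⟩)))))))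
def par10_14_10 : Arr Par :=
  (.node 32 (.node 16 (.node 8 (.node 4 (.node 2 (.node 1 (.one ⟨16449, 2, 9⟩) (.one ⟨13767, 2, 9⟩)) (.node 1 (.one ⟨9345, 2, 9⟩) (.one ⟨3936, 2, 6⟩))) (.node 2 (.node 1 (.one ⟨8151, 2, 8⟩) (.one ⟨7184, 2, 6⟩)) (.node 1 (.one ⟨3335, 2, 10⟩) (.one ⟨8586, 2, 8⟩)))) (.node 4 (.node 2 (.node 1 (.one ⟨1766, 0, 6⟩) (.one ⟨15502, 0, 9⟩)) (.node 1 (.one ⟨14260, 1, 7⟩) (.one ⟨739, 2, 8⟩))) (.node 2 (.node 1 (.one ⟨457, 2, 9⟩) (.one ⟨8589, 2, 4⟩)) (.node 1 (.one ⟨8082, 1, 9⟩) (.one ⟨6305, 0, 10⟩))))) (.node 8 (.node 4 (.node 2 (.node 1 (.one ⟨17001, 0, 9⟩) (.one ⟨15533, 2, 4⟩)) (.node 1 (.one ⟨4503, 1, 7⟩) (.one ⟨2213, 2, 7⟩))) (.node 2 (.node 1 (.one ⟨14731, 2, 8⟩) (.one ⟨10946, 2, 9⟩)) (.node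 1 (.one ⟨5506, 0, 8⟩) (.one ⟨1259, 2, 8⟩)))) (.node 4 (.node 2 (.node 1 (.one ⟨13169, 0, 9⟩) (.one ⟨8312, 1, 10⟩)) (.node 1 (.one ⟨12940, 0, 6⟩) (.one ⟨11000, 0, 9⟩))) (.node 2 (.node 1 (.one ⟨2630, 2, 7⟩) (.one ⟨12560, 1, 9⟩)) (.node 1 (.one ⟨133, 0, 10⟩) (.one ⟨4392, 2, 6⟩)))))) (.node 16 (.node 8 (.node 4 (.node 2 (.node 1 (.one ⟨4016, 1, 9⟩) (.one ⟨14740, 2, 8⟩)) (.node 1 (.one ⟨4096, 0, 10⟩) (.one ⟨5385, 1, 8⟩))) (.node 2 (.node 1 (.one ⟨1542, 0, 8⟩) (.one ⟨10840, 0, 6⟩)) (.node 1 (.one ⟨141, 0, 10⟩) (.one ⟨1134, 2, 6⟩)))) (.node 4 (.node 2 (.node 1 (.one ⟨3153, 2, 7⟩) (.one ⟨4818, 1, 8⟩)) (.node 1 (.one ⟨3066, 2, 6⟩) (.one ⟨11985, 2, 8⟩))) (.node 2 (.node 1 (.one ⟨11580, 1, 10⟩) (.one ⟨11903, 2, 9⟩)) (.node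 1 (.one ⟨5267, 1, 8⟩) (.one ⟨15092, 2, 7⟩))))) (.node 8 (.node 4 (.node 2 (.node 1 (.one ⟨1099, 0, 10⟩) (.one ⟨170, 1, 7⟩)) (.node 1 (.one ⟨5304, 0, 9⟩) (.one ⟨3056, 0, 9⟩))) (.node 2 (.node 1 (.one ⟨7354, 1, 9⟩) (.one ⟨6754, 2, 8⟩)) (.node 1 (.one ⟨154, 2, 8⟩) (.one ⟨16040, 0, 7⟩)))) (.node 4 (.node 2 (.node 1 (.one ⟨1022, 2, 7⟩) (.one ⟨3292, 1, 9⟩)) (.node 1 (.one ⟨5399, 1, 9⟩) (.one ⟨6467, 1, 8⟩))) (.node 2 (.node 1 (.one ⟨241, 2, 6⟩) (.one ⟨2820, 1, 8⟩)) (.node 1 (.one ⟨3565, 0, 7⟩) (.one ⟨702, 0, 8⟩)))))))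
def par10_14_11 : Arr Par :=
  (.node 32 (.node 16 (.node 8 (.node 4 (.node 2 (.node 1 (.one ⟨13684, 2, 5⟩) (.one ⟨10799, 2, 11⟩)) (.node 1 (.one ⟨10547, 0, 6⟩) (.one ⟨10929, 1, 5⟩))) (.node 2 (.node 1 (.one ⟨1775, 0, 7⟩) (.one ⟨12765, 1, 9⟩)) (.node 1 (.one ⟨10174, 2, 6⟩) (.one ⟨16296, 2, 5⟩)))) (.node 4 (.node 2 (.node 1 (.one ⟨2993, 2, 10⟩) (.one ⟨14614, 2, 8⟩)) (.node 1 (.one ⟨4576, 2, 7⟩) (.one ⟨14724, 2, 9⟩))) (.node 2 (.node 1 (.one ⟨11052, 1, 10⟩) (.one ⟨5346, 0, 9⟩)) (.node 1 (.one ⟨6980, 0, 11⟩) (.one ⟨6294, 2, 9⟩))))) (.node 8 (.node 4 (.node 2 (.node 1 (.one ⟨6612, 1, 9⟩) (.one ⟨11508, 2, 8⟩)) (.node 1 (.one ⟨8905, 2, 7⟩) (.one ⟨9343, 0, 6⟩))) (.node 2 (.node 1 (.one ⟨17194, 0, 9⟩) (.one ⟨17164, 0, 9⟩))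 (.node 1 (.one ⟨9598, 0, 8⟩) (.one ⟨10716, 2, 5⟩)))) (.node 4 (.node 2 (.node 1 (.one ⟨16152, 1, 6⟩) (.one ⟨6931, 1, 5⟩)) (.node 1 (.one ⟨11908, 0, 9⟩) (.one ⟨6407, 2, 9⟩))) (.node 2 (.node 1 (.one ⟨1558, 2, 7⟩) (.one ⟨16686, 2, 10⟩)) (.node 1 (.one ⟨6997, 1, 9⟩) (.one ⟨10509, 0, 9⟩)))))) (.node 16 (.node 8 (.node 4 (.node 2 (.node 1 (.one ⟨13245, 2, 8⟩) (.one ⟨5230, 2, 10⟩)) (.node 1 (.one ⟨13320, 2, 7⟩) (.one ⟨4644, 0, 9⟩))) (.node 2 (.node 1 (.one ⟨4074, 2, 8⟩) (.one ⟨12088, 2, 9⟩)) (.node 1 (.one ⟨14743, 1, 7⟩) (.one ⟨2757, 1, 10⟩)))) (.node 4 (.node 2 (.node 1 (.one ⟨3181, 2, 3⟩) (.one ⟨2756, 1, 9⟩)) (.node 1 (.one ⟨8552, 2, 7⟩) (.one ⟨14422, 2, 9⟩))) (.node 2 (.node 1 (.one ⟨14807, 2, 4⟩) (.one ⟨11830, 2, 10⟩))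 (.node 1 (.one ⟨13539, 2, 6⟩) (.one ⟨12437, 2, 6⟩))))) (.node 8 (.node 4 (.node 2 (.node 1 (.one ⟨8633, 2, 6⟩) (.one ⟨4040, 2, 9⟩)) (.node 1 (.one ⟨16484, 2, 10⟩) (.one ⟨11909, 1, 10⟩))) (.node 2 (.node 1 (.one ⟨15492, 2, 6⟩) (.one ⟨4715, 0, 4⟩)) (.node 1 (.one ⟨7578, 2, 10⟩) (.one ⟨13334, 1, 8⟩)))) (.node 4 (.node 2 (.node 1 (.one ⟨8205, 1, 9⟩) (.one ⟨10500, 0, 9⟩)) (.node 1 (.one ⟨16211, 2, 10⟩) (.one ⟨10999, 1, 9⟩))) (.node 2 (.node 1 (.one ⟨7921, 2, 9⟩) (.one ⟨12729, 2, 8⟩)) (.node 1 (.one ⟨14971, 2, 9⟩) (.one ⟨10073, 0, 7⟩)))))))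
def par10_14_12 : Arr Par :=
  (.node 32 (.node 16 (.node 8 (.node 4 (.node 2 (.node 1 (.one ⟨15374, 1, 11⟩) (.one ⟨14754, 1, 9⟩)) (.node 1 (.one ⟨11924, 2, 6⟩) (.one ⟨9684, 2, 9⟩))) (.node 2 (.node 1 (.one ⟨3107, 2, 7⟩) (.one ⟨10075, 1, 9⟩)) (.node 1 (.one ⟨10907, 2, 9⟩) (.one ⟨6572, 2, 9⟩)))) (.node 4 (.node 2 (.node 1 (.one ⟨7266, 2, 9⟩) (.one ⟨14834, 0, 9⟩)) (.node 1 (.one ⟨3044, 2, 7⟩) (.one ⟨5163, 2, 7⟩))) (.node 2 (.node 1 (.one ⟨4322, 2, 8⟩) (.one ⟨8526, 0, 8⟩)) (.node 1 (.one ⟨6637, 1, 9⟩) (.one ⟨2131, 0, 11⟩))))) (.node 8 (.node 4 (.node 2 (.node 1 (.one ⟨668, 0, 9⟩) (.one ⟨17124, 0, 9⟩)) (.node 1 (.one ⟨3921, 1, 9⟩) (.one ⟨2853, 1, 10⟩))) (.node 2 (.node 1 (.one ⟨1701, 0, 10⟩) (.one ⟨619, 1, 12⟩)) (.node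 1 (.one ⟨16974, 0, 5⟩) (.one ⟨1523, 0, 10⟩)))) (.node 4 (.node 2 (.node 1 (.one ⟨16496, 0, 10⟩) (.one ⟨4237, 0, 9⟩)) (.node 1 (.one ⟨15618, 0, 9⟩) (.one ⟨16073, 1, 5⟩))) (.node 2 (.node 1 (.one ⟨12761, 1, 8⟩) (.one ⟨682, 0, 7⟩)) (.node 1 (.one ⟨15953, 1, 7⟩) (.one ⟨10004, 2, 9⟩)))))) (.node 16 (.node 8 (.node 4 (.node 2 (.node 1 (.one ⟨2465, 0, 9⟩) (.one ⟨7545, 2, 9⟩)) (.node 1 (.one ⟨15120, 2, 10⟩) (.one ⟨7950, 0, 8⟩))) (.node 2 (.node 1 (.one ⟨4207, 0, 7⟩) (.one ⟨3454, 0, 7⟩)) (.node 1 (.one ⟨6960, 0, 9⟩) (.one ⟨11094, 2, 9⟩)))) (.node 4 (.node 2 (.node 1 (.one ⟨9208, 0, 7⟩) (.one ⟨3082, 2, 8⟩)) (.node 1 (.one ⟨1309, 0, 7⟩) (.one ⟨6870, 1, 7⟩))) (.node 2 (.node 1 (.one ⟨13795, 2, 9⟩) (.one ⟨10980, 1, 6⟩)) (.node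 1 (.one ⟨8373, 0, 8⟩) (.one ⟨16132, 0, 9⟩))))) (.node 8 (.node 4 (.node 2 (.node 1 (.one ⟨2136, 2, 6⟩) (.one ⟨5111, 2, 9⟩)) (.node 1 (.one ⟨9975, 0, 8⟩) (.one ⟨2859, 0, 9⟩))) (.node 2 (.node 1 (.one ⟨11155, 0, 10⟩) (.one ⟨9058, 2, 10⟩)) (.node 1 (.one ⟨9888, 2, 9⟩) (.one ⟨5360, 2, 9⟩)))) (.node 4 (.node 2 (.node 1 (.one ⟨14551, 1, 10⟩) (.one ⟨13443, 2, 7⟩)) (.node 1 (.one ⟨5408, 2, 9⟩) (.one ⟨13411, 2, 7⟩))) (.node 2 (.node 1 (.one ⟨5311, 2, 7⟩) (.one ⟨5330, 2, 8⟩)) (.node 1 (.one ⟨5566, 0, 7⟩) (.one ⟨12920, 2, 8⟩)))))))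
def par10_14_13 : Arr Par :=
  (.node 32 (.node 16 (.node 8 (.node 4 (.node 2 (.node 1 (.one ⟨2050, 0, 7⟩) (.one ⟨1377, 0, 9⟩)) (.node 1 (.one ⟨341, 2, 9⟩) (.one ⟨4259, 2, 10⟩))) (.node 2 (.node 1 (.one ⟨5136, 2, 8⟩) (.one ⟨5238, 0, 8⟩)) (.node 1 (.one ⟨11553, 2, 9⟩) (.one ⟨3139, 1, 10⟩)))) (.node 4 (.node 2 (.node 1 (.one ⟨13513, 2, 6⟩) (.one ⟨3132, 2, 7⟩)) (.node 1 (.one ⟨16366, 1, 9⟩) (.one ⟨12085, 2, 8⟩))) (.node 2 (.node 1 (.one ⟨16491, 1, 8⟩) (.one ⟨2309, 0, 7⟩)) (.node 1 (.one ⟨12763, 0, 10⟩) (.one ⟨4403, 2, 4⟩))))) (.node 8 (.node 4 (.node 2 (.node 1 (.one ⟨12491, 2, 9⟩) (.one ⟨4447, 2, 10⟩)) (.node 1 (.one ⟨12504, 2, 7⟩) (.one ⟨13536, 2, 6⟩))) (.node 2 (.node 1 (.one ⟨5464, 2, 9⟩) (.one ⟨13492, 2, 9⟩)) (.node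 1 (.one ⟨11709, 1, 6⟩) (.one ⟨3840, 2, 11⟩)))) (.node 4 (.node 2 (.node 1 (.one ⟨9119, 2, 10⟩) (.one ⟨13440, 2, 9⟩)) (.node 1 (.one ⟨16099, 2, 10⟩) (.one ⟨2571, 2, 3⟩))) (.node 2 (.node 1 (.one ⟨3519, 1, 9⟩) (.one ⟨11137, 2, 7⟩)) (.node 1 (.one ⟨13893, 0, 10⟩) (.one ⟨2643, 2, 9⟩)))))) (.node 16 (.node 8 (.node 4 (.node 2 (.node 1 (.one ⟨5811, 2, 8⟩) (.one ⟨13887, 2, 8⟩)) (.node 1 (.one ⟨10718, 2, 7⟩) (.one ⟨11798, 1, 7⟩))) (.node 2 (.node 1 (.one ⟨225, 2, 9⟩) (.one ⟨13226, 1, 7⟩)) (.node 1 (.one ⟨14951, 1, 9⟩) (.one ⟨933, 2, 11⟩)))) (.node 4 (.node 2 (.node 1 (.one ⟨2071, 0, 9⟩) (.one ⟨15254, 2, 7⟩)) (.node 1 (.one ⟨412, 1, 9⟩) (.one ⟨5338, 0, 9⟩))) (.node 2 (.node 1 (.one ⟨8149, 1, 11⟩) (.one ⟨481, 2, 8⟩)) (.node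 1 (.one ⟨15248, 2, 7⟩) (.one ⟨4294, 0, 8⟩))))) (.node 8 (.node 4 (.node 2 (.node 1 (.one ⟨14693, 0, 7⟩) (.one ⟨10047, 0, 9⟩)) (.node 1 (.one ⟨8991, 0, 7⟩) (.one ⟨10494, 2, 8⟩))) (.node 2 (.node 1 (.one ⟨12852, 2, 9⟩) (.one ⟨6872, 1, 7⟩)) (.node 1 (.one ⟨16450, 0, 10⟩) (.one ⟨16648, 2, 7⟩)))) (.node 4 (.node 2 (.node 1 (.one ⟨13696, 0, 7⟩) (.one ⟨3977, 2, 8⟩)) (.node 1 (.one ⟨6386, 0, 8⟩) (.one ⟨8402, 2, 10⟩))) (.node 2 (.node 1 (.one ⟨6724, 1, 6⟩) (.one ⟨8564, 1, 5⟩)) (.node 1 (.one ⟨1877, 2, 4⟩) (.one ⟨12404, 2, 9⟩)))))))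
def par10_14_14 : Arr Par :=
  (.node 32 (.node 16 (.node 8 (.node 4 (.node 2 (.node 1 (.one ⟨9979, 2, 10⟩) (.one ⟨3922, 2, 8⟩)) (.node 1 (.one ⟨10346, 1, 10⟩) (.one ⟨14700, 0, 7⟩))) (.node 2 (.node 1 (.one ⟨6585, 0, 8⟩) (.one ⟨1403, 0, 9⟩)) (.node 1 (.one ⟨9348, 0, 10⟩) (.one ⟨10252, 2, 6⟩)))) (.node 4 (.node 2 (.node 1 (.one ⟨5320, 2, 8⟩) (.one ⟨14211, 1, 5⟩)) (.node 1 (.one ⟨2438, 2, 8⟩) (.one ⟨3596, 2, 9⟩))) (.node 2 (.node 1 (.one ⟨8288, 1, 5⟩) (.one ⟨13212, 0, 8⟩)) (.node 1 (.one ⟨12492, 2, 10⟩) (.one ⟨1738, 0, 10⟩))))) (.node 8 (.node 4 (.node 2 (.node 1 (.one ⟨7132, 1, 6⟩) (.one ⟨1790, 2, 9⟩)) (.node 1 (.one ⟨6606, 2, 7⟩) (.one ⟨11688, 0, 8⟩))) (.node 2 (.node 1 (.one ⟨4656, 2, 9⟩) (.one ⟨4120, 2, 10⟩)) (.node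 1 (.one ⟨3676, 1, 6⟩) (.one ⟨2775, 2, 9⟩)))) (.node 4 (.node 2 (.node 1 (.one ⟨4495, 1, 7⟩) (.one ⟨3121, 1, 6⟩)) (.node 1 (.one ⟨1982, 0, 5⟩) (.one ⟨16379, 0, 8⟩))) (.node 2 (.node 1 (.one ⟨6453, 2, 8⟩) (.one ⟨5583, 2, 3⟩)) (.node 1 (.one ⟨7113, 2, 9⟩) (.one ⟨17031, 0, 7⟩)))))) (.node 16 (.node 8 (.node 4 (.node 2 (.node 1 (.one ⟨10809, 1, 7⟩) (.one ⟨6678, 1, 9⟩)) (.node 1 (.one ⟨3567, 0, 4⟩) (.one ⟨14571, 0, 8⟩))) (.node 2 (.node 1 (.one ⟨10721, 1, 7⟩) (.one ⟨6533, 1, 7⟩)) (.node 1 (.one ⟨2899, 0, 5⟩) (.one ⟨1827, 0, 10⟩)))) (.node 4 (.node 2 (.node 1 (.one ⟨4228, 2, 9⟩) (.one ⟨2869, 2, 9⟩)) (.node 1 (.one ⟨12559, 0, 8⟩) (.one ⟨6481, 2, 10⟩))) (.node 2 (.node 1 (.one ⟨7138, 1, 9⟩) (.one ⟨7141, 1, 8⟩)) (.node 1 (.one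 ⟨909, 1, 9⟩) (.one ⟨9793, 0, 5⟩))))) (.node 8 (.node 4 (.node 2 (.node 1 (.one ⟨5544, 2, 8⟩) (.one ⟨4263, 1, 8⟩)) (.node 1 (.one ⟨9795, 0, 9⟩) (.one ⟨12077, 2, 10⟩))) (.node 2 (.node 1 (.one ⟨183, 2, 4⟩) (.one ⟨9796, 0, 9⟩)) (.node 1 (.one ⟨9791, 0, 6⟩) (.one ⟨8188, 0, 8⟩)))) (.node 4 (.node 2 (.node 1 (.one ⟨7345, 0, 7⟩) (.one ⟨7532, 2, 8⟩)) (.node 1 (.one ⟨6605, 2, 7⟩) (.one ⟨7209, 2, 8⟩))) (.node 2 (.node 1 (.one ⟨6890, 2, 4⟩) (.one ⟨5029, 1, 10⟩)) (.node 1 (.one ⟨8528, 0, 10⟩) (.one ⟨2445, 0, 9⟩)))))))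
def par10_14_15 : Arr Par :=
  (.node 32 (.node 16 (.node 8 (.node 4 (.node 2 (.node 1 (.one ⟨5713, 2, 10⟩) (.one ⟨14666, 1, 9⟩)) (.node 1 (.one ⟨10354, 1, 9⟩) (.one ⟨7433, 0, 8⟩))) (.node 2 (.node 1 (.one ⟨123, 2, 9⟩) (.one ⟨6169, 2, 9⟩)) (.node 1 (.one ⟨12821, 0, 9⟩) (.one ⟨8529, 1, 7⟩)))) (.node 4 (.node 2 (.node 1 (.one ⟨3118, 2, 5⟩) (.one ⟨5125, 1, 7⟩)) (.node 1 (.one ⟨3965, 2, 6⟩) (.one ⟨5549, 2, 6⟩))) (.node 2 (.node 1 (.one ⟨13699, 0, 10⟩) (.one ⟨11868, 0, 9⟩)) (.node 1 (.one ⟨12071, 2, 5⟩) (.one ⟨13766, 2, 8⟩))))) (.node 8 (.node 4 (.node 2 (.node 1 (.one ⟨7292, 0, 9⟩) (.one ⟨7225, 1, 9⟩)) (.node 1 (.one ⟨5525, 0, 10⟩) (.one ⟨4318, 1, 11⟩))) (.node 2 (.node 1 (.one ⟨1599, 0, 8⟩) (.one ⟨976, 2, 9⟩)) (.node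 1 (.one ⟨11537, 1, 8⟩) (.one ⟨9214, 2, 9⟩)))) (.node 4 (.node 2 (.node 1 (.one ⟨2753, 0, 5⟩) (.one ⟨8870, 2, 8⟩)) (.node 1 (.one ⟨7845, 0, 8⟩) (.one ⟨16805, 2, 7⟩))) (.node 2 (.node 1 (.one ⟨522, 0, 7⟩) (.one ⟨2678, 2, 7⟩)) (.node 1 (.one ⟨6362, 2, 8⟩) (.one ⟨8076, 1, 11⟩)))))) (.node 16 (.node 8 (.node 4 (.node 2 (.node 1 (.one ⟨4202, 0, 7⟩) (.one ⟨12276, 1, 9⟩)) (.node 1 (.one ⟨12762, 1, 4⟩) (.one ⟨8296, 2, 9⟩))) (.node 2 (.node 1 (.one ⟨1333, 0, 9⟩) (.one ⟨4437, 0, 8⟩)) (.node 1 (.one ⟨14564, 1, 8⟩) (.one ⟨11518, 2, 9⟩)))) (.node 4 (.node 2 (.node 1 (.one ⟨13253, 2, 5⟩) (.one ⟨15764, 1, 7⟩)) (.node 1 (.one ⟨9864, 1, 9⟩) (.one ⟨15940, 1, 9⟩))) (.node 2 (.node 1 (.one ⟨10286, 1, 7⟩) (.one ⟨11347, 1, 5⟩)) (.node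 1 (.one ⟨491, 2, 10⟩) (.one ⟨12458, 1, 7⟩))))) (.node 8 (.node 4 (.node 2 (.node 1 (.one ⟨4288, 2, 8⟩) (.one ⟨7027, 0, 8⟩)) (.node 1 (.one ⟨14187, 1, 5⟩) (.one ⟨6597, 1, 5⟩))) (.node 2 (.node 1 (.one ⟨12220, 0, 8⟩) (.one ⟨14438, 2, 5⟩)) (.node 1 (.one ⟨4600, 2, 10⟩) (.one ⟨12342, 1, 10⟩)))) (.node 4 (.node 2 (.node 1 (.one ⟨5119, 1, 9⟩) (.one ⟨14610, 1, 8⟩)) (.node 1 (.one ⟨11494, 0, 6⟩) (.one ⟨7638, 1, 8⟩))) (.node 2 (.node 1 (.one ⟨16659, 1, 7⟩) (.one ⟨332, 1, 8⟩)) (.node 1 (.one ⟨10944, 1, 9⟩) (.one ⟨6655, 1, 6⟩)))))))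
def par10_14 : Arr Par :=
  (.node 512 (.node 256 (.node 128 (.node 64 par10_14_0 par10_14_1) (.node 64 par10_14_2 par10_14_3)) (.node 128 (.node 64 par10_14_4 par10_14_5) (.node 64 par10_14_6 par10_14_7))) (.node 256 (.node 128 (.node 64 par10_14_8 par10_14_9) (.node 64 par10_14_10 par10_14_11)) (.node 128 (.node 64 par10_14_12 par10_14_13) (.node 64 par10_14_14 par10_14_15))))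
def par10_15_0 : Arr Par :=
  (.node 32 (.node 16 (.node 8 (.node 4 (.node 2 (.node 1 (.one ⟨1094, 2, 5⟩) (.one ⟨10726, 1, 8⟩)) (.node 1 (.one ⟨2133, 1, 8⟩) (.one ⟨7631, 0, 8⟩))) (.node 2 (.node 1 (.one ⟨3264, 1, 2⟩) (.one ⟨7739, 0, 6⟩)) (.node 1 (.one ⟨12933, 2, 8⟩) (.one ⟨14620, 0, 9⟩)))) (.node 4 (.node 2 (.node 1 (.one ⟨10445, 2, 10⟩) (.one ⟨10320, 0, 8⟩)) (.node 1 (.one ⟨7524, 1, 6⟩) (.one ⟨15783, 1, 10⟩))) (.node 2 (.node 1 (.one ⟨7135, 2, 8⟩) (.one ⟨1221, 2, 11⟩)) (.node 1 (.one ⟨5108, 0, 10⟩) (.one ⟨10479, 0, 9⟩))))) (.node 8 (.node 4 (.node 2 (.node 1 (.one ⟨4720, 0, 9⟩) (.one ⟨8494, 2, 11⟩)) (.node 1 (.one ⟨12752, 1, 9⟩) (.one ⟨6573, 0, 8⟩))) (.node 2 (.node 1 (.one ⟨16702, 0, 8⟩) (.one ⟨5180, 0, 10⟩))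 (.node 1 (.one ⟨4910, 2, 9⟩) (.one ⟨1320, 2, 9⟩)))) (.node 4 (.node 2 (.node 1 (.one ⟨16679, 0, 10⟩) (.one ⟨11850, 0, 8⟩)) (.node 1 (.one ⟨524, 2, 6⟩) (.one ⟨5996, 2, 9⟩))) (.node 2 (.node 1 (.one ⟨1235, 0, 9⟩) (.one ⟨2298, 2, 9⟩)) (.node 1 (.one ⟨6803, 0, 9⟩) (.one ⟨14639, 1, 5⟩)))))) (.node 16 (.node 8 (.node 4 (.node 2 (.node 1 (.one ⟨12352, 0, 9⟩) (.one ⟨10947, 0, 10⟩)) (.node 1 (.one ⟨17034, 0, 10⟩) (.one ⟨13995, 0, 9⟩))) (.node 2 (.node 1 (.one ⟨12306, 0, 9⟩) (.one ⟨4505, 2, 10⟩)) (.node 1 (.one ⟨7207, 2, 8⟩) (.one ⟨15471, 1, 5⟩)))) (.node 4 (.node 2 (.node 1 (.one ⟨7879, 2, 9⟩) (.one ⟨6824, 0, 7⟩)) (.node 1 (.one ⟨7799, 1, 10⟩) (.one ⟨4226, 2, 10⟩))) (.node 2 (.node 1 (.one ⟨15579, 2, 6⟩) (.one ⟨6269, 0, 8⟩))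 (.node 1 (.one ⟨13466, 2, 7⟩) (.one ⟨14284, 1, 9⟩))))) (.node 8 (.node 4 (.node 2 (.node 1 (.one ⟨9743, 2, 8⟩) (.one ⟨7012, 1, 8⟩)) (.node 1 (.one ⟨11923, 0, 9⟩) (.one ⟨17025, 1, 9⟩))) (.node 2 (.node 1 (.one ⟨2613, 2, 8⟩) (.one ⟨7943, 1, 10⟩)) (.node 1 (.one ⟨3595, 2, 10⟩) (.one ⟨14315, 2, 8⟩)))) (.node 4 (.node 2 (.node 1 (.one ⟨6317, 2, 9⟩) (.one ⟨6238, 2, 5⟩)) (.node 1 (.one ⟨14363, 2, 9⟩) (.one ⟨7332, 0, 8⟩))) (.node 2 (.node 1 (.one ⟨14268, 2, 8⟩) (.one ⟨5574, 1, 11⟩)) (.node 1 (.one ⟨6221, 2, 9⟩) (.one ⟨5974, 2, 8⟩)))))))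
def par10_15_1 : Arr Par :=
  (.node 32 (.node 16 (.node 8 (.node 4 (.node 2 (.node 1 (.one ⟨16529, 1, 4⟩) (.one ⟨5973, 2, 9⟩)) (.node 1 (.one ⟨8636, 1, 9⟩) (.one ⟨15453, 1, 6⟩))) (.node 2 (.node 1 (.one ⟨5970, 2, 5⟩) (.one ⟨7159, 0, 6⟩)) (.node 1 (.one ⟨1310, 1, 8⟩) (.one ⟨15340, 2, 8⟩)))) (.node 4 (.node 2 (.node 1 (.one ⟨1337, 1, 8⟩) (.one ⟨2879, 0, 9⟩)) (.node 1 (.one ⟨15995, 2, 9⟩) (.one ⟨4660, 2, 9⟩))) (.node 2 (.node 1 (.one ⟨11439, 1, 8⟩) (.one ⟨5314, 1, 8⟩)) (.node 1 (.one ⟨13021, 0, 6⟩) (.one ⟨9156, 2, 8⟩))))) (.node 8 (.node 4 (.node 2 (.node 1 (.one ⟨3365, 2, 8⟩) (.one ⟨13863, 2, 6⟩)) (.node 1 (.one ⟨7105, 2, 8⟩) (.one ⟨3104, 0, 8⟩))) (.node 2 (.node 1 (.one ⟨11437, 2, 9⟩) (.one ⟨11731, 0, 10⟩)) (.node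 1 (.one ⟨15176, 2, 7⟩) (.one ⟨10597, 1, 5⟩)))) (.node 4 (.node 2 (.node 1 (.one ⟨12010, 2, 7⟩) (.one ⟨1309, 1, 7⟩)) (.node 1 (.one ⟨2129, 1, 5⟩) (.one ⟨7059, 1, 9⟩))) (.node 2 (.node 1 (.one ⟨6601, 1, 6⟩) (.one ⟨9707, 0, 5⟩)) (.node 1 (.one ⟨13017, 0, 3⟩) (.one ⟨7664, 1, 11⟩)))))) (.node 16 (.node 8 (.node 4 (.node 2 (.node 1 (.one ⟨12409, 2, 8⟩) (.one ⟨11763, 2, 9⟩)) (.node 1 (.one ⟨15418, 1, 10⟩) (.one ⟨10027, 2, 7⟩))) (.node 2 (.node 1 (.one ⟨16935, 1, 9⟩) (.one ⟨6519, 2, 5⟩)) (.node 1 (.one ⟨10589, 2, 10⟩) (.one ⟨12931, 1, 9⟩)))) (.node 4 (.node 2 (.node 1 (.one ⟨14099, 0, 6⟩) (.one ⟨15960, 0, 9⟩)) (.node 1 (.one ⟨9952, 2, 7⟩) (.one ⟨4316, 1, 9⟩))) (.node 2 (.node 1 (.one ⟨3875, 0, 8⟩) (.one ⟨2015, 0, 6⟩)) (.node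 1 (.one ⟨13729, 2, 6⟩) (.one ⟨3567, 2, 4⟩))))) (.node 8 (.node 4 (.node 2 (.node 1 (.one ⟨7970, 0, 11⟩) (.one ⟨7426, 2, 6⟩)) (.node 1 (.one ⟨488, 0, 10⟩) (.one ⟨11515, 1, 6⟩))) (.node 2 (.node 1 (.one ⟨5258, 2, 5⟩) (.one ⟨7961, 0, 11⟩)) (.node 1 (.one ⟨5930, 2, 5⟩) (.one ⟨3291, 1, 8⟩)))) (.node 4 (.node 2 (.node 1 (.one ⟨12601, 2, 8⟩) (.one ⟨12606, 2, 7⟩)) (.node 1 (.one ⟨545, 2, 8⟩) (.one ⟨3, 2, 8⟩))) (.node 2 (.node 1 (.one ⟨14376, 1, 8⟩) (.one ⟨10716, 0, 5⟩)) (.node 1 (.one ⟨829, 2, 10⟩) (.one ⟨10280, 0, 8⟩)))))))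
def par10_15_2 : Arr Par :=
  (.node 32 (.node 16 (.node 8 (.node 4 (.node 2 (.node 1 (.one ⟨8643, 2, 9⟩) (.one ⟨10286, 0, 7⟩)) (.node 1 (.one ⟨8578, 2, 9⟩) (.one ⟨15314, 2, 11⟩))) (.node 2 (.node 1 (.one ⟨10282, 0, 5⟩) (.one ⟨15515, 2, 9⟩)) (.node 1 (.one ⟨10284, 0, 5⟩) (.one ⟨2356, 2, 10⟩)))) (.node 4 (.node 2 (.node 1 (.one ⟨5339, 0, 10⟩) (.one ⟨2054, 2, 7⟩)) (.node 1 (.one ⟨6663, 2, 9⟩) (.one ⟨6976, 2, 9⟩))) (.node 2 (.node 1 (.one ⟨1649, 2, 8⟩) (.one ⟨12988, 0, 9⟩)) (.node 1 (.one ⟨2495, 2, 8⟩) (.one ⟨7163, 1, 9⟩))))) (.node 8 (.node 4 (.node 2 (.node 1 (.one ⟨711, 2, 8⟩) (.one ⟨3322, 1, 9⟩)) (.node 1 (.one ⟨10656, 2, 9⟩) (.one ⟨2513, 2, 10⟩))) (.node 2 (.node 1 (.one ⟨13012, 2, 9⟩) (.one ⟨9469, 2, 6⟩)) (.node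 1 (.one ⟨7428, 1, 10⟩) (.one ⟨2533, 1, 5⟩)))) (.node 4 (.node 2 (.node 1 (.one ⟨3999, 0, 6⟩) (.one ⟨15279, 2, 6⟩)) (.node 1 (.one ⟨13908, 2, 10⟩) (.one ⟨14163, 1, 8⟩))) (.node 2 (.node 1 (.one ⟨6432, 1, 8⟩) (.one ⟨11984, 0, 8⟩)) (.node 1 (.one ⟨11411, 2, 7⟩) (.one ⟨8713, 0, 7⟩)))))) (.node 16 (.node 8 (.node 4 (.node 2 (.node 1 (.one ⟨11040, 0, 7⟩) (.one ⟨8360, 2, 9⟩)) (.node 1 (.one ⟨9354, 1, 8⟩) (.one ⟨5540, 2, 7⟩))) (.node 2 (.node 1 (.one ⟨13074, 2, 6⟩) (.one ⟨7114, 2, 9⟩)) (.node 1 (.one ⟨14821, 2, 9⟩) (.one ⟨16760, 2, 11⟩)))) (.node 4 (.node 2 (.node 1 (.one ⟨13859, 2, 8⟩) (.one ⟨13875, 2, 6⟩)) (.node 1 (.one ⟨3495, 1, 6⟩) (.one ⟨9201, 1, 6⟩))) (.node 2 (.node 1 (.one ⟨10735, 0, 6⟩) (.one ⟨2304, 0, 3⟩)) (.node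 1 (.one ⟨2578, 1, 9⟩) (.one ⟨1821, 2, 8⟩))))) (.node 8 (.node 4 (.node 2 (.node 1 (.one ⟨4037, 2, 8⟩) (.one ⟨3217, 2, 9⟩)) (.node 1 (.one ⟨4674, 2, 9⟩) (.one ⟨3274, 2, 8⟩))) (.node 2 (.node 1 (.one ⟨12417, 1, 9⟩) (.one ⟨9531, 0, 6⟩)) (.node 1 (.one ⟨3926, 2, 9⟩) (.one ⟨3372, 1, 7⟩)))) (.node 4 (.node 2 (.node 1 (.one ⟨12467, 0, 10⟩) (.one ⟨16984, 2, 8⟩)) (.node 1 (.one ⟨14419, 2, 8⟩) (.one ⟨1052, 0, 9⟩))) (.node 2 (.node 1 (.one ⟨3983, 1, 9⟩) (.one ⟨7316, 0, 9⟩)) (.node 1 (.one ⟨4640, 2, 9⟩) (.one ⟨4383, 2, 7⟩)))))))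
def par10_15_3 : Arr Par :=
  (.node 32 (.node 16 (.node 8 (.node 4 (.node 2 (.node 1 (.one ⟨1596, 2, 9⟩) (.one ⟨16474, 2, 10⟩)) (.node 1 (.one ⟨15556, 2, 7⟩) (.one ⟨9442, 0, 8⟩))) (.node 2 (.node 1 (.one ⟨4174, 2, 6⟩) (.one ⟨15633, 2, 6⟩)) (.node 1 (.one ⟨12372, 1, 7⟩) (.one ⟨10376, 2, 8⟩)))) (.node 4 (.node 2 (.node 1 (.one ⟨2336, 2, 10⟩) (.one ⟨11186, 1, 10⟩)) (.node 1 (.one ⟨10351, 2, 9⟩) (.one ⟨2304, 2, 3⟩))) (.node 2 (.node 1 (.one ⟨10407, 2, 5⟩) (.one ⟨10384, 2, 8⟩)) (.node 1 (.one ⟨2988, 0, 9⟩) (.one ⟨399, 0, 8⟩))))) (.node 8 (.node 4 (.node 2 (.node 1 (.one ⟨8281, 2, 7⟩) (.one ⟨11645, 1, 7⟩)) (.node 1 (.one ⟨2584, 2, 7⟩) (.one ⟨8582, 2, 8⟩))) (.node 2 (.node 1 (.one ⟨6482, 2, 11⟩) (.one ⟨8591, 0, 7⟩)) (.node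 1 (.one ⟨4389, 2, 6⟩) (.one ⟨640, 2, 6⟩)))) (.node 4 (.node 2 (.node 1 (.one ⟨9166, 0, 9⟩) (.one ⟨9296, 0, 9⟩)) (.node 1 (.one ⟨8861, 1, 8⟩) (.one ⟨278, 2, 5⟩))) (.node 2 (.node 1 (.one ⟨14105, 2, 10⟩) (.one ⟨255, 2, 7⟩)) (.node 1 (.one ⟨8244, 1, 9⟩) (.one ⟨478, 2, 11⟩)))))) (.node 16 (.node 8 (.node 4 (.node 2 (.node 1 (.one ⟨12017, 1, 6⟩) (.one ⟨16221, 0, 8⟩)) (.node 1 (.one ⟨8697, 2, 9⟩) (.one ⟨11808, 0, 5⟩))) (.node 2 (.node 1 (.one ⟨13272, 1, 9⟩) (.one ⟨11228, 1, 9⟩)) (.node 1 (.one ⟨16216, 0, 8⟩) (.one ⟨7771, 0, 8⟩)))) (.node 4 (.node 2 (.node 1 (.one ⟨7963, 2, 5⟩) (.one ⟨6794, 0, 6⟩)) (.node 1 (.one ⟨4651, 0, 8⟩) (.one ⟨3989, 2, 10⟩))) (.node 2 (.node 1 (.one ⟨14753, 1, 9⟩) (.one ⟨14311, 1, 9⟩)) (.node 1 (.one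 ⟨14871, 0, 9⟩) (.one ⟨10098, 0, 8⟩))))) (.node 8 (.node 4 (.node 2 (.node 1 (.one ⟨12190, 0, 5⟩) (.one ⟨972, 0, 10⟩)) (.node 1 (.one ⟨4308, 0, 6⟩) (.one ⟨15921, 1, 9⟩))) (.node 2 (.node 1 (.one ⟨16712, 2, 7⟩) (.one ⟨9535, 2, 10⟩)) (.node 1 (.one ⟨12195, 0, 9⟩) (.one ⟨4035, 2, 9⟩)))) (.node 4 (.node 2 (.node 1 (.one ⟨5757, 1, 8⟩) (.one ⟨4696, 0, 5⟩)) (.node 1 (.one ⟨9678, 1, 10⟩) (.one ⟨3142, 2, 4⟩))) (.node 2 (.node 1 (.one ⟨6928, 0, 7⟩) (.one ⟨9795, 2, 9⟩)) (.node 1 (.one ⟨16043, 0, 9⟩) (.one ⟨4644, 2, 9⟩)))))))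
def par10_15_4 : Arr Par :=
  (.node 32 (.node 16 (.node 8 (.node 4 (.node 2 (.node 1 (.one ⟨12025, 1, 9⟩) (.one ⟨7365, 2, 7⟩)) (.node 1 (.one ⟨14717, 2, 8⟩) (.one ⟨15529, 0, 7⟩))) (.node 2 (.node 1 (.one ⟨14238, 2, 9⟩) (.one ⟨8590, 1, 6⟩)) (.node 1 (.one ⟨7361, 0, 8⟩) (.one ⟨14969, 0, 7⟩)))) (.node 4 (.node 2 (.node 1 (.one ⟨2806, 2, 8⟩) (.one ⟨1998, 0, 9⟩)) (.node 1 (.one ⟨7835, 2, 10⟩) (.one ⟨438, 2, 9⟩))) (.node 2 (.node 1 (.one ⟨14847, 0, 7⟩) (.one ⟨4892, 0, 7⟩)) (.node 1 (.one ⟨3615, 2, 6⟩) (.one ⟨12584, 2, 8⟩))))) (.node 8 (.node 4 (.node 2 (.node 1 (.one ⟨246, 2, 7⟩) (.one ⟨12588, 2, 5⟩)) (.node 1 (.one ⟨15454, 1, 4⟩) (.one ⟨12589, 2, 8⟩))) (.node 2 (.node 1 (.one ⟨7536, 1, 5⟩) (.one ⟨12585, 2, 6⟩)) (.node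 1 (.one ⟨146, 2, 5⟩) (.one ⟨6052, 0, 5⟩)))) (.node 4 (.node 2 (.node 1 (.one ⟨11741, 0, 10⟩) (.one ⟨15516, 2, 9⟩)) (.node 1 (.one ⟨15337, 2, 8⟩) (.one ⟨16151, 0, 8⟩))) (.node 2 (.node 1 (.one ⟨13709, 2, 10⟩) (.one ⟨7892, 1, 9⟩)) (.node 1 (.one ⟨17111, 1, 5⟩) (.one ⟨12389, 0, 9⟩)))))) (.node 16 (.node 8 (.node 4 (.node 2 (.node 1 (.one ⟨3113, 0, 5⟩) (.one ⟨914, 1, 5⟩)) (.node 1 (.one ⟨14546, 2, 7⟩) (.one ⟨6461, 2, 7⟩))) (.node 2 (.node 1 (.one ⟨8799, 2, 6⟩) (.one ⟨13033, 2, 7⟩)) (.node 1 (.one ⟨9463, 2, 10⟩) (.one ⟨12893, 2, 9⟩)))) (.node 4 (.node 2 (.node 1 (.one ⟨5019, 2, 9⟩) (.one ⟨16670, 1, 9⟩)) (.node 1 (.one ⟨11044, 0, 10⟩) (.one ⟨1303, 2, 11⟩))) (.node 2 (.node 1 (.one ⟨10224, 2, 8⟩) (.one ⟨3029, 0, 9⟩)) (.node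 1 (.one ⟨13521, 0, 6⟩) (.one ⟨6437, 2, 9⟩))))) (.node 8 (.node 4 (.node 2 (.node 1 (.one ⟨11681, 2, 9⟩) (.one ⟨5155, 2, 9⟩)) (.node 1 (.one ⟨6929, 0, 10⟩) (.one ⟨12754, 2, 9⟩))) (.node 2 (.node 1 (.one ⟨4043, 0, 5⟩) (.one ⟨15401, 1, 8⟩)) (.node 1 (.one ⟨3634, 1, 6⟩) (.one ⟨10958, 0, 8⟩)))) (.node 4 (.node 2 (.node 1 (.one ⟨5470, 2, 8⟩) (.one ⟨4572, 1, 7⟩)) (.node 1 (.one ⟨11667, 1, 8⟩) (.one ⟨11458, 0, 9⟩))) (.node 2 (.node 1 (.one ⟨13310, 0, 7⟩) (.one ⟨4507, 0, 9⟩)) (.node 1 (.one ⟨9665, 2, 8⟩) (.one ⟨8977, 0, 10⟩)))))))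
def par10_15_5 : Arr Par :=
  (.node 32 (.node 16 (.node 8 (.node 4 (.node 2 (.node 1 (.one ⟨15237, 0, 10⟩) (.one ⟨14405, 2, 8⟩)) (.node 1 (.one ⟨7110, 0, 10⟩) (.one ⟨7408, 1, 6⟩))) (.node 2 (.node 1 (.one ⟨11645, 0, 7⟩) (.one ⟨965, 2, 9⟩)) (.node 1 (.one ⟨13035, 1, 11⟩) (.one ⟨1140, 2, 9⟩)))) (.node 4 (.node 2 (.node 1 (.one ⟨4864, 2, 7⟩) (.one ⟨5216, 0, 6⟩)) (.node 1 (.one ⟨2560, 2, 4⟩) (.one ⟨994, 2, 9⟩))) (.node 2 (.node 1 (.one ⟨11105, 0, 10⟩) (.one ⟨13056, 0, 8⟩)) (.node 1 (.one ⟨16107, 1, 9⟩) (.one ⟨8041, 2, 9⟩))))) (.node 8 (.node 4 (.node 2 (.node 1 (.one ⟨5531, 2, 4⟩) (.one ⟨7649, 1, 8⟩)) (.node 1 (.one ⟨10447, 1, 7⟩) (.one ⟨4215, 1, 8⟩))) (.node 2 (.node 1 (.one ⟨14140, 1, 7⟩) (.one ⟨16092, 2, 4⟩)) (.node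 1 (.one ⟨13600, 2, 7⟩) (.one ⟨1616, 2, 8⟩)))) (.node 4 (.node 2 (.node 1 (.one ⟨3312, 1, 10⟩) (.one ⟨2208, 2, 7⟩)) (.node 1 (.one ⟨9649, 1, 5⟩) (.one ⟨2055, 2, 7⟩))) (.node 2 (.node 1 (.one ⟨7127, 1, 5⟩) (.one ⟨11802, 1, 8⟩)) (.node 1 (.one ⟨11026, 2, 9⟩) (.one ⟨8018, 1, 5⟩)))))) (.node 16 (.node 8 (.node 4 (.node 2 (.node 1 (.one ⟨13896, 2, 9⟩) (.one ⟨9065, 1, 7⟩)) (.node 1 (.one ⟨5734, 1, 8⟩) (.one ⟨10061, 2, 10⟩))) (.node 2 (.node 1 (.one ⟨14080, 2, 8⟩) (.one ⟨15775, 2, 8⟩)) (.node 1 (.one ⟨3685, 1, 6⟩) (.one ⟨16009, 2, 9⟩)))) (.node 4 (.node 2 (.node 1 (.one ⟨2859, 2, 9⟩) (.one ⟨4998, 2, 9⟩)) (.node 1 (.one ⟨14710, 1, 9⟩) (.one ⟨8993, 2, 6⟩))) (.node 2 (.node 1 (.one ⟨8676, 1, 6⟩) (.one ⟨12099, 2, 10⟩)) (.node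 1 (.one ⟨3056, 1, 9⟩) (.one ⟨16313, 2, 6⟩))))) (.node 8 (.node 4 (.node 2 (.node 1 (.one ⟨8302, 2, 6⟩) (.one ⟨12457, 1, 9⟩)) (.node 1 (.one ⟨8277, 2, 8⟩) (.one ⟨8239, 2, 8⟩))) (.node 2 (.node 1 (.one ⟨16356, 2, 9⟩) (.one ⟨8263, 2, 6⟩)) (.node 1 (.one ⟨14824, 0, 11⟩) (.one ⟨15167, 2, 9⟩)))) (.node 4 (.node 2 (.node 1 (.one ⟨10927, 0, 8⟩) (.one ⟨9908, 2, 9⟩)) (.node 1 (.one ⟨9569, 0, 10⟩) (.one ⟨5282, 0, 9⟩))) (.node 2 (.node 1 (.one ⟨9757, 2, 7⟩) (.one ⟨4476, 0, 7⟩)) (.node 1 (.one ⟨2066, 1, 9⟩) (.one ⟨6143, 2, 9⟩)))))))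
def par10_15_6 : Arr Par :=
  (.node 32 (.node 16 (.node 8 (.node 4 (.node 2 (.node 1 (.one ⟨15431, 0, 9⟩) (.one ⟨13058, 1, 9⟩)) (.node 1 (.one ⟨12060, 2, 6⟩) (.one ⟨4798, 0, 6⟩))) (.node 2 (.node 1 (.one ⟨4615, 0, 8⟩) (.one ⟨13911, 2, 7⟩)) (.node 1 (.one ⟨2530, 0, 9⟩) (.one ⟨10728, 2, 9⟩)))) (.node 4 (.node 2 (.node 1 (.one ⟨9484, 0, 10⟩) (.one ⟨15132, 2, 9⟩)) (.node 1 (.one ⟨4350, 2, 9⟩) (.one ⟨11218, 2, 7⟩))) (.node 2 (.node 1 (.one ⟨7816, 2, 10⟩) (.one ⟨2310, 1, 9⟩)) (.node 1 (.one ⟨12086, 1, 10⟩) (.one ⟨13141, 1, 9⟩))))) (.node 8 (.node 4 (.node 2 (.node 1 (.one ⟨1844, 1, 8⟩) (.one ⟨2344, 0, 6⟩)) (.node 1 (.one ⟨9657, 1, 10⟩) (.one ⟨7959, 1, 8⟩))) (.node 2 (.node 1 (.one ⟨6810, 0, 6⟩) (.one ⟨15723, 1, 7⟩)) (.node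 1 (.one ⟨7501, 1, 9⟩) (.one ⟨1355, 0, 9⟩)))) (.node 4 (.node 2 (.node 1 (.one ⟨7489, 2, 8⟩) (.one ⟨4676, 2, 9⟩)) (.node 1 (.one ⟨1990, 1, 8⟩) (.one ⟨3923, 2, 9⟩))) (.node 2 (.node 1 (.one ⟨8358, 2, 9⟩) (.one ⟨1311, 2, 9⟩)) (.node 1 (.one ⟨15, 0, 10⟩) (.one ⟨3705, 1, 7⟩)))))) (.node 16 (.node 8 (.node 4 (.node 2 (.node 1 (.one ⟨12257, 2, 8⟩) (.one ⟨12255, 2, 8⟩)) (.node 1 (.one ⟨12261, 2, 10⟩) (.one ⟨847, 0, 9⟩))) (.node 2 (.node 1 (.one ⟨4723, 0, 10⟩) (.one ⟨318, 2, 6⟩)) (.node 1 (.one ⟨4764, 0, 8⟩) (.one ⟨8478, 2, 9⟩)))) (.node 4 (.node 2 (.node 1 (.one ⟨16674, 0, 10⟩) (.one ⟨13100, 1, 9⟩)) (.node 1 (.one ⟨13118, 1, 10⟩) (.one ⟨17135, 0, 6⟩))) (.node 2 (.node 1 (.one ⟨11524, 0, 7⟩) (.one ⟨2343, 0, 9⟩)) (.node 1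 (.one ⟨8221, 0, 10⟩) (.one ⟨6123, 0, 8⟩))))) (.node 8 (.node 4 (.node 2 (.node 1 (.one ⟨11134, 1, 7⟩) (.one ⟨3433, 1, 9⟩)) (.node 1 (.one ⟨15364, 2, 3⟩) (.one ⟨4588, 1, 10⟩))) (.node 2 (.node 1 (.one ⟨4596, 2, 9⟩) (.one ⟨17004, 0, 9⟩)) (.node 1 (.one ⟨13395, 2, 6⟩) (.one ⟨8850, 1, 8⟩)))) (.node 4 (.node 2 (.node 1 (.one ⟨15030, 2, 9⟩) (.one ⟨12501, 2, 11⟩)) (.node 1 (.one ⟨7577, 2, 8⟩) (.one ⟨6138, 2, 6⟩))) (.node 2 (.node 1 (.one ⟨12983, 2, 9⟩) (.one ⟨14555, 2, 10⟩)) (.node 1 (.one ⟨5524, 2, 8⟩) (.one ⟨5624, 0, 8⟩)))))))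
def par10_15_7 : Arr Par :=
  (.node 32 (.node 16 (.node 8 (.node 4 (.node 2 (.node 1 (.one ⟨9056, 0, 8⟩) (.one ⟨11706, 0, 8⟩)) (.node 1 (.one ⟨11297, 0, 11⟩) (.one ⟨7882, 1, 9⟩))) (.node 2 (.node 1 (.one ⟨511, 0, 8⟩) (.one ⟨5354, 2, 10⟩)) (.node 1 (.one ⟨5504, 2, 11⟩) (.one ⟨12520, 0, 7⟩)))) (.node 4 (.node 2 (.node 1 (.one ⟨10493, 2, 5⟩) (.one ⟨7985, 0, 8⟩)) (.node 1 (.one ⟨14838, 2, 8⟩) (.one ⟨16816, 0, 5⟩))) (.node 2 (.node 1 (.one ⟨3327, 0, 9⟩) (.one ⟨5075, 2, 7⟩)) (.node 1 (.one ⟨14807, 0, 4⟩) (.one ⟨16732, 2, 8⟩))))) (.node 8 (.node 4 (.node 2 (.node 1 (.one ⟨2039, 2, 9⟩) (.one ⟨8423, 2, 8⟩)) (.node 1 (.one ⟨9540, 2, 8⟩) (.one ⟨7345, 1, 7⟩))) (.node 2 (.node 1 (.one ⟨9109, 0, 6⟩) (.one ⟨4074, 0, 8⟩)) (.node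 1 (.one ⟨8134, 1, 11⟩) (.one ⟨15461, 0, 6⟩)))) (.node 4 (.node 2 (.node 1 (.one ⟨3244, 0, 9⟩) (.one ⟨13901, 0, 7⟩)) (.node 1 (.one ⟨7257, 2, 10⟩) (.one ⟨3373, 1, 7⟩))) (.node 2 (.node 1 (.one ⟨7805, 1, 11⟩) (.one ⟨16876, 1, 9⟩)) (.node 1 (.one ⟨9157, 1, 9⟩) (.one ⟨9646, 1, 9⟩)))))) (.node 16 (.node 8 (.node 4 (.node 2 (.node 1 (.one ⟨11357, 2, 9⟩) (.one ⟨10161, 0, 10⟩)) (.node 1 (.one ⟨12770, 2, 8⟩) (.one ⟨11918, 0, 5⟩))) (.node 2 (.node 1 (.one ⟨12974, 2, 10⟩) (.one ⟨1725, 2, 11⟩)) (.node 1 (.one ⟨4255, 0, 10⟩) (.one ⟨1141, 2, 7⟩)))) (.node 4 (.node 2 (.node 1 (.one ⟨14974, 2, 8⟩) (.one ⟨15036, 0, 7⟩)) (.node 1 (.one ⟨8496, 1, 10⟩) (.one ⟨5431, 2, 7⟩))) (.node 2 (.node 1 (.one ⟨16213, 2, 5⟩) (.one ⟨7715, 1, 9⟩))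 (.node 1 (.one ⟨7262, 2, 7⟩) (.one ⟨2044, 0, 6⟩))))) (.node 8 (.node 4 (.node 2 (.node 1 (.one ⟨14345, 2, 9⟩) (.one ⟨3193, 0, 8⟩)) (.node 1 (.one ⟨12969, 2, 8⟩) (.one ⟨905, 1, 10⟩))) (.node 2 (.node 1 (.one ⟨13993, 0, 9⟩) (.one ⟨16891, 2, 9⟩)) (.node 1 (.one ⟨15557, 0, 7⟩) (.one ⟨12967, 2, 8⟩)))) (.node 4 (.node 2 (.node 1 (.one ⟨3437, 2, 8⟩) (.one ⟨12345, 2, 8⟩)) (.node 1 (.one ⟨713, 2, 6⟩) (.one ⟨11128, 2, 7⟩))) (.node 2 (.node 1 (.one ⟨5261, 2, 6⟩) (.one ⟨10306, 2, 8⟩)) (.node 1 (.one ⟨3715, 2, 8⟩) (.one ⟨12300, 2, 9⟩)))))))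
def par10_15_8 : Arr Par :=
  (.node 32 (.node 16 (.node 8 (.node 4 (.node 2 (.node 1 (.one ⟨1423, 1, 2⟩) (.one ⟨3019, 1, 2⟩)) (.node 1 (.one ⟨8845, 2, 9⟩) (.one ⟨2692, 1, 9⟩))) (.node 2 (.node 1 (.one ⟨12813, 2, 8⟩) (.one ⟨8457, 0, 9⟩)) (.node 1 (.one ⟨3215, 1, 9⟩) (.one ⟨7998, 2, 8⟩)))) (.node 4 (.node 2 (.node 1 (.one ⟨13308, 1, 10⟩) (.one ⟨8198, 2, 8⟩)) (.node 1 (.one ⟨9431, 0, 10⟩) (.one ⟨796, 2, 5⟩))) (.node 2 (.node 1 (.one ⟨16252, 2, 9⟩) (.one ⟨2524, 2, 10⟩)) (.node 1 (.one ⟨5178, 1, 9⟩) (.one ⟨4785, 2, 8⟩))))) (.node 8 (.node 4 (.node 2 (.node 1 (.one ⟨15857, 1, 9⟩) (.one ⟨819, 2, 9⟩)) (.node 1 (.one ⟨377, 1, 10⟩) (.one ⟨14622, 0, 7⟩))) (.node 2 (.node 1 (.one ⟨15856, 1, 10⟩) (.one ⟨6851, 0, 9⟩)) (.node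 1 (.one ⟨376, 1, 9⟩) (.one ⟨3857, 1, 6⟩)))) (.node 4 (.node 2 (.node 1 (.one ⟨10780, 2, 7⟩) (.one ⟨5277, 0, 9⟩)) (.node 1 (.one ⟨6988, 1, 8⟩) (.one ⟨5273, 0, 7⟩))) (.node 2 (.node 1 (.one ⟨5377, 2, 9⟩) (.one ⟨8580, 0, 9⟩)) (.node 1 (.one ⟨16685, 1, 9⟩) (.one ⟨13403, 0, 6⟩)))))) (.node 16 (.node 8 (.node 4 (.node 2 (.node 1 (.one ⟨15170, 2, 10⟩) (.one ⟨16406, 1, 9⟩)) (.node 1 (.one ⟨7064, 0, 7⟩) (.one ⟨5481, 0, 8⟩))) (.node 2 (.node 1 (.one ⟨6088, 0, 8⟩) (.one ⟨7587, 1, 10⟩)) (.node 1 (.one ⟨12656, 1, 10⟩) (.one ⟨16549, 2, 7⟩)))) (.node 4 (.node 2 (.node 1 (.one ⟨5803, 2, 9⟩) (.one ⟨3405, 0, 9⟩)) (.node 1 (.one ⟨3386, 0, 9⟩) (.one ⟨1340, 0, 8⟩))) (.node 2 (.node 1 (.one ⟨1431, 0, 4⟩) (.one ⟨3418, 0, 10⟩)) (.node 1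 (.one ⟨8976, 2, 6⟩) (.one ⟨15237, 2, 10⟩))))) (.node 8 (.node 4 (.node 2 (.node 1 (.one ⟨15441, 1, 7⟩) (.one ⟨288, 2, 8⟩)) (.node 1 (.one ⟨459, 1, 9⟩) (.one ⟨14318, 0, 9⟩))) (.node 2 (.node 1 (.one ⟨5512, 1, 5⟩) (.one ⟨5690, 0, 10⟩)) (.node 1 (.one ⟨15233, 2, 9⟩) (.one ⟨15434, 1, 10⟩)))) (.node 4 (.node 2 (.node 1 (.one ⟨7733, 1, 10⟩) (.one ⟨3675, 2, 5⟩)) (.node 1 (.one ⟨12635, 2, 7⟩) (.one ⟨8413, 0, 9⟩))) (.node 2 (.node 1 (.one ⟨10277, 1, 7⟩) (.one ⟨207, 1, 10⟩)) (.node 1 (.one ⟨1094, 0, 5⟩) (.one ⟨10818, 1, 10⟩)))))))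
def par10_15_9 : Arr Par :=
  (.node 32 (.node 16 (.node 8 (.node 4 (.node 2 (.node 1 (.one ⟨7598, 0, 8⟩) (.one ⟨6567, 2, 9⟩)) (.node 1 (.one ⟨11342, 1, 3⟩) (.one ⟨12709, 0, 8⟩))) (.node 2 (.node 1 (.one ⟨10674, 2, 8⟩) (.one ⟨11181, 0, 8⟩)) (.node 1 (.one ⟨5910, 2, 10⟩) (.one ⟨15934, 0, 6⟩)))) (.node 4 (.node 2 (.node 1 (.one ⟨2129, 0, 5⟩) (.one ⟨14728, 1, 2⟩)) (.node 1 (.one ⟨7811, 2, 10⟩) (.one ⟨12940, 1, 6⟩))) (.node 2 (.node 1 (.one ⟨2738, 1, 8⟩) (.one ⟨6023, 2, 9⟩)) (.node 1 (.one ⟨7987, 2, 6⟩) (.one ⟨15292, 2, 5⟩))))) (.node 8 (.node 4 (.node 2 (.node 1 (.one ⟨8660, 1, 8⟩) (.one ⟨14174, 2, 6⟩)) (.node 1 (.one ⟨3333, 2, 9⟩) (.one ⟨1104, 0, 8⟩))) (.node 2 (.node 1 (.one ⟨1671, 2, 8⟩) (.one ⟨13752, 2, 6⟩)) (.node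 1 (.one ⟨3378, 2, 9⟩) (.one ⟨8802, 0, 8⟩)))) (.node 4 (.node 2 (.node 1 (.one ⟨15108, 2, 8⟩) (.one ⟨12458, 2, 7⟩)) (.node 1 (.one ⟨1701, 2, 10⟩) (.one ⟨16988, 2, 10⟩))) (.node 2 (.node 1 (.one ⟨7002, 2, 8⟩) (.one ⟨4170, 2, 9⟩)) (.node 1 (.one ⟨9208, 2, 7⟩) (.one ⟨7359, 2, 10⟩)))))) (.node 16 (.node 8 (.node 4 (.node 2 (.node 1 (.one ⟨10073, 2, 7⟩) (.one ⟨1047, 0, 8⟩)) (.node 1 (.one ⟨10954, 2, 7⟩) (.one ⟨15401, 0, 8⟩))) (.node 2 (.node 1 (.one ⟨15617, 0, 8⟩) (.one ⟨6080, 2, 3⟩)) (.node 1 (.one ⟨11886, 1, 10⟩) (.one ⟨12332, 2, 9⟩)))) (.node 4 (.node 2 (.node 1 (.one ⟨1525, 2, 6⟩) (.one ⟨6622, 2, 6⟩)) (.node 1 (.one ⟨17111, 2, 5⟩) (.one ⟨11970, 2, 8⟩))) (.node 2 (.node 1 (.one ⟨1855, 2, 8⟩) (.one ⟨13974, 1, 7⟩)) (.node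 1 (.one ⟨16818, 2, 9⟩) (.one ⟨1791, 2, 7⟩))))) (.node 8 (.node 4 (.node 2 (.node 1 (.one ⟨12465, 1, 9⟩) (.one ⟨11825, 2, 8⟩)) (.node 1 (.one ⟨14241, 0, 9⟩) (.one ⟨15977, 1, 7⟩))) (.node 2 (.node 1 (.one ⟨12642, 0, 8⟩) (.one ⟨2349, 2, 10⟩)) (.node 1 (.one ⟨1310, 2, 8⟩) (.one ⟨14384, 2, 9⟩)))) (.node 4 (.node 2 (.node 1 (.one ⟨4274, 2, 10⟩) (.one ⟨7815, 2, 7⟩)) (.node 1 (.one ⟨10010, 2, 8⟩) (.one ⟨7306, 2, 8⟩))) (.node 2 (.node 1 (.one ⟨12503, 1, 8⟩) (.one ⟨16498, 2, 8⟩)) (.node 1 (.one ⟨2999, 2, 10⟩) (.one ⟨4184, 2, 9⟩)))))))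
def par10_15_10 : Arr Par :=
  (.node 32 (.node 16 (.node 8 (.node 4 (.node 2 (.node 1 (.one ⟨4143, 2, 9⟩) (.one ⟨10620, 0, 6⟩)) (.node 1 (.one ⟨16639, 2, 8⟩) (.one ⟨7200, 2, 7⟩))) (.node 2 (.node 1 (.one ⟨12129, 1, 7⟩) (.one ⟨2445, 1, 9⟩)) (.node 1 (.one ⟨2874, 1, 8⟩) (.one ⟨3366, 0, 7⟩)))) (.node 4 (.node 2 (.node 1 (.one ⟨13047, 2, 7⟩) (.one ⟨12550, 0, 8⟩)) (.node 1 (.one ⟨13241, 2, 7⟩) (.one ⟨9253, 0, 9⟩))) (.node 2 (.node 1 (.one ⟨10888, 1, 8⟩) (.one ⟨10172, 2, 8⟩)) (.node 1 (.one ⟨2423, 1, 10⟩) (.one ⟨8976, 1, 6⟩))))) (.node 8 (.node 4 (.node 2 (.node 1 (.one ⟨3460, 0, 6⟩) (.one ⟨3248, 2, 10⟩)) (.node 1 (.one ⟨3181, 0, 3⟩) (.one ⟨14550, 2, 9⟩))) (.node 2 (.node 1 (.one ⟨1617, 2, 7⟩) (.one ⟨4149, 0, 5⟩)) (.node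 1 (.one ⟨17122, 1, 9⟩) (.one ⟨14506, 0, 9⟩)))) (.node 4 (.node 2 (.node 1 (.one ⟨10578, 0, 9⟩) (.one ⟨9026, 1, 9⟩)) (.node 1 (.one ⟨2113, 1, 8⟩) (.one ⟨8971, 1, 10⟩))) (.node 2 (.node 1 (.one ⟨5222, 0, 11⟩) (.one ⟨15807, 1, 9⟩)) (.node 1 (.one ⟨8437, 2, 5⟩) (.one ⟨15062, 2, 9⟩)))))) (.node 16 (.node 8 (.node 4 (.node 2 (.node 1 (.one ⟨15055, 2, 10⟩) (.one ⟨980, 2, 8⟩)) (.node 1 (.one ⟨11373, 0, 10⟩) (.one ⟨516, 2, 7⟩))) (.node 2 (.node 1 (.one ⟨2937, 1, 6⟩) (.one ⟨5599, 0, 7⟩)) (.node 1 (.one ⟨15059, 2, 7⟩) (.one ⟨9517, 2, 7⟩)))) (.node 4 (.node 2 (.node 1 (.one ⟨16963, 2, 6⟩) (.one ⟨13826, 2, 10⟩)) (.node 1 (.one ⟨13112, 2, 10⟩) (.one ⟨3256, 2, 8⟩))) (.node 2 (.node 1 (.one ⟨11004, 0, 10⟩) (.one ⟨2764, 0, 7⟩)) (.node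 1 (.one ⟨3564, 2, 8⟩) (.one ⟨2532, 1, 8⟩))))) (.node 8 (.node 4 (.node 2 (.node 1 (.one ⟨14525, 2, 8⟩) (.one ⟨14335, 1, 11⟩)) (.node 1 (.one ⟨802, 1, 9⟩) (.one ⟨12122, 2, 8⟩))) (.node 2 (.node 1 (.one ⟨7954, 2, 9⟩) (.one ⟨6432, 2, 8⟩)) (.node 1 (.one ⟨14351, 0, 5⟩) (.one ⟨15867, 1, 8⟩)))) (.node 4 (.node 2 (.node 1 (.one ⟨9210, 2, 9⟩) (.one ⟨15009, 0, 9⟩)) (.node 1 (.one ⟨16863, 2, 10⟩) (.one ⟨5421, 2, 9⟩))) (.node 2 (.node 1 (.one ⟨9926, 1, 7⟩) (.one ⟨186, 0, 7⟩)) (.node 1 (.one ⟨5756, 1, 2⟩) (.one ⟨11330, 2, 7⟩)))))))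
def par10_15_11 : Arr Par :=
  (.node 32 (.node 16 (.node 8 (.node 4 (.node 2 (.node 1 (.one ⟨1089, 0, 9⟩) (.one ⟨7569, 2, 7⟩)) (.node 1 (.one ⟨16816, 2, 5⟩) (.one ⟨11799, 1, 10⟩))) (.node 2 (.node 1 (.one ⟨5767, 1, 9⟩) (.one ⟨14223, 2, 9⟩)) (.node 1 (.one ⟨7745, 2, 9⟩) (.one ⟨14710, 0, 9⟩)))) (.node 4 (.node 2 (.node 1 (.one ⟨3042, 2, 11⟩) (.one ⟨12757, 0, 4⟩)) (.node 1 (.one ⟨9494, 2, 9⟩) (.one ⟨11336, 0, 10⟩))) (.node 2 (.node 1 (.one ⟨7613, 0, 6⟩) (.one ⟨16947, 0, 9⟩)) (.node 1 (.one ⟨17138, 2, 9⟩) (.one ⟨12122, 0, 8⟩))))) (.node 8 (.node 4 (.node 2 (.node 1 (.one ⟨3017, 2, 9⟩) (.one ⟨15789, 1, 10⟩)) (.node 1 (.one ⟨9483, 2, 11⟩) (.one ⟨14582, 0, 11⟩))) (.node 2 (.node 1 (.one ⟨12887, 2, 9⟩) (.one ⟨10937, 2,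 8⟩)) (.node 1 (.one ⟨15741, 0, 8⟩) (.one ⟨4801, 0, 9⟩)))) (.node 4 (.node 2 (.node 1 (.one ⟨14414, 2, 9⟩) (.one ⟨11972, 0, 10⟩)) (.node 1 (.one ⟨11993, 1, 9⟩) (.one ⟨7655, 1, 9⟩))) (.node 2 (.node 1 (.one ⟨11342, 0, 3⟩) (.one ⟨13925, 0, 8⟩)) (.node 1 (.one ⟨307, 0, 10⟩) (.one ⟨2705, 2, 8⟩)))))) (.node 16 (.node 8 (.node 4 (.node 2 (.node 1 (.one ⟨26, 2, 9⟩) (.one ⟨1102, 1, 8⟩)) (.node 1 (.one ⟨3802, 2, 8⟩) (.one ⟨14620, 1, 9⟩))) (.node 2 (.node 1 (.one ⟨9265, 2, 11⟩) (.one ⟨7453, 1, 9⟩)) (.node 1 (.one ⟨11836, 2, 9⟩) (.one ⟨13863, 1, 6⟩)))) (.node 4 (.node 2 (.node 1 (.one ⟨6411, 2, 9⟩) (.one ⟨8673, 2, 6⟩)) (.node 1 (.one ⟨290, 2, 8⟩) (.one ⟨12239, 0, 8⟩))) (.node 2 (.node 1 (.one ⟨4544, 2, 7⟩) (.one ⟨2566, 2, 4⟩))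 (.node 1 (.one ⟨8963, 2, 9⟩) (.one ⟨273, 1, 7⟩))))) (.node 8 (.node 4 (.node 2 (.node 1 (.one ⟨7342, 2, 8⟩) (.one ⟨8209, 2, 9⟩)) (.node 1 (.one ⟨1021, 0, 6⟩) (.one ⟨3599, 1, 10⟩))) (.node 2 (.node 1 (.one ⟨400, 1, 9⟩) (.one ⟨534, 1, 10⟩)) (.node 1 (.one ⟨1644, 2, 9⟩) (.one ⟨12569, 1, 8⟩)))) (.node 4 (.node 2 (.node 1 (.one ⟨5024, 2, 8⟩) (.one ⟨5041, 0, 8⟩)) (.node 1 (.one ⟨425, 2, 5⟩) (.one ⟨132, 2, 8⟩))) (.node 2 (.node 1 (.one ⟨1008, 2, 10⟩) (.one ⟨13907, 1, 9⟩)) (.node 1 (.one ⟨5377, 0, 9⟩) (.one ⟨3531, 0, 9⟩)))))))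
def par10_15_12 : Arr Par :=
  (.node 32 (.node 16 (.node 8 (.node 4 (.node 2 (.node 1 (.one ⟨7924, 1, 9⟩) (.one ⟨10818, 0, 10⟩)) (.node 1 (.one ⟨15044, 1, 8⟩) (.one ⟨8073, 1, 9⟩))) (.node 2 (.node 1 (.one ⟨12423, 2, 8⟩) (.one ⟨14976, 1, 10⟩)) (.node 1 (.one ⟨12729, 1, 8⟩) (.one ⟨5941, 2, 9⟩)))) (.node 4 (.node 2 (.node 1 (.one ⟨2004, 2, 7⟩) (.one ⟨15705, 1, 8⟩)) (.node 1 (.one ⟨7416, 1, 8⟩) (.one ⟨5333, 1, 8⟩))) (.node 2 (.node 1 (.one ⟨10143, 1, 9⟩) (.one ⟨11766, 1, 8⟩)) (.node 1 (.one ⟨3415, 1, 9⟩) (.one ⟨7103, 2, 8⟩))))) (.node 8 (.node 4 (.node 2 (.node 1 (.one ⟨11924, 0, 6⟩) (.one ⟨16054, 1, 6⟩)) (.node 1 (.one ⟨9157, 2, 9⟩) (.one ⟨4160, 2, 9⟩))) (.node 2 (.node 1 (.one ⟨13414, 1, 9⟩) (.one ⟨9231, 2, 8⟩)) (.node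 1 (.one ⟨11200, 1, 9⟩) (.one ⟨9216, 2, 7⟩)))) (.node 4 (.node 2 (.node 1 (.one ⟨14524, 2, 5⟩) (.one ⟨16003, 2, 8⟩)) (.node 1 (.one ⟨12057, 2, 8⟩) (.one ⟨4662, 2, 9⟩))) (.node 2 (.node 1 (.one ⟨9039, 0, 4⟩) (.one ⟨6898, 2, 8⟩)) (.node 1 (.one ⟨3157, 2, 8⟩) (.one ⟨15635, 2, 9⟩)))))) (.node 16 (.node 8 (.node 4 (.node 2 (.node 1 (.one ⟨9758, 2, 7⟩) (.one ⟨15587, 2, 6⟩)) (.node 1 (.one ⟨9376, 2, 7⟩) (.one ⟨12279, 2, 7⟩))) (.node 2 (.node 1 (.one ⟨16483, 2, 8⟩) (.one ⟨12436, 2, 9⟩)) (.node 1 (.one ⟨16530, 2, 9⟩) (.one ⟨3416, 1, 9⟩)))) (.node 4 (.node 2 (.node 1 (.one ⟨15065, 2, 6⟩) (.one ⟨3218, 2, 10⟩)) (.node 1 (.one ⟨3433, 0, 9⟩) (.one ⟨12979, 2, 7⟩))) (.node 2 (.node 1 (.one ⟨12547, 0, 7⟩) (.one ⟨8542, 2, 8⟩)) (.node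 1 (.one ⟨8948, 2, 10⟩) (.one ⟨15950, 2, 7⟩))))) (.node 8 (.node 4 (.node 2 (.node 1 (.one ⟨4684, 2, 6⟩) (.one ⟨15978, 0, 6⟩)) (.node 1 (.one ⟨116, 0, 8⟩) (.one ⟨9899, 1, 8⟩))) (.node 2 (.node 1 (.one ⟨8015, 2, 5⟩) (.one ⟨4374, 1, 9⟩)) (.node 1 (.one ⟨14902, 2, 9⟩) (.one ⟨8051, 1, 9⟩)))) (.node 4 (.node 2 (.node 1 (.one ⟨12111, 0, 10⟩) (.one ⟨12206, 2, 9⟩)) (.node 1 (.one ⟨11733, 0, 7⟩) (.one ⟨2036, 0, 9⟩))) (.node 2 (.node 1 (.one ⟨12092, 1, 10⟩) (.one ⟨4401, 2, 7⟩)) (.node 1 (.one ⟨3590, 0, 8⟩) (.one ⟨9857, 1, 9⟩)))))))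
def par10_15_13 : Arr Par :=
  (.node 32 (.node 16 (.node 8 (.node 4 (.node 2 (.node 1 (.one ⟨4869, 2, 7⟩) (.one ⟨6691, 2, 5⟩)) (.node 1 (.one ⟨17016, 2, 11⟩) (.one ⟨12066, 0, 6⟩))) (.node 2 (.node 1 (.one ⟨929, 1, 9⟩) (.one ⟨15748, 2, 9⟩)) (.node 1 (.one ⟨6423, 2, 7⟩) (.one ⟨5224, 2, 8⟩)))) (.node 4 (.node 2 (.node 1 (.one ⟨9803, 0, 8⟩) (.one ⟨16478, 2, 9⟩)) (.node 1 (.one ⟨13380, 2, 6⟩) (.one ⟨10550, 1, 7⟩))) (.node 2 (.node 1 (.one ⟨15702, 1, 8⟩) (.one ⟨14477, 2, 9⟩)) (.node 1 (.one ⟨10144, 2, 9⟩) (.one ⟨4256, 2, 8⟩))))) (.node 8 (.node 4 (.node 2 (.node 1 (.one ⟨1700, 0, 8⟩) (.one ⟨2626, 0, 8⟩)) (.node 1 (.one ⟨4151, 0, 8⟩) (.one ⟨4228, 1, 9⟩))) (.node 2 (.node 1 (.one ⟨2014, 2, 8⟩) (.one ⟨3820, 1, 4⟩)) (.node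 1 (.one ⟨2717, 0, 9⟩) (.one ⟨16383, 0, 10⟩)))) (.node 4 (.node 2 (.node 1 (.one ⟨6534, 2, 7⟩) (.one ⟨15265, 2, 10⟩)) (.node 1 (.one ⟨1082, 2, 7⟩) (.one ⟨16385, 0, 6⟩))) (.node 2 (.node 1 (.one ⟨10774, 2, 9⟩) (.one ⟨3263, 2, 7⟩)) (.node 1 (.one ⟨13850, 2, 7⟩) (.one ⟨8360, 1, 9⟩)))))) (.node 16 (.node 8 (.node 4 (.node 2 (.node 1 (.one ⟨7131, 0, 5⟩) (.one ⟨11353, 2, 10⟩)) (.node 1 (.one ⟨11362, 2, 8⟩) (.one ⟨4143, 1, 9⟩))) (.node 2 (.node 1 (.one ⟨8151, 1, 8⟩) (.one ⟨12660, 0, 9⟩)) (.node 1 (.one ⟨12728, 2, 8⟩) (.one ⟨12507, 2, 9⟩)))) (.node 4 (.node 2 (.node 1 (.one ⟨4409, 1, 8⟩) (.one ⟨16051, 1, 9⟩)) (.node 1 (.one ⟨6870, 2, 7⟩) (.one ⟨14281, 1, 10⟩))) (.node 2 (.node 1 (.one ⟨17105, 2, 6⟩) (.one ⟨2030, 2, 6⟩)) (.node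 1 (.one ⟨8556, 2, 9⟩) (.one ⟨16267, 1, 7⟩))))) (.node 8 (.node 4 (.node 2 (.node 1 (.one ⟨3451, 2, 7⟩) (.one ⟨5270, 1, 9⟩)) (.node 1 (.one ⟨4055, 0, 10⟩) (.one ⟨13664, 0, 10⟩))) (.node 2 (.node 1 (.one ⟨14613, 2, 7⟩) (.one ⟨2015, 1, 6⟩)) (.node 1 (.one ⟨1304, 0, 8⟩) (.one ⟨12562, 1, 7⟩)))) (.node 4 (.node 2 (.node 1 (.one ⟨16045, 0, 8⟩) (.one ⟨2561, 1, 10⟩)) (.node 1 (.one ⟨15038, 2, 8⟩) (.one ⟨2204, 0, 9⟩))) (.node 2 (.node 1 (.one ⟨9103, 2, 8⟩) (.one ⟨1259, 1, 8⟩)) (.node 1 (.one ⟨14816, 0, 7⟩) (.one ⟨6957, 0, 8⟩)))))))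
def par10_15_14 : Arr Par :=
  (.node 32 (.node 16 (.node 8 (.node 4 (.node 2 (.node 1 (.one ⟨1831, 0, 10⟩) (.one ⟨5791, 2, 6⟩)) (.node 1 (.one ⟨10520, 0, 11⟩) (.one ⟨1257, 1, 9⟩))) (.node 2 (.node 1 (.one ⟨2407, 2, 8⟩) (.one ⟨3775, 0, 10⟩)) (.node 1 (.one ⟨8781, 1, 10⟩) (.one ⟨1103, 1, 10⟩)))) (.node 4 (.node 2 (.node 1 (.one ⟨234, 2, 10⟩) (.one ⟨7015, 2, 8⟩)) (.node 1 (.one ⟨13795, 1, 9⟩) (.one ⟨10945, 2, 6⟩))) (.node 2 (.node 1 (.one ⟨13941, 2, 9⟩) (.one ⟨11020, 2, 11⟩)) (.node 1 (.one ⟨13184, 0, 9⟩) (.one ⟨1260, 2, 8⟩))))) (.node 8 (.node 4 (.node 2 (.node 1 (.one ⟨15202, 1, 8⟩) (.one ⟨12147, 2, 8⟩)) (.node 1 (.one ⟨10397, 2, 7⟩) (.one ⟨2494, 0, 11⟩))) (.node 2 (.node 1 (.one ⟨14849, 1, 8⟩) (.one ⟨10627, 2, 7⟩))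 (.node 1 (.one ⟨8230, 0, 8⟩) (.one ⟨4703, 2, 9⟩)))) (.node 4 (.node 2 (.node 1 (.one ⟨8973, 2, 8⟩) (.one ⟨10914, 2, 8⟩)) (.node 1 (.one ⟨15350, 2, 11⟩) (.one ⟨478, 1, 11⟩))) (.node 2 (.node 1 (.one ⟨10398, 2, 10⟩) (.one ⟨4203, 1, 10⟩)) (.node 1 (.one ⟨4052, 2, 7⟩) (.one ⟨11510, 2, 10⟩)))))) (.node 16 (.node 8 (.node 4 (.node 2 (.node 1 (.one ⟨8629, 1, 9⟩) (.one ⟨9955, 2, 9⟩)) (.node 1 (.one ⟨1262, 1, 5⟩) (.one ⟨8643, 1, 9⟩))) (.node 2 (.node 1 (.one ⟨12528, 1, 7⟩) (.one ⟨203, 1, 8⟩)) (.node 1 (.one ⟨15312, 1, 10⟩) (.one ⟨8194, 0, 7⟩)))) (.node 4 (.node 2 (.node 1 (.one ⟨11381, 2, 4⟩) (.one ⟨3616, 0, 9⟩)) (.node 1 (.one ⟨3279, 2, 9⟩) (.one ⟨6093, 1, 10⟩))) (.node 2 (.node 1 (.one ⟨999, 0, 8⟩) (.one ⟨16273, 1, 9⟩))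 (.node 1 (.one ⟨11413, 2, 8⟩) (.one ⟨11374, 1, 9⟩))))) (.node 8 (.node 4 (.node 2 (.node 1 (.one ⟨859, 2, 10⟩) (.one ⟨6211, 0, 8⟩)) (.node 1 (.one ⟨4492, 0, 10⟩) (.one ⟨16343, 2, 7⟩))) (.node 2 (.node 1 (.one ⟨13054, 0, 8⟩) (.one ⟨3212, 1, 10⟩)) (.node 1 (.one ⟨11997, 1, 9⟩) (.one ⟨14157, 2, 11⟩)))) (.node 4 (.node 2 (.node 1 (.one ⟨3881, 2, 9⟩) (.one ⟨3492, 0, 5⟩)) (.node 1 (.one ⟨13369, 1, 11⟩) (.one ⟨8447, 0, 11⟩))) (.node 2 (.node 1 (.one ⟨12106, 2, 9⟩) (.one ⟨12657, 2, 10⟩)) (.node 1 (.one ⟨1176, 1, 10⟩) (.one ⟨744, 0, 9⟩)))))))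
def par10_15_15 : Arr Par :=
  (.node 32 (.node 16 (.node 8 (.node 4 (.node 2 (.node 1 (.one ⟨6677, 0, 9⟩) (.one ⟨11657, 2, 5⟩)) (.node 1 (.one ⟨446, 2, 8⟩) (.one ⟨9660, 1, 8⟩))) (.node 2 (.node 1 (.one ⟨13717, 1, 11⟩) (.one ⟨648, 2, 10⟩)) (.node 1 (.one ⟨4889, 0, 7⟩) (.one ⟨1535, 0, 8⟩)))) (.node 4 (.node 2 (.node 1 (.one ⟨5293, 0, 9⟩) (.one ⟨5242, 0, 8⟩)) (.node 1 (.one ⟨10881, 1, 7⟩) (.one ⟨5177, 0, 10⟩))) (.node 2 (.node 1 (.one ⟨4765, 2, 9⟩) (.one ⟨1216, 0, 10⟩)) (.node 1 (.one ⟨5216, 1, 6⟩) (.one ⟨6054, 1, 8⟩))))) (.node 8 (.node 4 (.node 2 (.node 1 (.one ⟨8250, 2, 8⟩) (.one ⟨2182, 2, 7⟩)) (.node 1 (.one ⟨10488, 0, 10⟩) (.one ⟨10702, 2, 10⟩))) (.node 2 (.node 1 (.one ⟨17153, 2, 9⟩) (.one ⟨11156, 2, 10⟩)) (.node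 1 (.one ⟨10653, 1, 10⟩) (.one ⟨14300, 2, 6⟩)))) (.node 4 (.node 2 (.node 1 (.one ⟨12080, 1, 10⟩) (.one ⟨3013, 0, 9⟩)) (.node 1 (.one ⟨14886, 2, 9⟩) (.one ⟨12500, 2, 10⟩))) (.node 2 (.node 1 (.one ⟨7986, 2, 8⟩) (.one ⟨9050, 2, 10⟩)) (.node 1 (.one ⟨12984, 2, 10⟩) (.one ⟨11307, 1, 10⟩)))))) (.node 16 (.node 8 (.node 4 (.node 2 (.node 1 (.one ⟨3225, 2, 7⟩) (.one ⟨1497, 1, 11⟩)) (.node 1 (.one ⟨2828, 1, 4⟩) (.one ⟨13744, 2, 10⟩))) (.node 2 (.node 1 (.one ⟨1353, 0, 8⟩) (.one ⟨2362, 2, 8⟩)) (.node 1 (.one ⟨13329, 1, 8⟩) (.one ⟨7760, 0, 9⟩)))) (.node 4 (.node 2 (.node 1 (.one ⟨16038, 2, 8⟩) (.one ⟨2880, 2, 10⟩)) (.node 1 (.one ⟨8137, 0, 8⟩) (.one ⟨583, 0, 5⟩))) (.node 2 (.node 1 (.one ⟨15284, 1, 5⟩) (.one ⟨15624, 2, 9⟩))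 (.node 1 (.one ⟨2237, 0, 8⟩) (.one ⟨455, 1, 8⟩))))) (.node 8 (.node 4 (.node 2 (.node 1 (.one ⟨3693, 2, 4⟩) (.one ⟨12057, 1, 8⟩)) (.node 1 (.one ⟨10358, 2, 8⟩) (.one ⟨3758, 2, 9⟩))) (.node 2 (.node 1 (.one ⟨15532, 0, 7⟩) (.one ⟨12061, 1, 8⟩)) (.node 1 (.one ⟨231, 2, 10⟩) (.one ⟨4762, 2, 9⟩)))) (.node 4 (.node 2 (.node 1 (.one ⟨5013, 2, 4⟩) (.one ⟨4333, 0, 9⟩)) (.node 1 (.one ⟨1859, 2, 9⟩) (.one ⟨13604, 2, 7⟩))) (.node 2 (.node 1 (.one ⟨13336, 2, 9⟩) (.one ⟨10676, 2, 9⟩)) (.node 1 (.one ⟨10423, 2, 7⟩) (.one ⟨10906, 0, 9⟩)))))))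
def par10_15 : Arr Par :=
  (.node 512 (.node 256 (.node 128 (.node 64 par10_15_0 par10_15_1) (.node 64 par10_15_2 par10_15_3)) (.node 128 (.node 64 par10_15_4 par10_15_5) (.node 64 par10_15_6 par10_15_7))) (.node 256 (.node 128 (.node 64 par10_15_8 par10_15_9) (.node 64 par10_15_10 par10_15_11)) (.node 128 (.node 64 par10_15_12 par10_15_13) (.node 64 par10_15_14 par10_15_15))))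
def par10_16_0 : Arr Par :=
  (.node 32 (.node 16 (.node 8 (.node 4 (.node 2 (.node 1 (.one ⟨15586, 0, 10⟩) (.one ⟨902, 2, 5⟩)) (.node 1 (.one ⟨4161, 2, 8⟩) (.one ⟨11845, 2, 9⟩))) (.node 2 (.node 1 (.one ⟨12077, 1, 10⟩) (.one ⟨10905, 0, 9⟩)) (.node 1 (.one ⟨12073, 1, 9⟩) (.one ⟨4930, 0, 9⟩)))) (.node 4 (.node 2 (.node 1 (.one ⟨8507, 0, 10⟩) (.one ⟨13209, 2, 6⟩)) (.node 1 (.one ⟨449, 2, 11⟩) (.one ⟨6982, 0, 7⟩))) (.node 2 (.node 1 (.one ⟨975, 2, 10⟩) (.one ⟨13208, 2, 6⟩)) (.node 1 (.one ⟨10093, 1, 11⟩) (.one ⟨11445, 2, 4⟩))))) (.node 8 (.node 4 (.node 2 (.node 1 (.one ⟨15918, 0, 7⟩) (.one ⟨14772, 0, 7⟩)) (.node 1 (.one ⟨3080, 1, 10⟩) (.one ⟨7411, 0, 6⟩))) (.node 2 (.node 1 (.one ⟨3114, 0, 8⟩) (.one ⟨10958, 2, 8⟩))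 (.node 1 (.one ⟨10584, 2, 8⟩) (.one ⟨11205, 1, 8⟩)))) (.node 4 (.node 2 (.node 1 (.one ⟨3317, 2, 8⟩) (.one ⟨4329, 0, 8⟩)) (.node 1 (.one ⟨3170, 0, 9⟩) (.one ⟨1020, 1, 9⟩))) (.node 2 (.node 1 (.one ⟨8589, 0, 4⟩) (.one ⟨7311, 0, 5⟩)) (.node 1 (.one ⟨4730, 1, 11⟩) (.one ⟨11634, 2, 9⟩)))))) (.node 16 (.node 8 (.node 4 (.node 2 (.node 1 (.one ⟨8952, 1, 8⟩) (.one ⟨7562, 1, 6⟩)) (.node 1 (.one ⟨8307, 1, 6⟩) (.one ⟨9576, 0, 9⟩))) (.node 2 (.node 1 (.one ⟨959, 0, 10⟩) (.one ⟨6840, 2, 9⟩)) (.node 1 (.one ⟨11914, 1, 8⟩) (.one ⟨12774, 1, 8⟩)))) (.node 4 (.node 2 (.node 1 (.one ⟨17197, 1, 9⟩) (.one ⟨6920, 1, 4⟩)) (.node 1 (.one ⟨13685, 2, 9⟩) (.one ⟨16155, 0, 10⟩))) (.node 2 (.node 1 (.one ⟨7588, 0, 7⟩) (.one ⟨3516, 0, 9⟩)) (.node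 1 (.one ⟨12032, 1, 9⟩) (.one ⟨9878, 2, 10⟩))))) (.node 8 (.node 4 (.node 2 (.node 1 (.one ⟨13801, 1, 6⟩) (.one ⟨13545, 1, 7⟩)) (.node 1 (.one ⟨1578, 0, 8⟩) (.one ⟨6910, 0, 5⟩))) (.node 2 (.node 1 (.one ⟨15372, 0, 9⟩) (.one ⟨15316, 0, 9⟩)) (.node 1 (.one ⟨3812, 2, 10⟩) (.one ⟨14032, 1, 8⟩)))) (.node 4 (.node 2 (.node 1 (.one ⟨5640, 1, 10⟩) (.one ⟨6440, 0, 10⟩)) (.node 1 (.one ⟨220, 2, 9⟩) (.one ⟨13973, 0, 7⟩))) (.node 2 (.node 1 (.one ⟨6195, 2, 8⟩) (.one ⟨1160, 2, 10⟩)) (.node 1 (.one ⟨11131, 1, 7⟩) (.one ⟨14711, 2, 8⟩)))))))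
def par10_16_1 : Arr Par :=
  (.node 32 (.node 16 (.node 8 (.node 4 (.node 2 (.node 1 (.one ⟨15448, 0, 8⟩) (.one ⟨15164, 0, 8⟩)) (.node 1 (.one ⟨16305, 2, 9⟩) (.one ⟨4641, 2, 8⟩))) (.node 2 (.node 1 (.one ⟨10337, 1, 7⟩) (.one ⟨7346, 2, 9⟩)) (.node 1 (.one ⟨15896, 1, 8⟩) (.one ⟨9950, 2, 9⟩)))) (.node 4 (.node 2 (.node 1 (.one ⟨10476, 2, 5⟩) (.one ⟨16547, 1, 7⟩)) (.node 1 (.one ⟨2847, 0, 9⟩) (.one ⟨1083, 0, 9⟩))) (.node 2 (.node 1 (.one ⟨6471, 2, 9⟩) (.one ⟨2667, 2, 6⟩)) (.node 1 (.one ⟨1107, 2, 11⟩) (.one ⟨16684, 2, 8⟩))))) (.node 8 (.node 4 (.node 2 (.node 1 (.one ⟨11748, 1, 11⟩) (.one ⟨12891, 1, 8⟩)) (.node 1 (.one ⟨6422, 2, 7⟩) (.one ⟨13789, 1, 6⟩))) (.node 2 (.node 1 (.one ⟨6550, 1, 9⟩) (.one ⟨12121, 0, 8⟩)) (.node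 1 (.one ⟨10886, 2, 8⟩) (.one ⟨6796, 2, 10⟩)))) (.node 4 (.node 2 (.node 1 (.one ⟨14778, 2, 9⟩) (.one ⟨14849, 2, 8⟩)) (.node 1 (.one ⟨109, 1, 9⟩) (.one ⟨14866, 2, 8⟩))) (.node 2 (.node 1 (.one ⟨4927, 1, 5⟩) (.one ⟨6814, 2, 6⟩)) (.node 1 (.one ⟨14825, 2, 8⟩) (.one ⟨7693, 0, 7⟩)))))) (.node 16 (.node 8 (.node 4 (.node 2 (.node 1 (.one ⟨6907, 0, 7⟩) (.one ⟨4719, 2, 9⟩)) (.node 1 (.one ⟨3175, 2, 7⟩) (.one ⟨12554, 2, 7⟩))) (.node 2 (.node 1 (.one ⟨10137, 2, 9⟩) (.one ⟨12506, 2, 8⟩)) (.node 1 (.one ⟨215, 0, 10⟩) (.one ⟨11569, 2, 11⟩)))) (.node 4 (.node 2 (.node 1 (.one ⟨7137, 2, 7⟩) (.one ⟨9631, 0, 10⟩)) (.node 1 (.one ⟨7425, 1, 10⟩) (.one ⟨15723, 2, 7⟩))) (.node 2 (.node 1 (.one ⟨2173, 1, 8⟩) (.one ⟨5701, 2, 8⟩)) (.node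 1 (.one ⟨4130, 1, 8⟩) (.one ⟨1067, 0, 9⟩))))) (.node 8 (.node 4 (.node 2 (.node 1 (.one ⟨16987, 2, 9⟩) (.one ⟨14435, 2, 8⟩)) (.node 1 (.one ⟨13973, 1, 7⟩) (.one ⟨16741, 1, 10⟩))) (.node 2 (.node 1 (.one ⟨2622, 1, 6⟩) (.one ⟨16477, 1, 7⟩)) (.node 1 (.one ⟨1331, 2, 9⟩) (.one ⟨16195, 0, 7⟩)))) (.node 4 (.node 2 (.node 1 (.one ⟨1704, 0, 11⟩) (.one ⟨10036, 1, 11⟩)) (.node 1 (.one ⟨11984, 1, 8⟩) (.one ⟨11432, 2, 9⟩))) (.node 2 (.node 1 (.one ⟨4131, 1, 8⟩) (.one ⟨9151, 2, 7⟩)) (.node 1 (.one ⟨7370, 1, 8⟩) (.one ⟨8486, 1, 10⟩)))))))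
def par10_16_2 : Arr Par :=
  (.node 32 (.node 16 (.node 8 (.node 4 (.node 2 (.node 1 (.one ⟨4581, 0, 10⟩) (.one ⟨12527, 2, 9⟩)) (.node 1 (.one ⟨9805, 2, 8⟩) (.one ⟨15302, 2, 10⟩))) (.node 2 (.node 1 (.one ⟨11936, 1, 6⟩) (.one ⟨6742, 1, 8⟩)) (.node 1 (.one ⟨4323, 2, 6⟩) (.one ⟨17116, 0, 6⟩)))) (.node 4 (.node 2 (.node 1 (.one ⟨12127, 2, 10⟩) (.one ⟨12963, 0, 8⟩)) (.node 1 (.one ⟨17111, 0, 5⟩) (.one ⟨8682, 1, 9⟩))) (.node 2 (.node 1 (.one ⟨11636, 2, 8⟩) (.one ⟨10686, 2, 7⟩)) (.node 1 (.one ⟨17117, 0, 9⟩) (.one ⟨10337, 0, 7⟩))))) (.node 8 (.node 4 (.node 2 (.node 1 (.one ⟨1511, 2, 9⟩) (.one ⟨7403, 0, 3⟩)) (.node 1 (.one ⟨12563, 2, 8⟩) (.one ⟨14797, 0, 6⟩))) (.node 2 (.node 1 (.one ⟨12130, 1, 1⟩) (.one ⟨3824, 1, 6⟩))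 (.node 1 (.one ⟨6886, 0, 6⟩) (.one ⟨16516, 2, 7⟩)))) (.node 4 (.node 2 (.node 1 (.one ⟨15136, 0, 10⟩) (.one ⟨4599, 0, 8⟩)) (.node 1 (.one ⟨5639, 0, 9⟩) (.one ⟨2333, 2, 4⟩))) (.node 2 (.node 1 (.one ⟨10056, 1, 6⟩) (.one ⟨16931, 2, 9⟩)) (.node 1 (.one ⟨8491, 0, 9⟩) (.one ⟨15868, 2, 7⟩)))))) (.node 16 (.node 8 (.node 4 (.node 2 (.node 1 (.one ⟨1041, 1, 3⟩) (.one ⟨6452, 0, 6⟩)) (.node 1 (.one ⟨3269, 0, 6⟩) (.one ⟨14798, 0, 6⟩))) (.node 2 (.node 1 (.one ⟨9981, 2, 10⟩) (.one ⟨16030, 2, 6⟩)) (.node 1 (.one ⟨12961, 1, 10⟩) (.one ⟨14788, 1, 9⟩)))) (.node 4 (.node 2 (.node 1 (.one ⟨8310, 0, 6⟩) (.one ⟨4838, 1, 8⟩)) (.node 1 (.one ⟨15936, 0, 9⟩) (.one ⟨12851, 2, 9⟩))) (.node 2 (.node 1 (.one ⟨10775, 0, 6⟩) (.one ⟨3890, 1, 8⟩))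 (.node 1 (.one ⟨7092, 2, 8⟩) (.one ⟨10498, 2, 9⟩))))) (.node 8 (.node 4 (.node 2 (.node 1 (.one ⟨2783, 2, 10⟩) (.one ⟨7206, 1, 9⟩)) (.node 1 (.one ⟨13014, 2, 9⟩) (.one ⟨17156, 0, 7⟩))) (.node 2 (.node 1 (.one ⟨7179, 1, 9⟩) (.one ⟨4172, 0, 3⟩)) (.node 1 (.one ⟨12207, 1, 9⟩) (.one ⟨6822, 1, 5⟩)))) (.node 4 (.node 2 (.node 1 (.one ⟨15870, 1, 9⟩) (.one ⟨5071, 0, 9⟩)) (.node 1 (.one ⟨1971, 0, 10⟩) (.one ⟨8904, 1, 11⟩))) (.node 2 (.node 1 (.one ⟨14386, 1, 11⟩) (.one ⟨4086, 2, 9⟩)) (.node 1 (.one ⟨12629, 1, 8⟩) (.one ⟨12741, 2, 8⟩)))))))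
def par10_16_3 : Arr Par :=
  (.node 32 (.node 16 (.node 8 (.node 4 (.node 2 (.node 1 (.one ⟨15349, 1, 6⟩) (.one ⟨4306, 1, 9⟩)) (.node 1 (.one ⟨8565, 1, 7⟩) (.one ⟨16657, 1, 8⟩))) (.node 2 (.node 1 (.one ⟨4793, 0, 7⟩) (.one ⟨8224, 2, 6⟩)) (.node 1 (.one ⟨1894, 0, 8⟩) (.one ⟨9201, 0, 6⟩)))) (.node 4 (.node 2 (.node 1 (.one ⟨1124, 1, 9⟩) (.one ⟨9267, 0, 7⟩)) (.node 1 (.one ⟨17175, 2, 9⟩) (.one ⟨1514, 2, 8⟩))) (.node 2 (.node 1 (.one ⟨8141, 0, 10⟩) (.one ⟨14926, 2, 10⟩)) (.node 1 (.one ⟨11197, 2, 8⟩) (.one ⟨16337, 0, 8⟩))))) (.node 8 (.node 4 (.node 2 (.node 1 (.one ⟨16277, 0, 8⟩) (.one ⟨2019, 0, 5⟩)) (.node 1 (.one ⟨16493, 1, 9⟩) (.one ⟨13867, 0, 9⟩))) (.node 2 (.node 1 (.one ⟨6168, 2, 9⟩) (.one ⟨3895, 0, 8⟩)) (.node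 1 (.one ⟨5611, 1, 8⟩) (.one ⟨14210, 0, 10⟩)))) (.node 4 (.node 2 (.node 1 (.one ⟨16653, 1, 9⟩) (.one ⟨16657, 0, 8⟩)) (.node 1 (.one ⟨12394, 0, 9⟩) (.one ⟨4891, 0, 9⟩))) (.node 2 (.node 1 (.one ⟨8116, 0, 10⟩) (.one ⟨16620, 2, 6⟩)) (.node 1 (.one ⟨16650, 1, 9⟩) (.one ⟨6724, 0, 6⟩)))))) (.node 16 (.node 8 (.node 4 (.node 2 (.node 1 (.one ⟨4846, 0, 5⟩) (.one ⟨11636, 1, 8⟩)) (.node 1 (.one ⟨1075, 0, 8⟩) (.one ⟨11831, 1, 8⟩))) (.node 2 (.node 1 (.one ⟨3710, 2, 9⟩) (.one ⟨12009, 2, 8⟩)) (.node 1 (.one ⟨12004, 0, 9⟩) (.one ⟨9621, 2, 11⟩)))) (.node 4 (.node 2 (.node 1 (.one ⟨4693, 1, 7⟩) (.one ⟨8883, 2, 8⟩)) (.node 1 (.one ⟨12750, 1, 9⟩) (.one ⟨15102, 0, 10⟩))) (.node 2 (.node 1 (.one ⟨6002, 1, 5⟩) (.one ⟨3029, 2, 9⟩)) (.node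 1 (.one ⟨258, 0, 8⟩) (.one ⟨9338, 1, 8⟩))))) (.node 8 (.node 4 (.node 2 (.node 1 (.one ⟨9589, 0, 3⟩) (.one ⟨16518, 1, 7⟩)) (.node 1 (.one ⟨15354, 0, 7⟩) (.one ⟨7020, 2, 10⟩))) (.node 2 (.node 1 (.one ⟨11935, 2, 8⟩) (.one ⟨12142, 2, 10⟩)) (.node 1 (.one ⟨8470, 0, 8⟩) (.one ⟨8117, 0, 9⟩)))) (.node 4 (.node 2 (.node 1 (.one ⟨9052, 2, 9⟩) (.one ⟨5974, 1, 8⟩)) (.node 1 (.one ⟨16364, 2, 6⟩) (.one ⟨8256, 2, 9⟩))) (.node 2 (.node 1 (.one ⟨8528, 1, 10⟩) (.one ⟨16617, 1, 9⟩)) (.node 1 (.one ⟨5403, 0, 8⟩) (.one ⟨4503, 2, 7⟩)))))))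
def par10_16_4 : Arr Par :=
  (.node 32 (.node 16 (.node 8 (.node 4 (.node 2 (.node 1 (.one ⟨7907, 2, 9⟩) (.one ⟨11958, 0, 5⟩)) (.node 1 (.one ⟨11446, 2, 10⟩) (.one ⟨12814, 2, 10⟩))) (.node 2 (.node 1 (.one ⟨3810, 1, 8⟩) (.one ⟨3564, 1, 8⟩)) (.node 1 (.one ⟨9332, 1, 3⟩) (.one ⟨10048, 2, 10⟩)))) (.node 4 (.node 2 (.node 1 (.one ⟨178, 2, 6⟩) (.one ⟨4811, 2, 9⟩)) (.node 1 (.one ⟨5181, 0, 8⟩) (.one ⟨10319, 0, 9⟩))) (.node 2 (.node 1 (.one ⟨16051, 2, 9⟩) (.one ⟨11453, 0, 8⟩)) (.node 1 (.one ⟨6749, 2, 10⟩) (.one ⟨13768, 0, 9⟩))))) (.node 8 (.node 4 (.node 2 (.node 1 (.one ⟨16087, 2, 10⟩) (.one ⟨16076, 2, 7⟩)) (.node 1 (.one ⟨8018, 2, 5⟩) (.one ⟨16054, 2, 6⟩))) (.node 2 (.node 1 (.one ⟨5110, 0, 10⟩) (.one ⟨7991, 2, 8⟩))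 (.node 1 (.one ⟨12461, 1, 6⟩) (.one ⟨14129, 2, 10⟩)))) (.node 4 (.node 2 (.node 1 (.one ⟨1119, 1, 8⟩) (.one ⟨15799, 2, 9⟩)) (.node 1 (.one ⟨7826, 1, 5⟩) (.one ⟨683, 0, 9⟩))) (.node 2 (.node 1 (.one ⟨5942, 2, 9⟩) (.one ⟨8319, 1, 8⟩)) (.node 1 (.one ⟨324, 0, 8⟩) (.one ⟨1700, 2, 8⟩)))))) (.node 16 (.node 8 (.node 4 (.node 2 (.node 1 (.one ⟨15209, 1, 8⟩) (.one ⟨4206, 1, 9⟩)) (.node 1 (.one ⟨3333, 0, 9⟩) (.one ⟨8507, 1, 10⟩))) (.node 2 (.node 1 (.one ⟨8060, 0, 10⟩) (.one ⟨4165, 1, 8⟩)) (.node 1 (.one ⟨9151, 1, 7⟩) (.one ⟨13530, 0, 9⟩)))) (.node 4 (.node 2 (.node 1 (.one ⟨9012, 0, 8⟩) (.one ⟨8292, 1, 8⟩)) (.node 1 (.one ⟨12671, 1, 9⟩) (.one ⟨1130, 1, 8⟩))) (.node 2 (.node 1 (.one ⟨3064, 0, 7⟩) (.one ⟨13587, 2, 8⟩)) (.node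 1 (.one ⟨703, 2, 9⟩) (.one ⟨11575, 1, 9⟩))))) (.node 8 (.node 4 (.node 2 (.node 1 (.one ⟨11006, 0, 9⟩) (.one ⟨11954, 2, 8⟩)) (.node 1 (.one ⟨8671, 1, 9⟩) (.one ⟨15701, 2, 5⟩))) (.node 2 (.node 1 (.one ⟨12897, 2, 8⟩) (.one ⟨6720, 2, 8⟩)) (.node 1 (.one ⟨1219, 2, 9⟩) (.one ⟨8645, 2, 9⟩)))) (.node 4 (.node 2 (.node 1 (.one ⟨13737, 2, 7⟩) (.one ⟨1327, 0, 2⟩)) (.node 1 (.one ⟨1989, 0, 8⟩) (.one ⟨8726, 2, 7⟩))) (.node 2 (.node 1 (.one ⟨4825, 1, 8⟩) (.one ⟨10062, 2, 3⟩)) (.node 1 (.one ⟨4770, 2, 7⟩) (.one ⟨14297, 2, 9⟩)))))))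
def par10_16_5 : Arr Par :=
  (.node 32 (.node 16 (.node 8 (.node 4 (.node 2 (.node 1 (.one ⟨12699, 2, 10⟩) (.one ⟨13574, 0, 11⟩)) (.node 1 (.one ⟨11267, 0, 9⟩) (.one ⟨13246, 2, 9⟩))) (.node 2 (.node 1 (.one ⟨13945, 2, 10⟩) (.one ⟨14553, 2, 9⟩)) (.node 1 (.one ⟨12989, 2, 6⟩) (.one ⟨4843, 1, 7⟩)))) (.node 4 (.node 2 (.node 1 (.one ⟨1838, 2, 6⟩) (.one ⟨9589, 2, 3⟩)) (.node 1 (.one ⟨256, 1, 8⟩) (.one ⟨8712, 0, 8⟩))) (.node 2 (.node 1 (.one ⟨10526, 2, 7⟩) (.one ⟨16479, 0, 8⟩)) (.node 1 (.one ⟨12538, 2, 11⟩) (.one ⟨16435, 1, 6⟩))))) (.node 8 (.node 4 (.node 2 (.node 1 (.one ⟨427, 2, 8⟩) (.one ⟨7444, 0, 5⟩)) (.node 1 (.one ⟨13133, 2, 9⟩) (.one ⟨2305, 2, 6⟩))) (.node 2 (.node 1 (.one ⟨4116, 2, 8⟩) (.one ⟨12782, 2, 9⟩))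 (.node 1 (.one ⟨9800, 0, 7⟩) (.one ⟨2828, 2, 4⟩)))) (.node 4 (.node 2 (.node 1 (.one ⟨11256, 2, 5⟩) (.one ⟨2765, 0, 8⟩)) (.node 1 (.one ⟨16483, 0, 8⟩) (.one ⟨7014, 2, 10⟩))) (.node 2 (.node 1 (.one ⟨1841, 0, 7⟩) (.one ⟨7562, 0, 6⟩)) (.node 1 (.one ⟨13600, 0, 7⟩) (.one ⟨12964, 1, 8⟩)))))) (.node 16 (.node 8 (.node 4 (.node 2 (.node 1 (.one ⟨12418, 0, 9⟩) (.one ⟨16368, 2, 5⟩)) (.node 1 (.one ⟨12420, 0, 6⟩) (.one ⟨8519, 2, 8⟩))) (.node 2 (.node 1 (.one ⟨13599, 2, 8⟩) (.one ⟨6813, 2, 9⟩)) (.node 1 (.one ⟨12417, 0, 9⟩) (.one ⟨10882, 2, 9⟩)))) (.node 4 (.node 2 (.node 1 (.one ⟨2824, 2, 6⟩) (.one ⟨2839, 2, 8⟩)) (.node 1 (.one ⟨11374, 0, 9⟩) (.one ⟨2848, 2, 4⟩))) (.node 2 (.node 1 (.one ⟨15972, 0, 9⟩) (.one ⟨14927, 0, 6⟩))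 (.node 1 (.one ⟨6888, 0, 9⟩) (.one ⟨7125, 1, 9⟩))))) (.node 8 (.node 4 (.node 2 (.node 1 (.one ⟨8937, 2, 9⟩) (.one ⟨9368, 0, 8⟩)) (.node 1 (.one ⟨9511, 2, 10⟩) (.one ⟨2156, 1, 11⟩))) (.node 2 (.node 1 (.one ⟨16447, 2, 9⟩) (.one ⟨14832, 2, 10⟩)) (.node 1 (.one ⟨2393, 2, 4⟩) (.one ⟨14061, 2, 9⟩)))) (.node 4 (.node 2 (.node 1 (.one ⟨5167, 0, 10⟩) (.one ⟨4871, 1, 6⟩)) (.node 1 (.one ⟨4874, 1, 10⟩) (.one ⟨542, 1, 10⟩))) (.node 2 (.node 1 (.one ⟨10085, 2, 10⟩) (.one ⟨6102, 0, 7⟩)) (.node 1 (.one ⟨7757, 0, 9⟩) (.one ⟨6997, 2, 9⟩)))))))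
def par10_16_6 : Arr Par :=
  (.node 32 (.node 16 (.node 8 (.node 4 (.node 2 (.node 1 (.one ⟨6796, 0, 10⟩) (.one ⟨6931, 2, 5⟩)) (.node 1 (.one ⟨16152, 2, 6⟩) (.one ⟨12938, 2, 9⟩))) (.node 2 (.node 1 (.one ⟨4262, 1, 7⟩) (.one ⟨12753, 2, 7⟩)) (.node 1 (.one ⟨8543, 0, 7⟩) (.one ⟨12889, 0, 8⟩)))) (.node 4 (.node 2 (.node 1 (.one ⟨14988, 1, 10⟩) (.one ⟨11923, 2, 9⟩)) (.node 1 (.one ⟨6391, 2, 8⟩) (.one ⟨2244, 2, 9⟩))) (.node 2 (.node 1 (.one ⟨16004, 2, 8⟩) (.one ⟨3673, 0, 9⟩)) (.node 1 (.one ⟨11555, 0, 10⟩) (.one ⟨1959, 2, 9⟩))))) (.node 8 (.node 4 (.node 2 (.node 1 (.one ⟨1486, 2, 9⟩) (.one ⟨13929, 2, 9⟩)) (.node 1 (.one ⟨14156, 2, 7⟩) (.one ⟨2355, 1, 10⟩))) (.node 2 (.node 1 (.one ⟨9091, 1, 8⟩) (.one ⟨4293, 0, 8⟩)) (.node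 1 (.one ⟨10090, 1, 8⟩) (.one ⟨12344, 1, 10⟩)))) (.node 4 (.node 2 (.node 1 (.one ⟨13177, 2, 6⟩) (.one ⟨1540, 2, 6⟩)) (.node 1 (.one ⟨12081, 2, 9⟩) (.one ⟨12879, 1, 8⟩))) (.node 2 (.node 1 (.one ⟨471, 2, 8⟩) (.one ⟨13222, 2, 9⟩)) (.node 1 (.one ⟨2748, 2, 8⟩) (.one ⟨2891, 0, 5⟩)))))) (.node 16 (.node 8 (.node 4 (.node 2 (.node 1 (.one ⟨8564, 0, 5⟩) (.one ⟨16696, 0, 8⟩)) (.node 1 (.one ⟨7999, 2, 9⟩) (.one ⟨7659, 0, 8⟩))) (.node 2 (.node 1 (.one ⟨62, 0, 10⟩) (.one ⟨15639, 2, 6⟩)) (.node 1 (.one ⟨8803, 2, 9⟩) (.one ⟨4068, 0, 6⟩)))) (.node 4 (.node 2 (.node 1 (.one ⟨15200, 1, 9⟩) (.one ⟨7438, 2, 8⟩)) (.node 1 (.one ⟨13696, 2, 7⟩) (.one ⟨16730, 1, 9⟩))) (.node 2 (.node 1 (.one ⟨12550, 1, 8⟩) (.one ⟨15822, 1, 5⟩)) (.node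 1 (.one ⟨8469, 2, 9⟩) (.one ⟨17185, 2, 7⟩))))) (.node 8 (.node 4 (.node 2 (.node 1 (.one ⟨5816, 2, 4⟩) (.one ⟨13544, 2, 6⟩)) (.node 1 (.one ⟨1119, 2, 8⟩) (.one ⟨13801, 2, 6⟩))) (.node 2 (.node 1 (.one ⟨9048, 2, 7⟩) (.one ⟨13255, 1, 8⟩)) (.node 1 (.one ⟨10174, 1, 6⟩) (.one ⟨15529, 2, 7⟩)))) (.node 4 (.node 2 (.node 1 (.one ⟨860, 2, 7⟩) (.one ⟨9710, 0, 8⟩)) (.node 1 (.one ⟨10243, 2, 8⟩) (.one ⟨8510, 0, 8⟩))) (.node 2 (.node 1 (.one ⟨6034, 2, 8⟩) (.one ⟨3221, 2, 7⟩)) (.node 1 (.one ⟨13786, 2, 9⟩) (.one ⟨2539, 0, 10⟩)))))))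
def par10_16_7 : Arr Par :=
  (.node 32 (.node 16 (.node 8 (.node 4 (.node 2 (.node 1 (.one ⟨9311, 0, 9⟩) (.one ⟨19, 0, 9⟩)) (.node 1 (.one ⟨4820, 2, 11⟩) (.one ⟨12896, 0, 9⟩))) (.node 2 (.node 1 (.one ⟨5540, 0, 7⟩) (.one ⟨13598, 0, 3⟩)) (.node 1 (.one ⟨12891, 2, 8⟩) (.one ⟨1172, 2, 7⟩)))) (.node 4 (.node 2 (.node 1 (.one ⟨15190, 2, 7⟩) (.one ⟨8174, 1, 10⟩)) (.node 1 (.one ⟨4814, 1, 4⟩) (.one ⟨15599, 2, 9⟩))) (.node 2 (.node 1 (.one ⟨7485, 1, 10⟩) (.one ⟨15584, 2, 7⟩)) (.node 1 (.one ⟨1893, 2, 9⟩) (.one ⟨16774, 2, 8⟩))))) (.node 8 (.node 4 (.node 2 (.node 1 (.one ⟨9402, 0, 9⟩) (.one ⟨10673, 0, 3⟩)) (.node 1 (.one ⟨17152, 1, 8⟩) (.one ⟨7064, 1, 7⟩))) (.node 2 (.node 1 (.one ⟨4480, 1, 6⟩) (.one ⟨428, 0, 6⟩)) (.node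 1 (.one ⟨6121, 2, 9⟩) (.one ⟨7901, 2, 8⟩)))) (.node 4 (.node 2 (.node 1 (.one ⟨6892, 2, 8⟩) (.one ⟨9229, 2, 8⟩)) (.node 1 (.one ⟨12744, 2, 8⟩) (.one ⟨419, 0, 7⟩))) (.node 2 (.node 1 (.one ⟨10936, 2, 7⟩) (.one ⟨14866, 0, 8⟩)) (.node 1 (.one ⟨8451, 2, 9⟩) (.one ⟨2116, 2, 9⟩)))))) (.node 16 (.node 8 (.node 4 (.node 2 (.node 1 (.one ⟨9676, 1, 8⟩) (.one ⟨14521, 0, 10⟩)) (.node 1 (.one ⟨1476, 2, 9⟩) (.one ⟨5975, 0, 9⟩))) (.node 2 (.node 1 (.one ⟨2209, 2, 7⟩) (.one ⟨11720, 1, 7⟩)) (.node 1 (.one ⟨11025, 2, 8⟩) (.one ⟨11364, 0, 9⟩)))) (.node 4 (.node 2 (.node 1 (.one ⟨11389, 1, 11⟩) (.one ⟨6687, 2, 8⟩)) (.node 1 (.one ⟨14759, 2, 9⟩) (.one ⟨14734, 2, 3⟩))) (.node 2 (.node 1 (.one ⟨6660, 2, 8⟩) (.one ⟨14707, 2, 5⟩)) (.node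 1 (.one ⟨8847, 1, 7⟩) (.one ⟨3285, 1, 11⟩))))) (.node 8 (.node 4 (.node 2 (.node 1 (.one ⟨15126, 1, 6⟩) (.one ⟨857, 2, 5⟩)) (.node 1 (.one ⟨13089, 1, 10⟩) (.one ⟨13482, 0, 9⟩))) (.node 2 (.node 1 (.one ⟨2418, 2, 8⟩) (.one ⟨12566, 1, 10⟩)) (.node 1 (.one ⟨9427, 0, 9⟩) (.one ⟨2102, 1, 11⟩)))) (.node 4 (.node 2 (.node 1 (.one ⟨12683, 0, 7⟩) (.one ⟨13471, 2, 5⟩)) (.node 1 (.one ⟨6963, 1, 12⟩) (.one ⟨14082, 2, 8⟩))) (.node 2 (.node 1 (.one ⟨6478, 2, 8⟩) (.one ⟨4211, 2, 10⟩)) (.node 1 (.one ⟨11780, 2, 9⟩) (.one ⟨10096, 0, 8⟩)))))))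
def par10_16_8 : Arr Par :=
  (.node 32 (.node 16 (.node 8 (.node 4 (.node 2 (.node 1 (.one ⟨17135, 2, 6⟩) (.one ⟨3169, 0, 10⟩)) (.node 1 (.one ⟨2495, 1, 8⟩) (.one ⟨16033, 1, 9⟩))) (.node 2 (.node 1 (.one ⟨6004, 0, 9⟩) (.one ⟨7551, 0, 9⟩)) (.node 1 (.one ⟨15524, 0, 7⟩) (.one ⟨7751, 1, 9⟩)))) (.node 4 (.node 2 (.node 1 (.one ⟨985, 2, 10⟩) (.one ⟨5143, 1, 6⟩)) (.node 1 (.one ⟨4056, 2, 10⟩) (.one ⟨6315, 1, 8⟩))) (.node 2 (.node 1 (.one ⟨10851, 0, 7⟩) (.one ⟨2823, 1, 8⟩)) (.node 1 (.one ⟨8420, 2, 8⟩) (.one ⟨7498, 0, 9⟩))))) (.node 8 (.node 4 (.node 2 (.node 1 (.one ⟨12690, 2, 9⟩) (.one ⟨10778, 2, 8⟩)) (.node 1 (.one ⟨645, 0, 9⟩) (.one ⟨14327, 0, 7⟩))) (.node 2 (.node 1 (.one ⟨13846, 0, 7⟩) (.one ⟨10228, 1, 8⟩)) (.node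 1 (.one ⟨10989, 0, 6⟩) (.one ⟨8499, 2, 5⟩)))) (.node 4 (.node 2 (.node 1 (.one ⟨258, 1, 8⟩) (.one ⟨4389, 0, 6⟩)) (.node 1 (.one ⟨174, 0, 9⟩) (.one ⟨8501, 2, 8⟩))) (.node 2 (.node 1 (.one ⟨273, 2, 7⟩) (.one ⟨8802, 1, 8⟩)) (.node 1 (.one ⟨7932, 0, 8⟩) (.one ⟨5014, 1, 6⟩)))))) (.node 16 (.node 8 (.node 4 (.node 2 (.node 1 (.one ⟨5204, 0, 8⟩) (.one ⟨14358, 1, 6⟩)) (.node 1 (.one ⟨8063, 1, 5⟩) (.one ⟨12669, 1, 8⟩))) (.node 2 (.node 1 (.one ⟨3441, 1, 9⟩) (.one ⟨6564, 1, 10⟩)) (.node 1 (.one ⟨15831, 1, 7⟩) (.one ⟨15023, 2, 8⟩)))) (.node 4 (.node 2 (.node 1 (.one ⟨1890, 1, 10⟩) (.one ⟨15642, 0, 9⟩)) (.node 1 (.one ⟨16061, 1, 8⟩) (.one ⟨8327, 0, 9⟩))) (.node 2 (.node 1 (.one ⟨16063, 2, 8⟩) (.one ⟨14880, 2, 9⟩)) (.node 1 (.one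 ⟨9925, 2, 10⟩) (.one ⟨16451, 2, 9⟩))))) (.node 8 (.node 4 (.node 2 (.node 1 (.one ⟨15702, 2, 8⟩) (.one ⟨14422, 1, 9⟩)) (.node 1 (.one ⟨4623, 1, 11⟩) (.one ⟨8394, 2, 8⟩))) (.node 2 (.node 1 (.one ⟨15072, 0, 9⟩) (.one ⟨8414, 0, 10⟩)) (.node 1 (.one ⟨1208, 0, 10⟩) (.one ⟨6141, 0, 11⟩)))) (.node 4 (.node 2 (.node 1 (.one ⟨10420, 1, 9⟩) (.one ⟨2402, 1, 7⟩)) (.node 1 (.one ⟨13018, 1, 6⟩) (.one ⟨12414, 0, 9⟩))) (.node 2 (.node 1 (.one ⟨14076, 2, 10⟩) (.one ⟨9290, 1, 5⟩)) (.node 1 (.one ⟨9028, 0, 8⟩) (.one ⟨6336, 1, 10⟩)))))))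
def par10_16_9 : Arr Par :=
  (.node 32 (.node 16 (.node 8 (.node 4 (.node 2 (.node 1 (.one ⟨1520, 2, 10⟩) (.one ⟨11035, 0, 11⟩)) (.node 1 (.one ⟨9317, 1, 10⟩) (.one ⟨2096, 0, 5⟩))) (.node 2 (.node 1 (.one ⟨7287, 2, 10⟩) (.one ⟨5451, 0, 9⟩)) (.node 1 (.one ⟨17087, 2, 9⟩) (.one ⟨3730, 0, 6⟩)))) (.node 4 (.node 2 (.node 1 (.one ⟨10132, 2, 11⟩) (.one ⟨13235, 1, 11⟩)) (.node 1 (.one ⟨6746, 2, 11⟩) (.one ⟨6797, 2, 12⟩))) (.node 2 (.node 1 (.one ⟨13528, 1, 9⟩) (.one ⟨10050, 2, 11⟩)) (.node 1 (.one ⟨10349, 0, 4⟩) (.one ⟨7322, 0, 9⟩))))) (.node 8 (.node 4 (.node 2 (.node 1 (.one ⟨14209, 0, 10⟩) (.one ⟨9288, 1, 9⟩)) (.node 1 (.one ⟨17120, 0, 9⟩) (.one ⟨454, 0, 10⟩))) (.node 2 (.node 1 (.one ⟨2721, 1, 10⟩) (.one ⟨5261, 0,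 6⟩)) (.node 1 (.one ⟨11759, 0, 9⟩) (.one ⟨8710, 1, 11⟩)))) (.node 4 (.node 2 (.node 1 (.one ⟨6954, 2, 7⟩) (.one ⟨4700, 2, 10⟩)) (.node 1 (.one ⟨6421, 2, 10⟩) (.one ⟨10020, 0, 8⟩))) (.node 2 (.node 1 (.one ⟨17157, 0, 9⟩) (.one ⟨6012, 1, 9⟩)) (.node 1 (.one ⟨186, 2, 7⟩) (.one ⟨12335, 2, 9⟩)))))) (.node 16 (.node 8 (.node 4 (.node 2 (.node 1 (.one ⟨5454, 2, 8⟩) (.one ⟨9504, 2, 9⟩)) (.node 1 (.one ⟨10346, 0, 10⟩) (.one ⟨10434, 1, 7⟩))) (.node 2 (.node 1 (.one ⟨1951, 1, 10⟩) (.one ⟨5449, 1, 9⟩)) (.node 1 (.one ⟨11005, 2, 12⟩) (.one ⟨3411, 2, 8⟩)))) (.node 4 (.node 2 (.node 1 (.one ⟨1744, 0, 9⟩) (.one ⟨9625, 2, 8⟩)) (.node 1 (.one ⟨11384, 0, 9⟩) (.one ⟨13932, 0, 9⟩))) (.node 2 (.node 1 (.one ⟨7734, 2, 8⟩) (.one ⟨7436,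 0, 10⟩)) (.node 1 (.one ⟨13419, 1, 10⟩) (.one ⟨11436, 0, 8⟩))))) (.node 8 (.node 4 (.node 2 (.node 1 (.one ⟨9425, 1, 9⟩) (.one ⟨16601, 0, 9⟩)) (.node 1 (.one ⟨16399, 1, 5⟩) (.one ⟨12267, 0, 8⟩))) (.node 2 (.node 1 (.one ⟨6508, 2, 9⟩) (.one ⟨8957, 1, 6⟩)) (.node 1 (.one ⟨2718, 1, 8⟩) (.one ⟨8266, 2, 8⟩)))) (.node 4 (.node 2 (.node 1 (.one ⟨12244, 2, 10⟩) (.one ⟨13664, 2, 10⟩)) (.node 1 (.one ⟨15488, 0, 10⟩) (.one ⟨12288, 2, 3⟩))) (.node 2 (.node 1 (.one ⟨8278, 2, 6⟩) (.one ⟨468, 2, 5⟩)) (.node 1 (.one ⟨13624, 2, 3⟩) (.one ⟨15435, 0, 10⟩)))))))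
def par10_16_10 : Arr Par :=
  (.node 32 (.node 16 (.node 8 (.node 4 (.node 2 (.node 1 (.one ⟨6893, 1, 7⟩) (.one ⟨2716, 2, 8⟩)) (.node 1 (.one ⟨1640, 0, 9⟩) (.one ⟨9319, 0, 10⟩))) (.node 2 (.node 1 (.one ⟨11929, 2, 8⟩) (.one ⟨8696, 0, 8⟩)) (.node 1 (.one ⟨7434, 0, 9⟩) (.one ⟨6886, 2, 6⟩)))) (.node 4 (.node 2 (.node 1 (.one ⟨2907, 0, 7⟩) (.one ⟨7958, 2, 8⟩)) (.node 1 (.one ⟨2775, 0, 9⟩) (.one ⟨9946, 2, 11⟩))) (.node 2 (.node 1 (.one ⟨6640, 0, 10⟩) (.one ⟨13050, 2, 12⟩)) (.node 1 (.one ⟨6584, 2, 11⟩) (.one ⟨13212, 1, 8⟩))))) (.node 8 (.node 4 (.node 2 (.node 1 (.one ⟨5762, 1, 9⟩) (.one ⟨8243, 0, 10⟩)) (.node 1 (.one ⟨8918, 1, 10⟩) (.one ⟨9432, 1, 10⟩))) (.node 2 (.node 1 (.one ⟨1890, 2, 10⟩) (.one ⟨3971, 0, 11⟩)) (.node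 1 (.one ⟨15141, 0, 8⟩) (.one ⟨14991, 1, 11⟩)))) (.node 4 (.node 2 (.node 1 (.one ⟨8203, 1, 6⟩) (.one ⟨12821, 1, 9⟩)) (.node 1 (.one ⟨2617, 1, 9⟩) (.one ⟨15077, 0, 10⟩))) (.node 2 (.node 1 (.one ⟨15466, 1, 8⟩) (.one ⟨10928, 2, 10⟩)) (.node 1 (.one ⟨13294, 2, 9⟩) (.one ⟨13602, 1, 8⟩)))))) (.node 16 (.node 8 (.node 4 (.node 2 (.node 1 (.one ⟨6849, 0, 5⟩) (.one ⟨16202, 2, 7⟩)) (.node 1 (.one ⟨31, 2, 10⟩) (.one ⟨15513, 0, 7⟩))) (.node 2 (.node 1 (.one ⟨839, 1, 8⟩) (.one ⟨13600, 1, 7⟩)) (.node 1 (.one ⟨840, 1, 10⟩) (.one ⟨6381, 0, 7⟩)))) (.node 4 (.node 2 (.node 1 (.one ⟨3993, 1, 10⟩) (.one ⟨6440, 1, 10⟩)) (.node 1 (.one ⟨14922, 0, 10⟩) (.one ⟨3571, 0, 10⟩))) (.node 2 (.node 1 (.one ⟨7510, 0, 10⟩) (.one ⟨1337, 2, 8⟩))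 (.node 1 (.one ⟨6183, 2, 9⟩) (.one ⟨610, 2, 10⟩))))) (.node 8 (.node 4 (.node 2 (.node 1 (.one ⟨5591, 0, 8⟩) (.one ⟨1916, 0, 10⟩)) (.node 1 (.one ⟨13154, 1, 9⟩) (.one ⟨1449, 2, 8⟩))) (.node 2 (.node 1 (.one ⟨1453, 2, 11⟩) (.one ⟨1450, 2, 8⟩)) (.node 1 (.one ⟨5688, 0, 9⟩) (.one ⟨8301, 0, 5⟩)))) (.node 4 (.node 2 (.node 1 (.one ⟨9738, 2, 9⟩) (.one ⟨3725, 1, 8⟩)) (.node 1 (.one ⟨4175, 2, 9⟩) (.one ⟨14233, 2, 10⟩))) (.node 2 (.node 1 (.one ⟨15916, 0, 5⟩) (.one ⟨11398, 1, 8⟩)) (.node 1 (.one ⟨14140, 2, 7⟩) (.one ⟨11646, 2, 8⟩)))))))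
def par10_16_11 : Arr Par :=
  (.node 32 (.node 16 (.node 8 (.node 4 (.node 2 (.node 1 (.one ⟨9728, 2, 7⟩) (.one ⟨4172, 2, 3⟩)) (.node 1 (.one ⟨1198, 1, 9⟩) (.one ⟨8505, 2, 10⟩))) (.node 2 (.node 1 (.one ⟨11730, 0, 7⟩) (.one ⟨17007, 2, 9⟩)) (.node 1 (.one ⟨15349, 2, 6⟩) (.one ⟨12263, 0, 9⟩)))) (.node 4 (.node 2 (.node 1 (.one ⟨7149, 2, 10⟩) (.one ⟨6191, 0, 5⟩)) (.node 1 (.one ⟨13151, 1, 10⟩) (.one ⟨1580, 2, 5⟩))) (.node 2 (.node 1 (.one ⟨15973, 0, 4⟩) (.one ⟨945, 1, 11⟩)) (.node 1 (.one ⟨13435, 2, 11⟩) (.one ⟨13663, 2, 6⟩))))) (.node 8 (.node 4 (.node 2 (.node 1 (.one ⟨14206, 2, 10⟩) (.one ⟨1409, 2, 5⟩)) (.node 1 (.one ⟨2155, 2, 8⟩) (.one ⟨11793, 2, 10⟩))) (.node 2 (.node 1 (.one ⟨11248, 0, 7⟩) (.one ⟨15829, 1, 9⟩))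 (.node 1 (.one ⟨10274, 0, 8⟩) (.one ⟨17129, 2, 4⟩)))) (.node 4 (.node 2 (.node 1 (.one ⟨13278, 2, 6⟩) (.one ⟨12411, 2, 8⟩)) (.node 1 (.one ⟨16183, 2, 10⟩) (.one ⟨9444, 2, 7⟩))) (.node 2 (.node 1 (.one ⟨10451, 0, 5⟩) (.one ⟨10449, 0, 8⟩)) (.node 1 (.one ⟨7942, 1, 8⟩) (.one ⟨4816, 2, 9⟩)))))) (.node 16 (.node 8 (.node 4 (.node 2 (.node 1 (.one ⟨5322, 2, 8⟩) (.one ⟨15183, 1, 5⟩)) (.node 1 (.one ⟨11305, 2, 8⟩) (.one ⟨13270, 0, 10⟩))) (.node 2 (.node 1 (.one ⟨13671, 0, 8⟩) (.one ⟨16919, 0, 6⟩)) (.node 1 (.one ⟨12101, 2, 10⟩) (.one ⟨10334, 0, 4⟩)))) (.node 4 (.node 2 (.node 1 (.one ⟨16943, 2, 10⟩) (.one ⟨14760, 0, 3⟩)) (.node 1 (.one ⟨15107, 1, 10⟩) (.one ⟨7378, 1, 10⟩))) (.node 2 (.node 1 (.one ⟨9125, 2, 9⟩) (.one ⟨4109,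 1, 9⟩)) (.node 1 (.one ⟨9277, 2, 8⟩) (.one ⟨1409, 0, 5⟩))))) (.node 8 (.node 4 (.node 2 (.node 1 (.one ⟨14905, 1, 8⟩) (.one ⟨13720, 1, 9⟩)) (.node 1 (.one ⟨1401, 1, 8⟩) (.one ⟨8333, 1, 6⟩))) (.node 2 (.node 1 (.one ⟨12255, 1, 8⟩) (.one ⟨11907, 0, 8⟩)) (.node 1 (.one ⟨8848, 1, 6⟩) (.one ⟨2689, 2, 8⟩)))) (.node 4 (.node 2 (.node 1 (.one ⟨2505, 0, 8⟩) (.one ⟨16402, 2, 11⟩)) (.node 1 (.one ⟨8688, 2, 10⟩) (.one ⟨3735, 2, 9⟩))) (.node 2 (.node 1 (.one ⟨13566, 2, 11⟩) (.one ⟨14208, 2, 12⟩)) (.node 1 (.one ⟨12622, 0, 11⟩) (.one ⟨9201, 2, 6⟩)))))))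
def par10_16_12 : Arr Par :=
  (.node 23 (.node 11 (.node 5 (.node 2 (.node 1 (.one ⟨1808, 0, 7⟩) (.one ⟨5631, 1, 8⟩)) (.node 1 (.one ⟨5553, 0, 9⟩) (.node 1 (.one ⟨10597, 2, 5⟩) (.one ⟨3857, 0, 6⟩)))) (.node 3 (.node 1 (.one ⟨12582, 2, 8⟩) (.node 1 (.one ⟨12634, 2, 9⟩) (.one ⟨10696, 2, 7⟩))) (.node 1 (.one ⟨3899, 0, 5⟩) (.node 1 (.one ⟨13608, 2, 11⟩) (.one ⟨7886, 2, 9⟩))))) (.node 6 (.node 3 (.node 1 (.one ⟨1589, 0, 9⟩) (.node 1 (.one ⟨14929, 0, 8⟩) (.one ⟨8210, 2, 11⟩))) (.node 1 (.one ⟨14804, 0, 4⟩) (.node 1 (.one ⟨4888, 2, 10⟩) (.one ⟨5797, 2, 8⟩)))) (.node 3 (.node 1 (.one ⟨7207, 1, 8⟩) (.node 1 (.one ⟨9337, 2, 10⟩) (.one ⟨3737, 2, 11⟩))) (.node 1 (.one ⟨11377, 1, 6⟩) (.node 1 (.one ⟨11792, 1, 6⟩) (.one ⟨1388,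 1, 9⟩)))))) (.node 12 (.node 6 (.node 3 (.node 1 (.one ⟨13191, 1, 8⟩) (.node 1 (.one ⟨9540, 0, 8⟩) (.one ⟨1404, 1, 6⟩))) (.node 1 (.one ⟨15301, 1, 10⟩) (.node 1 (.one ⟨332, 2, 8⟩) (.one ⟨3006, 2, 10⟩)))) (.node 3 (.node 1 (.one ⟨6884, 1, 9⟩) (.node 1 (.one ⟨10662, 1, 7⟩) (.one ⟨13587, 1, 8⟩))) (.node 1 (.one ⟨14701, 0, 8⟩) (.node 1 (.one ⟨6227, 2, 6⟩) (.one ⟨10395, 0, 10⟩))))) (.node 6 (.node 3 (.node 1 (.one ⟨9451, 2, 10⟩) (.node 1 (.one ⟨7641, 2, 9⟩) (.one ⟨7992, 0, 4⟩))) (.node 1 (.one ⟨15870, 0, 9⟩) (.node 1 (.one ⟨10325, 2, 8⟩) (.one ⟨5391, 2, 8⟩)))) (.node 3 (.node 1 (.one ⟨15144, 2, 8⟩) (.node 1 (.one ⟨7801, 2, 8⟩) (.one ⟨15663, 1, 10⟩))) (.node 1 (.one ⟨5633, 2, 8⟩) (.node 1 (.one ⟨12131, 2, 8⟩) (.one ⟨3386,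 2, 9⟩)))))))
def par10_16 : Arr Par :=
  (.node 384 (.node 192 (.node 64 par10_16_0 (.node 64 par10_16_1 par10_16_2)) (.node 64 par10_16_3 (.node 64 par10_16_4 par10_16_5))) (.node 192 (.node 64 par10_16_6 (.node 64 par10_16_7 par10_16_8)) (.node 128 (.node 64 par10_16_9 par10_16_10) (.node 64 par10_16_11 par10_16_12))))
def par10 : Arr Par :=
  (.node 8192 (.node 4096 (.node 2048 (.node 1024 par10_0 par10_1) (.node 1024 par10_2 par10_3)) (.node 2048 (.node 1024 par10_4 par10_5) (.node 1024 par10_6 par10_7))) (.node 4096 (.node 2048 (.node 1024 par10_8 par10_9) (.node 1024 par10_10 par10_11)) (.node 2048 (.node 1024 par10_12 par10_13) (.node 1024 par10_14 (.node 1024 par10_15 par10_16)))))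

end CfsgLib.ThIndex62.Data
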