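import Cfsg.Agent.ThIndex62.Closure

/-! Orbit forest of node 2 on the points. -/

set_option autoImplicit false
set_option maxRecDepth 100000

namespace CfsgLib.ThIndex62.Data

open CfsgLib.ThModel83

def par2_0_0 : Arr Par :=
  (.node 32 (.node 16 (.node 8 (.node 4 (.node 2 (.node 1 (.one ⟨1893, 3, 6⟩) (.one ⟨14717, 1, 6⟩)) (.node 1 (.one ⟨15780, 4, 6⟩) (.one ⟨14015, 5, 5⟩))) (.node 2 (.node 1 (.one ⟨13157, 3, 6⟩) (.one ⟨5606, 0, 5⟩)) (.node 1 (.one ⟨1672, 0, 5⟩) (.one ⟨9041, 4, 6⟩)))) (.node 4 (.node 2 (.node 1 (.one ⟨17197, 4, 5⟩) (.one ⟨12927, 5, 6⟩)) (.node 1 (.one ⟨11939, 0, 6⟩) (.one ⟨16614, 3, 4⟩))) (.node 2 (.node 1 (.one ⟨5541, 3, 5⟩) (.one ⟨3310, 2, 6⟩)) (.node 1 (.one ⟨534, 1, 5⟩) (.one ⟨8481, 4,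 5⟩))))) (.node 8 (.node 4 (.node 2 (.node 1 (.one ⟨7010, 3, 6⟩) (.one ⟨6917, 1, 6⟩)) (.node 1 (.one ⟨14841, 2, 6⟩) (.one ⟨4951, 0, 5⟩))) (.node 2 (.node 1 (.one ⟨13123, 3, 4⟩) (.one ⟨16948, 4, 6⟩)) (.node 1 (.one ⟨7201, 5, 5⟩) (.one ⟨8567, 4, 5⟩)))) (.node 4 (.node 2 (.node 1 (.one ⟨1902, 2, 6⟩) (.one ⟨13634, 0, 6⟩)) (.node 1 (.one ⟨13156, 4, 6⟩) (.one ⟨11583, 4, 5⟩))) (.node 2 (.node 1 (.one ⟨4487, 2, 5⟩) (.one ⟨8567, 0, 5⟩)) (.node 1 (.one ⟨15651, 2, 4⟩) (.one ⟨11615, 2, 5⟩)))))) (.node 16 (.node 8 (.node 4 (.node 2 (.node 1 (.one ⟨3111, 3, 4⟩) (.one ⟨7120, 4, 5⟩)) (.node 1 (.one ⟨12385, 2, 4⟩) (.one ⟨14858, 4, 5⟩))) (.node 2 (.node 1 (.one ⟨13009, 3, 4⟩) (.one ⟨13217, 3, 4⟩)) (.node 1 (.one ⟨8621, 2, 5⟩)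 (.one ⟨8545, 1, 5⟩)))) (.node 4 (.node 2 (.node 1 (.one ⟨13532, 4, 5⟩) (.one ⟨16507, 5, 5⟩)) (.node 1 (.one ⟨11583, 0, 5⟩) (.one ⟨11738, 5, 6⟩))) (.node 2 (.node 1 (.one ⟨1855, 2, 5⟩) (.one ⟨13575, 4, 5⟩)) (.node 1 (.one ⟨15848, 1, 6⟩) (.one ⟨14882, 2, 6⟩))))) (.node 8 (.node 4 (.node 2 (.node 1 (.one ⟨11831, 1, 5⟩) (.one ⟨3326, 5, 5⟩)) (.node 1 (.one ⟨10399, 2, 5⟩) (.one ⟨6591, 5, 6⟩))) (.node 2 (.node 1 (.one ⟨11825, 2, 5⟩) (.one ⟨11007, 5, 6⟩)) (.node 1 (.one ⟨16616, 4, 6⟩) (.one ⟨15071, 0, 5⟩)))) (.node 4 (.node 2 (.node 1 (.one ⟨17099, 1, 5⟩) (.one ⟨2063, 5, 5⟩)) (.node 1 (.one ⟨5189, 3, 6⟩) (.one ⟨7120, 0, 5⟩))) (.node 2 (.node 1 (.one ⟨14702, 4, 5⟩) (.one ⟨6102, 5, 6⟩)) (.node 1 (.one ⟨7488, 0, 6⟩) (.one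 ⟨12395, 2, 6⟩)))))))
def par2_0_1 : Arr Par :=
  (.node 32 (.node 16 (.node 8 (.node 4 (.node 2 (.node 1 (.one ⟨2790, 3, 6⟩) (.one ⟨8109, 4, 6⟩)) (.node 1 (.one ⟨2964, 1, 3⟩) (.one ⟨12551, 5, 6⟩))) (.node 2 (.node 1 (.one ⟨682, 0, 6⟩) (.one ⟨9215, 4, 6⟩)) (.node 1 (.one ⟨11333, 4, 6⟩) (.one ⟨1981, 4, 5⟩)))) (.node 4 (.node 2 (.node 1 (.one ⟨15331, 5, 5⟩) (.one ⟨16454, 0, 4⟩)) (.node 1 (.one ⟨11859, 3, 4⟩) (.one ⟨16632, 3, 5⟩))) (.node 2 (.node 1 (.one ⟨3613, 3, 6⟩) (.one ⟨7040, 2, 6⟩)) (.node 1 (.one ⟨16814, 1, 5⟩) (.one ⟨7347, 0, 4⟩))))) (.node 8 (.node 4 (.node 2 (.node 1 (.one ⟨3603, 2, 5⟩) (.one ⟨16451, 0, 2⟩)) (.node 1 (.one ⟨9766, 2, 4⟩) (.one ⟨7425, 5, 6⟩))) (.node 2 (.node 1 (.one ⟨7107, 2, 5⟩) (.one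 ⟨1610, 5, 6⟩)) (.node 1 (.one ⟨7435, 0, 2⟩) (.one ⟨15547, 0, 4⟩)))) (.node 4 (.node 2 (.node 1 (.one ⟨2950, 1, 2⟩) (.one ⟨7072, 4, 5⟩)) (.node 1 (.one ⟨14443, 2, 5⟩) (.one ⟨11458, 2, 6⟩))) (.node 2 (.node 1 (.one ⟨3843, 3, 4⟩) (.one ⟨2379, 5, 5⟩)) (.node 1 (.one ⟨2212, 5, 4⟩) (.one ⟨10462, 2, 5⟩)))))) (.node 16 (.node 8 (.node 4 (.node 2 (.node 1 (.one ⟨15289, 5, 5⟩) (.one ⟨7865, 1, 5⟩)) (.node 1 (.one ⟨4838, 2, 5⟩) (.one ⟨14322, 2, 4⟩))) (.node 2 (.node 1 (.one ⟨9642, 1, 6⟩) (.one ⟨13160, 2, 5⟩)) (.node 1 (.one ⟨8381, 2, 5⟩) (.one ⟨1158, 4, 4⟩)))) (.node 4 (.node 2 (.node 1 (.one ⟨11856, 4, 4⟩) (.one ⟨11825, 0, 5⟩)) (.node 1 (.one ⟨16598, 4, 4⟩) (.one ⟨3150, 3, 6⟩))) (.node 2 (.node 1 (.one ⟨7956, 5, 5⟩) (.one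 ⟨12780, 4, 3⟩)) (.node 1 (.one ⟨14084, 4, 4⟩) (.one ⟨5961, 3, 3⟩))))) (.node 8 (.node 4 (.node 2 (.node 1 (.one ⟨3813, 5, 6⟩) (.one ⟨3957, 1, 5⟩)) (.node 1 (.one ⟨9573, 3, 6⟩) (.one ⟨13605, 4, 5⟩))) (.node 2 (.node 1 (.one ⟨11290, 5, 5⟩) (.one ⟨5605, 5, 5⟩)) (.node 1 (.one ⟨14610, 5, 6⟩) (.one ⟨5817, 2, 3⟩)))) (.node 4 (.node 2 (.node 1 (.one ⟨4182, 5, 5⟩) (.one ⟨16543, 5, 5⟩)) (.node 1 (.one ⟨8865, 1, 6⟩) (.one ⟨5126, 5, 3⟩))) (.node 2 (.node 1 (.one ⟨9017, 5, 5⟩) (.one ⟨3034, 0, 6⟩)) (.node 1 (.one ⟨7172, 4, 5⟩) (.one ⟨16814, 3, 5⟩)))))))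
def par2_0_2 : Arr Par :=
  (.node 32 (.node 16 (.node 8 (.node 4 (.node 2 (.node 1 (.one ⟨15769, 2, 6⟩) (.one ⟨6327, 1, 4⟩)) (.node 1 (.one ⟨8918, 1, 6⟩) (.one ⟨3242, 1, 5⟩))) (.node 2 (.node 1 (.one ⟨12805, 2, 5⟩) (.one ⟨7095, 4, 5⟩)) (.node 1 (.one ⟨10524, 4, 5⟩) (.one ⟨9839, 2, 6⟩)))) (.node 4 (.node 2 (.node 1 (.one ⟨13593, 3, 5⟩) (.one ⟨3954, 3, 6⟩)) (.node 1 (.one ⟨15537, 2, 6⟩) (.one ⟨4627, 2, 7⟩))) (.node 2 (.node 1 (.one ⟨3956, 3, 4⟩) (.one ⟨11110, 1, 4⟩)) (.node 1 (.one ⟨9358, 1, 6⟩) (.one ⟨6660, 0, 3⟩))))) (.node 8 (.node 4 (.node 2 (.node 1 (.one ⟨3686, 4, 5⟩) (.one ⟨9354, 4, 5⟩)) (.node 1 (.one ⟨13726, 2, 5⟩) (.one ⟨15638, 3, 4⟩))) (.node 2 (.node 1 (.one ⟨3014, 5, 5⟩) (.one ⟨11585, 0, 6⟩)) (.node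 1 (.one ⟨13199, 4, 6⟩) (.one ⟨11435, 1, 6⟩)))) (.node 4 (.node 2 (.node 1 (.one ⟨3319, 1, 4⟩) (.one ⟨556, 2, 5⟩)) (.node 1 (.one ⟨4857, 2, 6⟩) (.one ⟨13690, 1, 4⟩))) (.node 2 (.node 1 (.one ⟨7562, 0, 5⟩) (.one ⟨14559, 3, 4⟩)) (.node 1 (.one ⟨6909, 5, 5⟩) (.one ⟨2758, 0, 6⟩)))))) (.node 16 (.node 8 (.node 4 (.node 2 (.node 1 (.one ⟨6884, 5, 6⟩) (.one ⟨8846, 1, 3⟩)) (.node 1 (.one ⟨7296, 5, 6⟩) (.one ⟨14276, 3, 2⟩))) (.node 2 (.node 1 (.one ⟨3277, 4, 6⟩) (.one ⟨13352, 3, 6⟩)) (.node 1 (.one ⟨4070, 2, 6⟩) (.one ⟨2462, 4, 3⟩)))) (.node 4 (.node 2 (.node 1 (.one ⟨8952, 1, 6⟩) (.one ⟨13448, 4, 5⟩)) (.node 1 (.one ⟨6160, 4, 4⟩) (.one ⟨3495, 4, 5⟩))) (.node 2 (.node 1 (.one ⟨7200, 2, 4⟩) (.one ⟨14118, 0, 5⟩)) (.node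 1 (.one ⟨16045, 2, 6⟩) (.one ⟨4793, 2, 5⟩))))) (.node 8 (.node 4 (.node 2 (.node 1 (.one ⟨2707, 2, 4⟩) (.one ⟨2301, 2, 5⟩)) (.node 1 (.one ⟨15517, 1, 4⟩) (.one ⟨7072, 3, 5⟩))) (.node 2 (.node 1 (.one ⟨13358, 3, 4⟩) (.one ⟨1027, 1, 6⟩)) (.node 1 (.one ⟨5438, 4, 5⟩) (.one ⟨208, 2, 5⟩)))) (.node 4 (.node 2 (.node 1 (.one ⟨10504, 1, 5⟩) (.one ⟨4383, 4, 5⟩)) (.node 1 (.one ⟨11423, 1, 6⟩) (.one ⟨16126, 4, 6⟩))) (.node 2 (.node 1 (.one ⟨3708, 4, 3⟩) (.one ⟨8563, 3, 5⟩)) (.node 1 (.one ⟨1909, 2, 6⟩) (.one ⟨2610, 1, 6⟩)))))))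
def par2_0_3 : Arr Par :=
  (.node 32 (.node 16 (.node 8 (.node 4 (.node 2 (.node 1 (.one ⟨10020, 2, 3⟩) (.one ⟨10661, 2, 5⟩)) (.node 1 (.one ⟨6797, 3, 6⟩) (.one ⟨1763, 1, 6⟩))) (.node 2 (.node 1 (.one ⟨13488, 1, 5⟩) (.one ⟨192, 5, 4⟩)) (.node 1 (.one ⟨15663, 4, 6⟩) (.one ⟨1732, 2, 5⟩)))) (.node 4 (.node 2 (.node 1 (.one ⟨5171, 1, 3⟩) (.one ⟨13018, 4, 3⟩)) (.node 1 (.one ⟨4008, 5, 5⟩) (.one ⟨9172, 5, 4⟩))) (.node 2 (.node 1 (.one ⟨8915, 2, 4⟩) (.one ⟨13976, 5, 5⟩)) (.node 1 (.one ⟨15889, 2, 6⟩) (.one ⟨10023, 5, 6⟩))))) (.node 8 (.node 4 (.node 2 (.node 1 (.one ⟨16116, 4, 4⟩) (.one ⟨4591, 1, 4⟩)) (.node 1 (.one ⟨3340, 5, 5⟩) (.one ⟨12454, 1, 5⟩))) (.node 2 (.node 1 (.one ⟨8410, 3, 5⟩) (.one ⟨14420, 1, 5⟩)) (.node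 1 (.one ⟨4752, 5, 6⟩) (.one ⟨6954, 4, 5⟩)))) (.node 4 (.node 2 (.node 1 (.one ⟨13217, 0, 4⟩) (.one ⟨9780, 3, 4⟩)) (.node 1 (.one ⟨13276, 4, 5⟩) (.one ⟨2505, 5, 6⟩))) (.node 2 (.node 1 (.one ⟨8371, 2, 6⟩) (.one ⟨14396, 5, 4⟩)) (.node 1 (.one ⟨15730, 5, 6⟩) (.one ⟨12113, 3, 5⟩)))))) (.node 16 (.node 8 (.node 4 (.node 2 (.node 1 (.one ⟨7839, 5, 5⟩) (.one ⟨7228, 2, 4⟩)) (.node 1 (.one ⟨4290, 2, 6⟩) (.one ⟨13446, 4, 5⟩))) (.node 2 (.node 1 (.one ⟨7955, 5, 6⟩) (.one ⟨1306, 5, 5⟩)) (.node 1 (.one ⟨7059, 2, 4⟩) (.one ⟨2945, 4, 5⟩)))) (.node 4 (.node 2 (.node 1 (.one ⟨11460, 4, 4⟩) (.one ⟨6278, 5, 3⟩)) (.node 1 (.one ⟨2489, 5, 6⟩) (.one ⟨6115, 2, 4⟩))) (.node 2 (.node 1 (.one ⟨16431, 3, 6⟩) (.one ⟨5927, 4, 6⟩)) (.node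 1 (.one ⟨15333, 5, 6⟩) (.one ⟨3338, 5, 4⟩))))) (.node 8 (.node 4 (.node 2 (.node 1 (.one ⟨11291, 5, 5⟩) (.one ⟨1971, 0, 5⟩)) (.node 1 (.one ⟨16094, 4, 5⟩) (.one ⟨749, 0, 6⟩))) (.node 2 (.node 1 (.one ⟨10864, 2, 5⟩) (.one ⟨13257, 1, 6⟩)) (.node 1 (.one ⟨1842, 5, 6⟩) (.one ⟨13190, 3, 5⟩)))) (.node 4 (.node 2 (.node 1 (.one ⟨3606, 5, 5⟩) (.one ⟨2347, 1, 4⟩)) (.node 1 (.one ⟨496, 2, 4⟩) (.one ⟨10339, 4, 2⟩))) (.node 2 (.node 1 (.one ⟨11808, 3, 4⟩) (.one ⟨12082, 4, 4⟩)) (.node 1 (.one ⟨5987, 5, 4⟩) (.one ⟨11815, 4, 5⟩)))))))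
def par2_0_4 : Arr Par :=
  (.node 32 (.node 16 (.node 8 (.node 4 (.node 2 (.node 1 (.one ⟨7410, 0, 6⟩) (.one ⟨13070, 4, 5⟩)) (.node 1 (.one ⟨7078, 1, 4⟩) (.one ⟨7076, 1, 6⟩))) (.node 2 (.node 1 (.one ⟨13942, 5, 6⟩) (.one ⟨7073, 1, 5⟩)) (.node 1 (.one ⟨12610, 3, 6⟩) (.one ⟨1198, 3, 6⟩)))) (.node 4 (.node 2 (.node 1 (.one ⟨5057, 4, 6⟩) (.one ⟨11890, 2, 5⟩)) (.node 1 (.one ⟨5142, 4, 5⟩) (.one ⟨13926, 0, 5⟩))) (.node 2 (.node 1 (.one ⟨7588, 1, 5⟩) (.one ⟨2577, 1, 5⟩)) (.node 1 (.one ⟨2143, 0, 5⟩) (.one ⟨691, 5, 4⟩))))) (.node 8 (.node 4 (.node 2 (.node 1 (.one ⟨11107, 2, 4⟩) (.one ⟨4222, 4, 6⟩)) (.node 1 (.one ⟨8274, 1, 6⟩) (.one ⟨17095, 4, 6⟩))) (.node 2 (.node 1 (.one ⟨10908, 0, 3⟩) (.one ⟨3448, 5, 4⟩)) (.node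 1 (.one ⟨11914, 0, 6⟩) (.one ⟨6306, 1, 4⟩)))) (.node 4 (.node 2 (.node 1 (.one ⟨9967, 4, 6⟩) (.one ⟨6361, 4, 4⟩)) (.node 1 (.one ⟨1230, 1, 5⟩) (.one ⟨1991, 4, 5⟩))) (.node 2 (.node 1 (.one ⟨9010, 4, 6⟩) (.one ⟨10676, 5, 6⟩)) (.node 1 (.one ⟨14331, 5, 5⟩) (.one ⟨13850, 0, 5⟩)))))) (.node 16 (.node 8 (.node 4 (.node 2 (.node 1 (.one ⟨5202, 5, 6⟩) (.one ⟨7261, 2, 5⟩)) (.node 1 (.one ⟨2661, 2, 5⟩) (.one ⟨14110, 4, 6⟩))) (.node 2 (.node 1 (.one ⟨8924, 4, 6⟩) (.one ⟨4421, 1, 5⟩)) (.node 1 (.one ⟨770, 4, 4⟩) (.one ⟨6205, 0, 5⟩)))) (.node 4 (.node 2 (.node 1 (.one ⟨4747, 5, 4⟩) (.one ⟨4166, 1, 5⟩)) (.node 1 (.one ⟨15722, 1, 5⟩) (.one ⟨12817, 4, 5⟩))) (.node 2 (.node 1 (.one ⟨10450, 1, 6⟩) (.one ⟨9967, 1, 6⟩)) (.node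 1 (.one ⟨13698, 5, 5⟩) (.one ⟨5942, 3, 6⟩))))) (.node 8 (.node 4 (.node 2 (.node 1 (.one ⟨10667, 5, 5⟩) (.one ⟨2636, 2, 5⟩)) (.node 1 (.one ⟨12385, 3, 4⟩) (.one ⟨3062, 4, 6⟩))) (.node 2 (.node 1 (.one ⟨12383, 4, 4⟩) (.one ⟨12752, 4, 4⟩)) (.node 1 (.one ⟨6906, 5, 6⟩) (.one ⟨2012, 1, 6⟩)))) (.node 4 (.node 2 (.node 1 (.one ⟨14090, 4, 6⟩) (.one ⟨8669, 1, 6⟩)) (.node 1 (.one ⟨14609, 5, 6⟩) (.one ⟨1508, 0, 3⟩))) (.node 2 (.node 1 (.one ⟨13620, 1, 4⟩) (.one ⟨846, 5, 6⟩)) (.node 1 (.one ⟨4217, 2, 6⟩) (.one ⟨8777, 5, 5⟩)))))))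
def par2_0_5 : Arr Par :=
  (.node 32 (.node 16 (.node 8 (.node 4 (.node 2 (.node 1 (.one ⟨15923, 1, 5⟩) (.one ⟨4145, 3, 5⟩)) (.node 1 (.one ⟨7636, 2, 5⟩) (.one ⟨996, 4, 6⟩))) (.node 2 (.node 1 (.one ⟨6732, 2, 6⟩) (.one ⟨141, 3, 5⟩)) (.node 1 (.one ⟨625, 0, 5⟩) (.one ⟨3039, 0, 5⟩)))) (.node 4 (.node 2 (.node 1 (.one ⟨7179, 5, 6⟩) (.one ⟨6519, 3, 3⟩)) (.node 1 (.one ⟨3949, 3, 5⟩) (.one ⟨15940, 5, 6⟩))) (.node 2 (.node 1 (.one ⟨9631, 5, 5⟩) (.one ⟨13783, 4, 4⟩)) (.node 1 (.one ⟨15857, 1, 7⟩) (.one ⟨17171, 0, 6⟩))))) (.node 8 (.node 4 (.node 2 (.node 1 (.one ⟨8437, 2, 6⟩) (.one ⟨13542, 4, 5⟩)) (.node 1 (.one ⟨12878, 5, 6⟩) (.one ⟨9548, 5, 5⟩))) (.node 2 (.node 1 (.one ⟨5060, 0, 6⟩) (.one ⟨16521, 1, 6⟩)) (.node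 1 (.one ⟨13479, 0, 6⟩) (.one ⟨5475, 4, 6⟩)))) (.node 4 (.node 2 (.node 1 (.one ⟨3982, 2, 6⟩) (.one ⟨5056, 2, 5⟩)) (.node 1 (.one ⟨7867, 1, 4⟩) (.one ⟨11942, 0, 6⟩))) (.node 2 (.node 1 (.one ⟨6864, 1, 5⟩) (.one ⟨8918, 2, 6⟩)) (.node 1 (.one ⟨3394, 5, 5⟩) (.one ⟨14227, 5, 6⟩)))))) (.node 16 (.node 8 (.node 4 (.node 2 (.node 1 (.one ⟨15291, 4, 4⟩) (.one ⟨8669, 2, 6⟩)) (.node 1 (.one ⟨10548, 2, 5⟩) (.one ⟨17188, 4, 6⟩))) (.node 2 (.node 1 (.one ⟨4598, 3, 4⟩) (.one ⟨14959, 5, 4⟩)) (.node 1 (.one ⟨4030, 4, 4⟩) (.one ⟨9647, 1, 4⟩)))) (.node 4 (.node 2 (.node 1 (.one ⟨7716, 0, 5⟩) (.one ⟨4988, 2, 6⟩)) (.node 1 (.one ⟨14152, 4, 6⟩) (.one ⟨14634, 2, 3⟩))) (.node 2 (.node 1 (.one ⟨15193, 5, 6⟩) (.one ⟨7988, 5, 5⟩)) (.node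 1 (.one ⟨8410, 0, 5⟩) (.one ⟨13702, 4, 5⟩))))) (.node 8 (.node 4 (.node 2 (.node 1 (.one ⟨14785, 2, 5⟩) (.one ⟨14059, 5, 5⟩)) (.node 1 (.one ⟨4170, 2, 4⟩) (.one ⟨5807, 4, 4⟩))) (.node 2 (.node 1 (.one ⟨14043, 3, 4⟩) (.one ⟨4831, 4, 5⟩)) (.node 1 (.one ⟨13257, 2, 6⟩) (.one ⟨10812, 1, 5⟩)))) (.node 4 (.node 2 (.node 1 (.one ⟨10813, 1, 6⟩) (.one ⟨9695, 3, 6⟩)) (.node 1 (.one ⟨4758, 4, 6⟩) (.one ⟨479, 5, 4⟩))) (.node 2 (.node 1 (.one ⟨754, 2, 5⟩) (.one ⟨530, 1, 6⟩)) (.node 1 (.one ⟨2907, 3, 6⟩) (.one ⟨4944, 2, 6⟩)))))))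
def par2_0_6 : Arr Par :=
  (.node 32 (.node 16 (.node 8 (.node 4 (.node 2 (.node 1 (.one ⟨14824, 5, 5⟩) (.one ⟨13295, 4, 6⟩)) (.node 1 (.one ⟨4931, 5, 5⟩) (.one ⟨534, 3, 5⟩))) (.node 2 (.node 1 (.one ⟨14962, 2, 5⟩) (.one ⟨15953, 4, 4⟩)) (.node 1 (.one ⟨15057, 2, 5⟩) (.one ⟨8558, 3, 6⟩)))) (.node 4 (.node 2 (.node 1 (.one ⟨4122, 0, 5⟩) (.one ⟨4403, 3, 6⟩)) (.node 1 (.one ⟨2571, 3, 3⟩) (.one ⟨7232, 0, 4⟩))) (.node 2 (.node 1 (.one ⟨10419, 5, 4⟩) (.one ⟨6090, 1, 6⟩)) (.node 1 (.one ⟨17084, 4, 5⟩) (.one ⟨11731, 4, 6⟩))))) (.node 8 (.node 4 (.node 2 (.node 1 (.one ⟨1393, 4, 6⟩) (.one ⟨12994, 1, 6⟩)) (.node 1 (.one ⟨3541, 2, 5⟩) (.one ⟨15556, 5, 6⟩))) (.node 2 (.node 1 (.one ⟨9342, 3, 6⟩) (.one ⟨7371, 1, 6⟩)) (.node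 1 (.one ⟨12993, 2, 5⟩) (.one ⟨7716, 1, 5⟩)))) (.node 4 (.node 2 (.node 1 (.one ⟨8285, 4, 4⟩) (.one ⟨9632, 5, 5⟩)) (.node 1 (.one ⟨14953, 5, 6⟩) (.one ⟨4021, 5, 5⟩))) (.node 2 (.node 1 (.one ⟨14461, 4, 5⟩) (.one ⟨16353, 5, 5⟩)) (.node 1 (.one ⟨14080, 3, 4⟩) (.one ⟨16814, 0, 5⟩)))))) (.node 16 (.node 8 (.node 4 (.node 2 (.node 1 (.one ⟨1216, 5, 7⟩) (.one ⟨8671, 2, 4⟩)) (.node 1 (.one ⟨1426, 4, 5⟩) (.one ⟨11572, 2, 5⟩))) (.node 2 (.node 1 (.one ⟨10218, 1, 4⟩) (.one ⟨9633, 5, 4⟩)) (.node 1 (.one ⟨16512, 4, 6⟩) (.one ⟨14961, 5, 5⟩)))) (.node 4 (.node 2 (.node 1 (.one ⟨11817, 2, 5⟩) (.one ⟨5880, 4, 5⟩)) (.node 1 (.one ⟨3919, 5, 5⟩) (.one ⟨14212, 5, 5⟩))) (.node 2 (.node 1 (.one ⟨5717, 0, 4⟩) (.one ⟨9293, 5, 6⟩)) (.node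 1 (.one ⟨6104, 0, 3⟩) (.one ⟨16213, 0, 2⟩))))) (.node 8 (.node 4 (.node 2 (.node 1 (.one ⟨3694, 5, 6⟩) (.one ⟨7317, 3, 4⟩)) (.node 1 (.one ⟨3919, 2, 5⟩) (.one ⟨3101, 2, 5⟩))) (.node 2 (.node 1 (.one ⟨1033, 1, 4⟩) (.one ⟨1921, 3, 4⟩)) (.node 1 (.one ⟨3340, 1, 5⟩) (.one ⟨2758, 3, 6⟩)))) (.node 4 (.node 2 (.node 1 (.one ⟨9956, 2, 5⟩) (.one ⟨6483, 2, 5⟩)) (.node 1 (.one ⟨9100, 5, 5⟩) (.one ⟨15986, 3, 5⟩))) (.node 2 (.node 1 (.one ⟨5196, 2, 6⟩) (.one ⟨10082, 2, 4⟩)) (.node 1 (.one ⟨5732, 4, 5⟩) (.one ⟨16273, 1, 6⟩)))))))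
def par2_0_7 : Arr Par :=
  (.node 32 (.node 16 (.node 8 (.node 4 (.node 2 (.node 1 (.one ⟨13358, 0, 4⟩) (.one ⟨11562, 1, 4⟩)) (.node 1 (.one ⟨1412, 2, 4⟩) (.one ⟨4554, 1, 6⟩))) (.node 2 (.node 1 (.one ⟨7635, 5, 6⟩) (.one ⟨8802, 1, 6⟩)) (.node 1 (.one ⟨1041, 5, 6⟩) (.one ⟨6002, 1, 6⟩)))) (.node 4 (.node 2 (.node 1 (.one ⟨8846, 4, 3⟩) (.one ⟨8888, 0, 4⟩)) (.node 1 (.one ⟨5475, 1, 6⟩) (.one ⟨10843, 1, 5⟩))) (.node 2 (.node 1 (.one ⟨8136, 2, 5⟩) (.one ⟨4120, 3, 4⟩)) (.node 1 (.one ⟨11057, 0, 3⟩) (.one ⟨9019, 4, 5⟩))))) (.node 8 (.node 4 (.node 2 (.node 1 (.one ⟨4590, 1, 6⟩) (.one ⟨12113, 5, 5⟩)) (.node 1 (.one ⟨10304, 1, 5⟩) (.one ⟨5376, 4, 4⟩))) (.node 2 (.node 1 (.one ⟨15722, 0, 5⟩) (.one ⟨1051, 5, 3⟩)) (.node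 1 (.one ⟨15697, 2, 3⟩) (.one ⟨2982, 5, 6⟩)))) (.node 4 (.node 2 (.node 1 (.one ⟨4553, 2, 5⟩) (.one ⟨12655, 5, 5⟩)) (.node 1 (.one ⟨7918, 2, 6⟩) (.one ⟨8672, 1, 5⟩))) (.node 2 (.node 1 (.one ⟨2467, 5, 5⟩) (.one ⟨8744, 5, 4⟩)) (.node 1 (.one ⟨1122, 4, 5⟩) (.one ⟨16328, 5, 3⟩)))))) (.node 16 (.node 8 (.node 4 (.node 2 (.node 1 (.one ⟨15806, 5, 6⟩) (.one ⟨2405, 4, 3⟩)) (.node 1 (.one ⟨11692, 5, 4⟩) (.one ⟨13192, 5, 6⟩))) (.node 2 (.node 1 (.one ⟨4797, 1, 4⟩) (.one ⟨13180, 0, 6⟩)) (.node 1 (.one ⟨11471, 5, 5⟩) (.one ⟨9446, 1, 4⟩)))) (.node 4 (.node 2 (.node 1 (.one ⟨5688, 5, 5⟩) (.one ⟨15727, 5, 5⟩)) (.node 1 (.one ⟨6681, 3, 5⟩) (.one ⟨8958, 3, 6⟩))) (.node 2 (.node 1 (.one ⟨9673, 2, 4⟩) (.one ⟨793, 1, 5⟩)) (.node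 1 (.one ⟨14560, 1, 5⟩) (.one ⟨4211, 5, 6⟩))))) (.node 8 (.node 4 (.node 2 (.node 1 (.one ⟨10641, 5, 3⟩) (.one ⟨7530, 4, 6⟩)) (.node 1 (.one ⟨10043, 4, 6⟩) (.one ⟨10255, 4, 6⟩))) (.node 2 (.node 1 (.one ⟨9732, 4, 5⟩) (.one ⟨14542, 0, 5⟩)) (.node 1 (.one ⟨5171, 4, 3⟩) (.one ⟨7075, 3, 6⟩)))) (.node 4 (.node 2 (.node 1 (.one ⟨16960, 4, 4⟩) (.one ⟨363, 5, 4⟩)) (.node 1 (.one ⟨9538, 0, 3⟩) (.one ⟨6018, 4, 5⟩))) (.node 2 (.node 1 (.one ⟨2388, 2, 6⟩) (.one ⟨11738, 0, 6⟩)) (.node 1 (.one ⟨3376, 4, 5⟩) (.one ⟨11053, 3, 4⟩)))))))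
def par2_0_8 : Arr Par :=
  (.node 32 (.node 16 (.node 8 (.node 4 (.node 2 (.node 1 (.one ⟨9452, 3, 6⟩) (.one ⟨3242, 2, 5⟩)) (.node 1 (.one ⟨10548, 1, 5⟩) (.one ⟨4102, 1, 5⟩))) (.node 2 (.node 1 (.one ⟨787, 3, 6⟩) (.one ⟨9756, 5, 6⟩)) (.node 1 (.one ⟨3153, 2, 3⟩) (.one ⟨7178, 5, 6⟩)))) (.node 4 (.node 2 (.node 1 (.one ⟨14757, 2, 5⟩) (.one ⟨2757, 3, 6⟩)) (.node 1 (.one ⟨2866, 2, 5⟩) (.one ⟨4636, 5, 5⟩))) (.node 2 (.node 1 (.one ⟨8388, 5, 6⟩) (.one ⟨430, 4, 4⟩)) (.node 1 (.one ⟨3235, 1, 4⟩) (.one ⟨16698, 5, 5⟩))))) (.node 8 (.node 4 (.node 2 (.node 1 (.one ⟨9684, 4, 6⟩) (.one ⟨15163, 4, 4⟩)) (.node 1 (.one ⟨7261, 1, 5⟩) (.one ⟨15494, 0, 6⟩))) (.node 2 (.node 1 (.one ⟨10366, 2, 5⟩) (.one ⟨4172, 4, 5⟩)) (.node 1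 (.one ⟨16702, 5, 4⟩) (.one ⟨14952, 5, 5⟩)))) (.node 4 (.node 2 (.node 1 (.one ⟨5070, 4, 5⟩) (.one ⟨2014, 1, 5⟩)) (.node 1 (.one ⟨15939, 5, 4⟩) (.one ⟨7461, 0, 6⟩))) (.node 2 (.node 1 (.one ⟨14495, 4, 4⟩) (.one ⟨8953, 1, 6⟩)) (.node 1 (.one ⟨4043, 1, 5⟩) (.one ⟨12025, 1, 5⟩)))))) (.node 16 (.node 8 (.node 4 (.node 2 (.node 1 (.one ⟨12023, 1, 6⟩) (.one ⟨10966, 5, 6⟩)) (.node 1 (.one ⟨14785, 4, 5⟩) (.one ⟨6466, 5, 6⟩))) (.node 2 (.node 1 (.one ⟨10911, 1, 5⟩) (.one ⟨5529, 2, 5⟩)) (.node 1 (.one ⟨9088, 2, 6⟩) (.one ⟨3172, 2, 5⟩)))) (.node 4 (.node 2 (.node 1 (.one ⟨17099, 0, 5⟩) (.one ⟨14118, 1, 5⟩)) (.node 1 (.one ⟨15885, 5, 5⟩) (.one ⟨871, 2, 6⟩))) (.node 2 (.node 1 (.one ⟨12829, 5, 4⟩) (.one ⟨15935, 5, 6⟩)) (.node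 1 (.one ⟨2201, 4, 5⟩) (.one ⟨10370, 4, 5⟩))))) (.node 8 (.node 4 (.node 2 (.node 1 (.one ⟨5110, 2, 5⟩) (.one ⟨1884, 2, 6⟩)) (.node 1 (.one ⟨9436, 4, 7⟩) (.one ⟨2350, 1, 6⟩))) (.node 2 (.node 1 (.one ⟨11566, 1, 6⟩) (.one ⟨8381, 1, 5⟩)) (.node 1 (.one ⟨8367, 5, 6⟩) (.one ⟨15392, 4, 4⟩)))) (.node 4 (.node 2 (.node 1 (.one ⟨8940, 5, 3⟩) (.one ⟨15524, 3, 5⟩)) (.node 1 (.one ⟨12963, 1, 6⟩) (.one ⟨1197, 3, 6⟩))) (.node 2 (.node 1 (.one ⟨13321, 5, 3⟩) (.one ⟨11743, 3, 6⟩)) (.node 1 (.one ⟨8747, 5, 5⟩) (.one ⟨15214, 5, 6⟩)))))))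
def par2_0_9 : Arr Par :=
  (.node 32 (.node 16 (.node 8 (.node 4 (.node 2 (.node 1 (.one ⟨15439, 5, 6⟩) (.one ⟨4287, 0, 6⟩)) (.node 1 (.one ⟨16739, 5, 6⟩) (.one ⟨3564, 2, 7⟩))) (.node 2 (.node 1 (.one ⟨3022, 3, 6⟩) (.one ⟨3830, 1, 5⟩)) (.node 1 (.one ⟨4520, 5, 6⟩) (.one ⟨3682, 1, 6⟩)))) (.node 4 (.node 2 (.node 1 (.one ⟨8693, 5, 6⟩) (.one ⟨4291, 4, 4⟩)) (.node 1 (.one ⟨14192, 1, 5⟩) (.one ⟨4359, 2, 4⟩))) (.node 2 (.node 1 (.one ⟨12082, 3, 4⟩) (.one ⟨4864, 1, 6⟩)) (.node 1 (.one ⟨16676, 1, 2⟩) (.one ⟨11858, 3, 6⟩))))) (.node 8 (.node 4 (.node 2 (.node 1 (.one ⟨15232, 2, 4⟩) (.one ⟨5963, 4, 4⟩)) (.node 1 (.one ⟨11641, 2, 6⟩) (.one ⟨12254, 2, 5⟩))) (.node 2 (.node 1 (.one ⟨17026, 1, 6⟩) (.one ⟨4316, 4, 6⟩)) (.node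 1 (.one ⟨2639, 4, 2⟩) (.one ⟨13832, 3, 4⟩)))) (.node 4 (.node 2 (.node 1 (.one ⟨8630, 5, 6⟩) (.one ⟨16448, 4, 4⟩)) (.node 1 (.one ⟨8641, 0, 5⟩) (.one ⟨7181, 5, 6⟩))) (.node 2 (.node 1 (.one ⟨2569, 4, 4⟩) (.one ⟨12422, 5, 5⟩)) (.node 1 (.one ⟨9753, 5, 5⟩) (.one ⟨15618, 0, 2⟩)))))) (.node 16 (.node 8 (.node 4 (.node 2 (.node 1 (.one ⟨13163, 4, 6⟩) (.one ⟨5837, 4, 6⟩)) (.node 1 (.one ⟨16500, 0, 4⟩) (.one ⟨4292, 0, 4⟩))) (.node 2 (.node 1 (.one ⟨10428, 2, 6⟩) (.one ⟨10938, 0, 5⟩)) (.node 1 (.one ⟨13737, 3, 5⟩) (.one ⟨17159, 4, 5⟩)))) (.node 4 (.node 2 (.node 1 (.one ⟨10839, 2, 6⟩) (.one ⟨4890, 5, 6⟩)) (.node 1 (.one ⟨2293, 5, 6⟩) (.one ⟨5928, 2, 5⟩))) (.node 2 (.node 1 (.one ⟨16329, 0, 6⟩) (.one ⟨9666, 4, 5⟩)) (.node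 1 (.one ⟨13215, 1, 5⟩) (.one ⟨11998, 2, 5⟩))))) (.node 8 (.node 4 (.node 2 (.node 1 (.one ⟨2211, 4, 5⟩) (.one ⟨11098, 1, 4⟩)) (.node 1 (.one ⟨11306, 5, 5⟩) (.one ⟨7512, 4, 5⟩))) (.node 2 (.node 1 (.one ⟨4170, 0, 4⟩) (.one ⟨8396, 0, 5⟩)) (.node 1 (.one ⟨15536, 2, 4⟩) (.one ⟨11190, 2, 5⟩)))) (.node 4 (.node 2 (.node 1 (.one ⟨7416, 5, 6⟩) (.one ⟨7573, 5, 6⟩)) (.node 1 (.one ⟨13691, 5, 6⟩) (.one ⟨15929, 0, 5⟩))) (.node 2 (.node 1 (.one ⟨6534, 1, 5⟩) (.one ⟨10668, 5, 5⟩)) (.node 1 (.one ⟨13550, 1, 5⟩) (.one ⟨11345, 0, 4⟩)))))))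
def par2_0_10 : Arr Par :=
  (.node 32 (.node 16 (.node 8 (.node 4 (.node 2 (.node 1 (.one ⟨4016, 5, 6⟩) (.one ⟨1433, 3, 6⟩)) (.node 1 (.one ⟨45, 4, 6⟩) (.one ⟨17190, 4, 6⟩))) (.node 2 (.node 1 (.one ⟨5334, 1, 5⟩) (.one ⟨9030, 0, 5⟩)) (.node 1 (.one ⟨6302, 0, 4⟩) (.one ⟨11074, 1, 4⟩)))) (.node 4 (.node 2 (.node 1 (.one ⟨15307, 0, 4⟩) (.one ⟨17173, 0, 6⟩)) (.node 1 (.one ⟨5489, 3, 6⟩) (.one ⟨6994, 4, 5⟩))) (.node 2 (.node 1 (.one ⟨14362, 2, 4⟩) (.one ⟨5068, 5, 5⟩)) (.node 1 (.one ⟨5961, 5, 3⟩) (.one ⟨5709, 2, 6⟩))))) (.node 8 (.node 4 (.node 2 (.node 1 (.one ⟨3679, 4, 6⟩) (.one ⟨3329, 5, 6⟩)) (.node 1 (.one ⟨8215, 0, 6⟩) (.one ⟨14987, 1, 5⟩))) (.node 2 (.node 1 (.one ⟨12789, 1, 6⟩) (.one ⟨11577, 2, 4⟩)) (.node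 1 (.one ⟨14278, 2, 5⟩) (.one ⟨10632, 4, 6⟩)))) (.node 4 (.node 2 (.node 1 (.one ⟨13960, 4, 5⟩) (.one ⟨2792, 4, 4⟩)) (.node 1 (.one ⟨14546, 5, 4⟩) (.one ⟨2096, 0, 5⟩))) (.node 2 (.node 1 (.one ⟨17098, 0, 5⟩) (.one ⟨1584, 0, 5⟩)) (.node 1 (.one ⟨4553, 4, 5⟩) (.one ⟨598, 5, 3⟩)))))) (.node 16 (.node 8 (.node 4 (.node 2 (.node 1 (.one ⟨15607, 2, 5⟩) (.one ⟨12129, 2, 6⟩)) (.node 1 (.one ⟨702, 5, 6⟩) (.one ⟨14036, 0, 6⟩))) (.node 2 (.node 1 (.one ⟨9947, 3, 4⟩) (.one ⟨11673, 4, 5⟩)) (.node 1 (.one ⟨431, 4, 3⟩) (.one ⟨1554, 5, 5⟩)))) (.node 4 (.node 2 (.node 1 (.one ⟨13892, 2, 6⟩) (.one ⟨6664, 5, 5⟩)) (.node 1 (.one ⟨13850, 5, 5⟩) (.one ⟨2208, 5, 5⟩))) (.node 2 (.node 1 (.one ⟨12741, 4, 5⟩) (.one ⟨16034, 1, 4⟩)) (.node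 1 (.one ⟨1389, 2, 6⟩) (.one ⟨15038, 0, 5⟩))))) (.node 8 (.node 4 (.node 2 (.node 1 (.one ⟨9045, 4, 4⟩) (.one ⟨15921, 1, 5⟩)) (.node 1 (.one ⟨4732, 1, 5⟩) (.one ⟨3708, 5, 3⟩))) (.node 2 (.node 1 (.one ⟨8820, 5, 6⟩) (.one ⟨8574, 1, 5⟩)) (.node 1 (.one ⟨8007, 5, 3⟩) (.one ⟨5837, 1, 6⟩)))) (.node 4 (.node 2 (.node 1 (.one ⟨1745, 5, 5⟩) (.one ⟨14972, 3, 4⟩)) (.node 1 (.one ⟨4768, 2, 5⟩) (.one ⟨9607, 3, 6⟩))) (.node 2 (.node 1 (.one ⟨8075, 5, 5⟩) (.one ⟨2290, 5, 6⟩)) (.node 1 (.one ⟨5159, 3, 5⟩) (.one ⟨13439, 5, 5⟩)))))))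
def par2_0_11 : Arr Par :=
  (.node 32 (.node 16 (.node 8 (.node 4 (.node 2 (.node 1 (.one ⟨12479, 2, 6⟩) (.one ⟨7125, 1, 6⟩)) (.node 1 (.one ⟨9604, 3, 6⟩) (.one ⟨16387, 3, 5⟩))) (.node 2 (.node 1 (.one ⟨8319, 5, 3⟩) (.one ⟨15150, 0, 5⟩)) (.node 1 (.one ⟨9755, 5, 5⟩) (.one ⟨11414, 1, 6⟩)))) (.node 4 (.node 2 (.node 1 (.one ⟨5337, 2, 7⟩) (.one ⟨6197, 1, 5⟩)) (.node 1 (.one ⟨9938, 2, 6⟩) (.one ⟨3947, 0, 6⟩))) (.node 2 (.node 1 (.one ⟨6775, 2, 5⟩) (.one ⟨5161, 3, 5⟩)) (.node 1 (.one ⟨2582, 1, 6⟩) (.one ⟨14150, 2, 4⟩))))) (.node 8 (.node 4 (.node 2 (.node 1 (.one ⟨9105, 1, 5⟩) (.one ⟨16274, 1, 6⟩)) (.node 1 (.one ⟨2345, 1, 4⟩) (.one ⟨1428, 5, 5⟩))) (.node 2 (.node 1 (.one ⟨9164, 4, 5⟩) (.one ⟨14028, 1, 6⟩)) (.node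 1 (.one ⟨5546, 4, 7⟩) (.one ⟨16914, 5, 6⟩)))) (.node 4 (.node 2 (.node 1 (.one ⟨2620, 5, 5⟩) (.one ⟨5691, 5, 5⟩)) (.node 1 (.one ⟨3147, 5, 4⟩) (.one ⟨8901, 0, 6⟩))) (.node 2 (.node 1 (.one ⟨16410, 0, 5⟩) (.one ⟨3752, 4, 6⟩)) (.node 1 (.one ⟨12291, 4, 4⟩) (.one ⟨11396, 1, 6⟩)))))) (.node 16 (.node 8 (.node 4 (.node 2 (.node 1 (.one ⟨1893, 0, 6⟩) (.one ⟨1874, 5, 5⟩)) (.node 1 (.one ⟨4055, 5, 4⟩) (.one ⟨8194, 5, 5⟩))) (.node 2 (.node 1 (.one ⟨14892, 0, 5⟩) (.one ⟨2256, 5, 5⟩)) (.node 1 (.one ⟨6519, 5, 3⟩) (.one ⟨5746, 2, 4⟩)))) (.node 4 (.node 2 (.node 1 (.one ⟨5683, 0, 6⟩) (.one ⟨3487, 1, 4⟩)) (.node 1 (.one ⟨1300, 1, 5⟩) (.one ⟨5141, 1, 5⟩))) (.node 2 (.node 1 (.one ⟨2291, 5, 5⟩) (.one ⟨1509, 2, 5⟩)) (.node 1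 (.one ⟨8538, 0, 6⟩) (.one ⟨4374, 0, 5⟩))))) (.node 8 (.node 4 (.node 2 (.node 1 (.one ⟨3552, 3, 5⟩) (.one ⟨3022, 2, 6⟩)) (.node 1 (.one ⟨4908, 5, 4⟩) (.one ⟨7472, 1, 3⟩))) (.node 2 (.node 1 (.one ⟨12273, 4, 5⟩) (.one ⟨12847, 2, 5⟩)) (.node 1 (.one ⟨4968, 4, 7⟩) (.one ⟨3104, 3, 6⟩)))) (.node 4 (.node 2 (.node 1 (.one ⟨12221, 2, 4⟩) (.one ⟨15854, 1, 4⟩)) (.node 1 (.one ⟨1763, 5, 6⟩) (.one ⟨10492, 4, 4⟩))) (.node 2 (.node 1 (.one ⟨7048, 5, 5⟩) (.one ⟨11746, 3, 3⟩)) (.node 1 (.one ⟨15514, 5, 5⟩) (.one ⟨9477, 4, 5⟩)))))))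
def par2_0_12 : Arr Par :=
  (.node 32 (.node 16 (.node 8 (.node 4 (.node 2 (.node 1 (.one ⟨13641, 4, 4⟩) (.one ⟨11577, 1, 4⟩)) (.node 1 (.one ⟨13115, 1, 3⟩) (.one ⟨9493, 4, 6⟩))) (.node 2 (.node 1 (.one ⟨481, 1, 4⟩) (.one ⟨2620, 2, 5⟩)) (.node 1 (.one ⟨3819, 4, 5⟩) (.one ⟨772, 4, 5⟩)))) (.node 4 (.node 2 (.node 1 (.one ⟨16467, 0, 5⟩) (.one ⟨11794, 4, 5⟩)) (.node 1 (.one ⟨6673, 2, 4⟩) (.one ⟨2363, 2, 5⟩))) (.node 2 (.node 1 (.one ⟨5694, 5, 6⟩) (.one ⟨5774, 1, 5⟩)) (.node 1 (.one ⟨1300, 4, 5⟩) (.one ⟨11998, 5, 5⟩))))) (.node 8 (.node 4 (.node 2 (.node 1 (.one ⟨251, 5, 3⟩) (.one ⟨10172, 2, 5⟩)) (.node 1 (.one ⟨2165, 0, 6⟩) (.one ⟨12674, 5, 5⟩))) (.node 2 (.node 1 (.one ⟨6137, 3, 5⟩) (.one ⟨267, 4, 6⟩)) (.node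 1 (.one ⟨14947, 4, 4⟩) (.one ⟨7401, 1, 6⟩)))) (.node 4 (.node 2 (.node 1 (.one ⟨10090, 4, 4⟩) (.one ⟨8809, 3, 4⟩)) (.node 1 (.one ⟨967, 4, 5⟩) (.one ⟨15538, 2, 5⟩))) (.node 2 (.node 1 (.one ⟨8454, 4, 6⟩) (.one ⟨15651, 3, 4⟩)) (.node 1 (.one ⟨14629, 5, 5⟩) (.one ⟨739, 2, 6⟩)))))) (.node 16 (.node 8 (.node 4 (.node 2 (.node 1 (.one ⟨7029, 5, 6⟩) (.one ⟨5475, 3, 6⟩)) (.node 1 (.one ⟨5694, 1, 6⟩) (.one ⟨7472, 4, 3⟩))) (.node 2 (.node 1 (.one ⟨5283, 4, 5⟩) (.one ⟨11912, 3, 5⟩)) (.node 1 (.one ⟨15190, 5, 4⟩) (.one ⟨14029, 1, 6⟩)))) (.node 4 (.node 2 (.node 1 (.one ⟨16325, 2, 6⟩) (.one ⟨9015, 5, 5⟩)) (.node 1 (.one ⟨6567, 2, 5⟩) (.one ⟨9841, 1, 5⟩))) (.node 2 (.node 1 (.one ⟨13283, 5, 5⟩) (.one ⟨2828, 5, 6⟩)) (.node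 1 (.one ⟨8023, 2, 5⟩) (.one ⟨2713, 5, 5⟩))))) (.node 8 (.node 4 (.node 2 (.node 1 (.one ⟨14334, 5, 6⟩) (.one ⟨13436, 3, 5⟩)) (.node 1 (.one ⟨15333, 1, 6⟩) (.one ⟨15176, 4, 6⟩))) (.node 2 (.node 1 (.one ⟨8329, 3, 3⟩) (.one ⟨13330, 1, 5⟩)) (.node 1 (.one ⟨9110, 1, 5⟩) (.one ⟨5283, 1, 5⟩)))) (.node 4 (.node 2 (.node 1 (.one ⟨2903, 0, 4⟩) (.one ⟨13206, 3, 5⟩)) (.node 1 (.one ⟨8226, 2, 5⟩) (.one ⟨14481, 3, 5⟩))) (.node 2 (.node 1 (.one ⟨11417, 2, 5⟩) (.one ⟨6663, 1, 4⟩)) (.node 1 (.one ⟨6665, 1, 5⟩) (.one ⟨17139, 2, 6⟩)))))))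
def par2_0_13 : Arr Par :=
  (.node 32 (.node 16 (.node 8 (.node 4 (.node 2 (.node 1 (.one ⟨2975, 5, 6⟩) (.one ⟨8954, 4, 5⟩)) (.node 1 (.one ⟨8939, 4, 3⟩) (.one ⟨12452, 3, 6⟩))) (.node 2 (.node 1 (.one ⟨16328, 2, 3⟩) (.one ⟨2615, 4, 5⟩)) (.node 1 (.one ⟨2301, 4, 5⟩) (.one ⟨6982, 5, 6⟩)))) (.node 4 (.node 2 (.node 1 (.one ⟨17100, 0, 5⟩) (.one ⟨14949, 2, 6⟩)) (.node 1 (.one ⟨5908, 0, 6⟩) (.one ⟨4204, 4, 4⟩))) (.node 2 (.node 1 (.one ⟨12517, 5, 6⟩) (.one ⟨3800, 3, 3⟩)) (.node 1 (.one ⟨13438, 1, 5⟩) (.one ⟨6096, 4, 5⟩))))) (.node 8 (.node 4 (.node 2 (.node 1 (.one ⟨436, 4, 5⟩) (.one ⟨13031, 1, 6⟩)) (.node 1 (.one ⟨13742, 3, 4⟩) (.one ⟨5468, 5, 5⟩))) (.node 2 (.node 1 (.one ⟨10631, 0, 6⟩) (.one ⟨14972, 0, 4⟩)) (.node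 1 (.one ⟨16097, 0, 5⟩) (.one ⟨9246, 5, 4⟩)))) (.node 4 (.node 2 (.node 1 (.one ⟨5832, 4, 5⟩) (.one ⟨16824, 5, 5⟩)) (.node 1 (.one ⟨14123, 5, 5⟩) (.one ⟨5604, 5, 5⟩))) (.node 2 (.node 1 (.one ⟨14431, 4, 5⟩) (.one ⟨16164, 4, 4⟩)) (.node 1 (.one ⟨7498, 1, 6⟩) (.one ⟨14065, 5, 6⟩)))))) (.node 16 (.node 8 (.node 4 (.node 2 (.node 1 (.one ⟨1345, 5, 6⟩) (.one ⟨10866, 5, 6⟩)) (.node 1 (.one ⟨6970, 5, 5⟩) (.one ⟨14543, 5, 5⟩))) (.node 2 (.node 1 (.one ⟨10024, 5, 5⟩) (.one ⟨8675, 1, 4⟩)) (.node 1 (.one ⟨7870, 2, 5⟩) (.one ⟨13502, 5, 5⟩)))) (.node 4 (.node 2 (.node 1 (.one ⟨10963, 1, 6⟩) (.one ⟨13840, 5, 6⟩)) (.node 1 (.one ⟨1599, 5, 5⟩) (.one ⟨15538, 4, 5⟩))) (.node 2 (.node 1 (.one ⟨12789, 0, 6⟩) (.one ⟨6299, 4, 6⟩))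 (.node 1 (.one ⟨15188, 5, 6⟩) (.one ⟨6780, 4, 5⟩))))) (.node 8 (.node 4 (.node 2 (.node 1 (.one ⟨11190, 1, 5⟩) (.one ⟨11140, 3, 5⟩)) (.node 1 (.one ⟨3476, 4, 4⟩) (.one ⟨14273, 4, 5⟩))) (.node 2 (.node 1 (.one ⟨8942, 2, 4⟩) (.one ⟨2426, 2, 4⟩)) (.node 1 (.one ⟨16581, 3, 6⟩) (.one ⟨3579, 5, 6⟩)))) (.node 4 (.node 2 (.node 1 (.one ⟨8107, 4, 6⟩) (.one ⟨6912, 1, 6⟩)) (.node 1 (.one ⟨13578, 3, 5⟩) (.one ⟨7982, 1, 5⟩))) (.node 2 (.node 1 (.one ⟨15247, 2, 6⟩) (.one ⟨11334, 5, 5⟩)) (.node 1 (.one ⟨13838, 2, 4⟩) (.one ⟨7870, 1, 5⟩)))))))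
def par2_0_14 : Arr Par :=
  (.node 32 (.node 16 (.node 8 (.node 4 (.node 2 (.node 1 (.one ⟨16164, 1, 4⟩) (.one ⟨1923, 4, 6⟩)) (.node 1 (.one ⟨13058, 0, 5⟩) (.one ⟨7704, 4, 6⟩))) (.node 2 (.node 1 (.one ⟨16348, 5, 6⟩) (.one ⟨763, 2, 5⟩)) (.node 1 (.one ⟨3843, 5, 4⟩) (.one ⟨9649, 4, 5⟩)))) (.node 4 (.node 2 (.node 1 (.one ⟨15057, 0, 5⟩) (.one ⟨15447, 1, 6⟩)) (.node 1 (.one ⟨2540, 0, 5⟩) (.one ⟨17182, 0, 6⟩))) (.node 2 (.node 1 (.one ⟨9774, 1, 5⟩) (.one ⟨1116, 4, 5⟩)) (.node 1 (.one ⟨9946, 3, 6⟩) (.one ⟨14689, 4, 4⟩))))) (.node 8 (.node 4 (.node 2 (.node 1 (.one ⟨15272, 1, 5⟩) (.one ⟨773, 4, 6⟩)) (.node 1 (.one ⟨7649, 3, 3⟩) (.one ⟨9030, 5, 5⟩))) (.node 2 (.node 1 (.one ⟨12200, 0, 5⟩) (.one ⟨5831, 4, 5⟩)) (.node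 1 (.one ⟨13605, 5, 5⟩) (.one ⟨6772, 2, 7⟩)))) (.node 4 (.node 2 (.node 1 (.one ⟨8427, 0, 5⟩) (.one ⟨3558, 2, 5⟩)) (.node 1 (.one ⟨967, 0, 5⟩) (.one ⟨15307, 4, 4⟩))) (.node 2 (.node 1 (.one ⟨14058, 1, 6⟩) (.one ⟨15729, 5, 5⟩)) (.node 1 (.one ⟨13167, 2, 5⟩) (.one ⟨8662, 4, 5⟩)))))) (.node 16 (.node 8 (.node 4 (.node 2 (.node 1 (.one ⟨16524, 1, 6⟩) (.one ⟨5071, 2, 5⟩)) (.node 1 (.one ⟨10744, 5, 5⟩) (.one ⟨9104, 1, 4⟩))) (.node 2 (.node 1 (.one ⟨7317, 0, 4⟩) (.one ⟨5608, 0, 5⟩)) (.node 1 (.one ⟨16726, 4, 5⟩) (.one ⟨13009, 0, 4⟩)))) (.node 4 (.node 2 (.node 1 (.one ⟨5088, 1, 5⟩) (.one ⟨9132, 5, 3⟩)) (.node 1 (.one ⟨11556, 4, 4⟩) (.one ⟨3117, 3, 6⟩))) (.node 2 (.node 1 (.one ⟨4347, 5, 3⟩) (.one ⟨5327, 4, 5⟩)) (.node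 1 (.one ⟨16659, 5, 5⟩) (.one ⟨15523, 3, 5⟩))))) (.node 8 (.node 4 (.node 2 (.node 1 (.one ⟨4623, 0, 6⟩) (.one ⟨7708, 3, 5⟩)) (.node 1 (.one ⟨3771, 5, 5⟩) (.one ⟨13561, 4, 4⟩))) (.node 2 (.node 1 (.one ⟨16584, 5, 6⟩) (.one ⟨636, 2, 6⟩)) (.node 1 (.one ⟨5889, 3, 6⟩) (.one ⟨13481, 0, 4⟩)))) (.node 4 (.node 2 (.node 1 (.one ⟨5339, 5, 4⟩) (.one ⟨3394, 4, 5⟩)) (.node 1 (.one ⟨7687, 4, 6⟩) (.one ⟨9202, 1, 6⟩))) (.node 2 (.node 1 (.one ⟨9841, 5, 5⟩) (.one ⟨6859, 0, 5⟩)) (.node 1 (.one ⟨11414, 4, 6⟩) (.one ⟨7371, 5, 6⟩)))))))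
def par2_0_15 : Arr Par :=
  (.node 32 (.node 16 (.node 8 (.node 4 (.node 2 (.node 1 (.one ⟨7464, 2, 5⟩) (.one ⟨3337, 5, 6⟩)) (.node 1 (.one ⟨13560, 5, 3⟩) (.one ⟨13979, 5, 5⟩))) (.node 2 (.node 1 (.one ⟨2078, 4, 3⟩) (.one ⟨13490, 4, 6⟩)) (.node 1 (.one ⟨13130, 4, 5⟩) (.one ⟨14396, 2, 4⟩)))) (.node 4 (.node 2 (.node 1 (.one ⟨5342, 4, 5⟩) (.one ⟨6365, 5, 5⟩)) (.node 1 (.one ⟨8137, 3, 6⟩) (.one ⟨1738, 1, 5⟩))) (.node 2 (.node 1 (.one ⟨17113, 1, 5⟩) (.one ⟨7072, 2, 5⟩)) (.node 1 (.one ⟨12550, 0, 5⟩) (.one ⟨16250, 5, 6⟩))))) (.node 8 (.node 4 (.node 2 (.node 1 (.one ⟨17092, 4, 6⟩) (.one ⟨1336, 5, 4⟩)) (.node 1 (.one ⟨2908, 3, 5⟩) (.one ⟨213, 5, 6⟩))) (.node 2 (.node 1 (.one ⟨13910, 3, 6⟩) (.one ⟨9548, 0, 5⟩)) (.node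 1 (.one ⟨2903, 3, 4⟩) (.one ⟨10508, 1, 5⟩)))) (.node 4 (.node 2 (.node 1 (.one ⟨14455, 5, 5⟩) (.one ⟨6403, 0, 5⟩)) (.node 1 (.one ⟨14920, 4, 5⟩) (.one ⟨14625, 4, 5⟩))) (.node 2 (.node 1 (.one ⟨6262, 2, 5⟩) (.one ⟨12607, 3, 5⟩)) (.node 1 (.one ⟨8573, 1, 6⟩) (.one ⟨14382, 2, 4⟩)))))) (.node 16 (.node 8 (.node 4 (.node 2 (.node 1 (.one ⟨2110, 2, 6⟩) (.one ⟨9943, 0, 6⟩)) (.node 1 (.one ⟨8997, 4, 3⟩) (.one ⟨13881, 4, 5⟩))) (.node 2 (.node 1 (.one ⟨3383, 1, 5⟩) (.one ⟨8739, 0, 6⟩)) (.node 1 (.one ⟨14992, 2, 6⟩) (.one ⟨1461, 2, 4⟩)))) (.node 4 (.node 2 (.node 1 (.one ⟨14576, 0, 6⟩) (.one ⟨16584, 2, 6⟩)) (.node 1 (.one ⟨10227, 4, 6⟩) (.one ⟨3843, 2, 4⟩))) (.node 2 (.node 1 (.one ⟨13978, 5, 4⟩) (.one ⟨5606, 5, 5⟩)) (.node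 1 (.one ⟨75, 5, 6⟩) (.one ⟨3487, 4, 4⟩))))) (.node 8 (.node 4 (.node 2 (.node 1 (.one ⟨16094, 2, 5⟩) (.one ⟨11584, 0, 5⟩)) (.node 1 (.one ⟨2327, 4, 5⟩) (.one ⟨10443, 2, 5⟩))) (.node 2 (.node 1 (.one ⟨16949, 0, 5⟩) (.one ⟨8475, 0, 3⟩)) (.node 1 (.one ⟨14113, 3, 6⟩) (.one ⟨1329, 4, 5⟩)))) (.node 4 (.node 2 (.node 1 (.one ⟨14251, 1, 5⟩) (.one ⟨2003, 3, 6⟩)) (.node 1 (.one ⟨507, 5, 6⟩) (.one ⟨16551, 2, 6⟩))) (.node 2 (.node 1 (.one ⟨15328, 5, 6⟩) (.one ⟨13903, 1, 6⟩)) (.node 1 (.one ⟨6579, 0, 5⟩) (.one ⟨13909, 1, 6⟩)))))))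
def par2_0 : Arr Par :=
  (.node 512 (.node 256 (.node 128 (.node 64 par2_0_0 par2_0_1) (.node 64 par2_0_2 par2_0_3)) (.node 128 (.node 64 par2_0_4 par2_0_5) (.node 64 par2_0_6 par2_0_7))) (.node 256 (.node 128 (.node 64 par2_0_8 par2_0_9) (.node 64 par2_0_10 par2_0_11)) (.node 128 (.node 64 par2_0_12 par2_0_13) (.node 64 par2_0_14 par2_0_15))))
def par2_1_0 : Arr Par :=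
  (.node 32 (.node 16 (.node 8 (.node 4 (.node 2 (.node 1 (.one ⟨8136, 4, 5⟩) (.one ⟨11725, 4, 5⟩)) (.node 1 (.one ⟨13116, 5, 6⟩) (.one ⟨13035, 4, 5⟩))) (.node 2 (.node 1 (.one ⟨9745, 4, 5⟩) (.one ⟨3726, 4, 4⟩)) (.node 1 (.one ⟨14330, 5, 5⟩) (.one ⟨9966, 2, 5⟩)))) (.node 4 (.node 2 (.node 1 (.one ⟨16085, 2, 5⟩) (.one ⟨8668, 4, 3⟩)) (.node 1 (.one ⟨12418, 3, 5⟩) (.one ⟨708, 2, 4⟩))) (.node 2 (.node 1 (.one ⟨13213, 5, 5⟩) (.one ⟨1469, 5, 6⟩)) (.node 1 (.one ⟨14117, 5, 5⟩) (.one ⟨5529, 4, 5⟩))))) (.node 8 (.node 4 (.node 2 (.node 1 (.one ⟨1673, 3, 5⟩) (.one ⟨15331, 1, 5⟩)) (.node 1 (.one ⟨5568, 1, 5⟩) (.one ⟨9774, 2, 5⟩))) (.node 2 (.node 1 (.one ⟨12849, 5, 5⟩) (.one ⟨12550, 3, 5⟩)) (.node 1 (.one ⟨5568, 2, 5⟩)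 (.one ⟨2999, 2, 5⟩)))) (.node 4 (.node 2 (.node 1 (.one ⟨13330, 2, 5⟩) (.one ⟨4693, 4, 6⟩)) (.node 1 (.one ⟨4151, 1, 5⟩) (.one ⟨14040, 4, 2⟩))) (.node 2 (.node 1 (.one ⟨2601, 2, 5⟩) (.one ⟨14261, 4, 5⟩)) (.node 1 (.one ⟨17118, 1, 4⟩) (.one ⟨3835, 5, 5⟩)))))) (.node 16 (.node 8 (.node 4 (.node 2 (.node 1 (.one ⟨5691, 1, 5⟩) (.one ⟨4071, 5, 5⟩)) (.node 1 (.one ⟨3012, 5, 6⟩) (.one ⟨492, 0, 5⟩))) (.node 2 (.node 1 (.one ⟨12615, 4, 6⟩) (.one ⟨2571, 5, 3⟩)) (.node 1 (.one ⟨2615, 2, 5⟩) (.one ⟨13018, 3, 3⟩)))) (.node 4 (.node 2 (.node 1 (.one ⟨4674, 4, 5⟩) (.one ⟨10454, 1, 5⟩)) (.node 1 (.one ⟨13380, 3, 6⟩) (.one ⟨12219, 0, 6⟩))) (.node 2 (.node 1 (.one ⟨9997, 5, 6⟩) (.one ⟨7127, 2, 6⟩)) (.node 1 (.one ⟨3594, 4, 5⟩)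 (.one ⟨2450, 5, 6⟩))))) (.node 8 (.node 4 (.node 2 (.node 1 (.one ⟨3623, 2, 5⟩) (.one ⟨12015, 4, 6⟩)) (.node 1 (.one ⟨9111, 4, 3⟩) (.one ⟨11659, 2, 5⟩))) (.node 2 (.node 1 (.one ⟨17092, 5, 6⟩) (.one ⟨9524, 0, 5⟩)) (.node 1 (.one ⟨14485, 5, 3⟩) (.one ⟨16723, 5, 6⟩)))) (.node 4 (.node 2 (.node 1 (.one ⟨4301, 3, 5⟩) (.one ⟨15033, 3, 6⟩)) (.node 1 (.one ⟨5292, 1, 5⟩) (.one ⟨12701, 0, 4⟩))) (.node 2 (.node 1 (.one ⟨5185, 3, 5⟩) (.one ⟨3316, 5, 6⟩)) (.node 1 (.one ⟨5737, 5, 3⟩) (.one ⟨5801, 1, 3⟩)))))))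
def par2_1_1 : Arr Par :=
  (.node 32 (.node 16 (.node 8 (.node 4 (.node 2 (.node 1 (.one ⟨15934, 3, 4⟩) (.one ⟨5922, 5, 4⟩)) (.node 1 (.one ⟨7520, 1, 6⟩) (.one ⟨3747, 4, 6⟩))) (.node 2 (.node 1 (.one ⟨8004, 4, 5⟩) (.one ⟨4467, 1, 5⟩)) (.node 1 (.one ⟨15697, 5, 3⟩) (.one ⟨9820, 0, 2⟩)))) (.node 4 (.node 2 (.node 1 (.one ⟨15288, 1, 6⟩) (.one ⟨9363, 0, 5⟩)) (.node 1 (.one ⟨7662, 0, 5⟩) (.one ⟨9920, 1, 6⟩))) (.node 2 (.node 1 (.one ⟨13333, 4, 5⟩) (.one ⟨3081, 1, 2⟩)) (.node 1 (.one ⟨9538, 4, 3⟩) (.one ⟨8408, 5, 3⟩))))) (.node 8 (.node 4 (.node 2 (.node 1 (.one ⟨1972, 2, 6⟩) (.one ⟨4692, 0, 5⟩)) (.node 1 (.one ⟨12419, 5, 6⟩) (.one ⟨9392, 3, 5⟩))) (.node 2 (.node 1 (.one ⟨9352, 4, 5⟩) (.one ⟨16329, 4, 6⟩)) (.node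 1 (.one ⟨1973, 3, 5⟩) (.one ⟨17036, 2, 6⟩)))) (.node 4 (.node 2 (.node 1 (.one ⟨12120, 0, 5⟩) (.one ⟨5273, 5, 7⟩)) (.node 1 (.one ⟨5256, 4, 3⟩) (.one ⟨8117, 3, 5⟩))) (.node 2 (.node 1 (.one ⟨7365, 0, 4⟩) (.one ⟨15145, 4, 6⟩)) (.node 1 (.one ⟨11132, 4, 4⟩) (.one ⟨9514, 5, 5⟩)))))) (.node 16 (.node 8 (.node 4 (.node 2 (.node 1 (.one ⟨1248, 5, 6⟩) (.one ⟨8639, 0, 4⟩)) (.node 1 (.one ⟨2731, 4, 4⟩) (.one ⟨14398, 4, 5⟩))) (.node 2 (.node 1 (.one ⟨3229, 3, 5⟩) (.one ⟨8642, 0, 6⟩)) (.node 1 (.one ⟨7627, 3, 6⟩) (.one ⟨11074, 3, 4⟩)))) (.node 4 (.node 2 (.node 1 (.one ⟨11414, 2, 6⟩) (.one ⟨5561, 3, 5⟩)) (.node 1 (.one ⟨15546, 0, 4⟩) (.one ⟨874, 0, 6⟩))) (.node 2 (.node 1 (.one ⟨9392, 5, 5⟩) (.one ⟨5789, 4, 4⟩)) (.node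 1 (.one ⟨6524, 4, 5⟩) (.one ⟨5339, 3, 4⟩))))) (.node 8 (.node 4 (.node 2 (.node 1 (.one ⟨6267, 5, 5⟩) (.one ⟨7998, 5, 5⟩)) (.node 1 (.one ⟨4876, 4, 6⟩) (.one ⟨8837, 1, 4⟩))) (.node 2 (.node 1 (.one ⟨13558, 1, 5⟩) (.one ⟨15445, 3, 5⟩)) (.node 1 (.one ⟨10791, 1, 4⟩) (.one ⟨3093, 5, 6⟩)))) (.node 4 (.node 2 (.node 1 (.one ⟨1787, 4, 5⟩) (.one ⟨1657, 0, 5⟩)) (.node 1 (.one ⟨14403, 1, 5⟩) (.one ⟨10480, 4, 4⟩))) (.node 2 (.node 1 (.one ⟨8196, 4, 3⟩) (.one ⟨12448, 5, 5⟩)) (.node 1 (.one ⟨8591, 2, 5⟩) (.one ⟨1092, 1, 6⟩)))))))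
def par2_1_2 : Arr Par :=
  (.node 32 (.node 16 (.node 8 (.node 4 (.node 2 (.node 1 (.one ⟨9559, 5, 4⟩) (.one ⟨15868, 1, 5⟩)) (.node 1 (.one ⟨294, 3, 5⟩) (.one ⟨10236, 2, 5⟩))) (.node 2 (.node 1 (.one ⟨4097, 5, 5⟩) (.one ⟨7126, 4, 6⟩)) (.node 1 (.one ⟨9475, 2, 3⟩) (.one ⟨2711, 1, 5⟩)))) (.node 4 (.node 2 (.node 1 (.one ⟨7093, 3, 5⟩) (.one ⟨14204, 5, 5⟩)) (.node 1 (.one ⟨14867, 3, 5⟩) (.one ⟨9615, 1, 5⟩))) (.node 2 (.node 1 (.one ⟨12642, 1, 4⟩) (.one ⟨12989, 2, 5⟩)) (.node 1 (.one ⟨5746, 0, 4⟩) (.one ⟨5658, 3, 5⟩))))) (.node 8 (.node 4 (.node 2 (.node 1 (.one ⟨3401, 0, 6⟩) (.one ⟨14491, 4, 5⟩)) (.node 1 (.one ⟨16866, 3, 6⟩) (.one ⟨9959, 5, 5⟩))) (.node 2 (.node 1 (.one ⟨6264, 1, 3⟩) (.one ⟨13179, 4, 5⟩)) (.node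 1 (.one ⟨11644, 4, 5⟩) (.one ⟨15378, 2, 6⟩)))) (.node 4 (.node 2 (.node 1 (.one ⟨7457, 0, 6⟩) (.one ⟨96, 2, 6⟩)) (.node 1 (.one ⟨14345, 4, 6⟩) (.one ⟨12817, 1, 5⟩))) (.node 2 (.node 1 (.one ⟨6705, 4, 6⟩) (.one ⟨9697, 1, 5⟩)) (.node 1 (.one ⟨4203, 5, 5⟩) (.one ⟨10256, 1, 5⟩)))))) (.node 16 (.node 8 (.node 4 (.node 2 (.node 1 (.one ⟨4568, 4, 6⟩) (.one ⟨7158, 5, 5⟩)) (.node 1 (.one ⟨7303, 5, 6⟩) (.one ⟨1887, 3, 5⟩))) (.node 2 (.node 1 (.one ⟨770, 2, 4⟩) (.one ⟨896, 3, 5⟩)) (.node 1 (.one ⟨9750, 5, 6⟩) (.one ⟨6447, 2, 5⟩)))) (.node 4 (.node 2 (.node 1 (.one ⟨13846, 2, 6⟩) (.one ⟨13160, 4, 5⟩)) (.node 1 (.one ⟨4858, 1, 5⟩) (.one ⟨9188, 4, 4⟩))) (.node 2 (.node 1 (.one ⟨3475, 3, 5⟩) (.one ⟨3134, 5, 5⟩)) (.node 1 (.one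 ⟨8747, 0, 5⟩) (.one ⟨2639, 3, 2⟩))))) (.node 8 (.node 4 (.node 2 (.node 1 (.one ⟨12905, 2, 6⟩) (.one ⟨3858, 5, 5⟩)) (.node 1 (.one ⟨16964, 2, 5⟩) (.one ⟨8329, 1, 3⟩))) (.node 2 (.node 1 (.one ⟨14857, 0, 6⟩) (.one ⟨2305, 5, 5⟩)) (.node 1 (.one ⟨2477, 5, 6⟩) (.one ⟨287, 5, 6⟩)))) (.node 4 (.node 2 (.node 1 (.one ⟨12145, 3, 5⟩) (.one ⟨11886, 3, 5⟩)) (.node 1 (.one ⟨10222, 5, 6⟩) (.one ⟨4497, 5, 6⟩))) (.node 2 (.node 1 (.one ⟨4170, 5, 4⟩) (.one ⟨420, 4, 5⟩)) (.node 1 (.one ⟨1158, 3, 4⟩) (.one ⟨4062, 0, 5⟩)))))))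
def par2_1_3 : Arr Par :=
  (.node 32 (.node 16 (.node 8 (.node 4 (.node 2 (.node 1 (.one ⟨5481, 5, 6⟩) (.one ⟨8639, 5, 4⟩)) (.node 1 (.one ⟨12980, 4, 6⟩) (.one ⟨6286, 5, 6⟩))) (.node 2 (.node 1 (.one ⟨4079, 2, 4⟩) (.one ⟨16244, 3, 5⟩)) (.node 1 (.one ⟨1351, 1, 4⟩) (.one ⟨5121, 3, 5⟩)))) (.node 4 (.node 2 (.node 1 (.one ⟨14148, 2, 4⟩) (.one ⟨13724, 3, 5⟩)) (.node 1 (.one ⟨15102, 0, 6⟩) (.one ⟨7890, 2, 6⟩))) (.node 2 (.node 1 (.one ⟨16295, 2, 5⟩) (.one ⟨1811, 1, 5⟩)) (.node 1 (.one ⟨1777, 1, 4⟩) (.one ⟨11325, 1, 6⟩))))) (.node 8 (.node 4 (.node 2 (.node 1 (.one ⟨6926, 4, 6⟩) (.one ⟨1262, 2, 6⟩)) (.node 1 (.one ⟨36, 2, 5⟩) (.one ⟨11583, 2, 5⟩))) (.node 2 (.node 1 (.one ⟨7925, 4, 4⟩) (.one ⟨2183, 5, 4⟩)) (.node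 1 (.one ⟨15368, 1, 6⟩) (.one ⟨9629, 2, 5⟩)))) (.node 4 (.node 2 (.node 1 (.one ⟨1958, 0, 5⟩) (.one ⟨12732, 4, 5⟩)) (.node 1 (.one ⟨4716, 4, 5⟩) (.one ⟨8377, 3, 6⟩))) (.node 2 (.node 1 (.one ⟨1142, 2, 5⟩) (.one ⟨9221, 4, 4⟩)) (.node 1 (.one ⟨15144, 2, 6⟩) (.one ⟨7417, 0, 5⟩)))))) (.node 16 (.node 8 (.node 4 (.node 2 (.node 1 (.one ⟨15894, 4, 5⟩) (.one ⟨3061, 1, 6⟩)) (.node 1 (.one ⟨5652, 5, 5⟩) (.one ⟨3835, 1, 5⟩))) (.node 2 (.node 1 (.one ⟨4558, 1, 4⟩) (.one ⟨3053, 1, 4⟩)) (.node 1 (.one ⟨6681, 0, 5⟩) (.one ⟨4928, 3, 7⟩)))) (.node 4 (.node 2 (.node 1 (.one ⟨15592, 1, 6⟩) (.one ⟨14862, 4, 4⟩)) (.node 1 (.one ⟨16305, 1, 5⟩) (.one ⟨2645, 1, 6⟩))) (.node 2 (.node 1 (.one ⟨1428, 4, 5⟩) (.one ⟨13956, 2, 4⟩)) (.node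 1 (.one ⟨9966, 5, 5⟩) (.one ⟨9233, 0, 5⟩))))) (.node 8 (.node 4 (.node 2 (.node 1 (.one ⟨5079, 4, 5⟩) (.one ⟨6919, 4, 3⟩)) (.node 1 (.one ⟨1163, 4, 6⟩) (.one ⟨12217, 0, 5⟩))) (.node 2 (.node 1 (.one ⟨7535, 4, 6⟩) (.one ⟨4389, 3, 5⟩)) (.node 1 (.one ⟨7923, 4, 6⟩) (.one ⟨7095, 1, 5⟩)))) (.node 4 (.node 2 (.node 1 (.one ⟨970, 5, 7⟩) (.one ⟨9621, 2, 5⟩)) (.node 1 (.one ⟨12031, 0, 6⟩) (.one ⟨12286, 1, 5⟩))) (.node 2 (.node 1 (.one ⟨15445, 5, 5⟩) (.one ⟨11966, 0, 6⟩)) (.node 1 (.one ⟨1711, 4, 5⟩) (.one ⟨14050, 5, 4⟩)))))))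
def par2_1_4 : Arr Par :=
  (.node 32 (.node 16 (.node 8 (.node 4 (.node 2 (.node 1 (.one ⟨7869, 2, 4⟩) (.one ⟨3011, 4, 5⟩)) (.node 1 (.one ⟨3822, 3, 6⟩) (.one ⟨3873, 1, 6⟩))) (.node 2 (.node 1 (.one ⟨11441, 2, 5⟩) (.one ⟨16362, 1, 5⟩)) (.node 1 (.one ⟨5043, 5, 5⟩) (.one ⟨16527, 2, 6⟩)))) (.node 4 (.node 2 (.node 1 (.one ⟨11882, 5, 5⟩) (.one ⟨4858, 3, 5⟩)) (.node 1 (.one ⟨11014, 3, 6⟩) (.one ⟨3858, 3, 5⟩))) (.node 2 (.node 1 (.one ⟨5481, 1, 6⟩) (.one ⟨5453, 3, 5⟩)) (.node 1 (.one ⟨4444, 5, 5⟩) (.one ⟨2191, 0, 5⟩))))) (.node 8 (.node 4 (.node 2 (.node 1 (.one ⟨16277, 5, 6⟩) (.one ⟨15616, 5, 4⟩)) (.node 1 (.one ⟨5147, 4, 5⟩) (.one ⟨12262, 3, 5⟩))) (.node 2 (.node 1 (.one ⟨3760, 1, 4⟩) (.one ⟨1458, 1, 4⟩)) (.node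 1 (.one ⟨14772, 3, 5⟩) (.one ⟨1212, 3, 5⟩)))) (.node 4 (.node 2 (.node 1 (.one ⟨16228, 2, 3⟩) (.one ⟨9249, 4, 5⟩)) (.node 1 (.one ⟨2694, 2, 4⟩) (.one ⟨12081, 0, 5⟩))) (.node 2 (.node 1 (.one ⟨1474, 1, 4⟩) (.one ⟨15575, 3, 6⟩)) (.node 1 (.one ⟨15846, 1, 6⟩) (.one ⟨6582, 2, 6⟩)))))) (.node 16 (.node 8 (.node 4 (.node 2 (.node 1 (.one ⟨8929, 4, 5⟩) (.one ⟨4445, 1, 6⟩)) (.node 1 (.one ⟨2101, 2, 4⟩) (.one ⟨8443, 0, 5⟩))) (.node 2 (.node 1 (.one ⟨15150, 4, 5⟩) (.one ⟨9798, 5, 5⟩)) (.node 1 (.one ⟨17095, 2, 6⟩) (.one ⟨16584, 4, 6⟩)))) (.node 4 (.node 2 (.node 1 (.one ⟨12941, 5, 6⟩) (.one ⟨4313, 4, 5⟩)) (.node 1 (.one ⟨7641, 5, 5⟩) (.one ⟨2872, 5, 4⟩))) (.node 2 (.node 1 (.one ⟨6010, 5, 6⟩) (.one ⟨2483, 3, 4⟩)) (.node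 1 (.one ⟨12343, 4, 3⟩) (.one ⟨12696, 4, 5⟩))))) (.node 8 (.node 4 (.node 2 (.node 1 (.one ⟨6325, 0, 6⟩) (.one ⟨15751, 2, 4⟩)) (.node 1 (.one ⟨13291, 5, 6⟩) (.one ⟨8628, 5, 5⟩))) (.node 2 (.node 1 (.one ⟨7114, 1, 5⟩) (.one ⟨1035, 3, 5⟩)) (.node 1 (.one ⟨7636, 4, 5⟩) (.one ⟨13123, 4, 4⟩)))) (.node 4 (.node 2 (.node 1 (.one ⟨16228, 4, 3⟩) (.one ⟨14041, 0, 6⟩)) (.node 1 (.one ⟨9632, 2, 5⟩) (.one ⟨15268, 2, 5⟩))) (.node 2 (.node 1 (.one ⟨1620, 2, 6⟩) (.one ⟨123, 3, 4⟩)) (.node 1 (.one ⟨6768, 4, 6⟩) (.one ⟨2063, 4, 5⟩)))))))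
def par2_1_5 : Arr Par :=
  (.node 32 (.node 16 (.node 8 (.node 4 (.node 2 (.node 1 (.one ⟨10411, 5, 4⟩) (.one ⟨10151, 4, 5⟩)) (.node 1 (.one ⟨1147, 2, 5⟩) (.one ⟨16002, 4, 6⟩))) (.node 2 (.node 1 (.one ⟨12770, 4, 4⟩) (.one ⟨8042, 0, 4⟩)) (.node 1 (.one ⟨11731, 5, 6⟩) (.one ⟨1095, 5, 3⟩)))) (.node 4 (.node 2 (.node 1 (.one ⟨9510, 2, 5⟩) (.one ⟨4300, 1, 4⟩)) (.node 1 (.one ⟨7205, 5, 6⟩) (.one ⟨7254, 2, 5⟩))) (.node 2 (.node 1 (.one ⟨10925, 3, 5⟩) (.one ⟨209, 4, 5⟩)) (.node 1 (.one ⟨3601, 3, 5⟩) (.one ⟨1094, 5, 4⟩))))) (.node 8 (.node 4 (.node 2 (.node 1 (.one ⟨14948, 1, 7⟩) (.one ⟨2306, 5, 6⟩)) (.node 1 (.one ⟨1837, 1, 5⟩) (.one ⟨16598, 3, 4⟩))) (.node 2 (.node 1 (.one ⟨8234, 4, 5⟩) (.one ⟨17151, 5, 4⟩)) (.node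 1 (.one ⟨3726, 5, 4⟩) (.one ⟨7013, 4, 5⟩)))) (.node 4 (.node 2 (.node 1 (.one ⟨14003, 4, 6⟩) (.one ⟨1280, 0, 5⟩)) (.node 1 (.one ⟨4169, 5, 4⟩) (.one ⟨10842, 2, 5⟩))) (.node 2 (.node 1 (.one ⟨10925, 4, 5⟩) (.one ⟨6985, 4, 6⟩)) (.node 1 (.one ⟨16574, 2, 5⟩) (.one ⟨2765, 2, 7⟩)))))) (.node 16 (.node 8 (.node 4 (.node 2 (.node 1 (.one ⟨4185, 4, 4⟩) (.one ⟨4313, 1, 5⟩)) (.node 1 (.one ⟨15694, 4, 4⟩) (.one ⟨3212, 0, 5⟩))) (.node 2 (.node 1 (.one ⟨4870, 1, 6⟩) (.one ⟨12436, 3, 4⟩)) (.node 1 (.one ⟨152, 5, 5⟩) (.one ⟨16517, 1, 3⟩)))) (.node 4 (.node 2 (.node 1 (.one ⟨13094, 3, 6⟩) (.one ⟨12714, 0, 5⟩)) (.node 1 (.one ⟨12090, 4, 6⟩) (.one ⟨2955, 5, 6⟩))) (.node 2 (.node 1 (.one ⟨3063, 5, 6⟩) (.one ⟨4050, 1, 5⟩)) (.node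 1 (.one ⟨11717, 2, 5⟩) (.one ⟨12954, 2, 5⟩))))) (.node 8 (.node 4 (.node 2 (.node 1 (.one ⟨3430, 2, 5⟩) (.one ⟨12998, 4, 5⟩)) (.node 1 (.one ⟨11586, 5, 3⟩) (.one ⟨16968, 3, 5⟩))) (.node 2 (.node 1 (.one ⟨15297, 1, 5⟩) (.one ⟨10626, 5, 6⟩)) (.node 1 (.one ⟨14385, 0, 5⟩) (.one ⟨15903, 1, 6⟩)))) (.node 4 (.node 2 (.node 1 (.one ⟨14590, 5, 6⟩) (.one ⟨13066, 4, 6⟩)) (.node 1 (.one ⟨3531, 3, 4⟩) (.one ⟨5604, 2, 5⟩))) (.node 2 (.node 1 (.one ⟨16408, 2, 5⟩) (.one ⟨9512, 3, 6⟩)) (.node 1 (.one ⟨2009, 0, 5⟩) (.one ⟨1253, 2, 5⟩)))))))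
def par2_1_6 : Arr Par :=
  (.node 32 (.node 16 (.node 8 (.node 4 (.node 2 (.node 1 (.one ⟨1867, 3, 5⟩) (.one ⟨7210, 5, 6⟩)) (.node 1 (.one ⟨14968, 4, 4⟩) (.one ⟨11572, 3, 5⟩))) (.node 2 (.node 1 (.one ⟨5726, 5, 3⟩) (.one ⟨2647, 3, 5⟩)) (.node 1 (.one ⟨2674, 2, 5⟩) (.one ⟨14661, 5, 3⟩)))) (.node 4 (.node 2 (.node 1 (.one ⟨13979, 3, 5⟩) (.one ⟨3419, 1, 5⟩)) (.node 1 (.one ⟨9518, 2, 5⟩) (.one ⟨2452, 5, 6⟩))) (.node 2 (.node 1 (.one ⟨14195, 3, 5⟩) (.one ⟨16185, 1, 6⟩)) (.node 1 (.one ⟨8415, 3, 6⟩) (.one ⟨5825, 5, 6⟩))))) (.node 8 (.node 4 (.node 2 (.node 1 (.one ⟨5404, 1, 5⟩) (.one ⟨11263, 1, 6⟩)) (.node 1 (.one ⟨14744, 2, 4⟩) (.one ⟨4917, 5, 5⟩))) (.node 2 (.node 1 (.one ⟨10984, 2, 4⟩) (.one ⟨8759, 1, 6⟩)) (.node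 1 (.one ⟨5236, 5, 5⟩) (.one ⟨2513, 3, 6⟩)))) (.node 4 (.node 2 (.node 1 (.one ⟨6968, 2, 5⟩) (.one ⟨15750, 1, 5⟩)) (.node 1 (.one ⟨14709, 1, 5⟩) (.one ⟨8692, 5, 5⟩))) (.node 2 (.node 1 (.one ⟨3028, 4, 6⟩) (.one ⟨1357, 0, 6⟩)) (.node 1 (.one ⟨12801, 2, 6⟩) (.one ⟨8639, 4, 4⟩)))))) (.node 16 (.node 8 (.node 4 (.node 2 (.node 1 (.one ⟨8713, 2, 6⟩) (.one ⟨12494, 0, 5⟩)) (.node 1 (.one ⟨15178, 0, 5⟩) (.one ⟨3618, 5, 5⟩))) (.node 2 (.node 1 (.one ⟨10048, 4, 4⟩) (.one ⟨2953, 5, 5⟩)) (.node 1 (.one ⟨15907, 5, 5⟩) (.one ⟨13339, 2, 6⟩)))) (.node 4 (.node 2 (.node 1 (.one ⟨7768, 2, 5⟩) (.one ⟨6416, 4, 4⟩)) (.node 1 (.one ⟨14617, 4, 4⟩) (.one ⟨4047, 1, 5⟩))) (.node 2 (.node 1 (.one ⟨13698, 2, 5⟩) (.one ⟨16736, 0, 6⟩)) (.node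 1 (.one ⟨5048, 1, 6⟩) (.one ⟨14655, 5, 4⟩))))) (.node 8 (.node 4 (.node 2 (.node 1 (.one ⟨8821, 0, 5⟩) (.one ⟨1260, 2, 6⟩)) (.node 1 (.one ⟨3421, 1, 3⟩) (.one ⟨2449, 5, 6⟩))) (.node 2 (.node 1 (.one ⟨7090, 1, 4⟩) (.one ⟨10692, 5, 3⟩)) (.node 1 (.one ⟨16184, 1, 5⟩) (.one ⟨15609, 5, 5⟩)))) (.node 4 (.node 2 (.node 1 (.one ⟨4155, 5, 6⟩) (.one ⟨16509, 5, 3⟩)) (.node 1 (.one ⟨12773, 4, 5⟩) (.one ⟨9586, 0, 5⟩))) (.node 2 (.node 1 (.one ⟨6489, 3, 5⟩) (.one ⟨7581, 0, 5⟩)) (.node 1 (.one ⟨14972, 4, 4⟩) (.one ⟨16726, 5, 5⟩)))))))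
def par2_1_7 : Arr Par :=
  (.node 32 (.node 16 (.node 8 (.node 4 (.node 2 (.node 1 (.one ⟨9806, 5, 5⟩) (.one ⟨8167, 4, 5⟩)) (.node 1 (.one ⟨4704, 5, 3⟩) (.one ⟨5593, 1, 5⟩))) (.node 2 (.node 1 (.one ⟨14751, 3, 5⟩) (.one ⟨12934, 5, 6⟩)) (.node 1 (.one ⟨17134, 1, 5⟩) (.one ⟨15254, 2, 6⟩)))) (.node 4 (.node 2 (.node 1 (.one ⟨2889, 0, 5⟩) (.one ⟨9405, 2, 6⟩)) (.node 1 (.one ⟨15743, 4, 5⟩) (.one ⟨3147, 3, 4⟩))) (.node 2 (.node 1 (.one ⟨1164, 4, 5⟩) (.one ⟨37, 2, 5⟩)) (.node 1 (.one ⟨15540, 0, 5⟩) (.one ⟨7349, 0, 4⟩))))) (.node 8 (.node 4 (.node 2 (.node 1 (.one ⟨4346, 1, 4⟩) (.one ⟨6142, 4, 5⟩)) (.node 1 (.one ⟨9391, 5, 5⟩) (.one ⟨2574, 4, 6⟩))) (.node 2 (.node 1 (.one ⟨6370, 4, 4⟩) (.one ⟨9503, 5, 6⟩)) (.node 1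 (.one ⟨37, 5, 5⟩) (.one ⟨2222, 4, 6⟩)))) (.node 4 (.node 2 (.node 1 (.one ⟨16448, 0, 4⟩) (.one ⟨1135, 5, 5⟩)) (.node 1 (.one ⟨9617, 5, 5⟩) (.one ⟨6523, 4, 5⟩))) (.node 2 (.node 1 (.one ⟨2390, 4, 4⟩) (.one ⟨1038, 0, 6⟩)) (.node 1 (.one ⟨8739, 4, 6⟩) (.one ⟨4615, 4, 6⟩)))))) (.node 16 (.node 8 (.node 4 (.node 2 (.node 1 (.one ⟨2271, 1, 5⟩) (.one ⟨4389, 5, 5⟩)) (.node 1 (.one ⟨1366, 0, 5⟩) (.one ⟨2725, 0, 6⟩))) (.node 2 (.node 1 (.one ⟨14276, 4, 2⟩) (.one ⟨9675, 5, 4⟩)) (.node 1 (.one ⟨12430, 3, 4⟩) (.one ⟨13815, 4, 5⟩)))) (.node 4 (.node 2 (.node 1 (.one ⟨6166, 2, 4⟩) (.one ⟨16048, 1, 6⟩)) (.node 1 (.one ⟨9845, 5, 6⟩) (.one ⟨13440, 0, 6⟩))) (.node 2 (.node 1 (.one ⟨10673, 4, 5⟩) (.one ⟨13586, 3, 5⟩)) (.node 1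 (.one ⟨7139, 4, 5⟩) (.one ⟨9395, 4, 6⟩))))) (.node 8 (.node 4 (.node 2 (.node 1 (.one ⟨14258, 4, 6⟩) (.one ⟨4503, 5, 5⟩)) (.node 1 (.one ⟨4185, 0, 4⟩) (.one ⟨9407, 5, 6⟩))) (.node 2 (.node 1 (.one ⟨14406, 4, 7⟩) (.one ⟨10723, 3, 6⟩)) (.node 1 (.one ⟨1734, 4, 6⟩) (.one ⟨14440, 2, 6⟩)))) (.node 4 (.node 2 (.node 1 (.one ⟨16673, 1, 5⟩) (.one ⟨850, 2, 5⟩)) (.node 1 (.one ⟨10048, 0, 4⟩) (.one ⟨14, 0, 6⟩))) (.node 2 (.node 1 (.one ⟨12625, 4, 6⟩) (.one ⟨2388, 4, 6⟩)) (.node 1 (.one ⟨10782, 2, 5⟩) (.one ⟨15781, 1, 4⟩)))))))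
def par2_1_8 : Arr Par :=
  (.node 32 (.node 16 (.node 8 (.node 4 (.node 2 (.node 1 (.one ⟨15732, 1, 6⟩) (.one ⟨4210, 2, 6⟩)) (.node 1 (.one ⟨7623, 0, 4⟩) (.one ⟨13272, 3, 6⟩))) (.node 2 (.node 1 (.one ⟨15770, 1, 7⟩) (.one ⟨11175, 3, 5⟩)) (.node 1 (.one ⟨1077, 1, 6⟩) (.one ⟨8268, 0, 5⟩)))) (.node 4 (.node 2 (.node 1 (.one ⟨6660, 2, 3⟩) (.one ⟨6695, 5, 6⟩)) (.node 1 (.one ⟨1833, 4, 5⟩) (.one ⟨7437, 5, 5⟩))) (.node 2 (.node 1 (.one ⟨12778, 0, 3⟩) (.one ⟨10688, 4, 6⟩)) (.node 1 (.one ⟨9108, 5, 6⟩) (.one ⟨6519, 1, 3⟩))))) (.node 8 (.node 4 (.node 2 (.node 1 (.one ⟨6693, 3, 5⟩) (.one ⟨4172, 5, 5⟩)) (.node 1 (.one ⟨5433, 3, 4⟩) (.one ⟨16790, 3, 6⟩))) (.node 2 (.node 1 (.one ⟨15953, 3, 4⟩) (.one ⟨14054, 4, 6⟩)) (.node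 1 (.one ⟨16734, 0, 5⟩) (.one ⟨14731, 5, 4⟩)))) (.node 4 (.node 2 (.node 1 (.one ⟨2478, 5, 4⟩) (.one ⟨1154, 1, 6⟩)) (.node 1 (.one ⟨8237, 4, 6⟩) (.one ⟨10928, 4, 5⟩))) (.node 2 (.node 1 (.one ⟨5299, 0, 5⟩) (.one ⟨6626, 0, 5⟩)) (.node 1 (.one ⟨17057, 0, 6⟩) (.one ⟨9013, 3, 4⟩)))))) (.node 16 (.node 8 (.node 4 (.node 2 (.node 1 (.one ⟨2271, 3, 5⟩) (.one ⟨9045, 3, 4⟩)) (.node 1 (.one ⟨2390, 1, 4⟩) (.one ⟨1326, 3, 4⟩))) (.node 2 (.node 1 (.one ⟨9697, 0, 5⟩) (.one ⟨12591, 4, 4⟩)) (.node 1 (.one ⟨10451, 0, 5⟩) (.one ⟨6529, 0, 5⟩)))) (.node 4 (.node 2 (.node 1 (.one ⟨13211, 0, 6⟩) (.one ⟨1325, 0, 5⟩)) (.node 1 (.one ⟨92, 1, 5⟩) (.one ⟨16651, 5, 7⟩))) (.node 2 (.node 1 (.one ⟨6307, 1, 5⟩) (.one ⟨1301, 2, 5⟩)) (.node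 1 (.one ⟨15477, 3, 5⟩) (.one ⟨13404, 3, 4⟩))))) (.node 8 (.node 4 (.node 2 (.node 1 (.one ⟨6069, 5, 4⟩) (.one ⟨16476, 1, 6⟩)) (.node 1 (.one ⟨13730, 3, 6⟩) (.one ⟨4144, 2, 5⟩))) (.node 2 (.node 1 (.one ⟨7113, 3, 6⟩) (.one ⟨10158, 4, 6⟩)) (.node 1 (.one ⟨17129, 3, 5⟩) (.one ⟨5390, 5, 6⟩)))) (.node 4 (.node 2 (.node 1 (.one ⟨3541, 5, 5⟩) (.one ⟨15934, 4, 4⟩)) (.node 1 (.one ⟨12738, 4, 5⟩) (.one ⟨16992, 5, 5⟩))) (.node 2 (.node 1 (.one ⟨17122, 4, 6⟩) (.one ⟨6856, 4, 4⟩)) (.node 1 (.one ⟨15390, 5, 4⟩) (.one ⟨8809, 2, 4⟩)))))))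
def par2_1_9 : Arr Par :=
  (.node 32 (.node 16 (.node 8 (.node 4 (.node 2 (.node 1 (.one ⟨2641, 4, 4⟩) (.one ⟨9018, 0, 4⟩)) (.node 1 (.one ⟨9075, 2, 4⟩) (.one ⟨10341, 4, 6⟩))) (.node 2 (.node 1 (.one ⟨157, 4, 5⟩) (.one ⟨2078, 0, 3⟩)) (.node 1 (.one ⟨1051, 2, 3⟩) (.one ⟨2647, 4, 5⟩)))) (.node 4 (.node 2 (.node 1 (.one ⟨1166, 4, 5⟩) (.one ⟨13770, 5, 5⟩)) (.node 1 (.one ⟨1188, 5, 5⟩) (.one ⟨6111, 4, 5⟩))) (.node 2 (.node 1 (.one ⟨9496, 2, 4⟩) (.one ⟨2012, 2, 6⟩)) (.node 1 (.one ⟨16267, 1, 5⟩) (.one ⟨14046, 3, 5⟩))))) (.node 8 (.node 4 (.node 2 (.node 1 (.one ⟨15455, 1, 5⟩) (.one ⟨1044, 0, 6⟩)) (.node 1 (.one ⟨6778, 1, 6⟩) (.one ⟨9283, 5, 5⟩))) (.node 2 (.node 1 (.one ⟨13128, 4, 5⟩) (.one ⟨9149, 5, 5⟩)) (.node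 1 (.one ⟨15331, 2, 5⟩) (.one ⟨4076, 3, 6⟩)))) (.node 4 (.node 2 (.node 1 (.one ⟨12181, 1, 5⟩) (.one ⟨11959, 3, 5⟩)) (.node 1 (.one ⟨5291, 5, 5⟩) (.one ⟨4345, 4, 5⟩))) (.node 2 (.node 1 (.one ⟨7521, 4, 5⟩) (.one ⟨6188, 5, 5⟩)) (.node 1 (.one ⟨2259, 5, 4⟩) (.one ⟨12530, 4, 6⟩)))))) (.node 16 (.node 8 (.node 4 (.node 2 (.node 1 (.one ⟨5960, 1, 4⟩) (.one ⟨16400, 1, 5⟩)) (.node 1 (.one ⟨12438, 4, 5⟩) (.one ⟨9867, 2, 4⟩))) (.node 2 (.node 1 (.one ⟨16942, 1, 5⟩) (.one ⟨5472, 2, 4⟩)) (.node 1 (.one ⟨9217, 3, 6⟩) (.one ⟨10938, 5, 5⟩)))) (.node 4 (.node 2 (.node 1 (.one ⟨10581, 2, 5⟩) (.one ⟨2118, 3, 5⟩)) (.node 1 (.one ⟨1829, 4, 6⟩) (.one ⟨17099, 3, 5⟩))) (.node 2 (.node 1 (.one ⟨16712, 0, 5⟩) (.one ⟨17030, 3, 5⟩)) (.node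 1 (.one ⟨3007, 0, 5⟩) (.one ⟨9143, 4, 4⟩))))) (.node 8 (.node 4 (.node 2 (.node 1 (.one ⟨16322, 4, 5⟩) (.one ⟨13403, 3, 4⟩)) (.node 1 (.one ⟨12186, 5, 6⟩) (.one ⟨12221, 1, 4⟩))) (.node 2 (.node 1 (.one ⟨16465, 2, 5⟩) (.one ⟨9458, 2, 5⟩)) (.node 1 (.one ⟨1451, 4, 6⟩) (.one ⟨13956, 4, 4⟩)))) (.node 4 (.node 2 (.node 1 (.one ⟨3288, 4, 4⟩) (.one ⟨14359, 5, 4⟩)) (.node 1 (.one ⟨15643, 3, 6⟩) (.one ⟨4138, 2, 5⟩))) (.node 2 (.node 1 (.one ⟨15687, 0, 6⟩) (.one ⟨15725, 0, 4⟩)) (.node 1 (.one ⟨15146, 2, 5⟩) (.one ⟨10243, 4, 3⟩)))))))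
def par2_1_10 : Arr Par :=
  (.node 32 (.node 16 (.node 8 (.node 4 (.node 2 (.node 1 (.one ⟨12279, 4, 3⟩) (.one ⟨17154, 4, 5⟩)) (.node 1 (.one ⟨703, 0, 6⟩) (.one ⟨1127, 5, 5⟩))) (.node 2 (.node 1 (.one ⟨940, 4, 4⟩) (.one ⟨15491, 5, 5⟩)) (.node 1 (.one ⟨8938, 4, 6⟩) (.one ⟨1811, 2, 5⟩)))) (.node 4 (.node 2 (.node 1 (.one ⟨8447, 4, 4⟩) (.one ⟨7853, 5, 4⟩)) (.node 1 (.one ⟨5796, 0, 6⟩) (.one ⟨14934, 4, 6⟩))) (.node 2 (.node 1 (.one ⟨15409, 2, 5⟩) (.one ⟨16694, 2, 6⟩)) (.node 1 (.one ⟨7005, 1, 5⟩) (.one ⟨6177, 5, 6⟩))))) (.node 8 (.node 4 (.node 2 (.node 1 (.one ⟨3026, 5, 6⟩) (.one ⟨16941, 2, 5⟩)) (.node 1 (.one ⟨7371, 2, 6⟩) (.one ⟨6434, 4, 5⟩))) (.node 2 (.node 1 (.one ⟨16268, 1, 5⟩) (.one ⟨16734, 3, 5⟩)) (.node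 1 (.one ⟨11824, 5, 5⟩) (.one ⟨9117, 5, 4⟩)))) (.node 4 (.node 2 (.node 1 (.one ⟨8230, 4, 3⟩) (.one ⟨14010, 5, 5⟩)) (.node 1 (.one ⟨14714, 1, 4⟩) (.one ⟨665, 0, 5⟩))) (.node 2 (.node 1 (.one ⟨12780, 5, 3⟩) (.one ⟨9053, 3, 4⟩)) (.node 1 (.one ⟨2326, 5, 6⟩) (.one ⟨9343, 4, 5⟩)))))) (.node 16 (.node 8 (.node 4 (.node 2 (.node 1 (.one ⟨8265, 1, 6⟩) (.one ⟨13268, 2, 6⟩)) (.node 1 (.one ⟨5593, 2, 5⟩) (.one ⟨4919, 5, 6⟩))) (.node 2 (.node 1 (.one ⟨16756, 3, 5⟩) (.one ⟨4072, 1, 6⟩)) (.node 1 (.one ⟨11998, 3, 5⟩) (.one ⟨14920, 3, 5⟩)))) (.node 4 (.node 2 (.node 1 (.one ⟨9586, 3, 5⟩) (.one ⟨16868, 3, 6⟩)) (.node 1 (.one ⟨12283, 3, 5⟩) (.one ⟨647, 1, 5⟩))) (.node 2 (.node 1 (.one ⟨5087, 0, 6⟩) (.one ⟨201, 1, 4⟩)) (.node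 1 (.one ⟨13776, 2, 6⟩) (.one ⟨9675, 0, 4⟩))))) (.node 8 (.node 4 (.node 2 (.node 1 (.one ⟨15399, 4, 5⟩) (.one ⟨7582, 5, 6⟩)) (.node 1 (.one ⟨14369, 2, 5⟩) (.one ⟨12337, 5, 5⟩))) (.node 2 (.node 1 (.one ⟨4018, 3, 6⟩) (.one ⟨8486, 4, 6⟩)) (.node 1 (.one ⟨8621, 5, 5⟩) (.one ⟨8821, 3, 5⟩)))) (.node 4 (.node 2 (.node 1 (.one ⟨742, 2, 4⟩) (.one ⟨15514, 0, 5⟩)) (.node 1 (.one ⟨5694, 0, 6⟩) (.one ⟨7919, 2, 5⟩))) (.node 2 (.node 1 (.one ⟨7825, 5, 5⟩) (.one ⟨13998, 0, 6⟩)) (.node 1 (.one ⟨481, 3, 4⟩) (.one ⟨6156, 3, 1⟩)))))))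
def par2_1_11 : Arr Par :=
  (.node 32 (.node 16 (.node 8 (.node 4 (.node 2 (.node 1 (.one ⟨10764, 5, 5⟩) (.one ⟨17038, 5, 5⟩)) (.node 1 (.one ⟨2562, 4, 5⟩) (.one ⟨14615, 1, 4⟩))) (.node 2 (.node 1 (.one ⟨845, 1, 4⟩) (.one ⟨14455, 1, 5⟩)) (.node 1 (.one ⟨16107, 2, 5⟩) (.one ⟨4696, 1, 6⟩)))) (.node 4 (.node 2 (.node 1 (.one ⟨14090, 5, 6⟩) (.one ⟨13228, 2, 5⟩)) (.node 1 (.one ⟨11562, 5, 4⟩) (.one ⟨3074, 5, 6⟩))) (.node 2 (.node 1 (.one ⟨16513, 5, 5⟩) (.one ⟨10181, 4, 6⟩)) (.node 1 (.one ⟨4762, 4, 6⟩) (.one ⟨10581, 0, 5⟩))))) (.node 8 (.node 4 (.node 2 (.node 1 (.one ⟨7591, 0, 5⟩) (.one ⟨12302, 1, 4⟩)) (.node 1 (.one ⟨3044, 3, 4⟩) (.one ⟨3088, 5, 5⟩))) (.node 2 (.node 1 (.one ⟨3800, 0, 3⟩) (.one ⟨1415, 0, 4⟩))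 (.node 1 (.one ⟨14646, 0, 6⟩) (.one ⟨11974, 5, 6⟩)))) (.node 4 (.node 2 (.node 1 (.one ⟨8381, 0, 5⟩) (.one ⟨11547, 4, 6⟩)) (.node 1 (.one ⟨496, 0, 4⟩) (.one ⟨15456, 2, 5⟩))) (.node 2 (.node 1 (.one ⟨10592, 4, 6⟩) (.one ⟨15538, 0, 5⟩)) (.node 1 (.one ⟨14404, 2, 5⟩) (.one ⟨2090, 4, 6⟩)))))) (.node 16 (.node 8 (.node 4 (.node 2 (.node 1 (.one ⟨15066, 4, 3⟩) (.one ⟨10409, 0, 5⟩)) (.node 1 (.one ⟨1286, 2, 6⟩) (.one ⟨15379, 4, 5⟩))) (.node 2 (.node 1 (.one ⟨5668, 1, 5⟩) (.one ⟨8440, 3, 5⟩)) (.node 1 (.one ⟨627, 2, 6⟩) (.one ⟨14866, 5, 6⟩)))) (.node 4 (.node 2 (.node 1 (.one ⟨8439, 5, 7⟩) (.one ⟨15373, 4, 6⟩)) (.node 1 (.one ⟨9313, 4, 5⟩) (.one ⟨4005, 3, 6⟩))) (.node 2 (.node 1 (.one ⟨16707, 1, 5⟩) (.one ⟨4987, 5,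 5⟩)) (.node 1 (.one ⟨8405, 1, 6⟩) (.one ⟨363, 3, 4⟩))))) (.node 8 (.node 4 (.node 2 (.node 1 (.one ⟨13876, 2, 4⟩) (.one ⟨11964, 5, 3⟩)) (.node 1 (.one ⟨7340, 5, 6⟩) (.one ⟨16787, 2, 4⟩))) (.node 2 (.node 1 (.one ⟨7763, 0, 6⟩) (.one ⟨200, 2, 4⟩)) (.node 1 (.one ⟨16274, 5, 6⟩) (.one ⟨8036, 0, 5⟩)))) (.node 4 (.node 2 (.node 1 (.one ⟨12000, 4, 5⟩) (.one ⟨3551, 0, 5⟩)) (.node 1 (.one ⟨13655, 3, 6⟩) (.one ⟨12752, 3, 4⟩))) (.node 2 (.node 1 (.one ⟨12037, 1, 6⟩) (.one ⟨14186, 5, 5⟩)) (.node 1 (.one ⟨6780, 0, 5⟩) (.one ⟨6836, 5, 5⟩)))))))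
def par2_1_12 : Arr Par :=
  (.node 32 (.node 16 (.node 8 (.node 4 (.node 2 (.node 1 (.one ⟨15356, 0, 5⟩) (.one ⟨5139, 5, 6⟩)) (.node 1 (.one ⟨4068, 1, 6⟩) (.one ⟨13798, 2, 6⟩))) (.node 2 (.node 1 (.one ⟨5313, 3, 6⟩) (.one ⟨16878, 0, 5⟩)) (.node 1 (.one ⟨9304, 2, 6⟩) (.one ⟨2207, 4, 2⟩)))) (.node 4 (.node 2 (.node 1 (.one ⟨2103, 4, 5⟩) (.one ⟨1995, 4, 5⟩)) (.node 1 (.one ⟨2074, 4, 4⟩) (.one ⟨598, 4, 3⟩))) (.node 2 (.node 1 (.one ⟨1571, 4, 5⟩) (.one ⟨9117, 1, 4⟩)) (.node 1 (.one ⟨1605, 4, 4⟩) (.one ⟨15342, 3, 5⟩))))) (.node 8 (.node 4 (.node 2 (.node 1 (.one ⟨7191, 2, 6⟩) (.one ⟨15810, 3, 6⟩)) (.node 1 (.one ⟨14773, 2, 6⟩) (.one ⟨4591, 4, 4⟩))) (.node 2 (.node 1 (.one ⟨11561, 0, 6⟩) (.one ⟨7695, 4, 5⟩)) (.node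 1 (.one ⟨11469, 3, 6⟩) (.one ⟨12399, 2, 4⟩)))) (.node 4 (.node 2 (.node 1 (.one ⟨6458, 2, 5⟩) (.one ⟨14927, 4, 5⟩)) (.node 1 (.one ⟨8719, 4, 5⟩) (.one ⟨3864, 5, 5⟩))) (.node 2 (.node 1 (.one ⟨13123, 5, 4⟩) (.one ⟨3421, 5, 3⟩)) (.node 1 (.one ⟨9188, 5, 4⟩) (.one ⟨16909, 5, 5⟩)))))) (.node 16 (.node 8 (.node 4 (.node 2 (.node 1 (.one ⟨12519, 3, 5⟩) (.one ⟨12291, 5, 4⟩)) (.node 1 (.one ⟨9996, 4, 6⟩) (.one ⟨6009, 4, 5⟩))) (.node 2 (.node 1 (.one ⟨7689, 5, 5⟩) (.one ⟨2779, 4, 5⟩)) (.node 1 (.one ⟨4999, 5, 6⟩) (.one ⟨8714, 2, 6⟩)))) (.node 4 (.node 2 (.node 1 (.one ⟨9607, 2, 6⟩) (.one ⟨10791, 3, 4⟩)) (.node 1 (.one ⟨12369, 0, 5⟩) (.one ⟨11043, 3, 6⟩))) (.node 2 (.node 1 (.one ⟨13250, 2, 6⟩) (.one ⟨4300, 5, 4⟩)) (.node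 1 (.one ⟨1383, 4, 4⟩) (.one ⟨2422, 0, 5⟩))))) (.node 8 (.node 4 (.node 2 (.node 1 (.one ⟨14281, 4, 4⟩) (.one ⟨790, 2, 5⟩)) (.node 1 (.one ⟨8491, 5, 5⟩) (.one ⟨6215, 5, 6⟩))) (.node 2 (.node 1 (.one ⟨4916, 3, 5⟩) (.one ⟨10078, 2, 5⟩)) (.node 1 (.one ⟨12051, 4, 6⟩) (.one ⟨2687, 5, 2⟩)))) (.node 4 (.node 2 (.node 1 (.one ⟨6536, 4, 6⟩) (.one ⟨11635, 1, 5⟩)) (.node 1 (.one ⟨8130, 5, 5⟩) (.one ⟨4249, 3, 5⟩))) (.node 2 (.node 1 (.one ⟨14426, 0, 5⟩) (.one ⟨5439, 5, 6⟩)) (.node 1 (.one ⟨12385, 0, 4⟩) (.one ⟨315, 1, 4⟩)))))))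
def par2_1_13 : Arr Par :=
  (.node 32 (.node 16 (.node 8 (.node 4 (.node 2 (.node 1 (.one ⟨8263, 5, 6⟩) (.one ⟨11564, 1, 5⟩)) (.node 1 (.one ⟨3907, 5, 5⟩) (.one ⟨13924, 5, 4⟩))) (.node 2 (.node 1 (.one ⟨14533, 2, 6⟩) (.one ⟨10854, 0, 6⟩)) (.node 1 (.one ⟨3403, 3, 5⟩) (.one ⟨1825, 4, 5⟩)))) (.node 4 (.node 2 (.node 1 (.one ⟨16023, 2, 5⟩) (.one ⟨12494, 4, 5⟩)) (.node 1 (.one ⟨10641, 3, 3⟩) (.one ⟨4440, 4, 4⟩))) (.node 2 (.node 1 (.one ⟨152, 4, 5⟩) (.one ⟨12584, 3, 5⟩)) (.node 1 (.one ⟨8200, 1, 6⟩) (.one ⟨7336, 1, 5⟩))))) (.node 8 (.node 4 (.node 2 (.node 1 (.one ⟨6081, 1, 2⟩) (.one ⟨8178, 5, 5⟩)) (.node 1 (.one ⟨2567, 5, 4⟩) (.one ⟨329, 5, 4⟩))) (.node 2 (.node 1 (.one ⟨8210, 1, 5⟩) (.one ⟨5583, 5, 4⟩)) (.node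 1 (.one ⟨14487, 2, 6⟩) (.one ⟨1222, 5, 5⟩)))) (.node 4 (.node 2 (.node 1 (.one ⟨2274, 4, 5⟩) (.one ⟨16410, 4, 5⟩)) (.node 1 (.one ⟨14262, 4, 5⟩) (.one ⟨1212, 1, 5⟩))) (.node 2 (.node 1 (.one ⟨3738, 4, 5⟩) (.one ⟨16224, 5, 5⟩)) (.node 1 (.one ⟨15723, 5, 5⟩) (.one ⟨9673, 0, 4⟩)))))) (.node 16 (.node 8 (.node 4 (.node 2 (.node 1 (.one ⟨4910, 2, 6⟩) (.one ⟨1188, 3, 5⟩)) (.node 1 (.one ⟨4826, 5, 5⟩) (.one ⟨86, 3, 3⟩))) (.node 2 (.node 1 (.one ⟨12413, 4, 6⟩) (.one ⟨3383, 5, 5⟩)) (.node 1 (.one ⟨12305, 5, 5⟩) (.one ⟨9647, 5, 4⟩)))) (.node 4 (.node 2 (.node 1 (.one ⟨12179, 4, 6⟩) (.one ⟨10730, 4, 6⟩)) (.node 1 (.one ⟨7683, 5, 5⟩) (.one ⟨4412, 1, 5⟩))) (.node 2 (.node 1 (.one ⟨8768, 5, 6⟩) (.one ⟨9391, 3, 5⟩)) (.node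 1 (.one ⟨8356, 4, 5⟩) (.one ⟨12948, 0, 6⟩))))) (.node 8 (.node 4 (.node 2 (.node 1 (.one ⟨11625, 2, 5⟩) (.one ⟨9677, 5, 6⟩)) (.node 1 (.one ⟨14183, 5, 5⟩) (.one ⟨5614, 4, 5⟩))) (.node 2 (.node 1 (.one ⟨16681, 2, 6⟩) (.one ⟨7713, 5, 5⟩)) (.node 1 (.one ⟨3765, 5, 6⟩) (.one ⟨15583, 1, 5⟩)))) (.node 4 (.node 2 (.node 1 (.one ⟨11958, 4, 6⟩) (.one ⟨12909, 5, 5⟩)) (.node 1 (.one ⟨11984, 2, 5⟩) (.one ⟨8853, 4, 6⟩))) (.node 2 (.node 1 (.one ⟨4203, 2, 5⟩) (.one ⟨7793, 3, 5⟩)) (.node 1 (.one ⟨1894, 4, 6⟩) (.one ⟨5934, 4, 6⟩)))))))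
def par2_1_14 : Arr Par :=
  (.node 32 (.node 16 (.node 8 (.node 4 (.node 2 (.node 1 (.one ⟨11032, 2, 5⟩) (.one ⟨88, 4, 3⟩)) (.node 1 (.one ⟨3635, 1, 6⟩) (.one ⟨436, 3, 5⟩))) (.node 2 (.node 1 (.one ⟨6822, 1, 6⟩) (.one ⟨11316, 1, 5⟩)) (.node 1 (.one ⟨434, 3, 6⟩) (.one ⟨4471, 5, 4⟩)))) (.node 4 (.node 2 (.node 1 (.one ⟨10938, 2, 5⟩) (.one ⟨6831, 5, 5⟩)) (.node 1 (.one ⟨252, 0, 5⟩) (.one ⟨9806, 4, 5⟩))) (.node 2 (.node 1 (.one ⟨7073, 2, 5⟩) (.one ⟨11315, 2, 5⟩)) (.node 1 (.one ⟨8236, 1, 6⟩) (.one ⟨10715, 1, 2⟩))))) (.node 8 (.node 4 (.node 2 (.node 1 (.one ⟨5807, 1, 4⟩) (.one ⟨8, 0, 6⟩)) (.node 1 (.one ⟨10148, 0, 3⟩) (.one ⟨6255, 3, 5⟩))) (.node 2 (.node 1 (.one ⟨12140, 5, 4⟩) (.one ⟨3878, 4, 6⟩)) (.node 1 (.one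 ⟨3015, 5, 6⟩) (.one ⟨12177, 4, 5⟩)))) (.node 4 (.node 2 (.node 1 (.one ⟨3142, 0, 6⟩) (.one ⟨7591, 5, 5⟩)) (.node 1 (.one ⟨13026, 5, 4⟩) (.one ⟨16319, 0, 4⟩))) (.node 2 (.node 1 (.one ⟨16584, 0, 6⟩) (.one ⟨8123, 4, 6⟩)) (.node 1 (.one ⟨13778, 2, 5⟩) (.one ⟨16989, 2, 6⟩)))))) (.node 16 (.node 8 (.node 4 (.node 2 (.node 1 (.one ⟨8509, 2, 5⟩) (.one ⟨15673, 5, 5⟩)) (.node 1 (.one ⟨9676, 3, 4⟩) (.one ⟨5279, 0, 5⟩))) (.node 2 (.node 1 (.one ⟨12010, 2, 5⟩) (.one ⟨6116, 1, 5⟩)) (.node 1 (.one ⟨13217, 4, 4⟩) (.one ⟨14344, 3, 6⟩)))) (.node 4 (.node 2 (.node 1 (.one ⟨10834, 5, 6⟩) (.one ⟨11614, 4, 3⟩)) (.node 1 (.one ⟨15409, 4, 5⟩) (.one ⟨10488, 2, 5⟩))) (.node 2 (.node 1 (.one ⟨3082, 5, 5⟩) (.one ⟨3972, 4, 6⟩)) (.node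 1 (.one ⟨6167, 1, 5⟩) (.one ⟨4464, 3, 5⟩))))) (.node 8 (.node 4 (.node 2 (.node 1 (.one ⟨4641, 5, 6⟩) (.one ⟨5309, 3, 4⟩)) (.node 1 (.one ⟨12808, 2, 6⟩) (.one ⟨13818, 1, 4⟩))) (.node 2 (.node 1 (.one ⟨8747, 1, 5⟩) (.one ⟨3053, 5, 4⟩)) (.node 1 (.one ⟨14720, 4, 6⟩) (.one ⟨9204, 1, 5⟩)))) (.node 4 (.node 2 (.node 1 (.one ⟨6217, 2, 4⟩) (.one ⟨2194, 4, 4⟩)) (.node 1 (.one ⟨13788, 4, 5⟩) (.one ⟨10963, 2, 6⟩))) (.node 2 (.node 1 (.one ⟨12209, 1, 5⟩) (.one ⟨14080, 4, 4⟩)) (.node 1 (.one ⟨6347, 2, 6⟩) (.one ⟨1815, 4, 5⟩)))))))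
def par2_1_15 : Arr Par :=
  (.node 32 (.node 16 (.node 8 (.node 4 (.node 2 (.node 1 (.one ⟨6802, 3, 5⟩) (.one ⟨11336, 4, 6⟩)) (.node 1 (.one ⟨15130, 2, 3⟩) (.one ⟨11263, 3, 6⟩))) (.node 2 (.node 1 (.one ⟨6434, 0, 5⟩) (.one ⟨255, 4, 6⟩)) (.node 1 (.one ⟨3709, 2, 5⟩) (.one ⟨13595, 2, 4⟩)))) (.node 4 (.node 2 (.node 1 (.one ⟨3237, 5, 5⟩) (.one ⟨10246, 1, 5⟩)) (.node 1 (.one ⟨6288, 5, 6⟩) (.one ⟨14084, 1, 4⟩))) (.node 2 (.node 1 (.one ⟨7880, 3, 5⟩) (.one ⟨10925, 1, 5⟩)) (.node 1 (.one ⟨15440, 0, 6⟩) (.one ⟨11374, 1, 5⟩))))) (.node 8 (.node 4 (.node 2 (.node 1 (.one ⟨4790, 0, 5⟩) (.one ⟨120, 4, 6⟩)) (.node 1 (.one ⟨4691, 1, 6⟩) (.one ⟨6110, 0, 5⟩))) (.node 2 (.node 1 (.one ⟨1353, 0, 5⟩) (.one ⟨9279, 1, 5⟩)) (.node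 1 (.one ⟨10164, 5, 6⟩) (.one ⟨109, 3, 4⟩)))) (.node 4 (.node 2 (.node 1 (.one ⟨12956, 3, 5⟩) (.one ⟨14271, 5, 4⟩)) (.node 1 (.one ⟨10582, 5, 6⟩) (.one ⟨12502, 2, 6⟩))) (.node 2 (.node 1 (.one ⟨1152, 5, 5⟩) (.one ⟨15279, 2, 5⟩)) (.node 1 (.one ⟨3622, 2, 4⟩) (.one ⟨4078, 4, 5⟩)))))) (.node 16 (.node 8 (.node 4 (.node 2 (.node 1 (.one ⟨1201, 5, 6⟩) (.one ⟨3334, 2, 6⟩)) (.node 1 (.one ⟨647, 3, 5⟩) (.one ⟨15454, 4, 5⟩))) (.node 2 (.node 1 (.one ⟨4927, 4, 2⟩) (.one ⟨17174, 1, 5⟩)) (.node 1 (.one ⟨4937, 2, 6⟩) (.one ⟨8541, 0, 6⟩)))) (.node 4 (.node 2 (.node 1 (.one ⟨7090, 4, 4⟩) (.one ⟨12951, 1, 4⟩)) (.node 1 (.one ⟨16632, 4, 5⟩) (.one ⟨380, 2, 6⟩))) (.node 2 (.node 1 (.one ⟨9811, 5, 6⟩) (.one ⟨6489, 2, 5⟩)) (.node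 1 (.one ⟨7114, 0, 5⟩) (.one ⟨8954, 1, 5⟩))))) (.node 8 (.node 4 (.node 2 (.node 1 (.one ⟨4667, 5, 5⟩) (.one ⟨10512, 3, 2⟩)) (.node 1 (.one ⟨13437, 4, 6⟩) (.one ⟨12279, 3, 3⟩))) (.node 2 (.node 1 (.one ⟨14646, 3, 6⟩) (.one ⟨9827, 0, 6⟩)) (.node 1 (.one ⟨916, 1, 6⟩) (.one ⟨654, 5, 4⟩)))) (.node 4 (.node 2 (.node 1 (.one ⟨9312, 5, 6⟩) (.one ⟨1094, 2, 4⟩)) (.node 1 (.one ⟨7246, 5, 6⟩) (.one ⟨6754, 4, 5⟩))) (.node 2 (.node 1 (.one ⟨16059, 5, 5⟩) (.one ⟨6784, 4, 5⟩)) (.node 1 (.one ⟨5510, 5, 5⟩) (.one ⟨13578, 2, 5⟩)))))))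
def par2_1 : Arr Par :=
  (.node 512 (.node 256 (.node 128 (.node 64 par2_1_0 par2_1_1) (.node 64 par2_1_2 par2_1_3)) (.node 128 (.node 64 par2_1_4 par2_1_5) (.node 64 par2_1_6 par2_1_7))) (.node 256 (.node 128 (.node 64 par2_1_8 par2_1_9) (.node 64 par2_1_10 par2_1_11)) (.node 128 (.node 64 par2_1_12 par2_1_13) (.node 64 par2_1_14 par2_1_15))))
def par2_2_0 : Arr Par :=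
  (.node 32 (.node 16 (.node 8 (.node 4 (.node 2 (.node 1 (.one ⟨4087, 4, 5⟩) (.one ⟨17053, 4, 4⟩)) (.node 1 (.one ⟨3790, 5, 5⟩) (.one ⟨8493, 5, 6⟩))) (.node 2 (.node 1 (.one ⟨7072, 5, 5⟩) (.one ⟨6126, 4, 4⟩)) (.node 1 (.one ⟨14063, 4, 5⟩) (.one ⟨13412, 2, 5⟩)))) (.node 4 (.node 2 (.node 1 (.one ⟨15413, 2, 6⟩) (.one ⟨7117, 0, 5⟩)) (.node 1 (.one ⟨5028, 5, 6⟩) (.one ⟨11227, 0, 6⟩))) (.node 2 (.node 1 (.one ⟨14751, 4, 5⟩) (.one ⟨16625, 4, 5⟩)) (.node 1 (.one ⟨4691, 4, 6⟩) (.one ⟨5376, 2, 4⟩))))) (.node 8 (.node 4 (.node 2 (.node 1 (.one ⟨8233, 2, 6⟩) (.one ⟨13636, 2, 6⟩)) (.node 1 (.one ⟨5110, 3, 5⟩) (.one ⟨5529, 3, 5⟩))) (.node 2 (.node 1 (.one ⟨5671, 4, 6⟩) (.one ⟨6977, 2, 5⟩)) (.node 1 (.one ⟨977, 0, 5⟩) (.one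 ⟨13380, 2, 6⟩)))) (.node 4 (.node 2 (.node 1 (.one ⟨7050, 0, 5⟩) (.one ⟨309, 4, 5⟩)) (.node 1 (.one ⟨15431, 1, 3⟩) (.one ⟨14477, 5, 6⟩))) (.node 2 (.node 1 (.one ⟨251, 2, 3⟩) (.one ⟨16264, 2, 6⟩)) (.node 1 (.one ⟨15426, 1, 2⟩) (.one ⟨5986, 2, 6⟩)))))) (.node 16 (.node 8 (.node 4 (.node 2 (.node 1 (.one ⟨15951, 5, 5⟩) (.one ⟨6529, 2, 5⟩)) (.node 1 (.one ⟨13164, 0, 5⟩) (.one ⟨13258, 4, 4⟩))) (.node 2 (.node 1 (.one ⟨11647, 4, 6⟩) (.one ⟨15484, 3, 5⟩)) (.node 1 (.one ⟨346, 1, 5⟩) (.one ⟨13638, 2, 6⟩)))) (.node 4 (.node 2 (.node 1 (.one ⟨15925, 5, 5⟩) (.one ⟨666, 0, 5⟩)) (.node 1 (.one ⟨12418, 0, 5⟩) (.one ⟨14398, 2, 5⟩))) (.node 2 (.node 1 (.one ⟨13624, 4, 5⟩) (.one ⟨1842, 0, 6⟩)) (.node 1 (.one ⟨13876, 1, 4⟩)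 (.one ⟨15841, 1, 6⟩))))) (.node 8 (.node 4 (.node 2 (.node 1 (.one ⟨6679, 1, 4⟩) (.one ⟨4578, 3, 5⟩)) (.node 1 (.one ⟨9241, 3, 7⟩) (.one ⟨15036, 1, 4⟩))) (.node 2 (.node 1 (.one ⟨14193, 3, 5⟩) (.one ⟨8230, 5, 3⟩)) (.node 1 (.one ⟨14236, 5, 6⟩) (.one ⟨9104, 3, 4⟩)))) (.node 4 (.node 2 (.node 1 (.one ⟨3743, 4, 5⟩) (.one ⟨7188, 5, 6⟩)) (.node 1 (.one ⟨3298, 4, 5⟩) (.one ⟨6269, 5, 4⟩))) (.node 2 (.node 1 (.one ⟨1947, 3, 5⟩) (.one ⟨15069, 5, 5⟩)) (.node 1 (.one ⟨14560, 5, 5⟩) (.one ⟨15964, 2, 5⟩)))))))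
def par2_2_1 : Arr Par :=
  (.node 32 (.node 16 (.node 8 (.node 4 (.node 2 (.node 1 (.one ⟨14396, 1, 4⟩) (.one ⟨2875, 4, 6⟩)) (.node 1 (.one ⟨6385, 2, 5⟩) (.one ⟨15886, 1, 4⟩))) (.node 2 (.node 1 (.one ⟨5488, 4, 5⟩) (.one ⟨17073, 5, 6⟩)) (.node 1 (.one ⟨914, 4, 4⟩) (.one ⟨6489, 4, 5⟩)))) (.node 4 (.node 2 (.node 1 (.one ⟨5987, 2, 4⟩) (.one ⟨16273, 3, 6⟩)) (.node 1 (.one ⟨3111, 5, 4⟩) (.one ⟨16382, 0, 3⟩))) (.node 2 (.node 1 (.one ⟨2031, 4, 6⟩) (.one ⟨7938, 4, 5⟩)) (.node 1 (.one ⟨3477, 1, 5⟩) (.one ⟨5097, 2, 5⟩))))) (.node 8 (.node 4 (.node 2 (.node 1 (.one ⟨3937, 1, 6⟩) (.one ⟨5863, 5, 6⟩)) (.node 1 (.one ⟨3413, 1, 5⟩) (.one ⟨529, 2, 5⟩))) (.node 2 (.node 1 (.one ⟨11039, 4, 6⟩) (.one ⟨11199, 4, 5⟩)) (.node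 1 (.one ⟨825, 4, 6⟩) (.one ⟨5101, 2, 5⟩)))) (.node 4 (.node 2 (.node 1 (.one ⟨1777, 3, 4⟩) (.one ⟨6470, 4, 4⟩)) (.node 1 (.one ⟨14269, 3, 5⟩) (.one ⟨7409, 4, 5⟩))) (.node 2 (.node 1 (.one ⟨875, 5, 6⟩) (.one ⟨415, 2, 6⟩)) (.node 1 (.one ⟨13641, 5, 4⟩) (.one ⟨6620, 2, 4⟩)))))) (.node 16 (.node 8 (.node 4 (.node 2 (.node 1 (.one ⟨14838, 4, 6⟩) (.one ⟨7869, 1, 4⟩)) (.node 1 (.one ⟨12989, 5, 5⟩) (.one ⟨5161, 5, 5⟩))) (.node 2 (.node 1 (.one ⟨592, 1, 5⟩) (.one ⟨10114, 0, 6⟩)) (.node 1 (.one ⟨14553, 5, 5⟩) (.one ⟨6243, 5, 5⟩)))) (.node 4 (.node 2 (.node 1 (.one ⟨10325, 2, 5⟩) (.one ⟨16070, 1, 6⟩)) (.node 1 (.one ⟨659, 5, 6⟩) (.one ⟨5661, 1, 6⟩))) (.node 2 (.node 1 (.one ⟨9553, 3, 6⟩) (.one ⟨352, 5, 5⟩)) (.node 1 (.one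 ⟨14205, 3, 3⟩) (.one ⟨3092, 0, 6⟩))))) (.node 8 (.node 4 (.node 2 (.node 1 (.one ⟨7040, 3, 6⟩) (.one ⟨9526, 5, 6⟩)) (.node 1 (.one ⟨8023, 4, 5⟩) (.one ⟨13681, 5, 5⟩))) (.node 2 (.node 1 (.one ⟨9953, 5, 5⟩) (.one ⟨6202, 2, 5⟩)) (.node 1 (.one ⟨16486, 5, 3⟩) (.one ⟨14493, 1, 6⟩)))) (.node 4 (.node 2 (.node 1 (.one ⟨7264, 1, 4⟩) (.one ⟨12661, 1, 5⟩)) (.node 1 (.one ⟨13219, 0, 6⟩) (.one ⟨9363, 4, 5⟩))) (.node 2 (.node 1 (.one ⟨14530, 2, 5⟩) (.one ⟨1492, 4, 5⟩)) (.node 1 (.one ⟨8445, 5, 6⟩) (.one ⟨9277, 5, 7⟩)))))))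
def par2_2_2 : Arr Par :=
  (.node 32 (.node 16 (.node 8 (.node 4 (.node 2 (.node 1 (.one ⟨11897, 2, 5⟩) (.one ⟨13598, 5, 6⟩)) (.node 1 (.one ⟨7974, 1, 5⟩) (.one ⟨13569, 4, 5⟩))) (.node 2 (.node 1 (.one ⟨346, 3, 5⟩) (.one ⟨17154, 5, 5⟩)) (.node 1 (.one ⟨12659, 2, 5⟩) (.one ⟨2572, 1, 3⟩)))) (.node 4 (.node 2 (.node 1 (.one ⟨4162, 4, 4⟩) (.one ⟨2394, 1, 6⟩)) (.node 1 (.one ⟨15843, 4, 4⟩) (.one ⟨3728, 5, 4⟩))) (.node 2 (.node 1 (.one ⟨10582, 2, 6⟩) (.one ⟨1889, 4, 6⟩)) (.node 1 (.one ⟨12120, 4, 5⟩) (.one ⟨3891, 2, 4⟩))))) (.node 8 (.node 4 (.node 2 (.node 1 (.one ⟨12280, 4, 5⟩) (.one ⟨6306, 2, 4⟩)) (.node 1 (.one ⟨7051, 1, 3⟩) (.one ⟨11474, 5, 5⟩))) (.node 2 (.node 1 (.one ⟨5406, 3, 3⟩) (.one ⟨11233, 2, 5⟩)) (.node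 1 (.one ⟨4281, 4, 5⟩) (.one ⟨12650, 0, 5⟩)))) (.node 4 (.node 2 (.node 1 (.one ⟨16076, 0, 5⟩) (.one ⟨11182, 4, 4⟩)) (.node 1 (.one ⟨12577, 4, 3⟩) (.one ⟨10857, 5, 4⟩))) (.node 2 (.node 1 (.one ⟨16142, 0, 6⟩) (.one ⟨730, 3, 5⟩)) (.node 1 (.one ⟨10111, 1, 5⟩) (.one ⟨2728, 4, 1⟩)))))) (.node 16 (.node 8 (.node 4 (.node 2 (.node 1 (.one ⟨14043, 2, 4⟩) (.one ⟨10193, 1, 4⟩)) (.node 1 (.one ⟨13832, 2, 4⟩) (.one ⟨2194, 1, 4⟩))) (.node 2 (.node 1 (.one ⟨88, 1, 3⟩) (.one ⟨5726, 4, 3⟩)) (.node 1 (.one ⟨225, 4, 5⟩) (.one ⟨4049, 4, 1⟩)))) (.node 4 (.node 2 (.node 1 (.one ⟨10715, 0, 2⟩) (.one ⟨6577, 5, 5⟩)) (.node 1 (.one ⟨10323, 1, 2⟩) (.one ⟨13452, 0, 4⟩))) (.node 2 (.node 1 (.one ⟨9983, 3, 5⟩) (.one ⟨14123, 3, 5⟩)) (.node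 1 (.one ⟨12324, 1, 5⟩) (.one ⟨1551, 1, 4⟩))))) (.node 8 (.node 4 (.node 2 (.node 1 (.one ⟨13440, 3, 6⟩) (.one ⟨6371, 1, 3⟩)) (.node 1 (.one ⟨4866, 4, 6⟩) (.one ⟨4868, 4, 6⟩))) (.node 2 (.node 1 (.one ⟨9763, 1, 5⟩) (.one ⟨12602, 3, 6⟩)) (.node 1 (.one ⟨14495, 1, 4⟩) (.one ⟨215, 2, 6⟩)))) (.node 4 (.node 2 (.node 1 (.one ⟨6325, 3, 6⟩) (.one ⟨15441, 3, 5⟩)) (.node 1 (.one ⟨10106, 0, 4⟩) (.one ⟨11605, 5, 5⟩))) (.node 2 (.node 1 (.one ⟨6341, 3, 5⟩) (.one ⟨8670, 0, 5⟩)) (.node 1 (.one ⟨15411, 3, 5⟩) (.one ⟨9560, 4, 5⟩)))))))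
def par2_2_3 : Arr Par :=
  (.node 32 (.node 16 (.node 8 (.node 4 (.node 2 (.node 1 (.one ⟨1484, 0, 6⟩) (.one ⟨11658, 5, 5⟩)) (.node 1 (.one ⟨8989, 5, 6⟩) (.one ⟨1570, 3, 5⟩))) (.node 2 (.node 1 (.one ⟨11867, 1, 4⟩) (.one ⟨12105, 0, 5⟩)) (.node 1 (.one ⟨15250, 5, 6⟩) (.one ⟨15639, 4, 5⟩)))) (.node 4 (.node 2 (.node 1 (.one ⟨5114, 5, 6⟩) (.one ⟨13484, 1, 5⟩)) (.node 1 (.one ⟨7740, 1, 6⟩) (.one ⟨15795, 4, 5⟩))) (.node 2 (.node 1 (.one ⟨10583, 0, 5⟩) (.one ⟨15977, 2, 6⟩)) (.node 1 (.one ⟨5994, 5, 5⟩) (.one ⟨11753, 1, 6⟩))))) (.node 8 (.node 4 (.node 2 (.node 1 (.one ⟨2573, 3, 4⟩) (.one ⟨5202, 0, 6⟩)) (.node 1 (.one ⟨10836, 5, 5⟩) (.one ⟨8319, 0, 3⟩))) (.node 2 (.node 1 (.one ⟨13752, 4, 6⟩) (.one ⟨14630, 3, 5⟩))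 (.node 1 (.one ⟨11491, 2, 5⟩) (.one ⟨5568, 5, 5⟩)))) (.node 4 (.node 2 (.node 1 (.one ⟨2315, 4, 6⟩) (.one ⟨11925, 4, 6⟩)) (.node 1 (.one ⟨2996, 3, 5⟩) (.one ⟨16824, 2, 5⟩))) (.node 2 (.node 1 (.one ⟨11526, 4, 6⟩) (.one ⟨12607, 0, 5⟩)) (.node 1 (.one ⟨4451, 5, 6⟩) (.one ⟨1663, 2, 4⟩)))))) (.node 16 (.node 8 (.node 4 (.node 2 (.node 1 (.one ⟨7869, 3, 4⟩) (.one ⟨12423, 4, 5⟩)) (.node 1 (.one ⟨14178, 4, 4⟩) (.one ⟨106, 1, 5⟩))) (.node 2 (.node 1 (.one ⟨4189, 2, 6⟩) (.one ⟨15191, 3, 5⟩)) (.node 1 (.one ⟨16249, 4, 4⟩) (.one ⟨12662, 5, 6⟩)))) (.node 4 (.node 2 (.node 1 (.one ⟨8824, 3, 5⟩) (.one ⟨2123, 3, 4⟩)) (.node 1 (.one ⟨8882, 5, 6⟩) (.one ⟨10735, 0, 4⟩))) (.node 2 (.node 1 (.one ⟨4336, 0, 6⟩) (.one ⟨8558, 4, 6⟩))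 (.node 1 (.one ⟨2768, 0, 6⟩) (.one ⟨8620, 0, 6⟩))))) (.node 8 (.node 4 (.node 2 (.node 1 (.one ⟨14866, 0, 6⟩) (.one ⟨792, 2, 5⟩)) (.node 1 (.one ⟨8929, 5, 5⟩) (.one ⟨7802, 5, 4⟩))) (.node 2 (.node 1 (.one ⟨17138, 2, 6⟩) (.one ⟨16408, 0, 5⟩)) (.node 1 (.one ⟨2360, 4, 6⟩) (.one ⟨16756, 4, 5⟩)))) (.node 4 (.node 2 (.node 1 (.one ⟨742, 1, 4⟩) (.one ⟨8939, 5, 3⟩)) (.node 1 (.one ⟨7374, 4, 5⟩) (.one ⟨13560, 4, 3⟩))) (.node 2 (.node 1 (.one ⟨882, 5, 5⟩) (.one ⟨13872, 0, 4⟩)) (.node 1 (.one ⟨2752, 4, 2⟩) (.one ⟨2905, 5, 6⟩)))))))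
def par2_2_4 : Arr Par :=
  (.node 32 (.node 16 (.node 8 (.node 4 (.node 2 (.node 1 (.one ⟨9110, 0, 5⟩) (.one ⟨12412, 1, 4⟩)) (.node 1 (.one ⟨6188, 3, 5⟩) (.one ⟨1393, 1, 6⟩))) (.node 2 (.node 1 (.one ⟨8883, 0, 5⟩) (.one ⟨12430, 1, 4⟩)) (.node 1 (.one ⟨3755, 2, 5⟩) (.one ⟨2183, 3, 4⟩)))) (.node 4 (.node 2 (.node 1 (.one ⟨9559, 3, 4⟩) (.one ⟨743, 5, 5⟩)) (.node 1 (.one ⟨16805, 0, 3⟩) (.one ⟨3024, 4, 5⟩))) (.node 2 (.node 1 (.one ⟨12928, 1, 6⟩) (.one ⟨2295, 3, 6⟩)) (.node 1 (.one ⟨6456, 4, 5⟩) (.one ⟨2081, 4, 6⟩))))) (.node 8 (.node 4 (.node 2 (.node 1 (.one ⟨601, 3, 5⟩) (.one ⟨610, 3, 5⟩)) (.node 1 (.one ⟨10711, 4, 6⟩) (.one ⟨5467, 1, 6⟩))) (.node 2 (.node 1 (.one ⟨1336, 3, 4⟩) (.one ⟨5257, 4, 4⟩)) (.node 1 (.one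 ⟨14830, 2, 5⟩) (.one ⟨13876, 5, 4⟩)))) (.node 4 (.node 2 (.node 1 (.one ⟨9888, 4, 4⟩) (.one ⟨3305, 5, 5⟩)) (.node 1 (.one ⟨7520, 0, 6⟩) (.one ⟨7795, 5, 5⟩))) (.node 2 (.node 1 (.one ⟨3760, 3, 4⟩) (.one ⟨13353, 5, 6⟩)) (.node 1 (.one ⟨14359, 4, 4⟩) (.one ⟨2386, 1, 4⟩)))))) (.node 16 (.node 8 (.node 4 (.node 2 (.node 1 (.one ⟨5051, 5, 5⟩) (.one ⟨11824, 2, 5⟩)) (.node 1 (.one ⟨1508, 2, 3⟩) (.one ⟨1304, 2, 4⟩))) (.node 2 (.node 1 (.one ⟨11867, 2, 4⟩) (.one ⟨12305, 2, 5⟩)) (.node 1 (.one ⟨3229, 1, 5⟩) (.one ⟨13315, 5, 5⟩)))) (.node 4 (.node 2 (.node 1 (.one ⟨1214, 1, 5⟩) (.one ⟨16382, 4, 3⟩)) (.node 1 (.one ⟨5717, 4, 4⟩) (.one ⟨16239, 2, 3⟩))) (.node 2 (.node 1 (.one ⟨10554, 1, 5⟩) (.one ⟨2952, 5, 5⟩)) (.node 1 (.one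 ⟨16964, 1, 5⟩) (.one ⟨13424, 5, 5⟩))))) (.node 8 (.node 4 (.node 2 (.node 1 (.one ⟨15984, 2, 5⟩) (.one ⟨7200, 3, 4⟩)) (.node 1 (.one ⟨3132, 5, 4⟩) (.one ⟨15903, 0, 6⟩))) (.node 2 (.node 1 (.one ⟨4306, 2, 5⟩) (.one ⟨13200, 4, 5⟩)) (.node 1 (.one ⟨14363, 2, 5⟩) (.one ⟨9161, 4, 6⟩)))) (.node 4 (.node 2 (.node 1 (.one ⟨14300, 5, 5⟩) (.one ⟨5478, 5, 5⟩)) (.node 1 (.one ⟨730, 1, 5⟩) (.one ⟨5722, 4, 4⟩))) (.node 2 (.node 1 (.one ⟨10476, 3, 6⟩) (.one ⟨15187, 4, 5⟩)) (.node 1 (.one ⟨12500, 5, 5⟩) (.one ⟨6073, 0, 6⟩)))))))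
def par2_2_5 : Arr Par :=
  (.node 32 (.node 16 (.node 8 (.node 4 (.node 2 (.node 1 (.one ⟨1300, 3, 5⟩) (.one ⟨14701, 0, 4⟩)) (.node 1 (.one ⟨1382, 0, 6⟩) (.one ⟨11633, 4, 4⟩))) (.node 2 (.node 1 (.one ⟨5283, 3, 5⟩) (.one ⟨395, 3, 5⟩)) (.node 1 (.one ⟨11469, 4, 6⟩) (.one ⟨1709, 4, 5⟩)))) (.node 4 (.node 2 (.node 1 (.one ⟨16414, 2, 6⟩) (.one ⟨12464, 0, 6⟩)) (.node 1 (.one ⟨16076, 3, 5⟩) (.one ⟨2158, 0, 4⟩))) (.node 2 (.node 1 (.one ⟨3750, 2, 5⟩) (.one ⟨3279, 3, 6⟩)) (.node 1 (.one ⟨14010, 1, 5⟩) (.one ⟨3727, 4, 5⟩))))) (.node 8 (.node 4 (.node 2 (.node 1 (.one ⟨56, 1, 0⟩) (.one ⟨14412, 5, 5⟩)) (.node 1 (.one ⟨1199, 1, 3⟩) (.one ⟨12325, 2, 5⟩))) (.node 2 (.node 1 (.one ⟨10667, 3, 5⟩) (.one ⟨9246, 3, 4⟩)) (.node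 1 (.one ⟨6492, 1, 3⟩) (.one ⟨15610, 0, 5⟩)))) (.node 4 (.node 2 (.node 1 (.one ⟨14964, 2, 5⟩) (.one ⟨14680, 2, 6⟩)) (.node 1 (.one ⟨11802, 5, 5⟩) (.one ⟨5021, 2, 5⟩))) (.node 2 (.node 1 (.one ⟨15363, 3, 5⟩) (.one ⟨14118, 5, 5⟩)) (.node 1 (.one ⟨6567, 4, 5⟩) (.one ⟨678, 2, 4⟩)))))) (.node 16 (.node 8 (.node 4 (.node 2 (.node 1 (.one ⟨14326, 2, 4⟩) (.one ⟨2078, 1, 3⟩)) (.node 1 (.one ⟨13931, 3, 4⟩) (.one ⟨6102, 4, 6⟩))) (.node 2 (.node 1 (.one ⟨7307, 3, 5⟩) (.one ⟨15618, 4, 2⟩)) (.node 1 (.one ⟨1855, 4, 5⟩) (.one ⟨1449, 1, 5⟩)))) (.node 4 (.node 2 (.node 1 (.one ⟨16021, 0, 5⟩) (.one ⟨13446, 0, 5⟩)) (.node 1 (.one ⟨12814, 4, 6⟩) (.one ⟨9403, 0, 5⟩))) (.node 2 (.node 1 (.one ⟨2636, 5, 5⟩) (.one ⟨11582, 1, 6⟩)) (.node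 1 (.one ⟨8838, 3, 6⟩) (.one ⟨16686, 3, 4⟩))))) (.node 8 (.node 4 (.node 2 (.node 1 (.one ⟨17138, 3, 6⟩) (.one ⟨2758, 1, 6⟩)) (.node 1 (.one ⟨7793, 4, 5⟩) (.one ⟨2815, 3, 4⟩))) (.node 2 (.node 1 (.one ⟨6569, 0, 4⟩) (.one ⟨8044, 4, 5⟩)) (.node 1 (.one ⟨11122, 3, 4⟩) (.one ⟨5075, 0, 5⟩)))) (.node 4 (.node 2 (.node 1 (.one ⟨6583, 3, 5⟩) (.one ⟨13832, 5, 4⟩)) (.node 1 (.one ⟨4347, 0, 3⟩) (.one ⟨5668, 0, 5⟩))) (.node 2 (.node 1 (.one ⟨16775, 4, 4⟩) (.one ⟨5291, 0, 5⟩)) (.node 1 (.one ⟨16408, 4, 5⟩) (.one ⟨1487, 2, 5⟩)))))))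
def par2_2_6 : Arr Par :=
  (.node 32 (.node 16 (.node 8 (.node 4 (.node 2 (.node 1 (.one ⟨1484, 3, 6⟩) (.one ⟨4399, 0, 6⟩)) (.node 1 (.one ⟨6155, 4, 4⟩) (.one ⟨7731, 4, 6⟩))) (.node 2 (.node 1 (.one ⟨10284, 2, 6⟩) (.one ⟨13928, 3, 4⟩)) (.node 1 (.one ⟨2634, 5, 5⟩) (.one ⟨3931, 0, 6⟩)))) (.node 4 (.node 2 (.node 1 (.one ⟨1947, 4, 5⟩) (.one ⟨7541, 2, 5⟩)) (.node 1 (.one ⟨12132, 4, 5⟩) (.one ⟨9533, 2, 6⟩))) (.node 2 (.node 1 (.one ⟨763, 0, 5⟩) (.one ⟨13517, 5, 5⟩)) (.node 1 (.one ⟨12513, 4, 5⟩) (.one ⟨13049, 5, 5⟩))))) (.node 8 (.node 4 (.node 2 (.node 1 (.one ⟨7886, 1, 6⟩) (.one ⟨13045, 5, 5⟩)) (.node 1 (.one ⟨8210, 2, 5⟩) (.one ⟨12598, 4, 5⟩))) (.node 2 (.node 1 (.one ⟨8821, 4, 5⟩) (.one ⟨3004, 0, 5⟩)) (.node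 1 (.one ⟨14322, 4, 4⟩) (.one ⟨15711, 1, 4⟩)))) (.node 4 (.node 2 (.node 1 (.one ⟨13913, 2, 3⟩) (.one ⟨3122, 5, 4⟩)) (.node 1 (.one ⟨16880, 1, 4⟩) (.one ⟨9105, 5, 5⟩))) (.node 2 (.node 1 (.one ⟨12909, 0, 5⟩) (.one ⟨7441, 2, 5⟩)) (.node 1 (.one ⟨7435, 5, 2⟩) (.one ⟨14947, 0, 4⟩)))))) (.node 16 (.node 8 (.node 4 (.node 2 (.node 1 (.one ⟨882, 2, 5⟩) (.one ⟨4961, 4, 6⟩)) (.node 1 (.one ⟨16891, 3, 5⟩) (.one ⟨15385, 5, 4⟩))) (.node 2 (.node 1 (.one ⟨1862, 4, 6⟩) (.one ⟨5279, 3, 5⟩)) (.node 1 (.one ⟨6286, 4, 6⟩) (.one ⟨13666, 3, 6⟩)))) (.node 4 (.node 2 (.node 1 (.one ⟨2101, 4, 4⟩) (.one ⟨15793, 5, 5⟩)) (.node 1 (.one ⟨16579, 2, 7⟩) (.one ⟨1973, 4, 5⟩))) (.node 2 (.node 1 (.one ⟨14675, 5, 6⟩) (.one ⟨5668, 3, 5⟩)) (.node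 1 (.one ⟨16810, 2, 3⟩) (.one ⟨11430, 5, 5⟩))))) (.node 8 (.node 4 (.node 2 (.node 1 (.one ⟨9157, 5, 6⟩) (.one ⟨13200, 3, 5⟩)) (.node 1 (.one ⟨3373, 5, 5⟩) (.one ⟨15860, 5, 3⟩))) (.node 2 (.node 1 (.one ⟨16876, 5, 5⟩) (.one ⟨14276, 2, 2⟩)) (.node 1 (.one ⟨11442, 1, 6⟩) (.one ⟨5131, 4, 6⟩)))) (.node 4 (.node 2 (.node 1 (.one ⟨14477, 0, 6⟩) (.one ⟨5230, 2, 5⟩)) (.node 1 (.one ⟨7357, 5, 5⟩) (.one ⟨11558, 5, 6⟩))) (.node 2 (.node 1 (.one ⟨10100, 5, 6⟩) (.one ⟨4540, 1, 5⟩)) (.node 1 (.one ⟨1559, 4, 5⟩) (.one ⟨15239, 0, 6⟩)))))))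
def par2_2_7 : Arr Par :=
  (.node 32 (.node 16 (.node 8 (.node 4 (.node 2 (.node 1 (.one ⟨4521, 4, 6⟩) (.one ⟨870, 4, 6⟩)) (.node 1 (.one ⟨9633, 0, 4⟩) (.one ⟨14255, 2, 5⟩))) (.node 2 (.node 1 (.one ⟨2334, 2, 5⟩) (.one ⟨9526, 3, 6⟩)) (.node 1 (.one ⟨9829, 4, 5⟩) (.one ⟨16403, 1, 5⟩)))) (.node 4 (.node 2 (.node 1 (.one ⟨6203, 4, 5⟩) (.one ⟨12729, 5, 5⟩)) (.node 1 (.one ⟨11116, 2, 6⟩) (.one ⟨15379, 2, 5⟩))) (.node 2 (.node 1 (.one ⟨8664, 4, 5⟩) (.one ⟨1969, 1, 5⟩)) (.node 1 (.one ⟨5455, 4, 5⟩) (.one ⟨8770, 1, 5⟩))))) (.node 8 (.node 4 (.node 2 (.node 1 (.one ⟨3390, 4, 6⟩) (.one ⟨1188, 4, 5⟩)) (.node 1 (.one ⟨78, 3, 6⟩) (.one ⟨585, 3, 5⟩))) (.node 2 (.node 1 (.one ⟨11548, 2, 6⟩) (.one ⟨611, 3, 5⟩)) (.node 1 (.one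 ⟨1089, 1, 5⟩) (.one ⟨13890, 2, 6⟩)))) (.node 4 (.node 2 (.node 1 (.one ⟨12792, 1, 4⟩) (.one ⟨4638, 5, 5⟩)) (.node 1 (.one ⟨14612, 2, 5⟩) (.one ⟨15455, 3, 5⟩))) (.node 2 (.node 1 (.one ⟨11584, 5, 5⟩) (.one ⟨10284, 0, 6⟩)) (.node 1 (.one ⟨13115, 3, 3⟩) (.one ⟨7058, 0, 2⟩)))))) (.node 16 (.node 8 (.node 4 (.node 2 (.node 1 (.one ⟨2196, 2, 4⟩) (.one ⟨11053, 2, 4⟩)) (.node 1 (.one ⟨3145, 4, 6⟩) (.one ⟨12584, 2, 5⟩))) (.node 2 (.node 1 (.one ⟨6694, 0, 6⟩) (.one ⟨12506, 1, 6⟩)) (.node 1 (.one ⟨797, 4, 5⟩) (.one ⟨11419, 0, 6⟩)))) (.node 4 (.node 2 (.node 1 (.one ⟨7743, 5, 5⟩) (.one ⟨209, 1, 5⟩)) (.node 1 (.one ⟨12510, 4, 5⟩) (.one ⟨16884, 4, 5⟩))) (.node 2 (.node 1 (.one ⟨1664, 2, 4⟩) (.one ⟨13183, 3, 5⟩)) (.node 1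 (.one ⟨3383, 4, 5⟩) (.one ⟨16400, 3, 5⟩))))) (.node 8 (.node 4 (.node 2 (.node 1 (.one ⟨4522, 3, 6⟩) (.one ⟨1428, 0, 5⟩)) (.node 1 (.one ⟨1605, 1, 4⟩) (.one ⟨13194, 5, 6⟩))) (.node 2 (.node 1 (.one ⟨9053, 1, 4⟩) (.one ⟨4475, 2, 5⟩)) (.node 1 (.one ⟨14273, 2, 5⟩) (.one ⟨2579, 4, 6⟩)))) (.node 4 (.node 2 (.node 1 (.one ⟨12815, 3, 5⟩) (.one ⟨11482, 5, 6⟩)) (.node 1 (.one ⟨11930, 5, 6⟩) (.one ⟨5062, 5, 6⟩))) (.node 2 (.node 1 (.one ⟨13421, 4, 6⟩) (.one ⟨8149, 4, 5⟩)) (.node 1 (.one ⟨15651, 5, 4⟩) (.one ⟨3828, 3, 6⟩)))))))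
def par2_2_8 : Arr Par :=
  (.node 32 (.node 16 (.node 8 (.node 4 (.node 2 (.node 1 (.one ⟨16123, 0, 6⟩) (.one ⟨8052, 5, 5⟩)) (.node 1 (.one ⟨3734, 2, 4⟩) (.one ⟨1051, 4, 3⟩))) (.node 2 (.node 1 (.one ⟨1802, 2, 5⟩) (.one ⟨3995, 4, 6⟩)) (.node 1 (.one ⟨6915, 4, 6⟩) (.one ⟨10692, 1, 3⟩)))) (.node 4 (.node 2 (.node 1 (.one ⟨2659, 4, 4⟩) (.one ⟨2033, 2, 3⟩)) (.node 1 (.one ⟨14389, 0, 6⟩) (.one ⟨10339, 1, 2⟩))) (.node 2 (.node 1 (.one ⟨2687, 1, 2⟩) (.one ⟨2964, 4, 3⟩)) (.node 1 (.one ⟨7683, 1, 5⟩) (.one ⟨666, 4, 5⟩))))) (.node 8 (.node 4 (.node 2 (.node 1 (.one ⟨1842, 2, 6⟩) (.one ⟨15546, 3, 4⟩)) (.node 1 (.one ⟨13399, 2, 6⟩) (.one ⟨11528, 3, 5⟩))) (.node 2 (.node 1 (.one ⟨1298, 1, 6⟩) (.one ⟨5849, 3, 5⟩)) (.node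 1 (.one ⟨5820, 3, 5⟩) (.one ⟨14061, 4, 5⟩)))) (.node 4 (.node 2 (.node 1 (.one ⟨6711, 2, 6⟩) (.one ⟨5396, 4, 6⟩)) (.node 1 (.one ⟨13642, 5, 4⟩) (.one ⟨7765, 3, 6⟩))) (.node 2 (.node 1 (.one ⟨16530, 5, 5⟩) (.one ⟨10513, 5, 5⟩)) (.node 1 (.one ⟨11815, 1, 5⟩) (.one ⟨5043, 2, 5⟩)))))) (.node 16 (.node 8 (.node 4 (.node 2 (.node 1 (.one ⟨13059, 4, 6⟩) (.one ⟨254, 4, 5⟩)) (.node 1 (.one ⟨7882, 2, 5⟩) (.one ⟨7597, 2, 4⟩))) (.node 2 (.node 1 (.one ⟨16338, 2, 6⟩) (.one ⟨2007, 4, 5⟩)) (.node 1 (.one ⟨10769, 3, 5⟩) (.one ⟨538, 5, 5⟩)))) (.node 4 (.node 2 (.node 1 (.one ⟨9548, 1, 5⟩) (.one ⟨315, 4, 4⟩)) (.node 1 (.one ⟨6721, 2, 6⟩) (.one ⟨9105, 3, 5⟩))) (.node 2 (.node 1 (.one ⟨5977, 0, 6⟩) (.one ⟨16673, 0, 5⟩)) (.node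 1 (.one ⟨9124, 3, 6⟩) (.one ⟨7013, 1, 5⟩))))) (.node 8 (.node 4 (.node 2 (.node 1 (.one ⟨3044, 2, 4⟩) (.one ⟨4324, 2, 6⟩)) (.node 1 (.one ⟨6765, 5, 5⟩) (.one ⟨13488, 5, 5⟩))) (.node 2 (.node 1 (.one ⟨13935, 3, 4⟩) (.one ⟨7578, 2, 6⟩)) (.node 1 (.one ⟨6918, 5, 4⟩) (.one ⟨10718, 1, 4⟩)))) (.node 4 (.node 2 (.node 1 (.one ⟨11834, 2, 6⟩) (.one ⟨8252, 0, 5⟩)) (.node 1 (.one ⟨5973, 5, 4⟩) (.one ⟨5040, 2, 5⟩))) (.node 2 (.node 1 (.one ⟨2638, 1, 4⟩) (.one ⟨12600, 2, 5⟩)) (.node 1 (.one ⟨3819, 5, 5⟩) (.one ⟨556, 1, 5⟩)))))))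
def par2_2_9 : Arr Par :=
  (.node 32 (.node 16 (.node 8 (.node 4 (.node 2 (.node 1 (.one ⟨16949, 1, 5⟩) (.one ⟨1077, 4, 6⟩)) (.node 1 (.one ⟨12524, 5, 4⟩) (.one ⟨13832, 4, 4⟩))) (.node 2 (.node 1 (.one ⟨16944, 1, 6⟩) (.one ⟨5820, 0, 5⟩)) (.node 1 (.one ⟨309, 1, 5⟩) (.one ⟨6519, 0, 3⟩)))) (.node 4 (.node 2 (.node 1 (.one ⟨4426, 1, 4⟩) (.one ⟨3990, 1, 5⟩)) (.node 1 (.one ⟨12770, 3, 4⟩) (.one ⟨13718, 2, 4⟩))) (.node 2 (.node 1 (.one ⟨7522, 4, 4⟩) (.one ⟨6179, 2, 6⟩)) (.node 1 (.one ⟨2964, 0, 3⟩) (.one ⟨2384, 0, 1⟩))))) (.node 8 (.node 4 (.node 2 (.node 1 (.one ⟨7226, 2, 6⟩) (.one ⟨13349, 2, 3⟩)) (.node 1 (.one ⟨7969, 4, 6⟩) (.one ⟨6630, 1, 6⟩))) (.node 2 (.node 1 (.one ⟨10773, 0, 4⟩) (.one ⟨11354, 1, 5⟩)) (.node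 1 (.one ⟨15761, 1, 6⟩) (.one ⟨11122, 0, 4⟩)))) (.node 4 (.node 2 (.node 1 (.one ⟨6984, 5, 7⟩) (.one ⟨11692, 2, 4⟩)) (.node 1 (.one ⟨14228, 0, 6⟩) (.one ⟨16253, 2, 4⟩))) (.node 2 (.node 1 (.one ⟨1346, 5, 6⟩) (.one ⟨5274, 0, 6⟩)) (.node 1 (.one ⟨7007, 5, 6⟩) (.one ⟨16686, 0, 4⟩)))))) (.node 16 (.node 8 (.node 4 (.node 2 (.node 1 (.one ⟨12352, 1, 5⟩) (.one ⟨6863, 4, 6⟩)) (.node 1 (.one ⟨9018, 4, 4⟩) (.one ⟨12008, 0, 3⟩))) (.node 2 (.node 1 (.one ⟨12752, 1, 4⟩) (.one ⟨2076, 4, 4⟩)) (.node 1 (.one ⟨11528, 1, 5⟩) (.one ⟨16914, 3, 6⟩)))) (.node 4 (.node 2 (.node 1 (.one ⟨6463, 4, 6⟩) (.one ⟨7793, 5, 5⟩)) (.node 1 (.one ⟨10865, 4, 6⟩) (.one ⟨8507, 0, 6⟩))) (.node 2 (.node 1 (.one ⟨5230, 3, 5⟩) (.one ⟨5433, 0, 4⟩)) (.node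 1 (.one ⟨5166, 5, 6⟩) (.one ⟨5784, 1, 5⟩))))) (.node 8 (.node 4 (.node 2 (.node 1 (.one ⟨15624, 4, 6⟩) (.one ⟨14977, 3, 5⟩)) (.node 1 (.one ⟨9676, 2, 4⟩) (.one ⟨6595, 1, 6⟩))) (.node 2 (.node 1 (.one ⟨9940, 2, 4⟩) (.one ⟨8329, 0, 3⟩)) (.node 1 (.one ⟨2063, 1, 5⟩) (.one ⟨15369, 2, 5⟩)))) (.node 4 (.node 2 (.node 1 (.one ⟨2812, 1, 6⟩) (.one ⟨10584, 4, 5⟩)) (.node 1 (.one ⟨7822, 1, 5⟩) (.one ⟨12907, 2, 4⟩))) (.node 2 (.node 1 (.one ⟨10978, 4, 5⟩) (.one ⟨7088, 5, 4⟩)) (.node 1 (.one ⟨11673, 1, 5⟩) (.one ⟨2384, 1, 1⟩)))))))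
def par2_2_10 : Arr Par :=
  (.node 32 (.node 16 (.node 8 (.node 4 (.node 2 (.node 1 (.one ⟨6458, 4, 5⟩) (.one ⟨13242, 0, 4⟩)) (.node 1 (.one ⟨15184, 2, 5⟩) (.one ⟨14492, 1, 6⟩))) (.node 2 (.node 1 (.one ⟨7725, 4, 5⟩) (.one ⟨6008, 0, 5⟩)) (.node 1 (.one ⟨14782, 2, 3⟩) (.one ⟨8165, 2, 5⟩)))) (.node 4 (.node 2 (.node 1 (.one ⟨12192, 0, 5⟩) (.one ⟨14246, 4, 4⟩)) (.node 1 (.one ⟨1089, 0, 5⟩) (.one ⟨16867, 4, 6⟩))) (.node 2 (.node 1 (.one ⟨3394, 2, 5⟩) (.one ⟨7201, 3, 5⟩)) (.node 1 (.one ⟨8935, 4, 6⟩) (.one ⟨13152, 4, 5⟩))))) (.node 8 (.node 4 (.node 2 (.node 1 (.one ⟨14772, 1, 5⟩) (.one ⟨8507, 1, 6⟩)) (.node 1 (.one ⟨10501, 2, 5⟩) (.one ⟨8475, 5, 3⟩))) (.node 2 (.node 1 (.one ⟨10011, 4, 5⟩) (.one ⟨13726, 0, 5⟩))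 (.node 1 (.one ⟨16816, 5, 6⟩) (.one ⟨1544, 5, 4⟩)))) (.node 4 (.node 2 (.node 1 (.one ⟨15579, 5, 5⟩) (.one ⟨3377, 0, 4⟩)) (.node 1 (.one ⟨15144, 1, 6⟩) (.one ⟨6151, 1, 4⟩))) (.node 2 (.node 1 (.one ⟨15992, 2, 5⟩) (.one ⟨5831, 2, 5⟩)) (.node 1 (.one ⟨12088, 1, 6⟩) (.one ⟨8636, 3, 6⟩)))))) (.node 16 (.node 8 (.node 4 (.node 2 (.node 1 (.one ⟨11837, 5, 6⟩) (.one ⟨13167, 1, 5⟩)) (.node 1 (.one ⟨2999, 0, 5⟩) (.one ⟨14669, 5, 6⟩))) (.node 2 (.node 1 (.one ⟨2737, 4, 5⟩) (.one ⟨10841, 4, 5⟩)) (.node 1 (.one ⟨17125, 5, 5⟩) (.one ⟨2384, 3, 1⟩)))) (.node 4 (.node 2 (.node 1 (.one ⟨19, 0, 0⟩) (.one ⟨5844, 1, 3⟩)) (.node 1 (.one ⟨2311, 1, 5⟩) (.one ⟨5205, 0, 3⟩))) (.node 2 (.node 1 (.one ⟨4071, 2, 5⟩) (.one ⟨8758, 0, 3⟩))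 (.node 1 (.one ⟨4071, 1, 5⟩) (.one ⟨16151, 1, 5⟩))))) (.node 8 (.node 4 (.node 2 (.node 1 (.one ⟨6783, 5, 6⟩) (.one ⟨1548, 1, 4⟩)) (.node 1 (.one ⟨5922, 3, 4⟩) (.one ⟨1474, 3, 4⟩))) (.node 2 (.node 1 (.one ⟨10455, 1, 5⟩) (.one ⟨16048, 4, 6⟩)) (.node 1 (.one ⟨7848, 5, 4⟩) (.one ⟨1971, 3, 5⟩)))) (.node 4 (.node 2 (.node 1 (.one ⟨1656, 1, 5⟩) (.one ⟨10984, 3, 4⟩)) (.node 1 (.one ⟨9493, 3, 6⟩) (.one ⟨16794, 1, 6⟩))) (.node 2 (.node 1 (.one ⟨5022, 1, 4⟩) (.one ⟨8430, 5, 5⟩)) (.node 1 (.one ⟨13770, 1, 5⟩) (.one ⟨7157, 4, 2⟩)))))))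
def par2_2_11 : Arr Par :=
  (.node 32 (.node 16 (.node 8 (.node 4 (.node 2 (.node 1 (.one ⟨5783, 5, 1⟩) (.one ⟨7603, 2, 5⟩)) (.node 1 (.one ⟨3816, 1, 4⟩) (.one ⟨233, 3, 4⟩))) (.node 2 (.node 1 (.one ⟨6339, 0, 6⟩) (.one ⟨11226, 0, 5⟩)) (.node 1 (.one ⟨10842, 5, 5⟩) (.one ⟨15769, 1, 6⟩)))) (.node 4 (.node 2 (.node 1 (.one ⟨9573, 2, 6⟩) (.one ⟨11522, 3, 6⟩)) (.node 1 (.one ⟨8877, 5, 6⟩) (.one ⟨8070, 0, 5⟩))) (.node 2 (.node 1 (.one ⟨7510, 5, 6⟩) (.one ⟨22, 5, 6⟩)) (.node 1 (.one ⟨8874, 4, 5⟩) (.one ⟨3109, 4, 5⟩))))) (.node 8 (.node 4 (.node 2 (.node 1 (.one ⟨396, 3, 5⟩) (.one ⟨3882, 5, 5⟩)) (.node 1 (.one ⟨4240, 2, 4⟩) (.one ⟨184, 1, 6⟩))) (.node 2 (.node 1 (.one ⟨6341, 0, 5⟩) (.one ⟨11692, 4, 4⟩)) (.node 1 (.one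 ⟨3676, 5, 5⟩) (.one ⟨12789, 4, 6⟩)))) (.node 4 (.node 2 (.node 1 (.one ⟨16133, 1, 6⟩) (.one ⟨13973, 4, 6⟩)) (.node 1 (.one ⟨10109, 0, 5⟩) (.one ⟨6416, 2, 4⟩))) (.node 2 (.node 1 (.one ⟨7291, 2, 5⟩) (.one ⟨3848, 5, 4⟩)) (.node 1 (.one ⟨12259, 2, 5⟩) (.one ⟨9181, 4, 5⟩)))))) (.node 16 (.node 8 (.node 4 (.node 2 (.node 1 (.one ⟨592, 3, 5⟩) (.one ⟨16385, 5, 4⟩)) (.node 1 (.one ⟨10496, 0, 5⟩) (.one ⟨11260, 0, 6⟩))) (.node 2 (.node 1 (.one ⟨4987, 4, 5⟩) (.one ⟨9727, 5, 6⟩)) (.node 1 (.one ⟨13729, 5, 5⟩) (.one ⟨4747, 0, 4⟩)))) (.node 4 (.node 2 (.node 1 (.one ⟨8668, 5, 3⟩) (.one ⟨7003, 0, 6⟩)) (.node 1 (.one ⟨8007, 0, 3⟩) (.one ⟨2424, 4, 6⟩))) (.node 2 (.node 1 (.one ⟨2636, 4, 5⟩) (.one ⟨204, 5, 5⟩)) (.node 1 (.one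 ⟨9175, 2, 6⟩) (.one ⟨9065, 4, 3⟩))))) (.node 8 (.node 4 (.node 2 (.node 1 (.one ⟨16034, 0, 4⟩) (.one ⟨7864, 0, 6⟩)) (.node 1 (.one ⟨12696, 0, 5⟩) (.one ⟨8171, 5, 6⟩))) (.node 2 (.node 1 (.one ⟨9796, 2, 6⟩) (.one ⟨5734, 4, 5⟩)) (.node 1 (.one ⟨10043, 3, 6⟩) (.one ⟨9283, 4, 5⟩)))) (.node 4 (.node 2 (.node 1 (.one ⟨688, 2, 5⟩) (.one ⟨5852, 5, 5⟩)) (.node 1 (.one ⟨17163, 0, 6⟩) (.one ⟨17159, 0, 5⟩))) (.node 2 (.node 1 (.one ⟨2877, 1, 5⟩) (.one ⟨14713, 4, 5⟩)) (.node 1 (.one ⟨1054, 0, 5⟩) (.one ⟨15436, 1, 3⟩)))))))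
def par2_2_12 : Arr Par :=
  (.node 32 (.node 16 (.node 8 (.node 4 (.node 2 (.node 1 (.one ⟨8399, 4, 4⟩) (.one ⟨14447, 1, 2⟩)) (.node 1 (.one ⟨8692, 1, 5⟩) (.one ⟨8230, 0, 3⟩))) (.node 2 (.node 1 (.one ⟨1474, 2, 4⟩) (.one ⟨7890, 1, 6⟩)) (.node 1 (.one ⟨999, 0, 5⟩) (.one ⟨8105, 1, 5⟩)))) (.node 4 (.node 2 (.node 1 (.one ⟨15886, 4, 4⟩) (.one ⟨1474, 0, 4⟩)) (.node 1 (.one ⟨10163, 0, 6⟩) (.one ⟨558, 2, 6⟩))) (.node 2 (.node 1 (.one ⟨3686, 1, 5⟩) (.one ⟨15660, 5, 6⟩)) (.node 1 (.one ⟨3312, 5, 4⟩) (.one ⟨14972, 1, 4⟩))))) (.node 8 (.node 4 (.node 2 (.node 1 (.one ⟨9104, 0, 4⟩) (.one ⟨9367, 0, 5⟩)) (.node 1 (.one ⟨2130, 4, 6⟩) (.one ⟨3180, 5, 4⟩))) (.node 2 (.node 1 (.one ⟨6347, 5, 6⟩) (.one ⟨8768, 2, 6⟩)) (.node 1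 (.one ⟨16478, 4, 4⟩) (.one ⟨6891, 3, 5⟩)))) (.node 4 (.node 2 (.node 1 (.one ⟨13508, 5, 5⟩) (.one ⟨5489, 5, 6⟩)) (.node 1 (.one ⟨2768, 5, 6⟩) (.one ⟨4278, 5, 6⟩))) (.node 2 (.node 1 (.one ⟨10670, 2, 4⟩) (.one ⟨9746, 5, 5⟩)) (.node 1 (.one ⟨15956, 3, 5⟩) (.one ⟨11291, 3, 5⟩)))))) (.node 16 (.node 8 (.node 4 (.node 2 (.node 1 (.one ⟨3126, 1, 4⟩) (.one ⟨2489, 0, 6⟩)) (.node 1 (.one ⟨66, 2, 4⟩) (.one ⟨16991, 2, 6⟩))) (.node 2 (.node 1 (.one ⟨9279, 2, 5⟩) (.one ⟨11440, 3, 5⟩)) (.node 1 (.one ⟨14363, 4, 5⟩) (.one ⟨9587, 2, 6⟩)))) (.node 4 (.node 2 (.node 1 (.one ⟨13078, 4, 5⟩) (.one ⟨1740, 5, 6⟩)) (.node 1 (.one ⟨12279, 2, 3⟩) (.one ⟨7537, 5, 6⟩))) (.node 2 (.node 1 (.one ⟨16150, 5, 6⟩) (.one ⟨8267, 5, 4⟩)) (.node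 1 (.one ⟨9352, 3, 5⟩) (.one ⟨8164, 0, 5⟩))))) (.node 8 (.node 4 (.node 2 (.node 1 (.one ⟨5817, 1, 3⟩) (.one ⟨952, 0, 5⟩)) (.node 1 (.one ⟨4869, 5, 4⟩) (.one ⟨11735, 1, 5⟩))) (.node 2 (.node 1 (.one ⟨13690, 4, 4⟩) (.one ⟨3614, 4, 6⟩)) (.node 1 (.one ⟨1803, 5, 4⟩) (.one ⟨13722, 4, 5⟩)))) (.node 4 (.node 2 (.node 1 (.one ⟨4175, 3, 3⟩) (.one ⟨8366, 5, 5⟩)) (.node 1 (.one ⟨5973, 0, 4⟩) (.one ⟨13726, 4, 5⟩))) (.node 2 (.node 1 (.one ⟨13724, 4, 5⟩) (.one ⟨496, 1, 4⟩)) (.node 1 (.one ⟨3820, 5, 6⟩) (.one ⟨12412, 4, 4⟩)))))))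
def par2_2_13 : Arr Par :=
  (.node 32 (.node 16 (.node 8 (.node 4 (.node 2 (.node 1 (.one ⟨12610, 2, 6⟩) (.one ⟨5953, 3, 5⟩)) (.node 1 (.one ⟨3433, 4, 5⟩) (.one ⟨5448, 3, 6⟩))) (.node 2 (.node 1 (.one ⟨7173, 1, 6⟩) (.one ⟨14715, 2, 5⟩)) (.node 1 (.one ⟨2145, 5, 5⟩) (.one ⟨12423, 0, 5⟩)))) (.node 4 (.node 2 (.node 1 (.one ⟨4514, 4, 4⟩) (.one ⟨2166, 5, 4⟩)) (.node 1 (.one ⟨9739, 5, 6⟩) (.one ⟨8986, 2, 5⟩))) (.node 2 (.node 1 (.one ⟨5196, 1, 6⟩) (.one ⟨2437, 2, 5⟩)) (.node 1 (.one ⟨11182, 0, 4⟩) (.one ⟨14521, 2, 5⟩))))) (.node 8 (.node 4 (.node 2 (.node 1 (.one ⟨11733, 4, 6⟩) (.one ⟨982, 5, 5⟩)) (.node 1 (.one ⟨487, 5, 5⟩) (.one ⟨4383, 3, 5⟩))) (.node 2 (.node 1 (.one ⟨16701, 5, 6⟩) (.one ⟨14715, 0, 5⟩)) (.node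 1 (.one ⟨9358, 4, 6⟩) (.one ⟨590, 5, 3⟩)))) (.node 4 (.node 2 (.node 1 (.one ⟨12895, 0, 6⟩) (.one ⟨4374, 3, 5⟩)) (.node 1 (.one ⟨16309, 0, 5⟩) (.one ⟨7865, 4, 5⟩))) (.node 2 (.node 1 (.one ⟨16837, 2, 4⟩) (.one ⟨15716, 2, 5⟩)) (.node 1 (.one ⟨15182, 4, 6⟩) (.one ⟨10134, 1, 6⟩)))))) (.node 16 (.node 8 (.node 4 (.node 2 (.node 1 (.one ⟨4047, 3, 5⟩) (.one ⟨9672, 4, 5⟩)) (.node 1 (.one ⟨16126, 2, 6⟩) (.one ⟨14610, 0, 6⟩))) (.node 2 (.node 1 (.one ⟨6585, 1, 6⟩) (.one ⟨1972, 3, 6⟩)) (.node 1 (.one ⟨16948, 5, 6⟩) (.one ⟨14695, 5, 6⟩)))) (.node 4 (.node 2 (.node 1 (.one ⟨13938, 1, 6⟩) (.one ⟨4102, 4, 5⟩)) (.node 1 (.one ⟨10880, 4, 5⟩) (.one ⟨10509, 5, 5⟩))) (.node 2 (.node 1 (.one ⟨13152, 5, 5⟩) (.one ⟨3957, 3, 5⟩))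 (.node 1 (.one ⟨1787, 5, 5⟩) (.one ⟨13745, 5, 4⟩))))) (.node 8 (.node 4 (.node 2 (.node 1 (.one ⟨2302, 5, 3⟩) (.one ⟨5342, 3, 5⟩)) (.node 1 (.one ⟨6353, 5, 6⟩) (.one ⟨13279, 3, 3⟩))) (.node 2 (.node 1 (.one ⟨3283, 2, 5⟩) (.one ⟨11593, 0, 5⟩)) (.node 1 (.one ⟨4451, 2, 6⟩) (.one ⟨440, 0, 6⟩)))) (.node 4 (.node 2 (.node 1 (.one ⟨6463, 2, 6⟩) (.one ⟨16652, 4, 5⟩)) (.node 1 (.one ⟨10307, 0, 6⟩) (.one ⟨9514, 4, 5⟩))) (.node 2 (.node 1 (.one ⟨289, 2, 6⟩) (.one ⟨4306, 5, 5⟩)) (.node 1 (.one ⟨11707, 5, 6⟩) (.one ⟨6492, 3, 3⟩)))))))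
def par2_2_14 : Arr Par :=
  (.node 32 (.node 16 (.node 8 (.node 4 (.node 2 (.node 1 (.one ⟨14318, 2, 6⟩) (.one ⟨11289, 2, 4⟩)) (.node 1 (.one ⟨2862, 2, 6⟩) (.one ⟨12041, 3, 4⟩))) (.node 2 (.node 1 (.one ⟨6708, 5, 5⟩) (.one ⟨15760, 5, 6⟩)) (.node 1 (.one ⟨10759, 4, 1⟩) (.one ⟨5715, 2, 4⟩)))) (.node 4 (.node 2 (.node 1 (.one ⟨836, 1, 4⟩) (.one ⟨9053, 0, 4⟩)) (.node 1 (.one ⟨13764, 5, 6⟩) (.one ⟨3413, 2, 5⟩))) (.node 2 (.node 1 (.one ⟨11306, 2, 5⟩) (.one ⟨123, 2, 4⟩)) (.node 1 (.one ⟨10213, 2, 5⟩) (.one ⟨9796, 1, 6⟩))))) (.node 8 (.node 4 (.node 2 (.node 1 (.one ⟨4049, 1, 1⟩) (.one ⟨9105, 2, 5⟩)) (.node 1 (.one ⟨5183, 3, 3⟩) (.one ⟨4350, 4, 3⟩))) (.node 2 (.node 1 (.one ⟨7435, 2, 2⟩) (.one ⟨12471, 1, 4⟩)) (.node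 1 (.one ⟨5195, 4, 6⟩) (.one ⟨11855, 5, 6⟩)))) (.node 4 (.node 2 (.node 1 (.one ⟨11743, 0, 6⟩) (.one ⟨5252, 3, 5⟩)) (.node 1 (.one ⟨13938, 3, 6⟩) (.one ⟨9221, 2, 4⟩))) (.node 2 (.node 1 (.one ⟨4064, 4, 4⟩) (.one ⟨12773, 2, 5⟩)) (.node 1 (.one ⟨13871, 3, 6⟩) (.one ⟨6273, 1, 5⟩)))))) (.node 16 (.node 8 (.node 4 (.node 2 (.node 1 (.one ⟨8729, 4, 5⟩) (.one ⟨12257, 2, 6⟩)) (.node 1 (.one ⟨14385, 4, 5⟩) (.one ⟨2711, 4, 5⟩))) (.node 2 (.node 1 (.one ⟨7291, 0, 5⟩) (.one ⟨1158, 0, 4⟩)) (.node 1 (.one ⟨9697, 2, 5⟩) (.one ⟨2527, 4, 3⟩)))) (.node 4 (.node 2 (.node 1 (.one ⟨6034, 4, 6⟩) (.one ⟨6271, 4, 4⟩)) (.node 1 (.one ⟨17003, 3, 6⟩) (.one ⟨16383, 4, 6⟩))) (.node 2 (.node 1 (.one ⟨16894, 2, 6⟩) (.one ⟨11983, 4, 5⟩)) (.node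 1 (.one ⟨12696, 5, 5⟩) (.one ⟨8156, 1, 6⟩))))) (.node 8 (.node 4 (.node 2 (.node 1 (.one ⟨7807, 2, 5⟩) (.one ⟨8888, 4, 4⟩)) (.node 1 (.one ⟨16421, 5, 5⟩) (.one ⟨14726, 4, 6⟩))) (.node 2 (.node 1 (.one ⟨6625, 5, 4⟩) (.one ⟨13378, 0, 6⟩)) (.node 1 (.one ⟨161, 2, 4⟩) (.one ⟨9270, 5, 4⟩)))) (.node 4 (.node 2 (.node 1 (.one ⟨16031, 5, 5⟩) (.one ⟨3804, 4, 6⟩)) (.node 1 (.one ⟨8238, 1, 5⟩) (.one ⟨14498, 5, 5⟩))) (.node 2 (.node 1 (.one ⟨13077, 1, 4⟩) (.one ⟨16256, 3, 5⟩)) (.node 1 (.one ⟨5319, 4, 5⟩) (.one ⟨1074, 3, 4⟩)))))))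
def par2_2_15 : Arr Par :=
  (.node 32 (.node 16 (.node 8 (.node 4 (.node 2 (.node 1 (.one ⟨1235, 5, 6⟩) (.one ⟨2558, 1, 5⟩)) (.node 1 (.one ⟨4878, 1, 6⟩) (.one ⟨14682, 4, 4⟩))) (.node 2 (.node 1 (.one ⟨203, 3, 5⟩) (.one ⟨11001, 4, 5⟩)) (.node 1 (.one ⟨4555, 5, 4⟩) (.one ⟨14536, 5, 5⟩)))) (.node 4 (.node 2 (.node 1 (.one ⟨1428, 3, 5⟩) (.one ⟨13593, 0, 5⟩)) (.node 1 (.one ⟨14395, 5, 5⟩) (.one ⟨4986, 1, 6⟩))) (.node 2 (.node 1 (.one ⟨15721, 5, 5⟩) (.one ⟨593, 3, 5⟩)) (.node 1 (.one ⟨13114, 4, 5⟩) (.one ⟨13343, 2, 4⟩))))) (.node 8 (.node 4 (.node 2 (.node 1 (.one ⟨15794, 2, 4⟩) (.one ⟨7560, 3, 6⟩)) (.node 1 (.one ⟨15303, 4, 5⟩) (.one ⟨13648, 2, 6⟩))) (.node 2 (.node 1 (.one ⟨5732, 1, 5⟩) (.one ⟨221, 4, 5⟩)) (.node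 1 (.one ⟨8969, 2, 6⟩) (.one ⟨2184, 5, 5⟩)))) (.node 4 (.node 2 (.node 1 (.one ⟨13213, 1, 5⟩) (.one ⟨7830, 2, 5⟩)) (.node 1 (.one ⟨12494, 5, 5⟩) (.one ⟨7015, 4, 6⟩))) (.node 2 (.node 1 (.one ⟨836, 5, 4⟩) (.one ⟨9788, 1, 6⟩)) (.node 1 (.one ⟨5736, 5, 6⟩) (.one ⟨9832, 2, 4⟩)))))) (.node 16 (.node 8 (.node 4 (.node 2 (.node 1 (.one ⟨9936, 3, 5⟩) (.one ⟨9490, 4, 6⟩)) (.node 1 (.one ⟨13240, 3, 6⟩) (.one ⟨17150, 4, 6⟩))) (.node 2 (.node 1 (.one ⟨8475, 1, 3⟩) (.one ⟨1267, 3, 6⟩)) (.node 1 (.one ⟨10161, 5, 6⟩) (.one ⟨16006, 0, 5⟩)))) (.node 4 (.node 2 (.node 1 (.one ⟨7733, 5, 6⟩) (.one ⟨7728, 5, 5⟩)) (.node 1 (.one ⟨462, 5, 4⟩) (.one ⟨1008, 5, 6⟩))) (.node 2 (.node 1 (.one ⟨11824, 0, 5⟩) (.one ⟨8855, 2, 3⟩)) (.node 1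 (.one ⟨14821, 3, 6⟩) (.one ⟨9927, 4, 6⟩))))) (.node 8 (.node 4 (.node 2 (.node 1 (.one ⟨556, 5, 5⟩) (.one ⟨1220, 1, 5⟩)) (.node 1 (.one ⟨30, 5, 5⟩) (.one ⟨1265, 4, 4⟩))) (.node 2 (.node 1 (.one ⟨8314, 3, 5⟩) (.one ⟨16403, 3, 5⟩)) (.node 1 (.one ⟨420, 5, 5⟩) (.one ⟨5003, 5, 5⟩)))) (.node 4 (.node 2 (.node 1 (.one ⟨12180, 5, 5⟩) (.one ⟨3557, 3, 5⟩)) (.node 1 (.one ⟨7201, 1, 5⟩) (.one ⟨11261, 3, 6⟩))) (.node 2 (.node 1 (.one ⟨457, 5, 5⟩) (.one ⟨11661, 5, 6⟩)) (.node 1 (.one ⟨12617, 4, 6⟩) (.one ⟨14495, 5, 4⟩)))))))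
def par2_2 : Arr Par :=
  (.node 512 (.node 256 (.node 128 (.node 64 par2_2_0 par2_2_1) (.node 64 par2_2_2 par2_2_3)) (.node 128 (.node 64 par2_2_4 par2_2_5) (.node 64 par2_2_6 par2_2_7))) (.node 256 (.node 128 (.node 64 par2_2_8 par2_2_9) (.node 64 par2_2_10 par2_2_11)) (.node 128 (.node 64 par2_2_12 par2_2_13) (.node 64 par2_2_14 par2_2_15))))
def par2_3_0 : Arr Par :=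
  (.node 32 (.node 16 (.node 8 (.node 4 (.node 2 (.node 1 (.one ⟨3912, 2, 5⟩) (.one ⟨15294, 5, 6⟩)) (.node 1 (.one ⟨11235, 1, 5⟩) (.one ⟨12436, 0, 4⟩))) (.node 2 (.node 1 (.one ⟨8661, 1, 6⟩) (.one ⟨13780, 0, 5⟩)) (.node 1 (.one ⟨14068, 2, 5⟩) (.one ⟨6476, 4, 6⟩)))) (.node 4 (.node 2 (.node 1 (.one ⟨7252, 5, 6⟩) (.one ⟨10759, 5, 1⟩)) (.node 1 (.one ⟨14559, 5, 4⟩) (.one ⟨2379, 4, 5⟩))) (.node 2 (.node 1 (.one ⟨11052, 5, 5⟩) (.one ⟨2459, 4, 6⟩)) (.node 1 (.one ⟨1199, 5, 3⟩) (.one ⟨11842, 2, 4⟩))))) (.node 8 (.node 4 (.node 2 (.node 1 (.one ⟨6302, 5, 4⟩) (.one ⟨5004, 0, 5⟩)) (.node 1 (.one ⟨6273, 0, 5⟩) (.one ⟨1981, 3, 5⟩))) (.node 2 (.node 1 (.one ⟨12324, 4, 5⟩) (.one ⟨4951, 5, 5⟩)) (.node 1 (.one ⟨7648, 4, 5⟩)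 (.one ⟨3664, 5, 4⟩)))) (.node 4 (.node 2 (.node 1 (.one ⟨4346, 4, 4⟩) (.one ⟨2931, 5, 4⟩)) (.node 1 (.one ⟨6118, 4, 6⟩) (.one ⟨5295, 4, 6⟩))) (.node 2 (.node 1 (.one ⟨2437, 5, 5⟩) (.one ⟨6976, 4, 4⟩)) (.node 1 (.one ⟨5183, 1, 3⟩) (.one ⟨442, 5, 6⟩)))))) (.node 16 (.node 8 (.node 4 (.node 2 (.node 1 (.one ⟨12369, 5, 5⟩) (.one ⟨4010, 5, 4⟩)) (.node 1 (.one ⟨12462, 1, 2⟩) (.one ⟨6299, 5, 6⟩))) (.node 2 (.node 1 (.one ⟨12456, 1, 5⟩) (.one ⟨16253, 4, 4⟩)) (.node 1 (.one ⟨14541, 5, 4⟩) (.one ⟨13018, 5, 3⟩)))) (.node 4 (.node 2 (.node 1 (.one ⟨2215, 5, 2⟩) (.one ⟨6155, 5, 4⟩)) (.node 1 (.one ⟨6349, 2, 5⟩) (.one ⟨5787, 5, 4⟩))) (.node 2 (.node 1 (.one ⟨13517, 1, 5⟩) (.one ⟨10159, 4, 5⟩)) (.node 1 (.one ⟨13618, 0, 3⟩)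 (.one ⟨3102, 2, 4⟩))))) (.node 8 (.node 4 (.node 2 (.node 1 (.one ⟨2773, 4, 5⟩) (.one ⟨2832, 4, 5⟩)) (.node 1 (.one ⟨5183, 0, 3⟩) (.one ⟨13119, 1, 4⟩))) (.node 2 (.node 1 (.one ⟨11979, 5, 4⟩) (.one ⟨2879, 4, 5⟩)) (.node 1 (.one ⟨6981, 4, 3⟩) (.one ⟨12688, 2, 6⟩)))) (.node 4 (.node 2 (.node 1 (.one ⟨5063, 1, 6⟩) (.one ⟨13077, 5, 4⟩)) (.node 1 (.one ⟨5548, 4, 5⟩) (.one ⟨13078, 5, 5⟩))) (.node 2 (.node 1 (.one ⟨6473, 3, 3⟩) (.one ⟨8929, 1, 5⟩)) (.node 1 (.one ⟨13076, 5, 4⟩) (.one ⟨16854, 4, 6⟩)))))))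
def par2_3_1 : Arr Par :=
  (.node 32 (.node 16 (.node 8 (.node 4 (.node 2 (.node 1 (.one ⟨4059, 1, 5⟩) (.one ⟨5553, 5, 6⟩)) (.node 1 (.one ⟨7775, 1, 6⟩) (.one ⟨2007, 0, 5⟩))) (.node 2 (.node 1 (.one ⟨9463, 4, 5⟩) (.one ⟨14021, 4, 6⟩)) (.node 1 (.one ⟨5561, 5, 5⟩) (.one ⟨11317, 5, 5⟩)))) (.node 4 (.node 2 (.node 1 (.one ⟨5648, 3, 4⟩) (.one ⟨5639, 3, 5⟩)) (.node 1 (.one ⟨6236, 5, 5⟩) (.one ⟨12499, 1, 3⟩))) (.node 2 (.node 1 (.one ⟨11847, 3, 5⟩) (.one ⟨1703, 0, 6⟩)) (.node 1 (.one ⟨6994, 5, 5⟩) (.one ⟨11806, 4, 5⟩))))) (.node 8 (.node 4 (.node 2 (.node 1 (.one ⟨2697, 1, 5⟩) (.one ⟨14447, 2, 2⟩)) (.node 1 (.one ⟨9223, 1, 6⟩) (.one ⟨4271, 1, 5⟩))) (.node 2 (.node 1 (.one ⟨1822, 4, 5⟩) (.one ⟨11593, 1, 5⟩)) (.node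 1 (.one ⟨16656, 1, 5⟩) (.one ⟨16228, 3, 3⟩)))) (.node 4 (.node 2 (.node 1 (.one ⟨3421, 3, 3⟩) (.one ⟨1630, 0, 5⟩)) (.node 1 (.one ⟨8457, 4, 6⟩) (.one ⟨2927, 1, 5⟩))) (.node 2 (.node 1 (.one ⟨16613, 3, 5⟩) (.one ⟨10481, 4, 5⟩)) (.node 1 (.one ⟨12454, 2, 5⟩) (.one ⟨7768, 5, 5⟩)))))) (.node 16 (.node 8 (.node 4 (.node 2 (.node 1 (.one ⟨8491, 2, 5⟩) (.one ⟨6059, 5, 6⟩)) (.node 1 (.one ⟨9942, 5, 5⟩) (.one ⟨11717, 5, 5⟩))) (.node 2 (.node 1 (.one ⟨7869, 5, 4⟩) (.one ⟨8366, 1, 5⟩)) (.node 1 (.one ⟨8443, 2, 5⟩) (.one ⟨2850, 3, 5⟩)))) (.node 4 (.node 2 (.node 1 (.one ⟨10218, 0, 4⟩) (.one ⟨15020, 5, 6⟩)) (.node 1 (.one ⟨3036, 5, 5⟩) (.one ⟨372, 0, 5⟩))) (.node 2 (.node 1 (.one ⟨2405, 2, 3⟩) (.one ⟨8894, 5, 5⟩)) (.node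 1 (.one ⟨1245, 0, 5⟩) (.one ⟨12060, 3, 5⟩))))) (.node 8 (.node 4 (.node 2 (.node 1 (.one ⟨15131, 1, 5⟩) (.one ⟨3957, 0, 5⟩)) (.node 1 (.one ⟨15832, 4, 5⟩) (.one ⟨14976, 0, 5⟩))) (.node 2 (.node 1 (.one ⟨8784, 4, 5⟩) (.one ⟨17177, 5, 5⟩)) (.node 1 (.one ⟨6291, 5, 5⟩) (.one ⟨13556, 5, 6⟩)))) (.node 4 (.node 2 (.node 1 (.one ⟨7842, 5, 2⟩) (.one ⟨7386, 0, 6⟩)) (.node 1 (.one ⟨16791, 4, 5⟩) (.one ⟨15751, 3, 4⟩))) (.node 2 (.node 1 (.one ⟨9167, 4, 6⟩) (.one ⟨13561, 5, 4⟩)) (.node 1 (.one ⟨7826, 5, 4⟩) (.one ⟨1271, 2, 6⟩)))))))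
def par2_3_2 : Arr Par :=
  (.node 32 (.node 16 (.node 8 (.node 4 (.node 2 (.node 1 (.one ⟨10563, 5, 6⟩) (.one ⟨6470, 5, 4⟩)) (.node 1 (.one ⟨16527, 5, 6⟩) (.one ⟨10015, 3, 5⟩))) (.node 2 (.node 1 (.one ⟨8509, 1, 5⟩) (.one ⟨13702, 5, 5⟩)) (.node 1 (.one ⟨9048, 5, 5⟩) (.one ⟨16541, 2, 5⟩)))) (.node 4 (.node 2 (.node 1 (.one ⟨6593, 0, 6⟩) (.one ⟨1325, 2, 5⟩)) (.node 1 (.one ⟨7336, 5, 5⟩) (.one ⟨10042, 5, 5⟩))) (.node 2 (.node 1 (.one ⟨13077, 4, 4⟩) (.one ⟨10595, 5, 6⟩)) (.node 1 (.one ⟨13712, 3, 5⟩) (.one ⟨2692, 3, 6⟩))))) (.node 8 (.node 4 (.node 2 (.node 1 (.one ⟨1962, 5, 6⟩) (.one ⟨2626, 3, 5⟩)) (.node 1 (.one ⟨16180, 0, 4⟩) (.one ⟨16659, 1, 5⟩))) (.node 2 (.node 1 (.one ⟨11941, 4, 6⟩) (.one ⟨14970, 5, 5⟩))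 (.node 1 (.one ⟨1693, 5, 5⟩) (.one ⟨2784, 1, 6⟩)))) (.node 4 (.node 2 (.node 1 (.one ⟨13203, 0, 5⟩) (.one ⟨5953, 0, 5⟩)) (.node 1 (.one ⟨6034, 1, 6⟩) (.one ⟨8975, 3, 6⟩))) (.node 2 (.node 1 (.one ⟨11680, 1, 5⟩) (.one ⟨9045, 5, 4⟩)) (.node 1 (.one ⟨16157, 5, 5⟩) (.one ⟨11886, 5, 5⟩)))))) (.node 16 (.node 8 (.node 4 (.node 2 (.node 1 (.one ⟨9046, 5, 6⟩) (.one ⟨16507, 3, 5⟩)) (.node 1 (.one ⟨13183, 4, 5⟩) (.one ⟨7770, 3, 3⟩))) (.node 2 (.node 1 (.one ⟨5832, 5, 5⟩) (.one ⟨15953, 5, 4⟩)) (.node 1 (.one ⟨5529, 5, 5⟩) (.one ⟨13571, 5, 6⟩)))) (.node 4 (.node 2 (.node 1 (.one ⟨8545, 0, 5⟩) (.one ⟨5144, 5, 6⟩)) (.node 1 (.one ⟨1938, 1, 4⟩) (.one ⟨5603, 4, 5⟩))) (.node 2 (.node 1 (.one ⟨5423, 2, 6⟩) (.one ⟨2685, 3, 5⟩))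 (.node 1 (.one ⟨14103, 4, 5⟩) (.one ⟨10941, 2, 6⟩))))) (.node 8 (.node 4 (.node 2 (.node 1 (.one ⟨119, 5, 4⟩) (.one ⟨8750, 5, 6⟩)) (.node 1 (.one ⟨16267, 4, 5⟩) (.one ⟨6460, 1, 6⟩))) (.node 2 (.node 1 (.one ⟨216, 5, 5⟩) (.one ⟨12095, 2, 6⟩)) (.node 1 (.one ⟨2809, 4, 6⟩) (.one ⟨12454, 0, 5⟩)))) (.node 4 (.node 2 (.node 1 (.one ⟨2459, 5, 6⟩) (.one ⟨10059, 0, 6⟩)) (.node 1 (.one ⟨3921, 5, 5⟩) (.one ⟨3843, 1, 4⟩))) (.node 2 (.node 1 (.one ⟨3622, 1, 4⟩) (.one ⟨10878, 5, 5⟩)) (.node 1 (.one ⟨12031, 1, 6⟩) (.one ⟨585, 5, 5⟩)))))))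
def par2_3_3 : Arr Par :=
  (.node 32 (.node 16 (.node 8 (.node 4 (.node 2 (.node 1 (.one ⟨2324, 5, 5⟩) (.one ⟨10332, 4, 6⟩)) (.node 1 (.one ⟨5553, 1, 6⟩) (.one ⟨7721, 3, 5⟩))) (.node 2 (.node 1 (.one ⟨9429, 5, 6⟩) (.one ⟨16843, 1, 5⟩)) (.node 1 (.one ⟨1855, 3, 5⟩) (.one ⟨14064, 3, 5⟩)))) (.node 4 (.node 2 (.node 1 (.one ⟨11815, 2, 5⟩) (.one ⟨8164, 4, 5⟩)) (.node 1 (.one ⟨7743, 4, 5⟩) (.one ⟨1221, 0, 6⟩))) (.node 2 (.node 1 (.one ⟨13764, 1, 6⟩) (.one ⟨11248, 3, 5⟩)) (.node 1 (.one ⟨6126, 5, 4⟩) (.one ⟨3669, 2, 5⟩))))) (.node 8 (.node 4 (.node 2 (.node 1 (.one ⟨7157, 5, 2⟩) (.one ⟨6161, 5, 5⟩)) (.node 1 (.one ⟨8004, 1, 5⟩) (.one ⟨10492, 3, 4⟩))) (.node 2 (.node 1 (.one ⟨11563, 5, 4⟩) (.one ⟨9515, 5, 4⟩)) (.node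 1 (.one ⟨12444, 0, 5⟩) (.one ⟨8010, 1, 3⟩)))) (.node 4 (.node 2 (.node 1 (.one ⟨8997, 5, 3⟩) (.one ⟨450, 0, 5⟩)) (.node 1 (.one ⟨8995, 5, 4⟩) (.one ⟨12158, 4, 5⟩))) (.node 2 (.node 1 (.one ⟨14614, 1, 6⟩) (.one ⟨16543, 0, 5⟩)) (.node 1 (.one ⟨15777, 3, 5⟩) (.one ⟨10543, 1, 6⟩)))))) (.node 16 (.node 8 (.node 4 (.node 2 (.node 1 (.one ⟨13114, 0, 5⟩) (.one ⟨15583, 2, 5⟩)) (.node 1 (.one ⟨9815, 5, 4⟩) (.one ⟨4938, 5, 6⟩))) (.node 2 (.node 1 (.one ⟨5242, 4, 5⟩) (.one ⟨13490, 5, 6⟩)) (.node 1 (.one ⟨14328, 3, 5⟩) (.one ⟨15409, 3, 5⟩)))) (.node 4 (.node 2 (.node 1 (.one ⟨15758, 1, 5⟩) (.one ⟨10670, 3, 4⟩)) (.node 1 (.one ⟨7791, 3, 6⟩) (.one ⟨15057, 4, 5⟩))) (.node 2 (.node 1 (.one ⟨14362, 4, 4⟩) (.one ⟨15006, 1, 6⟩))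 (.node 1 (.one ⟨3198, 1, 5⟩) (.one ⟨14882, 5, 6⟩))))) (.node 8 (.node 4 (.node 2 (.node 1 (.one ⟨11614, 5, 3⟩) (.one ⟨9518, 5, 5⟩)) (.node 1 (.one ⟨10636, 2, 6⟩) (.one ⟨11386, 5, 6⟩))) (.node 2 (.node 1 (.one ⟨1535, 2, 5⟩) (.one ⟨14337, 5, 6⟩)) (.node 1 (.one ⟨16366, 4, 6⟩) (.one ⟨2462, 3, 3⟩)))) (.node 4 (.node 2 (.node 1 (.one ⟨5343, 2, 2⟩) (.one ⟨8137, 0, 6⟩)) (.node 1 (.one ⟨13649, 5, 5⟩) (.one ⟨12177, 2, 5⟩))) (.node 2 (.node 1 (.one ⟨10683, 3, 5⟩) (.one ⟨6024, 4, 5⟩)) (.node 1 (.one ⟨5228, 5, 4⟩) (.one ⟨12408, 2, 5⟩)))))))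
def par2_3_4 : Arr Par :=
  (.node 32 (.node 16 (.node 8 (.node 4 (.node 2 (.node 1 (.one ⟨2035, 5, 4⟩) (.one ⟨16107, 5, 5⟩)) (.node 1 (.one ⟨15862, 4, 5⟩) (.one ⟨14670, 2, 5⟩))) (.node 2 (.node 1 (.one ⟨8888, 3, 4⟩) (.one ⟨6130, 3, 5⟩)) (.node 1 (.one ⟨7519, 3, 5⟩) (.one ⟨14562, 2, 6⟩)))) (.node 4 (.node 2 (.node 1 (.one ⟨6340, 1, 6⟩) (.one ⟨15146, 3, 5⟩)) (.node 1 (.one ⟨8039, 1, 3⟩) (.one ⟨984, 1, 6⟩))) (.node 2 (.node 1 (.one ⟨3393, 1, 4⟩) (.one ⟨9666, 2, 5⟩)) (.node 1 (.one ⟨13349, 5, 3⟩) (.one ⟨4146, 1, 6⟩))))) (.node 8 (.node 4 (.node 2 (.node 1 (.one ⟨10999, 1, 5⟩) (.one ⟨15519, 5, 5⟩)) (.node 1 (.one ⟨16775, 5, 4⟩) (.one ⟨7193, 5, 5⟩))) (.node 2 (.node 1 (.one ⟨14530, 0, 5⟩) (.one ⟨2314, 5, 4⟩)) (.node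 1 (.one ⟨3746, 5, 7⟩) (.one ⟨15172, 3, 6⟩)))) (.node 4 (.node 2 (.node 1 (.one ⟨12711, 5, 6⟩) (.one ⟨477, 3, 5⟩)) (.node 1 (.one ⟨15524, 0, 5⟩) (.one ⟨13258, 0, 4⟩))) (.node 2 (.node 1 (.one ⟨7974, 3, 5⟩) (.one ⟨8465, 3, 3⟩)) (.node 1 (.one ⟨16827, 2, 6⟩) (.one ⟨10201, 2, 6⟩)))))) (.node 16 (.node 8 (.node 4 (.node 2 (.node 1 (.one ⟨16524, 4, 6⟩) (.one ⟨1474, 5, 4⟩)) (.node 1 (.one ⟨11694, 2, 6⟩) (.one ⟨14921, 0, 6⟩))) (.node 2 (.node 1 (.one ⟨9392, 1, 5⟩) (.one ⟨6641, 5, 6⟩)) (.node 1 (.one ⟨11723, 2, 5⟩) (.one ⟨12221, 4, 4⟩)))) (.node 4 (.node 2 (.node 1 (.one ⟨10107, 2, 6⟩) (.one ⟨10109, 2, 5⟩)) (.node 1 (.one ⟨10103, 2, 5⟩) (.one ⟨15449, 4, 5⟩))) (.node 2 (.node 1 (.one ⟨9985, 1, 6⟩) (.one ⟨1304, 4, 4⟩))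 (.node 1 (.one ⟨304, 0, 6⟩) (.one ⟨5515, 1, 5⟩))))) (.node 8 (.node 4 (.node 2 (.node 1 (.one ⟨14178, 0, 4⟩) (.one ⟨12279, 5, 3⟩)) (.node 1 (.one ⟨685, 0, 5⟩) (.one ⟨9657, 5, 5⟩))) (.node 2 (.node 1 (.one ⟨3034, 1, 6⟩) (.one ⟨13638, 4, 6⟩)) (.node 1 (.one ⟨7922, 5, 6⟩) (.one ⟨8720, 0, 4⟩)))) (.node 4 (.node 2 (.node 1 (.one ⟨3050, 1, 5⟩) (.one ⟨5457, 4, 6⟩)) (.node 1 (.one ⟨5669, 5, 5⟩) (.one ⟨10835, 0, 5⟩))) (.node 2 (.node 1 (.one ⟨6582, 1, 6⟩) (.one ⟨14177, 0, 4⟩)) (.node 1 (.one ⟨2697, 2, 5⟩) (.one ⟨7795, 0, 5⟩)))))))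
def par2_3_5 : Arr Par :=
  (.node 32 (.node 16 (.node 8 (.node 4 (.node 2 (.node 1 (.one ⟨6352, 3, 6⟩) (.one ⟨10384, 4, 3⟩)) (.node 1 (.one ⟨12302, 4, 4⟩) (.one ⟨199, 5, 6⟩))) (.node 2 (.node 1 (.one ⟨5284, 2, 5⟩) (.one ⟨6309, 4, 5⟩)) (.node 1 (.one ⟨8355, 4, 5⟩) (.one ⟨3531, 2, 4⟩)))) (.node 4 (.node 2 (.node 1 (.one ⟨17113, 3, 5⟩) (.one ⟨7911, 1, 5⟩)) (.node 1 (.one ⟨8978, 1, 6⟩) (.one ⟨11695, 2, 4⟩))) (.node 2 (.node 1 (.one ⟨11776, 2, 3⟩) (.one ⟨8599, 5, 5⟩)) (.node 1 (.one ⟨3536, 4, 6⟩) (.one ⟨7902, 1, 7⟩))))) (.node 8 (.node 4 (.node 2 (.node 1 (.one ⟨10819, 4, 5⟩) (.one ⟨10492, 2, 4⟩)) (.node 1 (.one ⟨1141, 4, 6⟩) (.one ⟨5110, 5, 5⟩))) (.node 2 (.node 1 (.one ⟨16647, 2, 5⟩) (.one ⟨6302, 3, 4⟩)) (.node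 1 (.one ⟨16652, 2, 5⟩) (.one ⟨9510, 4, 5⟩)))) (.node 4 (.node 2 (.node 1 (.one ⟨3439, 3, 4⟩) (.one ⟨13741, 5, 5⟩)) (.node 1 (.one ⟨1820, 4, 5⟩) (.one ⟨15939, 4, 4⟩))) (.node 2 (.node 1 (.one ⟨2599, 1, 6⟩) (.one ⟨16213, 5, 2⟩)) (.node 1 (.one ⟨14122, 0, 5⟩) (.one ⟨13186, 1, 3⟩)))))) (.node 16 (.node 8 (.node 4 (.node 2 (.node 1 (.one ⟨2960, 5, 2⟩) (.one ⟨8905, 2, 4⟩)) (.node 1 (.one ⟨5361, 5, 4⟩) (.one ⟨16233, 5, 6⟩))) (.node 2 (.node 1 (.one ⟨15386, 0, 6⟩) (.one ⟨8249, 4, 6⟩)) (.node 1 (.one ⟨1692, 0, 4⟩) (.one ⟨16060, 5, 4⟩)))) (.node 4 (.node 2 (.node 1 (.one ⟨4825, 3, 6⟩) (.one ⟨1986, 5, 4⟩)) (.node 1 (.one ⟨5849, 5, 5⟩) (.one ⟨8831, 5, 5⟩))) (.node 2 (.node 1 (.one ⟨6291, 4, 5⟩) (.one ⟨11216, 5, 5⟩)) (.node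 1 (.one ⟨7742, 3, 5⟩) (.one ⟨7854, 1, 3⟩))))) (.node 8 (.node 4 (.node 2 (.node 1 (.one ⟨14030, 5, 7⟩) (.one ⟨6470, 2, 4⟩)) (.node 1 (.one ⟨2545, 2, 6⟩) (.one ⟨15906, 0, 4⟩))) (.node 2 (.node 1 (.one ⟨9928, 3, 5⟩) (.one ⟨4503, 3, 5⟩)) (.node 1 (.one ⟨16034, 4, 4⟩) (.one ⟨6661, 5, 6⟩)))) (.node 4 (.node 2 (.node 1 (.one ⟨6264, 2, 3⟩) (.one ⟨16277, 3, 6⟩)) (.node 1 (.one ⟨14027, 0, 5⟩) (.one ⟨9274, 3, 4⟩))) (.node 2 (.node 1 (.one ⟨1947, 5, 5⟩) (.one ⟨3024, 1, 5⟩)) (.node 1 (.one ⟨12978, 5, 6⟩) (.one ⟨3393, 0, 4⟩)))))))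
def par2_3_6 : Arr Par :=
  (.node 32 (.node 16 (.node 8 (.node 4 (.node 2 (.node 1 (.one ⟨5502, 0, 4⟩) (.one ⟨2877, 0, 5⟩)) (.node 1 (.one ⟨1498, 3, 6⟩) (.one ⟨7900, 4, 6⟩))) (.node 2 (.node 1 (.one ⟨16973, 5, 6⟩) (.one ⟨14053, 1, 5⟩)) (.node 1 (.one ⟨11275, 0, 6⟩) (.one ⟨10836, 3, 5⟩)))) (.node 4 (.node 2 (.node 1 (.one ⟨2601, 4, 5⟩) (.one ⟨14231, 4, 5⟩)) (.node 1 (.one ⟨16019, 1, 5⟩) (.one ⟨14887, 4, 6⟩))) (.node 2 (.node 1 (.one ⟨3298, 5, 5⟩) (.one ⟨6802, 5, 5⟩)) (.node 1 (.one ⟨7573, 1, 6⟩) (.one ⟨6564, 2, 7⟩))))) (.node 8 (.node 4 (.node 2 (.node 1 (.one ⟨4904, 2, 6⟩) (.one ⟨9483, 0, 5⟩)) (.node 1 (.one ⟨15679, 5, 6⟩) (.one ⟨4908, 2, 4⟩))) (.node 2 (.node 1 (.one ⟨81, 3, 3⟩) (.one ⟨11631, 4, 4⟩)) (.node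 1 (.one ⟨8606, 5, 6⟩) (.one ⟨6909, 0, 5⟩)))) (.node 4 (.node 2 (.node 1 (.one ⟨1061, 5, 4⟩) (.one ⟨13409, 1, 5⟩)) (.node 1 (.one ⟨9952, 5, 6⟩) (.one ⟨11383, 2, 5⟩))) (.node 2 (.node 1 (.one ⟨1875, 5, 5⟩) (.one ⟨14050, 0, 4⟩)) (.node 1 (.one ⟨3542, 3, 6⟩) (.one ⟨4929, 0, 3⟩)))))) (.node 16 (.node 8 (.node 4 (.node 2 (.node 1 (.one ⟨6428, 5, 5⟩) (.one ⟨1842, 4, 6⟩)) (.node 1 (.one ⟨4917, 0, 5⟩) (.one ⟨1535, 5, 5⟩))) (.node 2 (.node 1 (.one ⟨677, 4, 6⟩) (.one ⟨4757, 1, 7⟩)) (.node 1 (.one ⟨12179, 3, 6⟩) (.one ⟨14699, 4, 4⟩)))) (.node 4 (.node 2 (.node 1 (.one ⟨2908, 1, 5⟩) (.one ⟨12617, 3, 6⟩)) (.node 1 (.one ⟨15132, 1, 6⟩) (.one ⟨7690, 4, 5⟩))) (.node 2 (.node 1 (.one ⟨10793, 1, 3⟩) (.one ⟨6667, 4, 6⟩)) (.node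 1 (.one ⟨11199, 2, 5⟩) (.one ⟨8476, 1, 5⟩))))) (.node 8 (.node 4 (.node 2 (.node 1 (.one ⟨12066, 4, 6⟩) (.one ⟨10431, 1, 5⟩)) (.node 1 (.one ⟨271, 0, 5⟩) (.one ⟨12811, 5, 6⟩))) (.node 2 (.node 1 (.one ⟨5515, 2, 5⟩) (.one ⟨16362, 5, 5⟩)) (.node 1 (.one ⟨7608, 5, 6⟩) (.one ⟨7321, 5, 6⟩)))) (.node 4 (.node 2 (.node 1 (.one ⟨5196, 5, 6⟩) (.one ⟨9607, 4, 6⟩)) (.node 1 (.one ⟨15841, 5, 6⟩) (.one ⟨14704, 3, 4⟩))) (.node 2 (.node 1 (.one ⟨9353, 3, 4⟩) (.one ⟨13464, 3, 5⟩)) (.node 1 (.one ⟨13326, 5, 4⟩) (.one ⟨7331, 5, 6⟩)))))))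
def par2_3_7 : Arr Par :=
  (.node 32 (.node 16 (.node 8 (.node 4 (.node 2 (.node 1 (.one ⟨2545, 5, 6⟩) (.one ⟨10602, 5, 6⟩)) (.node 1 (.one ⟨2350, 2, 6⟩) (.one ⟨1444, 1, 5⟩))) (.node 2 (.node 1 (.one ⟨10575, 5, 4⟩) (.one ⟨14023, 3, 4⟩)) (.node 1 (.one ⟨5142, 3, 5⟩) (.one ⟨3524, 5, 5⟩)))) (.node 4 (.node 2 (.node 1 (.one ⟨7254, 1, 5⟩) (.one ⟨4596, 5, 5⟩)) (.node 1 (.one ⟨16046, 5, 6⟩) (.one ⟨14782, 5, 3⟩))) (.node 2 (.node 1 (.one ⟨3618, 2, 5⟩) (.one ⟨1980, 1, 6⟩)) (.node 1 (.one ⟨11027, 3, 5⟩) (.one ⟨11680, 5, 5⟩))))) (.node 8 (.node 4 (.node 2 (.node 1 (.one ⟨5156, 5, 5⟩) (.one ⟨14059, 4, 5⟩)) (.node 1 (.one ⟨5835, 5, 6⟩) (.one ⟨7910, 1, 5⟩))) (.node 2 (.node 1 (.one ⟨17173, 3, 6⟩) (.one ⟨6531, 3, 4⟩)) (.node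 1 (.one ⟨11620, 5, 5⟩) (.one ⟨7307, 5, 5⟩)))) (.node 4 (.node 2 (.node 1 (.one ⟨5071, 4, 5⟩) (.one ⟨3939, 0, 6⟩)) (.node 1 (.one ⟨14530, 4, 5⟩) (.one ⟨15699, 0, 6⟩))) (.node 2 (.node 1 (.one ⟨10938, 3, 5⟩) (.one ⟨5238, 1, 6⟩)) (.node 1 (.one ⟨1356, 5, 6⟩) (.one ⟨16604, 5, 4⟩)))))) (.node 16 (.node 8 (.node 4 (.node 2 (.node 1 (.one ⟨15307, 5, 4⟩) (.one ⟨5810, 0, 5⟩)) (.node 1 (.one ⟨11140, 0, 5⟩) (.one ⟨4064, 3, 4⟩))) (.node 2 (.node 1 (.one ⟨15624, 5, 6⟩) (.one ⟨9780, 0, 4⟩)) (.node 1 (.one ⟨7066, 0, 4⟩) (.one ⟨11016, 5, 5⟩)))) (.node 4 (.node 2 (.node 1 (.one ⟨11721, 0, 5⟩) (.one ⟨13648, 4, 6⟩)) (.node 1 (.one ⟨10409, 3, 5⟩) (.one ⟨315, 3, 4⟩))) (.node 2 (.node 1 (.one ⟨3543, 4, 6⟩) (.one ⟨12988, 1, 4⟩)) (.node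 1 (.one ⟨11274, 4, 6⟩) (.one ⟨946, 0, 6⟩))))) (.node 8 (.node 4 (.node 2 (.node 1 (.one ⟨14625, 1, 5⟩) (.one ⟨534, 4, 5⟩)) (.node 1 (.one ⟨11023, 5, 6⟩) (.one ⟨921, 2, 6⟩))) (.node 2 (.node 1 (.one ⟨17096, 0, 4⟩) (.one ⟨1167, 2, 6⟩)) (.node 1 (.one ⟨13935, 5, 4⟩) (.one ⟨3649, 5, 6⟩)))) (.node 4 (.node 2 (.node 1 (.one ⟨408, 2, 5⟩) (.one ⟨17058, 1, 6⟩)) (.node 1 (.one ⟨1981, 1, 5⟩) (.one ⟨4782, 5, 5⟩))) (.node 2 (.node 1 (.one ⟨6288, 4, 6⟩) (.one ⟨5963, 1, 4⟩)) (.node 1 (.one ⟨11522, 5, 6⟩) (.one ⟨16284, 0, 4⟩)))))))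
def par2_3_8 : Arr Par :=
  (.node 32 (.node 16 (.node 8 (.node 4 (.node 2 (.node 1 (.one ⟨6264, 0, 3⟩) (.one ⟨1872, 4, 3⟩)) (.node 1 (.one ⟨12163, 4, 5⟩) (.one ⟨4555, 0, 4⟩))) (.node 2 (.node 1 (.one ⟨10864, 0, 5⟩) (.one ⟨16914, 0, 6⟩)) (.node 1 (.one ⟨6611, 5, 4⟩) (.one ⟨1100, 2, 6⟩)))) (.node 4 (.node 2 (.node 1 (.one ⟨6583, 4, 5⟩) (.one ⟨15229, 3, 5⟩)) (.node 1 (.one ⟨7365, 4, 4⟩) (.one ⟨12252, 2, 6⟩))) (.node 2 (.node 1 (.one ⟨11517, 0, 6⟩) (.one ⟨14017, 5, 6⟩)) (.node 1 (.one ⟨99, 4, 5⟩) (.one ⟨13832, 1, 4⟩))))) (.node 8 (.node 4 (.node 2 (.node 1 (.one ⟨7997, 1, 5⟩) (.one ⟨4169, 4, 4⟩)) (.node 1 (.one ⟨14429, 3, 6⟩) (.one ⟨13742, 0, 4⟩))) (.node 2 (.node 1 (.one ⟨287, 4, 6⟩) (.one ⟨15718, 5, 6⟩)) (.node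 1 (.one ⟨6758, 0, 4⟩) (.one ⟨5817, 0, 3⟩)))) (.node 4 (.node 2 (.node 1 (.one ⟨3535, 4, 6⟩) (.one ⟨3743, 0, 5⟩)) (.node 1 (.one ⟨7095, 2, 5⟩) (.one ⟨11785, 0, 6⟩))) (.node 2 (.node 1 (.one ⟨6053, 5, 6⟩) (.one ⟨15289, 2, 5⟩)) (.node 1 (.one ⟨9649, 2, 5⟩) (.one ⟨11397, 1, 6⟩)))))) (.node 16 (.node 8 (.node 4 (.node 2 (.node 1 (.one ⟨7527, 3, 6⟩) (.one ⟨14010, 0, 5⟩)) (.node 1 (.one ⟨4292, 3, 4⟩) (.one ⟨16142, 5, 6⟩))) (.node 2 (.node 1 (.one ⟨14295, 0, 4⟩) (.one ⟨13732, 0, 6⟩)) (.node 1 (.one ⟨6660, 4, 3⟩) (.one ⟨16319, 1, 4⟩)))) (.node 4 (.node 2 (.node 1 (.one ⟨9173, 2, 5⟩) (.one ⟨9352, 5, 5⟩)) (.node 1 (.one ⟨17139, 5, 6⟩) (.one ⟨5606, 3, 5⟩))) (.node 2 (.node 1 (.one ⟨17181, 5, 5⟩) (.one ⟨9585, 5, 6⟩)) (.node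 1 (.one ⟨6998, 4, 4⟩) (.one ⟨10507, 5, 6⟩))))) (.node 8 (.node 4 (.node 2 (.node 1 (.one ⟨4557, 5, 4⟩) (.one ⟨13850, 2, 5⟩)) (.node 1 (.one ⟨14382, 3, 4⟩) (.one ⟨12692, 5, 5⟩))) (.node 2 (.node 1 (.one ⟨10151, 1, 5⟩) (.one ⟨9428, 1, 5⟩)) (.node 1 (.one ⟨2618, 1, 5⟩) (.one ⟨12438, 1, 5⟩)))) (.node 4 (.node 2 (.node 1 (.one ⟨10646, 5, 6⟩) (.one ⟨11636, 4, 5⟩)) (.node 1 (.one ⟨11926, 5, 4⟩) (.one ⟨10650, 4, 6⟩))) (.node 2 (.node 1 (.one ⟨15624, 1, 6⟩) (.one ⟨2352, 4, 6⟩)) (.node 1 (.one ⟨9656, 1, 4⟩) (.one ⟨14190, 0, 5⟩)))))))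
def par2_3_9 : Arr Par :=
  (.node 32 (.node 16 (.node 8 (.node 4 (.node 2 (.node 1 (.one ⟨16550, 5, 6⟩) (.one ⟨13164, 2, 5⟩)) (.node 1 (.one ⟨16547, 5, 5⟩) (.one ⟨477, 2, 5⟩))) (.node 2 (.node 1 (.one ⟨413, 5, 6⟩) (.one ⟨176, 5, 5⟩)) (.node 1 (.one ⟨3848, 2, 4⟩) (.one ⟨6831, 2, 5⟩)))) (.node 4 (.node 2 (.node 1 (.one ⟨14629, 4, 5⟩) (.one ⟨10039, 5, 5⟩)) (.node 1 (.one ⟨477, 0, 5⟩) (.one ⟨10828, 0, 6⟩))) (.node 2 (.node 1 (.one ⟨5301, 5, 5⟩) (.one ⟨13258, 3, 4⟩)) (.node 1 (.one ⟨7992, 4, 6⟩) (.one ⟨9329, 4, 6⟩))))) (.node 8 (.node 4 (.node 2 (.node 1 (.one ⟨1872, 5, 3⟩) (.one ⟨10189, 3, 7⟩)) (.node 1 (.one ⟨4467, 4, 5⟩) (.one ⟨15607, 5, 5⟩))) (.node 2 (.node 1 (.one ⟨4498, 4, 5⟩) (.one ⟨1866, 5, 4⟩)) (.node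 1 (.one ⟨6856, 2, 4⟩) (.one ⟨15196, 3, 5⟩)))) (.node 4 (.node 2 (.node 1 (.one ⟨14656, 1, 6⟩) (.one ⟨11866, 2, 6⟩)) (.node 1 (.one ⟨15699, 2, 6⟩) (.one ⟨6779, 2, 6⟩))) (.node 2 (.node 1 (.one ⟨16500, 4, 4⟩) (.one ⟨16656, 2, 5⟩)) (.node 1 (.one ⟨15670, 5, 5⟩) (.one ⟨14481, 2, 5⟩)))))) (.node 16 (.node 8 (.node 4 (.node 2 (.node 1 (.one ⟨3801, 5, 5⟩) (.one ⟨8286, 3, 4⟩)) (.node 1 (.one ⟨7779, 5, 5⟩) (.one ⟨12840, 2, 6⟩))) (.node 2 (.node 1 (.one ⟨9695, 2, 6⟩) (.one ⟨16572, 5, 6⟩)) (.node 1 (.one ⟨10574, 2, 4⟩) (.one ⟨1528, 4, 6⟩)))) (.node 4 (.node 2 (.node 1 (.one ⟨2596, 3, 7⟩) (.one ⟨2783, 0, 6⟩)) (.node 1 (.one ⟨14228, 2, 6⟩) (.one ⟨2832, 3, 5⟩))) (.node 2 (.node 1 (.one ⟨2858, 0, 4⟩) (.one ⟨10488, 1, 5⟩))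 (.node 1 (.one ⟨10084, 0, 5⟩) (.one ⟨10569, 4, 6⟩))))) (.node 8 (.node 4 (.node 2 (.node 1 (.one ⟨12424, 5, 7⟩) (.one ⟨6534, 3, 5⟩)) (.node 1 (.one ⟨15909, 2, 5⟩) (.one ⟨4890, 4, 6⟩))) (.node 2 (.node 1 (.one ⟨7160, 2, 6⟩) (.one ⟨12051, 0, 6⟩)) (.node 1 (.one ⟨1498, 5, 6⟩) (.one ⟨14262, 2, 5⟩)))) (.node 4 (.node 2 (.node 1 (.one ⟨3423, 5, 4⟩) (.one ⟨10599, 5, 6⟩)) (.node 1 (.one ⟨16681, 0, 6⟩) (.one ⟨9830, 4, 4⟩))) (.node 2 (.node 1 (.one ⟨12462, 0, 2⟩) (.one ⟨16833, 3, 4⟩)) (.node 1 (.one ⟨14977, 2, 5⟩) (.one ⟨5030, 2, 5⟩)))))))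
def par2_3_10 : Arr Par :=
  (.node 32 (.node 16 (.node 8 (.node 4 (.node 2 (.node 1 (.one ⟨7413, 5, 5⟩) (.one ⟨4732, 3, 5⟩)) (.node 1 (.one ⟨2558, 2, 5⟩) (.one ⟨12834, 0, 5⟩))) (.node 2 (.node 1 (.one ⟨13777, 3, 5⟩) (.one ⟨16136, 4, 5⟩)) (.node 1 (.one ⟨12451, 2, 5⟩) (.one ⟨12140, 4, 4⟩)))) (.node 4 (.node 2 (.node 1 (.one ⟨1972, 4, 6⟩) (.one ⟨7075, 0, 6⟩)) (.node 1 (.one ⟨13003, 1, 6⟩) (.one ⟨1321, 1, 6⟩))) (.node 2 (.node 1 (.one ⟨9587, 1, 6⟩) (.one ⟨7412, 2, 6⟩)) (.node 1 (.one ⟨2020, 3, 3⟩) (.one ⟨994, 2, 4⟩))))) (.node 8 (.node 4 (.node 2 (.node 1 (.one ⟨12780, 1, 3⟩) (.one ⟨3096, 2, 5⟩)) (.node 1 (.one ⟨1904, 2, 6⟩) (.one ⟨3259, 1, 5⟩))) (.node 2 (.node 1 (.one ⟨12008, 3, 3⟩) (.one ⟨8476, 3, 5⟩)) (.node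 1 (.one ⟨7051, 4, 3⟩) (.one ⟨14921, 5, 6⟩)))) (.node 4 (.node 2 (.node 1 (.one ⟨9391, 4, 5⟩) (.one ⟨13531, 1, 5⟩)) (.node 1 (.one ⟨16895, 5, 4⟩) (.one ⟨13649, 2, 5⟩))) (.node 2 (.node 1 (.one ⟨127, 2, 6⟩) (.one ⟨10294, 5, 5⟩)) (.node 1 (.one ⟨8091, 4, 6⟩) (.one ⟨13076, 1, 4⟩)))))) (.node 16 (.node 8 (.node 4 (.node 2 (.node 1 (.one ⟨3997, 3, 6⟩) (.one ⟨16455, 3, 4⟩)) (.node 1 (.one ⟨7331, 0, 6⟩) (.one ⟨14983, 5, 5⟩))) (.node 2 (.node 1 (.one ⟨430, 2, 4⟩) (.one ⟨15193, 2, 6⟩)) (.node 1 (.one ⟨9813, 4, 4⟩) (.one ⟨9947, 1, 4⟩)))) (.node 4 (.node 2 (.node 1 (.one ⟨15538, 5, 5⟩) (.one ⟨14305, 4, 6⟩)) (.node 1 (.one ⟨440, 2, 6⟩) (.one ⟨6329, 2, 4⟩))) (.node 2 (.node 1 (.one ⟨11889, 5, 6⟩) (.one ⟨16385, 3, 4⟩)) (.node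 1 (.one ⟨7918, 5, 6⟩) (.one ⟨9126, 1, 6⟩))))) (.node 8 (.node 4 (.node 2 (.node 1 (.one ⟨3320, 5, 3⟩) (.one ⟨9803, 5, 5⟩)) (.node 1 (.one ⟨10109, 3, 5⟩) (.one ⟨2953, 2, 5⟩))) (.node 2 (.node 1 (.one ⟨12640, 1, 5⟩) (.one ⟨7749, 2, 5⟩)) (.node 1 (.one ⟨2598, 1, 6⟩) (.one ⟨7830, 4, 5⟩)))) (.node 4 (.node 2 (.node 1 (.one ⟨6614, 1, 4⟩) (.one ⟨11386, 1, 6⟩)) (.node 1 (.one ⟨3576, 2, 6⟩) (.one ⟨7276, 1, 4⟩))) (.node 2 (.node 1 (.one ⟨1869, 4, 6⟩) (.one ⟨10842, 4, 5⟩)) (.node 1 (.one ⟨15750, 0, 5⟩) (.one ⟨1053, 5, 6⟩)))))))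
def par2_3_11 : Arr Par :=
  (.node 32 (.node 16 (.node 8 (.node 4 (.node 2 (.node 1 (.one ⟨15366, 3, 6⟩) (.one ⟨1012, 2, 6⟩)) (.node 1 (.one ⟨3907, 0, 5⟩) (.one ⟨8194, 4, 5⟩))) (.node 2 (.node 1 (.one ⟨16157, 2, 5⟩) (.one ⟨5268, 2, 5⟩)) (.node 1 (.one ⟨15724, 5, 5⟩) (.one ⟨13575, 5, 5⟩)))) (.node 4 (.node 2 (.node 1 (.one ⟨14616, 3, 6⟩) (.one ⟨9065, 0, 3⟩)) (.node 1 (.one ⟨16419, 4, 6⟩) (.one ⟨552, 2, 6⟩))) (.node 2 (.node 1 (.one ⟨3807, 2, 6⟩) (.one ⟨17104, 0, 5⟩)) (.node 1 (.one ⟨15546, 2, 4⟩) (.one ⟨13183, 0, 5⟩))))) (.node 8 (.node 4 (.node 2 (.node 1 (.one ⟨16679, 0, 5⟩) (.one ⟨1414, 4, 6⟩)) (.node 1 (.one ⟨13333, 1, 5⟩) (.one ⟨9947, 4, 4⟩))) (.node 2 (.node 1 (.one ⟨9907, 4, 5⟩) (.one ⟨10114, 3, 6⟩))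 (.node 1 (.one ⟨9841, 4, 5⟩) (.one ⟨14702, 5, 5⟩)))) (.node 4 (.node 2 (.node 1 (.one ⟨11323, 1, 2⟩) (.one ⟨506, 3, 4⟩)) (.node 1 (.one ⟨4717, 1, 5⟩) (.one ⟨10979, 5, 5⟩))) (.node 2 (.node 1 (.one ⟨16462, 2, 5⟩) (.one ⟨4581, 5, 4⟩)) (.node 1 (.one ⟨3242, 0, 5⟩) (.one ⟨10146, 4, 5⟩)))))) (.node 16 (.node 8 (.node 4 (.node 2 (.node 1 (.one ⟨10137, 2, 4⟩) (.one ⟨12847, 4, 5⟩)) (.node 1 (.one ⟨14148, 3, 4⟩) (.one ⟨2582, 4, 6⟩))) (.node 2 (.node 1 (.one ⟨8591, 1, 5⟩) (.one ⟨3129, 2, 5⟩)) (.node 1 (.one ⟨13103, 1, 6⟩) (.one ⟨13913, 1, 3⟩)))) (.node 4 (.node 2 (.node 1 (.one ⟨13186, 2, 3⟩) (.one ⟨1760, 4, 4⟩)) (.node 1 (.one ⟨13186, 4, 3⟩) (.one ⟨5922, 1, 4⟩))) (.node 2 (.node 1 (.one ⟨3212, 5, 5⟩) (.one ⟨16961, 4,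 5⟩)) (.node 1 (.one ⟨5820, 2, 5⟩) (.one ⟨8146, 3, 4⟩))))) (.node 8 (.node 4 (.node 2 (.node 1 (.one ⟨10853, 1, 5⟩) (.one ⟨4977, 4, 6⟩)) (.node 1 (.one ⟨7872, 4, 5⟩) (.one ⟨12598, 1, 5⟩))) (.node 2 (.node 1 (.one ⟨6579, 4, 5⟩) (.one ⟨4907, 5, 6⟩)) (.node 1 (.one ⟨7368, 2, 4⟩) (.one ⟨10387, 4, 5⟩)))) (.node 4 (.node 2 (.node 1 (.one ⟨12676, 5, 3⟩) (.one ⟨4515, 1, 6⟩)) (.node 1 (.one ⟨242, 5, 6⟩) (.one ⟨15136, 0, 4⟩))) (.node 2 (.node 1 (.one ⟨2314, 4, 4⟩) (.one ⟨738, 5, 5⟩)) (.node 1 (.one ⟨8785, 3, 6⟩) (.one ⟨3623, 3, 5⟩)))))))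
def par2_3_12 : Arr Par :=
  (.node 32 (.node 16 (.node 8 (.node 4 (.node 2 (.node 1 (.one ⟨11243, 5, 6⟩) (.one ⟨7695, 0, 5⟩)) (.node 1 (.one ⟨2788, 2, 6⟩) (.one ⟨6104, 1, 3⟩))) (.node 2 (.node 1 (.one ⟨5416, 0, 6⟩) (.one ⟨11746, 1, 3⟩)) (.node 1 (.one ⟨772, 5, 5⟩) (.one ⟨467, 1, 5⟩)))) (.node 4 (.node 2 (.node 1 (.one ⟨14205, 5, 3⟩) (.one ⟨6329, 5, 4⟩)) (.node 1 (.one ⟨12707, 5, 5⟩) (.one ⟨10638, 5, 6⟩))) (.node 2 (.node 1 (.one ⟨8714, 5, 6⟩) (.one ⟨15903, 3, 6⟩)) (.node 1 (.one ⟨3477, 0, 5⟩) (.one ⟨1055, 4, 6⟩))))) (.node 8 (.node 4 (.node 2 (.node 1 (.one ⟨11527, 2, 6⟩) (.one ⟨13715, 3, 5⟩)) (.node 1 (.one ⟨7218, 1, 4⟩) (.one ⟨6582, 4, 6⟩))) (.node 2 (.node 1 (.one ⟨4846, 5, 5⟩) (.one ⟨14117, 0, 5⟩)) (.node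 1 (.one ⟨9015, 3, 5⟩) (.one ⟨11675, 2, 6⟩)))) (.node 4 (.node 2 (.node 1 (.one ⟨8325, 4, 4⟩) (.one ⟨11097, 5, 6⟩)) (.node 1 (.one ⟨8074, 4, 5⟩) (.one ⟨4898, 0, 5⟩))) (.node 2 (.node 1 (.one ⟨7708, 2, 5⟩) (.one ⟨2375, 4, 6⟩)) (.node 1 (.one ⟨3390, 5, 6⟩) (.one ⟨3195, 5, 5⟩)))))) (.node 16 (.node 8 (.node 4 (.node 2 (.node 1 (.one ⟨3962, 5, 6⟩) (.one ⟨12648, 4, 5⟩)) (.node 1 (.one ⟨4238, 4, 4⟩) (.one ⟨7404, 1, 5⟩))) (.node 2 (.node 1 (.one ⟨6611, 4, 4⟩) (.one ⟨2983, 1, 4⟩)) (.node 1 (.one ⟨11412, 3, 5⟩) (.one ⟨3932, 2, 6⟩)))) (.node 4 (.node 2 (.node 1 (.one ⟨3931, 2, 6⟩) (.one ⟨3050, 4, 5⟩)) (.node 1 (.one ⟨9246, 0, 4⟩) (.one ⟨3927, 2, 5⟩))) (.node 2 (.node 1 (.one ⟨9573, 1, 6⟩) (.one ⟨395, 1, 5⟩)) (.node 1 (.one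 ⟨6009, 0, 5⟩) (.one ⟨1390, 3, 6⟩))))) (.node 8 (.node 4 (.node 2 (.node 1 (.one ⟨11959, 4, 5⟩) (.one ⟨11966, 4, 6⟩)) (.node 1 (.one ⟨15876, 2, 6⟩) (.one ⟨11964, 4, 3⟩))) (.node 2 (.node 1 (.one ⟨4090, 1, 6⟩) (.one ⟨9173, 0, 5⟩)) (.node 1 (.one ⟨11502, 3, 5⟩) (.one ⟨16847, 2, 5⟩)))) (.node 4 (.node 2 (.node 1 (.one ⟨8842, 5, 3⟩) (.one ⟨5955, 5, 5⟩)) (.node 1 (.one ⟨11491, 4, 5⟩) (.one ⟨15921, 4, 5⟩))) (.node 2 (.node 1 (.one ⟨9991, 0, 4⟩) (.one ⟨6614, 4, 4⟩)) (.node 1 (.one ⟨11255, 4, 5⟩) (.one ⟨1376, 2, 5⟩)))))))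
def par2_3_13 : Arr Par :=
  (.node 32 (.node 16 (.node 8 (.node 4 (.node 2 (.node 1 (.one ⟨15017, 4, 5⟩) (.one ⟨146, 5, 6⟩)) (.node 1 (.one ⟨15872, 3, 5⟩) (.one ⟨2123, 1, 4⟩))) (.node 2 (.node 1 (.one ⟨14218, 5, 6⟩) (.one ⟨2357, 3, 6⟩)) (.node 1 (.one ⟨3059, 4, 5⟩) (.one ⟨13554, 5, 6⟩)))) (.node 4 (.node 2 (.node 1 (.one ⟨5105, 1, 4⟩) (.one ⟨5658, 5, 5⟩)) (.node 1 (.one ⟨15964, 4, 5⟩) (.one ⟨4721, 4, 5⟩))) (.node 2 (.node 1 (.one ⟨15953, 2, 4⟩) (.one ⟨902, 0, 5⟩)) (.node 1 (.one ⟨991, 0, 5⟩) (.one ⟨6302, 1, 4⟩))))) (.node 8 (.node 4 (.node 2 (.node 1 (.one ⟨14761, 5, 3⟩) (.one ⟨13398, 5, 4⟩)) (.node 1 (.one ⟨15640, 5, 5⟩) (.one ⟨6034, 2, 6⟩))) (.node 2 (.node 1 (.one ⟨16961, 5, 5⟩) (.one ⟨9458, 0, 5⟩)) (.node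 1 (.one ⟨7905, 1, 6⟩) (.one ⟨6531, 1, 4⟩)))) (.node 4 (.node 2 (.node 1 (.one ⟨10886, 5, 5⟩) (.one ⟨16969, 5, 6⟩)) (.node 1 (.one ⟨5284, 4, 5⟩) (.one ⟨17098, 3, 5⟩))) (.node 2 (.node 1 (.one ⟨13777, 5, 5⟩) (.one ⟨12801, 4, 6⟩)) (.node 1 (.one ⟨14681, 2, 5⟩) (.one ⟨10450, 4, 6⟩)))))) (.node 16 (.node 8 (.node 4 (.node 2 (.node 1 (.one ⟨11416, 1, 5⟩) (.one ⟨11608, 4, 5⟩)) (.node 1 (.one ⟨15569, 3, 6⟩) (.one ⟨8366, 2, 5⟩))) (.node 2 (.node 1 (.one ⟨102, 5, 6⟩) (.one ⟨15607, 0, 5⟩)) (.node 1 (.one ⟨11222, 4, 6⟩) (.one ⟨8551, 0, 5⟩)))) (.node 4 (.node 2 (.node 1 (.one ⟨12357, 0, 6⟩) (.one ⟨4859, 5, 5⟩)) (.node 1 (.one ⟨3636, 1, 6⟩) (.one ⟨16949, 3, 5⟩))) (.node 2 (.node 1 (.one ⟨15913, 4, 6⟩) (.one ⟨6998, 5, 4⟩))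 (.node 1 (.one ⟨13948, 2, 6⟩) (.one ⟨10629, 5, 6⟩))))) (.node 8 (.node 4 (.node 2 (.node 1 (.one ⟨8961, 5, 6⟩) (.one ⟨646, 5, 5⟩)) (.node 1 (.one ⟨1487, 4, 5⟩) (.one ⟨2923, 3, 6⟩))) (.node 2 (.node 1 (.one ⟨590, 4, 3⟩) (.one ⟨11867, 5, 4⟩)) (.node 1 (.one ⟨1175, 1, 7⟩) (.one ⟨16016, 4, 6⟩)))) (.node 4 (.node 2 (.node 1 (.one ⟨4952, 4, 5⟩) (.one ⟨14731, 4, 4⟩)) (.node 1 (.one ⟨8214, 0, 5⟩) (.one ⟨16737, 5, 5⟩))) (.node 2 (.node 1 (.one ⟨7582, 1, 6⟩) (.one ⟨665, 1, 5⟩)) (.node 1 (.one ⟨1265, 3, 4⟩) (.one ⟨8815, 1, 5⟩)))))))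
def par2_3_14 : Arr Par :=
  (.node 32 (.node 16 (.node 8 (.node 4 (.node 2 (.node 1 (.one ⟨11999, 5, 5⟩) (.one ⟨8897, 1, 6⟩)) (.node 1 (.one ⟨6903, 0, 6⟩) (.one ⟨17197, 3, 5⟩))) (.node 2 (.node 1 (.one ⟨6262, 1, 5⟩) (.one ⟨9493, 5, 6⟩)) (.node 1 (.one ⟨6341, 1, 5⟩) (.one ⟨5887, 0, 5⟩)))) (.node 4 (.node 2 (.node 1 (.one ⟨4440, 3, 4⟩) (.one ⟨10151, 2, 5⟩)) (.node 1 (.one ⟨1101, 3, 3⟩) (.one ⟨4766, 5, 5⟩))) (.node 2 (.node 1 (.one ⟨7448, 5, 4⟩) (.one ⟨12640, 4, 5⟩)) (.node 1 (.one ⟨1630, 2, 5⟩) (.one ⟨13048, 5, 7⟩))))) (.node 8 (.node 4 (.node 2 (.node 1 (.one ⟨11226, 2, 5⟩) (.one ⟨3456, 2, 5⟩)) (.node 1 (.one ⟨1509, 1, 5⟩) (.one ⟨17163, 1, 6⟩))) (.node 2 (.node 1 (.one ⟨11864, 5, 6⟩) (.one ⟨4144, 1, 5⟩)) (.node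 1 (.one ⟨11247, 2, 4⟩) (.one ⟨13828, 5, 4⟩)))) (.node 4 (.node 2 (.node 1 (.one ⟨2112, 5, 5⟩) (.one ⟨2300, 1, 6⟩)) (.node 1 (.one ⟨479, 0, 4⟩) (.one ⟨15429, 1, 5⟩))) (.node 2 (.node 1 (.one ⟨7917, 2, 6⟩) (.one ⟨13230, 5, 5⟩)) (.node 1 (.one ⟨10351, 0, 5⟩) (.one ⟨630, 3, 5⟩)))))) (.node 16 (.node 8 (.node 4 (.node 2 (.node 1 (.one ⟨1673, 0, 5⟩) (.one ⟨13167, 4, 5⟩)) (.node 1 (.one ⟨141, 4, 5⟩) (.one ⟨2990, 2, 6⟩))) (.node 2 (.node 1 (.one ⟨16944, 5, 6⟩) (.one ⟨10584, 1, 5⟩)) (.node 1 (.one ⟨10883, 1, 5⟩) (.one ⟨4271, 2, 5⟩)))) (.node 4 (.node 2 (.node 1 (.one ⟨9676, 1, 4⟩) (.one ⟨7911, 2, 5⟩)) (.node 1 (.one ⟨16239, 1, 3⟩) (.one ⟨1747, 3, 6⟩))) (.node 2 (.node 1 (.one ⟨5121, 2, 5⟩) (.one ⟨4469, 5, 6⟩)) (.node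 1 (.one ⟨10476, 0, 6⟩) (.one ⟨16869, 4, 6⟩))))) (.node 8 (.node 4 (.node 2 (.node 1 (.one ⟨6869, 5, 5⟩) (.one ⟨16664, 0, 5⟩)) (.node 1 (.one ⟨250, 2, 5⟩) (.one ⟨3912, 4, 5⟩))) (.node 2 (.node 1 (.one ⟨10815, 3, 6⟩) (.one ⟨3920, 4, 4⟩)) (.node 1 (.one ⟨1749, 3, 5⟩) (.one ⟨14496, 5, 5⟩)))) (.node 4 (.node 2 (.node 1 (.one ⟨15795, 1, 5⟩) (.one ⟨14393, 5, 5⟩)) (.node 1 (.one ⟨8838, 4, 6⟩) (.one ⟨10314, 1, 6⟩))) (.node 2 (.node 1 (.one ⟨10867, 2, 5⟩) (.one ⟨92, 5, 5⟩)) (.node 1 (.one ⟨12343, 1, 3⟩) (.one ⟨10204, 4, 5⟩)))))))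
def par2_3_15 : Arr Par :=
  (.node 32 (.node 16 (.node 8 (.node 4 (.node 2 (.node 1 (.one ⟨11507, 4, 5⟩) (.one ⟨16253, 5, 4⟩)) (.node 1 (.one ⟨11073, 1, 6⟩) (.one ⟨716, 5, 6⟩))) (.node 2 (.node 1 (.one ⟨11078, 1, 6⟩) (.one ⟨2520, 4, 5⟩)) (.node 1 (.one ⟨5416, 3, 6⟩) (.one ⟨13287, 1, 6⟩)))) (.node 4 (.node 2 (.node 1 (.one ⟨923, 2, 5⟩) (.one ⟨4965, 5, 6⟩)) (.node 1 (.one ⟨11600, 2, 5⟩) (.one ⟨4291, 3, 4⟩))) (.node 2 (.node 1 (.one ⟨4055, 0, 4⟩) (.one ⟨4393, 5, 6⟩)) (.node 1 (.one ⟨12057, 4, 6⟩) (.one ⟨5339, 1, 4⟩))))) (.node 8 (.node 4 (.node 2 (.node 1 (.one ⟨6671, 4, 4⟩) (.one ⟨37, 1, 0⟩)) (.node 1 (.one ⟨12108, 1, 4⟩) (.one ⟨1100, 1, 6⟩))) (.node 2 (.node 1 (.one ⟨11040, 0, 3⟩) (.one ⟨5902, 5, 5⟩)) (.node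 1 (.one ⟨16435, 5, 6⟩) (.one ⟨590, 1, 3⟩)))) (.node 4 (.node 2 (.node 1 (.one ⟨9500, 4, 3⟩) (.one ⟨5801, 5, 3⟩)) (.node 1 (.one ⟨15706, 0, 5⟩) (.one ⟨5037, 4, 4⟩))) (.node 2 (.node 1 (.one ⟨10692, 4, 3⟩) (.one ⟨6678, 0, 5⟩)) (.node 1 (.one ⟨11808, 2, 4⟩) (.one ⟨5004, 4, 5⟩)))))) (.node 16 (.node 8 (.node 4 (.node 2 (.node 1 (.one ⟨13222, 0, 3⟩) (.one ⟨16267, 2, 5⟩)) (.node 1 (.one ⟨2158, 5, 4⟩) (.one ⟨15607, 1, 5⟩))) (.node 2 (.node 1 (.one ⟨15895, 0, 5⟩) (.one ⟨3190, 1, 6⟩)) (.node 1 (.one ⟨14509, 5, 5⟩) (.one ⟨2733, 2, 4⟩)))) (.node 4 (.node 2 (.node 1 (.one ⟨6140, 4, 5⟩) (.one ⟨11833, 0, 5⟩)) (.node 1 (.one ⟨12964, 1, 5⟩) (.one ⟨4241, 5, 6⟩))) (.node 2 (.node 1 (.one ⟨2219, 2, 5⟩) (.one ⟨838, 5, 6⟩)) (.node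 1 (.one ⟨820, 1, 4⟩) (.one ⟨10384, 3, 3⟩))))) (.node 8 (.node 4 (.node 2 (.node 1 (.one ⟨5880, 1, 5⟩) (.one ⟨15793, 4, 5⟩)) (.node 1 (.one ⟨652, 5, 5⟩) (.one ⟨13808, 5, 5⟩))) (.node 2 (.node 1 (.one ⟨10773, 2, 4⟩) (.one ⟨6785, 0, 4⟩)) (.node 1 (.one ⟨13973, 1, 6⟩) (.one ⟨6671, 1, 4⟩)))) (.node 4 (.node 2 (.node 1 (.one ⟨6729, 2, 6⟩) (.one ⟨3745, 1, 5⟩)) (.node 1 (.one ⟨2877, 3, 5⟩) (.one ⟨13203, 3, 5⟩))) (.node 2 (.node 1 (.one ⟨14363, 3, 5⟩) (.one ⟨12927, 0, 6⟩)) (.node 1 (.one ⟨17091, 1, 6⟩) (.one ⟨4721, 2, 5⟩)))))))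
def par2_3 : Arr Par :=
  (.node 512 (.node 256 (.node 128 (.node 64 par2_3_0 par2_3_1) (.node 64 par2_3_2 par2_3_3)) (.node 128 (.node 64 par2_3_4 par2_3_5) (.node 64 par2_3_6 par2_3_7))) (.node 256 (.node 128 (.node 64 par2_3_8 par2_3_9) (.node 64 par2_3_10 par2_3_11)) (.node 128 (.node 64 par2_3_12 par2_3_13) (.node 64 par2_3_14 par2_3_15))))
def par2_4_0 : Arr Par :=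
  (.node 32 (.node 16 (.node 8 (.node 4 (.node 2 (.node 1 (.one ⟨10925, 2, 5⟩) (.one ⟨15794, 1, 4⟩)) (.node 1 (.one ⟨12756, 5, 6⟩) (.one ⟨7579, 1, 5⟩))) (.node 2 (.node 1 (.one ⟨11372, 5, 6⟩) (.one ⟨3601, 2, 5⟩)) (.node 1 (.one ⟨8915, 5, 4⟩) (.one ⟨6136, 4, 5⟩)))) (.node 4 (.node 2 (.node 1 (.one ⟨309, 5, 5⟩) (.one ⟨4210, 5, 6⟩)) (.node 1 (.one ⟨8998, 3, 6⟩) (.one ⟨8964, 3, 5⟩))) (.node 2 (.node 1 (.one ⟨5690, 0, 5⟩) (.one ⟨13488, 0, 5⟩)) (.node 1 (.one ⟨74, 1, 5⟩) (.one ⟨14528, 5, 5⟩))))) (.node 8 (.node 4 (.node 2 (.node 1 (.one ⟨7899, 4, 6⟩) (.one ⟨4192, 5, 7⟩)) (.node 1 (.one ⟨4169, 2, 4⟩) (.one ⟨11401, 1, 5⟩))) (.node 2 (.node 1 (.one ⟨14478, 0, 5⟩) (.one ⟨6323, 1, 6⟩)) (.node 1 (.one ⟨6107, 1, 6⟩) (.one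 ⟨9629, 1, 5⟩)))) (.node 4 (.node 2 (.node 1 (.one ⟨3421, 2, 3⟩) (.one ⟨3403, 1, 5⟩)) (.node 1 (.one ⟨1114, 2, 4⟩) (.one ⟨6387, 5, 4⟩))) (.node 2 (.node 1 (.one ⟨5292, 2, 5⟩) (.one ⟨4363, 0, 5⟩)) (.node 1 (.one ⟨11733, 0, 6⟩) (.one ⟨10093, 1, 5⟩)))))) (.node 16 (.node 8 (.node 4 (.node 2 (.node 1 (.one ⟨10862, 0, 5⟩) (.one ⟨7923, 5, 6⟩)) (.node 1 (.one ⟨12352, 2, 5⟩) (.one ⟨581, 4, 6⟩))) (.node 2 (.node 1 (.one ⟨9252, 4, 5⟩) (.one ⟨2748, 0, 5⟩)) (.node 1 (.one ⟨7393, 5, 6⟩) (.one ⟨14264, 5, 6⟩)))) (.node 4 (.node 2 (.node 1 (.one ⟨11691, 0, 6⟩) (.one ⟨16357, 5, 6⟩)) (.node 1 (.one ⟨4359, 5, 4⟩) (.one ⟨16107, 4, 5⟩))) (.node 2 (.node 1 (.one ⟨14403, 2, 5⟩) (.one ⟨8171, 1, 6⟩)) (.node 1 (.one ⟨716, 0, 6⟩) (.one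 ⟨4760, 2, 6⟩))))) (.node 8 (.node 4 (.node 2 (.node 1 (.one ⟨691, 3, 4⟩) (.one ⟨2641, 5, 4⟩)) (.node 1 (.one ⟨8004, 0, 5⟩) (.one ⟨5639, 4, 5⟩))) (.node 2 (.node 1 (.one ⟨5593, 4, 5⟩) (.one ⟨2707, 1, 4⟩)) (.node 1 (.one ⟨3207, 4, 6⟩) (.one ⟨1063, 4, 4⟩)))) (.node 4 (.node 2 (.node 1 (.one ⟨3537, 1, 6⟩) (.one ⟨16868, 0, 6⟩)) (.node 1 (.one ⟨15796, 0, 6⟩) (.one ⟨11833, 5, 5⟩))) (.node 2 (.node 1 (.one ⟨9673, 1, 4⟩) (.one ⟨11774, 2, 4⟩)) (.node 1 (.one ⟨4603, 3, 6⟩) (.one ⟨42, 2, 6⟩)))))))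
def par2_4_1 : Arr Par :=
  (.node 32 (.node 16 (.node 8 (.node 4 (.node 2 (.node 1 (.one ⟨2937, 5, 6⟩) (.one ⟨3198, 4, 5⟩)) (.node 1 (.one ⟨1101, 1, 3⟩) (.one ⟨11482, 4, 6⟩))) (.node 2 (.node 1 (.one ⟨2763, 5, 6⟩) (.one ⟨2363, 4, 5⟩)) (.node 1 (.one ⟨11631, 0, 4⟩) (.one ⟨1355, 5, 6⟩)))) (.node 4 (.node 2 (.node 1 (.one ⟨6076, 5, 6⟩) (.one ⟨14761, 2, 3⟩)) (.node 1 (.one ⟨8940, 3, 3⟩) (.one ⟨5656, 3, 5⟩))) (.node 2 (.node 1 (.one ⟨11247, 1, 4⟩) (.one ⟨87, 1, 5⟩)) (.node 1 (.one ⟨16968, 4, 5⟩) (.one ⟨4927, 1, 2⟩))))) (.node 8 (.node 4 (.node 2 (.node 1 (.one ⟨8728, 2, 6⟩) (.one ⟨10585, 2, 6⟩)) (.node 1 (.one ⟨3755, 4, 5⟩) (.one ⟨6166, 0, 4⟩))) (.node 2 (.node 1 (.one ⟨12849, 2, 5⟩) (.one ⟨7480, 5, 6⟩)) (.node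 1 (.one ⟨9496, 5, 4⟩) (.one ⟨4455, 1, 6⟩)))) (.node 4 (.node 2 (.node 1 (.one ⟨7588, 3, 5⟩) (.one ⟨2218, 4, 3⟩)) (.node 1 (.one ⟨15220, 3, 5⟩) (.one ⟨15723, 2, 5⟩))) (.node 2 (.node 1 (.one ⟨14068, 1, 5⟩) (.one ⟨4151, 3, 5⟩)) (.node 1 (.one ⟨10941, 5, 6⟩) (.one ⟨14972, 5, 4⟩)))))) (.node 16 (.node 8 (.node 4 (.node 2 (.node 1 (.one ⟨10135, 5, 6⟩) (.one ⟨11633, 0, 4⟩)) (.node 1 (.one ⟨13517, 4, 5⟩) (.one ⟨5510, 1, 5⟩))) (.node 2 (.node 1 (.one ⟨11383, 0, 5⟩) (.one ⟨933, 4, 6⟩)) (.node 1 (.one ⟨10084, 3, 5⟩) (.one ⟨13562, 4, 6⟩)))) (.node 4 (.node 2 (.node 1 (.one ⟨10628, 5, 6⟩) (.one ⟨16889, 1, 6⟩)) (.node 1 (.one ⟨9318, 4, 6⟩) (.one ⟨4581, 1, 4⟩))) (.node 2 (.node 1 (.one ⟨431, 3, 3⟩) (.one ⟨7663, 1, 6⟩)) (.node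 1 (.one ⟨8559, 2, 5⟩) (.one ⟨9607, 1, 6⟩))))) (.node 8 (.node 4 (.node 2 (.node 1 (.one ⟨14920, 2, 5⟩) (.one ⟨8837, 2, 4⟩)) (.node 1 (.one ⟨5474, 3, 5⟩) (.one ⟨11636, 0, 5⟩))) (.node 2 (.node 1 (.one ⟨8845, 3, 6⟩) (.one ⟨6458, 1, 5⟩)) (.node 1 (.one ⟨11707, 3, 6⟩) (.one ⟨1726, 0, 5⟩)))) (.node 4 (.node 2 (.node 1 (.one ⟨15087, 3, 6⟩) (.one ⟨10725, 3, 5⟩)) (.node 1 (.one ⟨16542, 5, 5⟩) (.one ⟨2590, 0, 6⟩))) (.node 2 (.node 1 (.one ⟨10613, 5, 5⟩) (.one ⟨5608, 3, 5⟩)) (.node 1 (.one ⟨3431, 1, 5⟩) (.one ⟨8880, 2, 4⟩)))))))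
def par2_4_2 : Arr Par :=
  (.node 32 (.node 16 (.node 8 (.node 4 (.node 2 (.node 1 (.one ⟨3585, 4, 4⟩) (.one ⟨13289, 4, 4⟩)) (.node 1 (.one ⟨13690, 2, 4⟩) (.one ⟨3528, 3, 6⟩))) (.node 2 (.node 1 (.one ⟨3991, 0, 5⟩) (.one ⟨3912, 0, 5⟩)) (.node 1 (.one ⟨3920, 3, 4⟩) (.one ⟨8683, 4, 6⟩)))) (.node 4 (.node 2 (.node 1 (.one ⟨2215, 4, 2⟩) (.one ⟨9325, 1, 6⟩)) (.node 1 (.one ⟨6614, 2, 4⟩) (.one ⟨593, 1, 5⟩))) (.node 2 (.node 1 (.one ⟨6979, 0, 4⟩) (.one ⟨12952, 4, 6⟩)) (.node 1 (.one ⟨4350, 2, 3⟩) (.one ⟨15602, 0, 5⟩))))) (.node 8 (.node 4 (.node 2 (.node 1 (.one ⟨7854, 2, 3⟩) (.one ⟨11416, 2, 5⟩)) (.node 1 (.one ⟨2697, 0, 5⟩) (.one ⟨4832, 2, 6⟩))) (.node 2 (.node 1 (.one ⟨16833, 2, 4⟩) (.one ⟨11542, 5, 6⟩)) (.node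 1 (.one ⟨11235, 5, 5⟩) (.one ⟨15403, 2, 6⟩)))) (.node 4 (.node 2 (.node 1 (.one ⟨9675, 2, 4⟩) (.one ⟨7318, 5, 4⟩)) (.node 1 (.one ⟨6076, 4, 6⟩) (.one ⟨2844, 0, 5⟩))) (.node 2 (.node 1 (.one ⟨4859, 2, 5⟩) (.one ⟨1245, 1, 5⟩)) (.node 1 (.one ⟨15285, 5, 5⟩) (.one ⟨15456, 1, 5⟩)))))) (.node 16 (.node 8 (.node 4 (.node 2 (.node 1 (.one ⟨3584, 2, 4⟩) (.one ⟨6179, 4, 6⟩)) (.node 1 (.one ⟨6210, 3, 6⟩) (.one ⟨7578, 4, 6⟩))) (.node 2 (.node 1 (.one ⟨6472, 0, 5⟩) (.one ⟨9888, 5, 4⟩)) (.node 1 (.one ⟨6273, 4, 5⟩) (.one ⟨15872, 1, 5⟩)))) (.node 4 (.node 2 (.node 1 (.one ⟨1016, 4, 6⟩) (.one ⟨16666, 5, 5⟩)) (.node 1 (.one ⟨7704, 1, 6⟩) (.one ⟨14856, 1, 5⟩))) (.node 2 (.node 1 (.one ⟨3401, 3, 6⟩) (.one ⟨16866, 0, 6⟩)) (.node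 1 (.one ⟨5658, 0, 5⟩) (.one ⟨11613, 4, 4⟩))))) (.node 8 (.node 4 (.node 2 (.node 1 (.one ⟨7581, 3, 5⟩) (.one ⟨10170, 5, 6⟩)) (.node 1 (.one ⟨14718, 2, 5⟩) (.one ⟨10172, 5, 5⟩))) (.node 2 (.node 1 (.one ⟨10168, 5, 6⟩) (.one ⟨4138, 1, 5⟩)) (.node 1 (.one ⟨2615, 0, 5⟩) (.one ⟨2820, 5, 5⟩)))) (.node 4 (.node 2 (.node 1 (.one ⟨42, 5, 6⟩) (.one ⟨14714, 4, 4⟩)) (.node 1 (.one ⟨8272, 4, 5⟩) (.one ⟨12914, 3, 5⟩))) (.node 2 (.node 1 (.one ⟨15783, 4, 6⟩) (.one ⟨4995, 5, 6⟩)) (.node 1 (.one ⟨7103, 1, 5⟩) (.one ⟨10011, 3, 5⟩)))))))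
def par2_4_3 : Arr Par :=
  (.node 32 (.node 16 (.node 8 (.node 4 (.node 2 (.node 1 (.one ⟨2577, 0, 5⟩) (.one ⟨10218, 2, 4⟩)) (.node 1 (.one ⟨5021, 4, 5⟩) (.one ⟨5406, 2, 3⟩))) (.node 2 (.node 1 (.one ⟨10908, 5, 3⟩) (.one ⟨7588, 0, 5⟩)) (.node 1 (.one ⟨2739, 0, 5⟩) (.one ⟨6178, 3, 4⟩)))) (.node 4 (.node 2 (.node 1 (.one ⟨1672, 5, 5⟩) (.one ⟨6259, 0, 5⟩)) (.node 1 (.one ⟨13739, 5, 5⟩) (.one ⟨9750, 0, 6⟩))) (.node 2 (.node 1 (.one ⟨6104, 5, 3⟩) (.one ⟨4385, 4, 4⟩)) (.node 1 (.one ⟨3456, 1, 5⟩) (.one ⟨2024, 3, 5⟩))))) (.node 8 (.node 4 (.node 2 (.node 1 (.one ⟨7247, 2, 5⟩) (.one ⟨1133, 5, 5⟩)) (.node 1 (.one ⟨3377, 1, 4⟩) (.one ⟨6129, 2, 5⟩))) (.node 2 (.node 1 (.one ⟨2947, 4, 5⟩) (.one ⟨14385, 1, 5⟩)) (.node 1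 (.one ⟨9713, 2, 6⟩) (.one ⟨15556, 4, 6⟩)))) (.node 4 (.node 2 (.node 1 (.one ⟨6370, 5, 4⟩) (.one ⟨4292, 2, 4⟩)) (.node 1 (.one ⟨10655, 5, 6⟩) (.one ⟨7699, 5, 7⟩))) (.node 2 (.node 1 (.one ⟨7998, 2, 5⟩) (.one ⟨11916, 5, 6⟩)) (.node 1 (.one ⟨16687, 5, 6⟩) (.one ⟨16888, 4, 6⟩)))))) (.node 16 (.node 8 (.node 4 (.node 2 (.node 1 (.one ⟨7779, 2, 5⟩) (.one ⟨1092, 5, 6⟩)) (.node 1 (.one ⟨9066, 2, 5⟩) (.one ⟨11345, 2, 4⟩))) (.node 2 (.node 1 (.one ⟨6403, 5, 5⟩) (.one ⟨8656, 5, 5⟩)) (.node 1 (.one ⟨10679, 5, 6⟩) (.one ⟨6269, 4, 4⟩)))) (.node 4 (.node 2 (.node 1 (.one ⟨2548, 0, 5⟩) (.one ⟨5523, 1, 5⟩)) (.node 1 (.one ⟨14560, 4, 5⟩) (.one ⟨15569, 4, 6⟩))) (.node 2 (.node 1 (.one ⟨4162, 0, 4⟩) (.one ⟨16632, 2, 5⟩)) (.node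 1 (.one ⟨7188, 4, 6⟩) (.one ⟨9458, 1, 5⟩))))) (.node 8 (.node 4 (.node 2 (.node 1 (.one ⟨7751, 5, 5⟩) (.one ⟨6109, 4, 6⟩)) (.node 1 (.one ⟨11678, 4, 6⟩) (.one ⟨7822, 4, 5⟩))) (.node 2 (.node 1 (.one ⟨8451, 5, 6⟩) (.one ⟨16435, 1, 6⟩)) (.node 1 (.one ⟨16632, 5, 5⟩) (.one ⟨13123, 0, 4⟩)))) (.node 4 (.node 2 (.node 1 (.one ⟨1602, 2, 5⟩) (.one ⟨14043, 0, 4⟩)) (.node 1 (.one ⟨11911, 1, 3⟩) (.one ⟨8685, 4, 2⟩))) (.node 2 (.node 1 (.one ⟨2076, 0, 4⟩) (.one ⟨1530, 1, 5⟩)) (.node 1 (.one ⟨10715, 4, 2⟩) (.one ⟨10725, 4, 5⟩)))))))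
def par2_4_4 : Arr Par :=
  (.node 32 (.node 16 (.node 8 (.node 4 (.node 2 (.node 1 (.one ⟨10723, 4, 6⟩) (.one ⟨10720, 4, 6⟩)) (.node 1 (.one ⟨14514, 5, 6⟩) (.one ⟨17118, 0, 4⟩))) (.node 2 (.node 1 (.one ⟨2825, 2, 5⟩) (.one ⟨13441, 2, 5⟩)) (.node 1 (.one ⟨9352, 1, 5⟩) (.one ⟨3708, 2, 3⟩)))) (.node 4 (.node 2 (.node 1 (.one ⟨6074, 1, 5⟩) (.one ⟨11255, 3, 5⟩)) (.node 1 (.one ⟨15112, 2, 6⟩) (.one ⟨5722, 3, 4⟩))) (.node 2 (.node 1 (.one ⟨8961, 0, 6⟩) (.one ⟨3404, 0, 4⟩)) (.node 1 (.one ⟨9203, 1, 5⟩) (.one ⟨2441, 4, 6⟩))))) (.node 8 (.node 4 (.node 2 (.node 1 (.one ⟨3443, 5, 5⟩) (.one ⟨15005, 4, 6⟩)) (.node 1 (.one ⟨14192, 4, 5⟩) (.one ⟨7974, 5, 5⟩))) (.node 2 (.node 1 (.one ⟨11856, 2, 4⟩) (.one ⟨5326, 1, 6⟩)) (.node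 1 (.one ⟨8720, 5, 4⟩) (.one ⟨5425, 2, 6⟩)))) (.node 4 (.node 2 (.node 1 (.one ⟨13190, 1, 5⟩) (.one ⟨9217, 0, 6⟩)) (.node 1 (.one ⟨11163, 4, 6⟩) (.one ⟨7413, 3, 5⟩))) (.node 2 (.node 1 (.one ⟨11117, 1, 6⟩) (.one ⟨1842, 1, 6⟩)) (.node 1 (.one ⟨1841, 5, 6⟩) (.one ⟨6160, 5, 4⟩)))))) (.node 16 (.node 8 (.node 4 (.node 2 (.node 1 (.one ⟨914, 1, 4⟩) (.one ⟨5256, 3, 3⟩)) (.node 1 (.one ⟨1921, 0, 4⟩) (.one ⟨6524, 2, 5⟩))) (.node 2 (.node 1 (.one ⟨5579, 5, 6⟩) (.one ⟨14382, 1, 4⟩)) (.node 1 (.one ⟨1788, 5, 7⟩) (.one ⟨6316, 3, 5⟩)))) (.node 4 (.node 2 (.node 1 (.one ⟨16868, 5, 6⟩) (.one ⟨9653, 5, 5⟩)) (.node 1 (.one ⟨3403, 0, 5⟩) (.one ⟨10826, 5, 5⟩))) (.node 2 (.node 1 (.one ⟨1028, 0, 6⟩) (.one ⟨10903, 3, 6⟩)) (.node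 1 (.one ⟨333, 1, 5⟩) (.one ⟨6452, 5, 5⟩))))) (.node 8 (.node 4 (.node 2 (.node 1 (.one ⟨4172, 0, 5⟩) (.one ⟨2147, 2, 6⟩)) (.node 1 (.one ⟨15123, 2, 5⟩) (.one ⟨6693, 2, 5⟩))) (.node 2 (.node 1 (.one ⟨9652, 2, 5⟩) (.one ⟨7005, 2, 5⟩)) (.node 1 (.one ⟨3667, 3, 6⟩) (.one ⟨15364, 5, 4⟩)))) (.node 4 (.node 2 (.node 1 (.one ⟨3954, 1, 6⟩) (.one ⟨5837, 3, 6⟩)) (.node 1 (.one ⟨14696, 0, 6⟩) (.one ⟨8712, 5, 7⟩))) (.node 2 (.node 1 (.one ⟨17191, 0, 4⟩) (.one ⟨6878, 5, 6⟩)) (.node 1 (.one ⟨7261, 0, 5⟩) (.one ⟨11147, 4, 4⟩)))))))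
def par2_4_5 : Arr Par :=
  (.node 32 (.node 16 (.node 8 (.node 4 (.node 2 (.node 1 (.one ⟨8663, 4, 4⟩) (.one ⟨4971, 4, 7⟩)) (.node 1 (.one ⟨13291, 3, 6⟩) (.one ⟨9916, 3, 5⟩))) (.node 2 (.node 1 (.one ⟨6279, 1, 6⟩) (.one ⟨4754, 3, 4⟩)) (.node 1 (.one ⟨6917, 0, 6⟩) (.one ⟨6529, 1, 5⟩)))) (.node 4 (.node 2 (.node 1 (.one ⟨11130, 3, 6⟩) (.one ⟨203, 0, 5⟩)) (.node 1 (.one ⟨10032, 4, 3⟩) (.one ⟨14469, 4, 5⟩))) (.node 2 (.node 1 (.one ⟨12429, 3, 5⟩) (.one ⟨204, 0, 5⟩)) (.node 1 (.one ⟨16094, 3, 5⟩) (.one ⟨12612, 3, 4⟩))))) (.node 8 (.node 4 (.node 2 (.node 1 (.one ⟨16312, 5, 4⟩) (.one ⟨9474, 4, 5⟩)) (.node 1 (.one ⟨15719, 2, 5⟩) (.one ⟨17104, 5, 5⟩))) (.node 2 (.node 1 (.one ⟨10084, 5, 5⟩) (.one ⟨92, 2, 5⟩)) (.node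 1 (.one ⟨8064, 1, 6⟩) (.one ⟨8443, 3, 5⟩)))) (.node 4 (.node 2 (.node 1 (.one ⟨10020, 4, 3⟩) (.one ⟨16208, 4, 5⟩)) (.node 1 (.one ⟨7200, 1, 4⟩) (.one ⟨431, 1, 3⟩))) (.node 2 (.node 1 (.one ⟨7385, 4, 4⟩) (.one ⟨8552, 0, 5⟩)) (.node 1 (.one ⟨14800, 4, 6⟩) (.one ⟨4760, 0, 6⟩)))))) (.node 16 (.node 8 (.node 4 (.node 2 (.node 1 (.one ⟨7477, 2, 6⟩) (.one ⟨4792, 5, 5⟩)) (.node 1 (.one ⟨15949, 4, 5⟩) (.one ⟨10366, 5, 5⟩))) (.node 2 (.node 1 (.one ⟨3752, 3, 6⟩) (.one ⟨15405, 5, 5⟩)) (.node 1 (.one ⟨14179, 5, 5⟩) (.one ⟨15119, 2, 5⟩)))) (.node 4 (.node 2 (.node 1 (.one ⟨3849, 2, 5⟩) (.one ⟨5293, 5, 6⟩)) (.node 1 (.one ⟨12634, 0, 5⟩) (.one ⟨9475, 4, 3⟩))) (.node 2 (.node 1 (.one ⟨104, 1, 5⟩) (.one ⟨13669, 4, 5⟩)) (.node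 1 (.one ⟨13337, 5, 6⟩) (.one ⟨79, 5, 5⟩))))) (.node 8 (.node 4 (.node 2 (.node 1 (.one ⟨15725, 5, 4⟩) (.one ⟨7618, 5, 6⟩)) (.node 1 (.one ⟨10667, 4, 5⟩) (.one ⟨14744, 1, 4⟩))) (.node 2 (.node 1 (.one ⟨13517, 2, 5⟩) (.one ⟨14952, 4, 5⟩)) (.node 1 (.one ⟨7778, 1, 6⟩) (.one ⟨6473, 4, 3⟩)))) (.node 4 (.node 2 (.node 1 (.one ⟨9589, 3, 6⟩) (.one ⟨8355, 0, 5⟩)) (.node 1 (.one ⟨6587, 3, 6⟩) (.one ⟨14689, 3, 4⟩))) (.node 2 (.node 1 (.one ⟨15832, 5, 5⟩) (.one ⟨5235, 4, 5⟩)) (.node 1 (.one ⟨13281, 4, 6⟩) (.one ⟨4597, 5, 5⟩)))))))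
def par2_4_6 : Arr Par :=
  (.node 32 (.node 16 (.node 8 (.node 4 (.node 2 (.node 1 (.one ⟨13443, 4, 5⟩) (.one ⟨7964, 5, 6⟩)) (.node 1 (.one ⟨11298, 2, 4⟩) (.one ⟨6469, 1, 5⟩))) (.node 2 (.node 1 (.one ⟨15416, 5, 5⟩) (.one ⟨15836, 2, 5⟩)) (.node 1 (.one ⟨5577, 4, 5⟩) (.one ⟨2526, 4, 4⟩)))) (.node 4 (.node 2 (.node 1 (.one ⟨2346, 1, 5⟩) (.one ⟨16250, 4, 6⟩)) (.node 1 (.one ⟨3106, 3, 3⟩) (.one ⟨8268, 5, 5⟩))) (.node 2 (.node 1 (.one ⟨12818, 5, 5⟩) (.one ⟨1833, 2, 5⟩)) (.node 1 (.one ⟨16094, 0, 5⟩) (.one ⟨9777, 5, 6⟩))))) (.node 8 (.node 4 (.node 2 (.node 1 (.one ⟨10524, 2, 5⟩) (.one ⟨6524, 5, 5⟩)) (.node 1 (.one ⟨1394, 1, 4⟩) (.one ⟨7653, 5, 6⟩))) (.node 2 (.node 1 (.one ⟨5291, 3, 5⟩) (.one ⟨8602, 1, 6⟩)) (.node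 1 (.one ⟨6641, 4, 6⟩) (.one ⟨15232, 0, 4⟩)))) (.node 4 (.node 2 (.node 1 (.one ⟨5141, 2, 5⟩) (.one ⟨4479, 5, 6⟩)) (.node 1 (.one ⟨10437, 4, 6⟩) (.one ⟨15604, 3, 5⟩))) (.node 2 (.node 1 (.one ⟨5785, 0, 6⟩) (.one ⟨688, 5, 5⟩)) (.node 1 (.one ⟨8128, 1, 5⟩) (.one ⟨3439, 5, 4⟩)))))) (.node 16 (.node 8 (.node 4 (.node 2 (.node 1 (.one ⟨8840, 2, 5⟩) (.one ⟨8842, 1, 3⟩)) (.node 1 (.one ⟨8846, 2, 3⟩) (.one ⟨9936, 4, 5⟩))) (.node 2 (.node 1 (.one ⟨2044, 2, 6⟩) (.one ⟨12159, 5, 5⟩)) (.node 1 (.one ⟨17054, 1, 6⟩) (.one ⟨9867, 4, 4⟩)))) (.node 4 (.node 2 (.node 1 (.one ⟨10325, 5, 5⟩) (.one ⟨3558, 1, 5⟩)) (.node 1 (.one ⟨1142, 5, 5⟩) (.one ⟨10462, 1, 5⟩))) (.node 2 (.node 1 (.one ⟨2745, 5, 5⟩) (.one ⟨6425, 5, 5⟩)) (.node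 1 (.one ⟨9870, 4, 5⟩) (.one ⟨15652, 5, 6⟩))))) (.node 8 (.node 4 (.node 2 (.node 1 (.one ⟨4157, 5, 5⟩) (.one ⟨1332, 0, 6⟩)) (.node 1 (.one ⟨8654, 2, 7⟩) (.one ⟨4582, 4, 5⟩))) (.node 2 (.node 1 (.one ⟨1356, 4, 6⟩) (.one ⟨2347, 5, 4⟩)) (.node 1 (.one ⟨16833, 5, 4⟩) (.one ⟨5289, 5, 6⟩)))) (.node 4 (.node 2 (.node 1 (.one ⟨12528, 5, 5⟩) (.one ⟨13910, 4, 6⟩)) (.node 1 (.one ⟨16878, 5, 5⟩) (.one ⟨7318, 2, 4⟩))) (.node 2 (.node 1 (.one ⟨7046, 5, 4⟩) (.one ⟨11225, 3, 6⟩)) (.node 1 (.one ⟨8908, 1, 6⟩) (.one ⟨16455, 4, 4⟩)))))))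
def par2_4_7 : Arr Par :=
  (.node 32 (.node 16 (.node 8 (.node 4 (.node 2 (.node 1 (.one ⟨4871, 1, 6⟩) (.one ⟨4869, 2, 4⟩)) (.node 1 (.one ⟨2799, 0, 4⟩) (.one ⟨16787, 4, 4⟩))) (.node 2 (.node 1 (.one ⟨10491, 4, 6⟩) (.one ⟨1803, 2, 4⟩)) (.node 1 (.one ⟨9075, 4, 4⟩) (.one ⟨73, 2, 5⟩)))) (.node 4 (.node 2 (.node 1 (.one ⟨103, 5, 5⟩) (.one ⟨4359, 1, 4⟩)) (.node 1 (.one ⟨6200, 4, 5⟩) (.one ⟨11586, 2, 3⟩))) (.node 2 (.node 1 (.one ⟨15697, 3, 3⟩) (.one ⟨8007, 4, 3⟩)) (.node 1 (.one ⟨13186, 3, 3⟩) (.one ⟨7472, 0, 3⟩))))) (.node 8 (.node 4 (.node 2 (.node 1 (.one ⟨10452, 5, 6⟩) (.one ⟨12508, 2, 6⟩)) (.node 1 (.one ⟨757, 5, 6⟩) (.one ⟨7530, 0, 6⟩))) (.node 2 (.node 1 (.one ⟨4222, 5, 6⟩) (.one ⟨15696, 4, 6⟩)) (.node 1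 (.one ⟨11934, 5, 5⟩) (.one ⟨16094, 1, 5⟩)))) (.node 4 (.node 2 (.node 1 (.one ⟨9040, 1, 5⟩) (.one ⟨304, 2, 6⟩)) (.node 1 (.one ⟨72, 2, 6⟩) (.one ⟨1732, 3, 5⟩))) (.node 2 (.node 1 (.one ⟨12623, 4, 6⟩) (.one ⟨2852, 4, 6⟩)) (.node 1 (.one ⟨15619, 1, 5⟩) (.one ⟨9924, 5, 6⟩)))))) (.node 16 (.node 8 (.node 4 (.node 2 (.node 1 (.one ⟨6956, 3, 6⟩) (.one ⟨11999, 4, 5⟩)) (.node 1 (.one ⟨11829, 5, 4⟩) (.one ⟨15906, 3, 4⟩))) (.node 2 (.node 1 (.one ⟨7449, 0, 6⟩) (.one ⟨11884, 1, 3⟩)) (.node 1 (.one ⟨7853, 3, 4⟩) (.one ⟨6201, 4, 6⟩)))) (.node 4 (.node 2 (.node 1 (.one ⟨13668, 1, 6⟩) (.one ⟨16738, 2, 6⟩)) (.node 1 (.one ⟨17018, 1, 5⟩) (.one ⟨13398, 1, 4⟩))) (.node 2 (.node 1 (.one ⟨4970, 4, 5⟩) (.one ⟨30, 3, 5⟩)) (.node 1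 (.one ⟨9066, 4, 5⟩) (.one ⟨9111, 5, 3⟩))))) (.node 8 (.node 4 (.node 2 (.node 1 (.one ⟨5181, 1, 6⟩) (.one ⟨4391, 5, 6⟩)) (.node 1 (.one ⟨16736, 2, 6⟩) (.one ⟨2067, 5, 6⟩))) (.node 2 (.node 1 (.one ⟨7925, 2, 4⟩) (.one ⟨16837, 3, 4⟩)) (.node 1 (.one ⟨6919, 2, 3⟩) (.one ⟨14381, 4, 6⟩)))) (.node 4 (.node 2 (.node 1 (.one ⟨1341, 0, 5⟩) (.one ⟨12505, 0, 6⟩)) (.node 1 (.one ⟨17135, 5, 6⟩) (.one ⟨10447, 4, 5⟩))) (.node 2 (.node 1 (.one ⟨11131, 4, 6⟩) (.one ⟨15556, 1, 6⟩)) (.node 1 (.one ⟨2258, 1, 6⟩) (.one ⟨16873, 5, 6⟩)))))))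
def par2_4_8 : Arr Par :=
  (.node 32 (.node 16 (.node 8 (.node 4 (.node 2 (.node 1 (.one ⟨15696, 2, 6⟩) (.one ⟨7358, 0, 5⟩)) (.node 1 (.one ⟨1148, 3, 4⟩) (.one ⟨6523, 1, 5⟩))) (.node 2 (.node 1 (.one ⟨10884, 4, 5⟩) (.one ⟨13881, 3, 5⟩)) (.node 1 (.one ⟨2835, 4, 5⟩) (.one ⟨10853, 4, 5⟩)))) (.node 4 (.node 2 (.node 1 (.one ⟨15636, 3, 5⟩) (.one ⟨8672, 5, 5⟩)) (.node 1 (.one ⟨10661, 3, 5⟩) (.one ⟨15416, 2, 5⟩))) (.node 2 (.node 1 (.one ⟨1927, 5, 5⟩) (.one ⟨7459, 0, 6⟩)) (.node 1 (.one ⟨306, 4, 5⟩) (.one ⟨4156, 5, 5⟩))))) (.node 8 (.node 4 (.node 2 (.node 1 (.one ⟨161, 4, 4⟩) (.one ⟨15608, 5, 5⟩)) (.node 1 (.one ⟨14301, 3, 6⟩) (.one ⟨12708, 1, 6⟩))) (.node 2 (.node 1 (.one ⟨11574, 0, 6⟩) (.one ⟨5976, 4, 6⟩)) (.node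 1 (.one ⟨11741, 0, 6⟩) (.one ⟨9212, 5, 5⟩)))) (.node 4 (.node 2 (.node 1 (.one ⟨12394, 3, 6⟩) (.one ⟨12145, 1, 5⟩)) (.node 1 (.one ⟨15668, 1, 6⟩) (.one ⟨8815, 0, 5⟩))) (.node 2 (.node 1 (.one ⟨11856, 1, 4⟩) (.one ⟨8367, 4, 6⟩)) (.node 1 (.one ⟨4747, 4, 4⟩) (.one ⟨8856, 1, 6⟩)))))) (.node 16 (.node 8 (.node 4 (.node 2 (.node 1 (.one ⟨17036, 3, 6⟩) (.one ⟨8491, 0, 5⟩)) (.node 1 (.one ⟨16726, 2, 5⟩) (.one ⟨14521, 4, 5⟩))) (.node 2 (.node 1 (.one ⟨16722, 2, 5⟩) (.one ⟨14850, 5, 6⟩)) (.node 1 (.one ⟨2598, 4, 6⟩) (.one ⟨74, 2, 5⟩)))) (.node 4 (.node 2 (.node 1 (.one ⟨17177, 1, 5⟩) (.one ⟨16366, 3, 6⟩)) (.node 1 (.one ⟨9179, 4, 6⟩) (.one ⟨13305, 0, 6⟩))) (.node 2 (.node 1 (.one ⟨4312, 4, 5⟩) (.one ⟨10781, 5, 6⟩)) (.node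 1 (.one ⟨2791, 5, 5⟩) (.one ⟨14138, 0, 4⟩))))) (.node 8 (.node 4 (.node 2 (.node 1 (.one ⟨10854, 5, 6⟩) (.one ⟨8175, 1, 6⟩)) (.node 1 (.one ⟨10495, 5, 6⟩) (.one ⟨4702, 4, 6⟩))) (.node 2 (.node 1 (.one ⟨2325, 2, 5⟩) (.one ⟨13001, 4, 6⟩)) (.node 1 (.one ⟨6553, 4, 6⟩) (.one ⟨13342, 4, 6⟩)))) (.node 4 (.node 2 (.node 1 (.one ⟨3607, 5, 4⟩) (.one ⟨197, 2, 5⟩)) (.node 1 (.one ⟨3280, 1, 3⟩) (.one ⟨15882, 5, 4⟩))) (.node 2 (.node 1 (.one ⟨10001, 1, 6⟩) (.one ⟨694, 4, 4⟩)) (.node 1 (.one ⟨3457, 1, 6⟩) (.one ⟨2126, 2, 6⟩)))))))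
def par2_4_9 : Arr Par :=
  (.node 32 (.node 16 (.node 8 (.node 4 (.node 2 (.node 1 (.one ⟨14416, 4, 6⟩) (.one ⟨16876, 0, 5⟩)) (.node 1 (.one ⟨9496, 3, 4⟩) (.one ⟨7191, 5, 6⟩))) (.node 2 (.node 1 (.one ⟨13452, 5, 4⟩) (.one ⟨4797, 4, 4⟩)) (.node 1 (.one ⟨16525, 4, 5⟩) (.one ⟨3480, 4, 5⟩)))) (.node 4 (.node 2 (.node 1 (.one ⟨2120, 3, 5⟩) (.one ⟨7161, 1, 4⟩)) (.node 1 (.one ⟨3386, 0, 6⟩) (.one ⟨3153, 5, 3⟩))) (.node 2 (.node 1 (.one ⟨8025, 1, 6⟩) (.one ⟨1720, 5, 5⟩)) (.node 1 (.one ⟨3654, 2, 5⟩) (.one ⟨9512, 0, 6⟩))))) (.node 8 (.node 4 (.node 2 (.node 1 (.one ⟨16222, 0, 6⟩) (.one ⟨13921, 1, 5⟩)) (.node 1 (.one ⟨16299, 2, 5⟩) (.one ⟨2122, 2, 5⟩))) (.node 2 (.node 1 (.one ⟨2347, 4, 4⟩) (.one ⟨1127, 2, 5⟩)) (.node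 1 (.one ⟨6663, 0, 4⟩) (.one ⟨14278, 0, 5⟩)))) (.node 4 (.node 2 (.node 1 (.one ⟨1954, 1, 5⟩) (.one ⟨11157, 2, 5⟩)) (.node 1 (.one ⟨5875, 0, 5⟩) (.one ⟨9819, 0, 5⟩))) (.node 2 (.node 1 (.one ⟨5852, 4, 5⟩) (.one ⟨5816, 1, 6⟩)) (.node 1 (.one ⟨15376, 3, 5⟩) (.one ⟨4050, 2, 5⟩)))))) (.node 16 (.node 8 (.node 4 (.node 2 (.node 1 (.one ⟨11323, 0, 2⟩) (.one ⟨15009, 1, 6⟩)) (.node 1 (.one ⟨11593, 3, 5⟩) (.one ⟨8856, 4, 6⟩))) (.node 2 (.node 1 (.one ⟨12651, 5, 6⟩) (.one ⟨5886, 3, 6⟩)) (.node 1 (.one ⟨16878, 4, 5⟩) (.one ⟨2779, 5, 5⟩)))) (.node 4 (.node 2 (.node 1 (.one ⟨5759, 1, 6⟩) (.one ⟨10413, 2, 5⟩)) (.node 1 (.one ⟨6325, 5, 6⟩) (.one ⟨17159, 1, 5⟩))) (.node 2 (.node 1 (.one ⟨5538, 4, 4⟩) (.one ⟨192, 2, 4⟩)) (.node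 1 (.one ⟨2850, 5, 5⟩) (.one ⟨1995, 0, 5⟩))))) (.node 8 (.node 4 (.node 2 (.node 1 (.one ⟨3891, 1, 4⟩) (.one ⟨1102, 2, 4⟩)) (.node 1 (.one ⟨13980, 5, 5⟩) (.one ⟨13443, 0, 5⟩))) (.node 2 (.node 1 (.one ⟨428, 4, 5⟩) (.one ⟨13310, 0, 6⟩)) (.node 1 (.one ⟨8757, 2, 6⟩) (.one ⟨9707, 4, 5⟩)))) (.node 4 (.node 2 (.node 1 (.one ⟨1867, 4, 5⟩) (.one ⟨5216, 5, 6⟩)) (.node 1 (.one ⟨13829, 0, 5⟩) (.one ⟨505, 0, 5⟩))) (.node 2 (.node 1 (.one ⟨5717, 1, 4⟩) (.one ⟨7585, 4, 6⟩)) (.node 1 (.one ⟨15249, 4, 5⟩) (.one ⟨6760, 1, 6⟩)))))))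
def par2_4_10 : Arr Par :=
  (.node 32 (.node 16 (.node 8 (.node 4 (.node 2 (.node 1 (.one ⟨16180, 3, 4⟩) (.one ⟨10925, 5, 5⟩)) (.node 1 (.one ⟨4030, 3, 4⟩) (.one ⟨11249, 5, 6⟩))) (.node 2 (.node 1 (.one ⟨16115, 3, 6⟩) (.one ⟨5471, 4, 6⟩)) (.node 1 (.one ⟨3771, 3, 5⟩) (.one ⟨1621, 0, 6⟩)))) (.node 4 (.node 2 (.node 1 (.one ⟨12851, 4, 5⟩) (.one ⟨3978, 2, 4⟩)) (.node 1 (.one ⟨4347, 4, 3⟩) (.one ⟨3708, 1, 3⟩))) (.node 2 (.node 1 (.one ⟨15174, 4, 6⟩) (.one ⟨9657, 4, 5⟩)) (.node 1 (.one ⟨6170, 4, 4⟩) (.one ⟨1570, 5, 5⟩))))) (.node 8 (.node 4 (.node 2 (.node 1 (.one ⟨9203, 2, 5⟩) (.one ⟨16055, 3, 6⟩)) (.node 1 (.one ⟨8940, 4, 3⟩) (.one ⟨7126, 5, 6⟩))) (.node 2 (.node 1 (.one ⟨8355, 1, 5⟩) (.one ⟨8315, 5, 6⟩)) (.node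 1 (.one ⟨15692, 0, 5⟩) (.one ⟨5295, 0, 6⟩)))) (.node 4 (.node 2 (.node 1 (.one ⟨1455, 3, 5⟩) (.one ⟨10672, 4, 5⟩)) (.node 1 (.one ⟨8202, 2, 5⟩) (.one ⟨15430, 2, 6⟩))) (.node 2 (.node 1 (.one ⟨13439, 0, 5⟩) (.one ⟨14328, 4, 5⟩)) (.node 1 (.one ⟨167, 5, 4⟩) (.one ⟨11912, 4, 5⟩)))))) (.node 16 (.node 8 (.node 4 (.node 2 (.node 1 (.one ⟨13949, 5, 4⟩) (.one ⟨5579, 3, 6⟩)) (.node 1 (.one ⟨17023, 0, 5⟩) (.one ⟨13808, 2, 5⟩))) (.node 2 (.node 1 (.one ⟨10111, 3, 5⟩) (.one ⟨1209, 5, 6⟩)) (.node 1 (.one ⟨6160, 3, 4⟩) (.one ⟨1415, 2, 4⟩)))) (.node 4 (.node 2 (.node 1 (.one ⟨6349, 4, 5⟩) (.one ⟨15286, 2, 6⟩)) (.node 1 (.one ⟨14448, 5, 6⟩) (.one ⟨4915, 0, 6⟩))) (.node 2 (.node 1 (.one ⟨13554, 0, 6⟩) (.one ⟨4520, 2, 6⟩)) (.node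 1 (.one ⟨14382, 0, 4⟩) (.one ⟨14723, 2, 5⟩))))) (.node 8 (.node 4 (.node 2 (.node 1 (.one ⟨8907, 0, 4⟩) (.one ⟨4363, 4, 5⟩)) (.node 1 (.one ⟨133, 5, 6⟩) (.one ⟨200, 1, 4⟩))) (.node 2 (.node 1 (.one ⟨4343, 4, 5⟩) (.one ⟨9649, 3, 5⟩)) (.node 1 (.one ⟨940, 5, 4⟩) (.one ⟨15822, 5, 5⟩)))) (.node 4 (.node 2 (.node 1 (.one ⟨671, 2, 4⟩) (.one ⟨5105, 2, 4⟩)) (.node 1 (.one ⟨7450, 2, 5⟩) (.one ⟨1956, 5, 6⟩))) (.node 2 (.node 1 (.one ⟨9193, 1, 5⟩) (.one ⟨5126, 2, 3⟩)) (.node 1 (.one ⟨15958, 1, 5⟩) (.one ⟨11526, 2, 6⟩)))))))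
def par2_4_11 : Arr Par :=
  (.node 32 (.node 16 (.node 8 (.node 4 (.node 2 (.node 1 (.one ⟨5862, 3, 5⟩) (.one ⟨11195, 4, 6⟩)) (.node 1 (.one ⟨746, 4, 6⟩) (.one ⟨421, 0, 5⟩))) (.node 2 (.node 1 (.one ⟨2164, 2, 6⟩) (.one ⟨16470, 5, 6⟩)) (.node 1 (.one ⟨15266, 3, 4⟩) (.one ⟨13978, 4, 4⟩)))) (.node 4 (.node 2 (.node 1 (.one ⟨1799, 5, 3⟩) (.one ⟨3732, 5, 4⟩)) (.node 1 (.one ⟨13289, 2, 4⟩) (.one ⟨8907, 3, 4⟩))) (.node 2 (.node 1 (.one ⟨13239, 2, 5⟩) (.one ⟨12714, 5, 5⟩)) (.node 1 (.one ⟨11847, 5, 5⟩) (.one ⟨4149, 4, 5⟩))))) (.node 8 (.node 4 (.node 2 (.node 1 (.one ⟨1059, 5, 6⟩) (.one ⟨11219, 2, 6⟩)) (.node 1 (.one ⟨10976, 4, 6⟩) (.one ⟨12999, 0, 5⟩))) (.node 2 (.node 1 (.one ⟨13097, 0, 5⟩) (.one ⟨4149, 5, 5⟩)) (.node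 1 (.one ⟨13912, 2, 6⟩) (.one ⟨78, 0, 6⟩)))) (.node 4 (.node 2 (.node 1 (.one ⟨14553, 4, 5⟩) (.one ⟨592, 0, 5⟩)) (.node 1 (.one ⟨9540, 0, 4⟩) (.one ⟨1822, 1, 5⟩))) (.node 2 (.node 1 (.one ⟨5161, 4, 5⟩) (.one ⟨9539, 0, 6⟩)) (.node 1 (.one ⟨13580, 5, 6⟩) (.one ⟨11098, 4, 4⟩)))))) (.node 16 (.node 8 (.node 4 (.node 2 (.node 1 (.one ⟨4540, 4, 5⟩) (.one ⟨8391, 2, 5⟩)) (.node 1 (.one ⟨1584, 1, 5⟩) (.one ⟨11880, 4, 5⟩))) (.node 2 (.node 1 (.one ⟨9378, 5, 4⟩) (.one ⟨15129, 4, 6⟩)) (.node 1 (.one ⟨15774, 3, 4⟩) (.one ⟨11816, 1, 6⟩)))) (.node 4 (.node 2 (.node 1 (.one ⟨2877, 4, 5⟩) (.one ⟨14630, 4, 5⟩)) (.node 1 (.one ⟨4023, 0, 6⟩) (.one ⟨11955, 1, 5⟩))) (.node 2 (.node 1 (.one ⟨3066, 5, 6⟩) (.one ⟨11351, 3, 6⟩)) (.node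 1 (.one ⟨5922, 4, 4⟩) (.one ⟨2845, 5, 6⟩))))) (.node 8 (.node 4 (.node 2 (.node 1 (.one ⟨15854, 5, 4⟩) (.one ⟨11937, 1, 5⟩)) (.node 1 (.one ⟨5581, 5, 5⟩) (.one ⟨16387, 2, 5⟩))) (.node 2 (.node 1 (.one ⟨12501, 2, 5⟩) (.one ⟨12000, 5, 5⟩)) (.node 1 (.one ⟨1592, 2, 6⟩) (.one ⟨13183, 1, 5⟩)))) (.node 4 (.node 2 (.node 1 (.one ⟨7717, 3, 4⟩) (.one ⟨6947, 5, 5⟩)) (.node 1 (.one ⟨16319, 2, 4⟩) (.one ⟨8291, 2, 4⟩))) (.node 2 (.node 1 (.one ⟨9999, 0, 5⟩) (.one ⟨11738, 3, 6⟩)) (.node 1 (.one ⟨3304, 1, 6⟩) (.one ⟨9016, 4, 4⟩)))))))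
def par2_4_12 : Arr Par :=
  (.node 32 (.node 16 (.node 8 (.node 4 (.node 2 (.node 1 (.one ⟨10466, 4, 5⟩) (.one ⟨11032, 1, 5⟩)) (.node 1 (.one ⟨3212, 2, 5⟩) (.one ⟨11040, 3, 3⟩))) (.node 2 (.node 1 (.one ⟨10612, 4, 5⟩) (.one ⟨12008, 1, 3⟩)) (.node 1 (.one ⟨16541, 4, 5⟩) (.one ⟨3383, 2, 5⟩)))) (.node 4 (.node 2 (.node 1 (.one ⟨10011, 1, 5⟩) (.one ⟨6707, 1, 6⟩)) (.node 1 (.one ⟨5722, 2, 4⟩) (.one ⟨5050, 0, 5⟩))) (.node 2 (.node 1 (.one ⟨3618, 1, 5⟩) (.one ⟨15454, 2, 5⟩)) (.node 1 (.one ⟨5757, 5, 5⟩) (.one ⟨3584, 1, 4⟩))))) (.node 8 (.node 4 (.node 2 (.node 1 (.one ⟨9346, 0, 6⟩) (.one ⟨13942, 2, 6⟩)) (.node 1 (.one ⟨5411, 0, 5⟩) (.one ⟨16755, 1, 5⟩))) (.node 2 (.node 1 (.one ⟨16767, 1, 5⟩) (.one ⟨2738, 1, 5⟩))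 (.node 1 (.one ⟨6140, 5, 5⟩) (.one ⟨4558, 2, 4⟩)))) (.node 4 (.node 2 (.node 1 (.one ⟨12817, 2, 5⟩) (.one ⟨5034, 2, 6⟩)) (.node 1 (.one ⟨2454, 5, 5⟩) (.one ⟨9652, 5, 5⟩))) (.node 2 (.node 1 (.one ⟨12647, 5, 5⟩) (.one ⟨13447, 4, 6⟩)) (.node 1 (.one ⟨104, 2, 5⟩) (.one ⟨16195, 5, 6⟩)))))) (.node 16 (.node 8 (.node 4 (.node 2 (.node 1 (.one ⟨7103, 0, 5⟩) (.one ⟨3167, 5, 6⟩)) (.node 1 (.one ⟨10670, 1, 4⟩) (.one ⟨3583, 5, 5⟩))) (.node 2 (.node 1 (.one ⟨13972, 3, 6⟩) (.one ⟨12907, 3, 4⟩)) (.node 1 (.one ⟨13593, 4, 5⟩) (.one ⟨1341, 5, 5⟩)))) (.node 4 (.node 2 (.node 1 (.one ⟨16157, 0, 5⟩) (.one ⟨203, 4, 5⟩)) (.node 1 (.one ⟨754, 5, 5⟩) (.one ⟨8227, 5, 5⟩))) (.node 2 (.node 1 (.one ⟨10384, 1, 3⟩) (.one ⟨8268, 3, 5⟩))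 (.node 1 (.one ⟨8821, 1, 5⟩) (.one ⟨13496, 4, 5⟩))))) (.node 8 (.node 4 (.node 2 (.node 1 (.one ⟨1183, 5, 6⟩) (.one ⟨8883, 1, 5⟩)) (.node 1 (.one ⟨12650, 1, 5⟩) (.one ⟨4547, 2, 5⟩))) (.node 2 (.node 1 (.one ⟨3978, 5, 4⟩) (.one ⟨9442, 5, 4⟩)) (.node 1 (.one ⟨12038, 5, 5⟩) (.one ⟨11441, 5, 5⟩)))) (.node 4 (.node 2 (.node 1 (.one ⟨16174, 0, 6⟩) (.one ⟨8076, 0, 5⟩)) (.node 1 (.one ⟨3013, 3, 6⟩) (.one ⟨7107, 5, 5⟩))) (.node 2 (.node 1 (.one ⟨6083, 1, 6⟩) (.one ⟨2894, 5, 5⟩)) (.node 1 (.one ⟨9923, 4, 5⟩) (.one ⟨12128, 3, 1⟩)))))))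
def par2_4_13 : Arr Par :=
  (.node 32 (.node 16 (.node 8 (.node 4 (.node 2 (.node 1 (.one ⟨5328, 2, 6⟩) (.one ⟨3081, 5, 2⟩)) (.node 1 (.one ⟨14262, 0, 5⟩) (.one ⟨6918, 4, 4⟩))) (.node 2 (.node 1 (.one ⟨6435, 0, 5⟩) (.one ⟨10672, 3, 5⟩)) (.node 1 (.one ⟨14635, 2, 6⟩) (.one ⟨6788, 5, 5⟩)))) (.node 4 (.node 2 (.node 1 (.one ⟨8316, 5, 6⟩) (.one ⟨16019, 5, 5⟩)) (.node 1 (.one ⟨16878, 3, 5⟩) (.one ⟨17198, 1, 5⟩))) (.node 2 (.node 1 (.one ⟨16116, 0, 4⟩) (.one ⟨6111, 1, 5⟩)) (.node 1 (.one ⟨1544, 1, 4⟩) (.one ⟨13342, 1, 6⟩))))) (.node 8 (.node 4 (.node 2 (.node 1 (.one ⟨8142, 4, 5⟩) (.one ⟨8843, 2, 6⟩)) (.node 1 (.one ⟨16865, 1, 6⟩) (.one ⟨12460, 5, 4⟩))) (.node 2 (.node 1 (.one ⟨9708, 5, 5⟩) (.one ⟨11460, 5, 4⟩))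 (.node 1 (.one ⟨502, 4, 4⟩) (.one ⟨12709, 1, 4⟩)))) (.node 4 (.node 2 (.node 1 (.one ⟨11909, 4, 4⟩) (.one ⟨4522, 0, 6⟩)) (.node 1 (.one ⟨6705, 0, 6⟩) (.one ⟨15722, 5, 5⟩))) (.node 2 (.node 1 (.one ⟨14836, 1, 6⟩) (.one ⟨7753, 3, 6⟩)) (.node 1 (.one ⟨15954, 4, 5⟩) (.one ⟨11907, 2, 5⟩)))))) (.node 16 (.node 8 (.node 4 (.node 2 (.node 1 (.one ⟨14695, 4, 6⟩) (.one ⟨10612, 2, 5⟩)) (.node 1 (.one ⟨648, 2, 5⟩) (.one ⟨5003, 4, 5⟩))) (.node 2 (.node 1 (.one ⟨13546, 2, 6⟩) (.one ⟨4487, 1, 5⟩)) (.node 1 (.one ⟨12898, 5, 5⟩) (.one ⟨7443, 5, 5⟩)))) (.node 4 (.node 2 (.node 1 (.one ⟨11683, 1, 6⟩) (.one ⟨9274, 4, 4⟩)) (.node 1 (.one ⟨13838, 0, 4⟩) (.one ⟨4764, 2, 6⟩))) (.node 2 (.node 1 (.one ⟨11548, 0, 6⟩) (.one ⟨16787, 1,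 4⟩)) (.node 1 (.one ⟨9106, 4, 6⟩) (.one ⟨13516, 0, 4⟩))))) (.node 8 (.node 4 (.node 2 (.node 1 (.one ⟨4765, 3, 6⟩) (.one ⟨2608, 3, 5⟩)) (.node 1 (.one ⟨5246, 3, 5⟩) (.one ⟨1339, 5, 6⟩))) (.node 2 (.node 1 (.one ⟨7062, 2, 5⟩) (.one ⟨8196, 5, 3⟩)) (.node 1 (.one ⟨2362, 3, 6⟩) (.one ⟨5879, 5, 6⟩)))) (.node 4 (.node 2 (.node 1 (.one ⟨11956, 2, 6⟩) (.one ⟨4172, 2, 5⟩)) (.node 1 (.one ⟨15495, 3, 5⟩) (.one ⟨1821, 4, 4⟩))) (.node 2 (.node 1 (.one ⟨7716, 5, 5⟩) (.one ⟨10480, 0, 4⟩)) (.node 1 (.one ⟨9764, 5, 5⟩) (.one ⟨9149, 1, 5⟩)))))))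
def par2_4_14 : Arr Par :=
  (.node 32 (.node 16 (.node 8 (.node 4 (.node 2 (.node 1 (.one ⟨10370, 0, 5⟩) (.one ⟨14881, 2, 7⟩)) (.node 1 (.one ⟨10123, 5, 6⟩) (.one ⟨1673, 4, 5⟩))) (.node 2 (.node 1 (.one ⟨14292, 1, 6⟩) (.one ⟨14273, 1, 5⟩)) (.node 1 (.one ⟨9712, 0, 6⟩) (.one ⟨9774, 5, 5⟩)))) (.node 4 (.node 2 (.node 1 (.one ⟨696, 1, 6⟩) (.one ⟨15303, 3, 5⟩)) (.node 1 (.one ⟨7317, 2, 4⟩) (.one ⟨11909, 1, 4⟩))) (.node 2 (.node 1 (.one ⟨506, 2, 4⟩) (.one ⟨7354, 5, 6⟩)) (.node 1 (.one ⟨15953, 1, 4⟩) (.one ⟨13070, 3, 5⟩))))) (.node 8 (.node 4 (.node 2 (.node 1 (.one ⟨3480, 1, 5⟩) (.one ⟨8518, 5, 2⟩)) (.node 1 (.one ⟨13194, 1, 6⟩) (.one ⟨7472, 2, 3⟩))) (.node 2 (.node 1 (.one ⟨11879, 0, 6⟩) (.one ⟨4405, 5, 6⟩)) (.node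 1 (.one ⟨11556, 5, 4⟩) (.one ⟨15843, 3, 4⟩)))) (.node 4 (.node 2 (.node 1 (.one ⟨14633, 3, 6⟩) (.one ⟨11166, 2, 5⟩)) (.node 1 (.one ⟨3783, 4, 6⟩) (.one ⟨5658, 2, 5⟩))) (.node 2 (.node 1 (.one ⟨10281, 0, 4⟩) (.one ⟨11631, 1, 4⟩)) (.node 1 (.one ⟨10243, 5, 3⟩) (.one ⟨12652, 1, 6⟩)))))) (.node 16 (.node 8 (.node 4 (.node 2 (.node 1 (.one ⟨4223, 5, 5⟩) (.one ⟨7919, 5, 5⟩)) (.node 1 (.one ⟨11256, 5, 6⟩) (.one ⟨5540, 5, 6⟩))) (.node 2 (.node 1 (.one ⟨12429, 2, 5⟩) (.one ⟨11513, 4, 6⟩)) (.node 1 (.one ⟨8675, 5, 4⟩) (.one ⟨12828, 5, 6⟩)))) (.node 4 (.node 2 (.node 1 (.one ⟨11963, 2, 6⟩) (.one ⟨436, 2, 5⟩)) (.node 1 (.one ⟨7201, 2, 5⟩) (.one ⟨11614, 2, 3⟩))) (.node 2 (.node 1 (.one ⟨10651, 1, 5⟩) (.one ⟨6736, 2, 3⟩))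 (.node 1 (.one ⟨13845, 0, 6⟩) (.one ⟨5561, 4, 5⟩))))) (.node 8 (.node 4 (.node 2 (.node 1 (.one ⟨1866, 1, 4⟩) (.one ⟨11999, 0, 5⟩)) (.node 1 (.one ⟨10684, 5, 5⟩) (.one ⟨14617, 0, 4⟩))) (.node 2 (.node 1 (.one ⟨11899, 3, 6⟩) (.one ⟨5921, 5, 6⟩)) (.node 1 (.one ⟨15930, 2, 6⟩) (.one ⟨6337, 5, 6⟩)))) (.node 4 (.node 2 (.node 1 (.one ⟨13658, 4, 5⟩) (.one ⟨15385, 1, 4⟩)) (.node 1 (.one ⟨8447, 5, 4⟩) (.one ⟨9673, 4, 4⟩))) (.node 2 (.node 1 (.one ⟨15821, 0, 5⟩) (.one ⟨15285, 4, 5⟩)) (.node 1 (.one ⟨7311, 0, 5⟩) (.one ⟨12857, 5, 5⟩)))))))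
def par2_4_15 : Arr Par :=
  (.node 32 (.node 16 (.node 8 (.node 4 (.node 2 (.node 1 (.one ⟨12385, 4, 4⟩) (.one ⟨1450, 2, 5⟩)) (.node 1 (.one ⟨5545, 5, 5⟩) (.one ⟨12104, 4, 5⟩))) (.node 2 (.node 1 (.one ⟨10084, 1, 5⟩) (.one ⟨2926, 5, 6⟩)) (.node 1 (.one ⟨14392, 4, 5⟩) (.one ⟨333, 2, 5⟩)))) (.node 4 (.node 2 (.node 1 (.one ⟨16176, 0, 6⟩) (.one ⟨7437, 1, 5⟩)) (.node 1 (.one ⟨6227, 3, 6⟩) (.one ⟨538, 2, 5⟩))) (.node 2 (.node 1 (.one ⟨14396, 4, 4⟩) (.one ⟨1074, 0, 4⟩)) (.node 1 (.one ⟨5717, 5, 4⟩) (.one ⟨6329, 1, 4⟩))))) (.node 8 (.node 4 (.node 2 (.node 1 (.one ⟨13504, 2, 5⟩) (.one ⟨7358, 5, 5⟩)) (.node 1 (.one ⟨9191, 1, 6⟩) (.one ⟨14246, 3, 4⟩))) (.node 2 (.node 1 (.one ⟨15758, 3, 5⟩) (.one ⟨11171, 4, 6⟩)) (.node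 1 (.one ⟨911, 2, 5⟩) (.one ⟨8880, 1, 4⟩)))) (.node 4 (.node 2 (.node 1 (.one ⟨526, 2, 5⟩) (.one ⟨15517, 2, 4⟩)) (.node 1 (.one ⟨11401, 0, 5⟩) (.one ⟨11663, 2, 6⟩))) (.node 2 (.node 1 (.one ⟨9515, 0, 4⟩) (.one ⟨5763, 0, 6⟩)) (.node 1 (.one ⟨8767, 2, 3⟩) (.one ⟨14431, 5, 5⟩)))))) (.node 16 (.node 8 (.node 4 (.node 2 (.node 1 (.one ⟨2903, 4, 4⟩) (.one ⟨2738, 2, 5⟩)) (.node 1 (.one ⟨696, 0, 6⟩) (.one ⟨1663, 4, 4⟩))) (.node 2 (.node 1 (.one ⟨4024, 5, 6⟩) (.one ⟨4878, 0, 6⟩)) (.node 1 (.one ⟨10089, 4, 5⟩) (.one ⟨9856, 2, 5⟩)))) (.node 4 (.node 2 (.node 1 (.one ⟨14386, 1, 6⟩) (.one ⟨4204, 2, 4⟩)) (.node 1 (.one ⟨10367, 0, 5⟩) (.one ⟨9942, 0, 5⟩))) (.node 2 (.node 1 (.one ⟨11099, 5, 6⟩) (.one ⟨5963, 3, 4⟩)) (.node 1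 (.one ⟨13466, 3, 6⟩) (.one ⟨4060, 5, 4⟩))))) (.node 8 (.node 4 (.node 2 (.node 1 (.one ⟨5474, 1, 5⟩) (.one ⟨10908, 1, 3⟩)) (.node 1 (.one ⟨8522, 4, 3⟩) (.one ⟨4210, 1, 6⟩))) (.node 2 (.node 1 (.one ⟨4056, 5, 4⟩) (.one ⟨13241, 3, 4⟩)) (.node 1 (.one ⟨9766, 1, 4⟩) (.one ⟨5385, 3, 5⟩)))) (.node 4 (.node 2 (.node 1 (.one ⟨50, 5, 6⟩) (.one ⟨1303, 2, 6⟩)) (.node 1 (.one ⟨4102, 2, 5⟩) (.one ⟨4149, 2, 5⟩))) (.node 2 (.node 1 (.one ⟨13448, 5, 5⟩) (.one ⟨10146, 5, 5⟩)) (.node 1 (.one ⟨6625, 4, 4⟩) (.one ⟨4793, 3, 5⟩)))))))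
def par2_4 : Arr Par :=
  (.node 512 (.node 256 (.node 128 (.node 64 par2_4_0 par2_4_1) (.node 64 par2_4_2 par2_4_3)) (.node 128 (.node 64 par2_4_4 par2_4_5) (.node 64 par2_4_6 par2_4_7))) (.node 256 (.node 128 (.node 64 par2_4_8 par2_4_9) (.node 64 par2_4_10 par2_4_11)) (.node 128 (.node 64 par2_4_12 par2_4_13) (.node 64 par2_4_14 par2_4_15))))
def par2_5_0 : Arr Par :=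
  (.node 32 (.node 16 (.node 8 (.node 4 (.node 2 (.node 1 (.one ⟨729, 0, 6⟩) (.one ⟨12041, 2, 4⟩)) (.node 1 (.one ⟨10401, 4, 5⟩) (.one ⟨15843, 5, 4⟩))) (.node 2 (.node 1 (.one ⟨11539, 3, 5⟩) (.one ⟨15768, 1, 5⟩)) (.node 1 (.one ⟨12462, 3, 2⟩) (.one ⟨5155, 5, 6⟩)))) (.node 4 (.node 2 (.node 1 (.one ⟨3997, 1, 6⟩) (.one ⟨16325, 1, 6⟩)) (.node 1 (.one ⟨3845, 3, 4⟩) (.one ⟨7612, 0, 5⟩))) (.node 2 (.node 1 (.one ⟨931, 4, 5⟩) (.one ⟨2549, 4, 6⟩)) (.node 1 (.one ⟨2557, 1, 6⟩) (.one ⟨16939, 5, 6⟩))))) (.node 8 (.node 4 (.node 2 (.node 1 (.one ⟨1035, 4, 5⟩) (.one ⟨7064, 2, 6⟩)) (.node 1 (.one ⟨556, 4, 5⟩) (.one ⟨11933, 0, 5⟩))) (.node 2 (.node 1 (.one ⟨11435, 5, 6⟩) (.one ⟨937, 1, 4⟩)) (.node 1 (.one ⟨16234, 2, 4⟩) (.one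 ⟨16809, 5, 5⟩)))) (.node 4 (.node 2 (.node 1 (.one ⟨10204, 5, 5⟩) (.one ⟨6295, 4, 6⟩)) (.node 1 (.one ⟨14461, 0, 5⟩) (.one ⟨17118, 2, 4⟩))) (.node 2 (.node 1 (.one ⟨10386, 0, 5⟩) (.one ⟨6003, 5, 4⟩)) (.node 1 (.one ⟨6621, 2, 6⟩) (.one ⟨1898, 3, 6⟩)))))) (.node 16 (.node 8 (.node 4 (.node 2 (.node 1 (.one ⟨10129, 2, 5⟩) (.one ⟨9954, 3, 7⟩)) (.node 1 (.one ⟨7911, 0, 5⟩) (.one ⟨3004, 5, 5⟩))) (.node 2 (.node 1 (.one ⟨9813, 5, 4⟩) (.one ⟨9942, 3, 5⟩)) (.node 1 (.one ⟨16658, 4, 6⟩) (.one ⟨8744, 1, 4⟩)))) (.node 4 (.node 2 (.node 1 (.one ⟨2794, 1, 4⟩) (.one ⟨12041, 4, 4⟩)) (.node 1 (.one ⟨1500, 5, 5⟩) (.one ⟨11990, 1, 5⟩))) (.node 2 (.node 1 (.one ⟨3655, 4, 6⟩) (.one ⟨17125, 1, 5⟩)) (.node 1 (.one ⟨4102, 3, 5⟩) (.one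 ⟨1909, 1, 6⟩))))) (.node 8 (.node 4 (.node 2 (.node 1 (.one ⟨1394, 0, 4⟩) (.one ⟨8013, 5, 4⟩)) (.node 1 (.one ⟨10224, 0, 6⟩) (.one ⟨7844, 5, 2⟩))) (.node 2 (.node 1 (.one ⟨1433, 4, 6⟩) (.one ⟨16658, 3, 6⟩)) (.node 1 (.one ⟨742, 5, 4⟩) (.one ⟨11644, 0, 5⟩)))) (.node 4 (.node 2 (.node 1 (.one ⟨10899, 5, 5⟩) (.one ⟨7934, 5, 5⟩)) (.node 1 (.one ⟨8799, 0, 6⟩) (.one ⟨4179, 1, 5⟩))) (.node 2 (.node 1 (.one ⟨15512, 0, 6⟩) (.one ⟨1946, 4, 5⟩)) (.node 1 (.one ⟨4965, 2, 6⟩) (.one ⟨7058, 4, 2⟩)))))))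
def par2_5_1 : Arr Par :=
  (.node 32 (.node 16 (.node 8 (.node 4 (.node 2 (.node 1 (.one ⟨14773, 3, 6⟩) (.one ⟨11047, 4, 4⟩)) (.node 1 (.one ⟨11625, 1, 5⟩) (.one ⟨2608, 0, 5⟩))) (.node 2 (.node 1 (.one ⟨3455, 4, 5⟩) (.one ⟨10581, 1, 5⟩)) (.node 1 (.one ⟨14228, 3, 6⟩) (.one ⟨8267, 3, 4⟩)))) (.node 4 (.node 2 (.node 1 (.one ⟨5185, 1, 5⟩) (.one ⟨11110, 2, 4⟩)) (.node 1 (.one ⟨7763, 5, 6⟩) (.one ⟨6110, 4, 5⟩))) (.node 2 (.node 1 (.one ⟨3805, 2, 5⟩) (.one ⟨16941, 1, 5⟩)) (.node 1 (.one ⟨13160, 3, 5⟩) (.one ⟨3105, 2, 5⟩))))) (.node 8 (.node 4 (.node 2 (.node 1 (.one ⟨8188, 4, 6⟩) (.one ⟨9106, 5, 6⟩)) (.node 1 (.one ⟨12650, 2, 5⟩) (.one ⟨661, 0, 5⟩))) (.node 2 (.node 1 (.one ⟨8497, 2, 5⟩) (.one ⟨15618, 1, 2⟩)) (.node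 1 (.one ⟨16222, 4, 6⟩) (.one ⟨14386, 5, 6⟩)))) (.node 4 (.node 2 (.node 1 (.one ⟨7681, 4, 5⟩) (.one ⟨9888, 1, 4⟩)) (.node 1 (.one ⟨11572, 1, 5⟩) (.one ⟨13152, 2, 5⟩))) (.node 2 (.node 1 (.one ⟨16099, 0, 6⟩) (.one ⟨3229, 5, 5⟩)) (.node 1 (.one ⟨8754, 5, 6⟩) (.one ⟨9378, 4, 4⟩)))))) (.node 16 (.node 8 (.node 4 (.node 2 (.node 1 (.one ⟨10853, 2, 5⟩) (.one ⟨15383, 5, 5⟩)) (.node 1 (.one ⟨7112, 5, 6⟩) (.one ⟨10911, 5, 5⟩))) (.node 2 (.node 1 (.one ⟨9930, 4, 5⟩) (.one ⟨5634, 0, 6⟩)) (.node 1 (.one ⟨5601, 1, 6⟩) (.one ⟨8080, 3, 5⟩)))) (.node 4 (.node 2 (.node 1 (.one ⟨772, 2, 5⟩) (.one ⟨7770, 0, 3⟩)) (.node 1 (.one ⟨15725, 3, 4⟩) (.one ⟨1005, 5, 6⟩))) (.node 2 (.node 1 (.one ⟨12676, 2, 3⟩) (.one ⟨3502, 0, 6⟩)) (.node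 1 (.one ⟨12784, 2, 4⟩) (.one ⟨3734, 1, 4⟩))))) (.node 8 (.node 4 (.node 2 (.node 1 (.one ⟨10288, 5, 6⟩) (.one ⟨1444, 2, 5⟩)) (.node 1 (.one ⟨11635, 4, 5⟩) (.one ⟨2872, 1, 4⟩))) (.node 2 (.node 1 (.one ⟨2903, 1, 4⟩) (.one ⟨13206, 4, 5⟩)) (.node 1 (.one ⟨5608, 1, 5⟩) (.one ⟨1455, 2, 5⟩)))) (.node 4 (.node 2 (.node 1 (.one ⟨10146, 3, 5⟩) (.one ⟨5633, 5, 6⟩)) (.node 1 (.one ⟨10574, 1, 4⟩) (.one ⟨7695, 5, 5⟩))) (.node 2 (.node 1 (.one ⟨16679, 5, 5⟩) (.one ⟨5759, 5, 6⟩)) (.node 1 (.one ⟨15136, 5, 4⟩) (.one ⟨3552, 0, 5⟩)))))))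
def par2_5_2 : Arr Par :=
  (.node 32 (.node 16 (.node 8 (.node 4 (.node 2 (.node 1 (.one ⟨5658, 4, 5⟩) (.one ⟨425, 5, 6⟩)) (.node 1 (.one ⟨6695, 1, 6⟩) (.one ⟨6111, 2, 5⟩))) (.node 2 (.node 1 (.one ⟨9221, 0, 4⟩) (.one ⟨17198, 2, 5⟩)) (.node 1 (.one ⟨1544, 2, 4⟩) (.one ⟨2912, 2, 6⟩)))) (.node 4 (.node 2 (.node 1 (.one ⟨6191, 1, 2⟩) (.one ⟨16805, 4, 3⟩)) (.node 1 (.one ⟨9446, 2, 4⟩) (.one ⟨4916, 4, 5⟩))) (.node 2 (.node 1 (.one ⟨923, 1, 5⟩) (.one ⟨6497, 4, 5⟩)) (.node 1 (.one ⟨5345, 5, 6⟩) (.one ⟨14042, 4, 6⟩))))) (.node 8 (.node 4 (.node 2 (.node 1 (.one ⟨4076, 0, 6⟩) (.one ⟨5345, 4, 6⟩)) (.node 1 (.one ⟨8657, 5, 6⟩) (.one ⟨5717, 2, 4⟩))) (.node 2 (.node 1 (.one ⟨11931, 3, 4⟩) (.one ⟨14173, 2, 5⟩)) (.node 1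 (.one ⟨7997, 5, 5⟩) (.one ⟨16098, 5, 6⟩)))) (.node 4 (.node 2 (.node 1 (.one ⟨14469, 5, 5⟩) (.one ⟨5776, 4, 6⟩)) (.node 1 (.one ⟨15968, 5, 5⟩) (.one ⟨722, 3, 5⟩))) (.node 2 (.node 1 (.one ⟨9510, 5, 5⟩) (.one ⟨5780, 4, 5⟩)) (.node 1 (.one ⟨10815, 0, 6⟩) (.one ⟨8466, 2, 4⟩)))))) (.node 16 (.node 8 (.node 4 (.node 2 (.node 1 (.one ⟨8059, 4, 6⟩) (.one ⟨9295, 1, 5⟩)) (.node 1 (.one ⟨10819, 1, 5⟩) (.one ⟨691, 4, 4⟩))) (.node 2 (.node 1 (.one ⟨5647, 2, 4⟩) (.one ⟨6452, 0, 5⟩)) (.node 1 (.one ⟨14593, 3, 5⟩) (.one ⟨1171, 4, 6⟩)))) (.node 4 (.node 2 (.node 1 (.one ⟨13441, 0, 5⟩) (.one ⟨13588, 2, 5⟩)) (.node 1 (.one ⟨5115, 5, 6⟩) (.one ⟨2638, 5, 4⟩))) (.node 2 (.node 1 (.one ⟨9633, 4, 4⟩) (.one ⟨12816, 5, 5⟩)) (.node 1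 (.one ⟨8964, 1, 5⟩) (.one ⟨3495, 1, 5⟩))))) (.node 8 (.node 4 (.node 2 (.node 1 (.one ⟨15845, 2, 5⟩) (.one ⟨2164, 1, 6⟩)) (.node 1 (.one ⟨8978, 2, 6⟩) (.one ⟨8907, 5, 4⟩))) (.node 2 (.node 1 (.one ⟨4721, 1, 5⟩) (.one ⟨14043, 4, 4⟩)) (.node 1 (.one ⟨14954, 3, 5⟩) (.one ⟨10689, 4, 5⟩)))) (.node 4 (.node 2 (.node 1 (.one ⟨13578, 0, 5⟩) (.one ⟨14614, 5, 6⟩)) (.node 1 (.one ⟨1911, 4, 6⟩) (.one ⟨15445, 2, 5⟩))) (.node 2 (.node 1 (.one ⟨15440, 2, 6⟩) (.one ⟨9538, 1, 3⟩)) (.node 1 (.one ⟨8819, 0, 6⟩) (.one ⟨6601, 4, 4⟩)))))))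
def par2_5_3 : Arr Par :=
  (.node 32 (.node 16 (.node 8 (.node 4 (.node 2 (.node 1 (.one ⟨13434, 1, 6⟩) (.one ⟨9181, 0, 5⟩)) (.node 1 (.one ⟨15789, 3, 6⟩) (.one ⟨10032, 5, 3⟩))) (.node 2 (.node 1 (.one ⟨14845, 5, 6⟩) (.one ⟨9495, 4, 4⟩)) (.node 1 (.one ⟨14865, 2, 5⟩) (.one ⟨188, 3, 4⟩)))) (.node 4 (.node 2 (.node 1 (.one ⟨11175, 5, 5⟩) (.one ⟨4987, 0, 5⟩)) (.node 1 (.one ⟨790, 0, 5⟩) (.one ⟨15208, 0, 5⟩))) (.node 2 (.node 1 (.one ⟨13164, 1, 5⟩) (.one ⟨1497, 1, 6⟩)) (.node 1 (.one ⟨16066, 5, 5⟩) (.one ⟨15774, 4, 4⟩))))) (.node 8 (.node 4 (.node 2 (.node 1 (.one ⟨3259, 2, 5⟩) (.one ⟨12058, 4, 4⟩)) (.node 1 (.one ⟨2401, 4, 4⟩) (.one ⟨9640, 0, 6⟩))) (.node 2 (.node 1 (.one ⟨4746, 3, 4⟩) (.one ⟨7944, 5, 6⟩)) (.node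 1 (.one ⟨13828, 2, 4⟩) (.one ⟨8856, 2, 6⟩)))) (.node 4 (.node 2 (.node 1 (.one ⟨9643, 4, 6⟩) (.one ⟨16594, 1, 6⟩)) (.node 1 (.one ⟨4857, 3, 6⟩) (.one ⟨13115, 2, 3⟩))) (.node 2 (.node 1 (.one ⟨4293, 1, 6⟩) (.one ⟨7806, 5, 7⟩)) (.node 1 (.one ⟨2707, 0, 4⟩) (.one ⟨14599, 5, 1⟩)))))) (.node 16 (.node 8 (.node 4 (.node 2 (.node 1 (.one ⟨7152, 4, 6⟩) (.one ⟨10673, 0, 5⟩)) (.node 1 (.one ⟨17134, 2, 5⟩) (.one ⟨15499, 1, 6⟩))) (.node 2 (.node 1 (.one ⟨7444, 1, 5⟩) (.one ⟨5886, 5, 6⟩)) (.node 1 (.one ⟨1584, 2, 5⟩) (.one ⟨5154, 5, 6⟩)))) (.node 4 (.node 2 (.node 1 (.one ⟨12701, 3, 4⟩) (.one ⟨1850, 4, 6⟩)) (.node 1 (.one ⟨9841, 0, 5⟩) (.one ⟨2682, 4, 6⟩))) (.node 2 (.node 1 (.one ⟨14639, 2, 6⟩) (.one ⟨3594, 3, 5⟩)) (.node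 1 (.one ⟨5071, 1, 5⟩) (.one ⟨3126, 2, 4⟩))))) (.node 8 (.node 4 (.node 2 (.node 1 (.one ⟨5951, 5, 4⟩) (.one ⟨251, 4, 3⟩)) (.node 1 (.one ⟨964, 2, 4⟩) (.one ⟨15277, 4, 5⟩))) (.node 2 (.node 1 (.one ⟨7309, 0, 6⟩) (.one ⟨13828, 1, 4⟩)) (.node 1 (.one ⟨11755, 4, 5⟩) (.one ⟨5502, 3, 4⟩)))) (.node 4 (.node 2 (.node 1 (.one ⟨8010, 5, 3⟩) (.one ⟨1103, 3, 4⟩)) (.node 1 (.one ⟨15606, 5, 6⟩) (.one ⟨1490, 5, 6⟩))) (.node 2 (.node 1 (.one ⟨12022, 3, 4⟩) (.one ⟨9353, 0, 4⟩)) (.node 1 (.one ⟨13293, 5, 6⟩) (.one ⟨5564, 1, 6⟩)))))))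
def par2_5_4 : Arr Par :=
  (.node 32 (.node 16 (.node 8 (.node 4 (.node 2 (.node 1 (.one ⟨10020, 0, 3⟩) (.one ⟨10793, 0, 3⟩)) (.node 1 (.one ⟨6167, 0, 5⟩) (.one ⟨6998, 2, 4⟩))) (.node 2 (.node 1 (.one ⟨16530, 3, 5⟩) (.one ⟨15085, 4, 3⟩)) (.node 1 (.one ⟨5553, 0, 6⟩) (.one ⟨8972, 5, 5⟩)))) (.node 4 (.node 2 (.node 1 (.one ⟨572, 3, 4⟩) (.one ⟨10577, 5, 4⟩)) (.node 1 (.one ⟨15719, 5, 5⟩) (.one ⟨7537, 0, 6⟩))) (.node 2 (.node 1 (.one ⟨17129, 4, 5⟩) (.one ⟨10078, 0, 5⟩)) (.node 1 (.one ⟨5118, 3, 5⟩) (.one ⟨15362, 2, 4⟩))))) (.node 8 (.node 4 (.node 2 (.node 1 (.one ⟨12847, 0, 5⟩) (.one ⟨3259, 3, 5⟩)) (.node 1 (.one ⟨5569, 5, 5⟩) (.one ⟨1158, 1, 4⟩))) (.node 2 (.node 1 (.one ⟨16444, 1, 5⟩) (.one ⟨13048, 4, 7⟩)) (.node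 1 (.one ⟨5780, 5, 5⟩) (.one ⟨5690, 4, 5⟩)))) (.node 4 (.node 2 (.node 1 (.one ⟨652, 4, 5⟩) (.one ⟨3500, 3, 4⟩)) (.node 1 (.one ⟨2907, 5, 6⟩) (.one ⟨11933, 5, 5⟩))) (.node 2 (.node 1 (.one ⟨9454, 4, 4⟩) (.one ⟨10582, 3, 6⟩)) (.node 1 (.one ⟨6191, 4, 2⟩) (.one ⟨15723, 3, 5⟩)))))) (.node 16 (.node 8 (.node 4 (.node 2 (.node 1 (.one ⟨3785, 4, 4⟩) (.one ⟨9575, 5, 6⟩)) (.node 1 (.one ⟨1147, 3, 5⟩) (.one ⟨4459, 4, 4⟩))) (.node 2 (.node 1 (.one ⟨15113, 1, 5⟩) (.one ⟨10341, 2, 6⟩)) (.node 1 (.one ⟨11736, 2, 4⟩) (.one ⟨4484, 2, 6⟩)))) (.node 4 (.node 2 (.node 1 (.one ⟨4355, 4, 5⟩) (.one ⟨13542, 0, 5⟩)) (.node 1 (.one ⟨11667, 3, 6⟩) (.one ⟨4351, 0, 6⟩))) (.node 2 (.node 1 (.one ⟨10389, 0, 5⟩) (.one ⟨857, 5, 6⟩)) (.node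 1 (.one ⟨482, 3, 5⟩) (.one ⟨13686, 1, 5⟩))))) (.node 8 (.node 4 (.node 2 (.node 1 (.one ⟨7459, 5, 6⟩) (.one ⟨7911, 3, 5⟩)) (.node 1 (.one ⟨11144, 5, 6⟩) (.one ⟨7215, 1, 5⟩))) (.node 2 (.node 1 (.one ⟨8017, 2, 5⟩) (.one ⟨10676, 0, 6⟩)) (.node 1 (.one ⟨11230, 1, 6⟩) (.one ⟨9011, 5, 5⟩)))) (.node 4 (.node 2 (.node 1 (.one ⟨13263, 2, 5⟩) (.one ⟨14661, 1, 3⟩)) (.node 1 (.one ⟨11979, 4, 4⟩) (.one ⟨16330, 0, 5⟩))) (.node 2 (.node 1 (.one ⟨7312, 0, 5⟩) (.one ⟨7654, 4, 6⟩)) (.node 1 (.one ⟨12526, 1, 4⟩) (.one ⟨5967, 3, 5⟩)))))))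
def par2_5_5 : Arr Par :=
  (.node 32 (.node 16 (.node 8 (.node 4 (.node 2 (.node 1 (.one ⟨11382, 2, 5⟩) (.one ⟨1163, 5, 6⟩)) (.node 1 (.one ⟨10155, 3, 5⟩) (.one ⟨14369, 1, 5⟩))) (.node 2 (.node 1 (.one ⟨1649, 4, 5⟩) (.one ⟨17154, 1, 5⟩)) (.node 1 (.one ⟨760, 4, 5⟩) (.one ⟨3403, 4, 5⟩)))) (.node 4 (.node 2 (.node 1 (.one ⟨12325, 0, 5⟩) (.one ⟨16583, 0, 6⟩)) (.node 1 (.one ⟨10056, 5, 6⟩) (.one ⟨2889, 2, 5⟩))) (.node 2 (.node 1 (.one ⟨438, 5, 6⟩) (.one ⟨13745, 1, 4⟩)) (.node 1 (.one ⟨768, 5, 5⟩) (.one ⟨12792, 2, 4⟩))))) (.node 8 (.node 4 (.node 2 (.node 1 (.one ⟨7532, 4, 5⟩) (.one ⟨16541, 1, 5⟩)) (.node 1 (.one ⟨526, 5, 5⟩) (.one ⟨10047, 4, 6⟩))) (.node 2 (.node 1 (.one ⟨8091, 3, 6⟩) (.one ⟨13931, 0, 4⟩)) (.node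 1 (.one ⟨16968, 1, 5⟩) (.one ⟨15572, 3, 5⟩)))) (.node 4 (.node 2 (.node 1 (.one ⟨668, 4, 6⟩) (.one ⟨6401, 5, 6⟩)) (.node 1 (.one ⟨2978, 3, 6⟩) (.one ⟨106, 2, 5⟩))) (.node 2 (.node 1 (.one ⟨13381, 2, 4⟩) (.one ⟨4771, 5, 6⟩)) (.node 1 (.one ⟨5994, 1, 5⟩) (.one ⟨379, 1, 5⟩)))))) (.node 16 (.node 8 (.node 4 (.node 2 (.node 1 (.one ⟨16328, 0, 3⟩) (.one ⟨12465, 4, 6⟩)) (.node 1 (.one ⟨10984, 0, 4⟩) (.one ⟨16462, 5, 5⟩))) (.node 2 (.node 1 (.one ⟨16314, 3, 5⟩) (.one ⟨8538, 5, 6⟩)) (.node 1 (.one ⟨12108, 3, 4⟩) (.one ⟨13554, 1, 6⟩)))) (.node 4 (.node 2 (.node 1 (.one ⟨2960, 1, 2⟩) (.one ⟨2112, 1, 5⟩)) (.node 1 (.one ⟨8936, 4, 4⟩) (.one ⟨1606, 4, 4⟩))) (.node 2 (.node 1 (.one ⟨7307, 0, 5⟩) (.one ⟨5361, 2, 4⟩)) (.node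 1 (.one ⟨11683, 4, 6⟩) (.one ⟨9194, 0, 6⟩))))) (.node 8 (.node 4 (.node 2 (.node 1 (.one ⟨10137, 5, 4⟩) (.one ⟨16119, 5, 5⟩)) (.node 1 (.one ⟨15279, 4, 5⟩) (.one ⟨13303, 5, 5⟩))) (.node 2 (.node 1 (.one ⟨7490, 5, 5⟩) (.one ⟨5378, 5, 6⟩)) (.node 1 (.one ⟨221, 1, 5⟩) (.one ⟨4774, 4, 5⟩)))) (.node 4 (.node 2 (.node 1 (.one ⟨1293, 1, 6⟩) (.one ⟨8285, 0, 4⟩)) (.node 1 (.one ⟨8821, 2, 5⟩) (.one ⟨4050, 3, 5⟩))) (.node 2 (.node 1 (.one ⟨6986, 5, 6⟩) (.one ⟨7254, 0, 5⟩)) (.node 1 (.one ⟨3106, 5, 3⟩) (.one ⟨7409, 5, 5⟩)))))))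
def par2_5_6 : Arr Par :=
  (.node 32 (.node 16 (.node 8 (.node 4 (.node 2 (.node 1 (.one ⟨14053, 3, 5⟩) (.one ⟨8146, 5, 4⟩)) (.node 1 (.one ⟨3147, 0, 4⟩) (.one ⟨16175, 5, 5⟩))) (.node 2 (.node 1 (.one ⟨1033, 3, 4⟩) (.one ⟨3592, 3, 6⟩)) (.node 1 (.one ⟨10735, 5, 4⟩) (.one ⟨7963, 2, 6⟩)))) (.node 4 (.node 2 (.node 1 (.one ⟨5252, 2, 5⟩) (.one ⟨11163, 0, 6⟩)) (.node 1 (.one ⟨10793, 2, 3⟩) (.one ⟨7218, 2, 4⟩))) (.node 2 (.node 1 (.one ⟨1745, 3, 5⟩) (.one ⟨12331, 5, 6⟩)) (.node 1 (.one ⟨141, 1, 5⟩) (.one ⟨3991, 5, 5⟩))))) (.node 8 (.node 4 (.node 2 (.node 1 (.one ⟨10163, 3, 6⟩) (.one ⟨2415, 5, 5⟩)) (.node 1 (.one ⟨1064, 2, 6⟩) (.one ⟨4981, 3, 4⟩))) (.node 2 (.node 1 (.one ⟨10252, 4, 5⟩) (.one ⟨5771, 2, 6⟩)) (.node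 1 (.one ⟨1483, 5, 5⟩) (.one ⟨14642, 1, 5⟩)))) (.node 4 (.node 2 (.node 1 (.one ⟨5979, 4, 5⟩) (.one ⟨6569, 5, 4⟩)) (.node 1 (.one ⟨5716, 5, 6⟩) (.one ⟨4358, 0, 6⟩))) (.node 2 (.node 1 (.one ⟨16385, 1, 4⟩) (.one ⟨10304, 4, 5⟩)) (.node 1 (.one ⟨14578, 4, 6⟩) (.one ⟨10121, 2, 5⟩)))))) (.node 16 (.node 8 (.node 4 (.node 2 (.node 1 (.one ⟨3206, 5, 6⟩) (.one ⟨3891, 4, 4⟩)) (.node 1 (.one ⟨6919, 1, 3⟩) (.one ⟨10727, 3, 6⟩))) (.node 2 (.node 1 (.one ⟨3036, 3, 5⟩) (.one ⟨6306, 4, 4⟩)) (.node 1 (.one ⟨3773, 4, 6⟩) (.one ⟨11824, 1, 5⟩)))) (.node 4 (.node 2 (.node 1 (.one ⟨14765, 4, 6⟩) (.one ⟨6361, 1, 4⟩)) (.node 1 (.one ⟨4515, 3, 6⟩) (.one ⟨13157, 0, 6⟩))) (.node 2 (.node 1 (.one ⟨5035, 0, 4⟩) (.one ⟨10599, 2, 6⟩)) (.node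 1 (.one ⟨16993, 2, 6⟩) (.one ⟨6175, 4, 7⟩))))) (.node 8 (.node 4 (.node 2 (.node 1 (.one ⟨5209, 4, 5⟩) (.one ⟨7581, 5, 5⟩)) (.node 1 (.one ⟨1900, 4, 7⟩) (.one ⟨10091, 4, 6⟩))) (.node 2 (.node 1 (.one ⟨13103, 5, 6⟩) (.one ⟨13219, 4, 6⟩)) (.node 1 (.one ⟨3783, 5, 6⟩) (.one ⟨1203, 4, 4⟩)))) (.node 4 (.node 2 (.node 1 (.one ⟨13770, 3, 5⟩) (.one ⟨7368, 1, 4⟩)) (.node 1 (.one ⟨1958, 4, 5⟩) (.one ⟨11129, 0, 6⟩))) (.node 2 (.node 1 (.one ⟨10913, 2, 5⟩) (.one ⟨10238, 3, 6⟩)) (.node 1 (.one ⟨12299, 4, 6⟩) (.one ⟨8843, 3, 6⟩)))))))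
def par2_5_7 : Arr Par :=
  (.node 32 (.node 16 (.node 8 (.node 4 (.node 2 (.node 1 (.one ⟨6679, 3, 4⟩) (.one ⟨7522, 2, 4⟩)) (.node 1 (.one ⟨11771, 4, 6⟩) (.one ⟨12311, 3, 6⟩))) (.node 2 (.node 1 (.one ⟨10029, 3, 5⟩) (.one ⟨17167, 4, 6⟩)) (.node 1 (.one ⟨12057, 3, 6⟩) (.one ⟨12632, 4, 6⟩)))) (.node 4 (.node 2 (.node 1 (.one ⟨3411, 5, 6⟩) (.one ⟨13872, 2, 4⟩)) (.node 1 (.one ⟨2347, 2, 4⟩) (.one ⟨9617, 0, 5⟩))) (.node 2 (.node 1 (.one ⟨10622, 5, 5⟩) (.one ⟨8463, 4, 4⟩)) (.node 1 (.one ⟨14498, 0, 5⟩) (.one ⟨9500, 1, 3⟩))))) (.node 8 (.node 4 (.node 2 (.node 1 (.one ⟨3122, 4, 4⟩) (.one ⟨3119, 4, 5⟩)) (.node 1 (.one ⟨1935, 3, 3⟩) (.one ⟨6493, 2, 4⟩))) (.node 2 (.node 1 (.one ⟨765, 1, 4⟩) (.one ⟨6493, 1, 4⟩)) (.node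 1 (.one ⟨765, 2, 4⟩) (.one ⟨3790, 4, 5⟩)))) (.node 4 (.node 2 (.node 1 (.one ⟨11315, 0, 5⟩) (.one ⟨6416, 1, 4⟩)) (.node 1 (.one ⟨15868, 2, 5⟩) (.one ⟨16039, 3, 6⟩))) (.node 2 (.node 1 (.one ⟨8148, 1, 6⟩) (.one ⟨10441, 1, 5⟩)) (.node 1 (.one ⟨6116, 0, 5⟩) (.one ⟨14418, 2, 4⟩)))))) (.node 16 (.node 8 (.node 4 (.node 2 (.node 1 (.one ⟨6785, 3, 4⟩) (.one ⟨3849, 1, 5⟩)) (.node 1 (.one ⟨7718, 2, 5⟩) (.one ⟨188, 1, 4⟩))) (.node 2 (.node 1 (.one ⟨15965, 5, 4⟩) (.one ⟨14418, 0, 4⟩)) (.node 1 (.one ⟨3235, 4, 4⟩) (.one ⟨13737, 4, 5⟩)))) (.node 4 (.node 2 (.node 1 (.one ⟨7088, 1, 4⟩) (.one ⟨11673, 0, 5⟩)) (.node 1 (.one ⟨10237, 4, 5⟩) (.one ⟨5880, 0, 5⟩))) (.node 2 (.node 1 (.one ⟨9002, 5, 6⟩) (.one ⟨3198, 5, 5⟩)) (.node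 1 (.one ⟨3531, 0, 4⟩) (.one ⟨15270, 5, 6⟩))))) (.node 8 (.node 4 (.node 2 (.node 1 (.one ⟨6943, 1, 5⟩) (.one ⟨4279, 3, 6⟩)) (.node 1 (.one ⟨11468, 3, 5⟩) (.one ⟨14719, 4, 5⟩))) (.node 2 (.node 1 (.one ⟨2905, 2, 6⟩) (.one ⟨10462, 5, 5⟩)) (.node 1 (.one ⟨10814, 4, 6⟩) (.one ⟨2271, 4, 5⟩)))) (.node 4 (.node 2 (.node 1 (.one ⟨13783, 2, 4⟩) (.one ⟨7059, 3, 4⟩)) (.node 1 (.one ⟨7113, 4, 6⟩) (.one ⟨9426, 0, 5⟩))) (.node 2 (.node 1 (.one ⟨8559, 5, 5⟩) (.one ⟨16253, 1, 4⟩)) (.node 1 (.one ⟨9392, 2, 5⟩) (.one ⟨10413, 1, 5⟩)))))))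
def par2_5_8 : Arr Par :=
  (.node 32 (.node 16 (.node 8 (.node 4 (.node 2 (.node 1 (.one ⟨15259, 3, 6⟩) (.one ⟨7265, 4, 5⟩)) (.node 1 (.one ⟨16843, 5, 5⟩) (.one ⟨3278, 0, 5⟩))) (.node 2 (.node 1 (.one ⟨16405, 3, 6⟩) (.one ⟨9454, 2, 4⟩)) (.node 1 (.one ⟨8958, 0, 6⟩) (.one ⟨6998, 0, 4⟩)))) (.node 4 (.node 2 (.node 1 (.one ⟨7501, 2, 5⟩) (.one ⟨7807, 5, 5⟩)) (.node 1 (.one ⟨7773, 5, 6⟩) (.one ⟨13143, 4, 5⟩))) (.node 2 (.node 1 (.one ⟨1393, 2, 6⟩) (.one ⟨11945, 4, 5⟩)) (.node 1 (.one ⟨7520, 2, 6⟩) (.one ⟨3320, 0, 3⟩))))) (.node 8 (.node 4 (.node 2 (.node 1 (.one ⟨1847, 2, 3⟩) (.one ⟨34, 1, 0⟩)) (.node 1 (.one ⟨252, 5, 5⟩) (.one ⟨1061, 1, 4⟩))) (.node 2 (.node 1 (.one ⟨3342, 4, 4⟩) (.one ⟨10718, 3, 4⟩)) (.node 1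 (.one ⟨14452, 4, 4⟩) (.one ⟨3790, 1, 5⟩)))) (.node 4 (.node 2 (.node 1 (.one ⟨2694, 5, 4⟩) (.one ⟨5040, 1, 5⟩)) (.node 1 (.one ⟨4079, 5, 4⟩) (.one ⟨14892, 2, 5⟩))) (.node 2 (.node 1 (.one ⟨9188, 1, 4⟩) (.one ⟨12422, 3, 5⟩)) (.node 1 (.one ⟨11439, 1, 6⟩) (.one ⟨8213, 5, 5⟩)))))) (.node 16 (.node 8 (.node 4 (.node 2 (.node 1 (.one ⟨1847, 1, 3⟩) (.one ⟨11663, 0, 6⟩)) (.node 1 (.one ⟨5240, 0, 6⟩) (.one ⟨2164, 3, 6⟩))) (.node 2 (.node 1 (.one ⟨1351, 4, 4⟩) (.one ⟨1458, 4, 4⟩)) (.node 1 (.one ⟨6285, 5, 5⟩) (.one ⟨5625, 4, 5⟩)))) (.node 4 (.node 2 (.node 1 (.one ⟨13523, 5, 5⟩) (.one ⟨3353, 1, 6⟩)) (.node 1 (.one ⟨14496, 4, 5⟩) (.one ⟨3965, 0, 6⟩))) (.node 2 (.node 1 (.one ⟨9391, 2, 5⟩) (.one ⟨10222, 0, 6⟩)) (.node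 1 (.one ⟨6731, 5, 5⟩) (.one ⟨249, 5, 5⟩))))) (.node 8 (.node 4 (.node 2 (.node 1 (.one ⟨13638, 1, 6⟩) (.one ⟨7578, 5, 6⟩)) (.node 1 (.one ⟨6179, 5, 6⟩) (.one ⟨6273, 5, 5⟩))) (.node 2 (.node 1 (.one ⟨4514, 2, 4⟩) (.one ⟨2929, 5, 6⟩)) (.node 1 (.one ⟨2700, 5, 6⟩) (.one ⟨1382, 4, 6⟩)))) (.node 4 (.node 2 (.node 1 (.one ⟨12792, 5, 4⟩) (.one ⟨13616, 4, 5⟩)) (.node 1 (.one ⟨1663, 1, 4⟩) (.one ⟨12436, 2, 4⟩))) (.node 2 (.node 1 (.one ⟨15119, 1, 5⟩) (.one ⟨12408, 4, 5⟩)) (.node 1 (.one ⟨1054, 1, 5⟩) (.one ⟨3014, 3, 5⟩)))))))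
def par2_5_9 : Arr Par :=
  (.node 32 (.node 16 (.node 8 (.node 4 (.node 2 (.node 1 (.one ⟨14219, 4, 5⟩) (.one ⟨3361, 4, 5⟩)) (.node 1 (.one ⟨5967, 0, 5⟩) (.one ⟨8198, 3, 5⟩))) (.node 2 (.node 1 (.one ⟨12129, 0, 6⟩) (.one ⟨4122, 4, 5⟩)) (.node 1 (.one ⟨7966, 1, 6⟩) (.one ⟨6942, 3, 6⟩)))) (.node 4 (.node 2 (.node 1 (.one ⟨8044, 1, 5⟩) (.one ⟨10814, 2, 6⟩)) (.node 1 (.one ⟨2456, 5, 4⟩) (.one ⟨10948, 5, 6⟩))) (.node 2 (.node 1 (.one ⟨11163, 3, 6⟩) (.one ⟨8149, 5, 5⟩)) (.node 1 (.one ⟨6822, 5, 6⟩) (.one ⟨15203, 0, 6⟩))))) (.node 8 (.node 4 (.node 2 (.node 1 (.one ⟨17057, 3, 6⟩) (.one ⟨16116, 2, 4⟩)) (.node 1 (.one ⟨17046, 3, 6⟩) (.one ⟨6514, 5, 3⟩))) (.node 2 (.node 1 (.one ⟨9953, 1, 5⟩) (.one ⟨13222, 5, 3⟩)) (.node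 1 (.one ⟨991, 4, 5⟩) (.one ⟨3565, 3, 5⟩)))) (.node 4 (.node 2 (.node 1 (.one ⟨1510, 0, 5⟩) (.one ⟨1995, 5, 5⟩)) (.node 1 (.one ⟨2020, 1, 3⟩) (.one ⟨14680, 1, 6⟩))) (.node 2 (.node 1 (.one ⟨13310, 5, 6⟩) (.one ⟨2614, 5, 5⟩)) (.node 1 (.one ⟨2687, 3, 2⟩) (.one ⟨16652, 3, 5⟩)))))) (.node 16 (.node 8 (.node 4 (.node 2 (.node 1 (.one ⟨1683, 2, 6⟩) (.one ⟨15239, 3, 6⟩)) (.node 1 (.one ⟨4713, 4, 6⟩) (.one ⟨1544, 4, 4⟩))) (.node 2 (.node 1 (.one ⟨15965, 0, 4⟩) (.one ⟨316, 5, 5⟩)) (.node 1 (.one ⟨13931, 2, 4⟩) (.one ⟨6029, 4, 6⟩)))) (.node 4 (.node 2 (.node 1 (.one ⟨15429, 5, 5⟩) (.one ⟨10349, 0, 2⟩)) (.node 1 (.one ⟨8563, 4, 5⟩) (.one ⟨6472, 4, 5⟩))) (.node 2 (.node 1 (.one ⟨17018, 5, 5⟩) (.one ⟨2340, 4, 5⟩)) (.node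 1 (.one ⟨11351, 0, 6⟩) (.one ⟨14123, 1, 5⟩))))) (.node 8 (.node 4 (.node 2 (.node 1 (.one ⟨16421, 3, 5⟩) (.one ⟨697, 2, 5⟩)) (.node 1 (.one ⟨12778, 2, 3⟩) (.one ⟨7651, 3, 5⟩))) (.node 2 (.node 1 (.one ⟨9881, 5, 6⟩) (.one ⟨3995, 0, 6⟩)) (.node 1 (.one ⟨2138, 4, 6⟩) (.one ⟨14976, 3, 5⟩)))) (.node 4 (.node 2 (.node 1 (.one ⟨8671, 5, 4⟩) (.one ⟨6983, 2, 5⟩)) (.node 1 (.one ⟨8333, 2, 6⟩) (.one ⟨10477, 2, 5⟩))) (.node 2 (.node 1 (.one ⟨7836, 1, 6⟩) (.one ⟨6625, 1, 4⟩)) (.node 1 (.one ⟨14023, 5, 4⟩) (.one ⟨3129, 4, 5⟩)))))))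
def par2_5_10 : Arr Par :=
  (.node 32 (.node 16 (.node 8 (.node 4 (.node 2 (.node 1 (.one ⟨240, 2, 6⟩) (.one ⟨10287, 3, 6⟩)) (.node 1 (.one ⟨16641, 2, 6⟩) (.one ⟨5653, 1, 5⟩))) (.node 2 (.node 1 (.one ⟨12542, 0, 5⟩) (.one ⟨3003, 3, 6⟩)) (.node 1 (.one ⟨14064, 2, 5⟩) (.one ⟨15090, 0, 5⟩)))) (.node 4 (.node 2 (.node 1 (.one ⟨14468, 0, 5⟩) (.one ⟨8185, 1, 5⟩)) (.node 1 (.one ⟨11060, 5, 5⟩) (.one ⟨15845, 5, 5⟩))) (.node 2 (.node 1 (.one ⟨8486, 0, 6⟩) (.one ⟨697, 4, 5⟩)) (.node 1 (.one ⟨11107, 5, 4⟩) (.one ⟨7916, 1, 6⟩))))) (.node 8 (.node 4 (.node 2 (.node 1 (.one ⟨396, 5, 5⟩) (.one ⟨9999, 2, 5⟩)) (.node 1 (.one ⟨16438, 4, 6⟩) (.one ⟨8787, 5, 6⟩))) (.node 2 (.node 1 (.one ⟨8216, 3, 4⟩) (.one ⟨8457, 2, 6⟩)) (.node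 1 (.one ⟨10462, 4, 5⟩) (.one ⟨67, 1, 0⟩)))) (.node 4 (.node 2 (.node 1 (.one ⟨2101, 5, 4⟩) (.one ⟨2655, 4, 5⟩)) (.node 1 (.one ⟨7683, 2, 5⟩) (.one ⟨9308, 1, 3⟩))) (.node 2 (.node 1 (.one ⟨2960, 4, 2⟩) (.one ⟨2033, 1, 3⟩)) (.node 1 (.one ⟨8755, 0, 6⟩) (.one ⟨1289, 1, 6⟩)))))) (.node 16 (.node 8 (.node 4 (.node 2 (.node 1 (.one ⟨5070, 0, 5⟩) (.one ⟨12701, 2, 4⟩)) (.node 1 (.one ⟨9291, 1, 6⟩) (.one ⟨9782, 4, 5⟩))) (.node 2 (.node 1 (.one ⟨3669, 3, 5⟩) (.one ⟨10570, 2, 6⟩)) (.node 1 (.one ⟨12778, 5, 3⟩) (.one ⟨13835, 3, 6⟩)))) (.node 4 (.node 2 (.node 1 (.one ⟨5498, 5, 6⟩) (.one ⟨6081, 5, 2⟩)) (.node 1 (.one ⟨8162, 5, 4⟩) (.one ⟨12037, 0, 6⟩))) (.node 2 (.node 1 (.one ⟨4198, 1, 6⟩) (.one ⟨9165, 4, 4⟩)) (.node 1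 (.one ⟨12427, 5, 5⟩) (.one ⟨6152, 1, 3⟩))))) (.node 8 (.node 4 (.node 2 (.node 1 (.one ⟨859, 5, 6⟩) (.one ⟨3845, 1, 4⟩)) (.node 1 (.one ⟨5339, 4, 4⟩) (.one ⟨1101, 4, 3⟩))) (.node 2 (.node 1 (.one ⟨16019, 4, 5⟩) (.one ⟨16042, 4, 6⟩)) (.node 1 (.one ⟨11306, 1, 5⟩) (.one ⟨6887, 1, 5⟩)))) (.node 4 (.node 2 (.node 1 (.one ⟨3455, 2, 5⟩) (.one ⟨2752, 2, 2⟩)) (.node 1 (.one ⟨13496, 3, 5⟩) (.one ⟨14190, 5, 5⟩))) (.node 2 (.node 1 (.one ⟨7066, 4, 4⟩) (.one ⟨15663, 5, 6⟩)) (.node 1 (.one ⟨5121, 1, 5⟩) (.one ⟨12916, 5, 6⟩)))))))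
def par2_5_11 : Arr Par :=
  (.node 32 (.node 16 (.node 8 (.node 4 (.node 2 (.node 1 (.one ⟨11654, 3, 5⟩) (.one ⟨10516, 3, 5⟩)) (.node 1 (.one ⟨4877, 5, 6⟩) (.one ⟨8325, 0, 4⟩))) (.node 2 (.node 1 (.one ⟨13192, 2, 6⟩) (.one ⟨16941, 4, 5⟩)) (.node 1 (.one ⟨11923, 2, 5⟩) (.one ⟨5722, 1, 4⟩)))) (.node 4 (.node 2 (.node 1 (.one ⟨10116, 3, 4⟩) (.one ⟨13278, 1, 5⟩)) (.node 1 (.one ⟨8883, 4, 5⟩) (.one ⟨14395, 1, 5⟩))) (.node 2 (.node 1 (.one ⟨11790, 1, 6⟩) (.one ⟨11354, 5, 5⟩)) (.node 1 (.one ⟨12688, 0, 6⟩) (.one ⟨6073, 4, 6⟩))))) (.node 8 (.node 4 (.node 2 (.node 1 (.one ⟨15399, 3, 5⟩) (.one ⟨11564, 5, 5⟩)) (.node 1 (.one ⟨11176, 4, 5⟩) (.one ⟨11615, 1, 5⟩))) (.node 2 (.node 1 (.one ⟨2727, 1, 2⟩) (.one ⟨10520, 3,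 6⟩)) (.node 1 (.one ⟨17057, 1, 6⟩) (.one ⟨7634, 0, 6⟩)))) (.node 4 (.node 2 (.node 1 (.one ⟨2244, 4, 5⟩) (.one ⟨2731, 5, 4⟩)) (.node 1 (.one ⟨15451, 3, 6⟩) (.one ⟨1884, 5, 6⟩))) (.node 2 (.node 1 (.one ⟨16234, 5, 4⟩) (.one ⟨8481, 2, 5⟩)) (.node 1 (.one ⟨4989, 5, 5⟩) (.one ⟨11759, 5, 6⟩)))))) (.node 16 (.node 8 (.node 4 (.node 2 (.node 1 (.one ⟨13217, 5, 4⟩) (.one ⟨6200, 5, 5⟩)) (.node 1 (.one ⟨11531, 2, 5⟩) (.one ⟨12220, 5, 5⟩))) (.node 2 (.node 1 (.one ⟨10519, 0, 6⟩) (.one ⟨10520, 0, 6⟩)) (.node 1 (.one ⟨8463, 1, 4⟩) (.one ⟨13438, 2, 5⟩)))) (.node 4 (.node 2 (.node 1 (.one ⟨3235, 0, 4⟩) (.one ⟨13436, 2, 5⟩)) (.node 1 (.one ⟨14535, 4, 6⟩) (.one ⟨13431, 2, 4⟩))) (.node 2 (.node 1 (.one ⟨13434, 2, 6⟩) (.one ⟨14612,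 4, 5⟩)) (.node 1 (.one ⟨4528, 5, 6⟩) (.one ⟨8929, 2, 5⟩))))) (.node 8 (.node 4 (.node 2 (.node 1 (.one ⟨8074, 0, 5⟩) (.one ⟨923, 0, 5⟩)) (.node 1 (.one ⟨10209, 2, 5⟩) (.one ⟨7802, 2, 4⟩))) (.node 2 (.node 1 (.one ⟨12815, 5, 5⟩) (.one ⟨16209, 0, 6⟩)) (.node 1 (.one ⟨15081, 5, 5⟩) (.one ⟨2908, 0, 5⟩)))) (.node 4 (.node 2 (.node 1 (.one ⟨13452, 2, 4⟩) (.one ⟨13030, 1, 4⟩)) (.node 1 (.one ⟨7704, 2, 6⟩) (.one ⟨12907, 1, 4⟩))) (.node 2 (.node 1 (.one ⟨688, 0, 5⟩) (.one ⟨666, 3, 5⟩)) (.node 1 (.one ⟨6812, 5, 5⟩) (.one ⟨7869, 4, 4⟩)))))))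
def par2_5_12 : Arr Par :=
  (.node 32 (.node 16 (.node 8 (.node 4 (.node 2 (.node 1 (.one ⟨13511, 3, 6⟩) (.one ⟨10386, 5, 5⟩)) (.node 1 (.one ⟨5260, 5, 6⟩) (.one ⟨2152, 5, 6⟩))) (.node 2 (.node 1 (.one ⟨15846, 0, 6⟩) (.one ⟨6906, 1, 6⟩)) (.node 1 (.one ⟨17054, 0, 6⟩) (.one ⟨7125, 2, 6⟩)))) (.node 4 (.node 2 (.node 1 (.one ⟨15201, 1, 5⟩) (.one ⟨9165, 2, 4⟩)) (.node 1 (.one ⟨7040, 0, 6⟩) (.one ⟨15934, 2, 4⟩))) (.node 2 (.node 1 (.one ⟨8457, 3, 6⟩) (.one ⟨8849, 5, 5⟩)) (.node 1 (.one ⟨3118, 5, 4⟩) (.one ⟨6178, 5, 4⟩))))) (.node 8 (.node 4 (.node 2 (.node 1 (.one ⟨1749, 5, 5⟩) (.one ⟨3480, 2, 5⟩)) (.node 1 (.one ⟨16097, 4, 5⟩) (.one ⟨14354, 3, 5⟩))) (.node 2 (.node 1 (.one ⟨14119, 5, 5⟩) (.one ⟨5174, 1, 5⟩)) (.node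 1 (.one ⟨7195, 3, 6⟩) (.one ⟨11667, 4, 6⟩)))) (.node 4 (.node 2 (.node 1 (.one ⟨3229, 0, 5⟩) (.one ⟨12876, 5, 6⟩)) (.node 1 (.one ⟨13502, 3, 5⟩) (.one ⟨126, 5, 6⟩))) (.node 2 (.node 1 (.one ⟨12598, 2, 5⟩) (.one ⟨467, 5, 5⟩)) (.node 1 (.one ⟨9827, 2, 6⟩) (.one ⟨14059, 1, 5⟩)))))) (.node 16 (.node 8 (.node 4 (.node 2 (.node 1 (.one ⟨8447, 1, 4⟩) (.one ⟨10159, 0, 5⟩)) (.node 1 (.one ⟨7770, 4, 3⟩) (.one ⟨8367, 0, 6⟩))) (.node 2 (.node 1 (.one ⟨10551, 0, 6⟩) (.one ⟨9421, 5, 7⟩)) (.node 1 (.one ⟨2375, 0, 6⟩) (.one ⟨4301, 1, 5⟩)))) (.node 4 (.node 2 (.node 1 (.one ⟨12829, 3, 4⟩) (.one ⟨9632, 3, 5⟩)) (.node 1 (.one ⟨16702, 4, 4⟩) (.one ⟨6169, 5, 6⟩))) (.node 2 (.node 1 (.one ⟨5400, 5, 6⟩) (.one ⟨2683, 2, 5⟩)) (.node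 1 (.one ⟨1363, 2, 5⟩) (.one ⟨7062, 1, 5⟩))))) (.node 8 (.node 4 (.node 2 (.node 1 (.one ⟨12748, 1, 6⟩) (.one ⟨12140, 3, 4⟩)) (.node 1 (.one ⟨7082, 3, 6⟩) (.one ⟨6821, 0, 6⟩))) (.node 2 (.node 1 (.one ⟨216, 2, 5⟩) (.one ⟨16371, 5, 5⟩)) (.node 1 (.one ⟨8825, 4, 5⟩) (.one ⟨5035, 3, 4⟩)))) (.node 4 (.node 2 (.node 1 (.one ⟨7795, 2, 5⟩) (.one ⟨6947, 0, 5⟩)) (.node 1 (.one ⟨12604, 2, 6⟩) (.one ⟨14161, 4, 5⟩))) (.node 2 (.node 1 (.one ⟨3288, 5, 4⟩) (.one ⟨13956, 5, 4⟩)) (.node 1 (.one ⟨13436, 1, 5⟩) (.one ⟨2751, 5, 3⟩)))))))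
def par2_5_13 : Arr Par :=
  (.node 32 (.node 16 (.node 8 (.node 4 (.node 2 (.node 1 (.one ⟨9452, 4, 6⟩) (.one ⟨8399, 5, 4⟩)) (.node 1 (.one ⟨11691, 2, 6⟩) (.one ⟨14744, 3, 4⟩))) (.node 2 (.node 1 (.one ⟨10862, 2, 5⟩) (.one ⟨3113, 5, 5⟩)) (.node 1 (.one ⟨11347, 5, 6⟩) (.one ⟨10411, 1, 4⟩)))) (.node 4 (.node 2 (.node 1 (.one ⟨2572, 3, 3⟩) (.one ⟨14040, 1, 2⟩)) (.node 1 (.one ⟨5480, 4, 3⟩) (.one ⟨6492, 2, 3⟩))) (.node 2 (.node 1 (.one ⟨15692, 1, 5⟩) (.one ⟨28, 0, 6⟩)) (.node 1 (.one ⟨3728, 4, 4⟩) (.one ⟨3319, 4, 4⟩))))) (.node 8 (.node 4 (.node 2 (.node 1 (.one ⟨3326, 4, 5⟩) (.one ⟨8017, 3, 5⟩)) (.node 1 (.one ⟨106, 3, 5⟩) (.one ⟨16687, 1, 6⟩))) (.node 2 (.node 1 (.one ⟨12060, 0, 5⟩) (.one ⟨3320, 4, 3⟩)) (.node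 1 (.one ⟨3325, 4, 6⟩) (.one ⟨12674, 1, 5⟩)))) (.node 4 (.node 2 (.node 1 (.one ⟨16138, 5, 5⟩) (.one ⟨13566, 2, 5⟩)) (.node 1 (.one ⟨10709, 4, 5⟩) (.one ⟨8286, 5, 4⟩))) (.node 2 (.node 1 (.one ⟨15298, 1, 6⟩) (.one ⟨7264, 2, 4⟩)) (.node 1 (.one ⟨5154, 1, 6⟩) (.one ⟨16063, 3, 5⟩)))))) (.node 16 (.node 8 (.node 4 (.node 2 (.node 1 (.one ⟨12302, 5, 4⟩) (.one ⟨11340, 4, 4⟩)) (.node 1 (.one ⟨6309, 5, 5⟩) (.one ⟨10384, 5, 3⟩))) (.node 2 (.node 1 (.one ⟨15012, 5, 6⟩) (.one ⟨8355, 5, 5⟩)) (.node 1 (.one ⟨4421, 0, 5⟩) (.one ⟨9193, 0, 5⟩)))) (.node 4 (.node 2 (.node 1 (.one ⟨11904, 2, 6⟩) (.one ⟨10543, 2, 6⟩)) (.node 1 (.one ⟨13872, 4, 4⟩) (.one ⟨13876, 0, 4⟩))) (.node 2 (.node 1 (.one ⟨12895, 5, 6⟩) (.one ⟨13531, 2, 5⟩))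 (.node 1 (.one ⟨143, 3, 4⟩) (.one ⟨11758, 2, 6⟩))))) (.node 8 (.node 4 (.node 2 (.node 1 (.one ⟨3966, 4, 5⟩) (.one ⟨5193, 5, 5⟩)) (.node 1 (.one ⟨10548, 4, 5⟩) (.one ⟨10515, 3, 3⟩))) (.node 2 (.node 1 (.one ⟨10709, 5, 5⟩) (.one ⟨13889, 5, 5⟩)) (.node 1 (.one ⟨16350, 3, 5⟩) (.one ⟨167, 1, 4⟩)))) (.node 4 (.node 2 (.node 1 (.one ⟨143, 5, 4⟩) (.one ⟨15515, 1, 4⟩)) (.node 1 (.one ⟨12052, 3, 5⟩) (.one ⟨5978, 5, 6⟩))) (.node 2 (.node 1 (.one ⟨8542, 5, 6⟩) (.one ⟨271, 4, 5⟩)) (.node 1 (.one ⟨7038, 2, 5⟩) (.one ⟨1625, 1, 6⟩)))))))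
def par2_5_14 : Arr Par :=
  (.node 32 (.node 16 (.node 8 (.node 4 (.node 2 (.node 1 (.one ⟨2107, 2, 5⟩) (.one ⟨10714, 4, 6⟩)) (.node 1 (.one ⟨14326, 5, 4⟩) (.one ⟨1923, 1, 6⟩))) (.node 2 (.node 1 (.one ⟨5998, 5, 5⟩) (.one ⟨4339, 1, 6⟩)) (.node 1 (.one ⟨6533, 5, 6⟩) (.one ⟨493, 4, 6⟩)))) (.node 4 (.node 2 (.node 1 (.one ⟨7090, 0, 4⟩) (.one ⟨10218, 3, 4⟩)) (.node 1 (.one ⟨14783, 0, 5⟩) (.one ⟨13751, 4, 6⟩))) (.node 2 (.node 1 (.one ⟨13640, 3, 5⟩) (.one ⟨7938, 5, 5⟩)) (.node 1 (.one ⟨9862, 2, 6⟩) (.one ⟨6235, 4, 6⟩))))) (.node 8 (.node 4 (.node 2 (.node 1 (.one ⟨424, 5, 6⟩) (.one ⟨11897, 1, 5⟩)) (.node 1 (.one ⟨6816, 5, 5⟩) (.one ⟨15068, 3, 5⟩))) (.node 2 (.node 1 (.one ⟨14167, 5, 6⟩) (.one ⟨17030, 2, 5⟩)) (.node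 1 (.one ⟨3455, 1, 5⟩) (.one ⟨4084, 3, 5⟩)))) (.node 4 (.node 2 (.node 1 (.one ⟨15725, 4, 4⟩) (.one ⟨9667, 4, 6⟩)) (.node 1 (.one ⟨15929, 5, 5⟩) (.one ⟨16167, 0, 4⟩))) (.node 2 (.node 1 (.one ⟨7718, 4, 5⟩) (.one ⟨1578, 2, 6⟩)) (.node 1 (.one ⟨15058, 0, 5⟩) (.one ⟨16768, 2, 6⟩)))))) (.node 16 (.node 8 (.node 4 (.node 2 (.node 1 (.one ⟨7515, 5, 6⟩) (.one ⟨6714, 2, 5⟩)) (.node 1 (.one ⟨3836, 0, 5⟩) (.one ⟨15303, 5, 5⟩))) (.node 2 (.node 1 (.one ⟨11780, 2, 6⟩) (.one ⟨13035, 1, 5⟩)) (.node 1 (.one ⟨7875, 3, 5⟩) (.one ⟨13698, 4, 5⟩)))) (.node 4 (.node 2 (.node 1 (.one ⟨11627, 5, 6⟩) (.one ⟨14844, 5, 5⟩)) (.node 1 (.one ⟨13054, 0, 6⟩) (.one ⟨7541, 0, 5⟩))) (.node 2 (.node 1 (.one ⟨2634, 2, 5⟩) (.one ⟨7245, 0, 5⟩)) (.node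 1 (.one ⟨7175, 4, 6⟩) (.one ⟨6741, 5, 5⟩))))) (.node 8 (.node 4 (.node 2 (.node 1 (.one ⟨2521, 0, 6⟩) (.one ⟨6737, 5, 5⟩)) (.node 1 (.one ⟨15346, 3, 5⟩) (.one ⟨13424, 1, 5⟩))) (.node 2 (.node 1 (.one ⟨469, 5, 4⟩) (.one ⟨6736, 5, 3⟩)) (.node 1 (.one ⟨8220, 2, 7⟩) (.one ⟨5920, 3, 5⟩)))) (.node 4 (.node 2 (.node 1 (.one ⟨170, 0, 5⟩) (.one ⟨2219, 1, 5⟩)) (.node 1 (.one ⟨109, 0, 4⟩) (.one ⟨11401, 3, 5⟩))) (.node 2 (.node 1 (.one ⟨1164, 5, 5⟩) (.one ⟨8250, 4, 5⟩)) (.node 1 (.one ⟨2809, 3, 6⟩) (.one ⟨13913, 4, 3⟩)))))))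
def par2_5_15 : Arr Par :=
  (.node 32 (.node 16 (.node 8 (.node 4 (.node 2 (.node 1 (.one ⟨2659, 5, 4⟩) (.one ⟨5649, 1, 1⟩)) (.node 1 (.one ⟨3338, 4, 4⟩) (.one ⟨3403, 2, 5⟩))) (.node 2 (.node 1 (.one ⟨16070, 2, 6⟩) (.one ⟨13478, 2, 6⟩)) (.node 1 (.one ⟨6051, 2, 6⟩) (.one ⟨5989, 4, 6⟩)))) (.node 4 (.node 2 (.node 1 (.one ⟨11531, 1, 5⟩) (.one ⟨784, 2, 4⟩)) (.node 1 (.one ⟨2996, 1, 5⟩) (.one ⟨6802, 2, 5⟩))) (.node 2 (.node 1 (.one ⟨4102, 0, 5⟩) (.one ⟨6347, 1, 6⟩)) (.node 1 (.one ⟨7918, 1, 6⟩) (.one ⟨15349, 3, 5⟩))))) (.node 8 (.node 4 (.node 2 (.node 1 (.one ⟨5715, 0, 4⟩) (.one ⟨8747, 3, 5⟩)) (.node 1 (.one ⟨7693, 2, 6⟩) (.one ⟨2674, 5, 5⟩))) (.node 2 (.node 1 (.one ⟨7384, 3, 5⟩) (.one ⟨4746, 1, 4⟩)) (.node 1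 (.one ⟨7254, 5, 5⟩) (.one ⟨14042, 0, 6⟩)))) (.node 4 (.node 2 (.node 1 (.one ⟨14276, 1, 2⟩) (.one ⟨3187, 4, 6⟩)) (.node 1 (.one ⟨13649, 4, 5⟩) (.one ⟨14420, 3, 5⟩))) (.node 2 (.node 1 (.one ⟨11011, 2, 6⟩) (.one ⟨6345, 3, 5⟩)) (.node 1 (.one ⟨7218, 4, 4⟩) (.one ⟨1351, 5, 4⟩)))))) (.node 16 (.node 8 (.node 4 (.node 2 (.node 1 (.one ⟨16161, 1, 6⟩) (.one ⟨10204, 2, 5⟩)) (.node 1 (.one ⟨2830, 0, 5⟩) (.one ⟨9111, 3, 3⟩))) (.node 2 (.node 1 (.one ⟨5309, 2, 4⟩) (.one ⟨14041, 4, 6⟩)) (.node 1 (.one ⟨16248, 2, 5⟩) (.one ⟨15994, 1, 6⟩)))) (.node 4 (.node 2 (.node 1 (.one ⟨1946, 5, 5⟩) (.one ⟨5035, 1, 4⟩)) (.node 1 (.one ⟨16814, 4, 5⟩) (.one ⟨15718, 2, 6⟩))) (.node 2 (.node 1 (.one ⟨1114, 1, 4⟩) (.one ⟨5060, 2, 6⟩)) (.node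 1 (.one ⟨8329, 4, 3⟩) (.one ⟨8876, 2, 5⟩))))) (.node 8 (.node 4 (.node 2 (.node 1 (.one ⟨15411, 2, 5⟩) (.one ⟨9676, 5, 4⟩)) (.node 1 (.one ⟨13641, 2, 4⟩) (.one ⟨2957, 3, 5⟩))) (.node 2 (.node 1 (.one ⟨9291, 3, 6⟩) (.one ⟨2352, 1, 6⟩)) (.node 1 (.one ⟨8591, 5, 5⟩) (.one ⟨16940, 4, 6⟩)))) (.node 4 (.node 2 (.node 1 (.one ⟨14359, 1, 4⟩) (.one ⟨14125, 4, 4⟩)) (.node 1 (.one ⟨3097, 0, 5⟩) (.one ⟨8, 3, 6⟩))) (.node 2 (.node 1 (.one ⟨14615, 4, 4⟩) (.one ⟨8914, 0, 5⟩)) (.node 1 (.one ⟨12522, 0, 4⟩) (.one ⟨3111, 2, 4⟩)))))))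
def par2_5 : Arr Par :=
  (.node 512 (.node 256 (.node 128 (.node 64 par2_5_0 par2_5_1) (.node 64 par2_5_2 par2_5_3)) (.node 128 (.node 64 par2_5_4 par2_5_5) (.node 64 par2_5_6 par2_5_7))) (.node 256 (.node 128 (.node 64 par2_5_8 par2_5_9) (.node 64 par2_5_10 par2_5_11)) (.node 128 (.node 64 par2_5_12 par2_5_13) (.node 64 par2_5_14 par2_5_15))))
def par2_6_0 : Arr Par :=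
  (.node 32 (.node 16 (.node 8 (.node 4 (.node 2 (.node 1 (.one ⟨3340, 0, 5⟩) (.one ⟨15331, 0, 5⟩)) (.node 1 (.one ⟨16261, 3, 6⟩) (.one ⟨12261, 1, 6⟩))) (.node 2 (.node 1 (.one ⟨7403, 5, 6⟩) (.one ⟨13142, 0, 5⟩)) (.node 1 (.one ⟨13114, 3, 5⟩) (.one ⟨5726, 1, 3⟩)))) (.node 4 (.node 2 (.node 1 (.one ⟨2687, 0, 2⟩) (.one ⟨2489, 3, 6⟩)) (.node 1 (.one ⟨3895, 4, 6⟩) (.one ⟨2218, 3, 3⟩))) (.node 2 (.node 1 (.one ⟨31, 1, 0⟩) (.one ⟨3902, 4, 6⟩)) (.node 1 (.one ⟨1391, 3, 6⟩) (.one ⟨8227, 4, 5⟩))))) (.node 8 (.node 4 (.node 2 (.node 1 (.one ⟨5256, 1, 3⟩) (.one ⟨8223, 2, 4⟩)) (.node 1 (.one ⟨3477, 4, 5⟩) (.one ⟨3082, 4, 5⟩))) (.node 2 (.node 1 (.one ⟨1884, 1, 6⟩) (.one ⟨1972, 1, 6⟩)) (.node 1 (.one ⟨12303, 5, 3⟩) (.one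 ⟨4908, 3, 4⟩)))) (.node 4 (.node 2 (.node 1 (.one ⟨4831, 0, 5⟩) (.one ⟨14064, 4, 5⟩)) (.node 1 (.one ⟨4347, 1, 3⟩) (.one ⟨11535, 1, 6⟩))) (.node 2 (.node 1 (.one ⟨12632, 5, 6⟩) (.one ⟨8337, 2, 6⟩)) (.node 1 (.one ⟨7450, 5, 5⟩) (.one ⟨4832, 1, 6⟩)))))) (.node 16 (.node 8 (.node 4 (.node 2 (.node 1 (.one ⟨10284, 4, 6⟩) (.one ⟨15795, 2, 5⟩)) (.node 1 (.one ⟨2302, 1, 3⟩) (.one ⟨12177, 3, 5⟩))) (.node 2 (.node 1 (.one ⟨10139, 3, 6⟩) (.one ⟨5304, 1, 6⟩)) (.node 1 (.one ⟨14359, 2, 4⟩) (.one ⟨17077, 2, 6⟩)))) (.node 4 (.node 2 (.node 1 (.one ⟨9121, 3, 6⟩) (.one ⟨7151, 5, 6⟩)) (.node 1 (.one ⟨10424, 0, 6⟩) (.one ⟨11311, 2, 5⟩))) (.node 2 (.node 1 (.one ⟨2733, 5, 4⟩) (.one ⟨12998, 2, 5⟩)) (.node 1 (.one ⟨9653, 4, 5⟩)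 (.one ⟨14599, 2, 1⟩))))) (.node 8 (.node 4 (.node 2 (.node 1 (.one ⟨13411, 2, 5⟩) (.one ⟨6510, 3, 6⟩)) (.node 1 (.one ⟨6620, 4, 4⟩) (.one ⟨4244, 3, 5⟩))) (.node 2 (.node 1 (.one ⟨5920, 0, 5⟩) (.one ⟨7317, 4, 4⟩)) (.node 1 (.one ⟨6124, 3, 5⟩) (.one ⟨8641, 4, 5⟩)))) (.node 4 (.node 2 (.node 1 (.one ⟨10281, 2, 4⟩) (.one ⟨13283, 3, 5⟩)) (.node 1 (.one ⟨8325, 2, 4⟩) (.one ⟨1961, 3, 4⟩))) (.node 2 (.node 1 (.one ⟨7819, 4, 6⟩) (.one ⟨11133, 3, 4⟩)) (.node 1 (.one ⟨15557, 4, 6⟩) (.one ⟨12200, 2, 5⟩)))))))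
def par2_6_1 : Arr Par :=
  (.node 32 (.node 16 (.node 8 (.node 4 (.node 2 (.node 1 (.one ⟨4766, 1, 5⟩) (.one ⟨15778, 1, 6⟩)) (.node 1 (.one ⟨16244, 1, 5⟩) (.one ⟨7406, 5, 6⟩))) (.node 2 (.node 1 (.one ⟨13542, 3, 5⟩) (.one ⟨5404, 5, 5⟩)) (.node 1 (.one ⟨8843, 5, 6⟩) (.one ⟨12250, 3, 5⟩)))) (.node 4 (.node 2 (.node 1 (.one ⟨12163, 5, 5⟩) (.one ⟨2020, 2, 3⟩)) (.node 1 (.one ⟨14960, 2, 5⟩) (.one ⟨16333, 4, 5⟩))) (.node 2 (.node 1 (.one ⟨10219, 4, 6⟩) (.one ⟨10634, 4, 6⟩)) (.node 1 (.one ⟨16085, 4, 5⟩) (.one ⟨6122, 2, 6⟩))))) (.node 8 (.node 4 (.node 2 (.node 1 (.one ⟨10029, 5, 5⟩) (.one ⟨10812, 4, 5⟩)) (.node 1 (.one ⟨8497, 3, 5⟩) (.one ⟨16956, 4, 5⟩))) (.node 2 (.node 1 (.one ⟨2831, 4, 5⟩) (.one ⟨11098, 0, 4⟩))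 (.node 1 (.one ⟨6476, 0, 6⟩) (.one ⟨3446, 0, 5⟩)))) (.node 4 (.node 2 (.node 1 (.one ⟨2832, 5, 5⟩) (.one ⟨10236, 1, 5⟩)) (.node 1 (.one ⟨1094, 1, 4⟩) (.one ⟨4166, 3, 5⟩))) (.node 2 (.node 1 (.one ⟨3404, 4, 4⟩) (.one ⟨13258, 5, 4⟩)) (.node 1 (.one ⟨17003, 5, 6⟩) (.one ⟨10706, 4, 6⟩)))))) (.node 16 (.node 8 (.node 4 (.node 2 (.node 1 (.one ⟨16246, 5, 6⟩) (.one ⟨9533, 3, 6⟩)) (.node 1 (.one ⟨14050, 2, 4⟩) (.one ⟨4598, 5, 4⟩))) (.node 2 (.node 1 (.one ⟨10891, 5, 6⟩) (.one ⟨7113, 1, 6⟩)) (.node 1 (.one ⟨6930, 5, 6⟩) (.one ⟨3997, 0, 6⟩)))) (.node 4 (.node 2 (.node 1 (.one ⟨4010, 2, 4⟩) (.one ⟨10273, 4, 5⟩)) (.node 1 (.one ⟨11814, 3, 6⟩) (.one ⟨16097, 1, 5⟩))) (.node 2 (.node 1 (.one ⟨2526, 2, 4⟩) (.one ⟨9697, 3, 5⟩))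 (.node 1 (.one ⟨1461, 5, 4⟩) (.one ⟨2183, 1, 4⟩))))) (.node 8 (.node 4 (.node 2 (.node 1 (.one ⟨9192, 1, 4⟩) (.one ⟨4545, 4, 5⟩)) (.node 1 (.one ⟨5959, 3, 5⟩) (.one ⟨14617, 1, 4⟩))) (.node 2 (.node 1 (.one ⟨5395, 3, 5⟩) (.one ⟨9093, 3, 5⟩)) (.node 1 (.one ⟨14617, 2, 4⟩) (.one ⟨14443, 0, 5⟩)))) (.node 4 (.node 2 (.node 1 (.one ⟨2752, 1, 2⟩) (.one ⟨13030, 2, 4⟩)) (.node 1 (.one ⟨1962, 3, 6⟩) (.one ⟨14148, 1, 4⟩))) (.node 2 (.node 1 (.one ⟨16818, 3, 4⟩) (.one ⟨2078, 5, 3⟩)) (.node 1 (.one ⟨10264, 3, 6⟩) (.one ⟨1508, 4, 3⟩)))))))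
def par2_6_2 : Arr Par :=
  (.node 32 (.node 16 (.node 8 (.node 4 (.node 2 (.node 1 (.one ⟨12019, 0, 5⟩) (.one ⟨2792, 3, 4⟩)) (.node 1 (.one ⟨9873, 5, 6⟩) (.one ⟨15718, 1, 6⟩))) (.node 2 (.node 1 (.one ⟨17026, 4, 6⟩) (.one ⟨13752, 5, 6⟩)) (.node 1 (.one ⟨10069, 2, 2⟩) (.one ⟨2145, 2, 5⟩)))) (.node 4 (.node 2 (.node 1 (.one ⟨4840, 1, 6⟩) (.one ⟨7084, 1, 6⟩)) (.node 1 (.one ⟨3858, 0, 5⟩) (.one ⟨13911, 0, 6⟩))) (.node 2 (.node 1 (.one ⟨2542, 2, 6⟩) (.one ⟨4443, 4, 4⟩)) (.node 1 (.one ⟨10611, 2, 5⟩) (.one ⟨81, 0, 3⟩))))) (.node 8 (.node 4 (.node 2 (.node 1 (.one ⟨3755, 5, 5⟩) (.one ⟨6259, 5, 5⟩)) (.node 1 (.one ⟨3912, 5, 5⟩) (.one ⟨9270, 0, 4⟩))) (.node 2 (.node 1 (.one ⟨2549, 5, 6⟩) (.one ⟨3738, 2, 5⟩)) (.node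 1 (.one ⟨14337, 3, 6⟩) (.one ⟨16705, 2, 5⟩)))) (.node 4 (.node 2 (.node 1 (.one ⟨6685, 5, 5⟩) (.one ⟨9099, 5, 5⟩)) (.node 1 (.one ⟨4249, 5, 5⟩) (.one ⟨10642, 3, 5⟩))) (.node 2 (.node 1 (.one ⟨3250, 3, 6⟩) (.one ⟨6179, 1, 6⟩)) (.node 1 (.one ⟨2485, 1, 3⟩) (.one ⟨8289, 1, 6⟩)))))) (.node 16 (.node 8 (.node 4 (.node 2 (.node 1 (.one ⟨5079, 5, 5⟩) (.one ⟨5447, 5, 6⟩)) (.node 1 (.one ⟨9538, 3, 3⟩) (.one ⟨12247, 4, 4⟩))) (.node 2 (.node 1 (.one ⟨12037, 4, 6⟩) (.one ⟨4426, 5, 4⟩)) (.node 1 (.one ⟨13458, 5, 6⟩) (.one ⟨10655, 2, 6⟩)))) (.node 4 (.node 2 (.node 1 (.one ⟨11459, 0, 6⟩) (.one ⟨7501, 5, 5⟩)) (.node 1 (.one ⟨16411, 1, 6⟩) (.one ⟨3779, 5, 6⟩))) (.node 2 (.node 1 (.one ⟨16500, 2, 4⟩) (.one ⟨12254, 3, 5⟩)) (.node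 1 (.one ⟨16624, 0, 6⟩) (.one ⟨14477, 4, 6⟩))))) (.node 8 (.node 4 (.node 2 (.node 1 (.one ⟨12987, 5, 5⟩) (.one ⟨15258, 5, 5⟩)) (.node 1 (.one ⟨2096, 3, 5⟩) (.one ⟨4676, 3, 5⟩))) (.node 2 (.node 1 (.one ⟨12254, 0, 5⟩) (.one ⟨12200, 5, 5⟩)) (.node 1 (.one ⟨14119, 2, 5⟩) (.one ⟨2572, 0, 3⟩)))) (.node 4 (.node 2 (.node 1 (.one ⟨13810, 2, 6⟩) (.one ⟨6104, 3, 3⟩)) (.node 1 (.one ⟨13926, 4, 5⟩) (.one ⟨1044, 4, 6⟩))) (.node 2 (.node 1 (.one ⟨5789, 2, 4⟩) (.one ⟨12343, 3, 3⟩)) (.node 1 (.one ⟨5142, 1, 5⟩) (.one ⟨14625, 2, 5⟩)))))))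
def par2_6_3 : Arr Par :=
  (.node 32 (.node 16 (.node 8 (.node 4 (.node 2 (.node 1 (.one ⟨10497, 5, 5⟩) (.one ⟨8740, 0, 5⟩)) (.node 1 (.one ⟨10586, 4, 6⟩) (.one ⟨11226, 3, 5⟩))) (.node 2 (.node 1 (.one ⟨14629, 2, 5⟩) (.one ⟨506, 1, 4⟩)) (.node 1 (.one ⟨14630, 2, 5⟩) (.one ⟨9887, 4, 5⟩)))) (.node 4 (.node 2 (.node 1 (.one ⟨10481, 1, 5⟩) (.one ⟨11774, 4, 4⟩)) (.node 1 (.one ⟨3006, 5, 6⟩) (.one ⟨9290, 2, 5⟩))) (.node 2 (.node 1 (.one ⟨5277, 1, 6⟩) (.one ⟨13358, 1, 4⟩)) (.node 1 (.one ⟨16827, 3, 6⟩) (.one ⟨17177, 2, 5⟩))))) (.node 8 (.node 4 (.node 2 (.node 1 (.one ⟨17098, 1, 5⟩) (.one ⟨17093, 3, 5⟩)) (.node 1 (.one ⟨8028, 5, 6⟩) (.one ⟨16385, 0, 4⟩))) (.node 2 (.node 1 (.one ⟨14002, 5, 6⟩) (.one ⟨14543, 2, 5⟩))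 (.node 1 (.one ⟨16133, 2, 6⟩) (.one ⟨10698, 3, 5⟩)))) (.node 4 (.node 2 (.node 1 (.one ⟨16843, 2, 5⟩) (.one ⟨15117, 2, 3⟩)) (.node 1 (.one ⟨6029, 3, 6⟩) (.one ⟨4571, 1, 6⟩))) (.node 2 (.node 1 (.one ⟨1954, 5, 5⟩) (.one ⟨12829, 1, 4⟩)) (.node 1 (.one ⟨7573, 0, 6⟩) (.one ⟨5783, 3, 1⟩)))))) (.node 16 (.node 8 (.node 4 (.node 2 (.node 1 (.one ⟨5362, 4, 5⟩) (.one ⟨5365, 4, 5⟩)) (.node 1 (.one ⟨16517, 0, 3⟩) (.one ⟨6842, 5, 2⟩))) (.node 2 (.node 1 (.one ⟨5359, 4, 5⟩) (.one ⟨13454, 0, 6⟩)) (.node 1 (.one ⟨5363, 4, 6⟩) (.one ⟨3060, 5, 6⟩)))) (.node 4 (.node 2 (.node 1 (.one ⟨11819, 5, 5⟩) (.one ⟨5553, 3, 6⟩)) (.node 1 (.one ⟨16143, 5, 5⟩) (.one ⟨9151, 4, 6⟩))) (.node 2 (.node 1 (.one ⟨1709, 5, 5⟩) (.one ⟨10862, 3, 5⟩))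 (.node 1 (.one ⟨5875, 5, 5⟩) (.one ⟨9426, 4, 5⟩))))) (.node 8 (.node 4 (.node 2 (.node 1 (.one ⟨2993, 3, 5⟩) (.one ⟨14125, 1, 4⟩)) (.node 1 (.one ⟨5502, 1, 4⟩) (.one ⟨9132, 1, 3⟩))) (.node 2 (.node 1 (.one ⟨6059, 4, 6⟩) (.one ⟨13921, 2, 5⟩)) (.node 1 (.one ⟨8448, 0, 5⟩) (.one ⟨13932, 5, 6⟩)))) (.node 4 (.node 2 (.node 1 (.one ⟨16647, 5, 5⟩) (.one ⟨13471, 4, 4⟩)) (.node 1 (.one ⟨9819, 5, 5⟩) (.one ⟨7936, 5, 6⟩))) (.node 2 (.node 1 (.one ⟨6759, 5, 6⟩) (.one ⟨12526, 2, 4⟩)) (.node 1 (.one ⟨3661, 5, 5⟩) (.one ⟨8188, 3, 6⟩)))))))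
def par2_6_4 : Arr Par :=
  (.node 32 (.node 16 (.node 8 (.node 4 (.node 2 (.node 1 (.one ⟨16909, 1, 5⟩) (.one ⟨13273, 1, 5⟩)) (.node 1 (.one ⟨1626, 3, 6⟩) (.one ⟨7066, 2, 4⟩))) (.node 2 (.node 1 (.one ⟨4636, 2, 5⟩) (.one ⟨3979, 3, 6⟩)) (.node 1 (.one ⟨14052, 4, 6⟩) (.one ⟨9286, 2, 5⟩)))) (.node 4 (.node 2 (.node 1 (.one ⟨12327, 1, 5⟩) (.one ⟨4858, 0, 5⟩)) (.node 1 (.one ⟨15226, 1, 6⟩) (.one ⟨8447, 0, 4⟩))) (.node 2 (.node 1 (.one ⟨769, 3, 5⟩) (.one ⟨850, 0, 5⟩)) (.node 1 (.one ⟨106, 4, 5⟩) (.one ⟨16322, 3, 5⟩))))) (.node 8 (.node 4 (.node 2 (.node 1 (.one ⟨10243, 3, 3⟩) (.one ⟨15317, 3, 6⟩)) (.node 1 (.one ⟨12412, 2, 4⟩) (.one ⟨3600, 5, 6⟩))) (.node 2 (.node 1 (.one ⟨10106, 3, 4⟩) (.one ⟨1349, 5, 5⟩)) (.node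 1 (.one ⟨3340, 4, 5⟩) (.one ⟨15547, 5, 4⟩)))) (.node 4 (.node 2 (.node 1 (.one ⟨4533, 3, 5⟩) (.one ⟨11053, 5, 4⟩)) (.node 1 (.one ⟨2636, 1, 5⟩) (.one ⟨9132, 2, 3⟩))) (.node 2 (.node 1 (.one ⟨12958, 3, 4⟩) (.one ⟨4673, 5, 6⟩)) (.node 1 (.one ⟨8718, 1, 6⟩) (.one ⟨9358, 2, 6⟩)))))) (.node 16 (.node 8 (.node 4 (.node 2 (.node 1 (.one ⟨2835, 1, 5⟩) (.one ⟨11068, 4, 6⟩)) (.node 1 (.one ⟨13076, 4, 4⟩) (.one ⟨15515, 3, 4⟩))) (.node 2 (.node 1 (.one ⟨15544, 5, 6⟩) (.one ⟨5521, 1, 6⟩)) (.node 1 (.one ⟨16387, 5, 5⟩) (.one ⟨5001, 2, 6⟩)))) (.node 4 (.node 2 (.node 1 (.one ⟨14294, 0, 5⟩) (.one ⟨5003, 2, 5⟩)) (.node 1 (.one ⟨9540, 4, 4⟩) (.one ⟨4636, 1, 5⟩))) (.node 2 (.node 1 (.one ⟨13566, 5, 5⟩) (.one ⟨2148, 4, 6⟩)) (.node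 1 (.one ⟨2614, 3, 5⟩) (.one ⟨13431, 0, 4⟩))))) (.node 8 (.node 4 (.node 2 (.node 1 (.one ⟨1441, 5, 6⟩) (.one ⟨10172, 3, 5⟩)) (.node 1 (.one ⟨11644, 3, 5⟩) (.one ⟨4157, 4, 5⟩))) (.node 2 (.node 1 (.one ⟨11736, 3, 4⟩) (.one ⟨10057, 2, 6⟩)) (.node 1 (.one ⟨15196, 1, 5⟩) (.one ⟨7937, 5, 6⟩)))) (.node 4 (.node 2 (.node 1 (.one ⟨4169, 1, 4⟩) (.one ⟨6013, 0, 6⟩)) (.node 1 (.one ⟨1891, 1, 4⟩) (.one ⟨8766, 2, 6⟩))) (.node 2 (.node 1 (.one ⟨14491, 0, 5⟩) (.one ⟨6583, 1, 5⟩)) (.node 1 (.one ⟨373, 0, 6⟩) (.one ⟨4503, 1, 5⟩)))))))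
def par2_6_5 : Arr Par :=
  (.node 32 (.node 16 (.node 8 (.node 4 (.node 2 (.node 1 (.one ⟨3106, 2, 3⟩) (.one ⟨15010, 2, 5⟩)) (.node 1 (.one ⟨3748, 1, 5⟩) (.one ⟨8456, 0, 6⟩))) (.node 2 (.node 1 (.one ⟨6278, 1, 3⟩) (.one ⟨5798, 1, 4⟩)) (.node 1 (.one ⟨7035, 2, 3⟩) (.one ⟨16138, 0, 5⟩)))) (.node 4 (.node 2 (.node 1 (.one ⟨6003, 1, 4⟩) (.one ⟨10349, 4, 2⟩)) (.node 1 (.one ⟨16076, 1, 5⟩) (.one ⟨743, 4, 5⟩))) (.node 2 (.node 1 (.one ⟨15159, 4, 5⟩) (.one ⟨11692, 1, 4⟩)) (.node 1 (.one ⟨1013, 3, 4⟩) (.one ⟨8767, 1, 3⟩))))) (.node 8 (.node 4 (.node 2 (.node 1 (.one ⟨10106, 1, 4⟩) (.one ⟨7544, 1, 5⟩)) (.node 1 (.one ⟨11563, 0, 4⟩) (.one ⟨3102, 5, 4⟩))) (.node 2 (.node 1 (.one ⟨13476, 2, 6⟩) (.one ⟨2083, 2, 5⟩)) (.node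 1 (.one ⟨7623, 1, 4⟩) (.one ⟨14762, 4, 7⟩)))) (.node 4 (.node 2 (.node 1 (.one ⟨2779, 2, 5⟩) (.one ⟨14177, 5, 4⟩)) (.node 1 (.one ⟨129, 1, 5⟩) (.one ⟨244, 5, 6⟩))) (.node 2 (.node 1 (.one ⟨16213, 4, 2⟩) (.one ⟨11776, 3, 3⟩)) (.node 1 (.one ⟨4459, 0, 4⟩) (.one ⟨743, 1, 5⟩)))))) (.node 16 (.node 8 (.node 4 (.node 2 (.node 1 (.one ⟨2500, 1, 6⟩) (.one ⟨4490, 5, 4⟩)) (.node 1 (.one ⟨7586, 1, 6⟩) (.one ⟨4461, 5, 6⟩))) (.node 2 (.node 1 (.one ⟨7304, 1, 5⟩) (.one ⟨15178, 4, 5⟩)) (.node 1 (.one ⟨10121, 5, 5⟩) (.one ⟨7562, 3, 5⟩)))) (.node 4 (.node 2 (.node 1 (.one ⟨6316, 0, 5⟩) (.one ⟨6313, 0, 6⟩)) (.node 1 (.one ⟨12345, 1, 5⟩) (.one ⟨16809, 3, 5⟩))) (.node 2 (.node 1 (.one ⟨15992, 1, 5⟩) (.one ⟨6255, 1, 5⟩)) (.node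 1 (.one ⟨10273, 5, 5⟩) (.one ⟨17154, 3, 5⟩))))) (.node 8 (.node 4 (.node 2 (.node 1 (.one ⟨3419, 2, 5⟩) (.one ⟨15058, 3, 5⟩)) (.node 1 (.one ⟨3081, 3, 2⟩) (.one ⟨5050, 5, 5⟩))) (.node 2 (.node 1 (.one ⟨1262, 1, 6⟩) (.one ⟨7008, 1, 4⟩)) (.node 1 (.one ⟨5743, 5, 6⟩) (.one ⟨2639, 1, 2⟩)))) (.node 4 (.node 2 (.node 1 (.one ⟨10323, 0, 2⟩) (.one ⟨1087, 5, 4⟩)) (.node 1 (.one ⟨14092, 1, 3⟩) (.one ⟨845, 2, 4⟩))) (.node 2 (.node 1 (.one ⟨14615, 2, 4⟩) (.one ⟨16107, 1, 5⟩)) (.node 1 (.one ⟨14455, 2, 5⟩) (.one ⟨10020, 1, 3⟩)))))))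
def par2_6_6 : Arr Par :=
  (.node 32 (.node 16 (.node 8 (.node 4 (.node 2 (.node 1 (.one ⟨1377, 5, 6⟩) (.one ⟨10281, 1, 4⟩)) (.node 1 (.one ⟨13367, 5, 6⟩) (.one ⟨10515, 1, 3⟩))) (.node 2 (.node 1 (.one ⟨11641, 4, 6⟩) (.one ⟨13438, 0, 5⟩)) (.node 1 (.one ⟨13745, 4, 4⟩) (.one ⟨4677, 0, 5⟩)))) (.node 4 (.node 2 (.node 1 (.one ⟨13532, 3, 5⟩) (.one ⟨17093, 0, 5⟩)) (.node 1 (.one ⟨9723, 1, 6⟩) (.one ⟨7193, 2, 5⟩))) (.node 2 (.node 1 (.one ⟨13531, 3, 5⟩) (.one ⟨593, 5, 5⟩)) (.node 1 (.one ⟨17100, 4, 5⟩) (.one ⟨592, 5, 5⟩))))) (.node 8 (.node 4 (.node 2 (.node 1 (.one ⟨13111, 4, 5⟩) (.one ⟨9292, 0, 4⟩)) (.node 1 (.one ⟨861, 5, 5⟩) (.one ⟨7769, 0, 6⟩))) (.node 2 (.node 1 (.one ⟨9956, 1, 5⟩) (.one ⟨12120, 3, 5⟩)) (.node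 1 (.one ⟨7779, 1, 5⟩) (.one ⟨3657, 3, 6⟩)))) (.node 4 (.node 2 (.node 1 (.one ⟨15331, 4, 5⟩) (.one ⟨11316, 0, 5⟩)) (.node 1 (.one ⟨10161, 1, 6⟩) (.one ⟨16132, 5, 6⟩))) (.node 2 (.node 1 (.one ⟨6237, 2, 5⟩) (.one ⟨7040, 1, 6⟩)) (.node 1 (.one ⟨5246, 4, 5⟩) (.one ⟨5825, 4, 6⟩)))))) (.node 16 (.node 8 (.node 4 (.node 2 (.node 1 (.one ⟨16673, 5, 5⟩) (.one ⟨6329, 0, 4⟩)) (.node 1 (.one ⟨6844, 4, 5⟩) (.one ⟨10168, 3, 6⟩))) (.node 2 (.node 1 (.one ⟨11544, 5, 6⟩) (.one ⟨7490, 0, 5⟩)) (.node 1 (.one ⟨3007, 4, 5⟩) (.one ⟨7597, 5, 4⟩)))) (.node 4 (.node 2 (.node 1 (.one ⟨3152, 5, 6⟩) (.one ⟨16486, 1, 3⟩)) (.node 1 (.one ⟨4692, 5, 5⟩) (.one ⟨2599, 0, 6⟩))) (.node 2 (.node 1 (.one ⟨16902, 5, 6⟩) (.one ⟨12674, 3, 5⟩)) (.node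 1 (.one ⟨5276, 2, 6⟩) (.one ⟨17120, 5, 6⟩))))) (.node 8 (.node 4 (.node 2 (.node 1 (.one ⟨8499, 5, 6⟩) (.one ⟨4558, 5, 4⟩)) (.node 1 (.one ⟨6930, 1, 6⟩) (.one ⟨3044, 1, 4⟩))) (.node 2 (.node 1 (.one ⟨1640, 1, 6⟩) (.one ⟨730, 2, 5⟩)) (.node 1 (.one ⟨15428, 5, 5⟩) (.one ⟨9676, 0, 4⟩)))) (.node 4 (.node 2 (.node 1 (.one ⟨1221, 2, 6⟩) (.one ⟨12305, 1, 5⟩)) (.node 1 (.one ⟨10093, 0, 5⟩) (.one ⟨2120, 0, 5⟩))) (.node 2 (.node 1 (.one ⟨5660, 2, 5⟩) (.one ⟨6826, 4, 6⟩)) (.node 1 (.one ⟨5191, 2, 5⟩) (.one ⟨17098, 5, 5⟩)))))))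
def par2_6_7 : Arr Par :=
  (.node 32 (.node 16 (.node 8 (.node 4 (.node 2 (.node 1 (.one ⟨12709, 2, 4⟩) (.one ⟨8335, 4, 5⟩)) (.node 1 (.one ⟨12158, 0, 5⟩) (.one ⟨250, 0, 5⟩))) (.node 2 (.node 1 (.one ⟨14370, 1, 5⟩) (.one ⟨10894, 5, 6⟩)) (.node 1 (.one ⟨8998, 2, 6⟩) (.one ⟨8202, 1, 5⟩)))) (.node 4 (.node 2 (.node 1 (.one ⟨6411, 2, 5⟩) (.one ⟨6981, 1, 3⟩)) (.node 1 (.one ⟨15823, 3, 6⟩) (.one ⟨250, 5, 5⟩))) (.node 2 (.node 1 (.one ⟨13443, 1, 5⟩) (.one ⟨5051, 4, 5⟩)) (.node 1 (.one ⟨12187, 0, 6⟩) (.one ⟨16887, 5, 6⟩))))) (.node 8 (.node 4 (.node 2 (.node 1 (.one ⟨12087, 1, 4⟩) (.one ⟨4057, 1, 4⟩)) (.node 1 (.one ⟨9474, 1, 5⟩) (.one ⟨7051, 0, 3⟩))) (.node 2 (.node 1 (.one ⟨16467, 3, 5⟩) (.one ⟨15536, 3, 4⟩)) (.node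 1 (.one ⟨8997, 0, 3⟩) (.one ⟨16355, 5, 6⟩)))) (.node 4 (.node 2 (.node 1 (.one ⟨3433, 3, 5⟩) (.one ⟨3404, 3, 4⟩)) (.node 1 (.one ⟨13637, 5, 6⟩) (.one ⟨163, 0, 3⟩))) (.node 2 (.node 1 (.one ⟨16486, 4, 3⟩) (.one ⟨6403, 2, 5⟩)) (.node 1 (.one ⟨16226, 5, 6⟩) (.one ⟨6307, 3, 5⟩)))))) (.node 16 (.node 8 (.node 4 (.node 2 (.node 1 (.one ⟨13478, 5, 6⟩) (.one ⟨10641, 1, 3⟩)) (.node 1 (.one ⟨5309, 5, 4⟩) (.one ⟨16124, 2, 6⟩))) (.node 2 (.node 1 (.one ⟨10660, 4, 5⟩) (.one ⟨7793, 1, 5⟩)) (.node 1 (.one ⟨3961, 1, 5⟩) (.one ⟨2872, 4, 4⟩)))) (.node 4 (.node 2 (.node 1 (.one ⟨6386, 2, 5⟩) (.one ⟨1600, 2, 5⟩)) (.node 1 (.one ⟨5505, 4, 5⟩) (.one ⟨4066, 4, 5⟩))) (.node 2 (.node 1 (.one ⟨11316, 3, 5⟩) (.one ⟨6057, 2, 6⟩)) (.node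 1 (.one ⟨2328, 2, 5⟩) (.one ⟨9697, 5, 5⟩))))) (.node 8 (.node 4 (.node 2 (.node 1 (.one ⟨16151, 2, 5⟩) (.one ⟨8637, 4, 5⟩)) (.node 1 (.one ⟨6550, 5, 6⟩) (.one ⟨11008, 3, 6⟩))) (.node 2 (.node 1 (.one ⟨8497, 5, 5⟩) (.one ⟨13164, 5, 5⟩)) (.node 1 (.one ⟨2899, 5, 6⟩) (.one ⟨15539, 4, 6⟩)))) (.node 4 (.node 2 (.node 1 (.one ⟨2103, 5, 5⟩) (.one ⟨2212, 4, 4⟩)) (.node 1 (.one ⟨3172, 3, 5⟩) (.one ⟨4466, 1, 6⟩))) (.node 2 (.node 1 (.one ⟨15432, 5, 5⟩) (.one ⟨10244, 4, 5⟩)) (.node 1 (.one ⟨12972, 2, 6⟩) (.one ⟨15121, 3, 6⟩)))))))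
def par2_6_8 : Arr Par :=
  (.node 32 (.node 16 (.node 8 (.node 4 (.node 2 (.node 1 (.one ⟨16574, 3, 5⟩) (.one ⟨14254, 1, 6⟩)) (.node 1 (.one ⟨12542, 5, 5⟩) (.one ⟨13229, 2, 6⟩))) (.node 2 (.node 1 (.one ⟨9820, 5, 2⟩) (.one ⟨8476, 2, 5⟩)) (.node 1 (.one ⟨15484, 4, 5⟩) (.one ⟨4347, 2, 3⟩)))) (.node 4 (.node 2 (.node 1 (.one ⟨708, 3, 4⟩) (.one ⟨11736, 0, 4⟩)) (.node 1 (.one ⟨13409, 2, 5⟩) (.one ⟨16975, 3, 5⟩))) (.node 2 (.node 1 (.one ⟨8584, 4, 6⟩) (.one ⟨2259, 2, 4⟩)) (.node 1 (.one ⟨2993, 2, 5⟩) (.one ⟨6981, 2, 3⟩))))) (.node 8 (.node 4 (.node 2 (.node 1 (.one ⟨12951, 4, 4⟩) (.one ⟨251, 0, 3⟩)) (.node 1 (.one ⟨604, 1, 5⟩) (.one ⟨5035, 4, 4⟩))) (.node 2 (.node 1 (.one ⟨6976, 0, 4⟩) (.one ⟨12347, 5, 5⟩)) (.node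 1 (.one ⟨8639, 1, 4⟩) (.one ⟨1508, 1, 3⟩)))) (.node 4 (.node 2 (.node 1 (.one ⟨11275, 1, 6⟩) (.one ⟨9540, 2, 4⟩)) (.node 1 (.one ⟨9916, 0, 5⟩) (.one ⟨6073, 3, 6⟩))) (.node 2 (.node 1 (.one ⟨5880, 5, 5⟩) (.one ⟨11613, 1, 4⟩)) (.node 1 (.one ⟨14788, 3, 5⟩) (.one ⟨1629, 2, 6⟩)))))) (.node 16 (.node 8 (.node 4 (.node 2 (.node 1 (.one ⟨12695, 5, 3⟩) (.one ⟨4059, 0, 5⟩)) (.node 1 (.one ⟨12502, 5, 6⟩) (.one ⟨4870, 2, 6⟩))) (.node 2 (.node 1 (.one ⟨14299, 5, 6⟩) (.one ⟨12784, 1, 4⟩)) (.node 1 (.one ⟨15208, 3, 5⟩) (.one ⟨11416, 3, 5⟩)))) (.node 4 (.node 2 (.node 1 (.one ⟨16110, 0, 5⟩) (.one ⟨10868, 3, 6⟩)) (.node 1 (.one ⟨1560, 5, 5⟩) (.one ⟨16915, 4, 5⟩))) (.node 2 (.node 1 (.one ⟨12964, 2, 5⟩) (.one ⟨11740, 3, 5⟩))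 (.node 1 (.one ⟨13889, 3, 5⟩) (.one ⟨13850, 4, 5⟩))))) (.node 8 (.node 4 (.node 2 (.node 1 (.one ⟨7457, 3, 6⟩) (.one ⟨16136, 5, 5⟩)) (.node 1 (.one ⟨4145, 4, 5⟩) (.one ⟨4097, 1, 5⟩))) (.node 2 (.node 1 (.one ⟨9559, 1, 4⟩) (.one ⟨16451, 3, 2⟩)) (.node 1 (.one ⟨9163, 5, 6⟩) (.one ⟨14294, 5, 5⟩)))) (.node 4 (.node 2 (.node 1 (.one ⟨6664, 4, 5⟩) (.one ⟨7612, 2, 5⟩)) (.node 1 (.one ⟨188, 0, 4⟩) (.one ⟨6534, 5, 5⟩))) (.node 2 (.node 1 (.one ⟨3263, 5, 6⟩) (.one ⟨8289, 4, 6⟩)) (.node 1 (.one ⟨7595, 5, 6⟩) (.one ⟨10015, 5, 5⟩)))))))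
def par2_6_9 : Arr Par :=
  (.node 32 (.node 16 (.node 8 (.node 4 (.node 2 (.node 1 (.one ⟨8662, 0, 5⟩) (.one ⟨5967, 4, 5⟩)) (.node 1 (.one ⟨2088, 1, 6⟩) (.one ⟨13770, 2, 5⟩))) (.node 2 (.node 1 (.one ⟨14212, 0, 5⟩) (.one ⟨16052, 2, 6⟩)) (.node 1 (.one ⟨16060, 2, 4⟩) (.one ⟨11461, 5, 5⟩)))) (.node 4 (.node 2 (.node 1 (.one ⟨8637, 0, 5⟩) (.one ⟨13669, 2, 5⟩)) (.node 1 (.one ⟨16244, 2, 5⟩) (.one ⟨1821, 3, 4⟩))) (.node 2 (.node 1 (.one ⟨14219, 2, 5⟩) (.one ⟨12034, 4, 5⟩)) (.node 1 (.one ⟨16661, 0, 5⟩) (.one ⟨12305, 4, 5⟩))))) (.node 8 (.node 4 (.node 2 (.node 1 (.one ⟨6191, 3, 2⟩) (.one ⟨11829, 4, 4⟩)) (.node 1 (.one ⟨12356, 3, 6⟩) (.one ⟨15717, 2, 5⟩))) (.node 2 (.node 1 (.one ⟨14798, 2, 5⟩) (.one ⟨7349, 1, 4⟩))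 (.node 1 (.one ⟨15222, 5, 5⟩) (.one ⟨13304, 2, 4⟩)))) (.node 4 (.node 2 (.node 1 (.one ⟨16880, 2, 4⟩) (.one ⟨15517, 4, 4⟩)) (.node 1 (.one ⟨4867, 5, 4⟩) (.one ⟨703, 4, 6⟩))) (.node 2 (.node 1 (.one ⟨8165, 0, 5⟩) (.one ⟨9286, 3, 5⟩)) (.node 1 (.one ⟨15686, 3, 6⟩) (.one ⟨12276, 5, 6⟩)))))) (.node 16 (.node 8 (.node 4 (.node 2 (.node 1 (.one ⟨4162, 5, 4⟩) (.one ⟨12212, 5, 6⟩)) (.node 1 (.one ⟨15751, 1, 4⟩) (.one ⟨7370, 4, 6⟩))) (.node 2 (.node 1 (.one ⟨12707, 2, 5⟩) (.one ⟨2208, 4, 5⟩)) (.node 1 (.one ⟨9538, 5, 3⟩) (.one ⟨10146, 2, 5⟩)))) (.node 4 (.node 2 (.node 1 (.one ⟨16964, 5, 5⟩) (.one ⟨6248, 5, 5⟩)) (.node 1 (.one ⟨2222, 0, 6⟩) (.one ⟨11873, 5, 6⟩))) (.node 2 (.node 1 (.one ⟨5640, 1, 6⟩) (.one ⟨5225, 4,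 4⟩)) (.node 1 (.one ⟨11408, 3, 6⟩) (.one ⟨2187, 2, 5⟩))))) (.node 8 (.node 4 (.node 2 (.node 1 (.one ⟨141, 5, 5⟩) (.one ⟨6619, 4, 4⟩)) (.node 1 (.one ⟨923, 5, 5⟩) (.one ⟨11725, 5, 5⟩))) (.node 2 (.node 1 (.one ⟨3282, 1, 6⟩) (.one ⟨11719, 5, 6⟩)) (.node 1 (.one ⟨433, 5, 5⟩) (.one ⟨4300, 0, 4⟩)))) (.node 4 (.node 2 (.node 1 (.one ⟨16305, 2, 5⟩) (.one ⟨16876, 1, 5⟩)) (.node 1 (.one ⟨1455, 4, 5⟩) (.one ⟨10888, 5, 5⟩))) (.node 2 (.node 1 (.one ⟨1458, 5, 4⟩) (.one ⟨11229, 4, 5⟩)) (.node 1 (.one ⟨12288, 0, 6⟩) (.one ⟨5069, 4, 5⟩)))))))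
def par2_6_10 : Arr Par :=
  (.node 32 (.node 16 (.node 8 (.node 4 (.node 2 (.node 1 (.one ⟨1394, 2, 4⟩) (.one ⟨16486, 2, 3⟩)) (.node 1 (.one ⟨6681, 5, 5⟩) (.one ⟨9349, 2, 6⟩))) (.node 2 (.node 1 (.one ⟨16455, 2, 4⟩) (.one ⟨4425, 4, 6⟩)) (.node 1 (.one ⟨13036, 5, 6⟩) (.one ⟨12606, 5, 5⟩)))) (.node 4 (.node 2 (.node 1 (.one ⟨1902, 5, 6⟩) (.one ⟨10914, 0, 6⟩)) (.node 1 (.one ⟨9538, 2, 3⟩) (.one ⟨2345, 5, 4⟩))) (.node 2 (.node 1 (.one ⟨12647, 0, 5⟩) (.one ⟨16286, 0, 5⟩)) (.node 1 (.one ⟨9692, 4, 6⟩) (.one ⟨16257, 4, 6⟩))))) (.node 8 (.node 4 (.node 2 (.node 1 (.one ⟨9075, 5, 4⟩) (.one ⟨1217, 3, 5⟩)) (.node 1 (.one ⟨1074, 2, 4⟩) (.one ⟨15517, 3, 4⟩))) (.node 2 (.node 1 (.one ⟨6365, 0, 5⟩) (.one ⟨254, 5, 5⟩)) (.node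 1 (.one ⟨13326, 4, 4⟩) (.one ⟨15255, 1, 5⟩)))) (.node 4 (.node 2 (.node 1 (.one ⟨8473, 4, 5⟩) (.one ⟨9474, 2, 5⟩)) (.node 1 (.one ⟨1887, 2, 5⟩) (.one ⟨13624, 1, 5⟩))) (.node 2 (.node 1 (.one ⟨11846, 3, 4⟩) (.one ⟨6957, 4, 6⟩)) (.node 1 (.one ⟨11502, 0, 5⟩) (.one ⟨17003, 1, 6⟩)))))) (.node 16 (.node 8 (.node 4 (.node 2 (.node 1 (.one ⟨2573, 5, 4⟩) (.one ⟨8045, 4, 5⟩)) (.node 1 (.one ⟨10816, 4, 6⟩) (.one ⟨3430, 3, 5⟩))) (.node 2 (.node 1 (.one ⟨7749, 4, 5⟩) (.one ⟨4102, 5, 5⟩)) (.node 1 (.one ⟨9745, 1, 5⟩) (.one ⟨6918, 3, 4⟩)))) (.node 4 (.node 2 (.node 1 (.one ⟨8045, 2, 5⟩) (.one ⟨6425, 1, 5⟩)) (.node 1 (.one ⟨12989, 0, 5⟩) (.one ⟨10651, 4, 5⟩))) (.node 2 (.node 1 (.one ⟨8916, 3, 5⟩) (.one ⟨15756, 4, 4⟩)) (.node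 1 (.one ⟨8664, 0, 5⟩) (.one ⟨14177, 3, 4⟩))))) (.node 8 (.node 4 (.node 2 (.node 1 (.one ⟨7686, 5, 5⟩) (.one ⟨14150, 4, 4⟩)) (.node 1 (.one ⟨652, 2, 5⟩) (.one ⟨15687, 3, 6⟩))) (.node 2 (.node 1 (.one ⟨9189, 5, 4⟩) (.one ⟨11608, 5, 5⟩)) (.node 1 (.one ⟨5185, 5, 5⟩) (.one ⟨9165, 3, 4⟩)))) (.node 4 (.node 2 (.node 1 (.one ⟨4198, 4, 6⟩) (.one ⟨9040, 0, 5⟩)) (.node 1 (.one ⟨5649, 5, 1⟩) (.one ⟨3518, 4, 5⟩))) (.node 2 (.node 1 (.one ⟨5798, 3, 4⟩) (.one ⟨11281, 0, 6⟩)) (.node 1 (.one ⟨6754, 2, 5⟩) (.one ⟨11340, 2, 4⟩)))))))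
def par2_6_11 : Arr Par :=
  (.node 32 (.node 16 (.node 8 (.node 4 (.node 2 (.node 1 (.one ⟨3747, 0, 6⟩) (.one ⟨5020, 3, 5⟩)) (.node 1 (.one ⟨7965, 2, 6⟩) (.one ⟨11412, 4, 5⟩))) (.node 2 (.node 1 (.one ⟨1276, 3, 6⟩) (.one ⟨9343, 1, 5⟩)) (.node 1 (.one ⟨13588, 3, 5⟩) (.one ⟨3000, 4, 6⟩)))) (.node 4 (.node 2 (.node 1 (.one ⟨13186, 5, 3⟩) (.one ⟨7849, 5, 4⟩)) (.node 1 (.one ⟨15246, 2, 6⟩) (.one ⟨13304, 5, 4⟩))) (.node 2 (.node 1 (.one ⟨14974, 5, 6⟩) (.one ⟨379, 2, 5⟩)) (.node 1 (.one ⟨4683, 3, 4⟩) (.one ⟨11157, 4, 5⟩))))) (.node 8 (.node 4 (.node 2 (.node 1 (.one ⟨9117, 0, 4⟩) (.one ⟨11345, 1, 4⟩)) (.node 1 (.one ⟨13998, 5, 6⟩) (.one ⟨13559, 5, 6⟩))) (.node 2 (.node 1 (.one ⟨5033, 4, 6⟩) (.one ⟨6069, 2, 4⟩)) (.node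 1 (.one ⟨7082, 4, 6⟩) (.one ⟨3260, 5, 5⟩)))) (.node 4 (.node 2 (.node 1 (.one ⟨11937, 2, 5⟩) (.one ⟨10289, 5, 5⟩)) (.node 1 (.one ⟨8065, 0, 6⟩) (.one ⟨14682, 5, 4⟩))) (.node 2 (.node 1 (.one ⟨15340, 3, 5⟩) (.one ⟨13316, 3, 6⟩)) (.node 1 (.one ⟨2467, 2, 5⟩) (.one ⟨11027, 0, 5⟩)))))) (.node 16 (.node 8 (.node 4 (.node 2 (.node 1 (.one ⟨10959, 5, 6⟩) (.one ⟨7681, 0, 5⟩)) (.node 1 (.one ⟨15780, 2, 6⟩) (.one ⟨4598, 1, 4⟩))) (.node 2 (.node 1 (.one ⟨4597, 1, 5⟩) (.one ⟨3203, 5, 6⟩)) (.node 1 (.one ⟨4596, 1, 5⟩) (.one ⟨11562, 4, 4⟩)))) (.node 4 (.node 2 (.node 1 (.one ⟨5639, 5, 5⟩) (.one ⟨16946, 4, 6⟩)) (.node 1 (.one ⟨7822, 5, 5⟩) (.one ⟨9104, 4, 4⟩))) (.node 2 (.node 1 (.one ⟨15854, 4, 4⟩) (.one ⟨9536, 1, 5⟩)) (.node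 1 (.one ⟨11673, 5, 5⟩) (.one ⟨9672, 0, 5⟩))))) (.node 8 (.node 4 (.node 2 (.node 1 (.one ⟨13926, 3, 5⟩) (.one ⟨15090, 4, 5⟩)) (.node 1 (.one ⟨5057, 5, 6⟩) (.one ⟨4636, 4, 5⟩))) (.node 2 (.node 1 (.one ⟨3565, 5, 5⟩) (.one ⟨1946, 0, 5⟩)) (.node 1 (.one ⟨5889, 2, 6⟩) (.one ⟨14491, 2, 5⟩)))) (.node 4 (.node 2 (.node 1 (.one ⟨15372, 2, 6⟩) (.one ⟨4144, 0, 5⟩)) (.node 1 (.one ⟨15607, 3, 5⟩) (.one ⟨16671, 0, 6⟩))) (.node 2 (.node 1 (.one ⟨10911, 3, 5⟩) (.one ⟨123, 4, 4⟩)) (.node 1 (.one ⟨258, 1, 5⟩) (.one ⟨3832, 2, 4⟩)))))))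
def par2_6_12 : Arr Par :=
  (.node 32 (.node 16 (.node 8 (.node 4 (.node 2 (.node 1 (.one ⟨13142, 5, 5⟩) (.one ⟨12708, 2, 6⟩)) (.node 1 (.one ⟨8490, 4, 6⟩) (.one ⟨3907, 4, 5⟩))) (.node 2 (.node 1 (.one ⟨15524, 1, 5⟩) (.one ⟨7725, 5, 5⟩)) (.node 1 (.one ⟨11746, 2, 3⟩) (.one ⟨4927, 2, 2⟩)))) (.node 4 (.node 2 (.node 1 (.one ⟨17075, 2, 6⟩) (.one ⟨3994, 4, 5⟩)) (.node 1 (.one ⟨14300, 2, 5⟩) (.one ⟨9989, 4, 5⟩))) (.node 2 (.node 1 (.one ⟨14536, 3, 5⟩) (.one ⟨1889, 2, 6⟩)) (.node 1 (.one ⟨12847, 1, 5⟩) (.one ⟨2300, 0, 6⟩))))) (.node 8 (.node 4 (.node 2 (.node 1 (.one ⟨11, 0, 5⟩) (.one ⟨4838, 0, 5⟩)) (.node 1 (.one ⟨82, 4, 5⟩) (.one ⟨1752, 1, 6⟩))) (.node 2 (.node 1 (.one ⟨12954, 5, 5⟩) (.one ⟨4811, 5, 5⟩)) (.node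 1 (.one ⟨17195, 4, 6⟩) (.one ⟨16438, 3, 6⟩)))) (.node 4 (.node 2 (.node 1 (.one ⟨12851, 3, 5⟩) (.one ⟨5690, 5, 5⟩)) (.node 1 (.one ⟨15635, 2, 6⟩) (.one ⟨12855, 3, 5⟩))) (.node 2 (.node 1 (.one ⟨6741, 4, 5⟩) (.one ⟨5692, 5, 6⟩)) (.node 1 (.one ⟨8321, 1, 5⟩) (.one ⟨13927, 2, 4⟩)))))) (.node 16 (.node 8 (.node 4 (.node 2 (.node 1 (.one ⟨1947, 1, 5⟩) (.one ⟨6489, 5, 5⟩)) (.node 1 (.one ⟨15123, 1, 5⟩) (.one ⟨9495, 5, 4⟩))) (.node 2 (.node 1 (.one ⟨13566, 4, 5⟩) (.one ⟨5472, 4, 4⟩)) (.node 1 (.one ⟨2082, 2, 6⟩) (.one ⟨8237, 0, 6⟩)))) (.node 4 (.node 2 (.node 1 (.one ⟨13281, 0, 6⟩) (.one ⟨14494, 3, 5⟩)) (.node 1 (.one ⟨13928, 5, 4⟩) (.one ⟨5578, 5, 5⟩))) (.node 2 (.node 1 (.one ⟨12177, 1, 5⟩) (.one ⟨12369, 2, 5⟩))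 (.node 1 (.one ⟨5080, 5, 6⟩) (.one ⟨15012, 1, 6⟩))))) (.node 8 (.node 4 (.node 2 (.node 1 (.one ⟨4784, 5, 5⟩) (.one ⟨16063, 2, 5⟩)) (.node 1 (.one ⟨1276, 1, 6⟩) (.one ⟨14715, 3, 5⟩))) (.node 2 (.node 1 (.one ⟨1630, 4, 5⟩) (.one ⟨3738, 1, 5⟩)) (.node 1 (.one ⟨7938, 2, 5⟩) (.one ⟨6641, 1, 6⟩)))) (.node 4 (.node 2 (.node 1 (.one ⟨12829, 2, 4⟩) (.one ⟨14042, 1, 6⟩)) (.node 1 (.one ⟨16702, 2, 4⟩) (.one ⟨1134, 3, 6⟩))) (.node 2 (.node 1 (.one ⟨12458, 5, 5⟩) (.one ⟨5561, 1, 5⟩)) (.node 1 (.one ⟨14334, 2, 6⟩) (.one ⟨7582, 2, 6⟩)))))))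
def par2_6_13 : Arr Par :=
  (.node 32 (.node 16 (.node 8 (.node 4 (.node 2 (.node 1 (.one ⟨598, 2, 3⟩) (.one ⟨8809, 0, 4⟩)) (.node 1 (.one ⟨1051, 0, 3⟩) (.one ⟨1199, 4, 3⟩))) (.node 2 (.node 1 (.one ⟨12954, 4, 5⟩) (.one ⟨10323, 4, 2⟩)) (.node 1 (.one ⟨5230, 4, 5⟩) (.one ⟨1921, 4, 4⟩)))) (.node 4 (.node 2 (.node 1 (.one ⟨7923, 3, 6⟩) (.one ⟨15369, 3, 5⟩)) (.node 1 (.one ⟨16666, 4, 5⟩) (.one ⟨11985, 4, 6⟩))) (.node 2 (.node 1 (.one ⟨2569, 5, 4⟩) (.one ⟨869, 4, 5⟩)) (.node 1 (.one ⟨3830, 0, 5⟩) (.one ⟨2429, 3, 6⟩))))) (.node 8 (.node 4 (.node 2 (.node 1 (.one ⟨17151, 1, 4⟩) (.one ⟨9283, 3, 5⟩)) (.node 1 (.one ⟨14246, 0, 4⟩) (.one ⟨12798, 1, 6⟩))) (.node 2 (.node 1 (.one ⟨2099, 5, 5⟩) (.one ⟨13297, 2, 5⟩)) (.node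 1 (.one ⟨4175, 4, 3⟩) (.one ⟨12680, 3, 6⟩)))) (.node 4 (.node 2 (.node 1 (.one ⟨3334, 5, 6⟩) (.one ⟨13297, 0, 5⟩)) (.node 1 (.one ⟨10389, 2, 5⟩) (.one ⟨12262, 2, 5⟩))) (.node 2 (.node 1 (.one ⟨279, 1, 5⟩) (.one ⟨14935, 1, 4⟩)) (.node 1 (.one ⟨10245, 4, 5⟩) (.one ⟨2595, 1, 5⟩)))))) (.node 16 (.node 8 (.node 4 (.node 2 (.node 1 (.one ⟨15860, 3, 3⟩) (.one ⟨13070, 5, 5⟩)) (.node 1 (.one ⟨14670, 5, 5⟩) (.one ⟨10656, 4, 6⟩))) (.node 2 (.node 1 (.one ⟨6228, 4, 6⟩) (.one ⟨7059, 4, 4⟩)) (.node 1 (.one ⟨13381, 0, 4⟩) (.one ⟨3750, 1, 5⟩)))) (.node 4 (.node 2 (.node 1 (.one ⟨13424, 4, 5⟩) (.one ⟨15371, 0, 6⟩)) (.node 1 (.one ⟨13427, 4, 6⟩) (.one ⟨6159, 5, 6⟩))) (.node 2 (.node 1 (.one ⟨11942, 4, 6⟩) (.one ⟨12893, 0, 5⟩))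 (.node 1 (.one ⟨11937, 4, 5⟩) (.one ⟨1043, 4, 6⟩))))) (.node 8 (.node 4 (.node 2 (.node 1 (.one ⟨12817, 5, 5⟩) (.one ⟨9053, 4, 4⟩)) (.node 1 (.one ⟨14717, 5, 6⟩) (.one ⟨12809, 2, 5⟩))) (.node 2 (.node 1 (.one ⟨7463, 5, 5⟩) (.one ⟨6769, 5, 5⟩)) (.node 1 (.one ⟨7864, 4, 6⟩) (.one ⟨861, 3, 5⟩)))) (.node 4 (.node 2 (.node 1 (.one ⟨15038, 3, 5⟩) (.one ⟨8963, 2, 5⟩)) (.node 1 (.one ⟨13725, 5, 6⟩) (.one ⟨2950, 0, 2⟩))) (.node 2 (.node 1 (.one ⟨12940, 1, 6⟩) (.one ⟨763, 1, 5⟩)) (.node 1 (.one ⟨1748, 2, 4⟩) (.one ⟨4191, 3, 5⟩)))))))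
def par2_6_14 : Arr Par :=
  (.node 32 (.node 16 (.node 8 (.node 4 (.node 2 (.node 1 (.one ⟨13035, 5, 5⟩) (.one ⟨1092, 3, 6⟩)) (.node 1 (.one ⟨6140, 0, 5⟩) (.one ⟨15556, 2, 6⟩))) (.node 2 (.node 1 (.one ⟨6365, 4, 5⟩) (.one ⟨10676, 2, 6⟩)) (.node 1 (.one ⟨10148, 1, 3⟩) (.one ⟨1130, 1, 5⟩)))) (.node 4 (.node 2 (.node 1 (.one ⟨14731, 3, 4⟩) (.one ⟨5788, 4, 3⟩)) (.node 1 (.one ⟨4185, 1, 4⟩) (.one ⟨2687, 4, 2⟩))) (.node 2 (.node 1 (.one ⟨8939, 2, 3⟩) (.one ⟨2813, 0, 6⟩)) (.node 1 (.one ⟨15057, 3, 5⟩) (.one ⟨3393, 3, 4⟩))))) (.node 8 (.node 4 (.node 2 (.node 1 (.one ⟨5404, 0, 5⟩) (.one ⟨12513, 5, 5⟩)) (.node 1 (.one ⟨5783, 4, 1⟩) (.one ⟨7267, 1, 3⟩))) (.node 2 (.node 1 (.one ⟨13451, 1, 6⟩) (.one ⟨9569, 4, 6⟩)) (.node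 1 (.one ⟨2931, 2, 4⟩) (.one ⟨5406, 4, 3⟩)))) (.node 4 (.node 2 (.node 1 (.one ⟨10864, 3, 5⟩) (.one ⟨1370, 5, 5⟩)) (.node 1 (.one ⟨81, 5, 3⟩) (.one ⟨15176, 3, 6⟩))) (.node 2 (.node 1 (.one ⟨16097, 2, 5⟩) (.one ⟨8249, 5, 6⟩)) (.node 1 (.one ⟨6332, 4, 5⟩) (.one ⟨7530, 2, 6⟩)))))) (.node 16 (.node 8 (.node 4 (.node 2 (.node 1 (.one ⟨3760, 2, 4⟩) (.one ⟨14839, 2, 4⟩)) (.node 1 (.one ⟨3245, 5, 6⟩) (.one ⟨14719, 5, 5⟩))) (.node 2 (.node 1 (.one ⟨13070, 1, 5⟩) (.one ⟨2193, 1, 5⟩)) (.node 1 (.one ⟨8940, 2, 3⟩) (.one ⟨769, 4, 5⟩)))) (.node 4 (.node 2 (.node 1 (.one ⟨4520, 4, 6⟩) (.one ⟨15033, 5, 6⟩)) (.node 1 (.one ⟨11959, 2, 5⟩) (.one ⟨5274, 4, 6⟩))) (.node 2 (.node 1 (.one ⟨9936, 2, 5⟩) (.one ⟨8216, 5, 4⟩)) (.node 1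 (.one ⟨13403, 0, 4⟩) (.one ⟨6477, 1, 5⟩))))) (.node 8 (.node 4 (.node 2 (.node 1 (.one ⟨13018, 0, 3⟩) (.one ⟨12200, 3, 5⟩)) (.node 1 (.one ⟨10032, 2, 3⟩) (.one ⟨14258, 5, 6⟩))) (.node 2 (.node 1 (.one ⟨13234, 1, 5⟩) (.one ⟨9656, 4, 4⟩)) (.node 1 (.one ⟨3088, 0, 5⟩) (.one ⟨3342, 3, 4⟩)))) (.node 4 (.node 2 (.node 1 (.one ⟨5254, 5, 5⟩) (.one ⟨13445, 4, 6⟩)) (.node 1 (.one ⟨1321, 2, 6⟩) (.one ⟨7373, 3, 6⟩))) (.node 2 (.node 1 (.one ⟨16237, 0, 5⟩) (.one ⟨2830, 4, 5⟩)) (.node 1 (.one ⟨13409, 4, 5⟩) (.one ⟨10116, 1, 4⟩)))))))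
def par2_6_15 : Arr Par :=
  (.node 32 (.node 16 (.node 8 (.node 4 (.node 2 (.node 1 (.one ⟨3409, 3, 5⟩) (.one ⟨6887, 0, 5⟩)) (.node 1 (.one ⟨16295, 4, 5⟩) (.one ⟨13381, 1, 4⟩))) (.node 2 (.node 1 (.one ⟨1475, 5, 6⟩) (.one ⟨8383, 5, 5⟩)) (.node 1 (.one ⟨13961, 2, 6⟩) (.one ⟨2419, 5, 5⟩)))) (.node 4 (.node 2 (.node 1 (.one ⟨9745, 2, 5⟩) (.one ⟨10835, 4, 5⟩)) (.node 1 (.one ⟨17118, 5, 4⟩) (.one ⟨14953, 4, 6⟩))) (.node 2 (.node 1 (.one ⟨3172, 1, 5⟩) (.one ⟨15364, 3, 4⟩)) (.node 1 (.one ⟨14271, 0, 4⟩) (.one ⟨7187, 2, 5⟩))))) (.node 8 (.node 4 (.node 2 (.node 1 (.one ⟨11736, 4, 4⟩) (.one ⟨14892, 3, 5⟩)) (.node 1 (.one ⟨3849, 4, 5⟩) (.one ⟨11434, 3, 6⟩))) (.node 2 (.node 1 (.one ⟨5317, 2, 5⟩) (.one ⟨5984, 1, 5⟩))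 (.node 1 (.one ⟨352, 4, 5⟩) (.one ⟨4166, 5, 5⟩)))) (.node 4 (.node 2 (.node 1 (.one ⟨2371, 0, 5⟩) (.one ⟨3433, 1, 5⟩)) (.node 1 (.one ⟨16661, 1, 5⟩) (.one ⟨17125, 3, 5⟩))) (.node 2 (.node 1 (.one ⟨15547, 4, 4⟩) (.one ⟨10554, 5, 5⟩)) (.node 1 (.one ⟨5908, 3, 6⟩) (.one ⟨9848, 2, 6⟩)))))) (.node 16 (.node 8 (.node 4 (.node 2 (.node 1 (.one ⟨5874, 3, 6⟩) (.one ⟨17151, 4, 4⟩)) (.node 1 (.one ⟨16157, 4, 5⟩) (.one ⟨14043, 1, 4⟩))) (.node 2 (.node 1 (.one ⟨3168, 5, 6⟩) (.one ⟨9222, 3, 6⟩)) (.node 1 (.one ⟨16955, 5, 5⟩) (.one ⟨11562, 2, 4⟩)))) (.node 4 (.node 2 (.node 1 (.one ⟨12209, 0, 5⟩) (.one ⟨15247, 5, 6⟩)) (.node 1 (.one ⟨8545, 5, 5⟩) (.one ⟨3581, 3, 5⟩))) (.node 2 (.node 1 (.one ⟨13255, 3, 5⟩) (.one ⟨281, 3, 5⟩))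 (.node 1 (.one ⟨11190, 3, 5⟩) (.one ⟨16847, 5, 5⟩))))) (.node 8 (.node 4 (.node 2 (.node 1 (.one ⟨17023, 1, 5⟩) (.one ⟨15697, 1, 3⟩)) (.node 1 (.one ⟨2962, 5, 4⟩) (.one ⟨11785, 2, 6⟩))) (.node 2 (.node 1 (.one ⟨16066, 2, 5⟩) (.one ⟨5649, 4, 1⟩)) (.node 1 (.one ⟨7623, 2, 4⟩) (.one ⟨4721, 0, 5⟩)))) (.node 4 (.node 2 (.node 1 (.one ⟨14261, 3, 5⟩) (.one ⟨3424, 5, 3⟩)) (.node 1 (.one ⟨1094, 4, 4⟩) (.one ⟨6665, 5, 5⟩))) (.node 2 (.node 1 (.one ⟨13234, 0, 5⟩) (.one ⟨15374, 5, 5⟩)) (.node 1 (.one ⟨16182, 5, 4⟩) (.one ⟨8466, 5, 4⟩)))))))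
def par2_6 : Arr Par :=
  (.node 512 (.node 256 (.node 128 (.node 64 par2_6_0 par2_6_1) (.node 64 par2_6_2 par2_6_3)) (.node 128 (.node 64 par2_6_4 par2_6_5) (.node 64 par2_6_6 par2_6_7))) (.node 256 (.node 128 (.node 64 par2_6_8 par2_6_9) (.node 64 par2_6_10 par2_6_11)) (.node 128 (.node 64 par2_6_12 par2_6_13) (.node 64 par2_6_14 par2_6_15))))
def par2_7_0 : Arr Par :=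
  (.node 32 (.node 16 (.node 8 (.node 4 (.node 2 (.node 1 (.one ⟨1866, 0, 4⟩) (.one ⟨812, 2, 6⟩)) (.node 1 (.one ⟨3830, 5, 5⟩) (.one ⟨8042, 1, 4⟩))) (.node 2 (.node 1 (.one ⟨3342, 2, 4⟩) (.one ⟨2945, 5, 5⟩)) (.node 1 (.one ⟨6442, 1, 5⟩) (.one ⟨1224, 5, 5⟩)))) (.node 4 (.node 2 (.node 1 (.one ⟨3075, 4, 5⟩) (.one ⟨2858, 3, 4⟩)) (.node 1 (.one ⟨3039, 5, 5⟩) (.one ⟨8080, 0, 5⟩))) (.node 2 (.node 1 (.one ⟨12120, 2, 5⟩) (.one ⟨14496, 2, 5⟩)) (.node 1 (.one ⟨4963, 4, 6⟩) (.one ⟨16522, 5, 6⟩))))) (.node 8 (.node 4 (.node 2 (.node 1 (.one ⟨11456, 4, 6⟩) (.one ⟨8223, 1, 4⟩)) (.node 1 (.one ⟨7152, 2, 6⟩) (.one ⟨15939, 2, 4⟩))) (.node 2 (.node 1 (.one ⟨9942, 2, 5⟩) (.one ⟨5770, 5, 6⟩)) (.node 1 (.one ⟨6943, 5, 5⟩) (.one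 ⟨8381, 5, 5⟩)))) (.node 4 (.node 2 (.node 1 (.one ⟨3345, 3, 6⟩) (.one ⟨10082, 5, 4⟩)) (.node 1 (.one ⟨6875, 5, 5⟩) (.one ⟨14133, 0, 5⟩))) (.node 2 (.node 1 (.one ⟨10512, 4, 2⟩) (.one ⟨1825, 2, 5⟩)) (.node 1 (.one ⟨15297, 2, 5⟩) (.one ⟨8833, 5, 6⟩)))))) (.node 16 (.node 8 (.node 4 (.node 2 (.node 1 (.one ⟨5256, 2, 3⟩) (.one ⟨7232, 2, 4⟩)) (.node 1 (.one ⟨9518, 0, 5⟩) (.one ⟨5088, 0, 5⟩))) (.node 2 (.node 1 (.one ⟨8415, 0, 6⟩) (.one ⟨911, 4, 5⟩)) (.node 1 (.one ⟨17065, 4, 6⟩) (.one ⟨16217, 4, 6⟩)))) (.node 4 (.node 2 (.node 1 (.one ⟨734, 1, 5⟩) (.one ⟨1321, 5, 6⟩)) (.node 1 (.one ⟨12817, 0, 5⟩) (.one ⟨6631, 0, 5⟩))) (.node 2 (.node 1 (.one ⟨13796, 2, 5⟩) (.one ⟨2773, 3, 5⟩)) (.node 1 (.one ⟨10642, 4, 5⟩) (.one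 ⟨16234, 1, 4⟩))))) (.node 8 (.node 4 (.node 2 (.node 1 (.one ⟨4335, 5, 6⟩) (.one ⟨11175, 2, 5⟩)) (.node 1 (.one ⟨2964, 3, 3⟩) (.one ⟨12770, 0, 4⟩))) (.node 2 (.node 1 (.one ⟨9794, 1, 5⟩) (.one ⟨15105, 4, 6⟩)) (.node 1 (.one ⟨7064, 1, 6⟩) (.one ⟨723, 1, 6⟩)))) (.node 4 (.node 2 (.node 1 (.one ⟨211, 0, 6⟩) (.one ⟨1691, 3, 6⟩)) (.node 1 (.one ⟨250, 1, 5⟩) (.one ⟨9233, 3, 5⟩))) (.node 2 (.node 1 (.one ⟨12343, 2, 3⟩) (.one ⟨8662, 3, 5⟩)) (.node 1 (.one ⟨12235, 3, 5⟩) (.one ⟨11351, 1, 6⟩)))))))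
def par2_7_1 : Arr Par :=
  (.node 32 (.node 16 (.node 8 (.node 4 (.node 2 (.node 1 (.one ⟨13115, 5, 3⟩) (.one ⟨15378, 4, 6⟩)) (.node 1 (.one ⟨4931, 4, 5⟩) (.one ⟨16212, 0, 6⟩))) (.node 2 (.node 1 (.one ⟨16256, 4, 5⟩) (.one ⟨11362, 1, 6⟩)) (.node 1 (.one ⟨1322, 5, 6⟩) (.one ⟨10697, 1, 6⟩)))) (.node 4 (.node 2 (.node 1 (.one ⟨7085, 4, 5⟩) (.one ⟨7464, 5, 5⟩)) (.node 1 (.one ⟨11255, 2, 5⟩) (.one ⟨13260, 4, 6⟩))) (.node 2 (.node 1 (.one ⟨11260, 2, 6⟩) (.one ⟨14839, 1, 4⟩)) (.node 1 (.one ⟨8194, 3, 5⟩) (.one ⟨6531, 0, 4⟩))))) (.node 8 (.node 4 (.node 2 (.node 1 (.one ⟨8223, 3, 4⟩) (.one ⟨6018, 2, 5⟩)) (.node 1 (.one ⟨15704, 1, 5⟩) (.one ⟨12893, 1, 5⟩))) (.node 2 (.node 1 (.one ⟨15519, 0, 5⟩) (.one ⟨15223, 5, 6⟩))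 (.node 1 (.one ⟨10984, 1, 4⟩) (.one ⟨11227, 3, 6⟩)))) (.node 4 (.node 2 (.node 1 (.one ⟨8165, 3, 5⟩) (.one ⟨3291, 5, 6⟩)) (.node 1 (.one ⟨10508, 0, 5⟩) (.one ⟨8825, 3, 5⟩))) (.node 2 (.node 1 (.one ⟨408, 0, 5⟩) (.one ⟨5798, 5, 4⟩)) (.node 1 (.one ⟨6829, 5, 5⟩) (.one ⟨8473, 1, 5⟩)))))) (.node 16 (.node 8 (.node 4 (.node 2 (.node 1 (.one ⟨7649, 0, 3⟩) (.one ⟨1465, 0, 4⟩)) (.node 1 (.one ⟨16257, 1, 6⟩) (.one ⟨16676, 0, 2⟩))) (.node 2 (.node 1 (.one ⟨6901, 3, 6⟩) (.one ⟨5608, 2, 5⟩)) (.node 1 (.one ⟨15802, 1, 5⟩) (.one ⟨8753, 3, 5⟩)))) (.node 4 (.node 2 (.node 1 (.one ⟨3801, 4, 5⟩) (.one ⟨15686, 0, 6⟩)) (.node 1 (.one ⟨5323, 4, 6⟩) (.one ⟨10666, 1, 5⟩))) (.node 2 (.node 1 (.one ⟨3800, 4, 3⟩) (.one ⟨6667, 5, 6⟩))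 (.node 1 (.one ⟨5326, 4, 6⟩) (.one ⟨14118, 4, 5⟩))))) (.node 8 (.node 4 (.node 2 (.node 1 (.one ⟨14865, 3, 5⟩) (.one ⟨5171, 2, 3⟩)) (.node 1 (.one ⟨8840, 1, 5⟩) (.one ⟨8294, 5, 6⟩))) (.node 2 (.node 1 (.one ⟨5572, 5, 6⟩) (.one ⟨5169, 2, 5⟩)) (.node 1 (.one ⟨5174, 2, 5⟩) (.one ⟨16147, 5, 5⟩)))) (.node 4 (.node 2 (.node 1 (.one ⟨13452, 4, 4⟩) (.one ⟨10273, 2, 5⟩)) (.node 1 (.one ⟨5640, 5, 6⟩) (.one ⟨9540, 1, 4⟩))) (.node 2 (.node 1 (.one ⟨8440, 5, 5⟩) (.one ⟨15146, 5, 5⟩)) (.node 1 (.one ⟨15540, 4, 5⟩) (.one ⟨5149, 5, 5⟩)))))))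
def par2_7_2 : Arr Par :=
  (.node 32 (.node 16 (.node 8 (.node 4 (.node 2 (.node 1 (.one ⟨1855, 5, 5⟩) (.one ⟨16666, 2, 5⟩)) (.node 1 (.one ⟨3801, 1, 5⟩) (.one ⟨11694, 3, 6⟩))) (.node 2 (.node 1 (.one ⟨6829, 0, 5⟩) (.one ⟨7965, 5, 6⟩)) (.node 1 (.one ⟨7095, 5, 5⟩) (.one ⟨3748, 5, 5⟩)))) (.node 4 (.node 2 (.node 1 (.one ⟨14177, 1, 4⟩) (.one ⟨6556, 3, 6⟩)) (.node 1 (.one ⟨10835, 1, 5⟩) (.one ⟨8720, 1, 4⟩))) (.node 2 (.node 1 (.one ⟨2014, 4, 5⟩) (.one ⟨14403, 4, 5⟩)) (.node 1 (.one ⟨15878, 5, 6⟩) (.one ⟨10137, 1, 4⟩))))) (.node 8 (.node 4 (.node 2 (.node 1 (.one ⟨1326, 4, 4⟩) (.one ⟨1121, 5, 5⟩)) (.node 1 (.one ⟨8983, 2, 5⟩) (.one ⟨428, 3, 5⟩))) (.node 2 (.node 1 (.one ⟨5607, 0, 6⟩) (.one ⟨88, 5, 3⟩)) (.node 1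 (.one ⟨9475, 0, 3⟩) (.one ⟨7444, 4, 5⟩)))) (.node 4 (.node 2 (.node 1 (.one ⟨2879, 3, 5⟩) (.one ⟨8384, 0, 5⟩)) (.node 1 (.one ⟨16942, 3, 5⟩) (.one ⟨728, 5, 6⟩))) (.node 2 (.node 1 (.one ⟨6711, 4, 6⟩) (.one ⟨7740, 4, 6⟩)) (.node 1 (.one ⟨2360, 1, 6⟩) (.one ⟨13647, 4, 5⟩)))))) (.node 16 (.node 8 (.node 4 (.node 2 (.node 1 (.one ⟨3823, 4, 5⟩) (.one ⟨9855, 4, 6⟩)) (.node 1 (.one ⟨6592, 3, 5⟩) (.one ⟨15607, 4, 5⟩))) (.node 2 (.node 1 (.one ⟨10866, 1, 6⟩) (.one ⟨15836, 3, 5⟩)) (.node 1 (.one ⟨3188, 0, 6⟩) (.one ⟨1448, 4, 6⟩)))) (.node 4 (.node 2 (.node 1 (.one ⟨1548, 2, 4⟩) (.one ⟨4471, 3, 4⟩)) (.node 1 (.one ⟨16167, 2, 4⟩) (.one ⟨13895, 0, 6⟩))) (.node 2 (.node 1 (.one ⟨3555, 5, 5⟩) (.one ⟨15594, 2, 6⟩)) (.node 1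 (.one ⟨5130, 1, 5⟩) (.one ⟨16680, 1, 6⟩))))) (.node 8 (.node 4 (.node 2 (.node 1 (.one ⟨13809, 1, 5⟩) (.one ⟨4615, 2, 6⟩)) (.node 1 (.one ⟨15489, 5, 5⟩) (.one ⟨10641, 2, 3⟩))) (.node 2 (.node 1 (.one ⟨9055, 2, 5⟩) (.one ⟨8475, 2, 3⟩)) (.node 1 (.one ⟨9465, 2, 5⟩) (.one ⟨10049, 2, 6⟩)))) (.node 4 (.node 2 (.node 1 (.one ⟨6340, 2, 6⟩) (.one ⟨14419, 1, 6⟩)) (.node 1 (.one ⟨882, 1, 5⟩) (.one ⟨12087, 2, 4⟩))) (.node 2 (.node 1 (.one ⟨5615, 0, 7⟩) (.one ⟨14418, 1, 4⟩)) (.node 1 (.one ⟨7349, 2, 4⟩) (.one ⟨16402, 3, 4⟩)))))))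
def par2_7_3 : Arr Par :=
  (.node 32 (.node 16 (.node 8 (.node 4 (.node 2 (.node 1 (.one ⟨13142, 2, 5⟩) (.one ⟨16185, 5, 6⟩)) (.node 1 (.one ⟨16671, 4, 6⟩) (.one ⟨11052, 3, 5⟩))) (.node 2 (.node 1 (.one ⟨13253, 2, 6⟩) (.one ⟨15436, 5, 3⟩)) (.node 1 (.one ⟨8952, 0, 6⟩) (.one ⟨2007, 2, 5⟩)))) (.node 4 (.node 2 (.node 1 (.one ⟨10148, 4, 3⟩) (.one ⟨14592, 5, 5⟩)) (.node 1 (.one ⟨3394, 1, 5⟩) (.one ⟨8314, 4, 5⟩))) (.node 2 (.node 1 (.one ⟨15029, 1, 6⟩) (.one ⟨6988, 5, 5⟩)) (.node 1 (.one ⟨15725, 2, 4⟩) (.one ⟨1334, 4, 6⟩))))) (.node 8 (.node 4 (.node 2 (.node 1 (.one ⟨12075, 5, 5⟩) (.one ⟨8257, 3, 4⟩)) (.node 1 (.one ⟨2248, 2, 7⟩) (.one ⟨12617, 0, 6⟩))) (.node 2 (.node 1 (.one ⟨14050, 3, 4⟩) (.one ⟨12056, 3, 5⟩))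 (.node 1 (.one ⟨9632, 0, 5⟩) (.one ⟨12598, 3, 5⟩)))) (.node 4 (.node 2 (.node 1 (.one ⟨6217, 0, 4⟩) (.one ⟨10032, 1, 3⟩)) (.node 1 (.one ⟨13297, 5, 5⟩) (.one ⟨1776, 2, 5⟩))) (.node 2 (.node 1 (.one ⟨11600, 5, 5⟩) (.one ⟨6341, 4, 5⟩)) (.node 1 (.one ⟨1664, 4, 4⟩) (.one ⟨7938, 1, 5⟩)))))) (.node 16 (.node 8 (.node 4 (.node 2 (.node 1 (.one ⟨8468, 3, 5⟩) (.one ⟨7592, 3, 5⟩)) (.node 1 (.one ⟨3059, 2, 5⟩) (.one ⟨3229, 4, 5⟩))) (.node 2 (.node 1 (.one ⟨12254, 5, 5⟩) (.one ⟨15633, 1, 6⟩)) (.node 1 (.one ⟨3992, 5, 6⟩) (.one ⟨7228, 3, 4⟩)))) (.node 4 (.node 2 (.node 1 (.one ⟨2142, 2, 5⟩) (.one ⟨525, 4, 5⟩)) (.node 1 (.one ⟨2865, 5, 6⟩) (.one ⟨16267, 0, 5⟩))) (.node 2 (.node 1 (.one ⟨5381, 0, 4⟩) (.one ⟨625, 5, 5⟩)) (.node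 1 (.one ⟨14392, 3, 5⟩) (.one ⟨15029, 3, 6⟩))))) (.node 8 (.node 4 (.node 2 (.node 1 (.one ⟨12218, 5, 6⟩) (.one ⟨9292, 4, 4⟩)) (.node 1 (.one ⟨14757, 5, 5⟩) (.one ⟨11548, 4, 6⟩))) (.node 2 (.node 1 (.one ⟨15057, 5, 5⟩) (.one ⟨4443, 2, 4⟩)) (.node 1 (.one ⟨12125, 5, 5⟩) (.one ⟨2773, 5, 5⟩)))) (.node 4 (.node 2 (.node 1 (.one ⟨4487, 5, 5⟩) (.one ⟨7090, 5, 4⟩)) (.node 1 (.one ⟨14288, 4, 5⟩) (.one ⟨14192, 5, 5⟩))) (.node 2 (.node 1 (.one ⟨10455, 4, 5⟩) (.one ⟨14683, 0, 5⟩)) (.node 1 (.one ⟨12650, 5, 5⟩) (.one ⟨5296, 0, 6⟩)))))))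
def par2_7_4 : Arr Par :=
  (.node 32 (.node 16 (.node 8 (.node 4 (.node 2 (.node 1 (.one ⟨14064, 0, 5⟩) (.one ⟨14987, 2, 5⟩)) (.node 1 (.one ⟨15639, 3, 5⟩) (.one ⟨12764, 5, 5⟩))) (.node 2 (.node 1 (.one ⟨15456, 4, 5⟩) (.one ⟨11979, 0, 4⟩)) (.node 1 (.one ⟨14942, 2, 6⟩) (.one ⟨2595, 2, 5⟩)))) (.node 4 (.node 2 (.node 1 (.one ⟨230, 2, 5⟩) (.one ⟨5043, 4, 5⟩)) (.node 1 (.one ⟨15583, 5, 5⟩) (.one ⟨12128, 0, 1⟩))) (.node 2 (.node 1 (.one ⟨16338, 4, 6⟩) (.one ⟨7597, 4, 4⟩)) (.node 1 (.one ⟨14865, 1, 5⟩) (.one ⟨3658, 4, 6⟩))))) (.node 8 (.node 4 (.node 2 (.node 1 (.one ⟨5664, 0, 4⟩) (.one ⟨6464, 3, 4⟩)) (.node 1 (.one ⟨2283, 4, 5⟩) (.one ⟨5022, 3, 4⟩))) (.node 2 (.node 1 (.one ⟨9013, 2, 4⟩) (.one ⟨8824, 4, 5⟩)) (.node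 1 (.one ⟨8427, 3, 5⟩) (.one ⟨2865, 4, 6⟩)))) (.node 4 (.node 2 (.node 1 (.one ⟨10641, 4, 3⟩) (.one ⟨12454, 5, 5⟩)) (.node 1 (.one ⟨5315, 0, 4⟩) (.one ⟨14730, 2, 5⟩))) (.node 2 (.node 1 (.one ⟨4811, 4, 5⟩) (.one ⟨9507, 1, 6⟩)) (.node 1 (.one ⟨14483, 4, 5⟩) (.one ⟨14983, 1, 5⟩)))))) (.node 16 (.node 8 (.node 4 (.node 2 (.node 1 (.one ⟨15449, 2, 5⟩) (.one ⟨7114, 4, 5⟩)) (.node 1 (.one ⟨8045, 5, 5⟩) (.one ⟨7749, 5, 5⟩))) (.node 2 (.node 1 (.one ⟨175, 5, 6⟩) (.one ⟨13729, 4, 5⟩)) (.node 1 (.one ⟨11136, 5, 5⟩) (.one ⟨5648, 0, 4⟩)))) (.node 4 (.node 2 (.node 1 (.one ⟨16833, 0, 4⟩) (.one ⟨2207, 5, 2⟩)) (.node 1 (.one ⟨1351, 2, 4⟩) (.one ⟨2213, 5, 4⟩))) (.node 2 (.node 1 (.one ⟨11417, 0, 5⟩) (.one ⟨3118, 4, 4⟩)) (.node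 1 (.one ⟨2614, 4, 5⟩) (.one ⟨12071, 5, 5⟩))))) (.node 8 (.node 4 (.node 2 (.node 1 (.one ⟨14447, 5, 2⟩) (.one ⟨8402, 5, 4⟩)) (.node 1 (.one ⟨16429, 4, 5⟩) (.one ⟨13858, 2, 5⟩))) (.node 2 (.node 1 (.one ⟨17076, 5, 6⟩) (.one ⟨6167, 5, 5⟩)) (.node 1 (.one ⟨3711, 5, 6⟩) (.one ⟨1078, 5, 4⟩)))) (.node 4 (.node 2 (.node 1 (.one ⟨11510, 1, 5⟩) (.one ⟨3434, 4, 6⟩)) (.node 1 (.one ⟨14155, 0, 6⟩) (.one ⟨6299, 2, 6⟩))) (.node 2 (.node 1 (.one ⟨1411, 5, 6⟩) (.one ⟨12961, 4, 6⟩)) (.node 1 (.one ⟨6003, 2, 4⟩) (.one ⟨16959, 5, 5⟩)))))))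
def par2_7_5 : Arr Par :=
  (.node 32 (.node 16 (.node 8 (.node 4 (.node 2 (.node 1 (.one ⟨10413, 4, 5⟩) (.one ⟨14610, 2, 6⟩)) (.node 1 (.one ⟨9172, 1, 4⟩) (.one ⟨10947, 1, 6⟩))) (.node 2 (.node 1 (.one ⟨10088, 5, 7⟩) (.one ⟨13315, 4, 5⟩)) (.node 1 (.one ⟨2537, 2, 6⟩) (.one ⟨15573, 5, 6⟩)))) (.node 4 (.node 2 (.node 1 (.one ⟨15671, 1, 6⟩) (.one ⟨3278, 3, 5⟩)) (.node 1 (.one ⟨12324, 0, 5⟩) (.one ⟨10709, 3, 5⟩))) (.node 2 (.node 1 (.one ⟨3117, 0, 6⟩) (.one ⟨14655, 1, 4⟩)) (.node 1 (.one ⟨13949, 2, 4⟩) (.one ⟨11596, 5, 5⟩))))) (.node 8 (.node 4 (.node 2 (.node 1 (.one ⟨7690, 1, 5⟩) (.one ⟨15665, 5, 6⟩)) (.node 1 (.one ⟨3198, 0, 5⟩) (.one ⟨16194, 5, 5⟩))) (.node 2 (.node 1 (.one ⟨11426, 2, 6⟩) (.one ⟨11457, 2, 5⟩))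 (.node 1 (.one ⟨6472, 2, 5⟩) (.one ⟨456, 1, 4⟩)))) (.node 4 (.node 2 (.node 1 (.one ⟨14699, 0, 4⟩) (.one ⟨729, 1, 6⟩)) (.node 1 (.one ⟨13488, 3, 5⟩) (.one ⟨12362, 0, 5⟩))) (.node 2 (.node 1 (.one ⟨14298, 5, 6⟩) (.one ⟨15226, 2, 6⟩)) (.node 1 (.one ⟨14569, 2, 7⟩) (.one ⟨11695, 0, 4⟩)))))) (.node 16 (.node 8 (.node 4 (.node 2 (.node 1 (.one ⟨8214, 2, 5⟩) (.one ⟨10773, 4, 4⟩)) (.node 1 (.one ⟨3320, 3, 3⟩) (.one ⟨240, 3, 6⟩))) (.node 2 (.node 1 (.one ⟨11945, 2, 5⟩) (.one ⟨12149, 3, 5⟩)) (.node 1 (.one ⟨10769, 4, 5⟩) (.one ⟨14932, 1, 5⟩)))) (.node 4 (.node 2 (.node 1 (.one ⟨11630, 4, 5⟩) (.one ⟨8338, 2, 6⟩)) (.node 1 (.one ⟨11416, 5, 5⟩) (.one ⟨2835, 2, 5⟩))) (.node 2 (.node 1 (.one ⟨6170, 1, 4⟩) (.one ⟨9488, 5,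 5⟩)) (.node 1 (.one ⟨2831, 2, 5⟩) (.one ⟨5820, 4, 5⟩))))) (.node 8 (.node 4 (.node 2 (.node 1 (.one ⟨13040, 3, 5⟩) (.one ⟨13715, 5, 5⟩)) (.node 1 (.one ⟨9552, 3, 6⟩) (.one ⟨16071, 5, 5⟩))) (.node 2 (.node 1 (.one ⟨5488, 1, 5⟩) (.one ⟨14617, 3, 4⟩)) (.node 1 (.one ⟨13436, 5, 5⟩) (.one ⟨10289, 1, 5⟩)))) (.node 4 (.node 2 (.node 1 (.one ⟨15163, 5, 4⟩) (.one ⟨16668, 5, 6⟩)) (.node 1 (.one ⟨14471, 1, 6⟩) (.one ⟨2786, 5, 6⟩))) (.node 2 (.node 1 (.one ⟨11613, 0, 4⟩) (.one ⟨4070, 4, 6⟩)) (.node 1 (.one ⟨12082, 0, 4⟩) (.one ⟨16414, 3, 6⟩)))))))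
def par2_7_6 : Arr Par :=
  (.node 32 (.node 16 (.node 8 (.node 4 (.node 2 (.node 1 (.one ⟨14304, 5, 5⟩) (.one ⟨7535, 5, 6⟩)) (.node 1 (.one ⟨4445, 3, 6⟩) (.one ⟨16402, 5, 4⟩))) (.node 2 (.node 1 (.one ⟨10090, 0, 4⟩) (.one ⟨13462, 5, 6⟩)) (.node 1 (.one ⟨14968, 2, 4⟩) (.one ⟨7172, 0, 5⟩)))) (.node 4 (.node 2 (.node 1 (.one ⟨2608, 4, 5⟩) (.one ⟨15132, 3, 6⟩)) (.node 1 (.one ⟨6271, 5, 4⟩) (.one ⟨3367, 5, 5⟩))) (.node 2 (.node 1 (.one ⟨14888, 5, 5⟩) (.one ⟨3296, 5, 6⟩)) (.node 1 (.one ⟨13952, 4, 5⟩) (.one ⟨11366, 3, 6⟩))))) (.node 8 (.node 4 (.node 2 (.node 1 (.one ⟨13055, 5, 5⟩) (.one ⟨14844, 0, 5⟩)) (.node 1 (.one ⟨12898, 2, 5⟩) (.one ⟨16527, 3, 6⟩))) (.node 2 (.node 1 (.one ⟨17159, 5, 5⟩) (.one ⟨8214, 4, 5⟩))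 (.node 1 (.one ⟨9975, 5, 6⟩) (.one ⟨16284, 1, 4⟩)))) (.node 4 (.node 2 (.node 1 (.one ⟨6380, 4, 6⟩) (.one ⟨4510, 3, 6⟩)) (.node 1 (.one ⟨1754, 3, 5⟩) (.one ⟨4440, 0, 4⟩))) (.node 2 (.node 1 (.one ⟨2337, 1, 6⟩) (.one ⟨14655, 4, 4⟩)) (.node 1 (.one ⟨882, 3, 5⟩) (.one ⟨7152, 5, 6⟩)))))) (.node 16 (.node 8 (.node 4 (.node 2 (.node 1 (.one ⟨14247, 2, 6⟩) (.one ⟨12060, 4, 5⟩)) (.node 1 (.one ⟨12422, 4, 5⟩) (.one ⟨1825, 0, 5⟩))) (.node 2 (.node 1 (.one ⟨820, 4, 4⟩) (.one ⟨9673, 3, 4⟩)) (.node 1 (.one ⟨10575, 0, 4⟩) (.one ⟨8042, 5, 4⟩)))) (.node 4 (.node 2 (.node 1 (.one ⟨11284, 4, 4⟩) (.one ⟨16261, 2, 6⟩)) (.node 1 (.one ⟨8601, 4, 6⟩) (.one ⟨16256, 2, 5⟩))) (.node 2 (.node 1 (.one ⟨16888, 0, 6⟩) (.one ⟨6492, 0, 3⟩))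 (.node 1 (.one ⟨12975, 5, 6⟩) (.one ⟨11194, 4, 6⟩))))) (.node 8 (.node 4 (.node 2 (.node 1 (.one ⟨15358, 0, 4⟩) (.one ⟨15190, 0, 4⟩)) (.node 1 (.one ⟨11600, 3, 5⟩) (.one ⟨8880, 4, 4⟩))) (.node 2 (.node 1 (.one ⟨4289, 5, 5⟩) (.one ⟨16959, 4, 5⟩)) (.node 1 (.one ⟨1172, 0, 4⟩) (.one ⟨487, 3, 5⟩)))) (.node 4 (.node 2 (.node 1 (.one ⟨6411, 1, 5⟩) (.one ⟨469, 3, 4⟩)) (.node 1 (.one ⟨11379, 5, 6⟩) (.one ⟨1130, 5, 5⟩))) (.node 2 (.node 1 (.one ⟨1114, 4, 4⟩) (.one ⟨5315, 2, 4⟩)) (.node 1 (.one ⟨13152, 3, 5⟩) (.one ⟨2889, 5, 5⟩)))))))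
def par2_7_7 : Arr Par :=
  (.node 32 (.node 16 (.node 8 (.node 4 (.node 2 (.node 1 (.one ⟨8963, 1, 5⟩) (.one ⟨2033, 0, 3⟩)) (.node 1 (.one ⟨6007, 1, 5⟩) (.one ⟨4294, 5, 6⟩))) (.node 2 (.node 1 (.one ⟨13461, 2, 5⟩) (.one ⟨5097, 5, 5⟩)) (.node 1 (.one ⟨9896, 1, 5⟩) (.one ⟨8007, 2, 3⟩)))) (.node 4 (.node 2 (.node 1 (.one ⟨11681, 2, 5⟩) (.one ⟨10976, 5, 6⟩)) (.node 1 (.one ⟨14298, 4, 6⟩) (.one ⟨593, 0, 5⟩))) (.node 2 (.node 1 (.one ⟨9312, 2, 6⟩) (.one ⟨14457, 3, 5⟩)) (.node 1 (.one ⟨3962, 1, 6⟩) (.one ⟨9115, 4, 6⟩))))) (.node 8 (.node 4 (.node 2 (.node 1 (.one ⟨94, 5, 5⟩) (.one ⟨6218, 2, 6⟩)) (.node 1 (.one ⟨12640, 2, 5⟩) (.one ⟨7938, 3, 5⟩))) (.node 2 (.node 1 (.one ⟨10933, 0, 4⟩) (.one ⟨9109, 4, 5⟩)) (.node 1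 (.one ⟨419, 5, 6⟩) (.one ⟨2615, 1, 5⟩)))) (.node 4 (.node 2 (.node 1 (.one ⟨14278, 1, 5⟩) (.one ⟨13838, 1, 4⟩)) (.node 1 (.one ⟨11186, 4, 5⟩) (.one ⟨2582, 5, 6⟩))) (.node 2 (.node 1 (.one ⟨12218, 1, 6⟩) (.one ⟨11183, 4, 5⟩)) (.node 1 (.one ⟨7636, 1, 5⟩) (.one ⟨3599, 0, 5⟩)))))) (.node 16 (.node 8 (.node 4 (.node 2 (.node 1 (.one ⟨1866, 4, 4⟩) (.one ⟨8685, 1, 2⟩)) (.node 1 (.one ⟨15017, 3, 5⟩) (.one ⟨6620, 1, 4⟩))) (.node 2 (.node 1 (.one ⟨13198, 5, 5⟩) (.one ⟨2874, 3, 5⟩)) (.node 1 (.one ⟨13439, 2, 5⟩) (.one ⟨1089, 5, 5⟩)))) (.node 4 (.node 2 (.node 1 (.one ⟨13666, 2, 6⟩) (.one ⟨13780, 5, 5⟩)) (.node 1 (.one ⟨13088, 4, 6⟩) (.one ⟨16287, 5, 6⟩))) (.node 2 (.node 1 (.one ⟨14395, 0, 5⟩) (.one ⟨2681, 4, 6⟩)) (.node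 1 (.one ⟨8291, 5, 4⟩) (.one ⟨15639, 5, 5⟩))))) (.node 8 (.node 4 (.node 2 (.node 1 (.one ⟨13124, 5, 6⟩) (.one ⟨2299, 5, 4⟩)) (.node 1 (.one ⟨13192, 1, 6⟩) (.one ⟨13337, 4, 6⟩))) (.node 2 (.node 1 (.one ⟨12924, 5, 6⟩) (.one ⟨8165, 4, 5⟩)) (.node 1 (.one ⟨13490, 3, 6⟩) (.one ⟨6964, 3, 6⟩)))) (.node 4 (.node 2 (.node 1 (.one ⟨8122, 1, 6⟩) (.one ⟨4081, 0, 6⟩)) (.node 1 (.one ⟨3487, 5, 4⟩) (.one ⟨15475, 5, 5⟩))) (.node 2 (.node 1 (.one ⟨14650, 4, 6⟩) (.one ⟨16942, 2, 5⟩)) (.node 1 (.one ⟨676, 4, 5⟩) (.one ⟨2731, 2, 4⟩)))))))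
def par2_7_8 : Arr Par :=
  (.node 32 (.node 16 (.node 8 (.node 4 (.node 2 (.node 1 (.one ⟨6341, 2, 5⟩) (.one ⟨678, 1, 4⟩)) (.node 1 (.one ⟨6194, 2, 5⟩) (.one ⟨6302, 4, 4⟩))) (.node 2 (.node 1 (.one ⟨8203, 5, 6⟩) (.one ⟨12862, 5, 7⟩)) (.node 1 (.one ⟨1415, 3, 4⟩) (.one ⟨16625, 1, 5⟩)))) (.node 4 (.node 2 (.node 1 (.one ⟨12234, 5, 5⟩) (.one ⟨143, 4, 4⟩)) (.node 1 (.one ⟨13358, 5, 4⟩) (.one ⟨10849, 5, 6⟩))) (.node 2 (.node 1 (.one ⟨9524, 2, 5⟩) (.one ⟨5967, 1, 5⟩)) (.node 1 (.one ⟨13691, 2, 6⟩) (.one ⟨1102, 3, 4⟩))))) (.node 8 (.node 4 (.node 2 (.node 1 (.one ⟨12386, 5, 4⟩) (.one ⟨3112, 5, 3⟩)) (.node 1 (.one ⟨5949, 1, 5⟩) (.one ⟨16849, 5, 6⟩))) (.node 2 (.node 1 (.one ⟨11298, 3, 4⟩) (.one ⟨8498, 1, 5⟩)) (.node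 1 (.one ⟨5928, 5, 5⟩) (.one ⟨12283, 1, 5⟩)))) (.node 4 (.node 2 (.node 1 (.one ⟨5967, 5, 5⟩) (.one ⟨7472, 3, 3⟩)) (.node 1 (.one ⟨1011, 0, 6⟩) (.one ⟨11566, 3, 6⟩))) (.node 2 (.node 1 (.one ⟨10718, 4, 4⟩) (.one ⟨9233, 1, 5⟩)) (.node 1 (.one ⟨14343, 5, 6⟩) (.one ⟨6236, 4, 5⟩)))))) (.node 16 (.node 8 (.node 4 (.node 2 (.node 1 (.one ⟨10676, 3, 6⟩) (.one ⟨5376, 3, 4⟩)) (.node 1 (.one ⟨6051, 5, 6⟩) (.one ⟨16413, 5, 6⟩))) (.node 2 (.node 1 (.one ⟨568, 1, 4⟩) (.one ⟨12279, 1, 3⟩)) (.node 1 (.one ⟨5798, 2, 4⟩) (.one ⟨5994, 2, 5⟩)))) (.node 4 (.node 2 (.node 1 (.one ⟨5234, 1, 6⟩) (.one ⟨14968, 5, 4⟩)) (.node 1 (.one ⟨14739, 5, 6⟩) (.one ⟨6635, 1, 6⟩))) (.node 2 (.node 1 (.one ⟨9851, 0, 5⟩) (.one ⟨6115, 0, 4⟩)) (.node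 1 (.one ⟨11315, 3, 5⟩) (.one ⟨12483, 3, 6⟩))))) (.node 8 (.node 4 (.node 2 (.node 1 (.one ⟨1351, 3, 4⟩) (.one ⟨4407, 4, 5⟩)) (.node 1 (.one ⟨3305, 0, 5⟩) (.one ⟨4097, 4, 5⟩))) (.node 2 (.node 1 (.one ⟨11131, 5, 6⟩) (.one ⟨12217, 4, 5⟩)) (.node 1 (.one ⟨2819, 5, 4⟩) (.one ⟨10320, 1, 5⟩)))) (.node 4 (.node 2 (.node 1 (.one ⟨8157, 3, 5⟩) (.one ⟨7996, 5, 6⟩)) (.node 1 (.one ⟨389, 3, 5⟩) (.one ⟨11137, 2, 5⟩))) (.node 2 (.node 1 (.one ⟨14117, 4, 5⟩) (.one ⟨2101, 0, 4⟩)) (.node 1 (.one ⟨10773, 5, 4⟩) (.one ⟨6327, 5, 4⟩)))))))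
def par2_7_9 : Arr Par :=
  (.node 32 (.node 16 (.node 8 (.node 4 (.node 2 (.node 1 (.one ⟨13778, 4, 5⟩) (.one ⟨6143, 5, 5⟩)) (.node 1 (.one ⟨12987, 1, 5⟩) (.one ⟨9290, 1, 5⟩))) (.node 2 (.node 1 (.one ⟨3367, 0, 5⟩) (.one ⟨14617, 5, 4⟩)) (.node 1 (.one ⟨7679, 5, 5⟩) (.one ⟨15307, 1, 4⟩)))) (.node 4 (.node 2 (.node 1 (.one ⟨7317, 1, 4⟩) (.one ⟨1280, 2, 5⟩)) (.node 1 (.one ⟨585, 2, 5⟩) (.one ⟨14724, 5, 6⟩))) (.node 2 (.node 1 (.one ⟨11673, 3, 5⟩) (.one ⟨9559, 2, 4⟩)) (.node 1 (.one ⟨2005, 1, 6⟩) (.one ⟨9899, 2, 5⟩))))) (.node 8 (.node 4 (.node 2 (.node 1 (.one ⟨15134, 5, 5⟩) (.one ⟨11401, 2, 5⟩)) (.node 1 (.one ⟨7875, 0, 5⟩) (.one ⟨4674, 5, 5⟩))) (.node 2 (.node 1 (.one ⟨12161, 2, 5⟩) (.one ⟨13496, 0, 5⟩)) (.node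 1 (.one ⟨4225, 4, 5⟩) (.one ⟨10509, 2, 5⟩)))) (.node 4 (.node 2 (.node 1 (.one ⟨8146, 4, 4⟩) (.one ⟨2122, 4, 5⟩)) (.node 1 (.one ⟨10069, 5, 2⟩) (.one ⟨8552, 3, 5⟩))) (.node 2 (.node 1 (.one ⟨5412, 4, 6⟩) (.one ⟨902, 3, 5⟩)) (.node 1 (.one ⟨11630, 5, 5⟩) (.one ⟨2889, 3, 5⟩)))))) (.node 16 (.node 8 (.node 4 (.node 2 (.node 1 (.one ⟨5088, 5, 5⟩) (.one ⟨14181, 5, 5⟩)) (.node 1 (.one ⟨13616, 5, 5⟩) (.one ⟨13334, 5, 4⟩))) (.node 2 (.node 1 (.one ⟨14058, 0, 6⟩) (.one ⟨5820, 5, 5⟩)) (.node 1 (.one ⟨4784, 2, 5⟩) (.one ⟨13722, 5, 5⟩)))) (.node 4 (.node 2 (.node 1 (.one ⟨8408, 1, 3⟩) (.one ⟨3667, 4, 6⟩)) (.node 1 (.one ⟨9040, 2, 5⟩) (.one ⟨3377, 3, 4⟩))) (.node 2 (.node 1 (.one ⟨7552, 0, 6⟩) (.one ⟨5438, 2, 5⟩)) (.node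 1 (.one ⟨2081, 0, 6⟩) (.one ⟨14478, 5, 5⟩))))) (.node 8 (.node 4 (.node 2 (.node 1 (.one ⟨13092, 2, 6⟩) (.one ⟨15536, 4, 4⟩)) (.node 1 (.one ⟨1655, 2, 5⟩) (.one ⟨496, 4, 4⟩))) (.node 2 (.node 1 (.one ⟨13560, 0, 3⟩) (.one ⟨10954, 4, 5⟩)) (.node 1 (.one ⟨9129, 3, 6⟩) (.one ⟨10223, 0, 6⟩)))) (.node 4 (.node 2 (.node 1 (.one ⟨12357, 3, 6⟩) (.one ⟨13283, 4, 5⟩)) (.node 1 (.one ⟨10020, 5, 3⟩) (.one ⟨4351, 1, 6⟩))) (.node 2 (.node 1 (.one ⟨2459, 0, 6⟩) (.one ⟨1224, 4, 5⟩)) (.node 1 (.one ⟨8415, 1, 6⟩) (.one ⟨6416, 5, 4⟩)))))))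
def par2_7_10 : Arr Par :=
  (.node 32 (.node 16 (.node 8 (.node 4 (.node 2 (.node 1 (.one ⟨6418, 5, 5⟩) (.one ⟨11166, 4, 5⟩)) (.node 1 (.one ⟨11164, 4, 6⟩) (.one ⟨1086, 3, 4⟩))) (.node 2 (.node 1 (.one ⟨8185, 2, 5⟩) (.one ⟨1837, 3, 5⟩)) (.node 1 (.one ⟨6420, 5, 5⟩) (.one ⟨14333, 2, 6⟩)))) (.node 4 (.node 2 (.node 1 (.one ⟨14509, 2, 5⟩) (.one ⟨6613, 4, 5⟩)) (.node 1 (.one ⟨12051, 3, 6⟩) (.one ⟨2187, 5, 5⟩))) (.node 2 (.node 1 (.one ⟨2125, 5, 6⟩) (.one ⟨8509, 4, 5⟩)) (.node 1 (.one ⟨10281, 5, 4⟩) (.one ⟨14319, 3, 6⟩))))) (.node 8 (.node 4 (.node 2 (.node 1 (.one ⟨4500, 0, 6⟩) (.one ⟨15906, 4, 4⟩)) (.node 1 (.one ⟨8319, 3, 3⟩) (.one ⟨7840, 5, 5⟩))) (.node 2 (.node 1 (.one ⟨13143, 2, 5⟩) (.one ⟨13858, 3, 5⟩)) (.node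 1 (.one ⟨16034, 5, 4⟩) (.one ⟨4239, 1, 6⟩)))) (.node 4 (.node 2 (.node 1 (.one ⟨2053, 3, 5⟩) (.one ⟨5780, 1, 5⟩)) (.node 1 (.one ⟨7422, 1, 6⟩) (.one ⟨1152, 3, 5⟩))) (.node 2 (.node 1 (.one ⟨11027, 4, 5⟩) (.one ⟨5070, 2, 5⟩)) (.node 1 (.one ⟨10030, 2, 6⟩) (.one ⟨6151, 5, 4⟩)))))) (.node 16 (.node 8 (.node 4 (.node 2 (.node 1 (.one ⟨937, 3, 4⟩) (.one ⟨7752, 2, 5⟩)) (.node 1 (.one ⟨2728, 5, 1⟩) (.one ⟨4579, 2, 5⟩))) (.node 2 (.node 1 (.one ⟨2384, 5, 1⟩) (.one ⟨3439, 4, 4⟩)) (.node 1 (.one ⟨10618, 1, 5⟩) (.one ⟨4619, 1, 6⟩)))) (.node 4 (.node 2 (.node 1 (.one ⟨8408, 2, 3⟩) (.one ⟨4232, 5, 3⟩)) (.node 1 (.one ⟨9486, 0, 5⟩) (.one ⟨9546, 3, 5⟩))) (.node 2 (.node 1 (.one ⟨12744, 4, 6⟩) (.one ⟨15117, 4, 3⟩)) (.node 1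 (.one ⟨7844, 4, 2⟩) (.one ⟨12897, 1, 6⟩))))) (.node 8 (.node 4 (.node 2 (.node 1 (.one ⟨13208, 5, 4⟩) (.one ⟨5009, 1, 3⟩)) (.node 1 (.one ⟨14232, 5, 6⟩) (.one ⟨13289, 5, 4⟩))) (.node 2 (.node 1 (.one ⟨10293, 4, 5⟩) (.one ⟨11669, 3, 5⟩)) (.node 1 (.one ⟨8905, 5, 4⟩) (.one ⟨10735, 4, 4⟩)))) (.node 4 (.node 2 (.node 1 (.one ⟨1584, 3, 5⟩) (.one ⟨15291, 3, 4⟩)) (.node 1 (.one ⟨2351, 4, 6⟩) (.one ⟨9111, 0, 3⟩))) (.node 2 (.node 1 (.one ⟨13017, 4, 6⟩) (.one ⟨6104, 2, 3⟩)) (.node 1 (.one ⟨2338, 3, 4⟩) (.one ⟨6856, 3, 4⟩)))))))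
def par2_7_11 : Arr Par :=
  (.node 32 (.node 16 (.node 8 (.node 4 (.node 2 (.node 1 (.one ⟨14125, 3, 4⟩) (.one ⟨11173, 4, 6⟩)) (.node 1 (.one ⟨7465, 5, 3⟩) (.one ⟨10106, 5, 4⟩))) (.node 2 (.node 1 (.one ⟨11193, 5, 4⟩) (.one ⟨6754, 1, 5⟩)) (.node 1 (.one ⟨7544, 5, 5⟩) (.one ⟨2874, 4, 5⟩)))) (.node 4 (.node 2 (.node 1 (.one ⟨13620, 5, 4⟩) (.one ⟨2972, 1, 5⟩)) (.node 1 (.one ⟨14839, 4, 4⟩) (.one ⟨11815, 3, 5⟩))) (.node 2 (.node 1 (.one ⟨10697, 4, 6⟩) (.one ⟨14347, 2, 4⟩)) (.node 1 (.one ⟨10812, 2, 5⟩) (.one ⟨8740, 3, 5⟩))))) (.node 8 (.node 4 (.node 2 (.node 1 (.one ⟨16907, 1, 6⟩) (.one ⟨511, 5, 5⟩)) (.node 1 (.one ⟨8692, 3, 5⟩) (.one ⟨1472, 3, 6⟩))) (.node 2 (.node 1 (.one ⟨15822, 2, 5⟩) (.one ⟨12631, 1, 6⟩))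 (.node 1 (.one ⟨11979, 1, 4⟩) (.one ⟨16274, 4, 6⟩)))) (.node 4 (.node 2 (.node 1 (.one ⟨7117, 1, 5⟩) (.one ⟨8731, 5, 6⟩)) (.node 1 (.one ⟨16646, 5, 6⟩) (.one ⟨12217, 5, 5⟩))) (.node 2 (.node 1 (.one ⟨10466, 2, 5⟩) (.one ⟨5036, 1, 6⟩)) (.node 1 (.one ⟨14668, 4, 6⟩) (.one ⟨2202, 3, 4⟩)))))) (.node 16 (.node 8 (.node 4 (.node 2 (.node 1 (.one ⟨15729, 4, 5⟩) (.one ⟨395, 4, 5⟩)) (.node 1 (.one ⟨15843, 0, 4⟩) (.one ⟨3563, 4, 5⟩))) (.node 2 (.node 1 (.one ⟨3201, 2, 5⟩) (.one ⟨2354, 2, 5⟩)) (.node 1 (.one ⟨17053, 0, 4⟩) (.one ⟨11074, 4, 4⟩)))) (.node 4 (.node 2 (.node 1 (.one ⟨5621, 5, 6⟩) (.one ⟨1881, 5, 6⟩)) (.node 1 (.one ⟨15378, 1, 6⟩) (.one ⟨8545, 4, 5⟩))) (.node 2 (.node 1 (.one ⟨15416, 0, 5⟩) (.one ⟨11923, 3,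 5⟩)) (.node 1 (.one ⟨7073, 0, 5⟩) (.one ⟨506, 4, 4⟩))))) (.node 8 (.node 4 (.node 2 (.node 1 (.one ⟨16915, 2, 5⟩) (.one ⟨9100, 4, 5⟩)) (.node 1 (.one ⟨1732, 5, 5⟩) (.one ⟨2122, 0, 5⟩))) (.node 2 (.node 1 (.one ⟨16672, 5, 5⟩) (.one ⟨7267, 3, 3⟩)) (.node 1 (.one ⟨12250, 5, 5⟩) (.one ⟨2908, 2, 5⟩)))) (.node 4 (.node 2 (.node 1 (.one ⟨10070, 0, 5⟩) (.one ⟨5003, 3, 5⟩)) (.node 1 (.one ⟨9752, 5, 6⟩) (.one ⟨9757, 5, 6⟩))) (.node 2 (.node 1 (.one ⟨10209, 3, 5⟩) (.one ⟨2558, 3, 5⟩)) (.node 1 (.one ⟨5973, 1, 4⟩) (.one ⟨11931, 1, 4⟩)))))))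
def par2_7_12 : Arr Par :=
  (.node 32 (.node 16 (.node 8 (.node 4 (.node 2 (.node 1 (.one ⟨16286, 1, 5⟩) (.one ⟨12423, 3, 5⟩)) (.node 1 (.one ⟨13783, 5, 4⟩) (.one ⟨11267, 0, 6⟩))) (.node 2 (.node 1 (.one ⟨14195, 5, 5⟩) (.one ⟨6883, 1, 5⟩)) (.node 1 (.one ⟨3187, 1, 6⟩) (.one ⟨5976, 1, 6⟩)))) (.node 4 (.node 2 (.node 1 (.one ⟨9149, 3, 5⟩) (.one ⟨9939, 0, 6⟩)) (.node 1 (.one ⟨5319, 1, 5⟩) (.one ⟨17104, 2, 5⟩))) (.node 2 (.node 1 (.one ⟨9787, 4, 6⟩) (.one ⟨9604, 5, 6⟩)) (.node 1 (.one ⟨4910, 5, 6⟩) (.one ⟨15359, 0, 5⟩))))) (.node 8 (.node 4 (.node 2 (.node 1 (.one ⟨2577, 5, 5⟩) (.one ⟨9229, 4, 6⟩)) (.node 1 (.one ⟨7641, 0, 5⟩) (.one ⟨8384, 2, 5⟩))) (.node 2 (.node 1 (.one ⟨5811, 2, 4⟩) (.one ⟨1991, 3, 5⟩)) (.node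 1 (.one ⟨10516, 0, 5⟩) (.one ⟨9048, 1, 5⟩)))) (.node 4 (.node 2 (.node 1 (.one ⟨6136, 5, 5⟩) (.one ⟨5453, 4, 5⟩)) (.node 1 (.one ⟨7763, 3, 6⟩) (.one ⟨13508, 4, 5⟩))) (.node 2 (.node 1 (.one ⟨13239, 1, 5⟩) (.one ⟨7288, 1, 5⟩)) (.node 1 (.one ⟨2203, 5, 5⟩) (.one ⟨5238, 2, 6⟩)))))) (.node 16 (.node 8 (.node 4 (.node 2 (.node 1 (.one ⟨9212, 4, 5⟩) (.one ⟨12466, 1, 5⟩)) (.node 1 (.one ⟨20, 0, 5⟩) (.one ⟨1927, 4, 5⟩))) (.node 2 (.node 1 (.one ⟨9999, 4, 5⟩) (.one ⟨5809, 5, 5⟩)) (.node 1 (.one ⟨7853, 0, 4⟩) (.one ⟨15344, 5, 6⟩)))) (.node 4 (.node 2 (.node 1 (.one ⟨9798, 2, 5⟩) (.one ⟨14328, 0, 5⟩)) (.node 1 (.one ⟨4973, 5, 5⟩) (.one ⟨16405, 5, 6⟩))) (.node 2 (.node 1 (.one ⟨8380, 1, 6⟩) (.one ⟨922, 4, 6⟩)) (.node 1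 (.one ⟨13828, 0, 4⟩) (.one ⟨5377, 4, 4⟩))))) (.node 8 (.node 4 (.node 2 (.node 1 (.one ⟨1789, 1, 6⟩) (.one ⟨8755, 4, 6⟩)) (.node 1 (.one ⟨12479, 3, 6⟩) (.one ⟨6816, 0, 5⟩))) (.node 2 (.node 1 (.one ⟨5648, 5, 4⟩) (.one ⟨1304, 1, 4⟩)) (.node 1 (.one ⟨16129, 5, 6⟩) (.one ⟨13142, 1, 5⟩)))) (.node 4 (.node 2 (.node 1 (.one ⟨13484, 5, 5⟩) (.one ⟨11823, 4, 6⟩)) (.node 1 (.one ⟨3525, 0, 5⟩) (.one ⟨11573, 1, 6⟩))) (.node 2 (.node 1 (.one ⟨14560, 0, 5⟩) (.one ⟨13026, 4, 4⟩)) (.node 1 (.one ⟨16167, 3, 4⟩) (.one ⟨10371, 5, 3⟩)))))))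
def par2_7_13 : Arr Par :=
  (.node 32 (.node 16 (.node 8 (.node 4 (.node 2 (.node 1 (.one ⟨11417, 4, 5⟩) (.one ⟨14378, 5, 7⟩)) (.node 1 (.one ⟨6665, 2, 5⟩) (.one ⟨4297, 5, 6⟩))) (.node 2 (.node 1 (.one ⟨11695, 5, 4⟩) (.one ⟨8277, 5, 5⟩)) (.node 1 (.one ⟨2373, 4, 6⟩) (.one ⟨6367, 5, 2⟩)))) (.node 4 (.node 2 (.node 1 (.one ⟨17084, 5, 5⟩) (.one ⟨5020, 4, 5⟩)) (.node 1 (.one ⟨8518, 1, 2⟩) (.one ⟨12052, 0, 5⟩))) (.node 2 (.node 1 (.one ⟨6080, 1, 5⟩) (.one ⟨2216, 5, 3⟩)) (.node 1 (.one ⟨12747, 5, 5⟩) (.one ⟨15716, 1, 5⟩))))) (.node 8 (.node 4 (.node 2 (.node 1 (.one ⟨15923, 5, 5⟩) (.one ⟨6527, 5, 4⟩)) (.node 1 (.one ⟨13377, 1, 5⟩) (.one ⟨4128, 5, 6⟩))) (.node 2 (.node 1 (.one ⟨15905, 4, 6⟩) (.one ⟨12328, 5, 6⟩))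 (.node 1 (.one ⟨14528, 4, 5⟩) (.one ⟨6217, 5, 4⟩)))) (.node 4 (.node 2 (.node 1 (.one ⟨6663, 5, 4⟩) (.one ⟨1946, 3, 5⟩)) (.node 1 (.one ⟨2142, 3, 5⟩) (.one ⟨13029, 1, 4⟩))) (.node 2 (.node 1 (.one ⟨14119, 4, 5⟩) (.one ⟨6008, 4, 5⟩)) (.node 1 (.one ⟨13887, 0, 6⟩) (.one ⟨12184, 4, 5⟩)))))) (.node 16 (.node 8 (.node 4 (.node 2 (.node 1 (.one ⟨10767, 5, 5⟩) (.one ⟨1142, 1, 5⟩)) (.node 1 (.one ⟨3551, 5, 5⟩) (.one ⟨6129, 0, 5⟩))) (.node 2 (.node 1 (.one ⟨2338, 2, 4⟩) (.one ⟨4133, 5, 6⟩)) (.node 1 (.one ⟨178, 4, 5⟩) (.one ⟨2752, 0, 2⟩)))) (.node 4 (.node 2 (.node 1 (.one ⟨15335, 3, 5⟩) (.one ⟨5506, 5, 5⟩)) (.node 1 (.one ⟨15860, 4, 3⟩) (.one ⟨13470, 2, 6⟩))) (.node 2 (.node 1 (.one ⟨6271, 3, 4⟩) (.one ⟨845, 5, 4⟩))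 (.node 1 (.one ⟨12325, 5, 5⟩) (.one ⟨1394, 3, 4⟩))))) (.node 8 (.node 4 (.node 2 (.node 1 (.one ⟨14193, 5, 5⟩) (.one ⟨11817, 5, 5⟩)) (.node 1 (.one ⟨1103, 0, 4⟩) (.one ⟨8774, 5, 5⟩))) (.node 2 (.node 1 (.one ⟨14452, 5, 4⟩) (.one ⟨12132, 1, 5⟩)) (.node 1 (.one ⟨3346, 5, 5⟩) (.one ⟨17003, 2, 6⟩)))) (.node 4 (.node 2 (.node 1 (.one ⟨2864, 5, 4⟩) (.one ⟨9594, 3, 6⟩)) (.node 1 (.one ⟨10730, 5, 6⟩) (.one ⟨16516, 4, 5⟩))) (.node 2 (.node 1 (.one ⟨11862, 2, 7⟩) (.one ⟨6733, 2, 6⟩)) (.node 1 (.one ⟨16148, 4, 6⟩) (.one ⟨16841, 4, 6⟩)))))))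
def par2_7_14 : Arr Par :=
  (.node 32 (.node 16 (.node 8 (.node 4 (.node 2 (.node 1 (.one ⟨7648, 5, 5⟩) (.one ⟨9203, 4, 5⟩)) (.node 1 (.one ⟨11866, 3, 6⟩) (.one ⟨4858, 4, 5⟩))) (.node 2 (.node 1 (.one ⟨5770, 3, 6⟩) (.one ⟨6669, 5, 5⟩)) (.node 1 (.one ⟨1938, 5, 4⟩) (.one ⟨5488, 0, 5⟩)))) (.node 4 (.node 2 (.node 1 (.one ⟨1052, 0, 6⟩) (.one ⟨6279, 3, 6⟩)) (.node 1 (.one ⟨4459, 5, 4⟩) (.one ⟨12041, 0, 4⟩))) (.node 2 (.node 1 (.one ⟨16500, 1, 4⟩) (.one ⟨6316, 5, 5⟩)) (.node 1 (.one ⟨12931, 4, 6⟩) (.one ⟨7994, 5, 6⟩))))) (.node 8 (.node 4 (.node 2 (.node 1 (.one ⟨14080, 5, 4⟩) (.one ⟨15220, 2, 5⟩)) (.node 1 (.one ⟨15749, 4, 5⟩) (.one ⟨2143, 4, 5⟩))) (.node 2 (.node 1 (.one ⟨15010, 1, 5⟩) (.one ⟨14380, 0, 6⟩)) (.node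 1 (.one ⟨7657, 5, 6⟩) (.one ⟨6775, 3, 5⟩)))) (.node 4 (.node 2 (.node 1 (.one ⟨991, 5, 5⟩) (.one ⟨7591, 1, 5⟩)) (.node 1 (.one ⟨554, 5, 6⟩) (.one ⟨665, 5, 5⟩))) (.node 2 (.node 1 (.one ⟨10238, 0, 6⟩) (.one ⟨14050, 1, 4⟩)) (.node 1 (.one ⟨11471, 4, 5⟩) (.one ⟨3966, 0, 5⟩)))))) (.node 16 (.node 8 (.node 4 (.node 2 (.node 1 (.one ⟨3956, 0, 4⟩) (.one ⟨2201, 5, 5⟩)) (.node 1 (.one ⟨687, 1, 6⟩) (.one ⟨12057, 0, 6⟩))) (.node 2 (.node 1 (.one ⟨11129, 3, 6⟩) (.one ⟨4005, 0, 6⟩)) (.node 1 (.one ⟨16523, 1, 6⟩) (.one ⟨13843, 0, 6⟩)))) (.node 4 (.node 2 (.node 1 (.one ⟨16175, 3, 5⟩) (.one ⟨7717, 5, 4⟩)) (.node 1 (.one ⟨2921, 5, 6⟩) (.one ⟨13770, 0, 5⟩))) (.node 2 (.node 1 (.one ⟨7894, 0, 5⟩) (.one ⟨4766, 0, 5⟩)) (.node 1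 (.one ⟨6120, 3, 6⟩) (.one ⟨2882, 1, 6⟩))))) (.node 8 (.node 4 (.node 2 (.node 1 (.one ⟨10164, 2, 6⟩) (.one ⟨2244, 5, 5⟩)) (.node 1 (.one ⟨6847, 5, 5⟩) (.one ⟨14952, 0, 5⟩))) (.node 2 (.node 1 (.one ⟨15535, 4, 6⟩) (.one ⟨11147, 5, 4⟩)) (.node 1 (.one ⟨4919, 2, 6⟩) (.one ⟨7194, 4, 6⟩)))) (.node 4 (.node 2 (.node 1 (.one ⟨2422, 1, 5⟩) (.one ⟨7660, 2, 6⟩)) (.node 1 (.one ⟨6731, 2, 5⟩) (.one ⟨8670, 5, 5⟩))) (.node 2 (.node 1 (.one ⟨4121, 5, 6⟩) (.one ⟨12610, 1, 6⟩)) (.node 1 (.one ⟨11, 2, 5⟩) (.one ⟨13858, 0, 5⟩)))))))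
def par2_7_15 : Arr Par :=
  (.node 32 (.node 16 (.node 8 (.node 4 (.node 2 (.node 1 (.one ⟨1692, 1, 4⟩) (.one ⟨14382, 4, 4⟩)) (.node 1 (.one ⟨16249, 0, 4⟩) (.one ⟨6973, 3, 6⟩))) (.node 2 (.node 1 (.one ⟨14836, 5, 6⟩) (.one ⟨6501, 1, 6⟩)) (.node 1 (.one ⟨1366, 2, 5⟩) (.one ⟨14195, 4, 5⟩)))) (.node 4 (.node 2 (.node 1 (.one ⟨1777, 2, 4⟩) (.one ⟨8434, 4, 5⟩)) (.node 1 (.one ⟨14046, 0, 5⟩) (.one ⟨11933, 1, 5⟩))) (.node 2 (.node 1 (.one ⟨15895, 1, 5⟩) (.one ⟨457, 3, 5⟩)) (.node 1 (.one ⟨5376, 5, 4⟩) (.one ⟨3394, 3, 5⟩))))) (.node 8 (.node 4 (.node 2 (.node 1 (.one ⟨13367, 1, 6⟩) (.one ⟨11974, 0, 6⟩)) (.node 1 (.one ⟨13222, 1, 3⟩) (.one ⟨8476, 5, 5⟩))) (.node 2 (.node 1 (.one ⟨5966, 5, 5⟩) (.one ⟨845, 4, 4⟩)) (.node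 1 (.one ⟨1070, 1, 6⟩) (.one ⟨9457, 5, 5⟩)))) (.node 4 (.node 2 (.node 1 (.one ⟨11289, 0, 4⟩) (.one ⟨6349, 3, 5⟩)) (.node 1 (.one ⟨16477, 5, 6⟩) (.one ⟨952, 3, 5⟩))) (.node 2 (.node 1 (.one ⟨15208, 2, 5⟩) (.one ⟨8463, 5, 4⟩)) (.node 1 (.one ⟨15383, 3, 5⟩) (.one ⟨8226, 1, 5⟩)))))) (.node 16 (.node 8 (.node 4 (.node 2 (.node 1 (.one ⟨15871, 3, 6⟩) (.one ⟨14552, 5, 6⟩)) (.node 1 (.one ⟨6264, 4, 3⟩) (.one ⟨12260, 1, 7⟩))) (.node 2 (.node 1 (.one ⟨12108, 5, 4⟩) (.one ⟨2815, 1, 4⟩)) (.node 1 (.one ⟨14233, 1, 6⟩) (.one ⟨13289, 1, 4⟩)))) (.node 4 (.node 2 (.node 1 (.one ⟨8767, 4, 3⟩) (.one ⟨5480, 5, 3⟩)) (.node 1 (.one ⟨13208, 1, 4⟩) (.one ⟨8825, 5, 5⟩))) (.node 2 (.node 1 (.one ⟨16194, 3, 5⟩) (.one ⟨6279, 5, 6⟩)) (.node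 1 (.one ⟨7562, 2, 5⟩) (.one ⟨221, 0, 5⟩))))) (.node 8 (.node 4 (.node 2 (.node 1 (.one ⟨14521, 5, 5⟩) (.one ⟨1172, 3, 4⟩)) (.node 1 (.one ⟨14947, 2, 4⟩) (.one ⟨9224, 2, 6⟩))) (.node 2 (.node 1 (.one ⟨16773, 4, 6⟩) (.one ⟨4760, 4, 6⟩)) (.node 1 (.one ⟨2820, 1, 5⟩) (.one ⟨309, 0, 5⟩)))) (.node 4 (.node 2 (.node 1 (.one ⟨15491, 2, 5⟩) (.one ⟨9270, 3, 4⟩)) (.node 1 (.one ⟨556, 0, 5⟩) (.one ⟨7466, 5, 5⟩))) (.node 2 (.node 1 (.one ⟨11060, 1, 5⟩) (.one ⟨2996, 4, 5⟩)) (.node 1 (.one ⟨110, 0, 5⟩) (.one ⟨9688, 3, 4⟩)))))))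
def par2_7 : Arr Par :=
  (.node 512 (.node 256 (.node 128 (.node 64 par2_7_0 par2_7_1) (.node 64 par2_7_2 par2_7_3)) (.node 128 (.node 64 par2_7_4 par2_7_5) (.node 64 par2_7_6 par2_7_7))) (.node 256 (.node 128 (.node 64 par2_7_8 par2_7_9) (.node 64 par2_7_10 par2_7_11)) (.node 128 (.node 64 par2_7_12 par2_7_13) (.node 64 par2_7_14 par2_7_15))))
def par2_8_0 : Arr Par :=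
  (.node 32 (.node 16 (.node 8 (.node 4 (.node 2 (.node 1 (.one ⟨3994, 5, 5⟩) (.one ⟨9426, 2, 5⟩)) (.node 1 (.one ⟨8744, 0, 4⟩) (.one ⟨925, 1, 6⟩))) (.node 2 (.node 1 (.one ⟨2950, 5, 2⟩) (.one ⟨13982, 2, 6⟩)) (.node 1 (.one ⟨13818, 2, 4⟩) (.one ⟨9057, 1, 5⟩)))) (.node 4 (.node 2 (.node 1 (.one ⟨14987, 5, 5⟩) (.one ⟨2302, 2, 3⟩)) (.node 1 (.one ⟨6625, 2, 4⟩) (.one ⟨16961, 0, 5⟩))) (.node 2 (.node 1 (.one ⟨449, 2, 5⟩) (.one ⟨5433, 5, 4⟩)) (.node 1 (.one ⟨11907, 0, 5⟩) (.one ⟨3185, 5, 6⟩))))) (.node 8 (.node 4 (.node 2 (.node 1 (.one ⟨1392, 1, 6⟩) (.one ⟨4797, 5, 4⟩)) (.node 1 (.one ⟨7522, 1, 4⟩) (.one ⟨8189, 0, 6⟩))) (.node 2 (.node 1 (.one ⟨8109, 3, 6⟩) (.one ⟨4204, 1, 4⟩)) (.node 1 (.one ⟨10984, 5, 4⟩) (.one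 ⟨2748, 1, 5⟩)))) (.node 4 (.node 2 (.node 1 (.one ⟨81, 4, 3⟩) (.one ⟨8457, 1, 6⟩)) (.node 1 (.one ⟨14044, 0, 6⟩) (.one ⟨13716, 3, 6⟩))) (.node 2 (.node 1 (.one ⟨302, 5, 6⟩) (.one ⟨1600, 1, 5⟩)) (.node 1 (.one ⟨6714, 1, 5⟩) (.one ⟨6981, 5, 3⟩)))))) (.node 16 (.node 8 (.node 4 (.node 2 (.node 1 (.one ⟨11522, 4, 6⟩) (.one ⟨13321, 4, 3⟩)) (.node 1 (.one ⟨6625, 0, 4⟩) (.one ⟨6069, 4, 4⟩))) (.node 2 (.node 1 (.one ⟨6979, 5, 4⟩) (.one ⟨630, 5, 5⟩)) (.node 1 (.one ⟨7844, 1, 2⟩) (.one ⟨1308, 1, 5⟩)))) (.node 4 (.node 2 (.node 1 (.one ⟨9189, 4, 4⟩) (.one ⟨15429, 4, 5⟩)) (.node 1 (.one ⟨462, 4, 4⟩) (.one ⟨7575, 4, 5⟩))) (.node 2 (.node 1 (.one ⟨8356, 3, 5⟩) (.one ⟨1754, 5, 5⟩)) (.node 1 (.one ⟨2196, 4, 4⟩) (.one ⟨3198,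 2, 5⟩))))) (.node 8 (.node 4 (.node 2 (.node 1 (.one ⟨7185, 5, 5⟩) (.one ⟨8201, 5, 4⟩)) (.node 1 (.one ⟨5793, 5, 5⟩) (.one ⟨12919, 5, 4⟩))) (.node 2 (.node 1 (.one ⟨16116, 3, 4⟩) (.one ⟨10379, 1, 6⟩)) (.node 1 (.one ⟨16160, 3, 5⟩) (.one ⟨15399, 0, 5⟩)))) (.node 4 (.node 2 (.node 1 (.one ⟨6051, 0, 6⟩) (.one ⟨10509, 1, 5⟩)) (.node 1 (.one ⟨5315, 5, 4⟩) (.one ⟨408, 1, 5⟩))) (.node 2 (.node 1 (.one ⟨1074, 4, 4⟩) (.one ⟨2083, 0, 5⟩)) (.node 1 (.one ⟨9405, 5, 6⟩) (.one ⟨7899, 3, 6⟩)))))))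
def par2_8_1 : Arr Par :=
  (.node 32 (.node 16 (.node 8 (.node 4 (.node 2 (.node 1 (.one ⟨13624, 2, 5⟩) (.one ⟨15066, 5, 3⟩)) (.node 1 (.one ⟨2766, 1, 6⟩) (.one ⟨14455, 4, 5⟩))) (.node 2 (.node 1 (.one ⟨10903, 4, 6⟩) (.one ⟨16039, 4, 6⟩)) (.node 1 (.one ⟨12881, 5, 6⟩) (.one ⟨15090, 5, 5⟩)))) (.node 4 (.node 2 (.node 1 (.one ⟨1854, 5, 5⟩) (.one ⟨6887, 2, 5⟩)) (.node 1 (.one ⟨16164, 5, 4⟩) (.one ⟨11776, 1, 3⟩))) (.node 2 (.node 1 (.one ⟨6758, 5, 4⟩) (.one ⟨6641, 3, 6⟩)) (.node 1 (.one ⟨12820, 5, 5⟩) (.one ⟨14750, 5, 6⟩))))) (.node 8 (.node 4 (.node 2 (.node 1 (.one ⟨8447, 3, 4⟩) (.one ⟨5984, 0, 5⟩)) (.node 1 (.one ⟨6205, 1, 5⟩) (.one ⟨4762, 2, 6⟩))) (.node 2 (.node 1 (.one ⟨11625, 4, 5⟩) (.one ⟨5647, 3, 4⟩))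 (.node 1 (.one ⟨12679, 4, 6⟩) (.one ⟨5071, 5, 5⟩)))) (.node 4 (.node 2 (.node 1 (.one ⟨7336, 2, 5⟩) (.one ⟨12423, 1, 5⟩)) (.node 1 (.one ⟨5538, 5, 4⟩) (.one ⟨3583, 4, 5⟩))) (.node 2 (.node 1 (.one ⟨10063, 5, 6⟩) (.one ⟨1508, 3, 3⟩)) (.node 1 (.one ⟨11964, 2, 3⟩) (.one ⟨16648, 1, 6⟩)))))) (.node 16 (.node 8 (.node 4 (.node 2 (.node 1 (.one ⟨9165, 1, 4⟩) (.one ⟨2996, 2, 5⟩)) (.node 1 (.one ⟨11424, 0, 6⟩) (.one ⟨4175, 1, 3⟩))) (.node 2 (.node 1 (.one ⟨5775, 5, 7⟩) (.one ⟨14563, 5, 6⟩)) (.node 1 (.one ⟨16071, 2, 5⟩) (.one ⟨9956, 0, 5⟩)))) (.node 4 (.node 2 (.node 1 (.one ⟨9403, 5, 5⟩) (.one ⟨252, 2, 5⟩)) (.node 1 (.one ⟨15071, 5, 5⟩) (.one ⟨7219, 1, 5⟩))) (.node 2 (.node 1 (.one ⟨12345, 5, 5⟩) (.one ⟨16648, 3, 6⟩))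 (.node 1 (.one ⟨5789, 0, 4⟩) (.one ⟨6502, 5, 6⟩))))) (.node 8 (.node 4 (.node 2 (.node 1 (.one ⟨7621, 5, 6⟩) (.one ⟨8169, 5, 4⟩)) (.node 1 (.one ⟨6089, 5, 5⟩) (.one ⟨17188, 3, 6⟩))) (.node 2 (.node 1 (.one ⟨15721, 0, 5⟩) (.one ⟨15945, 4, 4⟩)) (.node 1 (.one ⟨3197, 1, 5⟩) (.one ⟨13578, 4, 5⟩)))) (.node 4 (.node 2 (.node 1 (.one ⟨5774, 4, 5⟩) (.one ⟨5296, 3, 6⟩)) (.node 1 (.one ⟨3476, 5, 4⟩) (.one ⟨7512, 5, 5⟩))) (.node 2 (.node 1 (.one ⟨12494, 3, 5⟩) (.one ⟨3836, 3, 5⟩)) (.node 1 (.one ⟨9077, 4, 5⟩) (.one ⟨15618, 5, 2⟩)))))))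
def par2_8_2 : Arr Par :=
  (.node 32 (.node 16 (.node 8 (.node 4 (.node 2 (.node 1 (.one ⟨7132, 3, 5⟩) (.one ⟨12302, 0, 4⟩)) (.node 1 (.one ⟨3034, 2, 6⟩) (.one ⟨9798, 0, 5⟩))) (.node 2 (.node 1 (.one ⟨2151, 0, 6⟩) (.one ⟨8758, 5, 3⟩)) (.node 1 (.one ⟨12880, 4, 6⟩) (.one ⟨1029, 0, 5⟩)))) (.node 4 (.node 2 (.node 1 (.one ⟨14292, 2, 6⟩) (.one ⟨10069, 1, 2⟩)) (.node 1 (.one ⟨3059, 3, 5⟩) (.one ⟨13238, 3, 5⟩))) (.node 2 (.node 1 (.one ⟨6714, 5, 5⟩) (.one ⟨3308, 2, 5⟩)) (.node 1 (.one ⟨4372, 4, 5⟩) (.one ⟨12642, 2, 4⟩))))) (.node 8 (.node 4 (.node 2 (.node 1 (.one ⟨9086, 4, 5⟩) (.one ⟨3552, 1, 5⟩)) (.node 1 (.one ⟨6775, 5, 5⟩) (.one ⟨14887, 5, 6⟩))) (.node 2 (.node 1 (.one ⟨13296, 4, 6⟩) (.one ⟨192, 1, 4⟩)) (.node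 1 (.one ⟨9295, 5, 5⟩) (.one ⟨15690, 4, 5⟩)))) (.node 4 (.node 2 (.node 1 (.one ⟨6844, 5, 5⟩) (.one ⟨15621, 5, 6⟩)) (.node 1 (.one ⟨12634, 1, 5⟩) (.one ⟨10431, 5, 5⟩))) (.node 2 (.node 1 (.one ⟨8272, 2, 5⟩) (.one ⟨11902, 5, 5⟩)) (.node 1 (.one ⟨12809, 4, 5⟩) (.one ⟨13087, 5, 6⟩)))))) (.node 16 (.node 8 (.node 4 (.node 2 (.node 1 (.one ⟨3815, 5, 4⟩) (.one ⟨15991, 5, 5⟩)) (.node 1 (.one ⟨15604, 2, 5⟩) (.one ⟨5315, 3, 4⟩))) (.node 2 (.node 1 (.one ⟨276, 1, 4⟩) (.one ⟨13233, 5, 6⟩)) (.node 1 (.one ⟨4080, 4, 6⟩) (.one ⟨3147, 4, 4⟩)))) (.node 4 (.node 2 (.node 1 (.one ⟨7753, 2, 6⟩) (.one ⟨5284, 5, 5⟩)) (.node 1 (.one ⟨1335, 0, 5⟩) (.one ⟨13245, 5, 6⟩))) (.node 2 (.node 1 (.one ⟨13522, 2, 6⟩) (.one ⟨10492, 5, 4⟩)) (.node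 1 (.one ⟨1013, 4, 4⟩) (.one ⟨6795, 5, 5⟩))))) (.node 8 (.node 4 (.node 2 (.node 1 (.one ⟨16392, 3, 5⟩) (.one ⟨16312, 4, 4⟩)) (.node 1 (.one ⟨8209, 4, 5⟩) (.one ⟨3431, 2, 5⟩))) (.node 2 (.node 1 (.one ⟨12229, 2, 5⟩) (.one ⟨3129, 0, 5⟩)) (.node 1 (.one ⟨11248, 2, 5⟩) (.one ⟨15109, 0, 5⟩)))) (.node 4 (.node 2 (.node 1 (.one ⟨2275, 2, 6⟩) (.one ⟨2595, 5, 5⟩)) (.node 1 (.one ⟨71, 1, 6⟩) (.one ⟨14479, 4, 6⟩))) (.node 2 (.node 1 (.one ⟨15604, 4, 5⟩) (.one ⟨6370, 1, 4⟩)) (.node 1 (.one ⟨15845, 4, 5⟩) (.one ⟨5746, 4, 4⟩)))))))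
def par2_8_3 : Arr Par :=
  (.node 32 (.node 16 (.node 8 (.node 4 (.node 2 (.node 1 (.one ⟨2338, 5, 4⟩) (.one ⟨700, 4, 6⟩)) (.node 1 (.one ⟨11445, 2, 6⟩) (.one ⟨12163, 2, 5⟩))) (.node 2 (.node 1 (.one ⟨2620, 4, 5⟩) (.one ⟨12169, 1, 6⟩)) (.node 1 (.one ⟨11460, 2, 4⟩) (.one ⟨8720, 3, 4⟩)))) (.node 4 (.node 2 (.node 1 (.one ⟨1551, 5, 4⟩) (.one ⟨10581, 4, 5⟩)) (.node 1 (.one ⟨8174, 4, 6⟩) (.one ⟨3094, 2, 6⟩))) (.node 2 (.node 1 (.one ⟨1326, 2, 4⟩) (.one ⟨1148, 1, 4⟩)) (.node 1 (.one ⟨12105, 4, 5⟩) (.one ⟨2572, 5, 3⟩))))) (.node 8 (.node 4 (.node 2 (.node 1 (.one ⟨14259, 0, 5⟩) (.one ⟨2373, 1, 6⟩)) (.node 1 (.one ⟨3424, 1, 3⟩) (.one ⟨6079, 1, 4⟩))) (.node 2 (.node 1 (.one ⟨5942, 5, 6⟩) (.one ⟨8128, 0, 5⟩)) (.node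 1 (.one ⟨111, 5, 4⟩) (.one ⟨9781, 4, 6⟩)))) (.node 4 (.node 2 (.node 1 (.one ⟨10715, 5, 2⟩) (.one ⟨688, 4, 5⟩)) (.node 1 (.one ⟨11712, 4, 4⟩) (.one ⟨1348, 1, 5⟩))) (.node 2 (.node 1 (.one ⟨5497, 5, 5⟩) (.one ⟨3322, 3, 6⟩)) (.node 1 (.one ⟨3446, 2, 5⟩) (.one ⟨14976, 1, 5⟩)))))) (.node 16 (.node 8 (.node 4 (.node 2 (.node 1 (.one ⟨2123, 4, 4⟩) (.one ⟨16444, 0, 5⟩)) (.node 1 (.one ⟨4281, 5, 5⟩) (.one ⟨8964, 5, 5⟩))) (.node 2 (.node 1 (.one ⟨13273, 0, 5⟩) (.one ⟨1140, 0, 6⟩)) (.node 1 (.one ⟨3400, 5, 6⟩) (.one ⟨9672, 3, 5⟩)))) (.node 4 (.node 2 (.node 1 (.one ⟨9198, 0, 6⟩) (.one ⟨15519, 1, 5⟩)) (.node 1 (.one ⟨4677, 5, 5⟩) (.one ⟨14362, 1, 4⟩))) (.node 2 (.node 1 (.one ⟨3620, 1, 5⟩) (.one ⟨13921, 0, 5⟩)) (.node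 1 (.one ⟨16895, 1, 4⟩) (.one ⟨16613, 2, 5⟩))))) (.node 8 (.node 4 (.node 2 (.node 1 (.one ⟨7419, 2, 6⟩) (.one ⟨16426, 1, 6⟩)) (.node 1 (.one ⟨15362, 5, 4⟩) (.one ⟨5165, 2, 6⟩))) (.node 2 (.node 1 (.one ⟨5734, 1, 5⟩) (.one ⟨4503, 2, 5⟩)) (.node 1 (.one ⟨3634, 5, 5⟩) (.one ⟨3885, 3, 6⟩)))) (.node 4 (.node 2 (.node 1 (.one ⟨14023, 4, 4⟩) (.one ⟨11636, 5, 5⟩)) (.node 1 (.one ⟨14053, 5, 5⟩) (.one ⟨9766, 5, 4⟩))) (.node 2 (.node 1 (.one ⟨8869, 4, 4⟩) (.one ⟨1212, 2, 5⟩)) (.node 1 (.one ⟨15063, 1, 6⟩) (.one ⟨590, 2, 3⟩)))))))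
def par2_8_4 : Arr Par :=
  (.node 32 (.node 16 (.node 8 (.node 4 (.node 2 (.node 1 (.one ⟨4170, 4, 4⟩) (.one ⟨9659, 3, 6⟩)) (.node 1 (.one ⟨1522, 2, 5⟩) (.one ⟨13542, 1, 5⟩))) (.node 2 (.node 1 (.one ⟨11846, 0, 4⟩) (.one ⟨15434, 4, 5⟩)) (.node 1 (.one ⟨15495, 0, 5⟩) (.one ⟨13266, 5, 5⟩)))) (.node 4 (.node 2 (.node 1 (.one ⟨4407, 2, 5⟩) (.one ⟨5147, 5, 5⟩)) (.node 1 (.one ⟨5069, 2, 5⟩) (.one ⟨1726, 5, 5⟩))) (.node 2 (.node 1 (.one ⟨17126, 0, 6⟩) (.one ⟨13901, 1, 5⟩)) (.node 1 (.one ⟨1745, 1, 5⟩) (.one ⟨16228, 1, 3⟩))))) (.node 8 (.node 4 (.node 2 (.node 1 (.one ⟨5817, 3, 3⟩) (.one ⟨14447, 4, 2⟩)) (.node 1 (.one ⟨6660, 1, 3⟩) (.one ⟨13690, 3, 4⟩))) (.node 2 (.node 1 (.one ⟨11289, 4, 4⟩) (.one ⟨104, 5, 5⟩)) (.node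 1 (.one ⟨11926, 2, 4⟩) (.one ⟨2194, 0, 4⟩)))) (.node 4 (.node 2 (.node 1 (.one ⟨6006, 1, 6⟩) (.one ⟨6679, 0, 4⟩)) (.node 1 (.one ⟨15424, 3, 4⟩) (.one ⟨11323, 4, 2⟩))) (.node 2 (.node 1 (.one ⟨2526, 1, 4⟩) (.one ⟨11510, 2, 5⟩)) (.node 1 (.one ⟨2875, 1, 6⟩) (.one ⟨3022, 0, 6⟩)))))) (.node 16 (.node 8 (.node 4 (.node 2 (.node 1 (.one ⟨16419, 2, 6⟩) (.one ⟨8285, 2, 4⟩)) (.node 1 (.one ⟨8382, 1, 6⟩) (.one ⟨12174, 1, 6⟩))) (.node 2 (.node 1 (.one ⟨10111, 2, 5⟩) (.one ⟨2202, 2, 4⟩)) (.node 1 (.one ⟨7519, 5, 5⟩) (.one ⟨4114, 3, 5⟩)))) (.node 4 (.node 2 (.node 1 (.one ⟨15036, 0, 4⟩) (.one ⟨1630, 5, 5⟩)) (.node 1 (.one ⟨12550, 1, 5⟩) (.one ⟨7276, 5, 4⟩))) (.node 2 (.node 1 (.one ⟨11558, 4, 6⟩) (.one ⟨7716, 4, 5⟩)) (.node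 1 (.one ⟨436, 0, 5⟩) (.one ⟨2594, 2, 6⟩))))) (.node 8 (.node 4 (.node 2 (.node 1 (.one ⟨515, 5, 6⟩) (.one ⟨315, 2, 4⟩)) (.node 1 (.one ⟨1394, 4, 4⟩) (.one ⟨12909, 3, 5⟩))) (.node 2 (.node 1 (.one ⟨13418, 2, 6⟩) (.one ⟨12677, 3, 6⟩)) (.node 1 (.one ⟨756, 5, 6⟩) (.one ⟨1418, 3, 6⟩)))) (.node 4 (.node 2 (.node 1 (.one ⟨5856, 2, 5⟩) (.one ⟨5021, 3, 5⟩)) (.node 1 (.one ⟨3584, 5, 4⟩) (.one ⟨8747, 2, 5⟩))) (.node 2 (.node 1 (.one ⟨8670, 3, 5⟩) (.one ⟨16319, 3, 4⟩)) (.node 1 (.one ⟨11397, 4, 6⟩) (.one ⟨5664, 2, 4⟩)))))))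
def par2_8_5 : Arr Par :=
  (.node 32 (.node 16 (.node 8 (.node 4 (.node 2 (.node 1 (.one ⟨14324, 1, 6⟩) (.one ⟨3153, 1, 3⟩)) (.node 1 (.one ⟨9141, 3, 6⟩) (.one ⟨14404, 1, 5⟩))) (.node 2 (.node 1 (.one ⟨3448, 0, 4⟩) (.one ⟨12272, 5, 6⟩)) (.node 1 (.one ⟨4049, 5, 1⟩) (.one ⟨3613, 5, 6⟩)))) (.node 4 (.node 2 (.node 1 (.one ⟨1661, 4, 5⟩) (.one ⟨119, 2, 4⟩)) (.node 1 (.one ⟨6081, 4, 2⟩) (.one ⟨6178, 4, 4⟩))) (.node 2 (.node 1 (.one ⟨15358, 4, 4⟩) (.one ⟨16170, 0, 6⟩)) (.node 1 (.one ⟨7708, 1, 5⟩) (.one ⟨1301, 3, 5⟩))))) (.node 8 (.node 4 (.node 2 (.node 1 (.one ⟨4114, 1, 5⟩) (.one ⟨8988, 2, 5⟩)) (.node 1 (.one ⟨4313, 2, 5⟩) (.one ⟨15388, 3, 6⟩))) (.node 2 (.node 1 (.one ⟨16574, 4, 5⟩) (.one ⟨13127, 1, 6⟩)) (.node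 1 (.one ⟨4864, 2, 6⟩) (.one ⟨15190, 2, 4⟩)))) (.node 4 (.node 2 (.node 1 (.one ⟨11020, 5, 5⟩) (.one ⟨10868, 4, 6⟩)) (.node 1 (.one ⟨11416, 4, 5⟩) (.one ⟨12181, 5, 5⟩))) (.node 2 (.node 1 (.one ⟨16992, 2, 5⟩) (.one ⟨3332, 5, 5⟩)) (.node 1 (.one ⟨9290, 5, 5⟩) (.one ⟨6965, 4, 6⟩)))))) (.node 16 (.node 8 (.node 4 (.node 2 (.node 1 (.one ⟨8250, 1, 5⟩) (.one ⟨2483, 4, 4⟩)) (.node 1 (.one ⟨4096, 5, 6⟩) (.one ⟨15187, 3, 5⟩))) (.node 2 (.node 1 (.one ⟨3020, 2, 6⟩) (.one ⟨14402, 1, 6⟩)) (.node 1 (.one ⟨3448, 3, 4⟩) (.one ⟨7802, 3, 4⟩)))) (.node 4 (.node 2 (.node 1 (.one ⟨14246, 5, 4⟩) (.one ⟨16148, 3, 6⟩)) (.node 1 (.one ⟨13796, 0, 5⟩) (.one ⟨12795, 2, 6⟩))) (.node 2 (.node 1 (.one ⟨8875, 4, 6⟩) (.one ⟨11437, 1, 6⟩))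 (.node 1 (.one ⟨15758, 5, 5⟩) (.one ⟨14546, 1, 4⟩))))) (.node 8 (.node 4 (.node 2 (.node 1 (.one ⟨1584, 4, 5⟩) (.one ⟨11951, 0, 6⟩)) (.node 1 (.one ⟨3552, 2, 5⟩) (.one ⟨12041, 1, 4⟩))) (.node 2 (.node 1 (.one ⟨2467, 0, 5⟩) (.one ⟨13954, 0, 5⟩)) (.node 1 (.one ⟨14254, 5, 6⟩) (.one ⟨9656, 5, 4⟩)))) (.node 4 (.node 2 (.node 1 (.one ⟨2868, 4, 5⟩) (.one ⟨13353, 4, 6⟩)) (.node 1 (.one ⟨13796, 1, 5⟩) (.one ⟨15572, 2, 5⟩))) (.node 2 (.node 1 (.one ⟨1415, 4, 4⟩) (.one ⟨10496, 5, 5⟩)) (.node 1 (.one ⟨7318, 4, 4⟩) (.one ⟨797, 0, 5⟩)))))))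
def par2_8_6 : Arr Par :=
  (.node 32 (.node 16 (.node 8 (.node 4 (.node 2 (.node 1 (.one ⟨8080, 5, 5⟩) (.one ⟨5051, 1, 5⟩)) (.node 1 (.one ⟨6326, 5, 6⟩) (.one ⟨15921, 2, 5⟩))) (.node 2 (.node 1 (.one ⟨4146, 5, 6⟩) (.one ⟨6912, 2, 6⟩)) (.node 1 (.one ⟨1652, 5, 6⟩) (.one ⟨11164, 0, 6⟩)))) (.node 4 (.node 2 (.node 1 (.one ⟨8321, 5, 5⟩) (.one ⟨4455, 4, 6⟩)) (.node 1 (.one ⟨15846, 4, 6⟩) (.one ⟨1370, 1, 5⟩))) (.node 2 (.node 1 (.one ⟨13926, 1, 5⟩) (.one ⟨10284, 5, 6⟩)) (.node 1 (.one ⟨15346, 4, 5⟩) (.one ⟨12430, 4, 4⟩))))) (.node 8 (.node 4 (.node 2 (.node 1 (.one ⟨16180, 4, 4⟩) (.one ⟨10111, 4, 5⟩)) (.node 1 (.one ⟨5598, 2, 6⟩) (.one ⟨15761, 4, 6⟩))) (.node 2 (.node 1 (.one ⟨370, 1, 5⟩) (.one ⟨2402, 0, 5⟩)) (.node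 1 (.one ⟨15, 1, 6⟩) (.one ⟨13403, 1, 4⟩)))) (.node 4 (.node 2 (.node 1 (.one ⟨9080, 3, 6⟩) (.one ⟨11176, 2, 5⟩)) (.node 1 (.one ⟨14702, 2, 5⟩) (.one ⟨8189, 2, 6⟩))) (.node 2 (.node 1 (.one ⟨4717, 0, 5⟩) (.one ⟨3984, 5, 6⟩)) (.node 1 (.one ⟨3990, 5, 5⟩) (.one ⟨3594, 5, 5⟩)))))) (.node 16 (.node 8 (.node 4 (.node 2 (.node 1 (.one ⟨8070, 2, 5⟩) (.one ⟨10683, 0, 5⟩)) (.node 1 (.one ⟨15722, 2, 5⟩) (.one ⟨1819, 0, 6⟩))) (.node 2 (.node 1 (.one ⟨3655, 1, 6⟩) (.one ⟨14109, 5, 6⟩)) (.node 1 (.one ⟨10612, 3, 5⟩) (.one ⟨11597, 4, 5⟩)))) (.node 4 (.node 2 (.node 1 (.one ⟨10524, 1, 5⟩) (.one ⟨16456, 2, 6⟩)) (.node 1 (.one ⟨4991, 3, 6⟩) (.one ⟨8123, 0, 6⟩))) (.node 2 (.node 1 (.one ⟨3620, 5, 5⟩) (.one ⟨5225, 1, 4⟩)) (.node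 1 (.one ⟨7603, 4, 5⟩) (.one ⟨15220, 5, 5⟩))))) (.node 8 (.node 4 (.node 2 (.node 1 (.one ⟨6307, 0, 5⟩) (.one ⟨11374, 2, 5⟩)) (.node 1 (.one ⟨8396, 4, 5⟩) (.one ⟨6778, 4, 6⟩))) (.node 2 (.node 1 (.one ⟨9454, 5, 4⟩) (.one ⟨15155, 5, 6⟩)) (.node 1 (.one ⟨1335, 5, 5⟩) (.one ⟨5746, 3, 4⟩)))) (.node 4 (.node 2 (.node 1 (.one ⟨5088, 2, 5⟩) (.one ⟨7437, 3, 5⟩)) (.node 1 (.one ⟨2589, 4, 6⟩) (.one ⟨14196, 5, 6⟩))) (.node 2 (.node 1 (.one ⟨9929, 1, 5⟩) (.one ⟨14839, 5, 4⟩)) (.node 1 (.one ⟨3011, 3, 5⟩) (.one ⟨2572, 4, 3⟩)))))))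
def par2_8_7 : Arr Par :=
  (.node 32 (.node 16 (.node 8 (.node 4 (.node 2 (.node 1 (.one ⟨15487, 5, 5⟩) (.one ⟨6217, 1, 4⟩)) (.node 1 (.one ⟨11060, 2, 5⟩) (.one ⟨13511, 0, 6⟩))) (.node 2 (.node 1 (.one ⟨15302, 4, 5⟩) (.one ⟨5404, 2, 5⟩)) (.node 1 (.one ⟨12037, 3, 6⟩) (.one ⟨5367, 2, 5⟩)))) (.node 4 (.node 2 (.node 1 (.one ⟨4240, 5, 4⟩) (.one ⟨8338, 3, 6⟩)) (.node 1 (.one ⟨1172, 5, 4⟩) (.one ⟨456, 4, 4⟩))) (.node 2 (.node 1 (.one ⟨14909, 1, 6⟩) (.one ⟨16630, 5, 5⟩)) (.node 1 (.one ⟨4217, 5, 6⟩) (.one ⟨8950, 4, 6⟩))))) (.node 8 (.node 4 (.node 2 (.node 1 (.one ⟨2903, 2, 4⟩) (.one ⟨13952, 2, 5⟩)) (.node 1 (.one ⟨14978, 4, 6⟩) (.one ⟨792, 4, 5⟩))) (.node 2 (.node 1 (.one ⟨7733, 3, 6⟩) (.one ⟨6403, 1, 5⟩)) (.node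 1 (.one ⟨16164, 2, 4⟩) (.one ⟨8997, 1, 3⟩)))) (.node 4 (.node 2 (.node 1 (.one ⟨15965, 3, 4⟩) (.one ⟨7774, 0, 6⟩)) (.node 1 (.one ⟨15701, 5, 6⟩) (.one ⟨3975, 4, 6⟩))) (.node 2 (.node 1 (.one ⟨16451, 4, 2⟩) (.one ⟨14478, 3, 5⟩)) (.node 1 (.one ⟨13471, 5, 4⟩) (.one ⟨6473, 5, 3⟩)))))) (.node 16 (.node 8 (.node 4 (.node 2 (.node 1 (.one ⟨10492, 0, 4⟩) (.one ⟨2219, 5, 5⟩)) (.node 1 (.one ⟨9794, 2, 5⟩) (.one ⟨4175, 0, 3⟩))) (.node 2 (.node 1 (.one ⟨4423, 5, 6⟩) (.one ⟨11175, 1, 5⟩)) (.node 1 (.one ⟨11882, 0, 5⟩) (.one ⟨6208, 0, 6⟩)))) (.node 4 (.node 2 (.node 1 (.one ⟨14418, 3, 4⟩) (.one ⟨16280, 2, 6⟩)) (.node 1 (.one ⟨5738, 2, 6⟩) (.one ⟨5887, 3, 5⟩))) (.node 2 (.node 1 (.one ⟨1449, 0, 5⟩) (.one ⟨10759, 3, 1⟩)) (.node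 1 (.one ⟨6560, 1, 6⟩) (.one ⟨8157, 4, 5⟩))))) (.node 8 (.node 4 (.node 2 (.node 1 (.one ⟨11400, 5, 6⟩) (.one ⟨11436, 5, 6⟩)) (.node 1 (.one ⟨7648, 0, 5⟩) (.one ⟨11977, 0, 4⟩))) (.node 2 (.node 1 (.one ⟨14326, 0, 4⟩) (.one ⟨11235, 2, 5⟩)) (.node 1 (.one ⟨12662, 4, 6⟩) (.one ⟨11912, 2, 5⟩)))) (.node 4 (.node 2 (.node 1 (.one ⟨6844, 0, 5⟩) (.one ⟨6423, 2, 5⟩)) (.node 1 (.one ⟨2099, 3, 5⟩) (.one ⟨12209, 2, 5⟩))) (.node 2 (.node 1 (.one ⟨511, 2, 5⟩) (.one ⟨15465, 4, 5⟩)) (.node 1 (.one ⟨15494, 5, 6⟩) (.one ⟨2686, 0, 6⟩)))))))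
def par2_8_8 : Arr Par :=
  (.node 32 (.node 16 (.node 8 (.node 4 (.node 2 (.node 1 (.one ⟨10501, 1, 5⟩) (.one ⟨1688, 5, 4⟩)) (.node 1 (.one ⟨3192, 1, 3⟩) (.one ⟨2612, 5, 5⟩))) (.node 2 (.node 1 (.one ⟨14221, 0, 5⟩) (.one ⟨3197, 2, 5⟩)) (.node 1 (.one ⟨15358, 5, 4⟩) (.one ⟨15413, 5, 6⟩)))) (.node 4 (.node 2 (.node 1 (.one ⟨16515, 5, 6⟩) (.one ⟨1188, 1, 5⟩)) (.node 1 (.one ⟨1428, 1, 5⟩) (.one ⟨12951, 0, 4⟩))) (.node 2 (.node 1 (.one ⟨4475, 1, 5⟩) (.one ⟨10110, 3, 6⟩)) (.node 1 (.one ⟨15119, 5, 5⟩) (.one ⟨14084, 0, 4⟩))))) (.node 8 (.node 4 (.node 2 (.node 1 (.one ⟨86, 1, 3⟩) (.one ⟨12987, 2, 5⟩)) (.node 1 (.one ⟨8815, 2, 5⟩) (.one ⟨9104, 2, 4⟩))) (.node 2 (.node 1 (.one ⟨12771, 2, 5⟩) (.one ⟨10954, 5, 5⟩)) (.node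 1 (.one ⟨15010, 5, 5⟩) (.one ⟨3391, 3, 6⟩)))) (.node 4 (.node 2 (.node 1 (.one ⟨5474, 5, 5⟩) (.one ⟨5257, 1, 4⟩)) (.node 1 (.one ⟨3623, 1, 5⟩) (.one ⟨12729, 2, 5⟩))) (.node 2 (.node 1 (.one ⟨17075, 5, 6⟩) (.one ⟨848, 0, 6⟩)) (.node 1 (.one ⟨10644, 4, 5⟩) (.one ⟨3061, 2, 6⟩)))))) (.node 16 (.node 8 (.node 4 (.node 2 (.node 1 (.one ⟨3816, 5, 4⟩) (.one ⟨12143, 5, 6⟩)) (.node 1 (.one ⟨16316, 0, 6⟩) (.one ⟨14133, 3, 5⟩))) (.node 2 (.node 1 (.one ⟨2677, 5, 4⟩) (.one ⟨279, 3, 5⟩)) (.node 1 (.one ⟨9374, 5, 6⟩) (.one ⟨11513, 5, 6⟩)))) (.node 4 (.node 2 (.node 1 (.one ⟨5256, 5, 3⟩) (.one ⟨2927, 3, 5⟩)) (.node 1 (.one ⟨13365, 2, 6⟩) (.one ⟨7232, 5, 4⟩))) (.node 2 (.node 1 (.one ⟨17178, 5, 6⟩) (.one ⟨3345, 0, 6⟩)) (.node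 1 (.one ⟨10209, 5, 5⟩) (.one ⟨15853, 5, 6⟩))))) (.node 8 (.node 4 (.node 2 (.node 1 (.one ⟨1298, 5, 6⟩) (.one ⟨17191, 4, 4⟩)) (.node 1 (.one ⟨855, 1, 5⟩) (.one ⟨11157, 3, 5⟩))) (.node 2 (.node 1 (.one ⟨12584, 4, 5⟩) (.one ⟨294, 0, 5⟩)) (.node 1 (.one ⟨15618, 2, 2⟩) (.one ⟨16322, 2, 5⟩)))) (.node 4 (.node 2 (.node 1 (.one ⟨3480, 3, 5⟩) (.one ⟨7443, 4, 5⟩)) (.node 1 (.one ⟨9191, 2, 6⟩) (.one ⟨16925, 4, 7⟩))) (.node 2 (.node 1 (.one ⟨822, 2, 6⟩) (.one ⟨13066, 5, 6⟩)) (.node 1 (.one ⟨15271, 5, 5⟩) (.one ⟨10433, 5, 2⟩)))))))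
def par2_8_9 : Arr Par :=
  (.node 32 (.node 16 (.node 8 (.node 4 (.node 2 (.node 1 (.one ⟨10509, 4, 5⟩) (.one ⟨7417, 1, 5⟩)) (.node 1 (.one ⟨16702, 1, 4⟩) (.one ⟨9707, 5, 5⟩))) (.node 2 (.node 1 (.one ⟨9320, 0, 6⟩) (.one ⟨17157, 2, 6⟩)) (.node 1 (.one ⟨12591, 5, 4⟩) (.one ⟨12579, 5, 6⟩)))) (.node 4 (.node 2 (.node 1 (.one ⟨4533, 1, 5⟩) (.one ⟨8286, 2, 4⟩)) (.node 1 (.one ⟨14530, 3, 5⟩) (.one ⟨9867, 5, 4⟩))) (.node 2 (.node 1 (.one ⟨10615, 1, 6⟩) (.one ⟨15733, 3, 7⟩)) (.node 1 (.one ⟨12261, 3, 6⟩) (.one ⟨10853, 5, 5⟩))))) (.node 8 (.node 4 (.node 2 (.node 1 (.one ⟨167, 2, 4⟩) (.one ⟨12286, 0, 5⟩)) (.node 1 (.one ⟨5624, 4, 5⟩) (.one ⟨3007, 1, 5⟩))) (.node 2 (.node 1 (.one ⟨1166, 2, 5⟩) (.one ⟨13411, 1, 5⟩)) (.node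 1 (.one ⟨4510, 5, 6⟩) (.one ⟨8753, 0, 5⟩)))) (.node 4 (.node 2 (.node 1 (.one ⟨4383, 5, 5⟩) (.one ⟨16539, 5, 6⟩)) (.node 1 (.one ⟨8083, 3, 6⟩) (.one ⟨3409, 0, 5⟩))) (.node 2 (.node 1 (.one ⟨4461, 4, 6⟩) (.one ⟨10528, 4, 5⟩)) (.node 1 (.one ⟨6983, 0, 5⟩) (.one ⟨10084, 2, 5⟩)))))) (.node 16 (.node 8 (.node 4 (.node 2 (.node 1 (.one ⟨10075, 2, 6⟩) (.one ⟨10151, 5, 5⟩)) (.node 1 (.one ⟨7072, 1, 5⟩) (.one ⟨5317, 3, 5⟩))) (.node 2 (.node 1 (.one ⟨209, 2, 5⟩) (.one ⟨16406, 5, 6⟩)) (.node 1 (.one ⟨526, 1, 5⟩) (.one ⟨15178, 1, 5⟩)))) (.node 4 (.node 2 (.node 1 (.one ⟨6795, 0, 5⟩) (.one ⟨4704, 4, 3⟩)) (.node 1 (.one ⟨16572, 1, 6⟩) (.one ⟨12220, 4, 5⟩))) (.node 2 (.node 1 (.one ⟨16805, 2, 3⟩) (.one ⟨72, 5, 6⟩)) (.node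 1 (.one ⟨2096, 2, 5⟩) (.one ⟨4591, 3, 4⟩))))) (.node 8 (.node 4 (.node 2 (.node 1 (.one ⟨12847, 3, 5⟩) (.one ⟨6684, 0, 6⟩)) (.node 1 (.one ⟨6493, 5, 4⟩) (.one ⟨10888, 1, 5⟩))) (.node 2 (.node 1 (.one ⟨9109, 2, 5⟩) (.one ⟨11695, 1, 4⟩)) (.node 1 (.one ⟨4598, 4, 4⟩) (.one ⟨10835, 3, 5⟩)))) (.node 4 (.node 2 (.node 1 (.one ⟨192, 4, 4⟩) (.one ⟨16686, 1, 4⟩)) (.node 1 (.one ⟨14027, 2, 5⟩) (.one ⟨2628, 5, 7⟩))) (.node 2 (.node 1 (.one ⟨1553, 5, 6⟩) (.one ⟨6639, 3, 6⟩)) (.node 1 (.one ⟨14471, 3, 6⟩) (.one ⟨3312, 4, 4⟩)))))))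
def par2_8_10 : Arr Par :=
  (.node 32 (.node 16 (.node 8 (.node 4 (.node 2 (.node 1 (.one ⟨3153, 3, 3⟩) (.one ⟨1353, 2, 5⟩)) (.node 1 (.one ⟨3112, 1, 3⟩) (.one ⟨7051, 5, 3⟩))) (.node 2 (.node 1 (.one ⟨13980, 4, 5⟩) (.one ⟨13913, 3, 3⟩)) (.node 1 (.one ⟨106, 5, 5⟩) (.one ⟨5914, 5, 6⟩)))) (.node 4 (.node 2 (.node 1 (.one ⟨12383, 5, 4⟩) (.one ⟨11375, 5, 6⟩)) (.node 1 (.one ⟨6842, 1, 2⟩) (.one ⟨3738, 5, 5⟩))) (.node 2 (.node 1 (.one ⟨11298, 0, 4⟩) (.one ⟨17129, 5, 5⟩)) (.node 1 (.one ⟨2752, 5, 2⟩) (.one ⟨12674, 4, 5⟩))))) (.node 8 (.node 4 (.node 2 (.node 1 (.one ⟨1327, 0, 6⟩) (.one ⟨4747, 3, 4⟩)) (.node 1 (.one ⟨672, 5, 6⟩) (.one ⟨13378, 5, 6⟩))) (.node 2 (.node 1 (.one ⟨2534, 5, 6⟩) (.one ⟨16726, 0, 5⟩)) (.node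 1 (.one ⟨14681, 4, 5⟩) (.one ⟨8685, 5, 2⟩)))) (.node 4 (.node 2 (.node 1 (.one ⟨10121, 4, 5⟩) (.one ⟨2528, 5, 5⟩)) (.node 1 (.one ⟨3171, 3, 6⟩) (.one ⟨9469, 2, 6⟩))) (.node 2 (.node 1 (.one ⟨4578, 1, 5⟩) (.one ⟨15272, 3, 5⟩)) (.node 1 (.one ⟨1260, 5, 6⟩) (.one ⟨15363, 1, 5⟩)))))) (.node 16 (.node 8 (.node 4 (.node 2 (.node 1 (.one ⟨9720, 4, 5⟩) (.one ⟨15966, 1, 5⟩)) (.node 1 (.one ⟨7038, 5, 5⟩) (.one ⟨16755, 0, 5⟩))) (.node 2 (.node 1 (.one ⟨1035, 0, 5⟩) (.one ⟨7267, 4, 3⟩)) (.node 1 (.one ⟨1981, 5, 5⟩) (.one ⟨13142, 3, 5⟩)))) (.node 4 (.node 2 (.node 1 (.one ⟨9450, 4, 6⟩) (.one ⟨708, 4, 4⟩)) (.node 1 (.one ⟨15232, 4, 4⟩) (.one ⟨6259, 3, 5⟩))) (.node 2 (.node 1 (.one ⟨15774, 5, 4⟩) (.one ⟨7338, 5, 5⟩)) (.node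 1 (.one ⟨6775, 4, 5⟩) (.one ⟨8042, 3, 4⟩))))) (.node 8 (.node 4 (.node 2 (.node 1 (.one ⟨11586, 4, 3⟩) (.one ⟨15349, 5, 5⟩)) (.node 1 (.one ⟨16256, 1, 5⟩) (.one ⟨10116, 5, 4⟩))) (.node 2 (.node 1 (.one ⟨13118, 3, 5⟩) (.one ⟨5159, 1, 5⟩)) (.node 1 (.one ⟨2674, 4, 5⟩) (.one ⟨10408, 5, 6⟩)))) (.node 4 (.node 2 (.node 1 (.one ⟨7770, 5, 3⟩) (.one ⟨12763, 3, 6⟩)) (.node 1 (.one ⟨10883, 5, 5⟩) (.one ⟨10945, 3, 6⟩))) (.node 2 (.node 1 (.one ⟨12031, 4, 6⟩) (.one ⟨5015, 2, 5⟩)) (.node 1 (.one ⟨7228, 5, 4⟩) (.one ⟨8064, 5, 6⟩)))))))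
def par2_8_11 : Arr Par :=
  (.node 32 (.node 16 (.node 8 (.node 4 (.node 2 (.node 1 (.one ⟨14262, 1, 5⟩) (.one ⟨1709, 0, 5⟩)) (.node 1 (.one ⟨4986, 5, 6⟩) (.one ⟨10917, 5, 6⟩))) (.node 2 (.node 1 (.one ⟨17157, 4, 6⟩) (.one ⟨3805, 5, 5⟩)) (.node 1 (.one ⟨15323, 4, 6⟩) (.one ⟨13362, 4, 5⟩)))) (.node 4 (.node 2 (.node 1 (.one ⟨1301, 0, 5⟩) (.one ⟨13321, 2, 3⟩)) (.node 1 (.one ⟨11680, 2, 5⟩) (.one ⟨16810, 5, 3⟩))) (.node 2 (.node 1 (.one ⟨4182, 1, 5⟩) (.one ⟨16849, 2, 6⟩)) (.node 1 (.one ⟨15663, 2, 6⟩) (.one ⟨6480, 5, 5⟩))))) (.node 8 (.node 4 (.node 2 (.node 1 (.one ⟨14576, 1, 6⟩) (.one ⟨11099, 2, 6⟩)) (.node 1 (.one ⟨3891, 5, 4⟩) (.one ⟨81, 1, 3⟩))) (.node 2 (.node 1 (.one ⟨16895, 4, 4⟩) (.one ⟨1599, 3, 5⟩))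 (.node 1 (.one ⟨12209, 5, 5⟩) (.one ⟨3907, 1, 5⟩)))) (.node 4 (.node 2 (.node 1 (.one ⟨10441, 3, 5⟩) (.one ⟨3308, 5, 5⟩)) (.node 1 (.one ⟨5210, 2, 6⟩) (.one ⟨14365, 5, 6⟩))) (.node 2 (.node 1 (.one ⟨10477, 3, 5⟩) (.one ⟨4005, 5, 6⟩)) (.node 1 (.one ⟨4898, 5, 5⟩) (.one ⟨14017, 4, 6⟩)))))) (.node 16 (.node 8 (.node 4 (.node 2 (.node 1 (.one ⟨9351, 5, 6⟩) (.one ⟨9442, 2, 4⟩)) (.node 1 (.one ⟨1403, 5, 6⟩) (.one ⟨6009, 5, 5⟩))) (.node 2 (.node 1 (.one ⟨2083, 1, 5⟩) (.one ⟨14042, 5, 6⟩)) (.node 1 (.one ⟨10569, 3, 6⟩) (.one ⟨2143, 3, 5⟩)))) (.node 4 (.node 2 (.node 1 (.one ⟨2078, 2, 3⟩) (.one ⟨4056, 0, 4⟩)) (.node 1 (.one ⟨4122, 3, 5⟩) (.one ⟨10433, 1, 2⟩))) (.node 2 (.node 1 (.one ⟨10069, 4, 2⟩) (.one ⟨1487, 1, 5⟩))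 (.node 1 (.one ⟨598, 0, 3⟩) (.one ⟨9464, 5, 6⟩))))) (.node 8 (.node 4 (.node 2 (.node 1 (.one ⟨9952, 0, 6⟩) (.one ⟨2757, 1, 6⟩)) (.node 1 (.one ⟨127, 4, 6⟩) (.one ⟨16226, 1, 6⟩))) (.node 2 (.node 1 (.one ⟨13228, 5, 5⟩) (.one ⟨17016, 4, 6⟩)) (.node 1 (.one ⟨8821, 5, 5⟩) (.one ⟨11517, 3, 6⟩)))) (.node 4 (.node 2 (.node 1 (.one ⟨14702, 1, 5⟩) (.one ⟨11176, 1, 5⟩)) (.node 1 (.one ⟨13403, 2, 4⟩) (.one ⟨5447, 1, 6⟩))) (.node 2 (.node 1 (.one ⟨8341, 0, 5⟩) (.one ⟨8189, 1, 6⟩)) (.node 1 (.one ⟨477, 4, 5⟩) (.one ⟨1242, 2, 6⟩)))))))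
def par2_8_12 : Arr Par :=
  (.node 32 (.node 16 (.node 8 (.node 4 (.node 2 (.node 1 (.one ⟨10387, 2, 5⟩) (.one ⟨4503, 4, 5⟩)) (.node 1 (.one ⟨987, 1, 6⟩) (.one ⟨7802, 0, 4⟩))) (.node 2 (.node 1 (.one ⟨3342, 1, 4⟩) (.one ⟨8537, 5, 7⟩)) (.node 1 (.one ⟨986, 1, 6⟩) (.one ⟨1028, 4, 6⟩)))) (.node 4 (.node 2 (.node 1 (.one ⟨7905, 5, 6⟩) (.one ⟨16652, 5, 5⟩)) (.node 1 (.one ⟨11414, 0, 6⟩) (.one ⟨13952, 5, 5⟩))) (.node 2 (.node 1 (.one ⟨6569, 3, 4⟩) (.one ⟨11333, 0, 6⟩)) (.node 1 (.one ⟨5857, 2, 6⟩) (.one ⟨3361, 0, 5⟩))))) (.node 8 (.node 4 (.node 2 (.node 1 (.one ⟨13809, 2, 5⟩) (.one ⟨15832, 1, 5⟩)) (.node 1 (.one ⟨15495, 4, 5⟩) (.one ⟨3686, 5, 5⟩))) (.node 2 (.node 1 (.one ⟨5864, 4, 5⟩) (.one ⟨6548, 0, 6⟩)) (.node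 1 (.one ⟨9552, 0, 6⟩) (.one ⟨7317, 5, 4⟩)))) (.node 4 (.node 2 (.node 1 (.one ⟨9830, 3, 4⟩) (.one ⟨6965, 3, 6⟩)) (.node 1 (.one ⟨276, 4, 4⟩) (.one ⟨16730, 0, 6⟩))) (.node 2 (.node 1 (.one ⟨16454, 2, 4⟩) (.one ⟨11001, 2, 5⟩)) (.node 1 (.one ⟨1667, 5, 6⟩) (.one ⟨10070, 4, 5⟩)))))) (.node 16 (.node 8 (.node 4 (.node 2 (.node 1 (.one ⟨6611, 2, 4⟩) (.one ⟨14046, 4, 5⟩)) (.node 1 (.one ⟨5962, 4, 4⟩) (.one ⟨9308, 4, 3⟩))) (.node 2 (.node 1 (.one ⟨1133, 1, 5⟩) (.one ⟨7058, 1, 2⟩)) (.node 1 (.one ⟨5810, 4, 5⟩) (.one ⟨5960, 4, 4⟩)))) (.node 4 (.node 2 (.node 1 (.one ⟨11669, 0, 5⟩) (.one ⟨13131, 4, 6⟩)) (.node 1 (.one ⟨12290, 1, 5⟩) (.one ⟨6477, 4, 5⟩))) (.node 2 (.node 1 (.one ⟨768, 1, 5⟩) (.one ⟨9363, 2, 5⟩)) (.node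 1 (.one ⟨5715, 3, 4⟩) (.one ⟨10193, 2, 4⟩))))) (.node 8 (.node 4 (.node 2 (.node 1 (.one ⟨10379, 0, 6⟩) (.one ⟨4023, 4, 6⟩)) (.node 1 (.one ⟨7998, 4, 5⟩) (.one ⟨10048, 2, 4⟩))) (.node 2 (.node 1 (.one ⟨8252, 2, 5⟩) (.one ⟨15130, 5, 3⟩)) (.node 1 (.one ⟨13333, 3, 5⟩) (.one ⟨11808, 0, 4⟩)))) (.node 4 (.node 2 (.node 1 (.one ⟨8997, 2, 3⟩) (.one ⟨16614, 0, 4⟩)) (.node 1 (.one ⟨7051, 2, 3⟩) (.one ⟨6601, 1, 4⟩))) (.node 2 (.node 1 (.one ⟨172, 4, 5⟩) (.one ⟨3280, 5, 3⟩)) (.node 1 (.one ⟨10342, 4, 5⟩) (.one ⟨4952, 2, 5⟩)))))))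
def par2_8_13 : Arr Par :=
  (.node 32 (.node 16 (.node 8 (.node 4 (.node 2 (.node 1 (.one ⟨14118, 3, 5⟩) (.one ⟨2909, 0, 6⟩)) (.node 1 (.one ⟨6741, 0, 5⟩) (.one ⟨10368, 5, 6⟩))) (.node 2 (.node 1 (.one ⟨141, 2, 5⟩) (.one ⟨1028, 3, 6⟩)) (.node 1 (.one ⟨13471, 1, 4⟩) (.one ⟨8873, 0, 5⟩)))) (.node 4 (.node 2 (.node 1 (.one ⟨3224, 2, 6⟩) (.one ⟨4385, 5, 4⟩)) (.node 1 (.one ⟨7681, 5, 5⟩) (.one ⟨11707, 2, 6⟩))) (.node 2 (.node 1 (.one ⟨2033, 5, 3⟩) (.one ⟨9815, 3, 4⟩)) (.node 1 (.one ⟨14331, 1, 5⟩) (.one ⟨10825, 1, 5⟩))))) (.node 8 (.node 4 (.node 2 (.node 1 (.one ⟨4292, 4, 4⟩) (.one ⟨8874, 0, 5⟩)) (.node 1 (.one ⟨9304, 3, 6⟩) (.one ⟨5162, 2, 6⟩))) (.node 2 (.node 1 (.one ⟨1709, 3, 5⟩) (.one ⟨11746, 5, 3⟩)) (.node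 1 (.one ⟨9066, 5, 5⟩) (.one ⟨1541, 5, 6⟩)))) (.node 4 (.node 2 (.node 1 (.one ⟨13595, 4, 4⟩) (.one ⟨5236, 3, 5⟩)) (.node 1 (.one ⟨11743, 4, 6⟩) (.one ⟨14395, 3, 5⟩))) (.node 2 (.node 1 (.one ⟨8214, 1, 5⟩) (.one ⟨11746, 4, 3⟩)) (.node 1 (.one ⟨16421, 2, 5⟩) (.one ⟨6601, 0, 4⟩)))))) (.node 16 (.node 8 (.node 4 (.node 2 (.node 1 (.one ⟨15227, 4, 6⟩) (.one ⟨11047, 3, 4⟩)) (.node 1 (.one ⟨5600, 4, 5⟩) (.one ⟨10817, 4, 6⟩))) (.node 2 (.node 1 (.one ⟨13474, 3, 5⟩) (.one ⟨16222, 2, 6⟩)) (.node 1 (.one ⟨14804, 5, 5⟩) (.one ⟨16585, 4, 5⟩)))) (.node 4 (.node 2 (.node 1 (.one ⟨16151, 5, 5⟩) (.one ⟨6367, 4, 2⟩)) (.node 1 (.one ⟨11133, 0, 4⟩) (.one ⟨16064, 5, 6⟩))) (.node 2 (.node 1 (.one ⟨2862, 1, 6⟩) (.one ⟨11790, 5, 6⟩))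 (.node 1 (.one ⟨5822, 5, 6⟩) (.one ⟨6671, 0, 4⟩))))) (.node 8 (.node 4 (.node 2 (.node 1 (.one ⟨14039, 4, 6⟩) (.one ⟨2601, 3, 5⟩)) (.node 1 (.one ⟨1605, 2, 4⟩) (.one ⟨6981, 0, 3⟩))) (.node 2 (.node 1 (.one ⟨6832, 5, 6⟩) (.one ⟨109, 4, 4⟩)) (.node 1 (.one ⟨8992, 2, 5⟩) (.one ⟨12395, 1, 6⟩)))) (.node 4 (.node 2 (.node 1 (.one ⟨16408, 1, 5⟩) (.one ⟨12219, 5, 6⟩)) (.node 1 (.one ⟨8473, 2, 5⟩) (.one ⟨4689, 5, 6⟩))) (.node 2 (.node 1 (.one ⟨4440, 2, 4⟩) (.one ⟨13479, 2, 6⟩)) (.node 1 (.one ⟨13742, 1, 4⟩) (.one ⟨7088, 4, 4⟩)))))))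
def par2_8_14 : Arr Par :=
  (.node 32 (.node 16 (.node 8 (.node 4 (.node 2 (.node 1 (.one ⟨2145, 3, 5⟩) (.one ⟨5701, 3, 6⟩)) (.node 1 (.one ⟨5858, 5, 6⟩) (.one ⟨5049, 0, 5⟩))) (.node 2 (.node 1 (.one ⟨6076, 2, 6⟩) (.one ⟨10090, 1, 4⟩)) (.node 1 (.one ⟨929, 2, 6⟩) (.one ⟨13938, 0, 6⟩)))) (.node 4 (.node 2 (.node 1 (.one ⟨3014, 4, 5⟩) (.one ⟨6472, 5, 5⟩)) (.node 1 (.one ⟨10721, 1, 7⟩) (.one ⟨12829, 4, 4⟩))) (.node 2 (.node 1 (.one ⟨2641, 2, 4⟩) (.one ⟨13073, 4, 6⟩)) (.node 1 (.one ⟨6029, 2, 6⟩) (.one ⟨6489, 0, 5⟩))))) (.node 8 (.node 4 (.node 2 (.node 1 (.one ⟨11776, 4, 3⟩) (.one ⟨11182, 2, 4⟩)) (.node 1 (.one ⟨13235, 5, 5⟩) (.one ⟨14705, 5, 4⟩))) (.node 2 (.node 1 (.one ⟨5652, 2, 5⟩) (.one ⟨5472, 5, 4⟩)) (.node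 1 (.one ⟨6166, 5, 4⟩) (.one ⟨4927, 5, 2⟩)))) (.node 4 (.node 2 (.node 1 (.one ⟨12524, 4, 4⟩) (.one ⟨14838, 3, 6⟩)) (.node 1 (.one ⟨417, 5, 5⟩) (.one ⟨9829, 2, 5⟩))) (.node 2 (.node 1 (.one ⟨11298, 1, 4⟩) (.one ⟨4929, 5, 3⟩)) (.node 1 (.one ⟨11495, 4, 5⟩) (.one ⟨1554, 4, 5⟩)))))) (.node 16 (.node 8 (.node 4 (.node 2 (.node 1 (.one ⟨672, 2, 6⟩) (.one ⟨13664, 5, 5⟩)) (.node 1 (.one ⟨11231, 2, 6⟩) (.one ⟨4616, 1, 6⟩))) (.node 2 (.node 1 (.one ⟨4261, 5, 5⟩) (.one ⟨5757, 3, 5⟩)) (.node 1 (.one ⟨14255, 1, 5⟩) (.one ⟨585, 1, 5⟩)))) (.node 4 (.node 2 (.node 1 (.one ⟨7937, 4, 6⟩) (.one ⟨9087, 5, 5⟩)) (.node 1 (.one ⟨1031, 5, 6⟩) (.one ⟨3198, 3, 5⟩))) (.node 2 (.node 1 (.one ⟨8685, 2, 2⟩) (.one ⟨11318, 5, 6⟩)) (.node 1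 (.one ⟨14481, 4, 5⟩) (.one ⟨258, 4, 5⟩))))) (.node 8 (.node 4 (.node 2 (.node 1 (.one ⟨2334, 3, 5⟩) (.one ⟨6316, 1, 5⟩)) (.node 1 (.one ⟨4323, 5, 5⟩) (.one ⟨2662, 1, 6⟩))) (.node 2 (.node 1 (.one ⟨4314, 5, 7⟩) (.one ⟨8988, 1, 5⟩)) (.node 1 (.one ⟨440, 5, 6⟩) (.one ⟨12008, 2, 3⟩)))) (.node 4 (.node 2 (.node 1 (.one ⟨15548, 4, 6⟩) (.one ⟨5040, 5, 5⟩)) (.node 1 (.one ⟨9860, 0, 5⟩) (.one ⟨12295, 3, 5⟩))) (.node 2 (.node 1 (.one ⟨2478, 3, 4⟩) (.one ⟨16598, 0, 4⟩)) (.node 1 (.one ⟨8924, 2, 6⟩) (.one ⟨10925, 0, 5⟩)))))))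
def par2_8_15 : Arr Par :=
  (.node 32 (.node 16 (.node 8 (.node 4 (.node 2 (.node 1 (.one ⟨3386, 2, 6⟩) (.one ⟨3302, 4, 6⟩)) (.node 1 (.one ⟨3551, 3, 5⟩) (.one ⟨10209, 1, 5⟩))) (.node 2 (.node 1 (.one ⟨2340, 0, 5⟩) (.one ⟨13899, 3, 5⟩)) (.node 1 (.one ⟨15836, 0, 5⟩) (.one ⟨15945, 3, 4⟩)))) (.node 4 (.node 2 (.node 1 (.one ⟨7249, 1, 6⟩) (.one ⟨17023, 5, 5⟩)) (.node 1 (.one ⟨5953, 4, 5⟩) (.one ⟨5149, 3, 5⟩))) (.node 2 (.node 1 (.one ⟨15392, 5, 4⟩) (.one ⟨13913, 5, 3⟩)) (.node 1 (.one ⟨3774, 4, 6⟩) (.one ⟨6237, 1, 5⟩))))) (.node 8 (.node 4 (.node 2 (.node 1 (.one ⟨3976, 5, 5⟩) (.one ⟨250, 3, 5⟩)) (.node 1 (.one ⟨427, 3, 6⟩) (.one ⟨5827, 5, 5⟩))) (.node 2 (.node 1 (.one ⟨15436, 4, 3⟩) (.one ⟨6527, 2, 4⟩)) (.node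 1 (.one ⟨3419, 0, 5⟩) (.one ⟨12834, 5, 5⟩)))) (.node 4 (.node 2 (.node 1 (.one ⟨8257, 2, 4⟩) (.one ⟨3496, 5, 6⟩)) (.node 1 (.one ⟨120, 1, 6⟩) (.one ⟨2528, 1, 5⟩))) (.node 2 (.node 1 (.one ⟨723, 5, 6⟩) (.one ⟨16614, 4, 4⟩)) (.node 1 (.one ⟨12486, 5, 5⟩) (.one ⟨15176, 5, 6⟩)))))) (.node 16 (.node 8 (.node 4 (.node 2 (.node 1 (.one ⟨486, 2, 6⟩) (.one ⟨10450, 3, 6⟩)) (.node 1 (.one ⟨11222, 3, 6⟩) (.one ⟨10842, 1, 5⟩))) (.node 2 (.node 1 (.one ⟨13018, 1, 3⟩) (.one ⟨7649, 2, 3⟩)) (.node 1 (.one ⟨356, 4, 5⟩) (.one ⟨15289, 3, 5⟩)))) (.node 4 (.node 2 (.node 1 (.one ⟨2571, 1, 3⟩) (.one ⟨12522, 4, 4⟩)) (.node 1 (.one ⟨16814, 2, 5⟩) (.one ⟨9279, 0, 5⟩))) (.node 2 (.node 1 (.one ⟨12331, 1, 6⟩) (.one ⟨15477, 0, 5⟩)) (.node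 1 (.one ⟨10913, 4, 5⟩) (.one ⟨15268, 0, 5⟩))))) (.node 8 (.node 4 (.node 2 (.node 1 (.one ⟨16652, 0, 5⟩) (.one ⟨11916, 0, 6⟩)) (.node 1 (.one ⟨2993, 1, 5⟩) (.one ⟨7349, 5, 4⟩))) (.node 2 (.node 1 (.one ⟨4010, 0, 4⟩) (.one ⟨9002, 0, 6⟩)) (.node 1 (.one ⟨7055, 0, 5⟩) (.one ⟨17085, 5, 6⟩)))) (.node 4 (.node 2 (.node 1 (.one ⟨2591, 4, 6⟩) (.one ⟨17177, 3, 5⟩)) (.node 1 (.one ⟨16880, 0, 4⟩) (.one ⟨14666, 5, 6⟩))) (.node 2 (.node 1 (.one ⟨14862, 1, 4⟩) (.one ⟨2324, 0, 5⟩)) (.node 1 (.one ⟨16575, 3, 5⟩) (.one ⟨5757, 0, 5⟩)))))))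
def par2_8 : Arr Par :=
  (.node 512 (.node 256 (.node 128 (.node 64 par2_8_0 par2_8_1) (.node 64 par2_8_2 par2_8_3)) (.node 128 (.node 64 par2_8_4 par2_8_5) (.node 64 par2_8_6 par2_8_7))) (.node 256 (.node 128 (.node 64 par2_8_8 par2_8_9) (.node 64 par2_8_10 par2_8_11)) (.node 128 (.node 64 par2_8_12 par2_8_13) (.node 64 par2_8_14 par2_8_15))))
def par2_9_0 : Arr Par :=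
  (.node 32 (.node 16 (.node 8 (.node 4 (.node 2 (.node 1 (.one ⟨10933, 5, 4⟩) (.one ⟨2278, 5, 5⟩)) (.node 1 (.one ⟨12634, 2, 5⟩) (.one ⟨7265, 3, 5⟩))) (.node 2 (.node 1 (.one ⟨6385, 0, 5⟩) (.one ⟨4929, 2, 3⟩)) (.node 1 (.one ⟨16824, 4, 5⟩) (.one ⟨16138, 3, 5⟩)))) (.node 4 (.node 2 (.node 1 (.one ⟨2577, 4, 5⟩) (.one ⟨13715, 2, 5⟩)) (.node 1 (.one ⟨15872, 5, 5⟩) (.one ⟨14856, 5, 5⟩))) (.node 2 (.node 1 (.one ⟨6988, 1, 5⟩) (.one ⟨9966, 1, 5⟩)) (.node 1 (.one ⟨14940, 4, 5⟩) (.one ⟨16217, 1, 6⟩))))) (.node 8 (.node 4 (.node 2 (.node 1 (.one ⟨11166, 0, 5⟩) (.one ⟨820, 5, 4⟩)) (.node 1 (.one ⟨5258, 4, 5⟩) (.one ⟨17163, 2, 6⟩))) (.node 2 (.node 1 (.one ⟨17075, 1, 6⟩) (.one ⟨7802, 4, 4⟩)) (.node 1 (.one ⟨6863, 3, 6⟩)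 (.one ⟨9751, 4, 6⟩)))) (.node 4 (.node 2 (.node 1 (.one ⟨4949, 4, 5⟩) (.one ⟨14584, 5, 6⟩)) (.node 1 (.one ⟨2875, 5, 6⟩) (.one ⟨8728, 0, 6⟩))) (.node 2 (.node 1 (.one ⟨15309, 5, 6⟩) (.one ⟨2989, 3, 6⟩)) (.node 1 (.one ⟨16328, 4, 3⟩) (.one ⟨5587, 4, 5⟩)))))) (.node 16 (.node 8 (.node 4 (.node 2 (.node 1 (.one ⟨4009, 3, 6⟩) (.one ⟨14253, 4, 4⟩)) (.node 1 (.one ⟨4986, 2, 6⟩) (.one ⟨3606, 2, 5⟩))) (.node 2 (.node 1 (.one ⟨7925, 1, 4⟩) (.one ⟨14072, 4, 6⟩)) (.node 1 (.one ⟨261, 0, 6⟩) (.one ⟨394, 4, 4⟩)))) (.node 4 (.node 2 (.node 1 (.one ⟨3004, 3, 5⟩) (.one ⟨10517, 1, 6⟩)) (.node 1 (.one ⟨13466, 4, 6⟩) (.one ⟨1732, 4, 5⟩))) (.node 2 (.node 1 (.one ⟨5966, 4, 5⟩) (.one ⟨1250, 5, 6⟩)) (.node 1 (.one ⟨9408, 5, 6⟩) (.one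 ⟨6088, 5, 6⟩))))) (.node 8 (.node 4 (.node 2 (.node 1 (.one ⟨11636, 2, 5⟩) (.one ⟨8695, 5, 6⟩)) (.node 1 (.one ⟨7657, 2, 6⟩) (.one ⟨1501, 4, 7⟩))) (.node 2 (.node 1 (.one ⟨4547, 5, 5⟩) (.one ⟨11510, 4, 5⟩)) (.node 1 (.one ⟨3106, 4, 3⟩) (.one ⟨8476, 0, 5⟩)))) (.node 4 (.node 2 (.node 1 (.one ⟨2210, 0, 5⟩) (.one ⟨2299, 3, 4⟩)) (.node 1 (.one ⟨10908, 2, 3⟩) (.one ⟨13958, 5, 7⟩))) (.node 2 (.node 1 (.one ⟨4790, 3, 5⟩) (.one ⟨4619, 2, 6⟩)) (.node 1 (.one ⟨482, 4, 5⟩) (.one ⟨7349, 4, 4⟩)))))))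
def par2_9_1 : Arr Par :=
  (.node 32 (.node 16 (.node 8 (.node 4 (.node 2 (.node 1 (.one ⟨14161, 5, 5⟩) (.one ⟨4169, 3, 4⟩)) (.node 1 (.one ⟨4838, 5, 5⟩) (.one ⟨15515, 0, 4⟩))) (.node 2 (.node 1 (.one ⟨15909, 5, 5⟩) (.one ⟨15686, 2, 6⟩)) (.node 1 (.one ⟨9508, 0, 4⟩) (.one ⟨11040, 2, 3⟩)))) (.node 4 (.node 2 (.node 1 (.one ⟨6466, 2, 6⟩) (.one ⟨4547, 1, 5⟩)) (.node 1 (.one ⟨3728, 1, 4⟩) (.one ⟨16597, 5, 5⟩))) (.node 2 (.node 1 (.one ⟨8758, 1, 3⟩) (.one ⟨15750, 3, 5⟩)) (.node 1 (.one ⟨16566, 0, 6⟩) (.one ⟨14947, 3, 4⟩))))) (.node 8 (.node 4 (.node 2 (.node 1 (.one ⟨1833, 1, 5⟩) (.one ⟨4372, 1, 5⟩)) (.node 1 (.one ⟨9464, 3, 6⟩) (.one ⟨8366, 4, 5⟩))) (.node 2 (.node 1 (.one ⟨16567, 2, 6⟩) (.one ⟨7781, 5, 6⟩)) (.node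 1 (.one ⟨1444, 0, 5⟩) (.one ⟨4853, 3, 6⟩)))) (.node 4 (.node 2 (.node 1 (.one ⟨4487, 0, 5⟩) (.one ⟨8497, 0, 5⟩)) (.node 1 (.one ⟨7409, 1, 5⟩) (.one ⟨16792, 5, 6⟩))) (.node 2 (.node 1 (.one ⟨14040, 3, 2⟩) (.one ⟨12905, 1, 6⟩)) (.node 1 (.one ⟨16563, 5, 6⟩) (.one ⟨244, 0, 6⟩)))))) (.node 16 (.node 8 (.node 4 (.node 2 (.node 1 (.one ⟨9615, 5, 5⟩) (.one ⟨14968, 1, 4⟩)) (.node 1 (.one ⟨2082, 1, 6⟩) (.one ⟨8194, 1, 5⟩))) (.node 2 (.node 1 (.one ⟨5995, 4, 5⟩) (.one ⟨4977, 1, 6⟩)) (.node 1 (.one ⟨16136, 1, 5⟩) (.one ⟨4840, 4, 6⟩)))) (.node 4 (.node 2 (.node 1 (.one ⟨11150, 3, 5⟩) (.one ⟨111, 4, 4⟩)) (.node 1 (.one ⟨6262, 4, 5⟩) (.one ⟨35, 5, 6⟩))) (.node 2 (.node 1 (.one ⟨5514, 4, 4⟩) (.one ⟨14469, 3, 5⟩)) (.node 1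 (.one ⟨15617, 0, 6⟩) (.one ⟨12577, 3, 3⟩))))) (.node 8 (.node 4 (.node 2 (.node 1 (.one ⟨3864, 4, 5⟩) (.one ⟨12262, 4, 5⟩)) (.node 1 (.one ⟨8425, 5, 6⟩) (.one ⟨2595, 0, 5⟩))) (.node 2 (.node 1 (.one ⟨1612, 5, 5⟩) (.one ⟨2091, 5, 6⟩)) (.node 1 (.one ⟨2197, 5, 6⟩) (.one ⟨8233, 1, 6⟩)))) (.node 4 (.node 2 (.node 1 (.one ⟨4977, 5, 6⟩) (.one ⟨16205, 4, 5⟩)) (.node 1 (.one ⟨6150, 5, 6⟩) (.one ⟨5830, 5, 6⟩))) (.node 2 (.node 1 (.one ⟨2923, 0, 6⟩) (.one ⟨12019, 1, 5⟩)) (.node 1 (.one ⟨9928, 2, 5⟩) (.one ⟨4443, 1, 4⟩)))))))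
def par2_9_2 : Arr Par :=
  (.node 32 (.node 16 (.node 8 (.node 4 (.node 2 (.node 1 (.one ⟨5688, 2, 5⟩) (.one ⟨7144, 1, 6⟩)) (.node 1 (.one ⟨8874, 3, 5⟩) (.one ⟨5809, 2, 5⟩))) (.node 2 (.node 1 (.one ⟨870, 5, 6⟩) (.one ⟨14259, 5, 5⟩)) (.node 1 (.one ⟨1435, 0, 6⟩) (.one ⟨13200, 5, 5⟩)))) (.node 4 (.node 2 (.node 1 (.one ⟨5987, 0, 4⟩) (.one ⟨1847, 5, 3⟩)) (.node 1 (.one ⟨15774, 0, 4⟩) (.one ⟨11112, 5, 6⟩))) (.node 2 (.node 1 (.one ⟨12813, 2, 6⟩) (.one ⟨6102, 1, 6⟩)) (.node 1 (.one ⟨12052, 5, 5⟩) (.one ⟨9504, 5, 6⟩))))) (.node 8 (.node 4 (.node 2 (.node 1 (.one ⟨5202, 3, 6⟩) (.one ⟨36, 5, 5⟩)) (.node 1 (.one ⟨1257, 5, 5⟩) (.one ⟨8447, 2, 4⟩))) (.node 2 (.node 1 (.one ⟨15273, 3, 6⟩) (.one ⟨1837, 5, 5⟩)) (.node 1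 (.one ⟨1821, 5, 4⟩) (.one ⟨2733, 4, 4⟩)))) (.node 4 (.node 2 (.node 1 (.one ⟨13732, 1, 6⟩) (.one ⟨6259, 4, 5⟩)) (.node 1 (.one ⟨2074, 1, 4⟩) (.one ⟨92, 0, 5⟩))) (.node 2 (.node 1 (.one ⟨11544, 1, 6⟩) (.one ⟨13417, 3, 6⟩)) (.node 1 (.one ⟨7172, 1, 5⟩) (.one ⟨2473, 5, 6⟩)))))) (.node 16 (.node 8 (.node 4 (.node 2 (.node 1 (.one ⟨13088, 2, 6⟩) (.one ⟨6769, 0, 5⟩)) (.node 1 (.one ⟨7649, 1, 3⟩) (.one ⟨1420, 4, 6⟩))) (.node 2 (.node 1 (.one ⟨10886, 4, 5⟩) (.one ⟨8178, 2, 5⟩)) (.node 1 (.one ⟨5942, 1, 6⟩) (.one ⟨13871, 0, 6⟩)))) (.node 4 (.node 2 (.node 1 (.one ⟨4831, 3, 5⟩) (.one ⟨9084, 1, 5⟩)) (.node 1 (.one ⟨3496, 3, 6⟩) (.one ⟨15934, 5, 4⟩))) (.node 2 (.node 1 (.one ⟨5326, 5, 6⟩) (.one ⟨2623, 2, 6⟩)) (.node 1 (.one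 ⟨13357, 0, 6⟩) (.one ⟨4581, 4, 4⟩))))) (.node 8 (.node 4 (.node 2 (.node 1 (.one ⟨5309, 1, 4⟩) (.one ⟨2251, 5, 6⟩)) (.node 1 (.one ⟨13230, 3, 5⟩) (.one ⟨16387, 0, 5⟩))) (.node 2 (.node 1 (.one ⟨1336, 4, 4⟩) (.one ⟨14420, 2, 5⟩)) (.node 1 (.one ⟨14122, 2, 5⟩) (.one ⟨3059, 1, 5⟩)))) (.node 4 (.node 2 (.node 1 (.one ⟨14346, 4, 6⟩) (.one ⟨6973, 5, 6⟩)) (.node 1 (.one ⟨6944, 5, 6⟩) (.one ⟨4204, 5, 4⟩))) (.node 2 (.node 1 (.one ⟨5108, 4, 5⟩) (.one ⟨14920, 1, 5⟩)) (.node 1 (.one ⟨7716, 3, 5⟩) (.one ⟨14494, 4, 5⟩)))))))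
def par2_9_3 : Arr Par :=
  (.node 32 (.node 16 (.node 8 (.node 4 (.node 2 (.node 1 (.one ⟨11597, 2, 5⟩) (.one ⟨15893, 4, 6⟩)) (.node 1 (.one ⟨2605, 1, 6⟩) (.one ⟨16329, 3, 6⟩))) (.node 2 (.node 1 (.one ⟨767, 5, 6⟩) (.one ⟨9602, 4, 6⟩)) (.node 1 (.one ⟨11436, 4, 6⟩) (.one ⟨3981, 4, 6⟩)))) (.node 4 (.node 2 (.node 1 (.one ⟨14713, 1, 5⟩) (.one ⟨3795, 1, 5⟩)) (.node 1 (.one ⟨3418, 5, 6⟩) (.one ⟨12768, 2, 5⟩))) (.node 2 (.node 1 (.one ⟨8228, 4, 5⟩) (.one ⟨7170, 4, 6⟩)) (.node 1 (.one ⟨2014, 3, 5⟩) (.one ⟨14278, 5, 5⟩))))) (.node 8 (.node 4 (.node 2 (.node 1 (.one ⟨11847, 0, 5⟩) (.one ⟨10110, 4, 6⟩)) (.node 1 (.one ⟨16787, 5, 4⟩) (.one ⟨7344, 4, 6⟩))) (.node 2 (.node 1 (.one ⟨15546, 4, 4⟩) (.one ⟨15465, 5, 5⟩)) (.node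 1 (.one ⟨5867, 2, 5⟩) (.one ⟨5183, 2, 3⟩)))) (.node 4 (.node 2 (.node 1 (.one ⟨8825, 0, 5⟩) (.one ⟨8171, 3, 6⟩)) (.node 1 (.one ⟨3065, 5, 6⟩) (.one ⟨13628, 2, 6⟩))) (.node 2 (.node 1 (.one ⟨4866, 1, 6⟩) (.one ⟨5267, 5, 5⟩)) (.node 1 (.one ⟨7368, 0, 4⟩) (.one ⟨10801, 5, 6⟩)))))) (.node 16 (.node 8 (.node 4 (.node 2 (.node 1 (.one ⟨7778, 2, 6⟩) (.one ⟨13219, 3, 6⟩)) (.node 1 (.one ⟨13222, 3, 3⟩) (.one ⟨6349, 5, 5⟩))) (.node 2 (.node 1 (.one ⟨16428, 2, 6⟩) (.one ⟨5186, 1, 6⟩)) (.node 1 (.one ⟨3421, 4, 3⟩) (.one ⟨6909, 2, 5⟩)))) (.node 4 (.node 2 (.node 1 (.one ⟨11468, 4, 5⟩) (.one ⟨8690, 5, 6⟩)) (.node 1 (.one ⟨17093, 4, 5⟩) (.one ⟨223, 1, 6⟩))) (.node 2 (.node 1 (.one ⟨1754, 2, 5⟩) (.one ⟨4619, 4, 6⟩)) (.node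 1 (.one ⟨11614, 3, 3⟩) (.one ⟨14614, 2, 6⟩))))) (.node 8 (.node 4 (.node 2 (.node 1 (.one ⟨1352, 1, 6⟩) (.one ⟨10048, 5, 4⟩)) (.node 1 (.one ⟨7448, 3, 4⟩) (.one ⟨4484, 4, 6⟩))) (.node 2 (.node 1 (.one ⟨2399, 0, 5⟩) (.one ⟨10409, 4, 5⟩)) (.node 1 (.one ⟨6599, 0, 6⟩) (.one ⟨4291, 5, 4⟩)))) (.node 4 (.node 2 (.node 1 (.one ⟨396, 4, 5⟩) (.one ⟨1074, 1, 4⟩)) (.node 1 (.one ⟨4557, 3, 4⟩) (.one ⟨6495, 5, 6⟩))) (.node 2 (.node 1 (.one ⟨3097, 5, 5⟩) (.one ⟨16609, 1, 5⟩)) (.node 1 (.one ⟨16687, 0, 6⟩) (.one ⟨1147, 4, 5⟩)))))))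
def par2_9_4 : Arr Par :=
  (.node 32 (.node 16 (.node 8 (.node 4 (.node 2 (.node 1 (.one ⟨9512, 5, 6⟩) (.one ⟨1943, 3, 6⟩)) (.node 1 (.one ⟨4291, 0, 4⟩) (.one ⟨10512, 1, 2⟩))) (.node 2 (.node 1 (.one ⟨1089, 2, 5⟩) (.one ⟨1938, 4, 4⟩)) (.node 1 (.one ⟨2389, 4, 5⟩) (.one ⟨16604, 2, 4⟩)))) (.node 4 (.node 2 (.node 1 (.one ⟨329, 4, 4⟩) (.one ⟨754, 1, 5⟩)) (.node 1 (.one ⟨2945, 1, 5⟩) (.one ⟨2573, 4, 4⟩))) (.node 2 (.node 1 (.one ⟨1731, 4, 5⟩) (.one ⟨5490, 4, 6⟩)) (.node 1 (.one ⟨4908, 1, 4⟩) (.one ⟨4372, 2, 5⟩))))) (.node 8 (.node 4 (.node 2 (.node 1 (.one ⟨10090, 3, 4⟩) (.one ⟨707, 1, 6⟩)) (.node 1 (.one ⟨8250, 2, 5⟩) (.one ⟨9216, 0, 5⟩))) (.node 2 (.node 1 (.one ⟨1154, 2, 6⟩) (.one ⟨1838, 1, 5⟩)) (.node 1 (.one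 ⟨14457, 0, 5⟩) (.one ⟨8329, 2, 3⟩)))) (.node 4 (.node 2 (.node 1 (.one ⟨13018, 2, 3⟩) (.one ⟨2310, 5, 6⟩)) (.node 1 (.one ⟨14878, 5, 6⟩) (.one ⟨8018, 1, 6⟩))) (.node 2 (.node 1 (.one ⟨10339, 3, 2⟩) (.one ⟨17156, 5, 6⟩)) (.node 1 (.one ⟨3861, 5, 6⟩) (.one ⟨346, 2, 5⟩)))))) (.node 16 (.node 8 (.node 4 (.node 2 (.node 1 (.one ⟨6200, 3, 5⟩) (.one ⟨16309, 1, 5⟩)) (.node 1 (.one ⟨8975, 2, 6⟩) (.one ⟨15722, 3, 5⟩))) (.node 2 (.node 1 (.one ⟨10515, 4, 3⟩) (.one ⟨14692, 2, 6⟩)) (.node 1 (.one ⟨7232, 3, 4⟩) (.one ⟨2597, 3, 6⟩)))) (.node 4 (.node 2 (.node 1 (.one ⟨7592, 5, 5⟩) (.one ⟨8468, 5, 5⟩)) (.node 1 (.one ⟨12988, 3, 4⟩) (.one ⟨8230, 1, 3⟩))) (.node 2 (.node 1 (.one ⟨11990, 5, 5⟩) (.one ⟨7721, 4, 5⟩)) (.node 1 (.one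 ⟨9172, 4, 4⟩) (.one ⟨11785, 3, 6⟩))))) (.node 8 (.node 4 (.node 2 (.node 1 (.one ⟨15735, 1, 6⟩) (.one ⟨3433, 5, 5⟩)) (.node 1 (.one ⟨7718, 0, 5⟩) (.one ⟨2222, 3, 6⟩))) (.node 2 (.node 1 (.one ⟨7232, 4, 4⟩) (.one ⟨11628, 3, 6⟩)) (.node 1 (.one ⟨8128, 5, 5⟩) (.one ⟨12510, 2, 5⟩)))) (.node 4 (.node 2 (.node 1 (.one ⟨10043, 0, 6⟩) (.one ⟨17148, 5, 5⟩)) (.node 1 (.one ⟨12140, 2, 4⟩) (.one ⟨3630, 4, 5⟩))) (.node 2 (.node 1 (.one ⟨1152, 0, 5⟩) (.one ⟨14867, 5, 5⟩)) (.node 1 (.one ⟨10390, 5, 6⟩) (.one ⟨8628, 2, 5⟩)))))))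
def par2_9_5 : Arr Par :=
  (.node 32 (.node 16 (.node 8 (.node 4 (.node 2 (.node 1 (.one ⟨16448, 5, 4⟩) (.one ⟨10431, 0, 5⟩)) (.node 1 (.one ⟨12462, 5, 2⟩) (.one ⟨1353, 1, 5⟩))) (.node 2 (.node 1 (.one ⟨15436, 2, 3⟩) (.one ⟨16123, 3, 6⟩)) (.node 1 (.one ⟨7047, 3, 6⟩) (.one ⟨1868, 5, 6⟩)))) (.node 4 (.node 2 (.node 1 (.one ⟨2484, 4, 6⟩) (.one ⟨1643, 5, 6⟩)) (.node 1 (.one ⟨4185, 5, 4⟩) (.one ⟨4872, 1, 6⟩))) (.node 2 (.node 1 (.one ⟨10718, 2, 4⟩) (.one ⟨6003, 0, 4⟩)) (.node 1 (.one ⟨3475, 0, 5⟩) (.one ⟨5870, 2, 7⟩))))) (.node 8 (.node 4 (.node 2 (.node 1 (.one ⟨10443, 1, 5⟩) (.one ⟨16847, 0, 5⟩)) (.node 1 (.one ⟨16452, 4, 6⟩) (.one ⟨13128, 2, 5⟩))) (.node 2 (.node 1 (.one ⟨12311, 1, 6⟩) (.one ⟨15133, 5, 5⟩))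 (.node 1 (.one ⟨2655, 1, 5⟩) (.one ⟨10243, 2, 3⟩)))) (.node 4 (.node 2 (.node 1 (.one ⟨11298, 5, 4⟩) (.one ⟨6237, 3, 5⟩)) (.node 1 (.one ⟨1148, 0, 4⟩) (.one ⟨9048, 2, 5⟩))) (.node 2 (.node 1 (.one ⟨15549, 4, 6⟩) (.one ⟨5949, 3, 5⟩)) (.node 1 (.one ⟨5669, 3, 5⟩) (.one ⟨15552, 4, 5⟩)))))) (.node 16 (.node 8 (.node 4 (.node 2 (.node 1 (.one ⟨639, 4, 5⟩) (.one ⟨11199, 1, 5⟩)) (.node 1 (.one ⟨230, 5, 5⟩) (.one ⟨8628, 3, 5⟩))) (.node 2 (.node 1 (.one ⟨3150, 5, 6⟩) (.one ⟨952, 5, 5⟩)) (.node 1 (.one ⟨461, 5, 5⟩) (.one ⟨15636, 5, 5⟩)))) (.node 4 (.node 2 (.node 1 (.one ⟨11281, 1, 6⟩) (.one ⟨7401, 2, 6⟩)) (.node 1 (.one ⟨13034, 0, 6⟩) (.one ⟨9468, 3, 6⟩))) (.node 2 (.node 1 (.one ⟨4760, 5, 6⟩) (.one ⟨10278, 5, 6⟩)) (.node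 1 (.one ⟨4241, 3, 6⟩) (.one ⟨5637, 4, 5⟩))))) (.node 8 (.node 4 (.node 2 (.node 1 (.one ⟨16586, 4, 5⟩) (.one ⟨152, 1, 5⟩)) (.node 1 (.one ⟨914, 5, 4⟩) (.one ⟨11226, 5, 5⟩))) (.node 2 (.node 1 (.one ⟨4138, 0, 5⟩) (.one ⟨11248, 1, 5⟩)) (.node 1 (.one ⟨1969, 2, 5⟩) (.one ⟨14419, 0, 6⟩)))) (.node 4 (.node 2 (.node 1 (.one ⟨13712, 4, 5⟩) (.one ⟨5014, 4, 5⟩)) (.node 1 (.one ⟨16968, 2, 5⟩) (.one ⟨13199, 5, 6⟩))) (.node 2 (.node 1 (.one ⟨11311, 0, 5⟩) (.one ⟨15897, 5, 6⟩)) (.node 1 (.one ⟨5277, 5, 6⟩) (.one ⟨14487, 5, 6⟩)))))))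
def par2_9_6 : Arr Par :=
  (.node 32 (.node 16 (.node 8 (.node 4 (.node 2 (.node 1 (.one ⟨7977, 5, 6⟩) (.one ⟨15208, 5, 5⟩)) (.node 1 (.one ⟨7581, 1, 5⟩) (.one ⟨2853, 5, 6⟩))) (.node 2 (.node 1 (.one ⟨1455, 0, 5⟩) (.one ⟨10767, 2, 5⟩)) (.node 1 (.one ⟨15266, 2, 4⟩) (.one ⟨17078, 5, 5⟩)))) (.node 4 (.node 2 (.node 1 (.one ⟨6744, 5, 5⟩) (.one ⟨4914, 5, 6⟩)) (.node 1 (.one ⟨14838, 1, 6⟩) (.one ⟨7880, 2, 5⟩))) (.node 2 (.node 1 (.one ⟨10437, 5, 6⟩) (.one ⟨8608, 4, 6⟩)) (.node 1 (.one ⟨5696, 5, 6⟩) (.one ⟨14295, 3, 4⟩))))) (.node 8 (.node 4 (.node 2 (.node 1 (.one ⟨7527, 0, 6⟩) (.one ⟨15781, 4, 4⟩)) (.node 1 (.one ⟨14427, 5, 5⟩) (.one ⟨3954, 5, 6⟩))) (.node 2 (.node 1 (.one ⟨6273, 2, 5⟩) (.one ⟨3622, 4, 4⟩)) (.node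 1 (.one ⟨16150, 0, 6⟩) (.one ⟨14715, 1, 5⟩)))) (.node 4 (.node 2 (.node 1 (.one ⟨3201, 0, 5⟩) (.one ⟨5104, 5, 6⟩)) (.node 1 (.one ⟨5294, 5, 6⟩) (.one ⟨2817, 1, 3⟩))) (.node 2 (.node 1 (.one ⟨10696, 0, 6⟩) (.one ⟨14655, 3, 4⟩)) (.node 1 (.one ⟨17045, 4, 5⟩) (.one ⟨1961, 4, 4⟩)))))) (.node 16 (.node 8 (.node 4 (.node 2 (.node 1 (.one ⟨3235, 5, 4⟩) (.one ⟨15860, 1, 3⟩)) (.node 1 (.one ⟨5196, 3, 6⟩) (.one ⟨375, 1, 6⟩))) (.node 2 (.node 1 (.one ⟨4965, 4, 6⟩) (.one ⟨12503, 4, 6⟩)) (.node 1 (.one ⟨12129, 4, 6⟩) (.one ⟨7883, 4, 6⟩)))) (.node 4 (.node 2 (.node 1 (.one ⟨14730, 3, 5⟩) (.one ⟨15970, 5, 6⟩)) (.node 1 (.one ⟨6345, 4, 5⟩) (.one ⟨8563, 1, 5⟩))) (.node 2 (.node 1 (.one ⟨16681, 4, 6⟩) (.one ⟨16048, 0, 6⟩)) (.node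 1 (.one ⟨14584, 2, 6⟩) (.one ⟨2218, 0, 3⟩))))) (.node 8 (.node 4 (.node 2 (.node 1 (.one ⟨1355, 3, 6⟩) (.one ⟨8285, 5, 4⟩)) (.node 1 (.one ⟨2152, 0, 6⟩) (.one ⟨289, 1, 6⟩))) (.node 2 (.node 1 (.one ⟨3848, 0, 4⟩) (.one ⟨13431, 4, 4⟩)) (.node 1 (.one ⟨2389, 2, 5⟩) (.one ⟨6891, 1, 5⟩)))) (.node 4 (.node 2 (.node 1 (.one ⟨16509, 3, 3⟩) (.one ⟨2259, 1, 4⟩)) (.node 1 (.one ⟨7240, 1, 6⟩) (.one ⟨11828, 5, 5⟩))) (.node 2 (.node 1 (.one ⟨7406, 4, 6⟩) (.one ⟨123, 1, 4⟩)) (.node 1 (.one ⟨14469, 2, 5⟩) (.one ⟨13412, 3, 5⟩)))))))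
def par2_9_7 : Arr Par :=
  (.node 32 (.node 16 (.node 8 (.node 4 (.node 2 (.node 1 (.one ⟨10660, 5, 5⟩) (.one ⟨2635, 5, 5⟩)) (.node 1 (.one ⟨13381, 3, 4⟩) (.one ⟨2894, 4, 5⟩))) (.node 2 (.node 1 (.one ⟨11844, 5, 6⟩) (.one ⟨3739, 5, 6⟩)) (.node 1 (.one ⟨14053, 4, 5⟩) (.one ⟨12964, 5, 5⟩)))) (.node 4 (.node 2 (.node 1 (.one ⟨13872, 1, 4⟩) (.one ⟨4175, 5, 3⟩)) (.node 1 (.one ⟨12300, 3, 7⟩) (.one ⟨3320, 1, 3⟩))) (.node 2 (.node 1 (.one ⟨14661, 4, 3⟩) (.one ⟨15445, 4, 5⟩)) (.node 1 (.one ⟨2983, 5, 4⟩) (.one ⟨11142, 2, 5⟩))))) (.node 8 (.node 4 (.node 2 (.node 1 (.one ⟨14654, 0, 5⟩) (.one ⟨16755, 2, 5⟩)) (.node 1 (.one ⟨2635, 4, 5⟩) (.one ⟨4692, 4, 5⟩))) (.node 2 (.node 1 (.one ⟨11226, 1, 5⟩) (.one ⟨8885, 4, 6⟩))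 (.node 1 (.one ⟨5510, 4, 5⟩) (.one ⟨10172, 0, 5⟩)))) (.node 4 (.node 2 (.node 1 (.one ⟨12577, 1, 3⟩) (.one ⟨6038, 1, 6⟩)) (.node 1 (.one ⟨12294, 2, 5⟩) (.one ⟨10236, 4, 5⟩))) (.node 2 (.node 1 (.one ⟨2415, 2, 5⟩) (.one ⟨7682, 4, 6⟩)) (.node 1 (.one ⟨2788, 1, 6⟩) (.one ⟨11150, 0, 5⟩)))))) (.node 16 (.node 8 (.node 4 (.node 2 (.node 1 (.one ⟨5142, 0, 5⟩) (.one ⟨5315, 4, 4⟩)) (.node 1 (.one ⟨3365, 3, 7⟩) (.one ⟨12060, 2, 5⟩))) (.node 2 (.node 1 (.one ⟨8437, 4, 6⟩) (.one ⟨4967, 3, 6⟩)) (.node 1 (.one ⟨16731, 0, 7⟩) (.one ⟨15854, 2, 4⟩)))) (.node 4 (.node 2 (.node 1 (.one ⟨4551, 4, 6⟩) (.one ⟨4732, 5, 5⟩)) (.node 1 (.one ⟨14718, 1, 5⟩) (.one ⟨16284, 2, 4⟩))) (.node 2 (.node 1 (.one ⟨8835, 2, 4⟩) (.one ⟨14476, 2,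 5⟩)) (.node 1 (.one ⟨15379, 0, 5⟩) (.one ⟨8731, 2, 6⟩))))) (.node 8 (.node 4 (.node 2 (.node 1 (.one ⟨2745, 4, 5⟩) (.one ⟨15151, 1, 5⟩)) (.node 1 (.one ⟨5985, 3, 5⟩) (.one ⟨352, 0, 5⟩))) (.node 2 (.node 1 (.one ⟨13935, 0, 4⟩) (.one ⟨16909, 3, 5⟩)) (.node 1 (.one ⟨7886, 4, 6⟩) (.one ⟨3804, 3, 6⟩)))) (.node 4 (.node 2 (.node 1 (.one ⟨2677, 1, 4⟩) (.one ⟨16940, 1, 6⟩)) (.node 1 (.one ⟨1496, 4, 5⟩) (.one ⟨1003, 3, 5⟩))) (.node 2 (.node 1 (.one ⟨5393, 1, 6⟩) (.one ⟨3805, 3, 5⟩)) (.node 1 (.one ⟨14516, 5, 6⟩) (.one ⟨1323, 4, 5⟩)))))))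
def par2_9_8 : Arr Par :=
  (.node 32 (.node 16 (.node 8 (.node 4 (.node 2 (.node 1 (.one ⟨2709, 5, 6⟩) (.one ⟨2502, 1, 6⟩)) (.node 1 (.one ⟨6216, 3, 6⟩) (.one ⟨16119, 1, 5⟩))) (.node 2 (.node 1 (.one ⟨14359, 3, 4⟩) (.one ⟨922, 1, 6⟩)) (.node 1 (.one ⟨9030, 2, 5⟩) (.one ⟨920, 5, 6⟩)))) (.node 4 (.node 2 (.node 1 (.one ⟨894, 5, 5⟩) (.one ⟨11166, 1, 5⟩)) (.node 1 (.one ⟨8377, 0, 6⟩) (.one ⟨3134, 4, 5⟩))) (.node 2 (.node 1 (.one ⟨4768, 0, 5⟩) (.one ⟨12923, 4, 5⟩)) (.node 1 (.one ⟨10428, 5, 6⟩) (.one ⟨6943, 2, 5⟩))))) (.node 8 (.node 4 (.node 2 (.node 1 (.one ⟨5758, 2, 5⟩) (.one ⟨7066, 3, 4⟩)) (.node 1 (.one ⟨8216, 2, 4⟩) (.one ⟨5810, 3, 5⟩))) (.node 2 (.node 1 (.one ⟨8552, 4, 5⟩) (.one ⟨15275, 5, 6⟩)) (.node 1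 (.one ⟨352, 1, 5⟩) (.one ⟨2009, 2, 5⟩)))) (.node 4 (.node 2 (.node 1 (.one ⟨254, 2, 5⟩) (.one ⟨5257, 5, 4⟩)) (.node 1 (.one ⟨659, 4, 6⟩) (.one ⟨13931, 5, 4⟩))) (.node 2 (.node 1 (.one ⟨2697, 4, 5⟩) (.one ⟨12081, 4, 5⟩)) (.node 1 (.one ⟨12897, 4, 6⟩) (.one ⟨4597, 2, 5⟩)))))) (.node 16 (.node 8 (.node 4 (.node 2 (.node 1 (.one ⟨7589, 5, 5⟩) (.one ⟨13349, 0, 3⟩)) (.node 1 (.one ⟨10698, 1, 5⟩) (.one ⟨10411, 3, 4⟩))) (.node 2 (.node 1 (.one ⟨6217, 3, 4⟩) (.one ⟨9493, 0, 6⟩)) (.node 1 (.one ⟨10908, 3, 3⟩) (.one ⟨12286, 5, 5⟩)))) (.node 4 (.node 2 (.node 1 (.one ⟨8886, 1, 6⟩) (.one ⟨2633, 5, 6⟩)) (.node 1 (.one ⟨8699, 1, 6⟩) (.one ⟨10933, 4, 4⟩))) (.node 2 (.node 1 (.one ⟨14248, 3, 6⟩) (.one ⟨4081, 4, 6⟩)) (.node 1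 (.one ⟨13818, 3, 4⟩) (.one ⟨2463, 1, 5⟩))))) (.node 8 (.node 4 (.node 2 (.node 1 (.one ⟨13303, 4, 5⟩) (.one ⟨3413, 5, 5⟩)) (.node 1 (.one ⟨671, 3, 4⟩) (.one ⟨14757, 4, 5⟩))) (.node 2 (.node 1 (.one ⟨14205, 4, 3⟩) (.one ⟨3419, 5, 5⟩)) (.node 1 (.one ⟨3377, 4, 4⟩) (.one ⟨2007, 1, 5⟩)))) (.node 4 (.node 2 (.node 1 (.one ⟨373, 1, 6⟩) (.one ⟨253, 1, 5⟩)) (.node 1 (.one ⟨6869, 3, 5⟩) (.one ⟨2009, 1, 5⟩))) (.node 2 (.node 1 (.one ⟨11, 1, 5⟩) (.one ⟨15619, 2, 5⟩)) (.node 1 (.one ⟨3453, 2, 6⟩) (.one ⟨5141, 5, 5⟩)))))))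
def par2_9_9 : Arr Par :=
  (.node 32 (.node 16 (.node 8 (.node 4 (.node 2 (.node 1 (.one ⟨11385, 4, 6⟩) (.one ⟨2931, 0, 4⟩)) (.node 1 (.one ⟨201, 3, 4⟩) (.one ⟨7648, 3, 5⟩))) (.node 2 (.node 1 (.one ⟨2620, 1, 5⟩) (.one ⟨4084, 5, 5⟩)) (.node 1 (.one ⟨16034, 2, 4⟩) (.one ⟨2091, 1, 6⟩)))) (.node 4 (.node 2 (.node 1 (.one ⟨8213, 2, 5⟩) (.one ⟨3075, 3, 5⟩)) (.node 1 (.one ⟨9346, 5, 6⟩) (.one ⟨1986, 2, 4⟩))) (.node 2 (.node 1 (.one ⟨15727, 0, 5⟩) (.one ⟨10789, 1, 5⟩)) (.node 1 (.one ⟨481, 5, 4⟩) (.one ⟨12429, 1, 5⟩))))) (.node 8 (.node 4 (.node 2 (.node 1 (.one ⟨4148, 4, 6⟩) (.one ⟨7113, 2, 6⟩)) (.node 1 (.one ⟨12408, 0, 5⟩) (.one ⟨4774, 5, 5⟩))) (.node 2 (.node 1 (.one ⟨11463, 1, 6⟩) (.one ⟨10032, 3, 3⟩)) (.node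 1 (.one ⟨9237, 0, 5⟩) (.one ⟨11057, 4, 3⟩)))) (.node 4 (.node 2 (.node 1 (.one ⟨4568, 3, 6⟩) (.one ⟨12438, 0, 5⟩)) (.node 1 (.one ⟨13740, 5, 6⟩) (.one ⟨1203, 5, 4⟩))) (.node 2 (.node 1 (.one ⟨10759, 1, 1⟩) (.one ⟨15187, 0, 5⟩)) (.node 1 (.one ⟨7331, 3, 6⟩) (.one ⟨5880, 3, 5⟩)))))) (.node 16 (.node 8 (.node 4 (.node 2 (.node 1 (.one ⟨4339, 0, 6⟩) (.one ⟨5930, 1, 5⟩)) (.node 1 (.one ⟨16737, 4, 5⟩) (.one ⟨7168, 5, 5⟩))) (.node 2 (.node 1 (.one ⟨11817, 1, 5⟩) (.one ⟨12041, 5, 4⟩)) (.node 1 (.one ⟨12577, 0, 3⟩) (.one ⟨5478, 4, 5⟩)))) (.node 4 (.node 2 (.node 1 (.one ⟨590, 0, 3⟩) (.one ⟨9033, 4, 5⟩)) (.node 1 (.one ⟨8039, 4, 3⟩) (.one ⟨605, 0, 6⟩))) (.node 2 (.node 1 (.one ⟨6523, 5, 5⟩) (.one ⟨7654, 5, 6⟩)) (.node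 1 (.one ⟨1054, 4, 5⟩) (.one ⟨9463, 5, 5⟩))))) (.node 8 (.node 4 (.node 2 (.node 1 (.one ⟨8491, 3, 5⟩) (.one ⟨15136, 3, 4⟩)) (.node 1 (.one ⟨16959, 1, 5⟩) (.one ⟨3329, 1, 6⟩))) (.node 2 (.node 1 (.one ⟨793, 2, 5⟩) (.one ⟨12458, 4, 5⟩)) (.node 1 (.one ⟨11131, 3, 6⟩) (.one ⟨3528, 5, 6⟩)))) (.node 4 (.node 2 (.node 1 (.one ⟨9923, 3, 5⟩) (.one ⟨3531, 5, 4⟩)) (.node 1 (.one ⟨15109, 1, 5⟩) (.one ⟨13007, 4, 4⟩))) (.node 2 (.node 1 (.one ⟨3534, 5, 6⟩) (.one ⟨11451, 3, 6⟩)) (.node 1 (.one ⟨10224, 4, 6⟩) (.one ⟨15610, 4, 5⟩)))))))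
def par2_9_10 : Arr Par :=
  (.node 32 (.node 16 (.node 8 (.node 4 (.node 2 (.node 1 (.one ⟨1803, 1, 4⟩) (.one ⟨9367, 4, 5⟩)) (.node 1 (.one ⟨15110, 5, 6⟩) (.one ⟨9259, 4, 6⟩))) (.node 2 (.node 1 (.one ⟨2707, 3, 4⟩) (.one ⟨2943, 0, 4⟩)) (.node 1 (.one ⟨967, 3, 5⟩) (.one ⟨3166, 5, 6⟩)))) (.node 4 (.node 2 (.node 1 (.one ⟨7171, 4, 5⟩) (.one ⟨4885, 5, 6⟩)) (.node 1 (.one ⟨10612, 5, 5⟩) (.one ⟨11746, 0, 3⟩))) (.node 2 (.node 1 (.one ⟨4356, 2, 6⟩) (.one ⟨12273, 5, 5⟩)) (.node 1 (.one ⟨15036, 3, 4⟩) (.one ⟨12323, 5, 5⟩))))) (.node 8 (.node 4 (.node 2 (.node 1 (.one ⟨16745, 4, 4⟩) (.one ⟨13715, 1, 5⟩)) (.node 1 (.one ⟨6423, 3, 5⟩) (.one ⟨1790, 4, 6⟩))) (.node 2 (.node 1 (.one ⟨9788, 4, 6⟩) (.one ⟨9621, 3, 5⟩)) (.node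 1 (.one ⟨10940, 5, 6⟩) (.one ⟨10222, 4, 6⟩)))) (.node 4 (.node 2 (.node 1 (.one ⟨16338, 1, 6⟩) (.one ⟨15724, 4, 5⟩)) (.node 1 (.one ⟨5660, 0, 5⟩) (.one ⟨14798, 1, 5⟩))) (.node 2 (.node 1 (.one ⟨12704, 1, 6⟩) (.one ⟨963, 0, 6⟩)) (.node 1 (.one ⟨2688, 3, 6⟩) (.one ⟨9940, 4, 4⟩)))))) (.node 16 (.node 8 (.node 4 (.node 2 (.node 1 (.one ⟨16486, 0, 3⟩) (.one ⟨4304, 5, 6⟩)) (.node 1 (.one ⟨2136, 4, 5⟩) (.one ⟨6988, 2, 5⟩))) (.node 2 (.node 1 (.one ⟨1280, 3, 5⟩) (.one ⟨10565, 4, 5⟩)) (.node 1 (.one ⟨10956, 2, 6⟩) (.one ⟨13780, 2, 5⟩)))) (.node 4 (.node 2 (.node 1 (.one ⟨8291, 4, 4⟩) (.one ⟨11362, 0, 6⟩)) (.node 1 (.one ⟨10928, 2, 5⟩) (.one ⟨4471, 0, 4⟩))) (.node 2 (.node 1 (.one ⟨14004, 2, 5⟩) (.one ⟨6556, 0, 6⟩)) (.node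 1 (.one ⟨666, 1, 5⟩) (.one ⟨17122, 5, 6⟩))))) (.node 8 (.node 4 (.node 2 (.node 1 (.one ⟨10720, 3, 6⟩) (.one ⟨16678, 5, 6⟩)) (.node 1 (.one ⟨959, 0, 7⟩) (.one ⟨6427, 4, 4⟩))) (.node 2 (.node 1 (.one ⟨12221, 0, 4⟩) (.one ⟨15206, 1, 6⟩)) (.node 1 (.one ⟨12305, 0, 5⟩) (.one ⟨3947, 4, 6⟩)))) (.node 4 (.node 2 (.node 1 (.one ⟨6854, 1, 6⟩) (.one ⟨5688, 0, 5⟩)) (.node 1 (.one ⟨14768, 5, 6⟩) (.one ⟨8952, 2, 6⟩))) (.node 2 (.node 1 (.one ⟨2677, 2, 4⟩) (.one ⟨3386, 3, 6⟩)) (.node 1 (.one ⟨2583, 5, 6⟩) (.one ⟨8022, 0, 6⟩)))))))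
def par2_9_11 : Arr Par :=
  (.node 32 (.node 16 (.node 8 (.node 4 (.node 2 (.node 1 (.one ⟨4989, 2, 5⟩) (.one ⟨2152, 3, 6⟩)) (.node 1 (.one ⟨3543, 3, 6⟩) (.one ⟨14382, 5, 4⟩))) (.node 2 (.node 1 (.one ⟨5532, 2, 5⟩) (.one ⟨5142, 5, 5⟩)) (.node 1 (.one ⟨10864, 1, 5⟩) (.one ⟨1509, 0, 5⟩)))) (.node 4 (.node 2 (.node 1 (.one ⟨708, 0, 4⟩) (.one ⟨5433, 4, 4⟩)) (.node 1 (.one ⟨11859, 4, 4⟩) (.one ⟨4261, 4, 5⟩))) (.node 2 (.node 1 (.one ⟨13009, 4, 4⟩) (.one ⟨10502, 4, 6⟩)) (.node 1 (.one ⟨2785, 4, 5⟩) (.one ⟨12547, 5, 6⟩))))) (.node 8 (.node 4 (.node 2 (.node 1 (.one ⟨2792, 5, 4⟩) (.one ⟨3461, 5, 6⟩)) (.node 1 (.one ⟨11625, 5, 5⟩) (.one ⟨8117, 5, 5⟩))) (.node 2 (.node 1 (.one ⟨12279, 0, 3⟩) (.one ⟨15411, 5, 5⟩)) (.node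 1 (.one ⟨6679, 4, 4⟩) (.one ⟨11150, 5, 5⟩)))) (.node 4 (.node 2 (.node 1 (.one ⟨2256, 0, 5⟩) (.one ⟨12304, 1, 6⟩)) (.node 1 (.one ⟨3431, 0, 5⟩) (.one ⟨9132, 4, 3⟩))) (.node 2 (.node 1 (.one ⟨11597, 5, 5⟩) (.one ⟨8729, 5, 5⟩)) (.node 1 (.one ⟨15512, 4, 6⟩) (.one ⟨12582, 4, 5⟩)))))) (.node 16 (.node 8 (.node 4 (.node 2 (.node 1 (.one ⟨9629, 4, 5⟩) (.one ⟨5105, 3, 4⟩)) (.node 1 (.one ⟨16070, 5, 6⟩) (.one ⟨5548, 2, 5⟩))) (.node 2 (.node 1 (.one ⟨11182, 5, 4⟩) (.one ⟨3962, 3, 6⟩)) (.node 1 (.one ⟨4433, 0, 6⟩) (.one ⟨5433, 2, 4⟩)))) (.node 4 (.node 2 (.node 1 (.one ⟨5660, 5, 5⟩) (.one ⟨5159, 2, 5⟩)) (.node 1 (.one ⟨772, 3, 5⟩) (.one ⟨1134, 4, 6⟩))) (.node 2 (.node 1 (.one ⟨4135, 5, 7⟩) (.one ⟨12118, 3, 6⟩)) (.node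 1 (.one ⟨770, 3, 4⟩) (.one ⟨5984, 4, 5⟩))))) (.node 8 (.node 4 (.node 2 (.node 1 (.one ⟨15722, 4, 5⟩) (.one ⟨12696, 1, 5⟩)) (.node 1 (.one ⟨994, 0, 4⟩) (.one ⟨11439, 5, 6⟩))) (.node 2 (.node 1 (.one ⟨3745, 5, 5⟩) (.one ⟨1451, 2, 6⟩)) (.node 1 (.one ⟨5275, 4, 6⟩) (.one ⟨10709, 2, 5⟩)))) (.node 4 (.node 2 (.node 1 (.one ⟨15802, 4, 5⟩) (.one ⟨11554, 5, 6⟩)) (.node 1 (.one ⟨15706, 1, 5⟩) (.one ⟨593, 2, 5⟩))) (.node 2 (.node 1 (.one ⟨2421, 1, 6⟩) (.one ⟨3013, 4, 6⟩)) (.node 1 (.one ⟨3858, 4, 5⟩) (.one ⟨12951, 2, 4⟩)))))))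
def par2_9_12 : Arr Par :=
  (.node 32 (.node 16 (.node 8 (.node 4 (.node 2 (.node 1 (.one ⟨507, 4, 6⟩) (.one ⟨1599, 4, 5⟩)) (.node 1 (.one ⟨13730, 5, 6⟩) (.one ⟨4853, 1, 6⟩))) (.node 2 (.node 1 (.one ⟨13713, 5, 6⟩) (.one ⟨12302, 3, 4⟩)) (.node 1 (.one ⟨5629, 5, 5⟩) (.one ⟨10207, 4, 3⟩)))) (.node 4 (.node 2 (.node 1 (.one ⟨10832, 4, 5⟩) (.one ⟨11847, 1, 5⟩)) (.node 1 (.one ⟨6749, 5, 6⟩) (.one ⟨1570, 0, 5⟩))) (.node 2 (.node 1 (.one ⟨10204, 3, 5⟩) (.one ⟨9216, 5, 5⟩)) (.node 1 (.one ⟨13228, 4, 5⟩) (.one ⟨9036, 3, 4⟩))))) (.node 8 (.node 4 (.node 2 (.node 1 (.one ⟨11964, 3, 3⟩) (.one ⟨8129, 5, 5⟩)) (.node 1 (.one ⟨6887, 3, 5⟩) (.one ⟨6694, 5, 6⟩))) (.node 2 (.node 1 (.one ⟨4692, 3, 5⟩) (.one ⟨12987, 0, 5⟩)) (.node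 1 (.one ⟨638, 2, 6⟩) (.one ⟨131, 5, 6⟩)))) (.node 4 (.node 2 (.node 1 (.one ⟨13369, 0, 6⟩) (.one ⟨1901, 0, 6⟩)) (.node 1 (.one ⟨12423, 2, 5⟩) (.one ⟨13452, 1, 4⟩))) (.node 2 (.node 1 (.one ⟨1070, 0, 6⟩) (.one ⟨13230, 0, 5⟩)) (.node 1 (.one ⟨6711, 1, 6⟩) (.one ⟨7448, 1, 4⟩)))))) (.node 16 (.node 8 (.node 4 (.node 2 (.node 1 (.one ⟨15113, 5, 5⟩) (.one ⟨9108, 4, 6⟩)) (.node 1 (.one ⟨9672, 1, 5⟩) (.one ⟨14264, 0, 6⟩))) (.node 2 (.node 1 (.one ⟨5343, 4, 2⟩) (.one ⟨9212, 2, 5⟩)) (.node 1 (.one ⟨15038, 2, 5⟩) (.one ⟨6816, 4, 5⟩)))) (.node 4 (.node 2 (.node 1 (.one ⟨8907, 4, 4⟩) (.one ⟨15172, 5, 6⟩)) (.node 1 (.one ⟨10146, 0, 5⟩) (.one ⟨11334, 1, 5⟩))) (.node 2 (.node 1 (.one ⟨11231, 4, 6⟩) (.one ⟨14347, 1, 4⟩)) (.node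 1 (.one ⟨592, 2, 5⟩) (.one ⟨5154, 2, 6⟩))))) (.node 8 (.node 4 (.node 2 (.node 1 (.one ⟨10512, 0, 2⟩) (.one ⟨14281, 5, 4⟩)) (.node 1 (.one ⟨10857, 2, 4⟩) (.one ⟨6008, 5, 5⟩))) (.node 2 (.node 1 (.one ⟨4114, 0, 5⟩) (.one ⟨12261, 2, 6⟩)) (.node 1 (.one ⟨8444, 5, 5⟩) (.one ⟨12612, 5, 4⟩)))) (.node 4 (.node 2 (.node 1 (.one ⟨16949, 4, 5⟩) (.one ⟨11584, 4, 5⟩)) (.node 1 (.one ⟨9688, 5, 4⟩) (.one ⟨8149, 2, 5⟩))) (.node 2 (.node 1 (.one ⟨11659, 4, 5⟩) (.one ⟨2503, 3, 6⟩)) (.node 1 (.one ⟨12963, 2, 6⟩) (.one ⟨6043, 1, 5⟩)))))))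
def par2_9_13 : Arr Par :=
  (.node 32 (.node 16 (.node 8 (.node 4 (.node 2 (.node 1 (.one ⟨11057, 2, 3⟩) (.one ⟨5379, 4, 5⟩)) (.node 1 (.one ⟨3375, 5, 6⟩) (.one ⟨8486, 3, 6⟩))) (.node 2 (.node 1 (.one ⟨15244, 4, 6⟩) (.one ⟨16712, 3, 5⟩)) (.node 1 (.one ⟨15584, 5, 6⟩) (.one ⟨10701, 3, 6⟩)))) (.node 4 (.node 2 (.node 1 (.one ⟨14007, 5, 5⟩) (.one ⟨855, 5, 5⟩)) (.node 1 (.one ⟨12615, 2, 6⟩) (.one ⟨5068, 1, 5⟩))) (.node 2 (.node 1 (.one ⟨10733, 5, 7⟩) (.one ⟨6440, 5, 6⟩)) (.node 1 (.one ⟨17030, 0, 5⟩) (.one ⟨16143, 0, 5⟩))))) (.node 8 (.node 4 (.node 2 (.node 1 (.one ⟨7718, 3, 5⟩) (.one ⟨6928, 4, 6⟩)) (.node 1 (.one ⟨956, 4, 6⟩) (.one ⟨11095, 4, 5⟩))) (.node 2 (.node 1 (.one ⟨1383, 0, 4⟩) (.one ⟨14599, 3, 1⟩)) (.node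 1 (.one ⟨8285, 1, 4⟩) (.one ⟨11635, 5, 5⟩)))) (.node 4 (.node 2 (.node 1 (.one ⟨15906, 5, 4⟩) (.one ⟨2014, 5, 5⟩)) (.node 1 (.one ⟨8205, 4, 5⟩) (.one ⟨6534, 2, 5⟩))) (.node 2 (.node 1 (.one ⟨8536, 1, 6⟩) (.one ⟨3622, 0, 4⟩)) (.node 1 (.one ⟨6794, 1, 4⟩) (.one ⟨511, 1, 5⟩)))))) (.node 16 (.node 8 (.node 4 (.node 2 (.node 1 (.one ⟨6628, 2, 6⟩) (.one ⟨3692, 5, 5⟩)) (.node 1 (.one ⟨5256, 0, 3⟩) (.one ⟨14834, 5, 6⟩))) (.node 2 (.node 1 (.one ⟨276, 5, 4⟩) (.one ⟨896, 2, 5⟩)) (.node 1 (.one ⟨11289, 1, 4⟩) (.one ⟨14182, 1, 6⟩)))) (.node 4 (.node 2 (.node 1 (.one ⟨6525, 5, 6⟩) (.one ⟨6329, 4, 4⟩)) (.node 1 (.one ⟨11614, 1, 3⟩) (.one ⟨7055, 5, 5⟩))) (.node 2 (.node 1 (.one ⟨2766, 2, 6⟩) (.one ⟨14689, 1, 4⟩)) (.node 1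 (.one ⟨11815, 0, 5⟩) (.one ⟨16341, 4, 5⟩))))) (.node 8 (.node 4 (.node 2 (.node 1 (.one ⟨1928, 4, 6⟩) (.one ⟨12820, 3, 5⟩)) (.node 1 (.one ⟨14136, 5, 6⟩) (.one ⟨4652, 2, 6⟩))) (.node 2 (.node 1 (.one ⟨12010, 1, 5⟩) (.one ⟨11848, 2, 5⟩)) (.node 1 (.one ⟨3445, 4, 6⟩) (.one ⟨6531, 2, 4⟩)))) (.node 4 (.node 2 (.node 1 (.one ⟨12769, 4, 6⟩) (.one ⟨3367, 3, 5⟩)) (.node 1 (.one ⟨8855, 4, 3⟩) (.one ⟨9391, 0, 5⟩))) (.node 2 (.node 1 (.one ⟨9099, 2, 5⟩) (.one ⟨1821, 1, 4⟩)) (.node 1 (.one ⟨13899, 5, 5⟩) (.one ⟨16478, 5, 4⟩)))))))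
def par2_9_14 : Arr Par :=
  (.node 32 (.node 16 (.node 8 (.node 4 (.node 2 (.node 1 (.one ⟨1257, 0, 5⟩) (.one ⟨6365, 2, 5⟩)) (.node 1 (.one ⟨12145, 5, 5⟩) (.one ⟨5653, 4, 5⟩))) (.node 2 (.node 1 (.one ⟨3320, 2, 3⟩) (.one ⟨10835, 2, 5⟩)) (.node 1 (.one ⟨7867, 5, 4⟩) (.one ⟨717, 1, 6⟩)))) (.node 4 (.node 2 (.node 1 (.one ⟨12314, 4, 4⟩) (.one ⟨11182, 3, 4⟩)) (.node 1 (.one ⟨2200, 4, 6⟩) (.one ⟨2745, 2, 5⟩))) (.node 2 (.node 1 (.one ⟨10034, 2, 5⟩) (.one ⟨2923, 5, 6⟩)) (.node 1 (.one ⟨6470, 0, 4⟩) (.one ⟨13034, 5, 6⟩))))) (.node 8 (.node 4 (.node 2 (.node 1 (.one ⟨10144, 5, 6⟩) (.one ⟨276, 3, 4⟩)) (.node 1 (.one ⟨16184, 4, 5⟩) (.one ⟨11400, 1, 6⟩))) (.node 2 (.node 1 (.one ⟨9539, 2, 6⟩) (.one ⟨10477, 1, 5⟩)) (.node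 1 (.one ⟨15692, 4, 5⟩) (.one ⟨16767, 2, 5⟩)))) (.node 4 (.node 2 (.node 1 (.one ⟨1928, 3, 6⟩) (.one ⟨5126, 1, 3⟩)) (.node 1 (.one ⟨346, 5, 5⟩) (.one ⟨99, 5, 5⟩))) (.node 2 (.node 1 (.one ⟨13795, 5, 6⟩) (.one ⟨8440, 1, 5⟩)) (.node 1 (.one ⟨12479, 0, 6⟩) (.one ⟨1490, 3, 6⟩)))))) (.node 16 (.node 8 (.node 4 (.node 2 (.node 1 (.one ⟨15146, 1, 5⟩) (.one ⟨9041, 3, 6⟩)) (.node 1 (.one ⟨11133, 1, 4⟩) (.one ⟨5959, 1, 5⟩))) (.node 2 (.node 1 (.one ⟨16451, 1, 2⟩) (.one ⟨1063, 0, 4⟩)) (.node 1 (.one ⟨12729, 1, 5⟩) (.one ⟨14362, 3, 4⟩)))) (.node 4 (.node 2 (.node 1 (.one ⟨1451, 5, 6⟩) (.one ⟨7833, 4, 6⟩)) (.node 1 (.one ⟨6977, 4, 5⟩) (.one ⟨11110, 0, 4⟩))) (.node 2 (.node 1 (.one ⟨1441, 3, 6⟩) (.one ⟨4312, 5, 5⟩)) (.node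 1 (.one ⟨15984, 3, 5⟩) (.one ⟨17118, 3, 4⟩))))) (.node 8 (.node 4 (.node 2 (.node 1 (.one ⟨11880, 3, 5⟩) (.one ⟨4182, 0, 5⟩)) (.node 1 (.one ⟨9734, 5, 6⟩) (.one ⟨10325, 1, 5⟩))) (.node 2 (.node 1 (.one ⟨10642, 0, 5⟩) (.one ⟨2594, 0, 6⟩)) (.node 1 (.one ⟨6061, 5, 6⟩) (.one ⟨13419, 5, 6⟩)))) (.node 4 (.node 2 (.node 1 (.one ⟨13604, 5, 5⟩) (.one ⟨4768, 3, 5⟩)) (.node 1 (.one ⟨15249, 3, 5⟩) (.one ⟨15952, 2, 6⟩))) (.node 2 (.node 1 (.one ⟨6166, 4, 4⟩) (.one ⟨15831, 0, 6⟩)) (.node 1 (.one ⟨8757, 4, 6⟩) (.one ⟨6831, 4, 5⟩)))))))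
def par2_9_15 : Arr Par :=
  (.node 32 (.node 16 (.node 8 (.node 4 (.node 2 (.node 1 (.one ⟨11905, 3, 6⟩) (.one ⟨7747, 2, 6⟩)) (.node 1 (.one ⟨911, 5, 5⟩) (.one ⟨8383, 1, 5⟩))) (.node 2 (.node 1 (.one ⟨2682, 0, 6⟩) (.one ⟨13731, 4, 5⟩)) (.node 1 (.one ⟨3623, 0, 5⟩) (.one ⟨5674, 5, 6⟩)))) (.node 4 (.node 2 (.node 1 (.one ⟨12995, 4, 5⟩) (.one ⟨921, 1, 6⟩)) (.node 1 (.one ⟨13424, 2, 5⟩) (.one ⟨10320, 2, 5⟩))) (.node 2 (.node 1 (.one ⟨3176, 4, 5⟩) (.one ⟨5417, 5, 6⟩)) (.node 1 (.one ⟨5864, 5, 5⟩) (.one ⟨5448, 4, 6⟩))))) (.node 8 (.node 4 (.node 2 (.node 1 (.one ⟨16782, 1, 5⟩) (.one ⟨12183, 2, 3⟩)) (.node 1 (.one ⟨10441, 5, 5⟩) (.one ⟨11830, 1, 6⟩))) (.node 2 (.node 1 (.one ⟨5624, 2, 5⟩) (.one ⟨10636, 5, 6⟩)) (.node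 1 (.one ⟨15501, 4, 5⟩) (.one ⟨9223, 2, 6⟩)))) (.node 4 (.node 2 (.node 1 (.one ⟨3767, 4, 6⟩) (.one ⟨10431, 4, 5⟩)) (.node 1 (.one ⟨5930, 5, 5⟩) (.one ⟨11855, 0, 6⟩))) (.node 2 (.node 1 (.one ⟨10857, 1, 4⟩) (.one ⟨16926, 1, 6⟩)) (.node 1 (.one ⟨15610, 3, 5⟩) (.one ⟨2727, 4, 2⟩)))))) (.node 16 (.node 8 (.node 4 (.node 2 (.node 1 (.one ⟨1028, 5, 6⟩) (.one ⟨11133, 2, 4⟩)) (.node 1 (.one ⟨5818, 5, 6⟩) (.one ⟨15481, 3, 6⟩))) (.node 2 (.node 1 (.one ⟨7291, 3, 5⟩) (.one ⟨5257, 0, 4⟩)) (.node 1 (.one ⟨14441, 3, 5⟩) (.one ⟨6705, 2, 6⟩)))) (.node 4 (.node 2 (.node 1 (.one ⟨14498, 3, 5⟩) (.one ⟨3056, 0, 6⟩)) (.node 1 (.one ⟨10243, 1, 3⟩) (.one ⟨309, 3, 5⟩))) (.node 2 (.node 1 (.one ⟨7541, 1, 5⟩) (.one ⟨8509, 0, 5⟩)) (.node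 1 (.one ⟨3669, 4, 5⟩) (.one ⟨538, 3, 5⟩))))) (.node 8 (.node 4 (.node 2 (.node 1 (.one ⟨250, 4, 5⟩) (.one ⟨3804, 5, 6⟩)) (.node 1 (.one ⟨3618, 0, 5⟩) (.one ⟨7521, 1, 5⟩))) (.node 2 (.node 1 (.one ⟨6761, 0, 6⟩) (.one ⟨10048, 3, 4⟩)) (.node 1 (.one ⟨3361, 1, 5⟩) (.one ⟨6949, 3, 5⟩)))) (.node 4 (.node 2 (.node 1 (.one ⟨13682, 5, 6⟩) (.one ⟨261, 5, 6⟩)) (.node 1 (.one ⟨1954, 0, 5⟩) (.one ⟨1935, 0, 3⟩))) (.node 2 (.node 1 (.one ⟨14178, 5, 4⟩) (.one ⟨13607, 4, 4⟩)) (.node 1 (.one ⟨294, 1, 5⟩) (.one ⟨1332, 1, 6⟩)))))))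
def par2_9 : Arr Par :=
  (.node 512 (.node 256 (.node 128 (.node 64 par2_9_0 par2_9_1) (.node 64 par2_9_2 par2_9_3)) (.node 128 (.node 64 par2_9_4 par2_9_5) (.node 64 par2_9_6 par2_9_7))) (.node 256 (.node 128 (.node 64 par2_9_8 par2_9_9) (.node 64 par2_9_10 par2_9_11)) (.node 128 (.node 64 par2_9_12 par2_9_13) (.node 64 par2_9_14 par2_9_15))))
def par2_10_0 : Arr Par :=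
  (.node 32 (.node 16 (.node 8 (.node 4 (.node 2 (.node 1 (.one ⟨5668, 5, 5⟩) (.one ⟨16254, 5, 5⟩)) (.node 1 (.one ⟨13645, 5, 6⟩) (.one ⟨16213, 2, 2⟩))) (.node 2 (.node 1 (.one ⟨16448, 3, 4⟩) (.one ⟨2212, 0, 4⟩)) (.node 1 (.one ⟨11098, 3, 4⟩) (.one ⟨9550, 5, 6⟩)))) (.node 4 (.node 2 (.node 1 (.one ⟨11170, 1, 6⟩) (.one ⟨11690, 5, 5⟩)) (.node 1 (.one ⟨15704, 5, 5⟩) (.one ⟨4356, 1, 6⟩))) (.node 2 (.node 1 (.one ⟨16164, 3, 4⟩) (.one ⟨1945, 3, 6⟩)) (.node 1 (.one ⟨13436, 4, 5⟩) (.one ⟨9438, 2, 5⟩))))) (.node 8 (.node 4 (.node 2 (.node 1 (.one ⟨10116, 0, 4⟩) (.one ⟨6290, 3, 6⟩)) (.node 1 (.one ⟨13972, 1, 6⟩) (.one ⟨7666, 4, 7⟩))) (.node 2 (.node 1 (.one ⟨5075, 5, 5⟩) (.one ⟨16330, 2, 5⟩)) (.node 1 (.one ⟨1471, 1,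 6⟩) (.one ⟨2981, 2, 5⟩)))) (.node 4 (.node 2 (.node 1 (.one ⟨8384, 1, 5⟩) (.one ⟨8560, 5, 6⟩)) (.node 1 (.one ⟨5451, 0, 6⟩) (.one ⟨7586, 5, 6⟩))) (.node 2 (.node 1 (.one ⟨3023, 4, 5⟩) (.one ⟨2972, 2, 5⟩)) (.node 1 (.one ⟨15452, 1, 5⟩) (.one ⟨9155, 5, 6⟩)))))) (.node 16 (.node 8 (.node 4 (.node 2 (.node 1 (.one ⟨5376, 1, 4⟩) (.one ⟨5798, 0, 4⟩)) (.node 1 (.one ⟨240, 4, 6⟩) (.one ⟨5940, 5, 6⟩))) (.node 2 (.node 1 (.one ⟨2478, 2, 4⟩) (.one ⟨1651, 0, 5⟩)) (.node 1 (.one ⟨4540, 3, 5⟩) (.one ⟨1466, 2, 6⟩)))) (.node 4 (.node 2 (.node 1 (.one ⟨4399, 3, 6⟩) (.one ⟨2964, 5, 3⟩)) (.node 1 (.one ⟨882, 0, 5⟩) (.one ⟨9040, 3, 5⟩))) (.node 2 (.node 1 (.one ⟨16734, 5, 5⟩) (.one ⟨6780, 3, 5⟩)) (.node 1 (.one ⟨10212, 1, 6⟩) (.one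 ⟨9203, 5, 5⟩))))) (.node 8 (.node 4 (.node 2 (.node 1 (.one ⟨16462, 3, 5⟩) (.one ⟨11107, 4, 4⟩)) (.node 1 (.one ⟨11108, 4, 6⟩) (.one ⟨466, 2, 6⟩))) (.node 2 (.node 1 (.one ⟨11105, 4, 6⟩) (.one ⟨14935, 5, 4⟩)) (.node 1 (.one ⟨11110, 4, 4⟩) (.one ⟨8259, 1, 6⟩)))) (.node 4 (.node 2 (.node 1 (.one ⟨16824, 1, 5⟩) (.one ⟨8027, 5, 5⟩)) (.node 1 (.one ⟨5334, 3, 5⟩) (.one ⟨10683, 2, 5⟩))) (.node 2 (.node 1 (.one ⟨5366, 3, 6⟩) (.one ⟨16444, 2, 5⟩)) (.node 1 (.one ⟨10680, 2, 6⟩) (.one ⟨6847, 4, 5⟩)))))))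
def par2_10_1 : Arr Par :=
  (.node 32 (.node 16 (.node 8 (.node 4 (.node 2 (.node 1 (.one ⟨12108, 2, 4⟩) (.one ⟨14007, 4, 5⟩)) (.node 1 (.one ⟨11194, 5, 6⟩) (.one ⟨2112, 2, 5⟩))) (.node 2 (.node 1 (.one ⟨6593, 1, 6⟩) (.one ⟨8147, 4, 6⟩)) (.node 1 (.one ⟨9117, 2, 4⟩) (.one ⟨14391, 0, 4⟩)))) (.node 4 (.node 2 (.node 1 (.one ⟨3304, 2, 6⟩) (.one ⟨11628, 2, 6⟩)) (.node 1 (.one ⟨2400, 0, 5⟩) (.one ⟨11068, 3, 6⟩))) (.node 2 (.node 1 (.one ⟨7281, 2, 4⟩) (.one ⟨14420, 5, 5⟩)) (.node 1 (.one ⟨10583, 5, 5⟩) (.one ⟨11383, 3, 5⟩))))) (.node 8 (.node 4 (.node 2 (.node 1 (.one ⟨15794, 4, 4⟩) (.one ⟨15277, 3, 5⟩)) (.node 1 (.one ⟨3058, 5, 6⟩) (.one ⟨5783, 1, 1⟩))) (.node 2 (.node 1 (.one ⟨15328, 4, 6⟩) (.one ⟨7046, 2, 4⟩))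 (.node 1 (.one ⟨2820, 3, 5⟩) (.one ⟨180, 1, 5⟩)))) (.node 4 (.node 2 (.node 1 (.one ⟨9044, 0, 6⟩) (.one ⟨13276, 0, 5⟩)) (.node 1 (.one ⟨2503, 5, 6⟩) (.one ⟨8784, 3, 5⟩))) (.node 2 (.node 1 (.one ⟨14251, 0, 5⟩) (.one ⟨16216, 4, 6⟩)) (.node 1 (.one ⟨9161, 3, 6⟩) (.one ⟨8082, 3, 6⟩)))))) (.node 16 (.node 8 (.node 4 (.node 2 (.node 1 (.one ⟨4695, 4, 6⟩) (.one ⟨15010, 4, 5⟩)) (.node 1 (.one ⟨1575, 5, 6⟩) (.one ⟨5783, 0, 1⟩))) (.node 2 (.node 1 (.one ⟨279, 5, 5⟩) (.one ⟨13669, 1, 5⟩)) (.node 1 (.one ⟨6160, 1, 4⟩) (.one ⟨7924, 5, 6⟩)))) (.node 4 (.node 2 (.node 1 (.one ⟨6197, 5, 5⟩) (.one ⟨896, 4, 5⟩)) (.node 1 (.one ⟨7733, 2, 6⟩) (.one ⟨5391, 0, 5⟩))) (.node 2 (.node 1 (.one ⟨13443, 3, 5⟩) (.one ⟨10759, 2, 1⟩)) (.node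 1 (.one ⟨5471, 0, 6⟩) (.one ⟨11577, 5, 4⟩))))) (.node 8 (.node 4 (.node 2 (.node 1 (.one ⟨15578, 2, 5⟩) (.one ⟨1224, 3, 5⟩)) (.node 1 (.one ⟨8792, 0, 6⟩) (.one ⟨3029, 0, 6⟩))) (.node 2 (.node 1 (.one ⟨4431, 0, 5⟩) (.one ⟨11574, 3, 6⟩)) (.node 1 (.one ⟨16085, 5, 5⟩) (.one ⟨13190, 0, 5⟩)))) (.node 4 (.node 2 (.node 1 (.one ⟨12602, 1, 6⟩) (.one ⟨2838, 5, 5⟩)) (.node 1 (.one ⟨902, 4, 5⟩) (.one ⟨2957, 2, 5⟩))) (.node 2 (.node 1 (.one ⟨9679, 5, 6⟩) (.one ⟨4519, 0, 5⟩)) (.node 1 (.one ⟨15362, 3, 4⟩) (.one ⟨14701, 4, 4⟩)))))))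
def par2_10_2 : Arr Par :=
  (.node 32 (.node 16 (.node 8 (.node 4 (.node 2 (.node 1 (.one ⟨10443, 0, 5⟩) (.one ⟨17185, 5, 6⟩)) (.node 1 (.one ⟨233, 4, 4⟩) (.one ⟨1727, 1, 2⟩))) (.node 2 (.node 1 (.one ⟨4287, 2, 6⟩) (.one ⟨5831, 1, 5⟩)) (.node 1 (.one ⟨769, 0, 5⟩) (.one ⟨4886, 5, 6⟩)))) (.node 4 (.node 2 (.node 1 (.one ⟨4522, 1, 6⟩) (.one ⟨630, 0, 5⟩)) (.node 1 (.one ⟨6454, 5, 6⟩) (.one ⟨15359, 5, 5⟩))) (.node 2 (.node 1 (.one ⟨1378, 4, 5⟩) (.one ⟨11444, 3, 5⟩)) (.node 1 (.one ⟨11842, 5, 4⟩) (.one ⟨10236, 5, 5⟩))))) (.node 8 (.node 4 (.node 2 (.node 1 (.one ⟨14276, 5, 2⟩) (.one ⟨8662, 2, 5⟩)) (.node 1 (.one ⟨12436, 4, 4⟩) (.one ⟨5538, 1, 4⟩))) (.node 2 (.node 1 (.one ⟨2266, 2, 6⟩) (.one ⟨6758, 1, 4⟩)) (.node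 1 (.one ⟨2689, 5, 5⟩) (.one ⟨2484, 3, 6⟩)))) (.node 4 (.node 2 (.node 1 (.one ⟨2697, 5, 5⟩) (.one ⟨6731, 4, 5⟩)) (.node 1 (.one ⟨11209, 4, 5⟩) (.one ⟨14126, 5, 7⟩))) (.node 2 (.node 1 (.one ⟨13502, 4, 5⟩) (.one ⟨30, 0, 5⟩)) (.node 1 (.one ⟨14419, 5, 6⟩) (.one ⟨7046, 3, 4⟩)))))) (.node 16 (.node 8 (.node 4 (.node 2 (.node 1 (.one ⟨507, 1, 6⟩) (.one ⟨4490, 2, 4⟩)) (.node 1 (.one ⟨13859, 4, 6⟩) (.one ⟨11622, 3, 6⟩))) (.node 2 (.node 1 (.one ⟨12273, 0, 5⟩) (.one ⟨11229, 5, 5⟩)) (.node 1 (.one ⟨9109, 1, 5⟩) (.one ⟨10582, 1, 6⟩)))) (.node 4 (.node 2 (.node 1 (.one ⟨10342, 5, 5⟩) (.one ⟨15600, 4, 4⟩)) (.node 1 (.one ⟨12813, 0, 6⟩) (.one ⟨2218, 1, 3⟩))) (.node 2 (.node 1 (.one ⟨11683, 5, 6⟩) (.one ⟨11631, 3, 4⟩)) (.node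 1 (.one ⟨6832, 0, 6⟩) (.one ⟨6849, 5, 6⟩))))) (.node 8 (.node 4 (.node 2 (.node 1 (.one ⟨11780, 1, 6⟩) (.one ⟨7419, 3, 6⟩)) (.node 1 (.one ⟨5328, 3, 6⟩) (.one ⟨10148, 3, 3⟩))) (.node 2 (.node 1 (.one ⟨15621, 4, 6⟩) (.one ⟨15630, 4, 6⟩)) (.node 1 (.one ⟨3451, 2, 5⟩) (.one ⟨7681, 3, 5⟩)))) (.node 4 (.node 2 (.node 1 (.one ⟨11659, 1, 5⟩) (.one ⟨5348, 5, 6⟩)) (.node 1 (.one ⟨5014, 0, 5⟩) (.one ⟨20, 2, 5⟩))) (.node 2 (.node 1 (.one ⟨6529, 3, 5⟩) (.one ⟨5076, 0, 6⟩)) (.node 1 (.one ⟨1509, 3, 5⟩) (.one ⟨5973, 2, 4⟩)))))))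
def par2_10_3 : Arr Par :=
  (.node 32 (.node 16 (.node 8 (.node 4 (.node 2 (.node 1 (.one ⟨5404, 3, 5⟩) (.one ⟨6156, 4, 1⟩)) (.node 1 (.one ⟨3558, 4, 5⟩) (.one ⟨12187, 3, 6⟩))) (.node 2 (.node 1 (.one ⟨11020, 2, 5⟩) (.one ⟨11140, 1, 5⟩)) (.node 1 (.one ⟨7220, 1, 6⟩) (.one ⟨12948, 2, 6⟩)))) (.node 4 (.node 2 (.node 1 (.one ⟨14212, 1, 5⟩) (.one ⟨15036, 4, 4⟩)) (.node 1 (.one ⟨14597, 4, 5⟩) (.one ⟨7347, 2, 4⟩))) (.node 2 (.node 1 (.one ⟨4969, 2, 5⟩) (.one ⟨2627, 3, 5⟩)) (.node 1 (.one ⟨13230, 2, 5⟩) (.one ⟨7063, 2, 4⟩))))) (.node 8 (.node 4 (.node 2 (.node 1 (.one ⟨10396, 1, 6⟩) (.one ⟨1913, 1, 6⟩)) (.node 1 (.one ⟨3075, 5, 5⟩) (.one ⟨167, 4, 4⟩))) (.node 2 (.node 1 (.one ⟨1363, 5, 5⟩) (.one ⟨15686, 5, 6⟩)) (.node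 1 (.one ⟨7349, 3, 4⟩) (.one ⟨12385, 5, 4⟩)))) (.node 4 (.node 2 (.node 1 (.one ⟨7934, 3, 5⟩) (.one ⟨5086, 5, 4⟩)) (.node 1 (.one ⟨1497, 5, 6⟩) (.one ⟨4451, 0, 6⟩))) (.node 2 (.node 1 (.one ⟨534, 2, 5⟩) (.one ⟨11238, 4, 6⟩)) (.node 1 (.one ⟨15651, 4, 4⟩) (.one ⟨8117, 2, 5⟩)))))) (.node 16 (.node 8 (.node 4 (.node 2 (.node 1 (.one ⟨17045, 0, 5⟩) (.one ⟨7288, 4, 5⟩)) (.node 1 (.one ⟨2345, 3, 4⟩) (.one ⟨2111, 1, 6⟩))) (.node 2 (.node 1 (.one ⟨3801, 2, 5⟩) (.one ⟨9129, 5, 6⟩)) (.node 1 (.one ⟨4425, 3, 6⟩) (.one ⟨13640, 5, 5⟩)))) (.node 4 (.node 2 (.node 1 (.one ⟨15447, 2, 6⟩) (.one ⟨830, 5, 6⟩)) (.node 1 (.one ⟨9279, 3, 5⟩) (.one ⟨1838, 4, 5⟩))) (.node 2 (.node 1 (.one ⟨11137, 5, 5⟩) (.one ⟨13818, 4, 4⟩)) (.node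 1 (.one ⟨7013, 5, 5⟩) (.one ⟨11186, 3, 5⟩))))) (.node 8 (.node 4 (.node 2 (.node 1 (.one ⟨10908, 4, 3⟩) (.one ⟨5339, 0, 4⟩)) (.node 1 (.one ⟨1640, 3, 6⟩) (.one ⟨16625, 2, 5⟩))) (.node 2 (.node 1 (.one ⟨8200, 2, 6⟩) (.one ⟨258, 3, 5⟩)) (.node 1 (.one ⟨4246, 2, 6⟩) (.one ⟨4618, 4, 6⟩)))) (.node 4 (.node 2 (.node 1 (.one ⟨14391, 3, 4⟩) (.one ⟨11939, 3, 6⟩)) (.node 1 (.one ⟨12290, 0, 5⟩) (.one ⟨15836, 5, 5⟩))) (.node 2 (.node 1 (.one ⟨13279, 1, 3⟩) (.one ⟨8202, 0, 5⟩)) (.node 1 (.one ⟨1214, 5, 5⟩) (.one ⟨14961, 4, 5⟩)))))))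
def par2_10_4 : Arr Par :=
  (.node 32 (.node 16 (.node 8 (.node 4 (.node 2 (.node 1 (.one ⟨14326, 3, 4⟩) (.one ⟨4359, 0, 4⟩)) (.node 1 (.one ⟨5867, 5, 5⟩) (.one ⟨10767, 1, 5⟩))) (.node 2 (.node 1 (.one ⟨11628, 1, 6⟩) (.one ⟨9013, 5, 4⟩)) (.node 1 (.one ⟨449, 4, 5⟩) (.one ⟨13231, 5, 5⟩)))) (.node 4 (.node 2 (.node 1 (.one ⟨16060, 1, 4⟩) (.one ⟨1893, 1, 6⟩)) (.node 1 (.one ⟨97, 4, 6⟩) (.one ⟨2420, 5, 5⟩))) (.node 2 (.node 1 (.one ⟨9673, 5, 4⟩) (.one ⟨3111, 0, 4⟩)) (.node 1 (.one ⟨7886, 2, 6⟩) (.one ⟨15736, 0, 6⟩))))) (.node 8 (.node 4 (.node 2 (.node 1 (.one ⟨12128, 4, 1⟩) (.one ⟨2943, 5, 4⟩)) (.node 1 (.one ⟨723, 4, 6⟩) (.one ⟨16676, 5, 2⟩))) (.node 2 (.node 1 (.one ⟨6679, 2, 4⟩) (.one ⟨11467, 4, 5⟩)) (.node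 1 (.one ⟨13975, 2, 6⟩) (.one ⟨7490, 2, 5⟩)))) (.node 4 (.node 2 (.node 1 (.one ⟨12185, 2, 5⟩) (.one ⟨5073, 0, 6⟩)) (.node 1 (.one ⟨11527, 4, 6⟩) (.one ⟨13421, 2, 6⟩))) (.node 2 (.node 1 (.one ⟨13928, 1, 4⟩) (.one ⟨1449, 4, 5⟩)) (.node 1 (.one ⟨17019, 3, 6⟩) (.one ⟨13227, 0, 5⟩)))))) (.node 16 (.node 8 (.node 4 (.node 2 (.node 1 (.one ⟨8267, 4, 4⟩) (.one ⟨258, 2, 5⟩)) (.node 1 (.one ⟨598, 1, 3⟩) (.one ⟨10413, 0, 5⟩))) (.node 2 (.node 1 (.one ⟨4846, 2, 5⟩) (.one ⟨10222, 1, 6⟩)) (.node 1 (.one ⟨4028, 4, 6⟩) (.one ⟨5465, 5, 7⟩)))) (.node 4 (.node 2 (.node 1 (.one ⟨1315, 4, 6⟩) (.one ⟨180, 5, 5⟩)) (.node 1 (.one ⟨6216, 2, 6⟩) (.one ⟨860, 5, 6⟩))) (.node 2 (.node 1 (.one ⟨13732, 2, 6⟩) (.one ⟨5467, 5, 6⟩)) (.node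 1 (.one ⟨9521, 4, 6⟩) (.one ⟨4487, 4, 5⟩))))) (.node 8 (.node 4 (.node 2 (.node 1 (.one ⟨11564, 4, 5⟩) (.one ⟨10530, 0, 4⟩)) (.node 1 (.one ⟨16830, 4, 6⟩) (.one ⟨6170, 0, 4⟩))) (.node 2 (.node 1 (.one ⟨1063, 2, 4⟩) (.one ⟨15909, 1, 5⟩)) (.node 1 (.one ⟨15793, 1, 5⟩) (.one ⟨4374, 4, 5⟩)))) (.node 4 (.node 2 (.node 1 (.one ⟨4111, 0, 6⟩) (.one ⟨17198, 5, 5⟩)) (.node 1 (.one ⟨143, 2, 4⟩) (.one ⟨8599, 0, 5⟩))) (.node 2 (.node 1 (.one ⟨5568, 0, 5⟩) (.one ⟨8950, 2, 6⟩)) (.node 1 (.one ⟨16421, 0, 5⟩) (.one ⟨7198, 4, 6⟩)))))))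
def par2_10_5 : Arr Par :=
  (.node 32 (.node 16 (.node 8 (.node 4 (.node 2 (.node 1 (.one ⟨10477, 4, 5⟩) (.one ⟨8845, 1, 6⟩)) (.node 1 (.one ⟨6384, 4, 6⟩) (.one ⟨9953, 0, 5⟩))) (.node 2 (.node 1 (.one ⟨13646, 5, 6⟩) (.one ⟨13745, 3, 4⟩)) (.node 1 (.one ⟨13701, 4, 6⟩) (.one ⟨3482, 0, 7⟩)))) (.node 4 (.node 2 (.node 1 (.one ⟨3071, 5, 5⟩) (.one ⟨3669, 0, 5⟩)) (.node 1 (.one ⟨8551, 1, 5⟩) (.one ⟨6004, 2, 6⟩))) (.node 2 (.node 1 (.one ⟨5073, 3, 6⟩) (.one ⟨10869, 2, 6⟩)) (.node 1 (.one ⟨3106, 0, 3⟩) (.one ⟨10793, 4, 3⟩))))) (.node 8 (.node 4 (.node 2 (.node 1 (.one ⟨4355, 3, 5⟩) (.one ⟨14634, 0, 3⟩)) (.node 1 (.one ⟨853, 4, 5⟩) (.one ⟨13421, 3, 6⟩))) (.node 2 (.node 1 (.one ⟨2467, 1, 5⟩) (.one ⟨16454, 5, 4⟩)) (.node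 1 (.one ⟨16403, 2, 5⟩) (.one ⟨13641, 3, 4⟩)))) (.node 4 (.node 2 (.node 1 (.one ⟨14295, 2, 4⟩) (.one ⟨9438, 1, 5⟩)) (.node 1 (.one ⟨16044, 0, 5⟩) (.one ⟨7548, 4, 5⟩))) (.node 2 (.node 1 (.one ⟨4062, 3, 5⟩) (.one ⟨6729, 1, 6⟩)) (.node 1 (.one ⟨11659, 0, 5⟩) (.one ⟨2289, 3, 6⟩)))))) (.node 16 (.node 8 (.node 4 (.node 2 (.node 1 (.one ⟨8784, 5, 5⟩) (.one ⟨11939, 1, 6⟩)) (.node 1 (.one ⟨14416, 3, 6⟩) (.one ⟨9463, 2, 5⟩))) (.node 2 (.node 1 (.one ⟨8244, 2, 5⟩) (.one ⟨6361, 3, 4⟩)) (.node 1 (.one ⟨7163, 2, 6⟩) (.one ⟨16066, 4, 5⟩)))) (.node 4 (.node 2 (.node 1 (.one ⟨3445, 5, 6⟩) (.one ⟨12485, 1, 6⟩)) (.node 1 (.one ⟨14494, 1, 5⟩) (.one ⟨12126, 5, 6⟩))) (.node 2 (.node 1 (.one ⟨12768, 5, 5⟩) (.one ⟨13143, 3, 5⟩))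 (.node 1 (.one ⟨16341, 5, 5⟩) (.one ⟨8266, 4, 5⟩))))) (.node 8 (.node 4 (.node 2 (.node 1 (.one ⟨1169, 0, 6⟩) (.one ⟨6006, 5, 6⟩)) (.node 1 (.one ⟨5267, 2, 5⟩) (.one ⟨11247, 5, 4⟩))) (.node 2 (.node 1 (.one ⟨1013, 1, 4⟩) (.one ⟨5811, 4, 4⟩)) (.node 1 (.one ⟨7444, 3, 5⟩) (.one ⟨15356, 3, 5⟩)))) (.node 4 (.node 2 (.node 1 (.one ⟨17148, 3, 5⟩) (.one ⟨13030, 5, 4⟩)) (.node 1 (.one ⟨2694, 4, 4⟩) (.one ⟨3487, 3, 4⟩))) (.node 2 (.node 1 (.one ⟨5219, 3, 6⟩) (.one ⟨9640, 4, 6⟩)) (.node 1 (.one ⟨15662, 1, 4⟩) (.one ⟨4009, 0, 6⟩)))))))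
def par2_10_6 : Arr Par :=
  (.node 32 (.node 16 (.node 8 (.node 4 (.node 2 (.node 1 (.one ⟨7005, 5, 5⟩) (.one ⟨9006, 0, 5⟩)) (.node 1 (.one ⟨14027, 4, 5⟩) (.one ⟨6226, 1, 6⟩))) (.node 2 (.node 1 (.one ⟨8384, 4, 5⟩) (.one ⟨15907, 1, 5⟩)) (.node 1 (.one ⟨4366, 5, 6⟩) (.one ⟨14772, 5, 5⟩)))) (.node 4 (.node 2 (.node 1 (.one ⟨14867, 1, 5⟩) (.one ⟨3953, 5, 6⟩)) (.node 1 (.one ⟨11196, 3, 5⟩) (.one ⟨3603, 3, 5⟩))) (.node 2 (.node 1 (.one ⟨11831, 5, 5⟩) (.one ⟨15796, 1, 6⟩)) (.node 1 (.one ⟨7541, 5, 5⟩) (.one ⟨12149, 0, 5⟩))))) (.node 8 (.node 4 (.node 2 (.node 1 (.one ⟨13230, 1, 5⟩) (.one ⟨16451, 5, 2⟩)) (.node 1 (.one ⟨7347, 1, 4⟩) (.one ⟨17092, 3, 6⟩))) (.node 2 (.node 1 (.one ⟨15843, 2, 4⟩) (.one ⟨9279, 5, 5⟩))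 (.node 1 (.one ⟨14212, 2, 5⟩) (.one ⟨9747, 5, 6⟩)))) (.node 4 (.node 2 (.node 1 (.one ⟨3430, 4, 5⟩) (.one ⟨2595, 4, 5⟩)) (.node 1 (.one ⟨2120, 4, 5⟩) (.one ⟨12221, 3, 4⟩))) (.node 2 (.node 1 (.one ⟨3957, 5, 5⟩) (.one ⟨95, 2, 6⟩)) (.node 1 (.one ⟨17181, 3, 5⟩) (.one ⟨15716, 4, 5⟩)))))) (.node 16 (.node 8 (.node 4 (.node 2 (.node 1 (.one ⟨11060, 3, 5⟩) (.one ⟨11911, 0, 3⟩)) (.node 1 (.one ⟨15822, 1, 5⟩) (.one ⟨13765, 4, 6⟩))) (.node 2 (.node 1 (.one ⟨6126, 2, 4⟩) (.one ⟨17053, 2, 4⟩)) (.node 1 (.one ⟨3555, 4, 5⟩) (.one ⟨34, 2, 5⟩)))) (.node 4 (.node 2 (.node 1 (.one ⟨16518, 5, 6⟩) (.one ⟨3978, 1, 4⟩)) (.node 1 (.one ⟨2390, 5, 4⟩) (.one ⟨109, 2, 4⟩))) (.node 2 (.node 1 (.one ⟨16879, 4, 4⟩) (.one ⟨2569, 1, 4⟩))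 (.node 1 (.one ⟨8758, 4, 3⟩) (.one ⟨11031, 4, 6⟩))))) (.node 8 (.node 4 (.node 2 (.node 1 (.one ⟨123, 0, 4⟩) (.one ⟨1748, 5, 4⟩)) (.node 1 (.one ⟨5033, 2, 6⟩) (.one ⟨14660, 4, 6⟩))) (.node 2 (.node 1 (.one ⟨5118, 1, 5⟩) (.one ⟨9967, 2, 6⟩)) (.node 1 (.one ⟨15546, 1, 4⟩) (.one ⟨14983, 0, 5⟩)))) (.node 4 (.node 2 (.node 1 (.one ⟨12954, 3, 5⟩) (.one ⟨9985, 2, 6⟩)) (.node 1 (.one ⟨140, 5, 5⟩) (.one ⟨1148, 5, 4⟩))) (.node 2 (.node 1 (.one ⟨2815, 0, 4⟩) (.one ⟨4534, 3, 5⟩)) (.node 1 (.one ⟨6207, 4, 6⟩) (.one ⟨2318, 3, 6⟩)))))))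
def par2_10_7 : Arr Par :=
  (.node 32 (.node 16 (.node 8 (.node 4 (.node 2 (.node 1 (.one ⟨5515, 4, 5⟩) (.one ⟨4754, 2, 4⟩)) (.node 1 (.one ⟨15379, 3, 5⟩) (.one ⟨15385, 4, 4⟩))) (.node 2 (.node 1 (.one ⟨10323, 3, 2⟩) (.one ⟨2897, 1, 6⟩)) (.node 1 (.one ⟨3172, 5, 5⟩) (.one ⟨14723, 1, 5⟩)))) (.node 4 (.node 2 (.node 1 (.one ⟨1224, 2, 5⟩) (.one ⟨11417, 5, 5⟩)) (.node 1 (.one ⟨3760, 5, 4⟩) (.one ⟨9124, 1, 6⟩))) (.node 2 (.node 1 (.one ⟨16148, 0, 6⟩) (.one ⟨14251, 4, 5⟩)) (.node 1 (.one ⟨10924, 5, 6⟩) (.one ⟨12992, 5, 5⟩))))) (.node 8 (.node 4 (.node 2 (.node 1 (.one ⟨13357, 4, 6⟩) (.one ⟨9672, 2, 5⟩)) (.node 1 (.one ⟨16136, 0, 5⟩) (.one ⟨15150, 1, 5⟩))) (.node 2 (.node 1 (.one ⟨5849, 1, 5⟩) (.one ⟨15651, 0, 4⟩))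 (.node 1 (.one ⟨2610, 5, 6⟩) (.one ⟨4281, 1, 5⟩)))) (.node 4 (.node 2 (.node 1 (.one ⟨15633, 2, 6⟩) (.one ⟨2353, 5, 5⟩)) (.node 1 (.one ⟨13604, 2, 5⟩) (.one ⟨6156, 1, 1⟩))) (.node 2 (.node 1 (.one ⟨2391, 3, 6⟩) (.one ⟨3707, 2, 5⟩)) (.node 1 (.one ⟨15860, 2, 3⟩) (.one ⟨4571, 2, 6⟩)))))) (.node 16 (.node 8 (.node 4 (.node 2 (.node 1 (.one ⟨16350, 1, 5⟩) (.one ⟨2701, 5, 6⟩)) (.node 1 (.one ⟨14269, 4, 5⟩) (.one ⟨9477, 0, 5⟩))) (.node 2 (.node 1 (.one ⟨5089, 1, 6⟩) (.one ⟨66, 5, 4⟩)) (.node 1 (.one ⟨10787, 5, 6⟩) (.one ⟨9181, 2, 5⟩)))) (.node 4 (.node 2 (.node 1 (.one ⟨5094, 1, 6⟩) (.one ⟨15317, 1, 6⟩)) (.node 1 (.one ⟨5820, 1, 5⟩) (.one ⟨8998, 1, 6⟩))) (.node 2 (.node 1 (.one ⟨11412, 2, 5⟩) (.one ⟨14022, 4, 6⟩))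 (.node 1 (.one ⟨1332, 2, 6⟩) (.one ⟨16509, 2, 3⟩))))) (.node 8 (.node 4 (.node 2 (.node 1 (.one ⟨15735, 3, 6⟩) (.one ⟨5919, 4, 6⟩)) (.node 1 (.one ⟨13118, 0, 5⟩) (.one ⟨13213, 3, 5⟩))) (.node 2 (.node 1 (.one ⟨14825, 5, 5⟩) (.one ⟨8473, 5, 5⟩)) (.node 1 (.one ⟨5276, 4, 6⟩) (.one ⟨13515, 3, 5⟩)))) (.node 4 (.node 2 (.node 1 (.one ⟨16775, 0, 4⟩) (.one ⟨6788, 0, 5⟩)) (.node 1 (.one ⟨14011, 3, 5⟩) (.one ⟨4119, 5, 6⟩))) (.node 2 (.node 1 (.one ⟨651, 5, 6⟩) (.one ⟨7729, 0, 6⟩)) (.node 1 (.one ⟨8931, 5, 6⟩) (.one ⟨4711, 5, 6⟩)))))))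
def par2_10_8 : Arr Par :=
  (.node 32 (.node 16 (.node 8 (.node 4 (.node 2 (.node 1 (.one ⟨16567, 5, 6⟩) (.one ⟨8087, 5, 6⟩)) (.node 1 (.one ⟨3348, 3, 6⟩) (.one ⟨16257, 5, 6⟩))) (.node 2 (.node 1 (.one ⟨50, 1, 6⟩) (.one ⟨13457, 5, 6⟩)) (.node 1 (.one ⟨8865, 5, 6⟩) (.one ⟨3807, 1, 0⟩)))) (.node 4 (.node 2 (.node 1 (.one ⟨6202, 0, 5⟩) (.one ⟨11453, 0, 5⟩)) (.node 1 (.one ⟨4443, 0, 4⟩) (.one ⟨15952, 4, 6⟩))) (.node 2 (.node 1 (.one ⟨11298, 4, 4⟩) (.one ⟨11211, 5, 6⟩)) (.node 1 (.one ⟨11882, 4, 5⟩) (.one ⟨13607, 0, 4⟩))))) (.node 8 (.node 4 (.node 2 (.node 1 (.one ⟨7293, 2, 6⟩) (.one ⟨3760, 4, 4⟩)) (.node 1 (.one ⟨9284, 5, 6⟩) (.one ⟨11078, 5, 6⟩))) (.node 2 (.node 1 (.one ⟨3016, 5, 6⟩) (.one ⟨5205, 1, 3⟩)) (.node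 1 (.one ⟨6102, 2, 6⟩) (.one ⟨8017, 0, 5⟩)))) (.node 4 (.node 2 (.node 1 (.one ⟨13276, 5, 5⟩) (.one ⟨8552, 1, 5⟩)) (.node 1 (.one ⟨15297, 0, 5⟩) (.one ⟨2318, 2, 6⟩))) (.node 2 (.node 1 (.one ⟨9479, 2, 5⟩) (.one ⟨902, 1, 5⟩)) (.node 1 (.one ⟨6758, 3, 4⟩) (.one ⟨12591, 0, 4⟩)))))) (.node 16 (.node 8 (.node 4 (.node 2 (.node 1 (.one ⟨5527, 5, 6⟩) (.one ⟨15318, 3, 6⟩)) (.node 1 (.one ⟨5977, 5, 6⟩) (.one ⟨9794, 0, 5⟩))) (.node 2 (.node 1 (.one ⟨7457, 4, 6⟩) (.one ⟨13718, 3, 4⟩)) (.node 1 (.one ⟨15948, 4, 6⟩) (.one ⟨7770, 2, 3⟩)))) (.node 4 (.node 2 (.node 1 (.one ⟨991, 1, 5⟩) (.one ⟨2950, 3, 2⟩)) (.node 1 (.one ⟨826, 5, 6⟩) (.one ⟨861, 0, 5⟩))) (.node 2 (.node 1 (.one ⟨15746, 3, 6⟩) (.one ⟨126, 3, 6⟩)) (.node 1 (.one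 ⟨4471, 1, 4⟩) (.one ⟨8822, 4, 5⟩))))) (.node 8 (.node 4 (.node 2 (.node 1 (.one ⟨1235, 0, 6⟩) (.one ⟨16729, 1, 5⟩)) (.node 1 (.one ⟨230, 0, 5⟩) (.one ⟨15440, 3, 6⟩))) (.node 2 (.node 1 (.one ⟨2673, 1, 6⟩) (.one ⟨2529, 3, 5⟩)) (.node 1 (.one ⟨2234, 5, 5⟩) (.one ⟨3574, 4, 5⟩)))) (.node 4 (.node 2 (.node 1 (.one ⟨14510, 5, 6⟩) (.one ⟨14469, 1, 5⟩)) (.node 1 (.one ⟨2012, 4, 6⟩) (.one ⟨2618, 4, 5⟩))) (.node 2 (.node 1 (.one ⟨13431, 3, 4⟩) (.one ⟨13438, 3, 5⟩)) (.node 1 (.one ⟨16256, 5, 5⟩) (.one ⟨967, 5, 5⟩)))))))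
def par2_10_9 : Arr Par :=
  (.node 32 (.node 16 (.node 8 (.node 4 (.node 2 (.node 1 (.one ⟨10093, 3, 5⟩) (.one ⟨14494, 5, 5⟩)) (.node 1 (.one ⟨7641, 4, 5⟩) (.one ⟨9446, 4, 4⟩))) (.node 2 (.node 1 (.one ⟨3105, 4, 5⟩) (.one ⟨6055, 2, 6⟩)) (.node 1 (.one ⟨5752, 0, 5⟩) (.one ⟨2289, 4, 6⟩)))) (.node 4 (.node 2 (.node 1 (.one ⟨5889, 4, 6⟩) (.one ⟨13404, 1, 4⟩)) (.node 1 (.one ⟨15163, 3, 4⟩) (.one ⟨1435, 4, 6⟩))) (.node 2 (.node 1 (.one ⟨1732, 1, 5⟩) (.one ⟨14533, 4, 6⟩)) (.node 1 (.one ⟨10155, 4, 5⟩) (.one ⟨14301, 4, 6⟩))))) (.node 8 (.node 4 (.node 2 (.node 1 (.one ⟨11577, 3, 4⟩) (.one ⟨13724, 0, 5⟩)) (.node 1 (.one ⟨13759, 5, 5⟩) (.one ⟨8720, 2, 4⟩))) (.node 2 (.node 1 (.one ⟨16167, 1, 4⟩) (.one ⟨14057, 5, 6⟩))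 (.node 1 (.one ⟨14331, 4, 5⟩) (.one ⟨9458, 5, 5⟩)))) (.node 4 (.node 2 (.node 1 (.one ⟨14711, 5, 6⟩) (.one ⟨6785, 4, 4⟩)) (.node 1 (.one ⟨3476, 2, 4⟩) (.one ⟨12221, 5, 4⟩))) (.node 2 (.node 1 (.one ⟨12549, 3, 6⟩) (.one ⟨11848, 4, 5⟩)) (.node 1 (.one ⟨3026, 1, 6⟩) (.one ⟨13278, 3, 5⟩)))))) (.node 16 (.node 8 (.node 4 (.node 2 (.node 1 (.one ⟨12282, 4, 6⟩) (.one ⟨12163, 3, 5⟩)) (.node 1 (.one ⟨14733, 4, 6⟩) (.one ⟨5030, 0, 5⟩))) (.node 2 (.node 1 (.one ⟨11824, 4, 5⟩) (.one ⟨13242, 3, 4⟩)) (.node 1 (.one ⟨14593, 5, 5⟩) (.one ⟨8036, 5, 5⟩)))) (.node 4 (.node 2 (.node 1 (.one ⟨16685, 5, 6⟩) (.one ⟨16328, 3, 3⟩)) (.node 1 (.one ⟨8330, 4, 6⟩) (.one ⟨15645, 4, 5⟩))) (.node 2 (.node 1 (.one ⟨1034, 4, 6⟩) (.one ⟨1378,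 0, 5⟩)) (.node 1 (.one ⟨2931, 4, 4⟩) (.one ⟨3644, 4, 7⟩))))) (.node 8 (.node 4 (.node 2 (.node 1 (.one ⟨11695, 4, 4⟩) (.one ⟨13726, 3, 5⟩)) (.node 1 (.one ⟨16056, 1, 5⟩) (.one ⟨16234, 3, 4⟩))) (.node 2 (.node 1 (.one ⟨3558, 5, 5⟩) (.one ⟨14251, 3, 5⟩)) (.node 1 (.one ⟨8551, 5, 5⟩) (.one ⟨17049, 4, 4⟩)))) (.node 4 (.node 2 (.node 1 (.one ⟨12561, 5, 6⟩) (.one ⟨3919, 3, 5⟩)) (.node 1 (.one ⟨2620, 3, 5⟩) (.one ⟨6293, 4, 6⟩))) (.node 2 (.node 1 (.one ⟨11020, 4, 5⟩) (.one ⟨16755, 3, 5⟩)) (.node 1 (.one ⟨5973, 4, 4⟩) (.one ⟨10501, 0, 5⟩)))))))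
def par2_10_10 : Arr Par :=
  (.node 32 (.node 16 (.node 8 (.node 4 (.node 2 (.node 1 (.one ⟨9813, 1, 4⟩) (.one ⟨2647, 2, 5⟩)) (.node 1 (.one ⟨7312, 3, 5⟩) (.one ⟨12951, 5, 4⟩))) (.node 2 (.node 1 (.one ⟨11613, 2, 4⟩) (.one ⟨1070, 2, 6⟩)) (.node 1 (.one ⟨15794, 5, 4⟩) (.one ⟨12384, 5, 6⟩)))) (.node 4 (.node 2 (.node 1 (.one ⟨568, 4, 4⟩) (.one ⟨10462, 0, 5⟩)) (.node 1 (.one ⟨11405, 1, 5⟩) (.one ⟨9458, 4, 5⟩))) (.node 2 (.node 1 (.one ⟨4193, 5, 5⟩) (.one ⟨7490, 4, 5⟩)) (.node 1 (.one ⟨6478, 5, 5⟩) (.one ⟨13911, 1, 6⟩))))) (.node 8 (.node 4 (.node 2 (.node 1 (.one ⟨1450, 3, 5⟩) (.one ⟨6909, 4, 5⟩)) (.node 1 (.one ⟨7025, 3, 5⟩) (.one ⟨13935, 1, 4⟩))) (.node 2 (.node 1 (.one ⟨564, 0, 7⟩) (.one ⟨1621, 1, 6⟩)) (.node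 1 (.one ⟨14684, 2, 6⟩) (.one ⟨3004, 1, 5⟩)))) (.node 4 (.node 2 (.node 1 (.one ⟨9725, 5, 6⟩) (.one ⟨14258, 1, 6⟩)) (.node 1 (.one ⟨16181, 5, 6⟩) (.one ⟨9706, 0, 6⟩))) (.node 2 (.node 1 (.one ⟨11323, 5, 2⟩) (.one ⟨7055, 2, 5⟩)) (.node 1 (.one ⟨4890, 1, 6⟩) (.one ⟨188, 5, 4⟩)))))) (.node 16 (.node 8 (.node 4 (.node 2 (.node 1 (.one ⟨4775, 1, 5⟩) (.one ⟨3393, 5, 4⟩)) (.node 1 (.one ⟨2655, 2, 5⟩) (.one ⟨17170, 3, 6⟩))) (.node 2 (.node 1 (.one ⟨3328, 5, 5⟩) (.one ⟨4782, 1, 5⟩)) (.node 1 (.one ⟨861, 1, 5⟩) (.one ⟨9675, 4, 4⟩)))) (.node 4 (.node 2 (.node 1 (.one ⟨12600, 5, 5⟩) (.one ⟨10657, 4, 4⟩)) (.node 1 (.one ⟨3173, 0, 6⟩) (.one ⟨10691, 2, 5⟩))) (.node 2 (.node 1 (.one ⟨6309, 3, 5⟩) (.one ⟨16686, 2, 4⟩)) (.node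 1 (.one ⟨11053, 4, 4⟩) (.one ⟨2779, 1, 5⟩))))) (.node 8 (.node 4 (.node 2 (.node 1 (.one ⟨1102, 1, 4⟩) (.one ⟨6325, 1, 6⟩)) (.node 1 (.one ⟨588, 5, 5⟩) (.one ⟨5704, 1, 6⟩))) (.node 2 (.node 1 (.one ⟨17117, 2, 6⟩) (.one ⟨13279, 4, 3⟩)) (.node 1 (.one ⟨16123, 4, 6⟩) (.one ⟨4301, 0, 5⟩)))) (.node 4 (.node 2 (.node 1 (.one ⟨7412, 5, 6⟩) (.one ⟨3415, 0, 6⟩)) (.node 1 (.one ⟨3044, 4, 4⟩) (.one ⟨3040, 4, 6⟩))) (.node 2 (.node 1 (.one ⟨8250, 3, 5⟩) (.one ⟨6200, 2, 5⟩)) (.node 1 (.one ⟨8448, 5, 5⟩) (.one ⟨5386, 5, 6⟩)))))))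
def par2_10_11 : Arr Par :=
  (.node 32 (.node 16 (.node 8 (.node 4 (.node 2 (.node 1 (.one ⟨9304, 1, 6⟩) (.one ⟨9077, 2, 5⟩)) (.node 1 (.one ⟨5181, 5, 6⟩) (.one ⟨6194, 0, 5⟩))) (.node 2 (.node 1 (.one ⟨12429, 0, 5⟩) (.one ⟨13488, 2, 5⟩)) (.node 1 (.one ⟨3771, 4, 5⟩) (.one ⟨16157, 1, 5⟩)))) (.node 4 (.node 2 (.node 1 (.one ⟨9221, 3, 4⟩) (.one ⟨3613, 0, 6⟩)) (.node 1 (.one ⟨10000, 4, 4⟩) (.one ⟨9862, 4, 6⟩))) (.node 2 (.node 1 (.one ⟨9524, 4, 5⟩) (.one ⟨16538, 0, 5⟩)) (.node 1 (.one ⟨1625, 4, 6⟩) (.one ⟨2745, 0, 5⟩))))) (.node 8 (.node 4 (.node 2 (.node 1 (.one ⟨5674, 1, 6⟩) (.one ⟨694, 3, 4⟩)) (.node 1 (.one ⟨3927, 5, 5⟩) (.one ⟨15369, 4, 5⟩))) (.node 2 (.node 1 (.one ⟨871, 1, 6⟩) (.one ⟨11186, 5, 5⟩)) (.node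 1 (.one ⟨5758, 0, 5⟩) (.one ⟨15786, 5, 6⟩)))) (.node 4 (.node 2 (.node 1 (.one ⟨14642, 4, 5⟩) (.one ⟨502, 1, 4⟩)) (.node 1 (.one ⟨12990, 5, 6⟩) (.one ⟨12702, 5, 6⟩))) (.node 2 (.node 1 (.one ⟨16574, 0, 5⟩) (.one ⟨5156, 3, 5⟩)) (.node 1 (.one ⟨13334, 0, 4⟩) (.one ⟨3806, 1, 6⟩)))))) (.node 16 (.node 8 (.node 4 (.node 2 (.node 1 (.one ⟨3088, 4, 5⟩) (.one ⟨2641, 1, 4⟩)) (.node 1 (.one ⟨12430, 0, 4⟩) (.one ⟨3147, 2, 4⟩))) (.node 2 (.node 1 (.one ⟨16772, 5, 6⟩) (.one ⟨12756, 1, 6⟩)) (.node 1 (.one ⟨7579, 5, 5⟩) (.one ⟨13686, 4, 5⟩)))) (.node 4 (.node 2 (.node 1 (.one ⟨10148, 5, 3⟩) (.one ⟨17181, 1, 5⟩)) (.node 1 (.one ⟨1378, 5, 5⟩) (.one ⟨1122, 0, 5⟩))) (.node 2 (.node 1 (.one ⟨6009, 1, 5⟩) (.one ⟨5994, 0, 5⟩)) (.node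 1 (.one ⟨13605, 0, 5⟩) (.one ⟨1265, 2, 4⟩))))) (.node 8 (.node 4 (.node 2 (.node 1 (.one ⟨16006, 3, 5⟩) (.one ⟨5514, 5, 4⟩)) (.node 1 (.one ⟨16565, 1, 6⟩) (.one ⟨12283, 4, 5⟩))) (.node 2 (.node 1 (.one ⟨4201, 4, 7⟩) (.one ⟨9959, 4, 5⟩)) (.node 1 (.one ⟨12625, 5, 6⟩) (.one ⟨1548, 5, 4⟩)))) (.node 4 (.node 2 (.node 1 (.one ⟨7965, 4, 6⟩) (.one ⟨1891, 2, 4⟩)) (.node 1 (.one ⟨15260, 1, 6⟩) (.one ⟨5323, 1, 6⟩))) (.node 2 (.node 1 (.one ⟨14834, 0, 6⟩) (.one ⟨3017, 2, 6⟩)) (.node 1 (.one ⟨2785, 2, 5⟩) (.one ⟨15538, 3, 5⟩)))))))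
def par2_10_12 : Arr Par :=
  (.node 32 (.node 16 (.node 8 (.node 4 (.node 2 (.node 1 (.one ⟨10913, 5, 5⟩) (.one ⟨3036, 0, 5⟩)) (.node 1 (.one ⟨13315, 1, 5⟩) (.one ⟨10769, 1, 5⟩))) (.node 2 (.node 1 (.one ⟨722, 0, 5⟩) (.one ⟨17160, 5, 6⟩)) (.node 1 (.one ⟨4059, 2, 5⟩) (.one ⟨7425, 4, 6⟩)))) (.node 4 (.node 2 (.node 1 (.one ⟨6464, 2, 4⟩) (.one ⟨10474, 2, 6⟩)) (.node 1 (.one ⟨14587, 4, 6⟩) (.one ⟨11940, 5, 6⟩))) (.node 2 (.node 1 (.one ⟨16879, 1, 4⟩) (.one ⟨4722, 2, 6⟩)) (.node 1 (.one ⟨9929, 4, 5⟩) (.one ⟨16698, 2, 5⟩))))) (.node 8 (.node 4 (.node 2 (.node 1 (.one ⟨11517, 5, 6⟩) (.one ⟨6613, 2, 5⟩)) (.node 1 (.one ⟨1286, 5, 6⟩) (.one ⟨1383, 5, 4⟩))) (.node 2 (.node 1 (.one ⟨3475, 5, 5⟩) (.one ⟨5944, 1, 6⟩)) (.node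 1 (.one ⟨13562, 1, 6⟩) (.one ⟨14713, 0, 5⟩)))) (.node 4 (.node 2 (.node 1 (.one ⟨14648, 4, 4⟩) (.one ⟨1916, 2, 6⟩)) (.node 1 (.one ⟨14749, 3, 6⟩) (.one ⟨6891, 0, 5⟩))) (.node 2 (.node 1 (.one ⟨13484, 3, 5⟩) (.one ⟨15680, 5, 6⟩)) (.node 1 (.one ⟨7651, 4, 5⟩) (.one ⟨15862, 3, 5⟩)))))) (.node 16 (.node 8 (.node 4 (.node 2 (.node 1 (.one ⟨10433, 4, 2⟩) (.one ⟨5235, 2, 5⟩)) (.node 1 (.one ⟨2346, 5, 5⟩) (.one ⟨2145, 1, 5⟩))) (.node 2 (.node 1 (.one ⟨14158, 2, 5⟩) (.one ⟨10190, 0, 6⟩)) (.node 1 (.one ⟨10392, 5, 6⟩) (.one ⟨15085, 1, 3⟩)))) (.node 4 (.node 2 (.node 1 (.one ⟨11121, 5, 5⟩) (.one ⟨8715, 4, 5⟩)) (.node 1 (.one ⟨8757, 1, 6⟩) (.one ⟨574, 0, 6⟩))) (.node 2 (.node 1 (.one ⟨11122, 5, 4⟩) (.one ⟨13068, 4, 3⟩))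 (.node 1 (.one ⟨11126, 5, 6⟩) (.one ⟨6322, 4, 6⟩))))) (.node 8 (.node 4 (.node 2 (.node 1 (.one ⟨15572, 5, 5⟩) (.one ⟨9820, 4, 2⟩)) (.node 1 (.one ⟨4307, 5, 6⟩) (.one ⟨7589, 4, 5⟩))) (.node 2 (.node 1 (.one ⟨12612, 0, 4⟩) (.one ⟨12136, 5, 7⟩)) (.node 1 (.one ⟨1779, 1, 5⟩) (.one ⟨9771, 1, 5⟩)))) (.node 4 (.node 2 (.node 1 (.one ⟨1672, 1, 5⟩) (.one ⟨6968, 4, 5⟩)) (.node 1 (.one ⟨11669, 2, 5⟩) (.one ⟨12743, 3, 7⟩))) (.node 2 (.node 1 (.one ⟨16322, 0, 5⟩) (.one ⟨7477, 3, 6⟩)) (.node 1 (.one ⟨6970, 4, 5⟩) (.one ⟨10294, 1, 5⟩)))))))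
def par2_10_13 : Arr Par :=
  (.node 32 (.node 16 (.node 8 (.node 4 (.node 2 (.node 1 (.one ⟨2908, 5, 5⟩) (.one ⟨6267, 2, 5⟩)) (.node 1 (.one ⟨2485, 4, 3⟩) (.one ⟨4244, 5, 5⟩))) (.node 2 (.node 1 (.one ⟨14949, 1, 6⟩) (.one ⟨3795, 3, 5⟩)) (.node 1 (.one ⟨6403, 4, 5⟩) (.one ⟨9539, 5, 6⟩)))) (.node 4 (.node 2 (.node 1 (.one ⟨17181, 0, 5⟩) (.one ⟨11904, 5, 6⟩)) (.node 1 (.one ⟨10999, 5, 5⟩) (.one ⟨10899, 2, 5⟩))) (.node 2 (.node 1 (.one ⟨10896, 2, 6⟩) (.one ⟨12598, 5, 5⟩)) (.node 1 (.one ⟨10909, 1, 6⟩) (.one ⟨4248, 1, 5⟩))))) (.node 8 (.node 4 (.node 2 (.node 1 (.one ⟨1003, 2, 5⟩) (.one ⟨358, 1, 5⟩)) (.node 1 (.one ⟨3156, 0, 6⟩) (.one ⟨7997, 2, 5⟩))) (.node 2 (.node 1 (.one ⟨7444, 5, 5⟩) (.one ⟨16087, 2, 6⟩)) (.node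 1 (.one ⟨11667, 0, 6⟩) (.one ⟨3126, 0, 4⟩)))) (.node 4 (.node 2 (.node 1 (.one ⟨1197, 1, 6⟩) (.one ⟨11609, 5, 5⟩)) (.node 1 (.one ⟨12780, 2, 3⟩) (.one ⟨16847, 1, 5⟩))) (.node 2 (.node 1 (.one ⟨10866, 4, 6⟩) (.one ⟨8883, 3, 5⟩)) (.node 1 (.one ⟨11267, 5, 6⟩) (.one ⟨738, 4, 5⟩)))))) (.node 16 (.node 8 (.node 4 (.node 2 (.node 1 (.one ⟨196, 3, 6⟩) (.one ⟨4952, 0, 5⟩)) (.node 1 (.one ⟨103, 0, 5⟩) (.one ⟨11057, 5, 3⟩))) (.node 2 (.node 1 (.one ⟨13239, 5, 5⟩) (.one ⟨4374, 5, 5⟩)) (.node 1 (.one ⟨1508, 5, 3⟩) (.one ⟨15244, 5, 6⟩)))) (.node 4 (.node 2 (.node 1 (.one ⟨2601, 5, 5⟩) (.one ⟨7422, 4, 6⟩)) (.node 1 (.one ⟨9664, 5, 6⟩) (.one ⟨8234, 5, 5⟩))) (.node 2 (.node 1 (.one ⟨13531, 5, 5⟩) (.one ⟨15057, 1, 5⟩)) (.node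 1 (.one ⟨4838, 1, 5⟩) (.one ⟨9836, 4, 6⟩))))) (.node 8 (.node 4 (.node 2 (.node 1 (.one ⟨14803, 5, 6⟩) (.one ⟨5922, 0, 4⟩)) (.node 1 (.one ⟨15117, 5, 3⟩) (.one ⟨17188, 1, 6⟩))) (.node 2 (.node 1 (.one ⟨171, 2, 6⟩) (.one ⟨1966, 5, 6⟩)) (.node 1 (.one ⟨2454, 3, 5⟩) (.one ⟨1335, 2, 5⟩)))) (.node 4 (.node 2 (.node 1 (.one ⟨15970, 3, 6⟩) (.one ⟨13235, 4, 5⟩)) (.node 1 (.one ⟨16392, 4, 5⟩) (.one ⟨14431, 1, 5⟩))) (.node 2 (.node 1 (.one ⟨14634, 5, 3⟩) (.one ⟨13349, 4, 3⟩)) (.node 1 (.one ⟨16405, 4, 6⟩) (.one ⟨448, 2, 5⟩)))))))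
def par2_10_14 : Arr Par :=
  (.node 32 (.node 16 (.node 8 (.node 4 (.node 2 (.node 1 (.one ⟨10137, 4, 4⟩) (.one ⟨4300, 4, 4⟩)) (.node 1 (.one ⟨860, 3, 6⟩) (.one ⟨13167, 3, 5⟩))) (.node 2 (.node 1 (.one ⟨15291, 1, 4⟩) (.one ⟨10466, 0, 5⟩)) (.node 1 (.one ⟨2166, 4, 4⟩) (.one ⟨7787, 5, 5⟩)))) (.node 4 (.node 2 (.node 1 (.one ⟨15578, 5, 5⟩) (.one ⟨2273, 1, 6⟩)) (.node 1 (.one ⟨951, 4, 5⟩) (.one ⟨16239, 0, 3⟩))) (.node 2 (.node 1 (.one ⟨3941, 5, 6⟩) (.one ⟨8096, 5, 5⟩)) (.node 1 (.one ⟨15291, 5, 4⟩) (.one ⟨964, 0, 4⟩))))) (.node 8 (.node 4 (.node 2 (.node 1 (.one ⟨9764, 4, 5⟩) (.one ⟨772, 0, 5⟩)) (.node 1 (.one ⟨1348, 4, 5⟩) (.one ⟨8070, 4, 5⟩))) (.node 2 (.node 1 (.one ⟨4742, 4, 6⟩) (.one ⟨16060, 4, 4⟩)) (.node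 1 (.one ⟨48, 0, 6⟩) (.one ⟨9296, 2, 6⟩)))) (.node 4 (.node 2 (.node 1 (.one ⟨9649, 1, 5⟩) (.one ⟨10238, 4, 6⟩)) (.node 1 (.one ⟨8671, 4, 4⟩) (.one ⟨8165, 5, 5⟩))) (.node 2 (.node 1 (.one ⟨8552, 2, 5⟩) (.one ⟨8276, 3, 6⟩)) (.node 1 (.one ⟨11633, 5, 4⟩) (.one ⟨3557, 2, 5⟩)))))) (.node 16 (.node 8 (.node 4 (.node 2 (.node 1 (.one ⟨13333, 2, 5⟩) (.one ⟨12622, 3, 6⟩)) (.node 1 (.one ⟨15895, 3, 5⟩) (.one ⟨10977, 4, 5⟩))) (.node 2 (.node 1 (.one ⟨15501, 5, 5⟩) (.one ⟨6237, 0, 5⟩)) (.node 1 (.one ⟨2328, 3, 5⟩) (.one ⟨2166, 2, 4⟩)))) (.node 4 (.node 2 (.node 1 (.one ⟨9496, 4, 4⟩) (.one ⟨14730, 1, 5⟩)) (.node 1 (.one ⟨12019, 3, 5⟩) (.one ⟨4484, 3, 6⟩))) (.node 2 (.node 1 (.one ⟨5155, 1, 6⟩) (.one ⟨5867, 1, 5⟩)) (.node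 1 (.one ⟨2964, 2, 3⟩) (.one ⟨15163, 2, 4⟩))))) (.node 8 (.node 4 (.node 2 (.node 1 (.one ⟨1355, 0, 6⟩) (.one ⟨2763, 1, 6⟩)) (.node 1 (.one ⟨6069, 0, 4⟩) (.one ⟨11507, 5, 5⟩))) (.node 2 (.node 1 (.one ⟨11743, 1, 6⟩) (.one ⟨7382, 3, 6⟩)) (.node 1 (.one ⟨2731, 1, 4⟩) (.one ⟨16052, 5, 6⟩)))) (.node 4 (.node 2 (.node 1 (.one ⟨1490, 0, 6⟩) (.one ⟨15697, 0, 3⟩)) (.node 1 (.one ⟨14431, 2, 5⟩) (.one ⟨538, 1, 5⟩))) (.node 2 (.node 1 (.one ⟨11808, 4, 4⟩) (.one ⟨7444, 0, 5⟩)) (.node 1 (.one ⟨4609, 5, 6⟩) (.one ⟨6287, 1, 4⟩)))))))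
def par2_10_15 : Arr Par :=
  (.node 32 (.node 16 (.node 8 (.node 4 (.node 2 (.node 1 (.one ⟨14584, 4, 6⟩) (.one ⟨4270, 3, 6⟩)) (.node 1 (.one ⟨3919, 1, 5⟩) (.one ⟨2331, 2, 6⟩))) (.node 2 (.node 1 (.one ⟨136, 1, 6⟩) (.one ⟨2494, 5, 6⟩)) (.node 1 (.one ⟨9892, 2, 6⟩) (.one ⟨13337, 1, 6⟩)))) (.node 4 (.node 2 (.node 1 (.one ⟨9486, 5, 5⟩) (.one ⟨13872, 5, 4⟩)) (.node 1 (.one ⟨4832, 5, 6⟩) (.one ⟨14597, 1, 5⟩))) (.node 2 (.node 1 (.one ⟨12200, 1, 5⟩) (.one ⟨16915, 3, 5⟩)) (.node 1 (.one ⟨5337, 3, 7⟩) (.one ⟨15436, 0, 3⟩))))) (.node 8 (.node 4 (.node 2 (.node 1 (.one ⟨3159, 0, 4⟩) (.one ⟨14063, 5, 5⟩)) (.node 1 (.one ⟨15935, 4, 6⟩) (.one ⟨6447, 1, 5⟩))) (.node 2 (.node 1 (.one ⟨6586, 4, 6⟩) (.one ⟨3661, 2, 5⟩)) (.node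 1 (.one ⟨204, 4, 5⟩) (.one ⟨12798, 2, 6⟩)))) (.node 4 (.node 2 (.node 1 (.one ⟨6890, 4, 6⟩) (.one ⟨7118, 5, 5⟩)) (.node 1 (.one ⟨11774, 5, 4⟩) (.one ⟨8070, 5, 5⟩))) (.node 2 (.node 1 (.one ⟨14181, 4, 5⟩) (.one ⟨3726, 2, 4⟩)) (.node 1 (.one ⟨13315, 2, 5⟩) (.one ⟨9483, 3, 5⟩)))))) (.node 16 (.node 8 (.node 4 (.node 2 (.node 1 (.one ⟨1895, 4, 5⟩) (.one ⟨9036, 4, 4⟩)) (.node 1 (.one ⟨5859, 5, 6⟩) (.one ⟨1866, 2, 4⟩))) (.node 2 (.node 1 (.one ⟨10950, 3, 6⟩) (.one ⟨11335, 1, 6⟩)) (.node 1 (.one ⟨7085, 3, 5⟩) (.one ⟨9631, 3, 5⟩)))) (.node 4 (.node 2 (.node 1 (.one ⟨6909, 3, 5⟩) (.one ⟨3806, 2, 6⟩)) (.node 1 (.one ⟨2790, 1, 6⟩) (.one ⟨10068, 5, 5⟩))) (.node 2 (.node 1 (.one ⟨7636, 3, 5⟩) (.one ⟨2198, 1, 6⟩)) (.node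 1 (.one ⟨3408, 5, 6⟩) (.one ⟨16517, 3, 3⟩))))) (.node 8 (.node 4 (.node 2 (.node 1 (.one ⟨12770, 1, 4⟩) (.one ⟨6714, 3, 5⟩)) (.node 1 (.one ⟨10109, 4, 5⟩) (.one ⟨5578, 0, 5⟩))) (.node 2 (.node 1 (.one ⟨5381, 1, 4⟩) (.one ⟨16357, 1, 6⟩)) (.node 1 (.one ⟨2004, 5, 6⟩) (.one ⟨2345, 0, 4⟩)))) (.node 4 (.node 2 (.node 1 (.one ⟨11235, 4, 5⟩) (.one ⟨1711, 2, 5⟩)) (.node 1 (.one ⟨13449, 2, 6⟩) (.one ⟨16705, 5, 5⟩))) (.node 2 (.node 1 (.one ⟨2996, 5, 5⟩) (.one ⟨8753, 2, 5⟩)) (.node 1 (.one ⟨2882, 5, 6⟩) (.one ⟨10508, 4, 5⟩)))))))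
def par2_10 : Arr Par :=
  (.node 512 (.node 256 (.node 128 (.node 64 par2_10_0 par2_10_1) (.node 64 par2_10_2 par2_10_3)) (.node 128 (.node 64 par2_10_4 par2_10_5) (.node 64 par2_10_6 par2_10_7))) (.node 256 (.node 128 (.node 64 par2_10_8 par2_10_9) (.node 64 par2_10_10 par2_10_11)) (.node 128 (.node 64 par2_10_12 par2_10_13) (.node 64 par2_10_14 par2_10_15))))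
def par2_11_0 : Arr Par :=
  (.node 32 (.node 16 (.node 8 (.node 4 (.node 2 (.node 1 (.one ⟨5174, 3, 5⟩) (.one ⟨3634, 0, 5⟩)) (.node 1 (.one ⟨9066, 3, 5⟩) (.one ⟨9745, 5, 5⟩))) (.node 2 (.node 1 (.one ⟨15213, 2, 5⟩) (.one ⟨15178, 3, 5⟩)) (.node 1 (.one ⟨5543, 5, 6⟩) (.one ⟨12626, 0, 6⟩)))) (.node 4 (.node 2 (.node 1 (.one ⟨16444, 4, 5⟩) (.one ⟨3620, 2, 5⟩)) (.node 1 (.one ⟨11755, 0, 5⟩) (.one ⟨5532, 5, 5⟩))) (.node 2 (.node 1 (.one ⟨8225, 5, 4⟩) (.one ⟨7360, 5, 6⟩)) (.node 1 (.one ⟨2621, 5, 6⟩) (.one ⟨11053, 0, 4⟩))))) (.node 8 (.node 4 (.node 2 (.node 1 (.one ⟨13496, 2, 5⟩) (.one ⟨8443, 4, 5⟩)) (.node 1 (.one ⟨14695, 2, 6⟩) (.one ⟨4282, 2, 6⟩))) (.node 2 (.node 1 (.one ⟨163, 5, 3⟩) (.one ⟨9084, 3, 5⟩)) (.node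 1 (.one ⟨5640, 0, 6⟩) (.one ⟨9293, 4, 6⟩)))) (.node 4 (.node 2 (.node 1 (.one ⟨6795, 3, 5⟩) (.one ⟨16805, 5, 3⟩)) (.node 1 (.one ⟨6170, 5, 4⟩) (.one ⟨14322, 5, 4⟩))) (.node 2 (.node 1 (.one ⟨8792, 1, 6⟩) (.one ⟨15484, 2, 5⟩)) (.node 1 (.one ⟨2678, 5, 6⟩) (.one ⟨11102, 4, 7⟩)))))) (.node 16 (.node 8 (.node 4 (.node 2 (.node 1 (.one ⟨15821, 5, 5⟩) (.one ⟨15030, 5, 6⟩)) (.node 1 (.one ⟨12983, 5, 3⟩) (.one ⟨6861, 4, 6⟩))) (.node 2 (.node 1 (.one ⟨6869, 1, 5⟩) (.one ⟨17086, 4, 7⟩)) (.node 1 (.one ⟨12501, 5, 5⟩) (.one ⟨11740, 5, 5⟩)))) (.node 4 (.node 2 (.node 1 (.one ⟨532, 2, 6⟩) (.one ⟨13531, 4, 5⟩)) (.node 1 (.one ⟨937, 5, 4⟩) (.one ⟨5581, 0, 5⟩))) (.node 2 (.node 1 (.one ⟨5669, 0, 5⟩) (.one ⟨6208, 2, 6⟩)) (.node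 1 (.one ⟨14683, 2, 5⟩) (.one ⟨2123, 2, 4⟩))))) (.node 8 (.node 4 (.node 2 (.node 1 (.one ⟨9929, 3, 5⟩) (.one ⟨1007, 3, 5⟩)) (.node 1 (.one ⟨9516, 5, 6⟩) (.one ⟨3956, 4, 4⟩))) (.node 2 (.node 1 (.one ⟨3726, 1, 4⟩) (.one ⟨1086, 0, 4⟩)) (.node 1 (.one ⟨6007, 2, 5⟩) (.one ⟨17179, 2, 6⟩)))) (.node 4 (.node 2 (.node 1 (.one ⟨2802, 4, 6⟩) (.one ⟨7451, 2, 6⟩)) (.node 1 (.one ⟨487, 0, 5⟩) (.one ⟨14599, 1, 1⟩))) (.node 2 (.node 1 (.one ⟨11359, 1, 6⟩) (.one ⟨12531, 2, 5⟩)) (.node 1 (.one ⟨16643, 2, 6⟩) (.one ⟨15986, 0, 5⟩)))))))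
def par2_11_1 : Arr Par :=
  (.node 32 (.node 16 (.node 8 (.node 4 (.node 2 (.node 1 (.one ⟨8699, 4, 6⟩) (.one ⟨8117, 0, 5⟩)) (.node 1 (.one ⟨9908, 1, 5⟩) (.one ⟨12608, 5, 6⟩))) (.node 2 (.node 1 (.one ⟨13593, 5, 5⟩) (.one ⟨16208, 5, 5⟩)) (.node 1 (.one ⟨3845, 2, 4⟩) (.one ⟨10039, 1, 5⟩)))) (.node 4 (.node 2 (.node 1 (.one ⟨2835, 5, 5⟩) (.one ⟨13470, 1, 6⟩)) (.node 1 (.one ⟨9923, 1, 5⟩) (.one ⟨11255, 5, 5⟩))) (.node 2 (.node 1 (.one ⟨13068, 5, 3⟩) (.one ⟨723, 2, 6⟩)) (.node 1 (.one ⟨9107, 0, 5⟩) (.one ⟨13070, 2, 5⟩))))) (.node 8 (.node 4 (.node 2 (.node 1 (.one ⟨16342, 4, 6⟩) (.one ⟨12577, 5, 3⟩)) (.node 1 (.one ⟨6684, 5, 6⟩) (.one ⟨9518, 4, 5⟩))) (.node 2 (.node 1 (.one ⟨15743, 3, 5⟩) (.one ⟨2018, 4, 6⟩)) (.node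 1 (.one ⟨15113, 4, 5⟩) (.one ⟨14219, 1, 5⟩)))) (.node 4 (.node 2 (.node 1 (.one ⟨10301, 4, 6⟩) (.one ⟨12550, 4, 5⟩)) (.node 1 (.one ⟨14699, 5, 4⟩) (.one ⟨11721, 3, 5⟩))) (.node 2 (.node 1 (.one ⟨10114, 5, 6⟩) (.one ⟨14695, 3, 6⟩)) (.node 1 (.one ⟨7288, 2, 5⟩) (.one ⟨11444, 4, 5⟩)))))) (.node 16 (.node 8 (.node 4 (.node 2 (.node 1 (.one ⟨6705, 5, 6⟩) (.one ⟨16357, 2, 6⟩)) (.node 1 (.one ⟨14830, 5, 5⟩) (.one ⟨5481, 2, 6⟩))) (.node 2 (.node 1 (.one ⟨6254, 4, 5⟩) (.one ⟨14543, 4, 5⟩)) (.node 1 (.one ⟨14858, 5, 5⟩) (.one ⟨790, 3, 5⟩)))) (.node 4 (.node 2 (.node 1 (.one ⟨8023, 1, 5⟩) (.one ⟨12465, 2, 6⟩)) (.node 1 (.one ⟨12860, 5, 5⟩) (.one ⟨12140, 0, 4⟩))) (.node 2 (.node 1 (.one ⟨14219, 3, 5⟩) (.one ⟨15366, 5, 6⟩))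 (.node 1 (.one ⟨6531, 5, 4⟩) (.one ⟨16767, 5, 5⟩))))) (.node 8 (.node 4 (.node 2 (.node 1 (.one ⟨6879, 1, 6⟩) (.one ⟨11888, 5, 6⟩)) (.node 1 (.one ⟨2044, 3, 6⟩) (.one ⟨1833, 5, 5⟩))) (.node 2 (.node 1 (.one ⟨2478, 0, 4⟩) (.one ⟨2644, 1, 5⟩)) (.node 1 (.one ⟨5973, 3, 4⟩) (.one ⟨5987, 1, 4⟩)))) (.node 4 (.node 2 (.node 1 (.one ⟨16135, 2, 4⟩) (.one ⟨10401, 5, 5⟩)) (.node 1 (.one ⟨13588, 4, 5⟩) (.one ⟨482, 5, 5⟩))) (.node 2 (.node 1 (.one ⟨5056, 4, 5⟩) (.one ⟨2861, 5, 5⟩)) (.node 1 (.one ⟨10000, 2, 4⟩) (.one ⟨587, 5, 5⟩)))))))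
def par2_11_2 : Arr Par :=
  (.node 32 (.node 16 (.node 8 (.node 4 (.node 2 (.node 1 (.one ⟨7988, 4, 5⟩) (.one ⟨9464, 1, 6⟩)) (.node 1 (.one ⟨9928, 1, 5⟩) (.one ⟨15808, 2, 6⟩))) (.node 2 (.node 1 (.one ⟨1220, 5, 5⟩) (.one ⟨15750, 2, 5⟩)) (.node 1 (.one ⟨12234, 3, 5⟩) (.one ⟨14930, 2, 6⟩)))) (.node 4 (.node 2 (.node 1 (.one ⟨4676, 2, 5⟩) (.one ⟨5647, 1, 4⟩)) (.node 1 (.one ⟨14722, 2, 6⟩) (.one ⟨15984, 4, 5⟩))) (.node 2 (.node 1 (.one ⟨6849, 4, 6⟩) (.one ⟨192, 0, 4⟩)) (.node 1 (.one ⟨14717, 4, 6⟩) (.one ⟨1695, 4, 6⟩))))) (.node 8 (.node 4 (.node 2 (.node 1 (.one ⟨13724, 5, 5⟩) (.one ⟨5541, 4, 5⟩)) (.node 1 (.one ⟨17177, 4, 5⟩) (.one ⟨2951, 3, 5⟩))) (.node 2 (.node 1 (.one ⟨4754, 1, 4⟩) (.one ⟨13607, 1, 4⟩)) (.node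 1 (.one ⟨8214, 3, 5⟩) (.one ⟨5660, 1, 5⟩)))) (.node 4 (.node 2 (.node 1 (.one ⟨17118, 4, 4⟩) (.one ⟨9013, 4, 4⟩)) (.node 1 (.one ⟨8444, 2, 5⟩) (.one ⟨3355, 5, 5⟩))) (.node 2 (.node 1 (.one ⟨3242, 3, 5⟩) (.one ⟨15610, 2, 5⟩)) (.node 1 (.one ⟨16794, 2, 6⟩) (.one ⟨1711, 5, 5⟩)))))) (.node 16 (.node 8 (.node 4 (.node 2 (.node 1 (.one ⟨14117, 1, 5⟩) (.one ⟨6743, 5, 5⟩)) (.node 1 (.one ⟨1887, 5, 5⟩) (.one ⟨13461, 5, 5⟩))) (.node 2 (.node 1 (.one ⟨16260, 5, 6⟩) (.one ⟨16400, 5, 5⟩)) (.node 1 (.one ⟨14972, 2, 4⟩) (.one ⟨15206, 3, 6⟩)))) (.node 4 (.node 2 (.node 1 (.one ⟨7090, 3, 4⟩) (.one ⟨14861, 5, 7⟩)) (.node 1 (.one ⟨12369, 1, 5⟩) (.one ⟨1147, 0, 5⟩))) (.node 2 (.node 1 (.one ⟨14977, 5, 5⟩) (.one ⟨7187, 3, 5⟩)) (.node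 1 (.one ⟨1738, 2, 5⟩) (.one ⟨12113, 4, 5⟩))))) (.node 8 (.node 4 (.node 2 (.node 1 (.one ⟨11284, 0, 4⟩) (.one ⟨12612, 4, 4⟩)) (.node 1 (.one ⟨8384, 5, 5⟩) (.one ⟨12111, 4, 6⟩))) (.node 2 (.node 1 (.one ⟨5647, 5, 4⟩) (.one ⟨4775, 5, 5⟩)) (.node 1 (.one ⟨15385, 3, 4⟩) (.one ⟨12936, 2, 6⟩)))) (.node 4 (.node 2 (.node 1 (.one ⟨10227, 5, 6⟩) (.one ⟨2157, 3, 6⟩)) (.node 1 (.one ⟨10956, 4, 6⟩) (.one ⟨14027, 5, 5⟩))) (.node 2 (.node 1 (.one ⟨8465, 1, 3⟩) (.one ⟨13927, 5, 4⟩)) (.node 1 (.one ⟨13491, 5, 6⟩) (.one ⟨1349, 2, 5⟩)))))))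
def par2_11_3 : Arr Par :=
  (.node 32 (.node 16 (.node 8 (.node 4 (.node 2 (.node 1 (.one ⟨17023, 3, 5⟩) (.one ⟨15600, 3, 4⟩)) (.node 1 (.one ⟨10370, 1, 5⟩) (.one ⟨2601, 1, 5⟩))) (.node 2 (.node 1 (.one ⟨5183, 5, 3⟩) (.one ⟨15136, 2, 4⟩)) (.node 1 (.one ⟨5758, 4, 5⟩) (.one ⟨10320, 4, 5⟩)))) (.node 4 (.node 2 (.node 1 (.one ⟨12610, 0, 6⟩) (.one ⟨132, 2, 6⟩)) (.node 1 (.one ⟨985, 5, 6⟩) (.one ⟨1692, 3, 4⟩))) (.node 2 (.node 1 (.one ⟨784, 5, 4⟩) (.one ⟨14328, 5, 5⟩)) (.node 1 (.one ⟨1045, 5, 6⟩) (.one ⟨14391, 4, 4⟩))))) (.node 8 (.node 4 (.node 2 (.node 1 (.one ⟨7868, 5, 7⟩) (.one ⟨653, 2, 6⟩)) (.node 1 (.one ⟨1351, 0, 4⟩) (.one ⟨8415, 5, 6⟩))) (.node 2 (.node 1 (.one ⟨9046, 1, 6⟩) (.one ⟨687, 2, 6⟩)) (.node 1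 (.one ⟨8713, 0, 6⟩) (.one ⟨984, 5, 6⟩)))) (.node 4 (.node 2 (.node 1 (.one ⟨8314, 0, 5⟩) (.one ⟨3396, 5, 6⟩)) (.node 1 (.one ⟨14395, 4, 5⟩) (.one ⟨8818, 5, 5⟩))) (.node 2 (.node 1 (.one ⟨15523, 5, 5⟩) (.one ⟨6719, 4, 6⟩)) (.node 1 (.one ⟨8964, 0, 5⟩) (.one ⟨17040, 4, 7⟩)))))) (.node 16 (.node 8 (.node 4 (.node 2 (.node 1 (.one ⟨8903, 5, 6⟩) (.one ⟨5792, 1, 6⟩)) (.node 1 (.one ⟨48, 2, 6⟩) (.one ⟨13783, 1, 4⟩))) (.node 2 (.node 1 (.one ⟨11537, 5, 6⟩) (.one ⟨16371, 4, 5⟩)) (.node 1 (.one ⟨2133, 5, 6⟩) (.one ⟨3726, 0, 4⟩)))) (.node 4 (.node 2 (.node 1 (.one ⟨15736, 4, 6⟩) (.one ⟨6827, 5, 6⟩)) (.node 1 (.one ⟨14370, 0, 5⟩) (.one ⟨15903, 4, 6⟩))) (.node 2 (.node 1 (.one ⟨3542, 5, 6⟩) (.one ⟨7830, 1, 5⟩)) (.node 1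 (.one ⟨15266, 5, 4⟩) (.one ⟨12820, 2, 5⟩))))) (.node 8 (.node 4 (.node 2 (.node 1 (.one ⟨9649, 0, 5⟩) (.one ⟨10701, 2, 6⟩)) (.node 1 (.one ⟨11694, 4, 6⟩) (.one ⟨4010, 4, 4⟩))) (.node 2 (.node 1 (.one ⟨16248, 4, 5⟩) (.one ⟨13049, 2, 5⟩)) (.node 1 (.one ⟨12958, 4, 4⟩) (.one ⟨15059, 5, 6⟩)))) (.node 4 (.node 2 (.node 1 (.one ⟨1946, 1, 5⟩) (.one ⟨15750, 4, 5⟩)) (.node 1 (.one ⟨8107, 5, 6⟩) (.one ⟨8671, 3, 4⟩))) (.node 2 (.node 1 (.one ⟨15134, 2, 5⟩) (.one ⟨1280, 1, 5⟩)) (.node 1 (.one ⟨11880, 2, 5⟩) (.one ⟨15494, 2, 6⟩)))))))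
def par2_11_4 : Arr Par :=
  (.node 32 (.node 16 (.node 8 (.node 4 (.node 2 (.node 1 (.one ⟨2542, 0, 6⟩) (.one ⟨13539, 3, 6⟩)) (.node 1 (.one ⟨10611, 0, 5⟩) (.one ⟨1299, 2, 6⟩))) (.node 2 (.node 1 (.one ⟨1195, 4, 5⟩) (.one ⟨2145, 0, 5⟩)) (.node 1 (.one ⟨3980, 1, 5⟩) (.one ⟨8023, 5, 5⟩)))) (.node 4 (.node 2 (.node 1 (.one ⟨11098, 2, 4⟩) (.one ⟨6469, 2, 5⟩)) (.node 1 (.one ⟨9931, 3, 6⟩) (.one ⟨3044, 5, 4⟩))) (.node 2 (.node 1 (.one ⟨5149, 4, 5⟩) (.one ⟨2669, 2, 5⟩)) (.node 1 (.one ⟨13745, 0, 4⟩) (.one ⟨2528, 4, 5⟩))))) (.node 8 (.node 4 (.node 2 (.node 1 (.one ⟨12129, 1, 6⟩) (.one ⟨3994, 3, 5⟩)) (.node 1 (.one ⟨4965, 1, 6⟩) (.one ⟨1961, 1, 4⟩))) (.node 2 (.node 1 (.one ⟨9194, 5, 6⟩) (.one ⟨5104, 0, 6⟩)) (.node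 1 (.one ⟨8226, 5, 5⟩) (.one ⟨5699, 4, 6⟩)))) (.node 4 (.node 2 (.node 1 (.one ⟨13780, 1, 5⟩) (.one ⟨6561, 5, 5⟩)) (.node 1 (.one ⟨6203, 5, 5⟩) (.one ⟨2889, 1, 5⟩))) (.node 2 (.node 1 (.one ⟨17099, 4, 5⟩) (.one ⟨13702, 2, 5⟩)) (.node 1 (.one ⟨9751, 2, 6⟩) (.one ⟨12572, 5, 5⟩)))))) (.node 16 (.node 8 (.node 4 (.node 2 (.node 1 (.one ⟨1366, 3, 5⟩) (.one ⟨10477, 5, 5⟩)) (.node 1 (.one ⟨5267, 3, 5⟩) (.one ⟨11267, 3, 6⟩))) (.node 2 (.node 1 (.one ⟨12008, 5, 3⟩) (.one ⟨3743, 5, 5⟩)) (.node 1 (.one ⟨3771, 0, 5⟩) (.one ⟨7686, 0, 5⟩)))) (.node 4 (.node 2 (.node 1 (.one ⟨8227, 2, 5⟩) (.one ⟨5577, 5, 5⟩)) (.node 1 (.one ⟨9475, 3, 3⟩) (.one ⟨2302, 4, 3⟩))) (.node 2 (.node 1 (.one ⟨6527, 0, 4⟩) (.one ⟨3528, 4, 6⟩)) (.node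 1 (.one ⟨15895, 2, 5⟩) (.one ⟨7063, 1, 4⟩))))) (.node 8 (.node 4 (.node 2 (.node 1 (.one ⟨7294, 5, 6⟩) (.one ⟨10396, 2, 6⟩)) (.node 1 (.one ⟨653, 5, 6⟩) (.one ⟨3830, 3, 5⟩))) (.node 2 (.node 1 (.one ⟨315, 5, 4⟩) (.one ⟨7291, 5, 5⟩)) (.node 1 (.one ⟨7288, 5, 5⟩) (.one ⟨6040, 1, 5⟩)))) (.node 4 (.node 2 (.node 1 (.one ⟨14036, 3, 6⟩) (.one ⟨2020, 0, 3⟩)) (.node 1 (.one ⟨13715, 0, 5⟩) (.one ⟨3736, 4, 6⟩))) (.node 2 (.node 1 (.one ⟨217, 4, 5⟩) (.one ⟨11813, 5, 6⟩)) (.node 1 (.one ⟨7358, 3, 5⟩) (.one ⟨7232, 1, 4⟩)))))))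
def par2_11_5 : Arr Par :=
  (.node 32 (.node 16 (.node 8 (.node 4 (.node 2 (.node 1 (.one ⟨13217, 1, 4⟩) (.one ⟨16403, 5, 5⟩)) (.node 1 (.one ⟨10323, 5, 2⟩) (.one ⟨16670, 0, 6⟩))) (.node 2 (.node 1 (.one ⟨11141, 4, 6⟩) (.one ⟨921, 4, 6⟩)) (.node 1 (.one ⟨6444, 0, 6⟩) (.one ⟨4414, 1, 6⟩)))) (.node 4 (.node 2 (.node 1 (.one ⟨14496, 1, 5⟩) (.one ⟨1158, 5, 4⟩)) (.node 1 (.one ⟨15300, 5, 5⟩) (.one ⟨16757, 4, 6⟩))) (.node 2 (.node 1 (.one ⟨5807, 5, 4⟩) (.one ⟨5022, 0, 4⟩)) (.node 1 (.one ⟨11542, 1, 6⟩) (.one ⟨15340, 5, 5⟩))))) (.node 8 (.node 4 (.node 2 (.node 1 (.one ⟨13358, 4, 4⟩) (.one ⟨13971, 4, 6⟩)) (.node 1 (.one ⟨12426, 5, 5⟩) (.one ⟨6418, 2, 5⟩))) (.node 2 (.node 1 (.one ⟨4435, 1, 6⟩) (.one ⟨14023, 0, 4⟩))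 (.node 1 (.one ⟨5365, 0, 5⟩) (.one ⟨11663, 4, 6⟩)))) (.node 4 (.node 2 (.node 1 (.one ⟨5722, 5, 4⟩) (.one ⟨66, 3, 4⟩)) (.node 1 (.one ⟨2610, 0, 6⟩) (.one ⟨15297, 5, 5⟩))) (.node 2 (.node 1 (.one ⟨16678, 2, 6⟩) (.one ⟨590, 3, 3⟩)) (.node 1 (.one ⟨10512, 2, 2⟩) (.one ⟨10773, 3, 4⟩)))))) (.node 16 (.node 8 (.node 4 (.node 2 (.node 1 (.one ⟨2870, 4, 5⟩) (.one ⟨13856, 5, 6⟩)) (.node 1 (.one ⟨4323, 2, 5⟩) (.one ⟨523, 5, 6⟩))) (.node 2 (.node 1 (.one ⟨12291, 0, 4⟩) (.one ⟨4008, 4, 5⟩)) (.node 1 (.one ⟨10015, 2, 5⟩) (.one ⟨7486, 4, 5⟩)))) (.node 4 (.node 2 (.node 1 (.one ⟨1745, 0, 5⟩) (.one ⟨3728, 2, 4⟩)) (.node 1 (.one ⟨13342, 2, 6⟩) (.one ⟨16314, 1, 5⟩))) (.node 2 (.node 1 (.one ⟨10913, 0, 5⟩) (.one ⟨14445, 5, 5⟩))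 (.node 1 (.one ⟨14839, 3, 4⟩) (.one ⟨163, 4, 3⟩))))) (.node 8 (.node 4 (.node 2 (.node 1 (.one ⟨16188, 1, 6⟩) (.one ⟨6660, 3, 3⟩)) (.node 1 (.one ⟨2463, 2, 5⟩) (.one ⟨13120, 4, 4⟩))) (.node 2 (.node 1 (.one ⟨9270, 1, 4⟩) (.one ⟨2354, 5, 5⟩)) (.node 1 (.one ⟨11403, 5, 6⟩) (.one ⟨4582, 5, 5⟩)))) (.node 4 (.node 2 (.node 1 (.one ⟨7082, 1, 6⟩) (.one ⟨15583, 3, 5⟩)) (.node 1 (.one ⟨14563, 4, 6⟩) (.one ⟨16298, 4, 6⟩))) (.node 2 (.node 1 (.one ⟨7925, 5, 4⟩) (.one ⟨9941, 5, 6⟩)) (.node 1 (.one ⟨11624, 5, 6⟩) (.one ⟨967, 2, 5⟩)))))))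
def par2_11_6 : Arr Par :=
  (.node 32 (.node 16 (.node 8 (.node 4 (.node 2 (.node 1 (.one ⟨12295, 4, 5⟩) (.one ⟨13183, 5, 5⟩)) (.node 1 (.one ⟨3104, 0, 6⟩) (.one ⟨1092, 4, 6⟩))) (.node 2 (.node 1 (.one ⟨17027, 1, 6⟩) (.one ⟨1997, 5, 6⟩)) (.node 1 (.one ⟨15036, 2, 4⟩) (.one ⟨7613, 0, 5⟩)))) (.node 4 (.node 2 (.node 1 (.one ⟨11673, 2, 5⟩) (.one ⟨8835, 3, 4⟩)) (.node 1 (.one ⟨12591, 3, 4⟩) (.one ⟨15364, 1, 4⟩))) (.node 2 (.node 1 (.one ⟨5403, 4, 6⟩) (.one ⟨5159, 0, 5⟩)) (.node 1 (.one ⟨15318, 0, 6⟩) (.one ⟨12999, 5, 5⟩))))) (.node 8 (.node 4 (.node 2 (.node 1 (.one ⟨1045, 4, 6⟩) (.one ⟨15227, 3, 6⟩)) (.node 1 (.one ⟨13304, 0, 4⟩) (.one ⟨4431, 5, 5⟩))) (.node 2 (.node 1 (.one ⟨11480, 5, 6⟩) (.one ⟨691, 2, 4⟩))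 (.node 1 (.one ⟨4510, 0, 6⟩) (.one ⟨8963, 3, 5⟩)))) (.node 4 (.node 2 (.node 1 (.one ⟨12247, 2, 4⟩) (.one ⟨8325, 5, 4⟩)) (.node 1 (.one ⟨13858, 1, 5⟩) (.one ⟨17197, 0, 5⟩))) (.node 2 (.node 1 (.one ⟨4359, 4, 4⟩) (.one ⟨11725, 3, 5⟩)) (.node 1 (.one ⟨11383, 1, 5⟩) (.one ⟨2708, 2, 6⟩)))))) (.node 16 (.node 8 (.node 4 (.node 2 (.node 1 (.one ⟨8809, 4, 4⟩) (.one ⟨15939, 3, 4⟩)) (.node 1 (.one ⟨4760, 1, 6⟩) (.one ⟨15636, 1, 5⟩))) (.node 2 (.node 1 (.one ⟨5365, 3, 5⟩) (.one ⟨10278, 1, 6⟩)) (.node 1 (.one ⟨17089, 0, 6⟩) (.one ⟨15801, 3, 5⟩)))) (.node 4 (.node 2 (.node 1 (.one ⟨3939, 2, 6⟩) (.one ⟨2399, 4, 5⟩)) (.node 1 (.one ⟨15136, 4, 4⟩) (.one ⟨11681, 5, 5⟩))) (.node 2 (.node 1 (.one ⟨5205, 3, 3⟩) (.one ⟨10867, 5,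 5⟩)) (.node 1 (.one ⟨9989, 5, 5⟩) (.one ⟨6709, 5, 3⟩))))) (.node 8 (.node 4 (.node 2 (.node 1 (.one ⟨15721, 1, 5⟩) (.one ⟨2046, 5, 6⟩)) (.node 1 (.one ⟨2024, 5, 5⟩) (.one ⟨11183, 3, 5⟩))) (.node 2 (.node 1 (.one ⟨6494, 3, 5⟩) (.one ⟨17195, 3, 6⟩)) (.node 1 (.one ⟨12289, 4, 6⟩) (.one ⟨3531, 4, 4⟩)))) (.node 4 (.node 2 (.node 1 (.one ⟨6397, 5, 5⟩) (.one ⟨5653, 2, 5⟩)) (.node 1 (.one ⟨1323, 0, 5⟩) (.one ⟨13593, 1, 5⟩))) (.node 2 (.node 1 (.one ⟨14457, 1, 5⟩) (.one ⟨1556, 1, 5⟩)) (.node 1 (.one ⟨2024, 0, 5⟩) (.one ⟨12632, 0, 6⟩)))))))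
def par2_11_7 : Arr Par :=
  (.node 32 (.node 16 (.node 8 (.node 4 (.node 2 (.node 1 (.one ⟨5126, 0, 3⟩) (.one ⟨3518, 0, 5⟩)) (.node 1 (.one ⟨1528, 3, 6⟩) (.one ⟨7302, 3, 6⟩))) (.node 2 (.node 1 (.one ⟨5087, 3, 6⟩) (.one ⟨6302, 2, 4⟩)) (.node 1 (.one ⟨9452, 2, 6⟩) (.one ⟨12684, 4, 5⟩)))) (.node 4 (.node 2 (.node 1 (.one ⟨2502, 2, 6⟩) (.one ⟨2338, 1, 4⟩)) (.node 1 (.one ⟨15254, 5, 6⟩) (.one ⟨11859, 5, 4⟩))) (.node 2 (.node 1 (.one ⟨92, 4, 5⟩) (.one ⟨13928, 0, 4⟩)) (.node 1 (.one ⟨11567, 5, 5⟩) (.one ⟨6210, 5, 6⟩))))) (.node 8 (.node 4 (.node 2 (.node 1 (.one ⟨5947, 5, 6⟩) (.one ⟨6949, 4, 5⟩)) (.node 1 (.one ⟨14282, 2, 6⟩) (.one ⟨12052, 2, 5⟩))) (.node 2 (.node 1 (.one ⟨10618, 2, 5⟩) (.one ⟨5984, 2, 5⟩)) (.node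 1 (.one ⟨4890, 0, 6⟩) (.one ⟨16034, 3, 4⟩)))) (.node 4 (.node 2 (.node 1 (.one ⟨6919, 5, 3⟩) (.one ⟨11415, 3, 6⟩)) (.node 1 (.one ⟨32, 5, 5⟩) (.one ⟨2626, 4, 5⟩))) (.node 2 (.node 1 (.one ⟨3180, 4, 4⟩) (.one ⟨15399, 5, 5⟩)) (.node 1 (.one ⟨4461, 3, 6⟩) (.one ⟨8004, 2, 5⟩)))))) (.node 16 (.node 8 (.node 4 (.node 2 (.node 1 (.one ⟨1011, 5, 6⟩) (.one ⟨10396, 5, 6⟩)) (.node 1 (.one ⟨9820, 1, 2⟩) (.one ⟨11190, 0, 5⟩))) (.node 2 (.node 1 (.one ⟨2046, 4, 6⟩) (.one ⟨4248, 5, 5⟩)) (.node 1 (.one ⟨1609, 4, 6⟩) (.one ⟨1412, 5, 4⟩)))) (.node 4 (.node 2 (.node 1 (.one ⟨3456, 4, 5⟩) (.one ⟨11226, 4, 5⟩)) (.node 1 (.one ⟨6216, 0, 6⟩) (.one ⟨11247, 4, 4⟩))) (.node 2 (.node 1 (.one ⟨15964, 0, 5⟩) (.one ⟨12995, 0, 5⟩)) (.node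 1 (.one ⟨14730, 0, 5⟩) (.one ⟨6592, 0, 5⟩))))) (.node 8 (.node 4 (.node 2 (.node 1 (.one ⟨7457, 1, 6⟩) (.one ⟨553, 3, 6⟩)) (.node 1 (.one ⟨16613, 0, 5⟩) (.one ⟨405, 5, 7⟩))) (.node 2 (.node 1 (.one ⟨11755, 3, 5⟩) (.one ⟨504, 5, 5⟩)) (.node 1 (.one ⟨16911, 5, 6⟩) (.one ⟨13998, 4, 6⟩)))) (.node 4 (.node 2 (.node 1 (.one ⟨2049, 0, 5⟩) (.one ⟨8766, 4, 6⟩)) (.node 1 (.one ⟨13778, 3, 5⟩) (.one ⟨9149, 2, 5⟩))) (.node 2 (.node 1 (.one ⟨5548, 1, 5⟩) (.one ⟨11023, 2, 6⟩)) (.node 1 (.one ⟨6709, 2, 3⟩) (.one ⟨6307, 5, 5⟩)))))))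
def par2_11_8 : Arr Par :=
  (.node 32 (.node 16 (.node 8 (.node 4 (.node 2 (.node 1 (.one ⟨9820, 2, 2⟩) (.one ⟨13778, 5, 5⟩)) (.node 1 (.one ⟨16594, 2, 6⟩) (.one ⟨15359, 3, 5⟩))) (.node 2 (.node 1 (.one ⟨13235, 1, 5⟩) (.one ⟨7153, 5, 4⟩)) (.node 1 (.one ⟨1630, 1, 5⟩) (.one ⟨10452, 4, 6⟩)))) (.node 4 (.node 2 (.node 1 (.one ⟨15379, 1, 5⟩) (.one ⟨11027, 2, 5⟩)) (.node 1 (.one ⟨9819, 4, 5⟩) (.one ⟨11654, 4, 5⟩))) (.node 2 (.node 1 (.one ⟨6111, 3, 5⟩) (.one ⟨5818, 1, 6⟩)) (.node 1 (.one ⟨13780, 3, 5⟩) (.one ⟨9916, 4, 5⟩))))) (.node 8 (.node 4 (.node 2 (.node 1 (.one ⟨8361, 2, 6⟩) (.one ⟨5457, 5, 6⟩)) (.node 1 (.one ⟨1203, 3, 4⟩) (.one ⟨4737, 2, 6⟩))) (.node 2 (.node 1 (.one ⟨1673, 2, 5⟩) (.one ⟨2199, 3, 6⟩)) (.node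 1 (.one ⟨22, 2, 6⟩) (.one ⟨9057, 4, 5⟩)))) (.node 4 (.node 2 (.node 1 (.one ⟨11510, 5, 5⟩) (.one ⟨9930, 0, 5⟩)) (.node 1 (.one ⟨15307, 3, 4⟩) (.one ⟨5494, 0, 6⟩))) (.node 2 (.node 1 (.one ⟨9088, 5, 6⟩) (.one ⟨3040, 2, 6⟩)) (.node 1 (.one ⟨12522, 1, 4⟩) (.one ⟨2053, 0, 5⟩)))))) (.node 16 (.node 8 (.node 4 (.node 2 (.node 1 (.one ⟨16509, 4, 3⟩) (.one ⟨14457, 5, 5⟩)) (.node 1 (.one ⟨16194, 4, 5⟩) (.one ⟨4623, 2, 6⟩))) (.node 2 (.node 1 (.one ⟨17045, 1, 5⟩) (.one ⟨14867, 2, 5⟩)) (.node 1 (.one ⟨9829, 0, 5⟩) (.one ⟨12612, 2, 4⟩)))) (.node 4 (.node 2 (.node 1 (.one ⟨3601, 1, 5⟩) (.one ⟨16879, 5, 4⟩)) (.node 1 (.one ⟨6, 2, 6⟩) (.one ⟨13949, 1, 4⟩))) (.node 2 (.node 1 (.one ⟨10252, 5, 5⟩) (.one ⟨17091, 0, 6⟩)) (.node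 1 (.one ⟨9381, 2, 6⟩) (.one ⟨2529, 4, 5⟩))))) (.node 8 (.node 4 (.node 2 (.node 1 (.one ⟨167, 3, 4⟩) (.one ⟨4055, 3, 4⟩)) (.node 1 (.one ⟨9308, 5, 3⟩) (.one ⟨4400, 1, 6⟩))) (.node 2 (.node 1 (.one ⟨16837, 0, 4⟩) (.one ⟨8319, 4, 3⟩)) (.node 1 (.one ⟨9510, 1, 5⟩) (.one ⟨5339, 2, 4⟩)))) (.node 4 (.node 2 (.node 1 (.one ⟨5453, 5, 5⟩) (.one ⟨6998, 1, 4⟩)) (.node 1 (.one ⟨11528, 2, 5⟩) (.one ⟨13649, 1, 5⟩))) (.node 2 (.node 1 (.one ⟨6190, 2, 6⟩) (.one ⟨3212, 1, 5⟩)) (.node 1 (.one ⟨17036, 1, 6⟩) (.one ⟨2262, 4, 6⟩)))))))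
def par2_11_9 : Arr Par :=
  (.node 32 (.node 16 (.node 8 (.node 4 (.node 2 (.node 1 (.one ⟨12652, 4, 6⟩) (.one ⟨10866, 2, 6⟩)) (.node 1 (.one ⟨14634, 3, 3⟩) (.one ⟨16755, 5, 5⟩))) (.node 2 (.node 1 (.one ⟨5849, 0, 5⟩) (.one ⟨16753, 1, 6⟩)) (.node 1 (.one ⟨8668, 2, 3⟩) (.one ⟨10670, 4, 4⟩)))) (.node 4 (.node 2 (.node 1 (.one ⟨1664, 5, 4⟩) (.one ⟨3581, 4, 5⟩)) (.node 1 (.one ⟨4543, 5, 5⟩) (.one ⟨1653, 5, 6⟩))) (.node 2 (.node 1 (.one ⟨1639, 5, 6⟩) (.one ⟨10118, 0, 5⟩)) (.node 1 (.one ⟨8273, 3, 6⟩) (.one ⟨7612, 5, 5⟩))))) (.node 8 (.node 4 (.node 2 (.node 1 (.one ⟨607, 3, 3⟩) (.one ⟨5317, 0, 5⟩)) (.node 1 (.one ⟨9908, 5, 5⟩) (.one ⟨14205, 2, 3⟩))) (.node 2 (.node 1 (.one ⟨10075, 4, 6⟩) (.one ⟨2912, 1, 6⟩)) (.node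 1 (.one ⟨13127, 5, 6⟩) (.one ⟨2437, 0, 5⟩)))) (.node 4 (.node 2 (.node 1 (.one ⟨16949, 2, 5⟩) (.one ⟨15976, 1, 6⟩)) (.node 1 (.one ⟨11150, 4, 5⟩) (.one ⟨607, 2, 3⟩))) (.node 2 (.node 1 (.one ⟨857, 0, 6⟩) (.one ⟨16985, 2, 5⟩)) (.node 1 (.one ⟨12914, 5, 5⟩) (.one ⟨1480, 1, 6⟩)))))) (.node 16 (.node 8 (.node 4 (.node 2 (.node 1 (.one ⟨7116, 5, 6⟩) (.one ⟨8070, 1, 5⟩)) (.node 1 (.one ⟨5403, 5, 6⟩) (.one ⟨5757, 2, 5⟩))) (.node 2 (.node 1 (.one ⟨15323, 0, 6⟩) (.one ⟨8567, 3, 5⟩)) (.node 1 (.one ⟨8162, 1, 4⟩) (.one ⟨4355, 5, 5⟩)))) (.node 4 (.node 2 (.node 1 (.one ⟨12430, 2, 4⟩) (.one ⟨15561, 3, 6⟩)) (.node 1 (.one ⟨15547, 3, 4⟩) (.one ⟨7417, 3, 5⟩))) (.node 2 (.node 1 (.one ⟨7435, 3, 2⟩) (.one ⟨13007, 0, 4⟩)) (.node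 1 (.one ⟨6160, 2, 4⟩) (.one ⟨588, 1, 5⟩))))) (.node 8 (.node 4 (.node 2 (.node 1 (.one ⟨16597, 2, 5⟩) (.one ⟨6188, 0, 5⟩)) (.node 1 (.one ⟨6663, 4, 4⟩) (.one ⟨11812, 5, 6⟩))) (.node 2 (.node 1 (.one ⟨12588, 5, 6⟩) (.one ⟨11830, 4, 6⟩)) (.node 1 (.one ⟨6494, 1, 5⟩) (.one ⟨16016, 5, 6⟩)))) (.node 4 (.node 2 (.node 1 (.one ⟨604, 2, 5⟩) (.one ⟨2478, 4, 4⟩)) (.node 1 (.one ⟨17049, 0, 4⟩) (.one ⟨1500, 2, 5⟩))) (.node 2 (.node 1 (.one ⟨11584, 2, 5⟩) (.one ⟨12382, 0, 6⟩)) (.node 1 (.one ⟨13630, 1, 4⟩) (.one ⟨132, 1, 6⟩)))))))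
def par2_11_10 : Arr Par :=
  (.node 32 (.node 16 (.node 8 (.node 4 (.node 2 (.node 1 (.one ⟨12650, 4, 5⟩) (.one ⟨12504, 5, 5⟩)) (.node 1 (.one ⟨5822, 2, 6⟩) (.one ⟨6003, 4, 4⟩))) (.node 2 (.node 1 (.one ⟨3426, 4, 5⟩) (.one ⟨163, 1, 3⟩)) (.node 1 (.one ⟨10878, 0, 5⟩) (.one ⟨7058, 2, 2⟩)))) (.node 4 (.node 2 (.node 1 (.one ⟨1013, 2, 4⟩) (.one ⟨1640, 5, 6⟩)) (.node 1 (.one ⟨3495, 2, 5⟩) (.one ⟨11016, 4, 5⟩))) (.node 2 (.node 1 (.one ⟨8214, 5, 5⟩) (.one ⟨9512, 2, 6⟩)) (.node 1 (.one ⟨4010, 1, 4⟩) (.one ⟨4884, 5, 6⟩))))) (.node 8 (.node 4 (.node 2 (.node 1 (.one ⟨647, 4, 5⟩) (.one ⟨16750, 5, 6⟩)) (.node 1 (.one ⟨6474, 0, 6⟩) (.one ⟨14148, 0, 4⟩))) (.node 2 (.node 1 (.one ⟨13778, 0, 5⟩) (.one ⟨6685, 4, 5⟩)) (.node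 1 (.one ⟨14092, 5, 3⟩) (.one ⟨10204, 0, 5⟩)))) (.node 4 (.node 2 (.node 1 (.one ⟨8685, 0, 2⟩) (.one ⟨2712, 2, 6⟩)) (.node 1 (.one ⟨4244, 0, 5⟩) (.one ⟨7196, 4, 3⟩))) (.node 2 (.node 1 (.one ⟨9514, 2, 5⟩) (.one ⟨479, 1, 4⟩)) (.node 1 (.one ⟨13949, 3, 4⟩) (.one ⟨1483, 1, 5⟩)))))) (.node 16 (.node 8 (.node 4 (.node 2 (.node 1 (.one ⟨2049, 4, 5⟩) (.one ⟨10718, 0, 4⟩)) (.node 1 (.one ⟨8592, 5, 5⟩) (.one ⟨10084, 4, 5⟩))) (.node 2 (.node 1 (.one ⟨14158, 5, 5⟩) (.one ⟨2122, 3, 5⟩)) (.node 1 (.one ⟨1971, 4, 5⟩) (.one ⟨5529, 1, 5⟩)))) (.node 4 (.node 2 (.node 1 (.one ⟨7132, 1, 5⟩) (.one ⟨11047, 5, 4⟩)) (.node 1 (.one ⟨6796, 5, 6⟩) (.one ⟨30, 2, 5⟩))) (.node 2 (.node 1 (.one ⟨4828, 4, 6⟩) (.one ⟨874, 2, 6⟩)) (.node 1 (.one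 ⟨12908, 4, 6⟩) (.one ⟨9794, 5, 5⟩))))) (.node 8 (.node 4 (.node 2 (.node 1 (.one ⟨3651, 0, 6⟩) (.one ⟨846, 0, 6⟩)) (.node 1 (.one ⟨6454, 4, 6⟩) (.one ⟨12628, 5, 4⟩))) (.node 2 (.node 1 (.one ⟨14932, 3, 5⟩) (.one ⟨7040, 4, 6⟩)) (.node 1 (.one ⟨11252, 1, 5⟩) (.one ⟨11284, 5, 4⟩)))) (.node 4 (.node 2 (.node 1 (.one ⟨3630, 2, 5⟩) (.one ⟨3050, 5, 5⟩)) (.node 1 (.one ⟨824, 1, 5⟩) (.one ⟨203, 1, 5⟩))) (.node 2 (.node 1 (.one ⟨3081, 2, 2⟩) (.one ⟨12193, 4, 6⟩)) (.node 1 (.one ⟨13114, 1, 5⟩) (.one ⟨5731, 5, 5⟩)))))))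
def par2_11_11 : Arr Par :=
  (.node 32 (.node 16 (.node 8 (.node 4 (.node 2 (.node 1 (.one ⟨7613, 4, 5⟩) (.one ⟨10091, 2, 6⟩)) (.node 1 (.one ⟨15270, 3, 6⟩) (.one ⟨8065, 5, 6⟩))) (.node 2 (.node 1 (.one ⟨4427, 1, 6⟩) (.one ⟨10508, 3, 5⟩)) (.node 1 (.one ⟨8356, 5, 5⟩) (.one ⟨2993, 5, 5⟩)))) (.node 4 (.node 2 (.node 1 (.one ⟨2133, 0, 6⟩) (.one ⟨8465, 5, 3⟩)) (.node 1 (.one ⟨5904, 2, 6⟩) (.one ⟨4929, 3, 3⟩))) (.node 2 (.node 1 (.one ⟨3004, 4, 5⟩) (.one ⟨14443, 5, 5⟩)) (.node 1 (.one ⟨5188, 5, 6⟩) (.one ⟨2196, 0, 4⟩))))) (.node 8 (.node 4 (.node 2 (.node 1 (.one ⟨5361, 1, 4⟩) (.one ⟨10689, 1, 5⟩)) (.node 1 (.one ⟨15298, 2, 6⟩) (.one ⟨9793, 5, 5⟩))) (.node 2 (.node 1 (.one ⟨9838, 1, 6⟩) (.one ⟨5657, 5, 6⟩)) (.node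 1 (.one ⟨11909, 0, 4⟩) (.one ⟨9549, 5, 5⟩)))) (.node 4 (.node 2 (.node 1 (.one ⟨15081, 0, 5⟩) (.one ⟨14255, 4, 5⟩)) (.node 1 (.one ⟨2120, 5, 5⟩) (.one ⟨6970, 3, 5⟩))) (.node 2 (.node 1 (.one ⟨1559, 1, 5⟩) (.one ⟨15707, 5, 5⟩)) (.node 1 (.one ⟨7078, 4, 4⟩) (.one ⟨7448, 2, 4⟩)))))) (.node 16 (.node 8 (.node 4 (.node 2 (.node 1 (.one ⟨568, 0, 4⟩) (.one ⟨16647, 4, 5⟩)) (.node 1 (.one ⟨10651, 2, 5⟩) (.one ⟨15796, 3, 6⟩))) (.node 2 (.node 1 (.one ⟨8231, 5, 6⟩) (.one ⟨6844, 1, 5⟩)) (.node 1 (.one ⟨1776, 1, 5⟩) (.one ⟨3500, 4, 4⟩)))) (.node 4 (.node 2 (.node 1 (.one ⟨15426, 4, 2⟩) (.one ⟨14081, 4, 6⟩)) (.node 1 (.one ⟨11182, 1, 4⟩) (.one ⟨15705, 1, 5⟩))) (.node 2 (.node 1 (.one ⟨12105, 1, 5⟩) (.one ⟨14261, 2, 5⟩)) (.node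 1 (.one ⟨1222, 1, 5⟩) (.one ⟨9956, 3, 5⟩))))) (.node 8 (.node 4 (.node 2 (.node 1 (.one ⟨13227, 3, 5⟩) (.one ⟨15335, 0, 5⟩)) (.node 1 (.one ⟨13063, 5, 6⟩) (.one ⟨7802, 1, 4⟩))) (.node 2 (.node 1 (.one ⟨1609, 2, 6⟩) (.one ⟨16151, 4, 5⟩)) (.node 1 (.one ⟨8846, 0, 3⟩) (.one ⟨6393, 5, 5⟩)))) (.node 4 (.node 2 (.node 1 (.one ⟨4534, 2, 5⟩) (.one ⟨13607, 3, 4⟩)) (.node 1 (.one ⟨6856, 1, 4⟩) (.one ⟨8866, 5, 6⟩))) (.node 2 (.node 1 (.one ⟨17131, 4, 6⟩) (.one ⟨1512, 5, 5⟩)) (.node 1 (.one ⟨13610, 3, 5⟩) (.one ⟨294, 5, 5⟩)))))))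
def par2_11_12 : Arr Par :=
  (.node 32 (.node 16 (.node 8 (.node 4 (.node 2 (.node 1 (.one ⟨15151, 2, 5⟩) (.one ⟨6200, 0, 5⟩)) (.node 1 (.one ⟨14177, 2, 4⟩) (.one ⟨14182, 5, 6⟩))) (.node 2 (.node 1 (.one ⟨10883, 4, 5⟩) (.one ⟨6018, 1, 5⟩)) (.node 1 (.one ⟨4797, 2, 4⟩) (.one ⟨16170, 1, 6⟩)))) (.node 4 (.node 2 (.node 1 (.one ⟨4084, 2, 5⟩) (.one ⟨16382, 5, 3⟩)) (.node 1 (.one ⟨11078, 0, 6⟩) (.one ⟨10834, 1, 6⟩))) (.node 2 (.node 1 (.one ⟨14231, 2, 5⟩) (.one ⟨8129, 1, 5⟩)) (.node 1 (.one ⟨2582, 2, 6⟩) (.one ⟨3255, 5, 6⟩))))) (.node 8 (.node 4 (.node 2 (.node 1 (.one ⟨8510, 1, 7⟩) (.one ⟨5948, 2, 5⟩)) (.node 1 (.one ⟨2312, 4, 5⟩) (.one ⟨4676, 5, 5⟩))) (.node 2 (.node 1 (.one ⟨4079, 4, 4⟩) (.one ⟨11333, 3, 6⟩))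 (.node 1 (.one ⟨11175, 0, 5⟩) (.one ⟨8849, 1, 5⟩)))) (.node 4 (.node 2 (.node 1 (.one ⟨7796, 5, 4⟩) (.one ⟨2947, 5, 5⟩)) (.node 1 (.one ⟨6514, 0, 3⟩) (.one ⟨5301, 1, 5⟩))) (.node 2 (.node 1 (.one ⟨12470, 5, 4⟩) (.one ⟨16268, 2, 5⟩)) (.node 1 (.one ⟨9607, 5, 6⟩) (.one ⟨449, 1, 5⟩)))))) (.node 16 (.node 8 (.node 4 (.node 2 (.node 1 (.one ⟨13276, 3, 5⟩) (.one ⟨12466, 2, 5⟩)) (.node 1 (.one ⟨12438, 3, 5⟩) (.one ⟨11835, 1, 6⟩))) (.node 2 (.node 1 (.one ⟨9093, 4, 5⟩) (.one ⟨15150, 2, 5⟩)) (.node 1 (.one ⟨13823, 5, 6⟩) (.one ⟨394, 5, 4⟩)))) (.node 4 (.node 2 (.node 1 (.one ⟨7153, 2, 4⟩) (.one ⟨6150, 2, 6⟩)) (.node 1 (.one ⟨11461, 4, 5⟩) (.one ⟨5960, 5, 4⟩))) (.node 2 (.node 1 (.one ⟨6522, 5, 4⟩) (.one ⟨152, 3, 5⟩))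 (.node 1 (.one ⟨1610, 2, 6⟩) (.one ⟨7172, 2, 5⟩))))) (.node 8 (.node 4 (.node 2 (.node 1 (.one ⟨14642, 5, 5⟩) (.one ⟨9172, 3, 4⟩)) (.node 1 (.one ⟨6736, 1, 3⟩) (.one ⟨7167, 2, 5⟩))) (.node 2 (.node 1 (.one ⟨3823, 2, 5⟩) (.one ⟨10272, 1, 5⟩)) (.node 1 (.one ⟨14102, 5, 5⟩) (.one ⟨2527, 2, 3⟩)))) (.node 4 (.node 2 (.node 1 (.one ⟨10691, 1, 5⟩) (.one ⟨2120, 2, 5⟩)) (.node 1 (.one ⟨13198, 4, 5⟩) (.one ⟨10632, 5, 6⟩))) (.node 2 (.node 1 (.one ⟨16226, 2, 6⟩) (.one ⟨16152, 2, 5⟩)) (.node 1 (.one ⟨15705, 2, 5⟩) (.one ⟨13223, 4, 5⟩)))))))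
def par2_11_13 : Arr Par :=
  (.node 32 (.node 16 (.node 8 (.node 4 (.node 2 (.node 1 (.one ⟨10769, 2, 5⟩) (.one ⟨13231, 1, 5⟩)) (.node 1 (.one ⟨16552, 4, 3⟩) (.one ⟨17165, 1, 6⟩))) (.node 2 (.node 1 (.one ⟨8825, 1, 5⟩) (.one ⟨10543, 4, 6⟩)) (.node 1 (.one ⟨14161, 1, 5⟩) (.one ⟨12909, 4, 5⟩)))) (.node 4 (.node 2 (.node 1 (.one ⟨15163, 1, 4⟩) (.one ⟨16500, 5, 4⟩)) (.node 1 (.one ⟨4050, 5, 5⟩) (.one ⟨4229, 5, 6⟩))) (.node 2 (.node 1 (.one ⟨2485, 0, 3⟩) (.one ⟨15592, 3, 6⟩)) (.node 1 (.one ⟨1091, 5, 7⟩) (.one ⟨11176, 5, 5⟩))))) (.node 8 (.node 4 (.node 2 (.node 1 (.one ⟨11222, 2, 6⟩) (.one ⟨233, 5, 4⟩)) (.node 1 (.one ⟨11250, 0, 6⟩) (.one ⟨15016, 5, 6⟩))) (.node 2 (.node 1 (.one ⟨13686, 0, 5⟩) (.one ⟨5683, 5, 6⟩))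 (.node 1 (.one ⟨7562, 5, 5⟩) (.one ⟨10157, 1, 6⟩)))) (.node 4 (.node 2 (.node 1 (.one ⟨3159, 5, 4⟩) (.one ⟨10914, 4, 6⟩)) (.node 1 (.one ⟨2961, 5, 6⟩) (.one ⟨5367, 4, 5⟩))) (.node 2 (.node 1 (.one ⟨8713, 1, 6⟩) (.one ⟨16478, 3, 4⟩)) (.node 1 (.one ⟨17113, 0, 5⟩) (.one ⟨7836, 5, 6⟩)))))) (.node 16 (.node 8 (.node 4 (.node 2 (.node 1 (.one ⟨112, 1, 0⟩) (.one ⟨10864, 5, 5⟩)) (.node 1 (.one ⟨16547, 3, 5⟩) (.one ⟨13686, 5, 5⟩))) (.node 2 (.node 1 (.one ⟨8223, 5, 4⟩) (.one ⟨14869, 4, 6⟩)) (.node 1 (.one ⟨22, 4, 6⟩) (.one ⟨13235, 3, 5⟩)))) (.node 4 (.node 2 (.node 1 (.one ⟨2645, 5, 6⟩) (.one ⟨11439, 4, 6⟩)) (.node 1 (.one ⟨13789, 5, 6⟩) (.one ⟨3272, 0, 6⟩))) (.node 2 (.node 1 (.one ⟨6264, 5, 3⟩) (.one ⟨7905, 2, 6⟩))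 (.node 1 (.one ⟨9931, 5, 6⟩) (.one ⟨13183, 2, 5⟩))))) (.node 8 (.node 4 (.node 2 (.node 1 (.one ⟨5774, 2, 5⟩) (.one ⟨201, 4, 4⟩)) (.node 1 (.one ⟨15642, 4, 5⟩) (.one ⟨2275, 5, 6⟩))) (.node 2 (.node 1 (.one ⟨8901, 2, 6⟩) (.one ⟨13398, 4, 4⟩)) (.node 1 (.one ⟨8906, 3, 6⟩) (.one ⟨14426, 1, 5⟩)))) (.node 4 (.node 2 (.node 1 (.one ⟨5307, 5, 6⟩) (.one ⟨10978, 5, 5⟩)) (.node 1 (.one ⟨14522, 5, 6⟩) (.one ⟨1703, 5, 6⟩))) (.node 2 (.node 1 (.one ⟨7226, 5, 6⟩) (.one ⟨15687, 4, 6⟩)) (.node 1 (.one ⟨1415, 1, 4⟩) (.one ⟨13630, 4, 4⟩)))))))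
def par2_11_14 : Arr Par :=
  (.node 32 (.node 16 (.node 8 (.node 4 (.node 2 (.node 1 (.one ⟨4463, 3, 6⟩) (.one ⟨7318, 1, 4⟩)) (.node 1 (.one ⟨12653, 5, 6⟩) (.one ⟨12784, 5, 4⟩))) (.node 2 (.node 1 (.one ⟨13206, 0, 5⟩) (.one ⟨13804, 5, 6⟩)) (.node 1 (.one ⟨625, 2, 5⟩) (.one ⟨13234, 2, 5⟩)))) (.node 4 (.node 2 (.node 1 (.one ⟨17018, 4, 5⟩) (.one ⟨7490, 3, 5⟩)) (.node 1 (.one ⟨14296, 5, 6⟩) (.one ⟨5561, 0, 5⟩))) (.node 2 (.node 1 (.one ⟨5143, 5, 6⟩) (.one ⟨8140, 0, 6⟩)) (.node 1 (.one ⟨6478, 1, 5⟩) (.one ⟨17113, 2, 5⟩))))) (.node 8 (.node 4 (.node 2 (.node 1 (.one ⟨833, 1, 6⟩) (.one ⟨1891, 4, 4⟩)) (.node 1 (.one ⟨97, 5, 6⟩) (.one ⟨4793, 0, 5⟩))) (.node 2 (.node 1 (.one ⟨14714, 2, 4⟩) (.one ⟨7088, 3, 4⟩)) (.node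 1 (.one ⟨5985, 5, 5⟩) (.one ⟨15426, 0, 2⟩)))) (.node 4 (.node 2 (.node 1 (.one ⟨15638, 2, 4⟩) (.one ⟨13818, 0, 4⟩)) (.node 1 (.one ⟨5159, 5, 5⟩) (.one ⟨1455, 5, 5⟩))) (.node 2 (.node 1 (.one ⟨15349, 0, 5⟩) (.one ⟨10418, 1, 7⟩)) (.node 1 (.one ⟨13702, 0, 5⟩) (.one ⟨13713, 0, 6⟩)))))) (.node 16 (.node 8 (.node 4 (.node 2 (.node 1 (.one ⟨6464, 1, 4⟩) (.one ⟨13698, 0, 5⟩)) (.node 1 (.one ⟨6389, 5, 6⟩) (.one ⟨13697, 5, 6⟩))) (.node 2 (.node 1 (.one ⟨15109, 2, 5⟩) (.one ⟨16679, 2, 5⟩)) (.node 1 (.one ⟨13339, 5, 6⟩) (.one ⟨4455, 5, 6⟩)))) (.node 4 (.node 2 (.node 1 (.one ⟨6287, 2, 4⟩) (.one ⟨7093, 0, 5⟩)) (.node 1 (.one ⟨6040, 0, 5⟩) (.one ⟨4825, 2, 6⟩))) (.node 2 (.node 1 (.one ⟨13080, 1, 7⟩) (.one ⟨3273, 2, 6⟩))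 (.node 1 (.one ⟨11318, 0, 6⟩) (.one ⟨5367, 5, 5⟩))))) (.node 8 (.node 4 (.node 2 (.node 1 (.one ⟨10304, 2, 5⟩) (.one ⟨7347, 5, 4⟩)) (.node 1 (.one ⟨15260, 2, 6⟩) (.one ⟨3528, 0, 6⟩))) (.node 2 (.node 1 (.one ⟨2419, 2, 5⟩) (.one ⟨2350, 3, 6⟩)) (.node 1 (.one ⟨8454, 5, 6⟩) (.one ⟨9465, 5, 5⟩)))) (.node 4 (.node 2 (.node 1 (.one ⟨15907, 2, 5⟩) (.one ⟨1063, 5, 4⟩)) (.node 1 (.one ⟨15119, 0, 5⟩) (.one ⟨6043, 4, 5⟩))) (.node 2 (.node 1 (.one ⟨13471, 0, 4⟩) (.one ⟨607, 1, 3⟩)) (.node 1 (.one ⟨7604, 5, 6⟩) (.one ⟨14441, 0, 5⟩)))))))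
def par2_11_15 : Arr Par :=
  (.node 32 (.node 16 (.node 8 (.node 4 (.node 2 (.node 1 (.one ⟨14123, 0, 5⟩) (.one ⟨2300, 5, 6⟩)) (.node 1 (.one ⟨3554, 5, 6⟩) (.one ⟨3912, 3, 5⟩))) (.node 2 (.node 1 (.one ⟨13911, 2, 6⟩) (.one ⟨13120, 1, 4⟩)) (.node 1 (.one ⟨4066, 5, 5⟩) (.one ⟨1121, 2, 5⟩)))) (.node 4 (.node 2 (.node 1 (.one ⟨3581, 0, 5⟩) (.one ⟨16867, 0, 6⟩)) (.node 1 (.one ⟨11808, 1, 4⟩) (.one ⟨3180, 0, 4⟩))) (.node 2 (.node 1 (.one ⟨3861, 4, 6⟩) (.one ⟨2765, 1, 7⟩)) (.node 1 (.one ⟨14625, 5, 5⟩) (.one ⟨10302, 1, 7⟩))))) (.node 8 (.node 4 (.node 2 (.node 1 (.one ⟨5641, 2, 6⟩) (.one ⟨6266, 5, 7⟩)) (.node 1 (.one ⟨11420, 2, 6⟩) (.one ⟨3991, 3, 5⟩))) (.node 2 (.node 1 (.one ⟨6444, 1, 6⟩) (.one ⟨7459, 2, 6⟩)) (.node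 1 (.one ⟨8714, 0, 6⟩) (.one ⟨11614, 0, 3⟩)))) (.node 4 (.node 2 (.node 1 (.one ⟨6441, 1, 6⟩) (.one ⟨15889, 1, 6⟩)) (.node 1 (.one ⟨14295, 1, 4⟩) (.one ⟨6307, 2, 5⟩))) (.node 2 (.node 1 (.one ⟨16609, 4, 5⟩) (.one ⟨11260, 1, 6⟩)) (.node 1 (.one ⟨12958, 1, 4⟩) (.one ⟨10672, 5, 5⟩)))))) (.node 16 (.node 8 (.node 4 (.node 2 (.node 1 (.one ⟨217, 5, 5⟩) (.one ⟨10678, 5, 5⟩)) (.node 1 (.one ⟨161, 1, 4⟩) (.one ⟨3920, 0, 4⟩))) (.node 2 (.node 1 (.one ⟨9587, 4, 6⟩) (.one ⟨10673, 5, 5⟩)) (.node 1 (.one ⟨568, 5, 4⟩) (.one ⟨15257, 4, 6⟩)))) (.node 4 (.node 2 (.node 1 (.one ⟨1046, 4, 6⟩) (.one ⟨9052, 4, 6⟩)) (.node 1 (.one ⟨3587, 5, 5⟩) (.one ⟨15976, 2, 6⟩))) (.node 2 (.node 1 (.one ⟨17138, 4, 6⟩) (.one ⟨14032, 3, 6⟩)) (.node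 1 (.one ⟨8838, 0, 6⟩) (.one ⟨2957, 4, 5⟩))))) (.node 8 (.node 4 (.node 2 (.node 1 (.one ⟨7307, 1, 5⟩) (.one ⟨16249, 5, 4⟩)) (.node 1 (.one ⟨3049, 1, 6⟩) (.one ⟨1202, 0, 6⟩))) (.node 2 (.node 1 (.one ⟨2655, 5, 5⟩) (.one ⟨5505, 5, 5⟩)) (.node 1 (.one ⟨4313, 3, 5⟩) (.one ⟨10349, 2, 2⟩)))) (.node 4 (.node 2 (.node 1 (.one ⟨16775, 3, 4⟩) (.one ⟨13728, 4, 6⟩)) (.node 1 (.one ⟨15619, 3, 5⟩) (.one ⟨4981, 4, 4⟩))) (.node 2 (.node 1 (.one ⟨3087, 5, 5⟩) (.one ⟨8252, 5, 5⟩)) (.node 1 (.one ⟨3848, 4, 4⟩) (.one ⟨3305, 4, 5⟩)))))))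
def par2_11 : Arr Par :=
  (.node 512 (.node 256 (.node 128 (.node 64 par2_11_0 par2_11_1) (.node 64 par2_11_2 par2_11_3)) (.node 128 (.node 64 par2_11_4 par2_11_5) (.node 64 par2_11_6 par2_11_7))) (.node 256 (.node 128 (.node 64 par2_11_8 par2_11_9) (.node 64 par2_11_10 par2_11_11)) (.node 128 (.node 64 par2_11_12 par2_11_13) (.node 64 par2_11_14 par2_11_15))))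
def par2_12_0 : Arr Par :=
  (.node 32 (.node 16 (.node 8 (.node 4 (.node 2 (.node 1 (.one ⟨16756, 5, 5⟩) (.one ⟨5660, 3, 5⟩)) (.node 1 (.one ⟨3111, 4, 4⟩) (.one ⟨15117, 3, 3⟩))) (.node 2 (.node 1 (.one ⟨5162, 5, 6⟩) (.one ⟨15065, 4, 6⟩)) (.node 1 (.one ⟨15774, 2, 4⟩) (.one ⟨2483, 5, 4⟩)))) (.node 4 (.node 2 (.node 1 (.one ⟨2479, 5, 6⟩) (.one ⟨661, 5, 5⟩)) (.node 1 (.one ⟨4603, 1, 6⟩) (.one ⟨5658, 1, 5⟩))) (.node 2 (.node 1 (.one ⟨3018, 4, 6⟩) (.one ⟨13808, 3, 5⟩)) (.node 1 (.one ⟨2485, 5, 3⟩) (.one ⟨4927, 0, 2⟩))))) (.node 8 (.node 4 (.node 2 (.node 1 (.one ⟨10039, 2, 5⟩) (.one ⟨15756, 3, 4⟩)) (.node 1 (.one ⟨15554, 3, 6⟩) (.one ⟨8321, 4, 5⟩))) (.node 2 (.node 1 (.one ⟨14654, 4, 5⟩) (.one ⟨722, 4, 5⟩)) (.node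 1 (.one ⟨8123, 1, 6⟩) (.one ⟨1127, 4, 5⟩)))) (.node 4 (.node 2 (.node 1 (.one ⟨8198, 4, 5⟩) (.one ⟨103, 1, 5⟩)) (.node 1 (.one ⟨1051, 1, 3⟩) (.one ⟨2325, 0, 5⟩))) (.node 2 (.node 1 (.one ⟨7718, 1, 5⟩) (.one ⟨5357, 0, 6⟩)) (.node 1 (.one ⟨16865, 0, 6⟩) (.one ⟨3601, 0, 5⟩)))))) (.node 16 (.node 8 (.node 4 (.node 2 (.node 1 (.one ⟨11694, 0, 6⟩) (.one ⟨5603, 2, 5⟩)) (.node 1 (.one ⟨11648, 0, 6⟩) (.one ⟨4030, 5, 4⟩))) (.node 2 (.node 1 (.one ⟨2573, 2, 4⟩) (.one ⟨2638, 4, 4⟩)) (.node 1 (.one ⟨16180, 5, 4⟩) (.one ⟨2943, 4, 4⟩)))) (.node 4 (.node 2 (.node 1 (.one ⟨152, 2, 5⟩) (.one ⟨9167, 2, 6⟩)) (.node 1 (.one ⟨11567, 3, 5⟩) (.one ⟨3430, 1, 5⟩))) (.node 2 (.node 1 (.one ⟨11578, 5, 6⟩) (.one ⟨13648, 3, 6⟩)) (.node 1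 (.one ⟨6477, 2, 5⟩) (.one ⟨12993, 5, 5⟩))))) (.node 8 (.node 4 (.node 2 (.node 1 (.one ⟨15638, 5, 4⟩) (.one ⟨10577, 3, 4⟩)) (.node 1 (.one ⟨7507, 4, 6⟩) (.one ⟨6892, 5, 5⟩))) (.node 2 (.node 1 (.one ⟨5379, 5, 5⟩) (.one ⟨15968, 0, 5⟩)) (.node 1 (.one ⟨4614, 5, 6⟩) (.one ⟨10349, 1, 2⟩)))) (.node 4 (.node 2 (.node 1 (.one ⟨6427, 0, 4⟩) (.one ⟨4981, 1, 4⟩)) (.node 1 (.one ⟨8397, 5, 5⟩) (.one ⟨13745, 2, 4⟩))) (.node 2 (.node 1 (.one ⟨8420, 5, 6⟩) (.one ⟨1195, 2, 5⟩)) (.node 1 (.one ⟨9073, 1, 6⟩) (.one ⟨10645, 4, 6⟩)))))))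
def par2_12_1 : Arr Par :=
  (.node 32 (.node 16 (.node 8 (.node 4 (.node 2 (.node 1 (.one ⟨16689, 4, 4⟩) (.one ⟨8140, 5, 6⟩)) (.node 1 (.one ⟨5306, 0, 7⟩) (.one ⟨22, 3, 6⟩))) (.node 2 (.node 1 (.one ⟨14932, 0, 5⟩) (.one ⟨6124, 4, 5⟩)) (.node 1 (.one ⟨5296, 4, 6⟩) (.one ⟨17104, 1, 5⟩)))) (.node 4 (.node 2 (.node 1 (.one ⟨13164, 3, 5⟩) (.one ⟨13488, 4, 5⟩)) (.node 1 (.one ⟨11284, 1, 4⟩) (.one ⟨6548, 1, 6⟩))) (.node 2 (.node 1 (.one ⟨4442, 5, 5⟩) (.one ⟨11999, 1, 5⟩)) (.node 1 (.one ⟨1003, 5, 5⟩) (.one ⟨2328, 4, 5⟩))))) (.node 8 (.node 4 (.node 2 (.node 1 (.one ⟨1439, 2, 5⟩) (.one ⟨13452, 3, 4⟩)) (.node 1 (.one ⟨13632, 0, 6⟩) (.one ⟨7337, 1, 5⟩))) (.node 2 (.node 1 (.one ⟨16480, 5, 7⟩) (.one ⟨5091, 2, 5⟩)) (.node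 1 (.one ⟨513, 5, 6⟩) (.one ⟨5508, 0, 5⟩)))) (.node 4 (.node 2 (.node 1 (.one ⟨7801, 3, 6⟩) (.one ⟨3917, 5, 6⟩)) (.node 1 (.one ⟨9481, 3, 6⟩) (.one ⟨1371, 5, 6⟩))) (.node 2 (.node 1 (.one ⟨10893, 3, 6⟩) (.one ⟨13539, 4, 6⟩)) (.node 1 (.one ⟨16904, 4, 5⟩) (.one ⟨6520, 5, 3⟩)))))) (.node 16 (.node 8 (.node 4 (.node 2 (.node 1 (.one ⟨3433, 0, 5⟩) (.one ⟨7649, 5, 3⟩)) (.node 1 (.one ⟨15066, 0, 3⟩) (.one ⟨3349, 0, 5⟩))) (.node 2 (.node 1 (.one ⟨3815, 1, 4⟩) (.one ⟨2864, 2, 4⟩)) (.node 1 (.one ⟨4372, 5, 5⟩) (.one ⟨10508, 2, 5⟩)))) (.node 4 (.node 2 (.node 1 (.one ⟨13901, 0, 5⟩) (.one ⟨4789, 5, 6⟩)) (.node 1 (.one ⟨11467, 5, 5⟩) (.one ⟨14920, 5, 5⟩))) (.node 2 (.node 1 (.one ⟨8808, 5, 6⟩) (.one ⟨4770, 2, 6⟩)) (.node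 1 (.one ⟨16644, 4, 6⟩) (.one ⟨15431, 4, 3⟩))))) (.node 8 (.node 4 (.node 2 (.node 1 (.one ⟨16408, 3, 5⟩) (.one ⟨11279, 4, 5⟩)) (.node 1 (.one ⟨10575, 3, 4⟩) (.one ⟨272, 4, 5⟩))) (.node 2 (.node 1 (.one ⟨15774, 1, 4⟩) (.one ⟨5930, 4, 5⟩)) (.node 1 (.one ⟨11915, 5, 6⟩) (.one ⟨3205, 2, 6⟩)))) (.node 4 (.node 2 (.node 1 (.one ⟨4440, 5, 4⟩) (.one ⟨14264, 1, 6⟩)) (.node 1 (.one ⟨16093, 5, 6⟩) (.one ⟨12914, 1, 5⟩))) (.node 2 (.node 1 (.one ⟨8758, 3, 3⟩) (.one ⟨16613, 4, 5⟩)) (.node 1 (.one ⟨16604, 4, 4⟩) (.one ⟨15538, 1, 5⟩)))))))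
def par2_12_2 : Arr Par :=
  (.node 32 (.node 16 (.node 8 (.node 4 (.node 2 (.node 1 (.one ⟨12744, 5, 6⟩) (.one ⟨5709, 1, 6⟩)) (.node 1 (.one ⟨1748, 4, 4⟩) (.one ⟨3242, 4, 5⟩))) (.node 2 (.node 1 (.one ⟨15707, 0, 5⟩) (.one ⟨4191, 5, 5⟩)) (.node 1 (.one ⟨11631, 5, 4⟩) (.one ⟨5225, 5, 4⟩)))) (.node 4 (.node 2 (.node 1 (.one ⟨5535, 5, 6⟩) (.one ⟨7450, 4, 5⟩)) (.node 1 (.one ⟨5811, 0, 4⟩) (.one ⟨671, 4, 4⟩))) (.node 2 (.node 1 (.one ⟨6685, 2, 5⟩) (.one ⟨5105, 4, 4⟩)) (.node 1 (.one ⟨5126, 4, 3⟩) (.one ⟨9229, 5, 6⟩))))) (.node 8 (.node 4 (.node 2 (.node 1 (.one ⟨978, 2, 6⟩) (.one ⟨9180, 1, 7⟩)) (.node 1 (.one ⟨12129, 5, 6⟩) (.one ⟨10149, 5, 5⟩))) (.node 2 (.node 1 (.one ⟨2020, 5, 3⟩) (.one ⟨7775, 2, 6⟩)) (.node 1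 (.one ⟨16319, 4, 4⟩) (.one ⟨2923, 4, 6⟩)))) (.node 4 (.node 2 (.node 1 (.one ⟨16188, 5, 6⟩) (.one ⟨2921, 4, 6⟩)) (.node 1 (.one ⟨1567, 5, 5⟩) (.one ⟨14642, 3, 5⟩))) (.node 2 (.node 1 (.one ⟨12958, 5, 4⟩) (.one ⟨3913, 3, 6⟩)) (.node 1 (.one ⟨13232, 3, 6⟩) (.one ⟨13595, 3, 4⟩)))))) (.node 16 (.node 8 (.node 4 (.node 2 (.node 1 (.one ⟨836, 3, 4⟩) (.one ⟨2563, 1, 4⟩)) (.node 1 (.one ⟨14639, 1, 6⟩) (.one ⟨15651, 1, 4⟩))) (.node 2 (.node 1 (.one ⟨9483, 4, 5⟩) (.one ⟨2130, 2, 6⟩)) (.node 1 (.one ⟨16167, 5, 4⟩) (.one ⟨10843, 0, 5⟩)))) (.node 4 (.node 2 (.node 1 (.one ⟨7853, 2, 4⟩) (.one ⟨3904, 1, 6⟩)) (.node 1 (.one ⟨4443, 5, 4⟩) (.one ⟨13575, 0, 5⟩))) (.node 2 (.node 1 (.one ⟨8465, 4, 3⟩) (.one ⟨9299, 2, 6⟩)) (.node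 1 (.one ⟨12128, 5, 1⟩) (.one ⟨11780, 5, 6⟩))))) (.node 8 (.node 4 (.node 2 (.node 1 (.one ⟨14262, 3, 5⟩) (.one ⟨8443, 1, 5⟩)) (.node 1 (.one ⟨11631, 2, 4⟩) (.one ⟨1885, 0, 6⟩))) (.node 2 (.node 1 (.one ⟨2620, 0, 5⟩) (.one ⟨11775, 5, 6⟩)) (.node 1 (.one ⟨11776, 5, 3⟩) (.one ⟨12183, 4, 3⟩)))) (.node 4 (.node 2 (.node 1 (.one ⟨6559, 4, 7⟩) (.one ⟨9249, 1, 5⟩)) (.node 1 (.one ⟨2478, 1, 4⟩) (.one ⟨9895, 2, 6⟩))) (.node 2 (.node 1 (.one ⟨15667, 4, 6⟩) (.one ⟨3094, 5, 6⟩)) (.node 1 (.one ⟨467, 4, 5⟩) (.one ⟨17045, 5, 5⟩)))))))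
def par2_12_3 : Arr Par :=
  (.node 32 (.node 16 (.node 8 (.node 4 (.node 2 (.node 1 (.one ⟨2662, 2, 6⟩) (.one ⟨13850, 1, 5⟩)) (.node 1 (.one ⟨11136, 1, 5⟩) (.one ⟨11209, 0, 5⟩))) (.node 2 (.node 1 (.one ⟨1556, 2, 5⟩) (.one ⟨16350, 4, 5⟩)) (.node 1 (.one ⟨9327, 5, 4⟩) (.one ⟨1348, 2, 5⟩)))) (.node 4 (.node 2 (.node 1 (.one ⟨11635, 2, 5⟩) (.one ⟨11835, 5, 6⟩)) (.node 1 (.one ⟨12161, 1, 5⟩) (.one ⟨3505, 3, 6⟩))) (.node 2 (.node 1 (.one ⟨13035, 0, 5⟩) (.one ⟨12000, 3, 5⟩)) (.node 1 (.one ⟨10281, 4, 4⟩) (.one ⟨5976, 3, 6⟩))))) (.node 8 (.node 4 (.node 2 (.node 1 (.one ⟨15215, 5, 5⟩) (.one ⟨5087, 5, 6⟩)) (.node 1 (.one ⟨14301, 1, 6⟩) (.one ⟨12462, 2, 2⟩))) (.node 2 (.node 1 (.one ⟨765, 5, 4⟩) (.one ⟨15694, 5, 4⟩))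 (.node 1 (.one ⟨12324, 5, 5⟩) (.one ⟨1649, 5, 5⟩)))) (.node 4 (.node 2 (.node 1 (.one ⟨10281, 3, 4⟩) (.one ⟨6458, 5, 5⟩)) (.node 1 (.one ⟨7055, 4, 5⟩) (.one ⟨6552, 5, 6⟩))) (.node 2 (.node 1 (.one ⟨9477, 3, 5⟩) (.one ⟨4764, 1, 6⟩)) (.node 1 (.one ⟨2483, 1, 4⟩) (.one ⟨13815, 3, 5⟩)))))) (.node 16 (.node 8 (.node 4 (.node 2 (.node 1 (.one ⟨14858, 1, 5⟩) (.one ⟨4490, 1, 4⟩)) (.node 1 (.one ⟨5683, 3, 6⟩) (.one ⟨13215, 0, 5⟩))) (.node 2 (.node 1 (.one ⟨170, 2, 5⟩) (.one ⟨1003, 1, 5⟩)) (.node 1 (.one ⟨6728, 3, 6⟩) (.one ⟨3132, 4, 4⟩)))) (.node 4 (.node 2 (.node 1 (.one ⟨15632, 4, 4⟩) (.one ⟨425, 4, 6⟩)) (.node 1 (.one ⟨14761, 3, 3⟩) (.one ⟨2120, 1, 5⟩))) (.node 2 (.node 1 (.one ⟨14782, 3, 3⟩) (.one ⟨15850, 5, 5⟩))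 (.node 1 (.one ⟨3708, 3, 3⟩) (.one ⟨5478, 1, 5⟩))))) (.node 8 (.node 4 (.node 2 (.node 1 (.one ⟨11107, 3, 4⟩) (.one ⟨7919, 1, 5⟩)) (.node 1 (.one ⟨2053, 2, 5⟩) (.one ⟨11110, 3, 4⟩))) (.node 2 (.node 1 (.one ⟨1499, 4, 6⟩) (.one ⟨6218, 1, 6⟩)) (.node 1 (.one ⟨2951, 2, 5⟩) (.one ⟨15056, 5, 6⟩)))) (.node 4 (.node 2 (.node 1 (.one ⟨11573, 3, 6⟩) (.one ⟨1433, 2, 6⟩)) (.node 1 (.one ⟨3053, 3, 4⟩) (.one ⟨13652, 3, 6⟩))) (.node 2 (.node 1 (.one ⟨1964, 1, 6⟩) (.one ⟨12510, 1, 5⟩)) (.node 1 (.one ⟨14546, 2, 4⟩) (.one ⟨5292, 5, 5⟩)))))))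
def par2_12_4 : Arr Par :=
  (.node 32 (.node 16 (.node 8 (.node 4 (.node 2 (.node 1 (.one ⟨12470, 1, 4⟩) (.one ⟨10236, 0, 5⟩)) (.node 1 (.one ⟨1492, 5, 5⟩) (.one ⟨10843, 3, 5⟩))) (.node 2 (.node 1 (.one ⟨14509, 1, 5⟩) (.one ⟨13213, 2, 5⟩)) (.node 1 (.one ⟨8744, 4, 4⟩) (.one ⟨7589, 0, 5⟩)))) (.node 4 (.node 2 (.node 1 (.one ⟨13229, 5, 6⟩) (.one ⟨5152, 5, 6⟩)) (.node 1 (.one ⟨9193, 2, 5⟩) (.one ⟨13179, 5, 5⟩))) (.node 2 (.node 1 (.one ⟨6290, 0, 6⟩) (.one ⟨10678, 2, 5⟩)) (.node 1 (.one ⟨2928, 0, 4⟩) (.one ⟨871, 3, 6⟩))))) (.node 8 (.node 4 (.node 2 (.node 1 (.one ⟨15372, 4, 6⟩) (.one ⟨556, 3, 5⟩)) (.node 1 (.one ⟨4301, 4, 5⟩) (.one ⟨6034, 0, 6⟩))) (.node 2 (.node 1 (.one ⟨2874, 2, 5⟩) (.one ⟨10013, 5, 6⟩)) (.node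 1 (.one ⟨1140, 5, 6⟩) (.one ⟨16923, 1, 6⟩)))) (.node 4 (.node 2 (.node 1 (.one ⟨2498, 5, 5⟩) (.one ⟨13716, 4, 6⟩)) (.node 1 (.one ⟨1967, 4, 6⟩) (.one ⟨1300, 2, 5⟩))) (.node 2 (.node 1 (.one ⟨9688, 4, 4⟩) (.one ⟨9327, 4, 4⟩)) (.node 1 (.one ⟨16753, 2, 6⟩) (.one ⟨2945, 2, 5⟩)))))) (.node 16 (.node 8 (.node 4 (.node 2 (.node 1 (.one ⟨3052, 5, 6⟩) (.one ⟨2950, 2, 2⟩)) (.node 1 (.one ⟨13118, 4, 5⟩) (.one ⟨10673, 1, 5⟩))) (.node 2 (.node 1 (.one ⟨3093, 4, 6⟩) (.one ⟨10950, 0, 6⟩)) (.node 1 (.one ⟨2943, 2, 4⟩) (.one ⟨16280, 4, 6⟩)))) (.node 4 (.node 2 (.node 1 (.one ⟨15600, 2, 4⟩) (.one ⟨7830, 3, 5⟩)) (.node 1 (.one ⟨14650, 1, 6⟩) (.one ⟨13185, 0, 6⟩))) (.node 2 (.node 1 (.one ⟨6200, 1, 5⟩) (.one ⟨3347, 2, 6⟩)) (.node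 1 (.one ⟨10942, 5, 6⟩) (.one ⟨5737, 2, 3⟩))))) (.node 8 (.node 4 (.node 2 (.node 1 (.one ⟨15752, 5, 7⟩) (.one ⟨2812, 2, 6⟩)) (.node 1 (.one ⟨7281, 4, 4⟩) (.one ⟨12185, 5, 5⟩))) (.node 2 (.node 1 (.one ⟨10106, 4, 4⟩) (.one ⟨5270, 3, 6⟩)) (.node 1 (.one ⟨3377, 5, 4⟩) (.one ⟨10504, 5, 5⟩)))) (.node 4 (.node 2 (.node 1 (.one ⟨4908, 0, 4⟩) (.one ⟨972, 2, 6⟩)) (.node 1 (.one ⟨6693, 1, 5⟩) (.one ⟨2335, 5, 5⟩))) (.node 2 (.node 1 (.one ⟨12052, 1, 5⟩) (.one ⟨3230, 5, 6⟩)) (.node 1 (.one ⟨2259, 3, 4⟩) (.one ⟨13026, 2, 4⟩)))))))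
def par2_12_5 : Arr Par :=
  (.node 32 (.node 16 (.node 8 (.node 4 (.node 2 (.node 1 (.one ⟨17197, 5, 5⟩) (.one ⟨6733, 1, 6⟩)) (.node 1 (.one ⟨7114, 2, 5⟩) (.one ⟨10978, 1, 5⟩))) (.node 2 (.node 1 (.one ⟨6709, 4, 3⟩) (.one ⟨7591, 2, 5⟩)) (.node 1 (.one ⟨14052, 2, 6⟩) (.one ⟨8202, 3, 5⟩)))) (.node 4 (.node 2 (.node 1 (.one ⟨11980, 2, 6⟩) (.one ⟨8314, 5, 5⟩)) (.node 1 (.one ⟨14793, 4, 6⟩) (.one ⟨6336, 4, 6⟩))) (.node 2 (.node 1 (.one ⟨6780, 1, 5⟩) (.one ⟨5395, 0, 5⟩)) (.node 1 (.one ⟨5608, 4, 5⟩) (.one ⟨2831, 3, 5⟩))))) (.node 8 (.node 4 (.node 2 (.node 1 (.one ⟨14885, 4, 6⟩) (.one ⟨6167, 2, 5⟩)) (.node 1 (.one ⟨10843, 5, 5⟩) (.one ⟨5301, 2, 5⟩))) (.node 2 (.node 1 (.one ⟨12499, 4, 3⟩) (.one ⟨6875, 3, 5⟩)) (.node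 1 (.one ⟨15386, 5, 6⟩) (.one ⟨79, 3, 5⟩)))) (.node 4 (.node 2 (.node 1 (.one ⟨10325, 4, 5⟩) (.one ⟨4230, 0, 5⟩)) (.node 1 (.one ⟨11133, 4, 4⟩) (.one ⟨7171, 2, 5⟩))) (.node 2 (.node 1 (.one ⟨10993, 5, 5⟩) (.one ⟨87, 3, 5⟩)) (.node 1 (.one ⟨14440, 1, 6⟩) (.one ⟨15227, 5, 6⟩)))))) (.node 16 (.node 8 (.node 4 (.node 2 (.node 1 (.one ⟨5022, 5, 4⟩) (.one ⟨6517, 2, 5⟩)) (.node 1 (.one ⟨8475, 4, 3⟩) (.one ⟨3029, 3, 6⟩))) (.node 2 (.node 1 (.one ⟨8359, 5, 5⟩) (.one ⟨5886, 2, 6⟩)) (.node 1 (.one ⟨5334, 0, 5⟩) (.one ⟨12412, 5, 4⟩)))) (.node 4 (.node 2 (.node 1 (.one ⟨10419, 4, 4⟩) (.one ⟨2631, 5, 4⟩)) (.node 1 (.one ⟨2526, 5, 4⟩) (.one ⟨15966, 5, 5⟩))) (.node 2 (.node 1 (.one ⟨16076, 5, 5⟩) (.one ⟨6110, 5, 5⟩)) (.node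 1 (.one ⟨235, 4, 5⟩) (.one ⟨9045, 0, 4⟩))))) (.node 8 (.node 4 (.node 2 (.node 1 (.one ⟨5902, 3, 5⟩) (.one ⟨1072, 4, 6⟩)) (.node 1 (.one ⟨235, 2, 5⟩) (.one ⟨13404, 2, 4⟩))) (.node 2 (.node 1 (.one ⟨6002, 2, 6⟩) (.one ⟨9117, 3, 4⟩)) (.node 1 (.one ⟨1353, 5, 5⟩) (.one ⟨8988, 4, 5⟩)))) (.node 4 (.node 2 (.node 1 (.one ⟨16472, 2, 6⟩) (.one ⟨15167, 2, 6⟩)) (.node 1 (.one ⟨11553, 5, 6⟩) (.one ⟨11830, 5, 6⟩))) (.node 2 (.node 1 (.one ⟨14616, 0, 6⟩) (.one ⟨15984, 1, 5⟩)) (.node 1 (.one ⟨1366, 4, 5⟩) (.one ⟨6306, 5, 4⟩)))))))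
def par2_12_6 : Arr Par :=
  (.node 32 (.node 16 (.node 8 (.node 4 (.node 2 (.node 1 (.one ⟨4766, 4, 5⟩) (.one ⟨1323, 3, 5⟩)) (.node 1 (.one ⟨3312, 0, 4⟩) (.one ⟨4578, 4, 5⟩))) (.node 2 (.node 1 (.one ⟨10349, 3, 2⟩) (.one ⟨8567, 5, 5⟩)) (.node 1 (.one ⟨3623, 5, 5⟩) (.one ⟨16465, 3, 5⟩)))) (.node 4 (.node 2 (.node 1 (.one ⟨12531, 5, 5⟩) (.one ⟨2249, 2, 6⟩)) (.node 1 (.one ⟨3820, 4, 6⟩) (.one ⟨9115, 0, 6⟩))) (.node 2 (.node 1 (.one ⟨9540, 3, 4⟩) (.one ⟨9192, 5, 4⟩)) (.node 1 (.one ⟨13939, 5, 5⟩) (.one ⟨2814, 5, 6⟩))))) (.node 8 (.node 4 (.node 2 (.node 1 (.one ⟨16963, 4, 5⟩) (.one ⟨2025, 4, 5⟩)) (.node 1 (.one ⟨14586, 3, 6⟩) (.one ⟨16604, 0, 4⟩))) (.node 2 (.node 1 (.one ⟨9172, 0, 4⟩) (.one ⟨628, 4, 5⟩)) (.node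 1 (.one ⟨15846, 2, 6⟩) (.one ⟨14447, 0, 2⟩)))) (.node 4 (.node 2 (.node 1 (.one ⟨12642, 3, 4⟩) (.one ⟨10585, 3, 6⟩)) (.node 1 (.one ⟨10655, 3, 6⟩) (.one ⟨6849, 1, 6⟩))) (.node 2 (.node 1 (.one ⟨16763, 4, 6⟩) (.one ⟨14782, 4, 3⟩)) (.node 1 (.one ⟨5391, 3, 5⟩) (.one ⟨13232, 2, 6⟩)))))) (.node 16 (.node 8 (.node 4 (.node 2 (.node 1 (.one ⟨13231, 2, 5⟩) (.one ⟨14150, 1, 4⟩)) (.node 1 (.one ⟨11572, 4, 5⟩) (.one ⟨14546, 3, 4⟩))) (.node 2 (.node 1 (.one ⟨13235, 2, 5⟩) (.one ⟨13115, 0, 3⟩)) (.node 1 (.one ⟨8397, 0, 5⟩) (.one ⟨9249, 5, 5⟩)))) (.node 4 (.node 2 (.node 1 (.one ⟨2305, 0, 5⟩) (.one ⟨4524, 4, 6⟩)) (.node 1 (.one ⟨15515, 4, 4⟩) (.one ⟨3698, 5, 6⟩))) (.node 2 (.node 1 (.one ⟨1346, 3, 6⟩) (.one ⟨13466, 1, 6⟩))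 (.node 1 (.one ⟨7514, 2, 6⟩) (.one ⟨1217, 5, 5⟩))))) (.node 8 (.node 4 (.node 2 (.node 1 (.one ⟨4107, 5, 6⟩) (.one ⟨9226, 1, 6⟩)) (.node 1 (.one ⟨3357, 5, 4⟩) (.one ⟨17054, 4, 6⟩))) (.node 2 (.node 1 (.one ⟨13706, 5, 5⟩) (.one ⟨1094, 3, 4⟩)) (.node 1 (.one ⟨16100, 2, 6⟩) (.one ⟨14186, 0, 5⟩)))) (.node 4 (.node 2 (.node 1 (.one ⟨15646, 5, 6⟩) (.one ⟨1383, 3, 4⟩)) (.node 1 (.one ⟨6988, 3, 5⟩) (.one ⟨6386, 0, 5⟩))) (.node 2 (.node 1 (.one ⟨9815, 1, 4⟩) (.one ⟨2632, 3, 5⟩)) (.node 1 (.one ⟨7172, 3, 5⟩) (.one ⟨10928, 1, 5⟩)))))))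
def par2_12_7 : Arr Par :=
  (.node 32 (.node 16 (.node 8 (.node 4 (.node 2 (.node 1 (.one ⟨12972, 5, 6⟩) (.one ⟨4467, 2, 5⟩)) (.node 1 (.one ⟨16880, 5, 4⟩) (.one ⟨12760, 1, 6⟩))) (.node 2 (.node 1 (.one ⟨4111, 1, 6⟩) (.one ⟨16960, 5, 4⟩)) (.node 1 (.one ⟨15711, 5, 4⟩) (.one ⟨10868, 5, 6⟩)))) (.node 4 (.node 2 (.node 1 (.one ⟨14431, 3, 5⟩) (.one ⟨16392, 1, 5⟩)) (.node 1 (.one ⟨16368, 5, 6⟩) (.one ⟨7385, 0, 4⟩))) (.node 2 (.node 1 (.one ⟨14491, 5, 5⟩) (.one ⟨1570, 4, 5⟩)) (.node 1 (.one ⟨9463, 1, 5⟩) (.one ⟨5486, 2, 7⟩))))) (.node 8 (.node 4 (.node 2 (.node 1 (.one ⟨16328, 1, 3⟩) (.one ⟨8664, 1, 5⟩)) (.node 1 (.one ⟨1535, 4, 5⟩) (.one ⟨4119, 1, 6⟩))) (.node 2 (.node 1 (.one ⟨1822, 2, 5⟩) (.one ⟨3821, 5, 6⟩))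 (.node 1 (.one ⟨15889, 3, 6⟩) (.one ⟨15424, 0, 4⟩)))) (.node 4 (.node 2 (.node 1 (.one ⟨11440, 5, 5⟩) (.one ⟨10730, 3, 6⟩)) (.node 1 (.one ⟨10090, 2, 4⟩) (.one ⟨15540, 5, 5⟩))) (.node 2 (.node 1 (.one ⟨2858, 5, 4⟩) (.one ⟨8148, 2, 6⟩)) (.node 1 (.one ⟨6018, 5, 5⟩) (.one ⟨1637, 3, 5⟩)))))) (.node 16 (.node 8 (.node 4 (.node 2 (.node 1 (.one ⟨6464, 0, 4⟩) (.one ⟨6205, 2, 5⟩)) (.node 1 (.one ⟨13279, 2, 3⟩) (.one ⟨1102, 5, 4⟩))) (.node 2 (.node 1 (.one ⟨10551, 1, 6⟩) (.one ⟨6468, 4, 4⟩)) (.node 1 (.one ⟨7171, 5, 5⟩) (.one ⟨6732, 0, 6⟩)))) (.node 4 (.node 2 (.node 1 (.one ⟨16408, 5, 5⟩) (.one ⟨1500, 0, 5⟩)) (.node 1 (.one ⟨5343, 1, 2⟩) (.one ⟨4230, 5, 5⟩))) (.node 2 (.node 1 (.one ⟨14276, 0, 2⟩) (.one ⟨1460, 5, 5⟩))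 (.node 1 (.one ⟨3907, 2, 5⟩) (.one ⟨11764, 0, 6⟩))))) (.node 8 (.node 4 (.node 2 (.node 1 (.one ⟨3800, 2, 3⟩) (.one ⟨7146, 3, 6⟩)) (.node 1 (.one ⟨6829, 2, 5⟩) (.one ⟨17100, 3, 5⟩))) (.node 2 (.node 1 (.one ⟨11457, 1, 5⟩) (.one ⟨15578, 4, 5⟩)) (.node 1 (.one ⟨11703, 2, 5⟩) (.one ⟨10293, 0, 5⟩)))) (.node 4 (.node 2 (.node 1 (.one ⟨12676, 4, 3⟩) (.one ⟨13786, 2, 6⟩)) (.node 1 (.one ⟨5827, 3, 5⟩) (.one ⟨12857, 3, 5⟩))) (.node 2 (.node 1 (.one ⟨2269, 1, 6⟩) (.one ⟨3603, 4, 5⟩)) (.node 1 (.one ⟨5068, 0, 5⟩) (.one ⟨6560, 0, 6⟩)))))))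
def par2_12_8 : Arr Par :=
  (.node 32 (.node 16 (.node 8 (.node 4 (.node 2 (.node 1 (.one ⟨7170, 0, 6⟩) (.one ⟨754, 0, 5⟩)) (.node 1 (.one ⟨4925, 5, 6⟩) (.one ⟨10813, 5, 6⟩))) (.node 2 (.node 1 (.one ⟨14346, 2, 6⟩) (.one ⟨15781, 2, 4⟩)) (.node 1 (.one ⟨15249, 0, 5⟩) (.one ⟨4071, 3, 5⟩)))) (.node 4 (.node 2 (.node 1 (.one ⟨10246, 5, 5⟩) (.one ⟨14084, 5, 4⟩)) (.node 1 (.one ⟨13698, 3, 5⟩) (.one ⟨2467, 4, 5⟩))) (.node 2 (.node 1 (.one ⟨3022, 5, 6⟩) (.one ⟨2689, 4, 5⟩)) (.node 1 (.one ⟨10118, 3, 5⟩) (.one ⟨12628, 1, 4⟩))))) (.node 8 (.node 4 (.node 2 (.node 1 (.one ⟨3728, 0, 4⟩) (.one ⟨15515, 5, 4⟩)) (.node 1 (.one ⟨9867, 1, 4⟩) (.one ⟨5467, 4, 6⟩))) (.node 2 (.node 1 (.one ⟨11859, 1, 4⟩) (.one ⟨11020, 1, 5⟩))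 (.node 1 (.one ⟨14705, 2, 4⟩) (.one ⟨8198, 0, 5⟩)))) (.node 4 (.node 2 (.node 1 (.one ⟨4421, 5, 5⟩) (.one ⟨1661, 5, 5⟩)) (.node 1 (.one ⟨10149, 4, 5⟩) (.one ⟨13973, 2, 6⟩))) (.node 2 (.node 1 (.one ⟨14494, 2, 5⟩) (.one ⟨14205, 0, 3⟩)) (.node 1 (.one ⟨16922, 2, 6⟩) (.one ⟨15769, 5, 6⟩)))))) (.node 16 (.node 8 (.node 4 (.node 2 (.node 1 (.one ⟨16098, 0, 6⟩) (.one ⟨14691, 3, 5⟩)) (.node 1 (.one ⟨9780, 1, 4⟩) (.one ⟨12750, 5, 6⟩))) (.node 2 (.node 1 (.one ⟨558, 3, 6⟩) (.one ⟨2875, 2, 6⟩)) (.node 1 (.one ⟨17007, 5, 6⟩) (.one ⟨7572, 0, 6⟩)))) (.node 4 (.node 2 (.node 1 (.one ⟨1657, 2, 5⟩) (.one ⟨13143, 1, 5⟩)) (.node 1 (.one ⟨3601, 5, 5⟩) (.one ⟨2143, 1, 5⟩))) (.node 2 (.node 1 (.one ⟨15690, 5, 5⟩) (.one ⟨5559, 4,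 5⟩)) (.node 1 (.one ⟨14178, 3, 4⟩) (.one ⟨9274, 5, 4⟩))))) (.node 8 (.node 4 (.node 2 (.node 1 (.one ⟨7819, 5, 6⟩) (.one ⟨2166, 0, 4⟩)) (.node 1 (.one ⟨13329, 4, 6⟩) (.one ⟨678, 0, 4⟩))) (.node 2 (.node 1 (.one ⟨12032, 4, 6⟩) (.one ⟨4874, 1, 5⟩)) (.node 1 (.one ⟨17057, 2, 6⟩) (.one ⟨8675, 4, 4⟩)))) (.node 4 (.node 2 (.node 1 (.one ⟨6664, 2, 5⟩) (.one ⟨2792, 1, 4⟩)) (.node 1 (.one ⟨4987, 1, 5⟩) (.one ⟨8289, 2, 6⟩))) (.node 2 (.node 1 (.one ⟨13956, 0, 4⟩) (.one ⟨4179, 5, 5⟩)) (.node 1 (.one ⟨11238, 5, 6⟩) (.one ⟨12988, 2, 4⟩)))))))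
def par2_12_9 : Arr Par :=
  (.node 32 (.node 16 (.node 8 (.node 4 (.node 2 (.node 1 (.one ⟨14709, 0, 5⟩) (.one ⟨8044, 2, 5⟩)) (.node 1 (.one ⟨730, 4, 5⟩) (.one ⟨13166, 1, 6⟩))) (.node 2 (.node 1 (.one ⟨15003, 5, 6⟩) (.one ⟨13139, 1, 6⟩)) (.node 1 (.one ⟨14756, 5, 6⟩) (.one ⟨11212, 3, 6⟩)))) (.node 4 (.node 2 (.node 1 (.one ⟨15604, 0, 5⟩) (.one ⟨16329, 5, 6⟩)) (.node 1 (.one ⟨12040, 5, 6⟩) (.one ⟨3142, 5, 6⟩))) (.node 2 (.node 1 (.one ⟨13569, 0, 5⟩) (.one ⟨4433, 1, 6⟩)) (.node 1 (.one ⟨1567, 4, 5⟩) (.one ⟨15079, 5, 6⟩))))) (.node 8 (.node 4 (.node 2 (.node 1 (.one ⟨7811, 5, 5⟩) (.one ⟨12544, 4, 5⟩)) (.node 1 (.one ⟨648, 1, 5⟩) (.one ⟨6197, 0, 5⟩))) (.node 2 (.node 1 (.one ⟨5414, 4, 5⟩) (.one ⟨4554, 5, 6⟩)) (.node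 1 (.one ⟨11132, 2, 4⟩) (.one ⟨10583, 4, 5⟩)))) (.node 4 (.node 2 (.node 1 (.one ⟨2378, 0, 6⟩) (.one ⟨4084, 1, 5⟩)) (.node 1 (.one ⟨14137, 5, 6⟩) (.one ⟨14420, 4, 5⟩))) (.node 2 (.node 1 (.one ⟨2819, 2, 4⟩) (.one ⟨9676, 4, 4⟩)) (.node 1 (.one ⟨741, 5, 6⟩) (.one ⟨4676, 4, 5⟩)))))) (.node 16 (.node 8 (.node 4 (.node 2 (.node 1 (.one ⟨10577, 1, 4⟩) (.one ⟨8434, 3, 5⟩)) (.node 1 (.one ⟨14125, 0, 4⟩) (.one ⟨16537, 3, 5⟩))) (.node 2 (.node 1 (.one ⟨14370, 2, 5⟩) (.one ⟨8469, 5, 6⟩)) (.node 1 (.one ⟨16083, 5, 6⟩) (.one ⟨417, 0, 5⟩)))) (.node 4 (.node 2 (.node 1 (.one ⟨13009, 5, 4⟩) (.one ⟨4674, 2, 5⟩)) (.node 1 (.one ⟨9991, 5, 4⟩) (.one ⟨16810, 0, 3⟩))) (.node 2 (.node 1 (.one ⟨8227, 1, 5⟩) (.one ⟨12752, 5, 4⟩)) (.node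 1 (.one ⟨12760, 2, 6⟩) (.one ⟨10819, 2, 5⟩))))) (.node 8 (.node 4 (.node 2 (.node 1 (.one ⟨8822, 5, 5⟩) (.one ⟨9052, 3, 6⟩)) (.node 1 (.one ⟨10791, 4, 4⟩) (.one ⟨9515, 3, 4⟩))) (.node 2 (.node 1 (.one ⟨14772, 0, 5⟩) (.one ⟨14773, 0, 6⟩)) (.node 1 (.one ⟨363, 0, 4⟩) (.one ⟨11040, 5, 3⟩)))) (.node 4 (.node 2 (.node 1 (.one ⟨7582, 4, 6⟩) (.one ⟨3773, 3, 6⟩)) (.node 1 (.one ⟨6503, 1, 6⟩) (.one ⟨9940, 5, 4⟩))) (.node 2 (.node 1 (.one ⟨3176, 5, 5⟩) (.one ⟨10597, 4, 5⟩)) (.node 1 (.one ⟨14455, 0, 5⟩) (.one ⟨13035, 3, 5⟩)))))))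
def par2_12_10 : Arr Par :=
  (.node 32 (.node 16 (.node 8 (.node 4 (.node 2 (.node 1 (.one ⟨5101, 4, 5⟩) (.one ⟨10123, 4, 6⟩)) (.node 1 (.one ⟨13788, 5, 5⟩) (.one ⟨3594, 1, 5⟩))) (.node 2 (.node 1 (.one ⟨1035, 1, 5⟩) (.one ⟨14922, 5, 6⟩)) (.node 1 (.one ⟨1954, 2, 5⟩) (.one ⟨8539, 5, 6⟩)))) (.node 4 (.node 2 (.node 1 (.one ⟨7592, 1, 5⟩) (.one ⟨7455, 1, 6⟩)) (.node 1 (.one ⟨14929, 4, 5⟩) (.one ⟨2818, 5, 6⟩))) (.node 2 (.node 1 (.one ⟨15966, 2, 5⟩) (.one ⟨32, 0, 5⟩)) (.node 1 (.one ⟨210, 4, 6⟩) (.one ⟨16705, 1, 5⟩))))) (.node 8 (.node 4 (.node 2 (.node 1 (.one ⟨14996, 3, 6⟩) (.one ⟨4874, 4, 5⟩)) (.node 1 (.one ⟨6170, 2, 4⟩) (.one ⟨15698, 5, 5⟩))) (.node 2 (.node 1 (.one ⟨5474, 4, 5⟩) (.one ⟨6456, 1, 5⟩)) (.node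 1 (.one ⟨8074, 2, 5⟩) (.one ⟨9475, 1, 3⟩)))) (.node 4 (.node 2 (.node 1 (.one ⟨2201, 1, 5⟩) (.one ⟨7998, 1, 5⟩)) (.node 1 (.one ⟨15756, 1, 4⟩) (.one ⟨254, 3, 5⟩))) (.node 2 (.node 1 (.one ⟨836, 2, 4⟩) (.one ⟨16028, 5, 6⟩)) (.node 1 (.one ⟨12778, 4, 3⟩) (.one ⟨414, 4, 5⟩)))))) (.node 16 (.node 8 (.node 4 (.node 2 (.node 1 (.one ⟨9930, 2, 5⟩) (.one ⟨13070, 0, 5⟩)) (.node 1 (.one ⟨5854, 1, 6⟩) (.one ⟨5508, 2, 5⟩))) (.node 2 (.node 1 (.one ⟨1458, 0, 4⟩) (.one ⟨3974, 2, 6⟩)) (.node 1 (.one ⟨8620, 5, 6⟩) (.one ⟨13935, 2, 4⟩)))) (.node 4 (.node 2 (.node 1 (.one ⟨13967, 3, 6⟩) (.one ⟨9815, 0, 4⟩)) (.node 1 (.one ⟨5879, 3, 6⟩) (.one ⟨6899, 4, 6⟩))) (.node 2 (.node 1 (.one ⟨5391, 1, 5⟩) (.one ⟨13049, 4, 5⟩)) (.node 1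 (.one ⟨1988, 4, 6⟩) (.one ⟨11907, 4, 5⟩))))) (.node 8 (.node 4 (.node 2 (.node 1 (.one ⟨16248, 5, 5⟩) (.one ⟨16073, 4, 5⟩)) (.node 1 (.one ⟨14431, 0, 5⟩) (.one ⟨476, 0, 6⟩))) (.node 2 (.node 1 (.one ⟨7095, 0, 5⟩) (.one ⟨8201, 2, 4⟩)) (.node 1 (.one ⟨235, 5, 5⟩) (.one ⟨7844, 0, 2⟩)))) (.node 4 (.node 2 (.node 1 (.one ⟨10351, 3, 5⟩) (.one ⟨12496, 1, 6⟩)) (.node 1 (.one ⟨7556, 4, 5⟩) (.one ⟨13481, 3, 4⟩))) (.node 2 (.node 1 (.one ⟨5205, 2, 3⟩) (.one ⟨14615, 5, 4⟩)) (.node 1 (.one ⟨7779, 0, 5⟩) (.one ⟨13646, 4, 6⟩)))))))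
def par2_12_11 : Arr Par :=
  (.node 32 (.node 16 (.node 8 (.node 4 (.node 2 (.node 1 (.one ⟨7717, 0, 4⟩) (.one ⟨1458, 3, 4⟩)) (.node 1 (.one ⟨254, 0, 5⟩) (.one ⟨10574, 5, 4⟩))) (.node 2 (.node 1 (.one ⟨5494, 2, 6⟩) (.one ⟨14244, 5, 5⟩)) (.node 1 (.one ⟨7365, 2, 4⟩) (.one ⟨16167, 4, 4⟩)))) (.node 4 (.node 2 (.node 1 (.one ⟨16632, 0, 5⟩) (.one ⟨14133, 2, 5⟩)) (.node 1 (.one ⟨13954, 1, 5⟩) (.one ⟨5508, 1, 5⟩))) (.node 2 (.node 1 (.one ⟨17105, 4, 6⟩) (.one ⟨9930, 1, 5⟩)) (.node 1 (.one ⟨16759, 3, 6⟩) (.one ⟨88, 3, 3⟩))))) (.node 8 (.node 4 (.node 2 (.node 1 (.one ⟨5403, 0, 6⟩) (.one ⟨8196, 2, 3⟩)) (.node 1 (.one ⟨8192, 2, 6⟩) (.one ⟨8198, 2, 5⟩))) (.node 2 (.node 1 (.one ⟨8194, 2, 5⟩) (.one ⟨10666, 0, 5⟩)) (.node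 1 (.one ⟨1325, 5, 5⟩) (.one ⟨15707, 3, 5⟩)))) (.node 4 (.node 2 (.node 1 (.one ⟨12647, 2, 5⟩) (.one ⟨16286, 2, 5⟩)) (.node 1 (.one ⟨7435, 4, 2⟩) (.one ⟨15579, 1, 5⟩))) (.node 2 (.node 1 (.one ⟨13363, 2, 7⟩) (.one ⟨7400, 1, 6⟩)) (.node 1 (.one ⟨9793, 4, 5⟩) (.one ⟨7657, 0, 6⟩)))))) (.node 16 (.node 8 (.node 4 (.node 2 (.node 1 (.one ⟨7434, 4, 6⟩) (.one ⟨2608, 2, 5⟩)) (.node 1 (.one ⟨10384, 0, 3⟩) (.one ⟨6802, 0, 5⟩))) (.node 2 (.node 1 (.one ⟨8117, 1, 5⟩) (.one ⟨16228, 0, 3⟩)) (.node 1 (.one ⟨5844, 5, 3⟩) (.one ⟨6693, 5, 5⟩)))) (.node 4 (.node 2 (.node 1 (.one ⟨10339, 5, 2⟩) (.one ⟨2130, 1, 6⟩)) (.node 1 (.one ⟨10039, 4, 5⟩) (.one ⟨16598, 5, 4⟩))) (.node 2 (.node 1 (.one ⟨12914, 2, 5⟩) (.one ⟨9040, 5, 5⟩)) (.node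 1 (.one ⟨15786, 2, 6⟩) (.one ⟨16601, 2, 6⟩))))) (.node 8 (.node 4 (.node 2 (.node 1 (.one ⟨12752, 2, 4⟩) (.one ⟨10209, 4, 5⟩)) (.node 1 (.one ⟨13094, 5, 6⟩) (.one ⟨13554, 2, 6⟩))) (.node 2 (.node 1 (.one ⟨16969, 2, 6⟩) (.one ⟨6126, 1, 4⟩)) (.node 1 (.one ⟨2202, 0, 4⟩) (.one ⟨12290, 3, 5⟩)))) (.node 4 (.node 2 (.node 1 (.one ⟨16944, 2, 6⟩) (.one ⟨11829, 1, 4⟩)) (.node 1 (.one ⟨3864, 1, 5⟩) (.one ⟨14064, 5, 5⟩))) (.node 2 (.node 1 (.one ⟨5609, 4, 6⟩) (.one ⟨9574, 1, 6⟩)) (.node 1 (.one ⟨9629, 5, 5⟩) (.one ⟨1326, 5, 4⟩)))))))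
def par2_12_12 : Arr Par :=
  (.node 32 (.node 16 (.node 8 (.node 4 (.node 2 (.node 1 (.one ⟨15310, 3, 7⟩) (.one ⟨9241, 5, 7⟩)) (.node 1 (.one ⟨1336, 2, 4⟩) (.one ⟨611, 5, 5⟩))) (.node 2 (.node 1 (.one ⟨1435, 2, 6⟩) (.one ⟨6977, 1, 5⟩)) (.node 1 (.one ⟨763, 4, 5⟩) (.one ⟨16575, 4, 5⟩)))) (.node 4 (.node 2 (.node 1 (.one ⟨9615, 2, 5⟩) (.one ⟨7769, 3, 6⟩)) (.node 1 (.one ⟨14385, 2, 5⟩) (.one ⟨16707, 5, 5⟩))) (.node 2 (.node 1 (.one ⟨10069, 0, 2⟩) (.one ⟨13497, 1, 6⟩)) (.node 1 (.one ⟨6115, 5, 4⟩) (.one ⟨5694, 3, 6⟩))))) (.node 8 (.node 4 (.node 2 (.node 1 (.one ⟨9163, 0, 6⟩) (.one ⟨3919, 4, 5⟩)) (.node 1 (.one ⟨672, 4, 6⟩) (.one ⟨6212, 5, 6⟩))) (.node 2 (.node 1 (.one ⟨10243, 0, 3⟩) (.one ⟨16517, 4, 3⟩)) (.node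 1 (.one ⟨5789, 5, 4⟩) (.one ⟨610, 5, 5⟩)))) (.node 4 (.node 2 (.node 1 (.one ⟨8507, 4, 6⟩) (.one ⟨14800, 1, 6⟩)) (.node 1 (.one ⟨6982, 4, 6⟩) (.one ⟨1219, 5, 7⟩))) (.node 2 (.node 1 (.one ⟨8257, 1, 4⟩) (.one ⟨16230, 5, 6⟩)) (.node 1 (.one ⟨11222, 1, 6⟩) (.one ⟨30, 1, 5⟩)))))) (.node 16 (.node 8 (.node 4 (.node 2 (.node 1 (.one ⟨3403, 5, 5⟩) (.one ⟨5970, 4, 6⟩)) (.node 1 (.one ⟨13550, 2, 5⟩) (.one ⟨1267, 4, 6⟩))) (.node 2 (.node 1 (.one ⟨7120, 1, 5⟩) (.one ⟨9618, 2, 6⟩)) (.node 1 (.one ⟨4475, 5, 5⟩) (.one ⟨16362, 3, 5⟩)))) (.node 4 (.node 2 (.node 1 (.one ⟨16261, 0, 6⟩) (.one ⟨11122, 4, 4⟩)) (.node 1 (.one ⟨611, 2, 5⟩) (.one ⟨13516, 4, 4⟩))) (.node 2 (.node 1 (.one ⟨13441, 4, 5⟩) (.one ⟨8507, 2, 6⟩)) (.node 1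 (.one ⟨1775, 5, 5⟩) (.one ⟨1054, 2, 5⟩))))) (.node 8 (.node 4 (.node 2 (.node 1 (.one ⟨14552, 2, 6⟩) (.one ⟨15027, 2, 6⟩)) (.node 1 (.one ⟨9145, 1, 6⟩) (.one ⟨7509, 4, 6⟩))) (.node 2 (.node 1 (.one ⟨3308, 1, 5⟩) (.one ⟨11622, 5, 6⟩)) (.node 1 (.one ⟨5162, 4, 6⟩) (.one ⟨3734, 0, 4⟩)))) (.node 4 (.node 2 (.node 1 (.one ⟨5614, 1, 5⟩) (.one ⟨12714, 1, 5⟩)) (.node 1 (.one ⟨1891, 5, 4⟩) (.one ⟨7435, 1, 2⟩))) (.node 2 (.node 1 (.one ⟨15992, 5, 5⟩) (.one ⟨17046, 4, 6⟩)) (.node 1 (.one ⟨12436, 5, 4⟩) (.one ⟨15095, 4, 3⟩)))))))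
def par2_12_13 : Arr Par :=
  (.node 32 (.node 16 (.node 8 (.node 4 (.node 2 (.node 1 (.one ⟨2485, 3, 3⟩) (.one ⟨184, 2, 6⟩)) (.node 1 (.one ⟨14417, 5, 6⟩) (.one ⟨2405, 1, 3⟩))) (.node 2 (.node 1 (.one ⟨16059, 4, 5⟩) (.one ⟨4577, 0, 6⟩)) (.node 1 (.one ⟨11681, 4, 5⟩) (.one ⟨14251, 5, 5⟩)))) (.node 4 (.node 2 (.node 1 (.one ⟨5963, 0, 4⟩) (.one ⟨15717, 1, 5⟩)) (.node 1 (.one ⟨6470, 3, 4⟩) (.one ⟨11157, 1, 5⟩))) (.node 2 (.node 1 (.one ⟨9946, 2, 6⟩) (.one ⟨9947, 2, 4⟩)) (.node 1 (.one ⟨16679, 1, 5⟩) (.one ⟨3610, 2, 6⟩))))) (.node 8 (.node 4 (.node 2 (.node 1 (.one ⟨5716, 4, 6⟩) (.one ⟨2340, 5, 5⟩)) (.node 1 (.one ⟨11998, 4, 5⟩) (.one ⟨14119, 1, 5⟩))) (.node 2 (.node 1 (.one ⟨10928, 0, 5⟩) (.one ⟨11717, 1, 5⟩))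 (.node 1 (.one ⟨5022, 2, 4⟩) (.one ⟨4981, 0, 4⟩)))) (.node 4 (.node 2 (.node 1 (.one ⟨1981, 2, 5⟩) (.one ⟨7679, 3, 5⟩)) (.node 1 (.one ⟨16325, 4, 6⟩) (.one ⟨5258, 0, 5⟩))) (.node 2 (.node 1 (.one ⟨1954, 4, 5⟩) (.one ⟨855, 0, 5⟩)) (.node 1 (.one ⟨532, 5, 6⟩) (.one ⟨7612, 3, 5⟩)))))) (.node 16 (.node 8 (.node 4 (.node 2 (.node 1 (.one ⟨11107, 1, 4⟩) (.one ⟨8812, 5, 4⟩)) (.node 1 (.one ⟨3018, 2, 6⟩) (.one ⟨8718, 5, 6⟩))) (.node 2 (.node 1 (.one ⟨4301, 2, 5⟩) (.one ⟨12998, 1, 5⟩)) (.node 1 (.one ⟨1929, 5, 6⟩) (.one ⟨8779, 5, 5⟩)))) (.node 4 (.node 2 (.node 1 (.one ⟨13404, 0, 4⟩) (.one ⟨2397, 1, 6⟩)) (.node 1 (.one ⟨3283, 1, 5⟩) (.one ⟨3980, 0, 5⟩))) (.node 2 (.node 1 (.one ⟨9761, 4, 4⟩) (.one ⟨611, 4, 5⟩)) (.node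 1 (.one ⟨1600, 4, 5⟩) (.one ⟨9540, 5, 4⟩))))) (.node 8 (.node 4 (.node 2 (.node 1 (.one ⟨13979, 2, 5⟩) (.one ⟨3805, 1, 5⟩)) (.node 1 (.one ⟨14195, 2, 5⟩) (.one ⟨2925, 5, 6⟩))) (.node 2 (.node 1 (.one ⟨661, 3, 5⟩) (.one ⟨5751, 5, 6⟩)) (.node 1 (.one ⟨6435, 4, 5⟩) (.one ⟨10094, 3, 6⟩)))) (.node 4 (.node 2 (.node 1 (.one ⟨2948, 5, 6⟩) (.one ⟨6477, 0, 5⟩)) (.node 1 (.one ⟨11678, 5, 6⟩) (.one ⟨4010, 3, 4⟩))) (.node 2 (.node 1 (.one ⟨15208, 4, 5⟩) (.one ⟨16530, 0, 5⟩)) (.node 1 (.one ⟨9952, 3, 6⟩) (.one ⟨13595, 5, 4⟩)))))))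
def par2_12_14 : Arr Par :=
  (.node 32 (.node 16 (.node 8 (.node 4 (.node 2 (.node 1 (.one ⟨16945, 4, 6⟩) (.one ⟨13588, 1, 5⟩)) (.node 1 (.one ⟨15426, 5, 2⟩) (.one ⟨15717, 5, 5⟩))) (.node 2 (.node 1 (.one ⟨12104, 2, 5⟩) (.one ⟨13017, 5, 6⟩)) (.node 1 (.one ⟨8675, 2, 4⟩) (.one ⟨8140, 4, 6⟩)))) (.node 4 (.node 2 (.node 1 (.one ⟨10725, 5, 5⟩) (.one ⟨7281, 1, 4⟩)) (.node 1 (.one ⟨6529, 5, 5⟩) (.one ⟨15455, 2, 5⟩))) (.node 2 (.node 1 (.one ⟨5166, 2, 6⟩) (.one ⟨11542, 3, 6⟩)) (.node 1 (.one ⟨845, 0, 4⟩) (.one ⟨12010, 5, 5⟩))))) (.node 8 (.node 4 (.node 2 (.node 1 (.one ⟨14322, 1, 4⟩) (.one ⟨16521, 5, 6⟩)) (.node 1 (.one ⟨1308, 3, 5⟩) (.one ⟨14418, 5, 4⟩))) (.node 2 (.node 1 (.one ⟨2545, 3, 6⟩) (.one ⟨5605, 2, 5⟩))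 (.node 1 (.one ⟨15536, 1, 4⟩) (.one ⟨10250, 2, 6⟩)))) (.node 4 (.node 2 (.node 1 (.one ⟨2302, 3, 3⟩) (.one ⟨10497, 4, 5⟩)) (.node 1 (.one ⟨11717, 3, 5⟩) (.one ⟨7118, 4, 5⟩))) (.node 2 (.node 1 (.one ⟨4846, 3, 5⟩) (.one ⟨2903, 5, 4⟩)) (.node 1 (.one ⟨1958, 2, 5⟩) (.one ⟨9446, 3, 4⟩)))))) (.node 16 (.node 8 (.node 4 (.node 2 (.node 1 (.one ⟨3925, 5, 6⟩) (.one ⟨10515, 2, 3⟩)) (.node 1 (.one ⟨2955, 1, 6⟩) (.one ⟨16673, 2, 5⟩))) (.node 2 (.node 1 (.one ⟨10516, 2, 5⟩) (.one ⟨10513, 2, 5⟩)) (.node 1 (.one ⟨16676, 2, 2⟩) (.one ⟨1961, 2, 4⟩)))) (.node 4 (.node 2 (.node 1 (.one ⟨5257, 3, 4⟩) (.one ⟨3483, 4, 6⟩)) (.node 1 (.one ⟨14173, 4, 5⟩) (.one ⟨16455, 1, 4⟩))) (.node 2 (.node 1 (.one ⟨15965, 2, 4⟩) (.one ⟨5967, 2,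 5⟩)) (.node 1 (.one ⟨13242, 5, 4⟩) (.one ⟨10773, 1, 4⟩))))) (.node 8 (.node 4 (.node 2 (.node 1 (.one ⟨10725, 1, 5⟩) (.one ⟨17099, 5, 5⟩)) (.node 1 (.one ⟨5309, 4, 4⟩) (.one ⟨770, 1, 4⟩))) (.node 2 (.node 1 (.one ⟨10086, 2, 5⟩) (.one ⟨822, 0, 6⟩)) (.node 1 (.one ⟨4170, 1, 4⟩) (.one ⟨13641, 0, 4⟩)))) (.node 4 (.node 2 (.node 1 (.one ⟨10366, 4, 5⟩) (.one ⟨12183, 5, 3⟩)) (.node 1 (.one ⟨16382, 2, 3⟩) (.one ⟨6869, 0, 5⟩))) (.node 2 (.node 1 (.one ⟨12192, 3, 5⟩) (.one ⟨4775, 2, 5⟩)) (.node 1 (.one ⟨3657, 4, 6⟩) (.one ⟨12900, 5, 6⟩)))))))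
def par2_12_15 : Arr Par :=
  (.node 32 (.node 16 (.node 8 (.node 4 (.node 2 (.node 1 (.one ⟨9110, 2, 5⟩) (.one ⟨1820, 5, 5⟩)) (.node 1 (.one ⟨7073, 5, 5⟩) (.one ⟨14692, 0, 6⟩))) (.node 2 (.node 1 (.one ⟨10481, 2, 5⟩) (.one ⟨10836, 4, 5⟩)) (.node 1 (.one ⟨14587, 1, 6⟩) (.one ⟨4754, 0, 4⟩)))) (.node 4 (.node 2 (.node 1 (.one ⟨9010, 3, 6⟩) (.one ⟨204, 3, 5⟩)) (.node 1 (.one ⟨607, 5, 3⟩) (.one ⟨9969, 1, 6⟩))) (.node 2 (.node 1 (.one ⟨2278, 1, 5⟩) (.one ⟨4172, 3, 5⟩)) (.node 1 (.one ⟨4942, 2, 5⟩) (.one ⟨10530, 4, 4⟩))))) (.node 8 (.node 4 (.node 2 (.node 1 (.one ⟨5766, 5, 6⟩) (.one ⟨11436, 2, 6⟩)) (.node 1 (.one ⟨1921, 2, 4⟩) (.one ⟨4806, 2, 5⟩))) (.node 2 (.node 1 (.one ⟨2272, 1, 5⟩) (.one ⟨7358, 4, 5⟩)) (.node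 1 (.one ⟨16109, 5, 6⟩) (.one ⟨2990, 4, 6⟩)))) (.node 4 (.node 2 (.node 1 (.one ⟨10015, 4, 5⟩) (.one ⟨430, 5, 4⟩)) (.node 1 (.one ⟨4638, 2, 5⟩) (.one ⟨7591, 4, 5⟩))) (.node 2 (.node 1 (.one ⟨9508, 5, 4⟩) (.one ⟨11176, 3, 5⟩)) (.node 1 (.one ⟨6271, 0, 4⟩) (.one ⟨5343, 5, 2⟩)))))) (.node 16 (.node 8 (.node 4 (.node 2 (.node 1 (.one ⟨7293, 1, 6⟩) (.one ⟨12177, 5, 5⟩)) (.node 1 (.one ⟨11129, 5, 6⟩) (.one ⟨12784, 4, 4⟩))) (.node 2 (.node 1 (.one ⟨10150, 4, 6⟩) (.one ⟨16031, 4, 5⟩)) (.node 1 (.one ⟨16739, 1, 6⟩) (.one ⟨7501, 4, 5⟩)))) (.node 4 (.node 2 (.node 1 (.one ⟨14892, 4, 5⟩) (.one ⟨1847, 4, 3⟩)) (.node 1 (.one ⟨10356, 5, 6⟩) (.one ⟨14392, 2, 5⟩))) (.node 2 (.node 1 (.one ⟨16126, 5, 6⟩) (.one ⟨9403, 4, 5⟩)) (.node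 1 (.one ⟨8064, 2, 6⟩) (.one ⟨3994, 2, 5⟩))))) (.node 8 (.node 4 (.node 2 (.node 1 (.one ⟨16094, 5, 5⟩) (.one ⟨11856, 5, 4⟩)) (.node 1 (.one ⟨13362, 2, 5⟩) (.one ⟨6539, 2, 6⟩))) (.node 2 (.node 1 (.one ⟨1691, 2, 6⟩) (.one ⟨11022, 2, 6⟩)) (.node 1 (.one ⟨9725, 4, 6⟩) (.one ⟨2166, 3, 4⟩)))) (.node 4 (.node 2 (.node 1 (.one ⟨11586, 1, 3⟩) (.one ⟨15191, 5, 5⟩)) (.node 1 (.one ⟨10202, 4, 6⟩) (.one ⟨11584, 1, 5⟩))) (.node 2 (.node 1 (.one ⟨10234, 4, 6⟩) (.one ⟨11441, 0, 5⟩)) (.node 1 (.one ⟨11583, 1, 5⟩) (.one ⟨9013, 0, 4⟩)))))))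
def par2_12 : Arr Par :=
  (.node 512 (.node 256 (.node 128 (.node 64 par2_12_0 par2_12_1) (.node 64 par2_12_2 par2_12_3)) (.node 128 (.node 64 par2_12_4 par2_12_5) (.node 64 par2_12_6 par2_12_7))) (.node 256 (.node 128 (.node 64 par2_12_8 par2_12_9) (.node 64 par2_12_10 par2_12_11)) (.node 128 (.node 64 par2_12_12 par2_12_13) (.node 64 par2_12_14 par2_12_15))))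
def par2_13_0 : Arr Par :=
  (.node 32 (.node 16 (.node 8 (.node 4 (.node 2 (.node 1 (.one ⟨13190, 5, 5⟩) (.one ⟨4765, 5, 6⟩)) (.node 1 (.one ⟨15265, 4, 6⟩) (.one ⟨430, 1, 4⟩))) (.node 2 (.node 1 (.one ⟨2608, 5, 5⟩) (.one ⟨15208, 1, 5⟩)) (.node 1 (.one ⟨15213, 0, 5⟩) (.one ⟨2386, 5, 4⟩)))) (.node 4 (.node 2 (.node 1 (.one ⟨16026, 1, 6⟩) (.one ⟨1727, 5, 2⟩)) (.node 1 (.one ⟨15214, 2, 6⟩) (.one ⟨10164, 4, 6⟩))) (.node 2 (.node 1 (.one ⟨2729, 5, 4⟩) (.one ⟨13410, 1, 5⟩)) (.node 1 (.one ⟨2218, 5, 3⟩) (.one ⟨13943, 5, 6⟩))))) (.node 8 (.node 4 (.node 2 (.node 1 (.one ⟨3434, 3, 6⟩) (.one ⟨1214, 4, 5⟩)) (.node 1 (.one ⟨14125, 5, 4⟩) (.one ⟨16939, 1, 6⟩))) (.node 2 (.node 1 (.one ⟨14709, 3, 5⟩) (.one ⟨4459, 2, 4⟩))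 (.node 1 (.one ⟨8758, 2, 3⟩) (.one ⟨13127, 0, 6⟩)))) (.node 4 (.node 2 (.node 1 (.one ⟨10991, 5, 5⟩) (.one ⟨10159, 5, 5⟩)) (.node 1 (.one ⟨4000, 4, 6⟩) (.one ⟨13640, 0, 5⟩))) (.node 2 (.node 1 (.one ⟨15151, 3, 5⟩) (.one ⟨4001, 4, 6⟩)) (.node 1 (.one ⟨5070, 1, 5⟩) (.one ⟨11911, 4, 3⟩)))))) (.node 16 (.node 8 (.node 4 (.node 2 (.node 1 (.one ⟨2310, 1, 6⟩) (.one ⟨3026, 2, 6⟩)) (.node 1 (.one ⟨8869, 3, 4⟩) (.one ⟨5928, 4, 5⟩))) (.node 2 (.node 1 (.one ⟨4619, 5, 6⟩) (.one ⟨11323, 3, 2⟩)) (.node 1 (.one ⟨176, 4, 5⟩) (.one ⟨14730, 4, 5⟩)))) (.node 4 (.node 2 (.node 1 (.one ⟨14509, 4, 5⟩) (.one ⟨16056, 5, 5⟩)) (.node 1 (.one ⟨784, 3, 4⟩) (.one ⟨5880, 2, 5⟩))) (.node 2 (.node 1 (.one ⟨16715, 1, 6⟩) (.one ⟨13575, 3, 5⟩))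 (.node 1 (.one ⟨14205, 1, 3⟩) (.one ⟨1372, 4, 6⟩))))) (.node 8 (.node 4 (.node 2 (.node 1 (.one ⟨2645, 0, 6⟩) (.one ⟨13912, 5, 6⟩)) (.node 1 (.one ⟨7063, 0, 4⟩) (.one ⟨15317, 0, 6⟩))) (.node 2 (.node 1 (.one ⟨10926, 2, 5⟩) (.one ⟨12466, 4, 5⟩)) (.node 1 (.one ⟨1590, 2, 6⟩) (.one ⟨5391, 4, 5⟩)))) (.node 4 (.node 2 (.node 1 (.one ⟨1108, 5, 6⟩) (.one ⟨17021, 5, 5⟩)) (.node 1 (.one ⟨6097, 1, 6⟩) (.one ⟨4419, 4, 6⟩))) (.node 2 (.node 1 (.one ⟨428, 1, 5⟩) (.one ⟨1335, 4, 5⟩)) (.node 1 (.one ⟨16356, 0, 5⟩) (.one ⟨13939, 3, 5⟩)))))))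
def par2_13_1 : Arr Par :=
  (.node 32 (.node 16 (.node 8 (.node 4 (.node 2 (.node 1 (.one ⟨2291, 3, 5⟩) (.one ⟨7046, 0, 4⟩)) (.node 1 (.one ⟨2112, 4, 5⟩) (.one ⟨12806, 5, 6⟩))) (.node 2 (.node 1 (.one ⟨1709, 2, 5⟩) (.one ⟨431, 2, 3⟩)) (.node 1 (.one ⟨12805, 5, 5⟩) (.one ⟨8267, 0, 4⟩)))) (.node 4 (.node 2 (.node 1 (.one ⟨12510, 0, 5⟩) (.one ⟨12171, 5, 6⟩)) (.node 1 (.one ⟨16597, 1, 5⟩) (.one ⟨10713, 5, 6⟩))) (.node 2 (.node 1 (.one ⟨10326, 5, 6⟩) (.one ⟨7187, 4, 5⟩)) (.node 1 (.one ⟨9221, 5, 4⟩) (.one ⟨12905, 4, 6⟩))))) (.node 8 (.node 4 (.node 2 (.node 1 (.one ⟨10447, 0, 5⟩) (.one ⟨2003, 4, 6⟩)) (.node 1 (.one ⟨1902, 1, 6⟩) (.one ⟨15285, 3, 5⟩))) (.node 2 (.node 1 (.one ⟨12234, 0, 5⟩) (.one ⟨7739, 5, 6⟩)) (.node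 1 (.one ⟨7649, 4, 3⟩) (.one ⟨8572, 5, 5⟩)))) (.node 4 (.node 2 (.node 1 (.one ⟨3565, 1, 5⟩) (.one ⟨9183, 5, 7⟩)) (.node 1 (.one ⟨760, 3, 5⟩) (.one ⟨6492, 4, 3⟩))) (.node 2 (.node 1 (.one ⟨4929, 4, 3⟩) (.one ⟨16911, 4, 6⟩)) (.node 1 (.one ⟨9171, 4, 6⟩) (.one ⟨14432, 5, 6⟩)))))) (.node 16 (.node 8 (.node 4 (.node 2 (.node 1 (.one ⟨8014, 5, 6⟩) (.one ⟨8835, 5, 4⟩)) (.node 1 (.one ⟨192, 3, 4⟩) (.one ⟨12522, 2, 4⟩))) (.node 2 (.node 1 (.one ⟨6794, 0, 4⟩) (.one ⟨4239, 5, 6⟩)) (.node 1 (.one ⟨9315, 5, 6⟩) (.one ⟨14723, 4, 5⟩)))) (.node 4 (.node 2 (.node 1 (.one ⟨6237, 4, 5⟩) (.one ⟨12262, 0, 5⟩)) (.node 1 (.one ⟨5020, 5, 5⟩) (.one ⟨17023, 2, 5⟩))) (.node 2 (.node 1 (.one ⟨2101, 3, 4⟩) (.one ⟨8434, 1, 5⟩)) (.node 1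 (.one ⟨16738, 0, 6⟩) (.one ⟨8907, 2, 4⟩))))) (.node 8 (.node 4 (.node 2 (.node 1 (.one ⟨7078, 5, 4⟩) (.one ⟨843, 0, 5⟩)) (.node 1 (.one ⟨13823, 4, 6⟩) (.one ⟨14261, 5, 5⟩))) (.node 2 (.node 1 (.one ⟨953, 2, 6⟩) (.one ⟨15964, 1, 5⟩)) (.node 1 (.one ⟨15967, 5, 6⟩) (.one ⟨4704, 1, 3⟩)))) (.node 4 (.node 2 (.node 1 (.one ⟨13975, 4, 6⟩) (.one ⟨32, 4, 5⟩)) (.node 1 (.one ⟨14385, 5, 5⟩) (.one ⟨8753, 5, 5⟩))) (.node 2 (.node 1 (.one ⟨5798, 4, 4⟩) (.one ⟨12671, 0, 5⟩)) (.node 1 (.one ⟨11074, 5, 4⟩) (.one ⟨6287, 4, 4⟩)))))))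
def par2_13_2 : Arr Par :=
  (.node 32 (.node 16 (.node 8 (.node 4 (.node 2 (.node 1 (.one ⟨15289, 1, 5⟩) (.one ⟨4291, 1, 4⟩)) (.node 1 (.one ⟨916, 2, 6⟩) (.one ⟨9832, 4, 4⟩))) (.node 2 (.node 1 (.one ⟨6911, 5, 5⟩) (.one ⟨10926, 1, 5⟩)) (.node 1 (.one ⟨11345, 5, 4⟩) (.one ⟨12347, 1, 5⟩)))) (.node 4 (.node 2 (.node 1 (.one ⟨937, 4, 4⟩) (.one ⟨16891, 5, 5⟩)) (.node 1 (.one ⟨3679, 5, 6⟩) (.one ⟨11248, 5, 5⟩))) (.node 2 (.node 1 (.one ⟨11884, 4, 3⟩) (.one ⟨525, 0, 5⟩)) (.node 1 (.one ⟨14798, 4, 5⟩) (.one ⟨757, 4, 6⟩))))) (.node 8 (.node 4 (.node 2 (.node 1 (.one ⟨17073, 3, 6⟩) (.one ⟨15409, 1, 5⟩)) (.node 1 (.one ⟨9632, 4, 5⟩) (.one ⟨6074, 2, 5⟩))) (.node 2 (.node 1 (.one ⟨15273, 4, 6⟩) (.one ⟨5381, 2, 4⟩)) (.node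 1 (.one ⟨6110, 2, 5⟩) (.one ⟨15609, 1, 5⟩)))) (.node 4 (.node 2 (.node 1 (.one ⟨2794, 5, 4⟩) (.one ⟨5049, 3, 5⟩)) (.node 1 (.one ⟨7865, 5, 5⟩) (.one ⟨15497, 2, 6⟩))) (.node 2 (.node 1 (.one ⟨5928, 1, 5⟩) (.one ⟨7740, 2, 6⟩)) (.node 1 (.one ⟨457, 4, 5⟩) (.one ⟨2485, 2, 3⟩)))))) (.node 16 (.node 8 (.node 4 (.node 2 (.node 1 (.one ⟨2701, 1, 6⟩) (.one ⟨15268, 5, 5⟩)) (.node 1 (.one ⟨6361, 0, 4⟩) (.one ⟨14597, 3, 5⟩))) (.node 2 (.node 1 (.one ⟨13647, 5, 5⟩) (.one ⟨2607, 4, 6⟩)) (.node 1 (.one ⟨14983, 2, 5⟩) (.one ⟨14718, 5, 5⟩)))) (.node 4 (.node 2 (.node 1 (.one ⟨200, 4, 4⟩) (.one ⟨8855, 5, 3⟩)) (.node 1 (.one ⟨3667, 0, 6⟩) (.one ⟨6829, 1, 5⟩))) (.node 2 (.node 1 (.one ⟨10791, 0, 4⟩) (.one ⟨12662, 1, 6⟩)) (.node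 1 (.one ⟨12118, 0, 6⟩) (.one ⟨16151, 0, 5⟩))))) (.node 8 (.node 4 (.node 2 (.node 1 (.one ⟨2707, 5, 4⟩) (.one ⟨8978, 5, 6⟩)) (.node 1 (.one ⟨16138, 1, 5⟩) (.one ⟨8070, 3, 5⟩))) (.node 2 (.node 1 (.one ⟨6707, 5, 6⟩) (.one ⟨7404, 3, 5⟩)) (.node 1 (.one ⟨461, 4, 5⟩) (.one ⟨4722, 0, 6⟩)))) (.node 4 (.node 2 (.node 1 (.one ⟨1074, 5, 4⟩) (.one ⟨379, 3, 5⟩)) (.node 1 (.one ⟨13954, 5, 5⟩) (.one ⟨17122, 1, 6⟩))) (.node 2 (.node 1 (.one ⟨1276, 4, 6⟩) (.one ⟨790, 4, 5⟩)) (.node 1 (.one ⟨15291, 0, 4⟩) (.one ⟨13716, 1, 6⟩)))))))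
def par2_13_3 : Arr Par :=
  (.node 32 (.node 16 (.node 8 (.node 4 (.node 2 (.node 1 (.one ⟨14690, 4, 4⟩) (.one ⟨14359, 0, 4⟩)) (.node 1 (.one ⟨9723, 2, 6⟩) (.one ⟨10307, 5, 6⟩))) (.node 2 (.node 1 (.one ⟨3956, 2, 4⟩) (.one ⟨6834, 5, 6⟩)) (.node 1 (.one ⟨170, 4, 5⟩) (.one ⟨967, 1, 5⟩)))) (.node 4 (.node 2 (.node 1 (.one ⟨3279, 2, 6⟩) (.one ⟨14545, 3, 5⟩)) (.node 1 (.one ⟨2047, 1, 6⟩) (.one ⟨1777, 5, 4⟩))) (.node 2 (.node 1 (.one ⟨7854, 5, 3⟩) (.one ⟨479, 3, 4⟩)) (.node 1 (.one ⟨14672, 5, 5⟩) (.one ⟨5740, 2, 6⟩))))) (.node 8 (.node 4 (.node 2 (.node 1 (.one ⟨2963, 1, 4⟩) (.one ⟨13718, 1, 4⟩)) (.node 1 (.one ⟨9794, 4, 5⟩) (.one ⟨11909, 3, 4⟩))) (.node 2 (.node 1 (.one ⟨11397, 3, 6⟩) (.one ⟨16465, 1, 5⟩)) (.node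 1 (.one ⟨1480, 4, 6⟩) (.one ⟨1304, 5, 4⟩)))) (.node 4 (.node 2 (.node 1 (.one ⟨48, 1, 6⟩) (.one ⟨12294, 1, 5⟩)) (.node 1 (.one ⟨10285, 5, 6⟩) (.one ⟨4120, 5, 4⟩))) (.node 2 (.node 1 (.one ⟨13595, 1, 4⟩) (.one ⟨2784, 2, 6⟩)) (.node 1 (.one ⟨2858, 4, 4⟩) (.one ⟨14844, 4, 5⟩)))))) (.node 16 (.node 8 (.node 4 (.node 2 (.node 1 (.one ⟨3583, 3, 5⟩) (.one ⟨11628, 4, 6⟩)) (.node 1 (.one ⟨8388, 4, 6⟩) (.one ⟨8391, 4, 5⟩))) (.node 2 (.node 1 (.one ⟨12158, 5, 5⟩) (.one ⟨16757, 5, 6⟩)) (.node 1 (.one ⟨15756, 5, 4⟩) (.one ⟨48, 5, 6⟩)))) (.node 4 (.node 2 (.node 1 (.one ⟨17154, 0, 5⟩) (.one ⟨8877, 2, 6⟩)) (.node 1 (.one ⟨13729, 1, 5⟩) (.one ⟨5001, 1, 6⟩))) (.node 2 (.node 1 (.one ⟨13831, 3, 6⟩) (.one ⟨1152, 4, 5⟩)) (.node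 1 (.one ⟨5987, 4, 4⟩) (.one ⟨13860, 3, 5⟩))))) (.node 8 (.node 4 (.node 2 (.node 1 (.one ⟨7679, 0, 5⟩) (.one ⟨6694, 1, 6⟩)) (.node 1 (.one ⟨11831, 2, 5⟩) (.one ⟨5621, 4, 6⟩))) (.node 2 (.node 1 (.one ⟨12655, 3, 5⟩) (.one ⟨470, 5, 4⟩)) (.node 1 (.one ⟨16837, 4, 4⟩) (.one ⟨855, 3, 5⟩)))) (.node 4 (.node 2 (.node 1 (.one ⟨2727, 5, 2⟩) (.one ⟨6152, 5, 3⟩)) (.node 1 (.one ⟨16814, 5, 5⟩) (.one ⟨16963, 5, 5⟩))) (.node 2 (.node 1 (.one ⟨2456, 1, 4⟩) (.one ⟨13670, 0, 4⟩)) (.node 1 (.one ⟨5022, 4, 4⟩) (.one ⟨13410, 5, 5⟩)))))))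
def par2_13_4 : Arr Par :=
  (.node 32 (.node 16 (.node 8 (.node 4 (.node 2 (.node 1 (.one ⟨13652, 1, 6⟩) (.one ⟨7368, 3, 4⟩)) (.node 1 (.one ⟨7111, 1, 6⟩) (.one ⟨16256, 0, 5⟩))) (.node 2 (.node 1 (.one ⟨3961, 2, 5⟩) (.one ⟨2928, 4, 4⟩)) (.node 1 (.one ⟨4255, 3, 6⟩) (.one ⟨12612, 1, 4⟩)))) (.node 4 (.node 2 (.node 1 (.one ⟨10648, 5, 6⟩) (.one ⟨15191, 0, 5⟩)) (.node 1 (.one ⟨11110, 5, 4⟩) (.one ⟨3966, 2, 5⟩))) (.node 2 (.node 1 (.one ⟨4389, 2, 5⟩) (.one ⟨16268, 5, 5⟩)) (.node 1 (.one ⟨6177, 1, 6⟩) (.one ⟨14713, 2, 5⟩))))) (.node 8 (.node 4 (.node 2 (.node 1 (.one ⟨2870, 5, 5⟩) (.one ⟨357, 4, 5⟩)) (.node 1 (.one ⟨13641, 1, 4⟩) (.one ⟨8140, 2, 6⟩))) (.node 2 (.node 1 (.one ⟨13026, 1, 4⟩) (.one ⟨7264, 4, 4⟩)) (.node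 1 (.one ⟨10493, 5, 6⟩) (.one ⟨7261, 5, 5⟩)))) (.node 4 (.node 2 (.node 1 (.one ⟨16354, 2, 6⟩) (.one ⟨276, 2, 4⟩)) (.node 1 (.one ⟨389, 0, 5⟩) (.one ⟨15130, 4, 3⟩))) (.node 2 (.node 1 (.one ⟨5624, 5, 5⟩) (.one ⟨14646, 4, 6⟩)) (.node 1 (.one ⟨12454, 3, 5⟩) (.one ⟨7924, 0, 6⟩)))))) (.node 16 (.node 8 (.node 4 (.node 2 (.node 1 (.one ⟨4987, 2, 5⟩) (.one ⟨6479, 5, 4⟩)) (.node 1 (.one ⟨14414, 4, 6⟩) (.one ⟨1007, 2, 5⟩))) (.node 2 (.node 1 (.one ⟨6625, 3, 4⟩) (.one ⟨8869, 5, 4⟩)) (.node 1 (.one ⟨10919, 3, 5⟩) (.one ⟨1095, 1, 3⟩)))) (.node 4 (.node 2 (.node 1 (.one ⟨10367, 5, 5⟩) (.one ⟨9940, 1, 4⟩)) (.node 1 (.one ⟨16833, 4, 4⟩) (.one ⟨13698, 1, 5⟩))) (.node 2 (.node 1 (.one ⟨6323, 0, 6⟩) (.one ⟨4547, 0, 5⟩)) (.node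 1 (.one ⟨44, 5, 6⟩) (.one ⟨6111, 0, 5⟩))))) (.node 8 (.node 4 (.node 2 (.node 1 (.one ⟨12082, 5, 4⟩) (.one ⟨2445, 3, 6⟩)) (.node 1 (.one ⟨2639, 5, 2⟩) (.one ⟨12863, 3, 5⟩))) (.node 2 (.node 1 (.one ⟨8855, 3, 3⟩) (.one ⟨7086, 2, 5⟩)) (.node 1 (.one ⟨1381, 0, 5⟩) (.one ⟨15671, 0, 6⟩)))) (.node 4 (.node 2 (.node 1 (.one ⟨6794, 3, 4⟩) (.one ⟨15344, 1, 6⟩)) (.node 1 (.one ⟨792, 3, 5⟩) (.one ⟨10832, 2, 5⟩))) (.node 2 (.node 1 (.one ⟨15723, 0, 5⟩) (.one ⟨10030, 3, 6⟩)) (.node 1 (.one ⟨10020, 3, 3⟩) (.one ⟨4306, 1, 5⟩)))))))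
def par2_13_5 : Arr Par :=
  (.node 32 (.node 16 (.node 8 (.node 4 (.node 2 (.node 1 (.one ⟨2274, 5, 5⟩) (.one ⟨78, 4, 6⟩)) (.node 1 (.one ⟨11959, 1, 5⟩) (.one ⟨10691, 5, 5⟩))) (.node 2 (.node 1 (.one ⟨12923, 5, 5⟩) (.one ⟨6816, 2, 5⟩)) (.node 1 (.one ⟨2219, 3, 5⟩) (.one ⟨12192, 2, 5⟩)))) (.node 4 (.node 2 (.node 1 (.one ⟨7365, 5, 4⟩) (.one ⟨2405, 5, 3⟩)) (.node 1 (.one ⟨13321, 0, 3⟩) (.one ⟨13377, 2, 5⟩))) (.node 2 (.node 1 (.one ⟨302, 2, 6⟩) (.one ⟨14370, 3, 5⟩)) (.node 1 (.one ⟨8381, 4, 5⟩) (.one ⟨11867, 4, 4⟩))))) (.node 8 (.node 4 (.node 2 (.node 1 (.one ⟨3361, 2, 5⟩) (.one ⟨1013, 5, 4⟩)) (.node 1 (.one ⟨132, 5, 6⟩) (.one ⟨2738, 5, 5⟩))) (.node 2 (.node 1 (.one ⟨2739, 5, 5⟩) (.one ⟨4067, 1, 6⟩)) (.node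 1 (.one ⟨11740, 2, 5⟩) (.one ⟨5020, 1, 5⟩)))) (.node 4 (.node 2 (.node 1 (.one ⟨180, 2, 5⟩) (.one ⟨2611, 2, 6⟩)) (.node 1 (.one ⟨9766, 0, 4⟩) (.one ⟨6826, 5, 6⟩))) (.node 2 (.node 1 (.one ⟨15038, 5, 5⟩) (.one ⟨4327, 1, 5⟩)) (.node 1 (.one ⟨8988, 3, 5⟩) (.one ⟨6780, 5, 5⟩)))))) (.node 16 (.node 8 (.node 4 (.node 2 (.node 1 (.one ⟨6468, 5, 4⟩) (.one ⟨3822, 4, 6⟩)) (.node 1 (.one ⟨14976, 5, 5⟩) (.one ⟨11408, 0, 6⟩))) (.node 2 (.node 1 (.one ⟨9549, 4, 5⟩) (.one ⟨8915, 3, 4⟩)) (.node 1 (.one ⟨9500, 5, 3⟩) (.one ⟨16137, 5, 6⟩)))) (.node 4 (.node 2 (.node 1 (.one ⟨2266, 0, 6⟩) (.one ⟨1166, 1, 5⟩)) (.node 1 (.one ⟨8205, 5, 5⟩) (.one ⟨12451, 1, 5⟩))) (.node 2 (.node 1 (.one ⟨14986, 4, 5⟩) (.one ⟨10389, 4, 5⟩)) (.node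 1 (.one ⟨6579, 2, 5⟩) (.one ⟨16274, 2, 6⟩))))) (.node 8 (.node 4 (.node 2 (.node 1 (.one ⟨16601, 0, 6⟩) (.one ⟨8466, 4, 4⟩)) (.node 1 (.one ⟨6681, 2, 5⟩) (.one ⟨1451, 1, 6⟩))) (.node 2 (.node 1 (.one ⟨12504, 0, 5⟩) (.one ⟨4464, 4, 5⟩)) (.node 1 (.one ⟨15939, 1, 4⟩) (.one ⟨1289, 4, 6⟩)))) (.node 4 (.node 2 (.node 1 (.one ⟨17065, 1, 6⟩) (.one ⟨15976, 0, 6⟩)) (.node 1 (.one ⟨13032, 4, 3⟩) (.one ⟨13649, 0, 5⟩))) (.node 2 (.node 1 (.one ⟨346, 4, 5⟩) (.one ⟨4393, 1, 6⟩)) (.node 1 (.one ⟨6497, 5, 5⟩) (.one ⟨6006, 0, 6⟩)))))))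
def par2_13_6 : Arr Par :=
  (.node 32 (.node 16 (.node 8 (.node 4 (.node 2 (.node 1 (.one ⟨10476, 4, 6⟩) (.one ⟨7038, 1, 5⟩)) (.node 1 (.one ⟨2638, 2, 4⟩) (.one ⟨5745, 4, 6⟩))) (.node 2 (.node 1 (.one ⟨11622, 2, 6⟩) (.one ⟨3431, 5, 5⟩)) (.node 1 (.one ⟨12522, 5, 4⟩) (.one ⟨5604, 0, 5⟩)))) (.node 4 (.node 2 (.node 1 (.one ⟨4423, 3, 6⟩) (.one ⟨11291, 0, 5⟩)) (.node 1 (.one ⟨1061, 2, 4⟩) (.one ⟨7254, 4, 5⟩))) (.node 2 (.node 1 (.one ⟨15144, 4, 6⟩) (.one ⟨1867, 5, 5⟩)) (.node 1 (.one ⟨10991, 1, 5⟩) (.one ⟨9652, 4, 5⟩))))) (.node 8 (.node 4 (.node 2 (.node 1 (.one ⟨15547, 2, 4⟩) (.one ⟨12650, 3, 5⟩)) (.node 1 (.one ⟨12360, 4, 6⟩) (.one ⟨1692, 4, 4⟩))) (.node 2 (.node 1 (.one ⟨6018, 0, 5⟩) (.one ⟨13809, 3, 5⟩)) (.node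 1 (.one ⟨11776, 0, 3⟩) (.one ⟨8740, 4, 5⟩)))) (.node 4 (.node 2 (.node 1 (.one ⟨10782, 1, 5⟩) (.one ⟨12648, 5, 5⟩)) (.node 1 (.one ⟨4459, 3, 4⟩) (.one ⟨8950, 0, 6⟩))) (.node 2 (.node 1 (.one ⟨7088, 2, 4⟩) (.one ⟨2558, 4, 5⟩)) (.node 1 (.one ⟨16686, 4, 4⟩) (.one ⟨11491, 5, 5⟩)))))) (.node 16 (.node 8 (.node 4 (.node 2 (.node 1 (.one ⟨5043, 1, 5⟩) (.one ⟨8915, 0, 4⟩)) (.node 1 (.one ⟨15268, 1, 5⟩) (.one ⟨11562, 0, 4⟩))) (.node 2 (.node 1 (.one ⟨9617, 3, 5⟩) (.one ⟨730, 0, 5⟩)) (.node 1 (.one ⟨4750, 4, 5⟩) (.one ⟨14383, 5, 6⟩)))) (.node 4 (.node 2 (.node 1 (.one ⟨11955, 0, 5⟩) (.one ⟨5502, 4, 4⟩)) (.node 1 (.one ⟨1686, 2, 6⟩) (.one ⟨7078, 3, 4⟩))) (.node 2 (.node 1 (.one ⟨526, 3, 5⟩) (.one ⟨11613, 5, 4⟩)) (.node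 1 (.one ⟨6278, 4, 3⟩) (.one ⟨14885, 5, 6⟩))))) (.node 8 (.node 4 (.node 2 (.node 1 (.one ⟨8250, 0, 5⟩) (.one ⟨12499, 5, 3⟩)) (.node 1 (.one ⟨14556, 5, 6⟩) (.one ⟨2281, 5, 5⟩))) (.node 2 (.node 1 (.one ⟨8164, 5, 5⟩) (.one ⟨8565, 5, 6⟩)) (.node 1 (.one ⟨4044, 4, 5⟩) (.one ⟨17084, 0, 5⟩)))) (.node 4 (.node 2 (.node 1 (.one ⟨14192, 0, 5⟩) (.one ⟨4132, 4, 6⟩)) (.node 1 (.one ⟨13144, 2, 6⟩) (.one ⟨6155, 1, 4⟩))) (.node 2 (.node 1 (.one ⟨16984, 5, 6⟩) (.one ⟨5520, 1, 7⟩)) (.node 1 (.one ⟨15905, 0, 6⟩) (.one ⟨10735, 3, 4⟩)))))))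
def par2_13_7 : Arr Par :=
  (.node 32 (.node 16 (.node 8 (.node 4 (.node 2 (.node 1 (.one ⟨13029, 4, 4⟩) (.one ⟨8824, 0, 5⟩)) (.node 1 (.one ⟨6403, 3, 5⟩) (.one ⟨7009, 4, 6⟩))) (.node 2 (.node 1 (.one ⟨4676, 1, 5⟩) (.one ⟨7822, 2, 5⟩)) (.node 1 (.one ⟨1029, 5, 5⟩) (.one ⟨11879, 2, 6⟩)))) (.node 4 (.node 2 (.node 1 (.one ⟨10057, 0, 6⟩) (.one ⟨14411, 2, 6⟩)) (.node 1 (.one ⟨9766, 4, 4⟩) (.one ⟨12435, 5, 6⟩))) (.node 2 (.node 1 (.one ⟨12505, 5, 6⟩) (.one ⟨8188, 0, 6⟩)) (.node 1 (.one ⟨10129, 5, 5⟩) (.one ⟨12857, 0, 5⟩))))) (.node 8 (.node 4 (.node 2 (.node 1 (.one ⟨5391, 2, 5⟩) (.one ⟨4120, 4, 4⟩)) (.node 1 (.one ⟨5922, 2, 4⟩) (.one ⟨9787, 1, 6⟩))) (.node 2 (.node 1 (.one ⟨8720, 4, 4⟩) (.one ⟨12855, 0, 5⟩)) (.node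 1 (.one ⟨339, 1, 6⟩) (.one ⟨8475, 3, 3⟩)))) (.node 4 (.node 2 (.node 1 (.one ⟨3353, 4, 6⟩) (.one ⟨5623, 3, 6⟩)) (.node 1 (.one ⟨5069, 5, 5⟩) (.one ⟨14063, 2, 5⟩))) (.node 2 (.node 1 (.one ⟨12988, 4, 4⟩) (.one ⟨6397, 1, 5⟩)) (.node 1 (.one ⟨6939, 4, 6⟩) (.one ⟨6355, 2, 5⟩)))))) (.node 16 (.node 8 (.node 4 (.node 2 (.node 1 (.one ⟨11329, 2, 6⟩) (.one ⟨16766, 5, 5⟩)) (.node 1 (.one ⟨4949, 0, 5⟩) (.one ⟨2972, 5, 5⟩))) (.node 2 (.node 1 (.one ⟨6794, 4, 4⟩) (.one ⟨15692, 3, 5⟩)) (.node 1 (.one ⟨4969, 5, 5⟩) (.one ⟨16197, 3, 6⟩)))) (.node 4 (.node 2 (.node 1 (.one ⟨14102, 1, 5⟩) (.one ⟨5189, 2, 6⟩)) (.node 1 (.one ⟨12815, 0, 5⟩) (.one ⟨12089, 4, 6⟩))) (.node 2 (.node 1 (.one ⟨16884, 1, 5⟩) (.one ⟨7654, 0, 6⟩)) (.node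 1 (.one ⟨14174, 5, 6⟩) (.one ⟨2461, 5, 6⟩))))) (.node 8 (.node 4 (.node 2 (.node 1 (.one ⟨2196, 5, 4⟩) (.one ⟨16234, 0, 4⟩)) (.node 1 (.one ⟨15519, 2, 5⟩) (.one ⟨10107, 1, 6⟩))) (.node 2 (.node 1 (.one ⟨15535, 3, 6⟩) (.one ⟨4825, 1, 6⟩)) (.node 1 (.one ⟨14029, 3, 6⟩) (.one ⟨1265, 0, 4⟩)))) (.node 4 (.node 2 (.node 1 (.one ⟨4313, 0, 5⟩) (.one ⟨2212, 2, 4⟩)) (.node 1 (.one ⟨86, 4, 3⟩) (.one ⟨14101, 3, 6⟩))) (.node 2 (.node 1 (.one ⟨15610, 1, 5⟩) (.one ⟨5787, 1, 4⟩)) (.node 1 (.one ⟨3332, 4, 5⟩) (.one ⟨7114, 3, 5⟩)))))))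
def par2_13_8 : Arr Par :=
  (.node 32 (.node 16 (.node 8 (.node 4 (.node 2 (.node 1 (.one ⟨2445, 2, 6⟩) (.one ⟨13281, 5, 6⟩)) (.node 1 (.one ⟨567, 5, 5⟩) (.one ⟨272, 5, 5⟩))) (.node 2 (.node 1 (.one ⟨13279, 5, 3⟩) (.one ⟨7008, 4, 4⟩)) (.node 1 (.one ⟨7003, 1, 6⟩) (.one ⟨5149, 0, 5⟩)))) (.node 4 (.node 2 (.node 1 (.one ⟨5737, 4, 3⟩) (.one ⟨8661, 5, 6⟩)) (.node 1 (.one ⟨16704, 3, 6⟩) (.one ⟨10443, 5, 5⟩))) (.node 2 (.node 1 (.one ⟨4507, 0, 6⟩) (.one ⟨12182, 0, 6⟩)) (.node 1 (.one ⟨2405, 3, 3⟩) (.one ⟨11432, 4, 5⟩))))) (.node 8 (.node 4 (.node 2 (.node 1 (.one ⟨9438, 5, 5⟩) (.one ⟨12826, 1, 6⟩)) (.node 1 (.one ⟨13741, 0, 5⟩) (.one ⟨5068, 2, 5⟩))) (.node 2 (.node 1 (.one ⟨9146, 5, 6⟩) (.one ⟨4487, 3, 5⟩)) (.node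 1 (.one ⟨12081, 5, 5⟩) (.one ⟨12200, 4, 5⟩)))) (.node 4 (.node 2 (.node 1 (.one ⟨15777, 1, 5⟩) (.one ⟨15151, 0, 5⟩)) (.node 1 (.one ⟨15232, 3, 4⟩) (.one ⟨15171, 5, 6⟩))) (.node 2 (.node 1 (.one ⟨16541, 5, 5⟩) (.one ⟨15602, 1, 5⟩)) (.node 1 (.one ⟨4717, 5, 5⟩) (.one ⟨1122, 3, 5⟩)))))) (.node 16 (.node 8 (.node 4 (.node 2 (.node 1 (.one ⟨12820, 0, 5⟩) (.one ⟨15087, 5, 6⟩)) (.node 1 (.one ⟨691, 1, 4⟩) (.one ⟨11828, 1, 5⟩))) (.node 2 (.node 1 (.one ⟨3531, 1, 4⟩) (.one ⟨15659, 3, 5⟩)) (.node 1 (.one ⟨3491, 5, 6⟩) (.one ⟨13611, 2, 6⟩)))) (.node 4 (.node 2 (.node 1 (.one ⟨13741, 2, 5⟩) (.one ⟨13620, 0, 4⟩)) (.node 1 (.one ⟨15777, 5, 5⟩) (.one ⟨6116, 3, 5⟩))) (.node 2 (.node 1 (.one ⟨2244, 0, 5⟩) (.one ⟨13739, 2, 5⟩))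 (.node 1 (.one ⟨6968, 3, 5⟩) (.one ⟨6043, 2, 5⟩))))) (.node 8 (.node 4 (.node 2 (.node 1 (.one ⟨7267, 5, 3⟩) (.one ⟨3216, 4, 7⟩)) (.node 1 (.one ⟨13979, 4, 5⟩) (.one ⟨805, 4, 6⟩))) (.node 2 (.node 1 (.one ⟨16810, 3, 3⟩) (.one ⟨2850, 2, 5⟩)) (.node 1 (.one ⟨11088, 0, 6⟩) (.one ⟨15782, 5, 6⟩)))) (.node 4 (.node 2 (.node 1 (.one ⟨12911, 5, 6⟩) (.one ⟨8146, 1, 4⟩)) (.node 1 (.one ⟨2278, 4, 5⟩) (.one ⟨358, 4, 5⟩))) (.node 2 (.node 1 (.one ⟨14461, 5, 5⟩) (.one ⟨14398, 3, 5⟩)) (.node 1 (.one ⟨4437, 2, 6⟩) (.one ⟨16237, 3, 5⟩)))))))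
def par2_13_9 : Arr Par :=
  (.node 32 (.node 16 (.node 8 (.node 4 (.node 2 (.node 1 (.one ⟨15844, 3, 6⟩) (.one ⟨4055, 2, 4⟩)) (.node 1 (.one ⟨8444, 1, 5⟩) (.one ⟨1279, 4, 5⟩))) (.node 2 (.node 1 (.one ⟨13954, 3, 5⟩) (.one ⟨8381, 3, 5⟩)) (.node 1 (.one ⟨13034, 1, 6⟩) (.one ⟨11311, 1, 5⟩)))) (.node 4 (.node 2 (.node 1 (.one ⟨3469, 1, 6⟩) (.one ⟨10256, 4, 5⟩)) (.node 1 (.one ⟨12993, 1, 5⟩) (.one ⟨11909, 5, 4⟩))) (.node 2 (.node 1 (.one ⟨6109, 0, 6⟩) (.one ⟨1102, 4, 4⟩)) (.node 1 (.one ⟨4493, 5, 6⟩) (.one ⟨4533, 5, 5⟩))))) (.node 8 (.node 4 (.node 2 (.node 1 (.one ⟨951, 3, 5⟩) (.one ⟨4533, 2, 5⟩)) (.node 1 (.one ⟨6140, 3, 5⟩) (.one ⟨757, 3, 6⟩))) (.node 2 (.node 1 (.one ⟨16761, 0, 6⟩) (.one ⟨14932, 2, 5⟩)) (.node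 1 (.one ⟨8740, 5, 5⟩) (.one ⟨1838, 5, 5⟩)))) (.node 4 (.node 2 (.node 1 (.one ⟨8044, 5, 5⟩) (.one ⟨7058, 5, 2⟩)) (.node 1 (.one ⟨4819, 5, 6⟩) (.one ⟨1403, 1, 6⟩))) (.node 2 (.node 1 (.one ⟨11833, 3, 5⟩) (.one ⟨8022, 5, 6⟩)) (.node 1 (.one ⟨7089, 4, 6⟩) (.one ⟨4172, 1, 5⟩)))))) (.node 16 (.node 8 (.node 4 (.node 2 (.node 1 (.one ⟨13724, 2, 5⟩) (.one ⟨5963, 5, 4⟩)) (.node 1 (.one ⟨16768, 5, 6⟩) (.one ⟨15566, 0, 6⟩))) (.node 2 (.node 1 (.one ⟨2571, 0, 3⟩) (.one ⟨7125, 4, 6⟩)) (.node 1 (.one ⟨8869, 1, 4⟩) (.one ⟨4175, 2, 3⟩)))) (.node 4 (.node 2 (.node 1 (.one ⟨16239, 5, 3⟩) (.one ⟨3308, 0, 5⟩)) (.node 1 (.one ⟨2464, 3, 6⟩) (.one ⟨8940, 1, 3⟩))) (.node 2 (.node 1 (.one ⟨7592, 0, 5⟩) (.one ⟨7341, 5, 7⟩)) (.node 1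 (.one ⟨6760, 2, 6⟩) (.one ⟨8196, 1, 3⟩))))) (.node 8 (.node 4 (.node 2 (.node 1 (.one ⟨15686, 4, 6⟩) (.one ⟨15557, 2, 6⟩)) (.node 1 (.one ⟨4793, 5, 5⟩) (.one ⟨9246, 1, 4⟩))) (.node 2 (.node 1 (.one ⟨7419, 1, 6⟩) (.one ⟨12897, 5, 6⟩)) (.node 1 (.one ⟨1450, 5, 5⟩) (.one ⟨8784, 1, 5⟩)))) (.node 4 (.node 2 (.node 1 (.one ⟨10034, 1, 5⟩) (.one ⟨6286, 0, 6⟩)) (.node 1 (.one ⟨4455, 0, 6⟩) (.one ⟨15440, 4, 6⟩))) (.node 2 (.node 1 (.one ⟨8391, 5, 5⟩) (.one ⟨11964, 1, 3⟩)) (.node 1 (.one ⟨10223, 5, 6⟩) (.one ⟨16152, 4, 5⟩)))))))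
def par2_13_10 : Arr Par :=
  (.node 32 (.node 16 (.node 8 (.node 4 (.node 2 (.node 1 (.one ⟨479, 4, 4⟩) (.one ⟨16311, 2, 6⟩)) (.node 1 (.one ⟨14023, 2, 4⟩) (.one ⟨13816, 3, 6⟩))) (.node 2 (.node 1 (.one ⟨12499, 2, 3⟩) (.one ⟨8494, 1, 6⟩)) (.node 1 (.one ⟨10815, 1, 6⟩) (.one ⟨13169, 2, 6⟩)))) (.node 4 (.node 2 (.node 1 (.one ⟨8291, 3, 4⟩) (.one ⟨12847, 5, 5⟩)) (.node 1 (.one ⟨10370, 5, 5⟩) (.one ⟨14123, 4, 5⟩))) (.node 2 (.node 1 (.one ⟨11137, 0, 5⟩) (.one ⟨133, 2, 6⟩)) (.node 1 (.one ⟨2618, 0, 5⟩) (.one ⟨15058, 4, 5⟩))))) (.node 8 (.node 4 (.node 2 (.node 1 (.one ⟨11912, 5, 5⟩) (.one ⟨13276, 2, 5⟩)) (.node 1 (.one ⟨3994, 1, 5⟩) (.one ⟨14059, 2, 5⟩))) (.node 2 (.node 1 (.one ⟨13658, 5, 5⟩) (.one ⟨4043, 4, 5⟩))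 (.node 1 (.one ⟨487, 4, 5⟩) (.one ⟨7265, 5, 5⟩)))) (.node 4 (.node 2 (.node 1 (.one ⟨13620, 4, 4⟩) (.one ⟨8252, 1, 5⟩)) (.node 1 (.one ⟨12983, 1, 3⟩) (.one ⟨1961, 5, 4⟩))) (.node 2 (.node 1 (.one ⟨4490, 0, 4⟩) (.one ⟨4764, 5, 6⟩)) (.node 1 (.one ⟨3212, 3, 5⟩) (.one ⟨7441, 4, 5⟩)))))) (.node 16 (.node 8 (.node 4 (.node 2 (.node 1 (.one ⟨396, 0, 5⟩) (.one ⟨6970, 1, 5⟩)) (.node 1 (.one ⟨14719, 3, 5⟩) (.one ⟨14715, 4, 5⟩))) (.node 2 (.node 1 (.one ⟨9861, 4, 5⟩) (.one ⟨9124, 2, 6⟩)) (.node 1 (.one ⟨10928, 5, 5⟩) (.one ⟨4085, 5, 5⟩)))) (.node 4 (.node 2 (.node 1 (.one ⟨11397, 0, 6⟩) (.one ⟨6442, 2, 5⟩)) (.node 1 (.one ⟨2990, 5, 6⟩) (.one ⟨286, 5, 6⟩))) (.node 2 (.node 1 (.one ⟨697, 1, 5⟩) (.one ⟨2193, 2, 5⟩)) (.node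 1 (.one ⟨12325, 3, 5⟩) (.one ⟨14715, 5, 5⟩))))) (.node 8 (.node 4 (.node 2 (.node 1 (.one ⟨3737, 2, 6⟩) (.one ⟨11453, 4, 5⟩)) (.node 1 (.one ⟨9755, 4, 5⟩) (.one ⟨7307, 2, 5⟩))) (.node 2 (.node 1 (.one ⟨15638, 4, 4⟩) (.one ⟨3904, 2, 6⟩)) (.node 1 (.one ⟨922, 2, 6⟩) (.one ⟨14322, 0, 4⟩)))) (.node 4 (.node 2 (.node 1 (.one ⟨4144, 5, 5⟩) (.one ⟨5521, 3, 6⟩)) (.node 1 (.one ⟨3404, 5, 4⟩) (.one ⟨1961, 0, 4⟩))) (.node 2 (.node 1 (.one ⟨13871, 4, 6⟩) (.one ⟨1973, 1, 5⟩)) (.node 1 (.one ⟨785, 5, 6⟩) (.one ⟨10577, 2, 4⟩)))))))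
def par2_13_11 : Arr Par :=
  (.node 32 (.node 16 (.node 8 (.node 4 (.node 2 (.node 1 (.one ⟨1633, 4, 6⟩) (.one ⟨9438, 3, 5⟩)) (.node 1 (.one ⟨16227, 3, 6⟩) (.one ⟨2096, 5, 5⟩))) (.node 2 (.node 1 (.one ⟨760, 0, 5⟩) (.one ⟨15272, 4, 5⟩)) (.node 1 (.one ⟨8314, 2, 5⟩) (.one ⟨9111, 1, 3⟩)))) (.node 4 (.node 2 (.node 1 (.one ⟨16410, 5, 5⟩) (.one ⟨653, 4, 6⟩)) (.node 1 (.one ⟨13045, 0, 5⟩) (.one ⟨9274, 1, 4⟩))) (.node 2 (.node 1 (.one ⟨15272, 0, 5⟩) (.one ⟨17197, 1, 5⟩)) (.node 1 (.one ⟨6953, 5, 6⟩) (.one ⟨15038, 4, 5⟩))))) (.node 8 (.node 4 (.node 2 (.node 1 (.one ⟨16575, 5, 5⟩) (.one ⟨3714, 0, 6⟩)) (.node 1 (.one ⟨16658, 0, 6⟩) (.one ⟨3947, 5, 6⟩))) (.node 2 (.node 1 (.one ⟨12429, 5, 5⟩) (.one ⟨7528, 5, 6⟩)) (.node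 1 (.one ⟨5514, 1, 4⟩) (.one ⟨3259, 4, 5⟩)))) (.node 4 (.node 2 (.node 1 (.one ⟨6156, 0, 1⟩) (.one ⟨12113, 1, 5⟩)) (.node 1 (.one ⟨7882, 5, 5⟩) (.one ⟨1095, 4, 3⟩))) (.node 2 (.node 1 (.one ⟨2009, 3, 5⟩) (.one ⟨12582, 2, 5⟩)) (.node 1 (.one ⟨12108, 4, 4⟩) (.one ⟨4281, 0, 5⟩)))))) (.node 16 (.node 8 (.node 4 (.node 2 (.node 1 (.one ⟨240, 1, 6⟩) (.one ⟨6539, 5, 6⟩)) (.node 1 (.one ⟨8039, 5, 3⟩) (.one ⟨8716, 4, 6⟩))) (.node 2 (.node 1 (.one ⟨1054, 5, 5⟩) (.one ⟨16385, 4, 4⟩)) (.node 1 (.one ⟨9033, 5, 5⟩) (.one ⟨11655, 3, 6⟩)))) (.node 4 (.node 2 (.node 1 (.one ⟨6143, 0, 5⟩) (.one ⟨7795, 3, 5⟩)) (.node 1 (.one ⟨16613, 1, 5⟩) (.one ⟨2390, 3, 4⟩))) (.node 2 (.node 1 (.one ⟨16904, 1, 5⟩) (.one ⟨12642, 0, 4⟩)) (.node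 1 (.one ⟨9222, 4, 6⟩) (.one ⟨16895, 2, 4⟩))))) (.node 8 (.node 4 (.node 2 (.node 1 (.one ⟨15036, 5, 4⟩) (.one ⟨9923, 0, 5⟩)) (.node 1 (.one ⟨15286, 4, 6⟩) (.one ⟨14681, 0, 5⟩))) (.node 2 (.node 1 (.one ⟨9832, 1, 4⟩) (.one ⟨17060, 5, 6⟩)) (.node 1 (.one ⟨7424, 4, 6⟩) (.one ⟨7211, 1, 6⟩)))) (.node 4 (.node 2 (.node 1 (.one ⟨5258, 5, 5⟩) (.one ⟨6791, 2, 6⟩)) (.node 1 (.one ⟨1573, 4, 5⟩) (.one ⟨12951, 3, 4⟩))) (.node 2 (.node 1 (.one ⟨13776, 5, 6⟩) (.one ⟨13058, 5, 5⟩)) (.node 1 (.one ⟨12573, 2, 5⟩) (.one ⟨11945, 5, 5⟩)))))))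
def par2_13_12 : Arr Par :=
  (.node 32 (.node 16 (.node 8 (.node 4 (.node 2 (.node 1 (.one ⟨5406, 0, 3⟩) (.one ⟨15452, 4, 5⟩)) (.node 1 (.one ⟨2824, 1, 5⟩) (.one ⟨10329, 3, 6⟩))) (.node 2 (.node 1 (.one ⟨11057, 3, 3⟩) (.one ⟨16225, 0, 6⟩)) (.node 1 (.one ⟨7249, 4, 6⟩) (.one ⟨16330, 1, 5⟩)))) (.node 4 (.node 2 (.node 1 (.one ⟨10401, 2, 5⟩) (.one ⟨7261, 4, 5⟩)) (.node 1 (.one ⟨396, 2, 5⟩) (.one ⟨6769, 1, 5⟩))) (.node 2 (.node 1 (.one ⟨6367, 1, 2⟩) (.one ⟨9218, 4, 6⟩)) (.node 1 (.one ⟨13546, 1, 6⟩) (.one ⟨7226, 0, 6⟩))))) (.node 8 (.node 4 (.node 2 (.node 1 (.one ⟨16962, 5, 6⟩) (.one ⟨2254, 3, 6⟩)) (.node 1 (.one ⟨14446, 3, 6⟩) (.one ⟨11417, 3, 5⟩))) (.node 2 (.node 1 (.one ⟨9306, 5, 6⟩) (.one ⟨16949, 5, 5⟩))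 (.node 1 (.one ⟨10933, 1, 4⟩) (.one ⟨1203, 0, 4⟩)))) (.node 4 (.node 2 (.node 1 (.one ⟨3271, 5, 6⟩) (.one ⟨10968, 5, 6⟩)) (.node 1 (.one ⟨12304, 5, 6⟩) (.one ⟨10256, 5, 5⟩))) (.node 2 (.node 1 (.one ⟨538, 4, 5⟩) (.one ⟨10093, 4, 5⟩)) (.node 1 (.one ⟨1378, 2, 5⟩) (.one ⟨9030, 3, 5⟩)))))) (.node 16 (.node 8 (.node 4 (.node 2 (.node 1 (.one ⟨12132, 2, 5⟩) (.one ⟨13203, 1, 5⟩)) (.node 1 (.one ⟨6025, 5, 5⟩) (.one ⟨4884, 4, 6⟩))) (.node 2 (.node 1 (.one ⟨11374, 4, 5⟩) (.one ⟨496, 3, 4⟩)) (.node 1 (.one ⟨10492, 1, 4⟩) (.one ⟨13026, 3, 4⟩)))) (.node 4 (.node 2 (.node 1 (.one ⟨3332, 2, 5⟩) (.one ⟨13783, 0, 4⟩)) (.node 1 (.one ⟨188, 2, 4⟩) (.one ⟨3843, 4, 4⟩))) (.node 2 (.node 1 (.one ⟨10798, 0, 5⟩) (.one ⟨1101, 5, 3⟩))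 (.node 1 (.one ⟨5416, 5, 6⟩) (.one ⟨5049, 1, 5⟩))))) (.node 8 (.node 4 (.node 2 (.node 1 (.one ⟨7117, 2, 5⟩) (.one ⟨13399, 5, 6⟩)) (.node 1 (.one ⟨13684, 4, 6⟩) (.one ⟨12809, 5, 5⟩))) (.node 2 (.node 1 (.one ⟨6829, 4, 5⟩) (.one ⟨1692, 5, 4⟩)) (.node 1 (.one ⟨7667, 5, 7⟩) (.one ⟨13774, 2, 6⟩)))) (.node 4 (.node 2 (.node 1 (.one ⟨16541, 0, 5⟩) (.one ⟨9657, 0, 5⟩)) (.node 1 (.one ⟨1101, 2, 3⟩) (.one ⟨6713, 4, 6⟩))) (.node 2 (.node 1 (.one ⟨14587, 3, 6⟩) (.one ⟨8387, 5, 6⟩)) (.node 1 (.one ⟨11446, 1, 5⟩) (.one ⟨1470, 2, 5⟩)))))))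
def par2_13_13 : Arr Par :=
  (.node 32 (.node 16 (.node 8 (.node 4 (.node 2 (.node 1 (.one ⟨11404, 5, 7⟩) (.one ⟨253, 4, 5⟩)) (.node 1 (.one ⟨16827, 0, 6⟩) (.one ⟨8680, 0, 5⟩))) (.node 2 (.node 1 (.one ⟨10384, 2, 3⟩) (.one ⟨11132, 0, 4⟩)) (.node 1 (.one ⟨12343, 0, 3⟩) (.one ⟨6726, 4, 5⟩)))) (.node 4 (.node 2 (.node 1 (.one ⟨2009, 4, 5⟩) (.one ⟨5021, 1, 5⟩)) (.node 1 (.one ⟨3747, 5, 6⟩) (.one ⟨15721, 4, 5⟩))) (.node 2 (.node 1 (.one ⟨15244, 2, 6⟩) (.one ⟨2660, 5, 5⟩)) (.node 1 (.one ⟨11867, 0, 4⟩) (.one ⟨3918, 3, 6⟩))))) (.node 8 (.node 4 (.node 2 (.node 1 (.one ⟨4186, 5, 6⟩) (.one ⟨2483, 0, 4⟩)) (.node 1 (.one ⟨7269, 2, 6⟩) (.one ⟨12081, 1, 5⟩))) (.node 2 (.node 1 (.one ⟨8838, 5, 6⟩) (.one ⟨15259, 2, 6⟩)) (.node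 1 (.one ⟨12582, 1, 5⟩) (.one ⟨11531, 4, 5⟩)))) (.node 4 (.node 2 (.node 1 (.one ⟨8916, 0, 5⟩) (.one ⟨2086, 5, 6⟩)) (.node 1 (.one ⟨15272, 2, 5⟩) (.one ⟨17175, 5, 6⟩))) (.node 2 (.node 1 (.one ⟨4553, 5, 5⟩) (.one ⟨13931, 1, 4⟩)) (.node 1 (.one ⟨15271, 2, 5⟩) (.one ⟨14477, 2, 6⟩)))))) (.node 16 (.node 8 (.node 4 (.node 2 (.node 1 (.one ⟨1649, 2, 5⟩) (.one ⟨13222, 4, 3⟩)) (.node 1 (.one ⟨16239, 4, 3⟩) (.one ⟨784, 4, 4⟩))) (.node 2 (.node 1 (.one ⟨6802, 4, 5⟩) (.one ⟨12958, 0, 4⟩)) (.node 1 (.one ⟨4989, 1, 5⟩) (.one ⟨7090, 2, 4⟩)))) (.node 4 (.node 2 (.node 1 (.one ⟨10441, 2, 5⟩) (.one ⟨16543, 1, 5⟩)) (.node 1 (.one ⟨16833, 1, 4⟩) (.one ⟨12299, 3, 6⟩))) (.node 2 (.node 1 (.one ⟨4942, 5, 5⟩) (.one ⟨12471, 5, 4⟩))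 (.node 1 (.one ⟨9633, 2, 4⟩) (.one ⟨10926, 3, 5⟩))))) (.node 8 (.node 4 (.node 2 (.node 1 (.one ⟨11284, 3, 4⟩) (.one ⟨13607, 5, 4⟩)) (.node 1 (.one ⟨6884, 4, 6⟩) (.one ⟨13077, 0, 4⟩))) (.node 2 (.node 1 (.one ⟨1637, 5, 5⟩) (.one ⟨5303, 1, 6⟩)) (.node 1 (.one ⟨7848, 1, 4⟩) (.one ⟨7167, 5, 5⟩)))) (.node 4 (.node 2 (.node 1 (.one ⟨15154, 5, 6⟩) (.one ⟨6345, 0, 5⟩)) (.node 1 (.one ⟨12010, 3, 5⟩) (.one ⟨13421, 0, 6⟩))) (.node 2 (.node 1 (.one ⟨12701, 1, 4⟩) (.one ⟨10512, 5, 2⟩)) (.node 1 (.one ⟨2739, 4, 5⟩) (.one ⟨12181, 2, 5⟩)))))))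
def par2_13_14 : Arr Par :=
  (.node 32 (.node 16 (.node 8 (.node 4 (.node 2 (.node 1 (.one ⟨15151, 5, 5⟩) (.one ⟨3835, 2, 5⟩)) (.node 1 (.one ⟨15159, 5, 5⟩) (.one ⟨5308, 1, 7⟩))) (.node 2 (.node 1 (.one ⟨10791, 2, 4⟩) (.one ⟨11563, 3, 4⟩)) (.node 1 (.one ⟨16830, 3, 6⟩) (.one ⟨13901, 2, 5⟩)))) (.node 4 (.node 2 (.node 1 (.one ⟨11230, 2, 6⟩) (.one ⟨1500, 3, 5⟩)) (.node 1 (.one ⟨1745, 2, 5⟩) (.one ⟨2815, 5, 4⟩))) (.node 2 (.node 1 (.one ⟨10554, 4, 5⟩) (.one ⟨5811, 5, 4⟩)) (.node 1 (.one ⟨13686, 2, 5⟩) (.one ⟨8137, 1, 6⟩))))) (.node 8 (.node 4 (.node 2 (.node 1 (.one ⟨8136, 1, 5⟩) (.one ⟨7219, 3, 5⟩)) (.node 1 (.one ⟨8140, 1, 6⟩) (.one ⟨6592, 5, 5⟩))) (.node 2 (.node 1 (.one ⟨861, 2, 5⟩) (.one ⟨171, 3, 6⟩)) (.node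 1 (.one ⟨2272, 4, 5⟩) (.one ⟨13334, 3, 4⟩)))) (.node 4 (.node 2 (.node 1 (.one ⟨408, 5, 5⟩) (.one ⟨296, 5, 5⟩)) (.node 1 (.one ⟨13297, 3, 5⟩) (.one ⟨13231, 3, 5⟩))) (.node 2 (.node 1 (.one ⟨6129, 4, 5⟩) (.one ⟨10133, 4, 6⟩)) (.node 1 (.one ⟨15184, 5, 5⟩) (.one ⟨7214, 5, 6⟩)))))) (.node 16 (.node 8 (.node 4 (.node 2 (.node 1 (.one ⟨15259, 1, 6⟩) (.one ⟨12496, 3, 6⟩)) (.node 1 (.one ⟨1811, 3, 5⟩) (.one ⟨4071, 4, 5⟩))) (.node 2 (.node 1 (.one ⟨3832, 1, 4⟩) (.one ⟨2688, 0, 6⟩)) (.node 1 (.one ⟨431, 5, 3⟩) (.one ⟨1135, 4, 5⟩)))) (.node 4 (.node 2 (.node 1 (.one ⟨4149, 1, 5⟩) (.one ⟨7354, 3, 6⟩)) (.node 1 (.one ⟨5442, 5, 6⟩) (.one ⟨2573, 1, 4⟩))) (.node 2 (.node 1 (.one ⟨7291, 4, 5⟩) (.one ⟨15085, 2, 3⟩)) (.node 1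 (.one ⟨3757, 5, 5⟩) (.one ⟨9188, 0, 4⟩))))) (.node 8 (.node 4 (.node 2 (.node 1 (.one ⟨1257, 4, 5⟩) (.one ⟨14470, 4, 6⟩)) (.node 1 (.one ⟨14478, 4, 5⟩) (.one ⟨11284, 2, 4⟩))) (.node 2 (.node 1 (.one ⟨7219, 2, 5⟩) (.one ⟨14362, 5, 4⟩)) (.node 1 (.one ⟨13029, 5, 4⟩) (.one ⟨8819, 5, 6⟩)))) (.node 4 (.node 2 (.node 1 (.one ⟨10039, 3, 5⟩) (.one ⟨1895, 5, 5⟩)) (.node 1 (.one ⟨14953, 2, 6⟩) (.one ⟨10868, 0, 6⟩))) (.node 2 (.node 1 (.one ⟨10157, 2, 6⟩) (.one ⟨9036, 5, 4⟩)) (.node 1 (.one ⟨15925, 1, 5⟩) (.one ⟨15436, 3, 3⟩)))))))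
def par2_13_15 : Arr Par :=
  (.node 32 (.node 16 (.node 8 (.node 4 (.node 2 (.node 1 (.one ⟨12135, 1, 6⟩) (.one ⟨9188, 3, 4⟩)) (.node 1 (.one ⟨14597, 5, 5⟩) (.one ⟨12259, 1, 5⟩))) (.node 2 (.node 1 (.one ⟨12128, 1, 1⟩) (.one ⟨5722, 0, 4⟩)) (.node 1 (.one ⟨7365, 3, 4⟩) (.one ⟨937, 0, 4⟩)))) (.node 4 (.node 2 (.node 1 (.one ⟨14072, 1, 6⟩) (.one ⟨5171, 3, 3⟩)) (.node 1 (.one ⟨11740, 0, 5⟩) (.one ⟨16531, 5, 5⟩))) (.node 2 (.node 1 (.one ⟨9524, 1, 5⟩) (.one ⟨827, 4, 6⟩)) (.node 1 (.one ⟨13725, 1, 6⟩) (.one ⟨9378, 0, 4⟩))))) (.node 8 (.node 4 (.node 2 (.node 1 (.one ⟨7264, 5, 4⟩) (.one ⟨2361, 5, 6⟩)) (.node 1 (.one ⟨4810, 5, 5⟩) (.one ⟨13586, 5, 5⟩))) (.node 2 (.node 1 (.one ⟨14117, 2, 5⟩) (.one ⟨12135, 2, 6⟩)) (.node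 1 (.one ⟨3111, 1, 4⟩) (.one ⟨10148, 2, 3⟩)))) (.node 4 (.node 2 (.node 1 (.one ⟨13035, 2, 5⟩) (.one ⟨12776, 4, 6⟩)) (.node 1 (.one ⟨11354, 0, 5⟩) (.one ⟨11416, 0, 5⟩))) (.node 2 (.node 1 (.one ⟨11340, 0, 4⟩) (.one ⟨16322, 1, 5⟩)) (.node 1 (.one ⟨9151, 5, 6⟩) (.one ⟨8874, 2, 5⟩)))))) (.node 16 (.node 8 (.node 4 (.node 2 (.node 1 (.one ⟨2792, 2, 4⟩) (.one ⟨7793, 2, 5⟩)) (.node 1 (.one ⟨5181, 0, 6⟩) (.one ⟨13701, 2, 6⟩))) (.node 2 (.node 1 (.one ⟨17179, 1, 6⟩) (.one ⟨14278, 4, 5⟩)) (.node 1 (.one ⟨6703, 4, 6⟩) (.one ⟨4111, 3, 6⟩)))) (.node 4 (.node 2 (.node 1 (.one ⟨10272, 3, 5⟩) (.one ⟨12391, 0, 6⟩)) (.node 1 (.one ⟨2634, 1, 5⟩) (.one ⟨8137, 4, 6⟩))) (.node 2 (.node 1 (.one ⟨12395, 0, 6⟩) (.one ⟨4987, 3, 5⟩))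 (.node 1 (.one ⟨9438, 4, 5⟩) (.one ⟨1280, 5, 5⟩))))) (.node 8 (.node 4 (.node 2 (.node 1 (.one ⟨14693, 1, 6⟩) (.one ⟨12295, 0, 5⟩)) (.node 1 (.one ⟨8668, 3, 3⟩) (.one ⟨3741, 2, 6⟩))) (.node 2 (.node 1 (.one ⟨7201, 4, 5⟩) (.one ⟨5878, 4, 6⟩)) (.node 1 (.one ⟨16517, 5, 3⟩) (.one ⟨11047, 0, 4⟩)))) (.node 4 (.node 2 (.node 1 (.one ⟨7448, 4, 4⟩) (.one ⟨11542, 0, 6⟩)) (.node 1 (.one ⟨10116, 2, 4⟩) (.one ⟨2390, 0, 4⟩))) (.node 2 (.node 1 (.one ⟨16722, 4, 5⟩) (.one ⟨6497, 2, 5⟩)) (.node 1 (.one ⟨7120, 5, 5⟩) (.one ⟨7640, 4, 6⟩)))))))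
def par2_13 : Arr Par :=
  (.node 512 (.node 256 (.node 128 (.node 64 par2_13_0 par2_13_1) (.node 64 par2_13_2 par2_13_3)) (.node 128 (.node 64 par2_13_4 par2_13_5) (.node 64 par2_13_6 par2_13_7))) (.node 256 (.node 128 (.node 64 par2_13_8 par2_13_9) (.node 64 par2_13_10 par2_13_11)) (.node 128 (.node 64 par2_13_12 par2_13_13) (.node 64 par2_13_14 par2_13_15))))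
def par2_14_0 : Arr Par :=
  (.node 32 (.node 16 (.node 8 (.node 4 (.node 2 (.node 1 (.one ⟨16873, 2, 6⟩) (.one ⟨6816, 1, 5⟩)) (.node 1 (.one ⟨11904, 1, 6⟩) (.one ⟨10680, 1, 6⟩))) (.node 2 (.node 1 (.one ⟨10947, 4, 6⟩) (.one ⟨434, 5, 6⟩)) (.node 1 (.one ⟨16603, 1, 5⟩) (.one ⟨12531, 0, 5⟩)))) (.node 4 (.node 2 (.node 1 (.one ⟨3980, 5, 5⟩) (.one ⟨6954, 3, 5⟩)) (.node 1 (.one ⟨3949, 5, 5⟩) (.one ⟨12778, 3, 3⟩))) (.node 2 (.node 1 (.one ⟨15220, 1, 5⟩) (.one ⟨16244, 5, 5⟩)) (.node 1 (.one ⟨9672, 5, 5⟩) (.one ⟨7924, 3, 6⟩))))) (.node 8 (.node 4 (.node 2 (.node 1 (.one ⟨11918, 5, 5⟩) (.one ⟨7880, 1, 5⟩)) (.node 1 (.one ⟨3818, 5, 4⟩) (.one ⟨3599, 3, 5⟩))) (.node 2 (.node 1 (.one ⟨15068, 0, 5⟩) (.one ⟨2387, 3, 6⟩)) (.node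 1 (.one ⟨9753, 4, 5⟩) (.one ⟨7267, 2, 3⟩)))) (.node 4 (.node 2 (.node 1 (.one ⟨2332, 4, 5⟩) (.one ⟨7910, 5, 5⟩)) (.node 1 (.one ⟨3421, 0, 3⟩) (.one ⟨6126, 0, 4⟩))) (.node 2 (.node 1 (.one ⟨10001, 0, 6⟩) (.one ⟨32, 1, 5⟩)) (.node 1 (.one ⟨9725, 0, 6⟩) (.one ⟨12159, 1, 5⟩)))))) (.node 16 (.node 8 (.node 4 (.node 2 (.node 1 (.one ⟨5195, 2, 6⟩) (.one ⟨12058, 5, 4⟩)) (.node 1 (.one ⟨6679, 5, 4⟩) (.one ⟨2644, 2, 5⟩))) (.node 2 (.node 1 (.one ⟨551, 3, 6⟩) (.one ⟨5498, 1, 6⟩)) (.node 1 (.one ⟨5367, 1, 5⟩) (.one ⟨4471, 2, 4⟩)))) (.node 4 (.node 2 (.node 1 (.one ⟨4114, 5, 5⟩) (.one ⟨11740, 1, 5⟩)) (.node 1 (.one ⟨4067, 2, 6⟩) (.one ⟨4278, 2, 6⟩))) (.node 2 (.node 1 (.one ⟨13569, 5, 5⟩) (.one ⟨1731, 5, 5⟩)) (.node 1 (.one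 ⟨5406, 5, 3⟩) (.one ⟨7757, 5, 5⟩))))) (.node 8 (.node 4 (.node 2 (.node 1 (.one ⟨15589, 0, 6⟩) (.one ⟨14148, 5, 4⟩)) (.node 1 (.one ⟨11441, 3, 5⟩) (.one ⟨2567, 1, 4⟩))) (.node 2 (.node 1 (.one ⟨17030, 4, 5⟩) (.one ⟨6110, 3, 5⟩)) (.node 1 (.one ⟨4103, 4, 6⟩) (.one ⟨16509, 1, 3⟩)))) (.node 4 (.node 2 (.node 1 (.one ⟨201, 5, 4⟩) (.one ⟨7826, 2, 4⟩)) (.node 1 (.one ⟨1198, 1, 6⟩) (.one ⟨7066, 1, 4⟩))) (.node 2 (.node 1 (.one ⟨86, 0, 3⟩) (.one ⟨2825, 3, 5⟩)) (.node 1 (.one ⟨3393, 4, 4⟩) (.one ⟨6074, 3, 5⟩)))))))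
def par2_14_1 : Arr Par :=
  (.node 32 (.node 16 (.node 8 (.node 4 (.node 2 (.node 1 (.one ⟨14161, 3, 5⟩) (.one ⟨9469, 1, 6⟩)) (.node 1 (.one ⟨333, 5, 5⟩) (.one ⟨6126, 3, 4⟩))) (.node 2 (.node 1 (.one ⟨16135, 1, 4⟩) (.one ⟨6216, 4, 6⟩)) (.node 1 (.one ⟨15029, 0, 6⟩) (.one ⟨9923, 5, 5⟩)))) (.node 4 (.node 2 (.node 1 (.one ⟨7562, 4, 5⟩) (.one ⟨3391, 4, 6⟩)) (.node 1 (.one ⟨14668, 3, 6⟩) (.one ⟨3618, 4, 5⟩))) (.node 2 (.node 1 (.one ⟨14050, 4, 4⟩) (.one ⟨11743, 2, 6⟩)) (.node 1 (.one ⟨14122, 5, 5⟩) (.one ⟨172, 3, 5⟩))))) (.node 8 (.node 4 (.node 2 (.node 1 (.one ⟨2877, 2, 5⟩) (.one ⟨15456, 0, 5⟩)) (.node 1 (.one ⟨3106, 1, 3⟩) (.one ⟨15758, 4, 5⟩))) (.node 2 (.node 1 (.one ⟨3393, 2, 4⟩) (.one ⟨4803, 5, 6⟩)) (.node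 1 (.one ⟨3058, 0, 6⟩) (.one ⟨11806, 1, 5⟩)))) (.node 4 (.node 2 (.node 1 (.one ⟨2830, 3, 5⟩) (.one ⟨15970, 1, 6⟩)) (.node 1 (.one ⟨11132, 3, 4⟩) (.one ⟨11867, 3, 4⟩))) (.node 2 (.node 1 (.one ⟨14420, 0, 5⟩) (.one ⟨2256, 4, 5⟩)) (.node 1 (.one ⟨7933, 2, 6⟩) (.one ⟨15362, 4, 4⟩)))))) (.node 16 (.node 8 (.node 4 (.node 2 (.node 1 (.one ⟨11654, 5, 5⟩) (.one ⟨13846, 4, 6⟩)) (.node 1 (.one ⟨3630, 3, 5⟩) (.one ⟨15363, 4, 5⟩))) (.node 2 (.node 1 (.one ⟨11233, 5, 5⟩) (.one ⟨13839, 4, 6⟩)) (.node 1 (.one ⟨11121, 2, 5⟩) (.one ⟨448, 5, 5⟩)))) (.node 4 (.node 2 (.node 1 (.one ⟨16056, 2, 5⟩) (.one ⟨11074, 2, 4⟩)) (.node 1 (.one ⟨4412, 4, 5⟩) (.one ⟨4120, 2, 4⟩))) (.node 2 (.node 1 (.one ⟨9147, 4, 6⟩) (.one ⟨5583, 1, 4⟩))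 (.node 1 (.one ⟨11150, 1, 5⟩) (.one ⟨6156, 5, 1⟩))))) (.node 8 (.node 4 (.node 2 (.node 1 (.one ⟨10977, 5, 5⟩) (.one ⟨3086, 0, 4⟩)) (.node 1 (.one ⟨4734, 2, 6⟩) (.one ⟨5236, 2, 5⟩))) (.node 2 (.node 1 (.one ⟨13032, 0, 3⟩) (.one ⟨11273, 5, 6⟩)) (.node 1 (.one ⟨4225, 2, 5⟩) (.one ⟨6370, 2, 4⟩)))) (.node 4 (.node 2 (.node 1 (.one ⟨6829, 3, 5⟩) (.one ⟨14023, 1, 4⟩)) (.node 1 (.one ⟨6259, 2, 5⟩) (.one ⟨14916, 5, 5⟩))) (.node 2 (.node 1 (.one ⟨90, 5, 6⟩) (.one ⟨6069, 3, 4⟩)) (.node 1 (.one ⟨1731, 2, 5⟩) (.one ⟨9815, 2, 4⟩)))))))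
def par2_14_2 : Arr Par :=
  (.node 32 (.node 16 (.node 8 (.node 4 (.node 2 (.node 1 (.one ⟨1556, 5, 5⟩) (.one ⟨16809, 4, 5⟩)) (.node 1 (.one ⟨15123, 3, 5⟩) (.one ⟨10367, 2, 5⟩))) (.node 2 (.node 1 (.one ⟨363, 1, 4⟩) (.one ⟨6271, 2, 4⟩)) (.node 1 (.one ⟨17045, 3, 5⟩) (.one ⟨16956, 5, 5⟩)))) (.node 4 (.node 2 (.node 1 (.one ⟨9896, 0, 5⟩) (.one ⟨3345, 5, 6⟩)) (.node 1 (.one ⟨3553, 5, 6⟩) (.one ⟨9431, 4, 4⟩))) (.node 2 (.node 1 (.one ⟨7063, 3, 4⟩) (.one ⟨15716, 5, 5⟩)) (.node 1 (.one ⟨8915, 1, 4⟩) (.one ⟨1690, 4, 5⟩))))) (.node 8 (.node 4 (.node 2 (.node 1 (.one ⟨14190, 1, 5⟩) (.one ⟨11074, 0, 4⟩)) (.node 1 (.one ⟨4866, 5, 6⟩) (.one ⟨12247, 3, 4⟩))) (.node 2 (.node 1 (.one ⟨16961, 3, 5⟩) (.one ⟨10715, 3, 2⟩)) (.node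 1 (.one ⟨4746, 2, 4⟩) (.one ⟨14395, 2, 5⟩)))) (.node 4 (.node 2 (.node 1 (.one ⟨5984, 3, 5⟩) (.one ⟨14061, 3, 5⟩)) (.node 1 (.one ⟨4737, 1, 6⟩) (.one ⟨10480, 1, 4⟩))) (.node 2 (.node 1 (.one ⟨15133, 1, 5⟩) (.one ⟨11, 4, 5⟩)) (.node 1 (.one ⟨167, 0, 4⟩) (.one ⟨6520, 1, 3⟩)))))) (.node 16 (.node 8 (.node 4 (.node 2 (.node 1 (.one ⟨3319, 2, 4⟩) (.one ⟨14489, 4, 6⟩)) (.node 1 (.one ⟨4754, 5, 4⟩) (.one ⟨9066, 1, 5⟩))) (.node 2 (.node 1 (.one ⟨1025, 5, 6⟩) (.one ⟨14419, 3, 6⟩)) (.node 1 (.one ⟨11528, 4, 5⟩) (.one ⟨8866, 2, 6⟩)))) (.node 4 (.node 2 (.node 1 (.one ⟨2063, 2, 5⟩) (.one ⟨12024, 0, 6⟩)) (.node 1 (.one ⟨16142, 3, 6⟩) (.one ⟨8714, 3, 6⟩))) (.node 2 (.node 1 (.one ⟨14149, 1, 5⟩) (.one ⟨8744, 3, 4⟩)) (.node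 1 (.one ⟨15081, 4, 5⟩) (.one ⟨5981, 5, 5⟩))))) (.node 8 (.node 4 (.node 2 (.node 1 (.one ⟨2692, 5, 6⟩) (.one ⟨5862, 5, 5⟩)) (.node 1 (.one ⟨10451, 4, 5⟩) (.one ⟨15801, 2, 5⟩))) (.node 2 (.node 1 (.one ⟨15743, 0, 5⟩) (.one ⟨15832, 2, 5⟩)) (.node 1 (.one ⟨6323, 5, 6⟩) (.one ⟨7498, 2, 6⟩)))) (.node 4 (.node 2 (.node 1 (.one ⟨16023, 4, 5⟩) (.one ⟨14559, 4, 4⟩)) (.node 1 (.one ⟨2697, 3, 5⟩) (.one ⟨6859, 5, 5⟩))) (.node 2 (.node 1 (.one ⟨10325, 3, 5⟩) (.one ⟨6425, 4, 5⟩)) (.node 1 (.one ⟨117, 2, 6⟩) (.one ⟨8249, 0, 6⟩)))))))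
def par2_14_3 : Arr Par :=
  (.node 32 (.node 16 (.node 8 (.node 4 (.node 2 (.node 1 (.one ⟨3160, 0, 4⟩) (.one ⟨14765, 3, 6⟩)) (.node 1 (.one ⟨13928, 2, 4⟩) (.one ⟨15852, 5, 6⟩))) (.node 2 (.node 1 (.one ⟨14403, 0, 5⟩) (.one ⟨3805, 0, 5⟩)) (.node 1 (.one ⟨16849, 1, 6⟩) (.one ⟨12185, 1, 5⟩)))) (.node 4 (.node 2 (.node 1 (.one ⟨14253, 5, 4⟩) (.one ⟨6121, 0, 5⟩)) (.node 1 (.one ⟨1733, 5, 6⟩) (.one ⟨4203, 4, 5⟩))) (.node 2 (.node 1 (.one ⟨13233, 1, 6⟩) (.one ⟨5961, 0, 3⟩)) (.node 1 (.one ⟨16402, 1, 4⟩) (.one ⟨16895, 0, 4⟩))))) (.node 8 (.node 4 (.node 2 (.node 1 (.one ⟨2146, 4, 6⟩) (.one ⟨11107, 0, 4⟩)) (.node 1 (.one ⟨12343, 5, 3⟩) (.one ⟨16148, 2, 6⟩))) (.node 2 (.node 1 (.one ⟨6613, 1, 5⟩) (.one ⟨13041, 2, 6⟩))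 (.node 1 (.one ⟨15463, 1, 6⟩) (.one ⟨11559, 5, 6⟩)))) (.node 4 (.node 2 (.node 1 (.one ⟨16698, 1, 5⟩) (.one ⟨6333, 5, 4⟩)) (.node 1 (.one ⟨16110, 5, 5⟩) (.one ⟨4999, 3, 6⟩))) (.node 2 (.node 1 (.one ⟨16876, 4, 5⟩) (.one ⟨2419, 1, 5⟩)) (.node 1 (.one ⟨4871, 0, 6⟩) (.one ⟨6278, 2, 3⟩)))))) (.node 16 (.node 8 (.node 4 (.node 2 (.node 1 (.one ⟨12436, 1, 4⟩) (.one ⟨8699, 5, 6⟩)) (.node 1 (.one ⟨15602, 5, 5⟩) (.one ⟨11311, 5, 5⟩))) (.node 2 (.node 1 (.one ⟨13108, 2, 6⟩) (.one ⟨8783, 5, 6⟩)) (.node 1 (.one ⟨14589, 2, 6⟩) (.one ⟨8295, 5, 6⟩)))) (.node 4 (.node 2 (.node 1 (.one ⟨15229, 4, 5⟩) (.one ⟨211, 5, 6⟩)) (.node 1 (.one ⟨734, 5, 5⟩) (.one ⟨13421, 1, 6⟩))) (.node 2 (.node 1 (.one ⟨7193, 4, 5⟩) (.one ⟨1039, 5, 6⟩))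 (.node 1 (.one ⟨5309, 0, 4⟩) (.one ⟨4436, 4, 6⟩))))) (.node 8 (.node 4 (.node 2 (.node 1 (.one ⟨1164, 3, 5⟩) (.one ⟨14398, 5, 5⟩)) (.node 1 (.one ⟨10089, 2, 5⟩) (.one ⟨5475, 2, 6⟩))) (.node 2 (.node 1 (.one ⟨9888, 2, 4⟩) (.one ⟨1940, 1, 5⟩)) (.node 1 (.one ⟨16778, 5, 5⟩) (.one ⟨14785, 1, 5⟩)))) (.node 4 (.node 2 (.node 1 (.one ⟨7085, 0, 5⟩) (.one ⟨11528, 0, 5⟩)) (.node 1 (.one ⟨10835, 5, 5⟩) (.one ⟨15956, 5, 5⟩))) (.node 2 (.node 1 (.one ⟨12336, 5, 5⟩) (.one ⟨11383, 4, 5⟩)) (.node 1 (.one ⟨9774, 4, 5⟩) (.one ⟨8033, 5, 6⟩)))))))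
def par2_14_4 : Arr Par :=
  (.node 32 (.node 16 (.node 8 (.node 4 (.node 2 (.node 1 (.one ⟨15886, 2, 4⟩) (.one ⟨11215, 1, 4⟩)) (.node 1 (.one ⟨10252, 2, 5⟩) (.one ⟨15134, 1, 5⟩))) (.node 2 (.node 1 (.one ⟨136, 2, 6⟩) (.one ⟨3920, 2, 4⟩)) (.node 1 (.one ⟨14950, 5, 6⟩) (.one ⟨4200, 1, 0⟩)))) (.node 4 (.node 2 (.node 1 (.one ⟨8873, 2, 5⟩) (.one ⟨13640, 2, 5⟩)) (.node 1 (.one ⟨10656, 1, 6⟩) (.one ⟨10650, 1, 6⟩))) (.node 2 (.node 1 (.one ⟨2297, 5, 4⟩) (.one ⟨15342, 1, 5⟩)) (.node 1 (.one ⟨7830, 0, 5⟩) (.one ⟨1690, 5, 5⟩))))) (.node 8 (.node 4 (.node 2 (.node 1 (.one ⟨15594, 0, 6⟩) (.one ⟨9666, 5, 5⟩)) (.node 1 (.one ⟨12634, 5, 5⟩) (.one ⟨10150, 1, 6⟩))) (.node 2 (.node 1 (.one ⟨2158, 2, 4⟩) (.one ⟨8728, 4, 6⟩))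 (.node 1 (.one ⟨4355, 1, 5⟩) (.one ⟨16382, 3, 3⟩)))) (.node 4 (.node 2 (.node 1 (.one ⟨2278, 2, 5⟩) (.one ⟨6104, 4, 3⟩)) (.node 1 (.one ⟨9706, 5, 6⟩) (.one ⟨2273, 5, 6⟩))) (.node 2 (.node 1 (.one ⟨6325, 2, 6⟩) (.one ⟨359, 1, 5⟩)) (.node 1 (.one ⟨10117, 5, 6⟩) (.one ⟨4649, 4, 7⟩)))))) (.node 16 (.node 8 (.node 4 (.node 2 (.node 1 (.one ⟨10911, 4, 5⟩) (.one ⟨4591, 0, 4⟩)) (.node 1 (.one ⟨12550, 2, 5⟩) (.one ⟨3366, 2, 6⟩))) (.node 2 (.node 1 (.one ⟨10684, 1, 5⟩) (.one ⟨14947, 1, 4⟩)) (.node 1 (.one ⟨9780, 5, 4⟩) (.one ⟨9396, 5, 5⟩)))) (.node 4 (.node 2 (.node 1 (.one ⟨17173, 2, 6⟩) (.one ⟨12684, 1, 5⟩)) (.node 1 (.one ⟨3081, 4, 2⟩) (.one ⟨14370, 5, 5⟩))) (.node 2 (.node 1 (.one ⟨11088, 1, 6⟩) (.one ⟨9126, 2, 6⟩))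 (.node 1 (.one ⟨12582, 5, 5⟩) (.one ⟨1308, 0, 5⟩))))) (.node 8 (.node 4 (.node 2 (.node 1 (.one ⟨2437, 1, 5⟩) (.one ⟨2146, 3, 6⟩)) (.node 1 (.one ⟨13258, 1, 4⟩) (.one ⟨4917, 3, 5⟩))) (.node 2 (.node 1 (.one ⟨11474, 3, 5⟩) (.one ⟨14400, 4, 6⟩)) (.node 1 (.one ⟨17129, 2, 5⟩) (.one ⟨16849, 4, 6⟩)))) (.node 4 (.node 2 (.node 1 (.one ⟨6519, 4, 3⟩) (.one ⟨12747, 4, 5⟩)) (.node 1 (.one ⟨8434, 0, 5⟩) (.one ⟨17195, 2, 6⟩))) (.node 2 (.node 1 (.one ⟨13760, 2, 5⟩) (.one ⟨8983, 0, 5⟩)) (.node 1 (.one ⟨1326, 1, 4⟩) (.one ⟨2462, 0, 3⟩)))))))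
def par2_14_5 : Arr Par :=
  (.node 32 (.node 16 (.node 8 (.node 4 (.node 2 (.node 1 (.one ⟨2889, 4, 5⟩) (.one ⟨5879, 2, 6⟩)) (.node 1 (.one ⟨15671, 2, 6⟩) (.one ⟨4859, 1, 5⟩))) (.node 2 (.node 1 (.one ⟨5317, 1, 5⟩) (.one ⟨16213, 3, 2⟩)) (.node 1 (.one ⟨4412, 2, 5⟩) (.one ⟨16309, 3, 5⟩)))) (.node 4 (.node 2 (.node 1 (.one ⟨7613, 5, 5⟩) (.one ⟨13662, 4, 6⟩)) (.node 1 (.one ⟨14064, 1, 5⟩) (.one ⟨13502, 1, 5⟩))) (.node 2 (.node 1 (.one ⟨3477, 2, 5⟩) (.one ⟨16661, 3, 5⟩)) (.node 1 (.one ⟨2815, 2, 4⟩) (.one ⟨8427, 5, 5⟩))))) (.node 8 (.node 4 (.node 2 (.node 1 (.one ⟨940, 0, 4⟩) (.one ⟨4619, 3, 6⟩)) (.node 1 (.one ⟨17100, 1, 5⟩) (.one ⟨17023, 4, 5⟩))) (.node 2 (.node 1 (.one ⟨6229, 2, 5⟩) (.one ⟨9161, 0, 6⟩)) (.node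 1 (.one ⟨14075, 2, 5⟩) (.one ⟨9278, 5, 6⟩)))) (.node 4 (.node 2 (.node 1 (.one ⟨16157, 3, 5⟩) (.one ⟨8869, 2, 4⟩)) (.node 1 (.one ⟨15085, 0, 3⟩) (.one ⟨12701, 5, 4⟩))) (.node 2 (.node 1 (.one ⟨13167, 5, 5⟩) (.one ⟨8096, 3, 5⟩)) (.node 1 (.one ⟨5559, 1, 5⟩) (.one ⟨12640, 5, 5⟩)))))) (.node 16 (.node 8 (.node 4 (.node 2 (.node 1 (.one ⟨10209, 0, 5⟩) (.one ⟨8668, 0, 3⟩)) (.node 1 (.one ⟨251, 1, 3⟩) (.one ⟨14177, 4, 4⟩))) (.node 2 (.node 1 (.one ⟨6567, 1, 5⟩) (.one ⟨10118, 4, 5⟩)) (.node 1 (.one ⟨17075, 0, 6⟩) (.one ⟨16964, 4, 5⟩)))) (.node 4 (.node 2 (.node 1 (.one ⟨4534, 4, 5⟩) (.one ⟨14404, 4, 5⟩)) (.node 1 (.one ⟨12365, 5, 6⟩) (.one ⟨16517, 2, 3⟩))) (.node 2 (.node 1 (.one ⟨15923, 3, 5⟩) (.one ⟨6473, 1, 3⟩))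 (.node 1 (.one ⟨5502, 5, 4⟩) (.one ⟨16287, 2, 6⟩))))) (.node 8 (.node 4 (.node 2 (.node 1 (.one ⟨5171, 0, 3⟩) (.one ⟨11928, 5, 3⟩)) (.node 1 (.one ⟨12485, 2, 6⟩) (.one ⟨5283, 0, 5⟩))) (.node 2 (.node 1 (.one ⟨9077, 1, 5⟩) (.one ⟨11132, 1, 4⟩)) (.node 1 (.one ⟨13266, 0, 5⟩) (.one ⟨5604, 4, 5⟩)))) (.node 4 (.node 2 (.node 1 (.one ⟨298, 5, 6⟩) (.one ⟨6998, 3, 4⟩)) (.node 1 (.one ⟨14661, 2, 3⟩) (.one ⟨13928, 4, 4⟩))) (.node 2 (.node 1 (.one ⟨6977, 3, 5⟩) (.one ⟨12494, 2, 5⟩)) (.node 1 (.one ⟨14655, 2, 4⟩) (.one ⟨3342, 0, 4⟩)))))))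
def par2_14_6 : Arr Par :=
  (.node 32 (.node 16 (.node 8 (.node 4 (.node 2 (.node 1 (.one ⟨1746, 2, 5⟩) (.one ⟨12610, 4, 6⟩)) (.node 1 (.one ⟨13078, 1, 5⟩) (.one ⟨11122, 1, 4⟩))) (.node 2 (.node 1 (.one ⟨12607, 4, 5⟩) (.one ⟨12608, 4, 6⟩)) (.node 1 (.one ⟨9363, 3, 5⟩) (.one ⟨1609, 1, 6⟩)))) (.node 4 (.node 2 (.node 1 (.one ⟨14763, 2, 7⟩) (.one ⟨13674, 0, 6⟩)) (.node 1 (.one ⟨1415, 5, 4⟩) (.one ⟨7196, 2, 3⟩))) (.node 2 (.node 1 (.one ⟨8252, 3, 5⟩) (.one ⟨611, 1, 5⟩)) (.node 1 (.one ⟨15835, 5, 6⟩) (.one ⟨5189, 1, 6⟩))))) (.node 8 (.node 4 (.node 2 (.node 1 (.one ⟨487, 2, 5⟩) (.one ⟨9286, 4, 5⟩)) (.node 1 (.one ⟨11585, 5, 6⟩) (.one ⟨16722, 5, 5⟩))) (.node 2 (.node 1 (.one ⟨13666, 0, 6⟩) (.one ⟨8916, 4, 5⟩)) (.node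 1 (.one ⟨8786, 4, 6⟩) (.one ⟨5367, 0, 5⟩)))) (.node 4 (.node 2 (.node 1 (.one ⟨13032, 5, 3⟩) (.one ⟨6040, 5, 5⟩)) (.node 1 (.one ⟨5875, 3, 5⟩) (.one ⟨10878, 3, 5⟩))) (.node 2 (.node 1 (.one ⟨5738, 5, 6⟩) (.one ⟨9087, 2, 5⟩)) (.node 1 (.one ⟨15524, 2, 5⟩) (.one ⟨10670, 0, 4⟩)))))) (.node 16 (.node 8 (.node 4 (.node 2 (.node 1 (.one ⟨6349, 0, 5⟩) (.one ⟨10078, 1, 5⟩)) (.node 1 (.one ⟨14783, 4, 5⟩) (.one ⟨10640, 1, 6⟩))) (.node 2 (.node 1 (.one ⟨10121, 1, 5⟩) (.one ⟨7867, 3, 4⟩)) (.node 1 (.one ⟨6712, 1, 6⟩) (.one ⟨14788, 5, 5⟩)))) (.node 4 (.node 2 (.node 1 (.one ⟨14150, 5, 4⟩) (.one ⟨16676, 4, 2⟩)) (.node 1 (.one ⟨5039, 2, 6⟩) (.one ⟨15535, 5, 6⟩))) (.node 2 (.node 1 (.one ⟨12954, 1, 5⟩) (.one ⟨16119, 2, 5⟩))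 (.node 1 (.one ⟨12999, 3, 5⟩) (.one ⟨7749, 3, 5⟩))))) (.node 8 (.node 4 (.node 2 (.node 1 (.one ⟨9149, 4, 5⟩) (.one ⟨15958, 5, 5⟩)) (.node 1 (.one ⟨16673, 4, 5⟩) (.one ⟨6567, 5, 5⟩))) (.node 2 (.node 1 (.one ⟨4908, 4, 4⟩) (.one ⟨3830, 4, 5⟩)) (.node 1 (.one ⟨5809, 1, 5⟩) (.one ⟨8247, 5, 6⟩)))) (.node 4 (.node 2 (.node 1 (.one ⟨12015, 5, 6⟩) (.one ⟨8167, 5, 5⟩)) (.node 1 (.one ⟨12024, 1, 6⟩) (.one ⟨11044, 3, 6⟩))) (.node 2 (.node 1 (.one ⟨16006, 2, 5⟩) (.one ⟨420, 3, 5⟩)) (.node 1 (.one ⟨3081, 0, 2⟩) (.one ⟨11808, 5, 4⟩)))))))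
def par2_14_7 : Arr Par :=
  (.node 32 (.node 16 (.node 8 (.node 4 (.node 2 (.node 1 (.one ⟨7357, 4, 5⟩) (.one ⟨2694, 1, 4⟩)) (.node 1 (.one ⟨6463, 0, 6⟩) (.one ⟨14319, 5, 6⟩))) (.node 2 (.node 1 (.one ⟨2733, 1, 4⟩) (.one ⟨10809, 4, 6⟩)) (.node 1 (.one ⟨7358, 2, 5⟩) (.one ⟨848, 3, 6⟩)))) (.node 4 (.node 2 (.node 1 (.one ⟨11678, 0, 6⟩) (.one ⟨13808, 1, 5⟩)) (.node 1 (.one ⟨11534, 1, 5⟩) (.one ⟨4156, 4, 5⟩))) (.node 2 (.node 1 (.one ⟨16736, 4, 6⟩) (.one ⟨2591, 5, 6⟩)) (.node 1 (.one ⟨4169, 0, 4⟩) (.one ⟨12447, 1, 5⟩))))) (.node 8 (.node 4 (.node 2 (.node 1 (.one ⟨12362, 5, 5⟩) (.one ⟨12517, 3, 6⟩)) (.node 1 (.one ⟨10086, 5, 5⟩) (.one ⟨1353, 3, 5⟩))) (.node 2 (.node 1 (.one ⟨16319, 5, 4⟩) (.one ⟨16211, 5, 6⟩))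 (.node 1 (.one ⟨1261, 0, 5⟩) (.one ⟨6423, 0, 5⟩)))) (.node 4 (.node 2 (.node 1 (.one ⟨3543, 1, 6⟩) (.one ⟨13253, 1, 6⟩)) (.node 1 (.one ⟨8856, 3, 6⟩) (.one ⟨15745, 1, 7⟩))) (.node 2 (.node 1 (.one ⟨14021, 1, 6⟩) (.one ⟨3846, 5, 6⟩)) (.node 1 (.one ⟨8878, 1, 6⟩) (.one ⟨14174, 3, 6⟩)))))) (.node 16 (.node 8 (.node 4 (.node 2 (.node 1 (.one ⟨9088, 1, 6⟩) (.one ⟨3694, 3, 6⟩)) (.node 1 (.one ⟨4978, 2, 6⟩) (.one ⟨3997, 2, 6⟩))) (.node 2 (.node 1 (.one ⟨5852, 0, 5⟩) (.one ⟨8873, 1, 5⟩)) (.node 1 (.one ⟨11362, 2, 6⟩) (.one ⟨1612, 4, 5⟩)))) (.node 4 (.node 2 (.node 1 (.one ⟨14546, 0, 4⟩) (.one ⟨7826, 0, 4⟩)) (.node 1 (.one ⟨5943, 4, 5⟩) (.one ⟨13223, 5, 5⟩))) (.node 2 (.node 1 (.one ⟨8234, 3, 5⟩) (.one ⟨2099, 4, 5⟩))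 (.node 1 (.one ⟨16454, 1, 4⟩) (.one ⟨12166, 2, 6⟩))))) (.node 8 (.node 4 (.node 2 (.node 1 (.one ⟨8628, 0, 5⟩) (.one ⟨5390, 2, 6⟩)) (.node 1 (.one ⟨10864, 4, 5⟩) (.one ⟨16322, 5, 5⟩))) (.node 2 (.node 1 (.one ⟨11199, 5, 5⟩) (.one ⟨3448, 2, 4⟩)) (.node 1 (.one ⟨8874, 1, 5⟩) (.one ⟨10641, 0, 3⟩)))) (.node 4 (.node 2 (.node 1 (.one ⟨11556, 2, 4⟩) (.one ⟨3669, 1, 5⟩)) (.node 1 (.one ⟨13310, 2, 6⟩) (.one ⟨14122, 3, 5⟩))) (.node 2 (.node 1 (.one ⟨13077, 3, 4⟩) (.one ⟨10159, 2, 5⟩)) (.node 1 (.one ⟨14138, 4, 4⟩) (.one ⟨3941, 2, 6⟩)))))))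
def par2_14_8 : Arr Par :=
  (.node 32 (.node 16 (.node 8 (.node 4 (.node 2 (.node 1 (.one ⟨5141, 4, 5⟩) (.one ⟨12768, 1, 5⟩)) (.node 1 (.one ⟨16513, 4, 5⟩) (.one ⟨11574, 2, 6⟩))) (.node 2 (.node 1 (.one ⟨7819, 3, 6⟩) (.one ⟨14173, 3, 5⟩)) (.node 1 (.one ⟨11078, 3, 6⟩) (.one ⟨15187, 2, 5⟩)))) (.node 4 (.node 2 (.node 1 (.one ⟨568, 2, 4⟩) (.one ⟨9908, 2, 5⟩)) (.node 1 (.one ⟨7448, 0, 4⟩) (.one ⟨11196, 5, 5⟩))) (.node 2 (.node 1 (.one ⟨216, 1, 5⟩) (.one ⟨8877, 1, 6⟩)) (.node 1 (.one ⟨15130, 1, 3⟩) (.one ⟨3822, 0, 6⟩))))) (.node 8 (.node 4 (.node 2 (.node 1 (.one ⟨2024, 1, 5⟩) (.one ⟨5746, 5, 4⟩)) (.node 1 (.one ⟨2748, 5, 5⟩) (.one ⟨9761, 5, 4⟩))) (.node 2 (.node 1 (.one ⟨12335, 4, 6⟩) (.one ⟨7338, 3, 5⟩)) (.node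 1 (.one ⟨9529, 5, 6⟩) (.one ⟨8884, 2, 6⟩)))) (.node 4 (.node 2 (.node 1 (.one ⟨1398, 1, 6⟩) (.one ⟨1103, 1, 4⟩)) (.node 1 (.one ⟨7662, 5, 5⟩) (.one ⟨8159, 4, 6⟩))) (.node 2 (.node 1 (.one ⟨6664, 0, 5⟩) (.one ⟨16801, 5, 6⟩)) (.node 1 (.one ⟨15119, 3, 5⟩) (.one ⟨11563, 2, 4⟩)))))) (.node 16 (.node 8 (.node 4 (.node 2 (.node 1 (.one ⟨826, 2, 6⟩) (.one ⟨12031, 5, 6⟩)) (.node 1 (.one ⟨14304, 3, 5⟩) (.one ⟨14741, 0, 6⟩))) (.node 2 (.node 1 (.one ⟨14230, 4, 6⟩) (.one ⟨16462, 0, 5⟩)) (.node 1 (.one ⟨6332, 5, 5⟩) (.one ⟨11137, 4, 5⟩)))) (.node 4 (.node 2 (.node 1 (.one ⟨11774, 1, 4⟩) (.one ⟨15285, 2, 5⟩)) (.node 1 (.one ⟨3639, 1, 6⟩) (.one ⟨13562, 0, 6⟩))) (.node 2 (.node 1 (.one ⟨14862, 5, 4⟩) (.one ⟨1688, 1, 4⟩)) (.node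 1 (.one ⟨2755, 0, 5⟩) (.one ⟨11657, 5, 5⟩))))) (.node 8 (.node 4 (.node 2 (.node 1 (.one ⟨3594, 0, 5⟩) (.one ⟨7784, 5, 4⟩)) (.node 1 (.one ⟨12209, 3, 5⟩) (.one ⟨962, 4, 4⟩))) (.node 2 (.node 1 (.one ⟨14152, 0, 6⟩) (.one ⟨8880, 5, 4⟩)) (.node 1 (.one ⟨8718, 0, 6⟩) (.one ⟨15600, 0, 4⟩)))) (.node 4 (.node 2 (.node 1 (.one ⟨9652, 1, 5⟩) (.one ⟨4365, 4, 5⟩)) (.node 1 (.one ⟨13563, 1, 6⟩) (.one ⟨14676, 4, 6⟩))) (.node 2 (.node 1 (.one ⟨16299, 4, 5⟩) (.one ⟨3455, 5, 5⟩)) (.node 1 (.one ⟨2629, 1, 6⟩) (.one ⟨5174, 4, 5⟩)))))))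
def par2_14_9 : Arr Par :=
  (.node 32 (.node 16 (.node 8 (.node 4 (.node 2 (.node 1 (.one ⟨5453, 2, 5⟩) (.one ⟨8969, 3, 6⟩)) (.node 1 (.one ⟨1329, 2, 5⟩) (.one ⟨16102, 2, 6⟩))) (.node 2 (.node 1 (.one ⟨9834, 5, 4⟩) (.one ⟨7248, 5, 5⟩)) (.node 1 (.one ⟨6386, 1, 5⟩) (.one ⟨379, 5, 5⟩)))) (.node 4 (.node 2 (.node 1 (.one ⟨7368, 5, 4⟩) (.one ⟨8637, 3, 5⟩)) (.node 1 (.one ⟨5030, 3, 5⟩) (.one ⟨10678, 4, 5⟩))) (.node 2 (.node 1 (.one ⟨1089, 4, 5⟩) (.one ⟨14063, 1, 5⟩)) (.node 1 (.one ⟨4914, 3, 6⟩) (.one ⟨7059, 0, 4⟩))))) (.node 8 (.node 4 (.node 2 (.node 1 (.one ⟨10341, 1, 6⟩) (.one ⟨7078, 0, 4⟩)) (.node 1 (.one ⟨4421, 4, 5⟩) (.one ⟨14759, 5, 6⟩))) (.node 2 (.node 1 (.one ⟨2345, 4, 4⟩) (.one ⟨4916, 1, 5⟩)) (.node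 1 (.one ⟨10454, 4, 5⟩) (.one ⟨12499, 0, 3⟩)))) (.node 4 (.node 2 (.node 1 (.one ⟨15717, 4, 5⟩) (.one ⟨5015, 1, 5⟩)) (.node 1 (.one ⟨9087, 1, 5⟩) (.one ⟨8878, 5, 6⟩))) (.node 2 (.node 1 (.one ⟨820, 2, 4⟩) (.one ⟨13253, 5, 6⟩)) (.node 1 (.one ⟨379, 0, 5⟩) (.one ⟨12481, 1, 6⟩)))))) (.node 16 (.node 8 (.node 4 (.node 2 (.node 1 (.one ⟨9392, 0, 5⟩) (.one ⟨6497, 1, 5⟩)) (.node 1 (.one ⟨11072, 4, 6⟩) (.one ⟨13349, 1, 3⟩))) (.node 2 (.node 1 (.one ⟨2812, 5, 6⟩) (.one ⟨15881, 3, 5⟩)) (.node 1 (.one ⟨2745, 1, 5⟩) (.one ⟨13031, 5, 6⟩)))) (.node 4 (.node 2 (.node 1 (.one ⟨12958, 2, 4⟩) (.one ⟨221, 3, 5⟩)) (.node 1 (.one ⟨13927, 4, 4⟩) (.one ⟨16248, 3, 5⟩))) (.node 2 (.node 1 (.one ⟨553, 1, 6⟩) (.one ⟨15894, 2, 5⟩)) (.node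 1 (.one ⟨5283, 5, 5⟩) (.one ⟨8196, 0, 3⟩))))) (.node 8 (.node 4 (.node 2 (.node 1 (.one ⟨4581, 2, 4⟩) (.one ⟨9270, 2, 4⟩)) (.node 1 (.one ⟨14862, 2, 4⟩) (.one ⟨6441, 2, 6⟩))) (.node 2 (.node 1 (.one ⟨2259, 4, 4⟩) (.one ⟨12025, 2, 5⟩)) (.node 1 (.one ⟨3387, 5, 6⟩) (.one ⟨11527, 3, 6⟩)))) (.node 4 (.node 2 (.node 1 (.one ⟨7035, 3, 3⟩) (.one ⟨7695, 1, 5⟩)) (.node 1 (.one ⟨363, 2, 4⟩) (.one ⟨2334, 0, 5⟩))) (.node 2 (.node 1 (.one ⟨12303, 4, 3⟩) (.one ⟨8494, 5, 6⟩)) (.node 1 (.one ⟨12607, 1, 5⟩) (.one ⟨13474, 4, 5⟩)))))))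
def par2_14_10 : Arr Par :=
  (.node 32 (.node 16 (.node 8 (.node 4 (.node 2 (.node 1 (.one ⟨16686, 5, 4⟩) (.one ⟨6271, 1, 4⟩)) (.node 1 (.one ⟨4973, 2, 5⟩) (.one ⟨14524, 2, 6⟩))) (.node 2 (.node 1 (.one ⟨5078, 4, 6⟩) (.one ⟨16865, 2, 6⟩)) (.node 1 (.one ⟨13651, 4, 6⟩) (.one ⟨11695, 3, 4⟩)))) (.node 4 (.node 2 (.node 1 (.one ⟨11072, 2, 6⟩) (.one ⟨9112, 0, 5⟩)) (.node 1 (.one ⟨2872, 2, 4⟩) (.one ⟨4300, 3, 4⟩))) (.node 2 (.node 1 (.one ⟨914, 2, 4⟩) (.one ⟨1156, 5, 6⟩)) (.node 1 (.one ⟨170, 3, 5⟩) (.one ⟨5057, 3, 6⟩))))) (.node 8 (.node 4 (.node 2 (.node 1 (.one ⟨14294, 3, 5⟩) (.one ⟨3017, 1, 6⟩)) (.node 1 (.one ⟨4568, 0, 6⟩) (.one ⟨10023, 0, 6⟩))) (.node 2 (.node 1 (.one ⟨11721, 4, 5⟩) (.one ⟨867, 5, 6⟩)) (.node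 1 (.one ⟨4333, 0, 6⟩) (.one ⟨1215, 4, 6⟩)))) (.node 4 (.node 2 (.node 1 (.one ⟨15572, 4, 5⟩) (.one ⟨9703, 5, 5⟩)) (.node 1 (.one ⟨13961, 1, 6⟩) (.one ⟨7519, 4, 5⟩))) (.node 2 (.node 1 (.one ⟨12886, 0, 5⟩) (.one ⟨4431, 2, 5⟩)) (.node 1 (.one ⟨14491, 3, 5⟩) (.one ⟨9145, 2, 6⟩)))))) (.node 16 (.node 8 (.node 4 (.node 2 (.node 1 (.one ⟨8831, 0, 5⟩) (.one ⟨3594, 2, 5⟩)) (.node 1 (.one ⟨16135, 4, 4⟩) (.one ⟨1521, 0, 6⟩))) (.node 2 (.node 1 (.one ⟨14670, 0, 5⟩) (.one ⟨16146, 4, 6⟩)) (.node 1 (.one ⟨14675, 0, 6⟩) (.one ⟨13149, 4, 6⟩)))) (.node 4 (.node 2 (.node 1 (.one ⟨1363, 1, 5⟩) (.one ⟨10082, 4, 4⟩)) (.node 1 (.one ⟨3813, 4, 6⟩) (.one ⟨3482, 5, 7⟩))) (.node 2 (.node 1 (.one ⟨15491, 4, 5⟩) (.one ⟨7575, 5, 5⟩)) (.node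 1 (.one ⟨15986, 4, 5⟩) (.one ⟨15358, 2, 4⟩))))) (.node 8 (.node 4 (.node 2 (.node 1 (.one ⟨6903, 3, 6⟩) (.one ⟨3475, 2, 5⟩)) (.node 1 (.one ⟨3332, 1, 5⟩) (.one ⟨6143, 3, 5⟩))) (.node 2 (.node 1 (.one ⟨15303, 0, 5⟩) (.one ⟨15416, 4, 5⟩)) (.node 1 (.one ⟨15383, 0, 5⟩) (.one ⟨14921, 1, 6⟩)))) (.node 4 (.node 2 (.node 1 (.one ⟨1212, 4, 5⟩) (.one ⟨6043, 5, 5⟩)) (.node 1 (.one ⟨5451, 4, 6⟩) (.one ⟨14640, 2, 6⟩))) (.node 2 (.node 1 (.one ⟨607, 4, 3⟩) (.one ⟨1553, 4, 6⟩)) (.node 1 (.one ⟨16879, 2, 4⟩) (.one ⟨3891, 3, 4⟩)))))))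
def par2_14_11 : Arr Par :=
  (.node 32 (.node 16 (.node 8 (.node 4 (.node 2 (.node 1 (.one ⟨10409, 5, 5⟩) (.one ⟨7429, 4, 5⟩)) (.node 1 (.one ⟨1947, 2, 5⟩) (.one ⟨350, 2, 6⟩))) (.node 2 (.node 1 (.one ⟨6883, 2, 5⟩) (.one ⟨1575, 1, 6⟩)) (.node 1 (.one ⟨2952, 4, 5⟩) (.one ⟨16224, 4, 5⟩)))) (.node 4 (.node 2 (.node 1 (.one ⟨155, 4, 5⟩) (.one ⟨9204, 4, 5⟩)) (.node 1 (.one ⟨5943, 5, 5⟩) (.one ⟨4230, 4, 5⟩))) (.node 2 (.node 1 (.one ⟨14153, 4, 6⟩) (.one ⟨6447, 5, 5⟩)) (.node 1 (.one ⟨9960, 5, 6⟩) (.one ⟨2721, 4, 6⟩))))) (.node 8 (.node 4 (.node 2 (.node 1 (.one ⟨4312, 0, 5⟩) (.one ⟨6217, 4, 4⟩)) (.node 1 (.one ⟨9188, 2, 4⟩) (.one ⟨1366, 1, 5⟩))) (.node 2 (.node 1 (.one ⟨9225, 4, 6⟩) (.one ⟨10064, 1, 6⟩)) (.node 1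 (.one ⟨10689, 3, 5⟩) (.one ⟨5625, 1, 5⟩)))) (.node 4 (.node 2 (.node 1 (.one ⟨14718, 3, 5⟩) (.one ⟨10584, 3, 5⟩)) (.node 1 (.one ⟨14040, 5, 2⟩) (.one ⟨3389, 3, 5⟩))) (.node 2 (.node 1 (.one ⟨10090, 5, 4⟩) (.one ⟨16478, 1, 4⟩)) (.node 1 (.one ⟨3036, 4, 5⟩) (.one ⟨15662, 5, 4⟩)))))) (.node 16 (.node 8 (.node 4 (.node 2 (.node 1 (.one ⟨7575, 2, 5⟩) (.one ⟨9922, 2, 7⟩)) (.node 1 (.one ⟨6745, 4, 5⟩) (.one ⟨16356, 5, 5⟩))) (.node 2 (.node 1 (.one ⟨1986, 1, 4⟩) (.one ⟨5165, 4, 6⟩)) (.node 1 (.one ⟨5091, 3, 5⟩) (.one ⟨5147, 1, 5⟩)))) (.node 4 (.node 2 (.node 1 (.one ⟨13951, 1, 6⟩) (.one ⟨1465, 3, 4⟩)) (.node 1 (.one ⟨8372, 5, 6⟩) (.one ⟨5541, 1, 5⟩))) (.node 2 (.node 1 (.one ⟨8373, 5, 6⟩) (.one ⟨16676, 3, 2⟩)) (.node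 1 (.one ⟨8371, 5, 6⟩) (.one ⟨82, 5, 5⟩))))) (.node 8 (.node 4 (.node 2 (.node 1 (.one ⟨9469, 5, 6⟩) (.one ⟨5119, 4, 6⟩)) (.node 1 (.one ⟨5433, 1, 4⟩) (.one ⟨14709, 2, 5⟩))) (.node 2 (.node 1 (.one ⟨6909, 1, 5⟩) (.one ⟨16426, 5, 6⟩)) (.node 1 (.one ⟨12021, 2, 6⟩) (.one ⟨10433, 0, 2⟩)))) (.node 4 (.node 2 (.node 1 (.one ⟨15427, 3, 5⟩) (.one ⟨5771, 5, 6⟩)) (.node 1 (.one ⟨2743, 4, 6⟩) (.one ⟨7084, 4, 6⟩))) (.node 2 (.node 1 (.one ⟨8341, 5, 5⟩) (.one ⟨3302, 5, 6⟩)) (.node 1 (.one ⟨4407, 5, 5⟩) (.one ⟨9760, 5, 6⟩)))))))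
def par2_14_12 : Arr Par :=
  (.node 32 (.node 16 (.node 8 (.node 4 (.node 2 (.node 1 (.one ⟨6794, 5, 4⟩) (.one ⟨12325, 4, 5⟩)) (.node 1 (.one ⟨10206, 0, 6⟩) (.one ⟨7455, 5, 6⟩))) (.node 2 (.node 1 (.one ⟨15331, 3, 5⟩) (.one ⟨10718, 5, 4⟩)) (.node 1 (.one ⟨5652, 3, 5⟩) (.one ⟨5438, 1, 5⟩)))) (.node 4 (.node 2 (.node 1 (.one ⟨8430, 2, 5⟩) (.one ⟨9442, 4, 4⟩)) (.node 1 (.one ⟨1182, 5, 6⟩) (.one ⟨2147, 0, 6⟩))) (.node 2 (.node 1 (.one ⟨14349, 1, 6⟩) (.one ⟨12462, 4, 2⟩)) (.node 1 (.one ⟨17093, 1, 5⟩) (.one ⟨1474, 4, 4⟩))))) (.node 8 (.node 4 (.node 2 (.node 1 (.one ⟨1137, 2, 6⟩) (.one ⟨7288, 0, 5⟩)) (.node 1 (.one ⟨17188, 2, 6⟩) (.one ⟨15307, 2, 4⟩))) (.node 2 (.node 1 (.one ⟨8097, 2, 6⟩) (.one ⟨1179, 5, 6⟩)) (.node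 1 (.one ⟨11334, 2, 5⟩) (.one ⟨13195, 0, 6⟩)))) (.node 4 (.node 2 (.node 1 (.one ⟨15342, 5, 5⟩) (.one ⟨13215, 5, 5⟩)) (.node 1 (.one ⟨15618, 3, 2⟩) (.one ⟨10000, 5, 4⟩))) (.node 2 (.node 1 (.one ⟨5497, 4, 5⟩) (.one ⟨16135, 5, 4⟩)) (.node 1 (.one ⟨12988, 0, 4⟩) (.one ⟨14648, 0, 4⟩)))))) (.node 16 (.node 8 (.node 4 (.node 2 (.node 1 (.one ⟨7196, 5, 3⟩) (.one ⟨11842, 1, 4⟩)) (.node 1 (.one ⟨5874, 0, 6⟩) (.one ⟨6418, 4, 5⟩))) (.node 2 (.node 1 (.one ⟨13760, 5, 5⟩) (.one ⟨10476, 2, 6⟩)) (.node 1 (.one ⟨10133, 0, 6⟩) (.one ⟨13047, 5, 6⟩)))) (.node 4 (.node 2 (.node 1 (.one ⟨9524, 5, 5⟩) (.one ⟨16403, 4, 5⟩)) (.node 1 (.one ⟨1114, 5, 4⟩) (.one ⟨4906, 1, 6⟩))) (.node 2 (.node 1 (.one ⟨11434, 0, 6⟩) (.one ⟨11366, 4, 6⟩))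 (.node 1 (.one ⟨9172, 2, 4⟩) (.one ⟨15965, 4, 4⟩))))) (.node 8 (.node 4 (.node 2 (.node 1 (.one ⟨3586, 1, 6⟩) (.one ⟨6890, 2, 6⟩)) (.node 1 (.one ⟨3259, 5, 5⟩) (.one ⟨16575, 0, 5⟩))) (.node 2 (.node 1 (.one ⟨2921, 2, 6⟩) (.one ⟨2999, 3, 5⟩)) (.node 1 (.one ⟨2799, 5, 4⟩) (.one ⟨12784, 3, 4⟩)))) (.node 4 (.node 2 (.node 1 (.one ⟨5457, 0, 6⟩) (.one ⟨10516, 4, 5⟩)) (.node 1 (.one ⟨14562, 1, 6⟩) (.one ⟨2405, 0, 3⟩))) (.node 2 (.node 1 (.one ⟨4246, 4, 6⟩) (.one ⟨14935, 3, 4⟩)) (.node 1 (.one ⟨7437, 2, 5⟩) (.one ⟨6765, 2, 5⟩)))))))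
def par2_14_13 : Arr Par :=
  (.node 32 (.node 16 (.node 8 (.node 4 (.node 2 (.node 1 (.one ⟨11335, 3, 6⟩) (.one ⟨2301, 5, 5⟩)) (.node 1 (.one ⟨7382, 4, 6⟩) (.one ⟨14370, 4, 5⟩))) (.node 2 (.node 1 (.one ⟨4182, 2, 5⟩) (.one ⟨15895, 5, 5⟩)) (.node 1 (.one ⟨14273, 0, 5⟩) (.one ⟨2868, 5, 5⟩)))) (.node 4 (.node 2 (.node 1 (.one ⟨2415, 4, 5⟩) (.one ⟨13942, 0, 6⟩)) (.node 1 (.one ⟨11736, 5, 4⟩) (.one ⟨16273, 0, 6⟩))) (.node 2 (.node 1 (.one ⟨11785, 5, 6⟩) (.one ⟨16575, 2, 5⟩)) (.node 1 (.one ⟨1325, 1, 5⟩) (.one ⟨12763, 0, 6⟩))))) (.node 8 (.node 4 (.node 2 (.node 1 (.one ⟨15953, 0, 4⟩) (.one ⟨271, 2, 5⟩)) (.node 1 (.one ⟨8253, 5, 6⟩) (.one ⟨15600, 5, 4⟩))) (.node 2 (.node 1 (.one ⟨9989, 0, 5⟩) (.one ⟨2325, 5, 5⟩))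 (.node 1 (.one ⟨8230, 2, 3⟩) (.one ⟨14689, 2, 4⟩)))) (.node 4 (.node 2 (.node 1 (.one ⟨16373, 0, 6⟩) (.one ⟨10399, 5, 5⟩)) (.node 1 (.one ⟨12860, 4, 5⟩) (.one ⟨202, 5, 6⟩))) (.node 2 (.node 1 (.one ⟨4292, 1, 4⟩) (.one ⟨15837, 5, 6⟩)) (.node 1 (.one ⟨3105, 5, 5⟩) (.one ⟨11412, 5, 5⟩)))))) (.node 16 (.node 8 (.node 4 (.node 2 (.node 1 (.one ⟨17125, 4, 5⟩) (.one ⟨9353, 4, 4⟩)) (.node 1 (.one ⟨87, 4, 5⟩) (.one ⟨9017, 4, 5⟩))) (.node 2 (.node 1 (.one ⟨17088, 4, 6⟩) (.one ⟨13337, 2, 6⟩)) (.node 1 (.one ⟨1325, 4, 5⟩) (.one ⟨11751, 4, 5⟩)))) (.node 4 (.node 2 (.node 1 (.one ⟨9446, 5, 4⟩) (.one ⟨3097, 2, 5⟩)) (.node 1 (.one ⟨11644, 5, 5⟩) (.one ⟨11941, 1, 6⟩))) (.node 2 (.node 1 (.one ⟨11676, 5, 5⟩) (.one ⟨3622, 5, 4⟩))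 (.node 1 (.one ⟨9181, 5, 5⟩) (.one ⟨16454, 3, 4⟩))))) (.node 8 (.node 4 (.node 2 (.node 1 (.one ⟨4029, 5, 6⟩) (.one ⟨8731, 1, 6⟩)) (.node 1 (.one ⟨13374, 5, 6⟩) (.one ⟨15775, 5, 6⟩))) (.node 2 (.node 1 (.one ⟨11859, 0, 4⟩) (.one ⟨12863, 4, 5⟩)) (.node 1 (.one ⟨7522, 5, 4⟩) (.one ⟨13273, 2, 5⟩)))) (.node 4 (.node 2 (.node 1 (.one ⟨11937, 5, 5⟩) (.one ⟨10466, 5, 5⟩)) (.node 1 (.one ⟨7541, 4, 5⟩) (.one ⟨16465, 4, 5⟩))) (.node 2 (.node 1 (.one ⟨2757, 5, 6⟩) (.one ⟨4055, 4, 4⟩)) (.node 1 (.one ⟨11636, 3, 5⟩) (.one ⟨6632, 3, 6⟩)))))))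
def par2_14_14 : Arr Par :=
  (.node 32 (.node 16 (.node 8 (.node 4 (.node 2 (.node 1 (.one ⟨2462, 5, 3⟩) (.one ⟨3790, 2, 5⟩)) (.node 1 (.one ⟨15841, 4, 6⟩) (.one ⟨10326, 1, 6⟩))) (.node 2 (.node 1 (.one ⟨2226, 1, 7⟩) (.one ⟨14486, 3, 5⟩)) (.node 1 (.one ⟨7811, 0, 5⟩) (.one ⟨902, 5, 5⟩)))) (.node 4 (.node 2 (.node 1 (.one ⟨14545, 5, 5⟩) (.one ⟨13490, 0, 6⟩)) (.node 1 (.one ⟨6688, 1, 4⟩) (.one ⟨1626, 0, 6⟩))) (.node 2 (.node 1 (.one ⟨16107, 0, 5⟩) (.one ⟨13461, 0, 5⟩)) (.node 1 (.one ⟨16268, 4, 5⟩) (.one ⟨10089, 5, 5⟩))))) (.node 8 (.node 4 (.node 2 (.node 1 (.one ⟨8563, 0, 5⟩) (.one ⟨14326, 1, 4⟩)) (.node 1 (.one ⟨10725, 0, 5⟩) (.one ⟨1966, 3, 6⟩))) (.node 2 (.node 1 (.one ⟨12550, 5, 5⟩) (.one ⟨6109, 2, 6⟩))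 (.node 1 (.one ⟨7581, 2, 5⟩) (.one ⟨3845, 5, 4⟩)))) (.node 4 (.node 2 (.node 1 (.one ⟨793, 0, 5⟩) (.one ⟨1348, 0, 5⟩)) (.node 1 (.one ⟨8463, 3, 4⟩) (.one ⟨11142, 5, 5⟩))) (.node 2 (.node 1 (.one ⟨7795, 4, 5⟩) (.one ⟨15961, 2, 6⟩)) (.node 1 (.one ⟨15112, 1, 6⟩) (.one ⟨16475, 1, 6⟩)))))) (.node 16 (.node 8 (.node 4 (.node 2 (.node 1 (.one ⟨12488, 4, 6⟩) (.one ⟨14331, 2, 5⟩)) (.node 1 (.one ⟨14634, 1, 3⟩) (.one ⟨2993, 4, 5⟩))) (.node 2 (.node 1 (.one ⟨4747, 2, 4⟩) (.one ⟨11611, 5, 6⟩)) (.node 1 (.one ⟨10642, 1, 5⟩) (.one ⟨11846, 5, 4⟩)))) (.node 4 (.node 2 (.node 1 (.one ⟨4591, 2, 4⟩) (.one ⟨1492, 0, 5⟩)) (.node 1 (.one ⟨3062, 5, 6⟩) (.one ⟨11755, 5, 5⟩))) (.node 2 (.node 1 (.one ⟨16950, 5, 6⟩) (.one ⟨11053, 1,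 4⟩)) (.node 1 (.one ⟨9661, 4, 5⟩) (.one ⟨708, 1, 4⟩))))) (.node 8 (.node 4 (.node 2 (.node 1 (.one ⟨1389, 1, 6⟩) (.one ⟨5568, 4, 5⟩)) (.node 1 (.one ⟨3891, 0, 4⟩) (.one ⟨5569, 4, 5⟩))) (.node 2 (.node 1 (.one ⟨7419, 4, 6⟩) (.one ⟨12628, 0, 4⟩)) (.node 1 (.one ⟨17113, 5, 5⟩) (.one ⟨8418, 5, 6⟩)))) (.node 4 (.node 2 (.node 1 (.one ⟨12607, 5, 5⟩) (.one ⟨15756, 2, 4⟩)) (.node 1 (.one ⟨14156, 1, 7⟩) (.one ⟨3800, 5, 3⟩))) (.node 2 (.node 1 (.one ⟨7934, 0, 5⟩) (.one ⟨17021, 1, 5⟩)) (.node 1 (.one ⟨12158, 2, 5⟩) (.one ⟨16214, 4, 6⟩)))))))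
def par2_14_15 : Arr Par :=
  (.node 32 (.node 16 (.node 8 (.node 4 (.node 2 (.node 1 (.one ⟨5321, 2, 6⟩) (.one ⟨9246, 4, 4⟩)) (.node 1 (.one ⟨13273, 5, 5⟩) (.one ⟨11166, 3, 5⟩))) (.node 2 (.node 1 (.one ⟨7228, 1, 4⟩) (.one ⟨15255, 5, 5⟩)) (.node 1 (.one ⟨15662, 2, 4⟩) (.one ⟨8915, 4, 4⟩)))) (.node 4 (.node 2 (.node 1 (.one ⟨5393, 2, 6⟩) (.one ⟨17174, 0, 5⟩)) (.node 1 (.one ⟨3728, 3, 4⟩) (.one ⟨9475, 5, 3⟩))) (.node 2 (.node 1 (.one ⟨3747, 3, 6⟩) (.one ⟨3563, 5, 5⟩)) (.node 1 (.one ⟨1873, 5, 6⟩) (.one ⟨12628, 3, 4⟩))))) (.node 8 (.node 4 (.node 2 (.node 1 (.one ⟨1946, 2, 5⟩) (.one ⟨5161, 1, 5⟩)) (.node 1 (.one ⟨15801, 4, 5⟩) (.one ⟨15371, 2, 6⟩))) (.node 2 (.node 1 (.one ⟨9173, 5, 5⟩) (.one ⟨8434, 2, 5⟩)) (.node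 1 (.one ⟨5887, 4, 5⟩) (.one ⟨1834, 5, 6⟩)))) (.node 4 (.node 2 (.node 1 (.one ⟨3818, 1, 4⟩) (.one ⟨17148, 0, 5⟩)) (.node 1 (.one ⟨3426, 2, 5⟩) (.one ⟨17078, 2, 5⟩))) (.node 2 (.node 1 (.one ⟨11563, 4, 4⟩) (.one ⟨7807, 1, 5⟩)) (.node 1 (.one ⟨3423, 1, 4⟩) (.one ⟨6428, 2, 5⟩)))))) (.node 16 (.node 8 (.node 4 (.node 2 (.node 1 (.one ⟨7749, 1, 5⟩) (.one ⟨3656, 4, 6⟩)) (.node 1 (.one ⟨4555, 3, 4⟩) (.one ⟨11133, 5, 4⟩))) (.node 2 (.node 1 (.one ⟨6788, 3, 5⟩) (.one ⟨15749, 5, 5⟩)) (.node 1 (.one ⟨11009, 5, 6⟩) (.one ⟨6527, 4, 4⟩)))) (.node 4 (.node 2 (.node 1 (.one ⟨13078, 2, 5⟩) (.one ⟨6534, 4, 5⟩)) (.node 1 (.one ⟨1746, 1, 5⟩) (.one ⟨6529, 4, 5⟩))) (.node 2 (.node 1 (.one ⟨6531, 4, 4⟩) (.one ⟨15145, 3, 6⟩)) (.node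 1 (.one ⟨11122, 2, 4⟩) (.one ⟨8286, 1, 4⟩))))) (.node 8 (.node 4 (.node 2 (.node 1 (.one ⟨3451, 4, 5⟩) (.one ⟨3034, 5, 6⟩)) (.node 1 (.one ⟨6464, 5, 4⟩) (.one ⟨13737, 2, 5⟩))) (.node 2 (.node 1 (.one ⟨14398, 0, 5⟩) (.one ⟨13742, 2, 4⟩)) (.node 1 (.one ⟨13607, 2, 4⟩) (.one ⟨15266, 0, 4⟩)))) (.node 4 (.node 2 (.node 1 (.one ⟨10172, 4, 5⟩) (.one ⟨4642, 1, 6⟩)) (.node 1 (.one ⟨2921, 1, 6⟩) (.one ⟨4551, 2, 6⟩))) (.node 2 (.node 1 (.one ⟨11340, 5, 4⟩) (.one ⟨8272, 1, 5⟩)) (.node 1 (.one ⟨7854, 4, 3⟩) (.one ⟨9292, 5, 4⟩)))))))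
def par2_14 : Arr Par :=
  (.node 512 (.node 256 (.node 128 (.node 64 par2_14_0 par2_14_1) (.node 64 par2_14_2 par2_14_3)) (.node 128 (.node 64 par2_14_4 par2_14_5) (.node 64 par2_14_6 par2_14_7))) (.node 256 (.node 128 (.node 64 par2_14_8 par2_14_9) (.node 64 par2_14_10 par2_14_11)) (.node 128 (.node 64 par2_14_12 par2_14_13) (.node 64 par2_14_14 par2_14_15))))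
def par2_15_0 : Arr Par :=
  (.node 32 (.node 16 (.node 8 (.node 4 (.node 2 (.node 1 (.one ⟨5279, 5, 5⟩) (.one ⟨13295, 5, 6⟩)) (.node 1 (.one ⟨86, 5, 3⟩) (.one ⟨1777, 4, 4⟩))) (.node 2 (.node 1 (.one ⟨5205, 5, 3⟩) (.one ⟨13252, 5, 6⟩)) (.node 1 (.one ⟨1381, 5, 5⟩) (.one ⟨5289, 2, 6⟩)))) (.node 4 (.node 2 (.node 1 (.one ⟨7073, 4, 5⟩) (.one ⟨2573, 0, 4⟩)) (.node 1 (.one ⟨10256, 2, 5⟩) (.one ⟨5118, 5, 5⟩))) (.node 2 (.node 1 (.one ⟨13438, 5, 5⟩) (.one ⟨1657, 1, 5⟩)) (.node 1 (.one ⟨4555, 1, 4⟩) (.one ⟨6567, 0, 5⟩))))) (.node 8 (.node 4 (.node 2 (.node 1 (.one ⟨14947, 5, 4⟩) (.one ⟨10632, 3, 6⟩)) (.node 1 (.one ⟨11831, 3, 5⟩) (.one ⟨1692, 2, 4⟩))) (.node 2 (.node 1 (.one ⟨5862, 2, 5⟩) (.one ⟨9681, 5, 6⟩)) (.node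 1 (.one ⟨8901, 4, 6⟩) (.one ⟨12988, 5, 4⟩)))) (.node 4 (.node 2 (.node 1 (.one ⟨8831, 1, 5⟩) (.one ⟨14761, 0, 3⟩)) (.node 1 (.one ⟨3431, 3, 5⟩) (.one ⟨14765, 0, 6⟩))) (.node 2 (.node 1 (.one ⟨11528, 5, 5⟩) (.one ⟨15963, 4, 7⟩)) (.node 1 (.one ⟨2817, 4, 3⟩) (.one ⟨3686, 2, 5⟩)))))) (.node 16 (.node 8 (.node 4 (.node 2 (.node 1 (.one ⟨10207, 5, 3⟩) (.one ⟨11259, 3, 6⟩)) (.node 1 (.one ⟨5209, 0, 5⟩) (.one ⟨5837, 2, 6⟩))) (.node 2 (.node 1 (.one ⟨1086, 4, 4⟩) (.one ⟨9426, 3, 5⟩)) (.node 1 (.one ⟨11495, 5, 5⟩) (.one ⟨12642, 5, 4⟩)))) (.node 4 (.node 2 (.node 1 (.one ⟨8614, 4, 6⟩) (.one ⟨11417, 1, 5⟩)) (.node 1 (.one ⟨12465, 3, 6⟩) (.one ⟨15923, 4, 5⟩))) (.node 2 (.node 1 (.one ⟨8954, 5, 5⟩) (.one ⟨8835, 1, 4⟩)) (.node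 1 (.one ⟨13017, 0, 6⟩) (.one ⟨10741, 5, 6⟩))))) (.node 8 (.node 4 (.node 2 (.node 1 (.one ⟨12218, 4, 6⟩) (.one ⟨13818, 5, 4⟩)) (.node 1 (.one ⟨13890, 5, 6⟩) (.one ⟨11577, 4, 4⟩))) (.node 2 (.node 1 (.one ⟨5366, 2, 6⟩) (.one ⟨10366, 1, 5⟩)) (.node 1 (.one ⟨1651, 5, 5⟩) (.one ⟨7591, 3, 5⟩)))) (.node 4 (.node 2 (.node 1 (.one ⟨12709, 5, 4⟩) (.one ⟨8954, 3, 5⟩)) (.node 1 (.one ⟨2425, 5, 5⟩) (.one ⟨3971, 4, 6⟩))) (.node 2 (.node 1 (.one ⟨12286, 3, 5⟩) (.one ⟨10464, 5, 6⟩)) (.node 1 (.one ⟨7781, 4, 6⟩) (.one ⟨10669, 5, 5⟩)))))))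
def par2_15_1 : Arr Par :=
  (.node 32 (.node 16 (.node 8 (.node 4 (.node 2 (.node 1 (.one ⟨7035, 1, 3⟩) (.one ⟨11979, 2, 4⟩)) (.node 1 (.one ⟨2384, 4, 1⟩) (.one ⟨123, 5, 4⟩))) (.node 2 (.node 1 (.one ⟨10670, 5, 4⟩) (.one ⟨14295, 4, 4⟩)) (.node 1 (.one ⟨10666, 5, 5⟩) (.one ⟨15426, 2, 2⟩)))) (.node 4 (.node 2 (.node 1 (.one ⟨462, 2, 4⟩) (.one ⟨8142, 2, 5⟩)) (.node 1 (.one ⟨7597, 3, 4⟩) (.one ⟨10204, 1, 5⟩))) (.node 2 (.node 1 (.one ⟨6191, 5, 2⟩) (.one ⟨13646, 1, 6⟩)) (.node 1 (.one ⟨7384, 4, 5⟩) (.one ⟨2281, 1, 5⟩))))) (.node 8 (.node 4 (.node 2 (.node 1 (.one ⟨13114, 5, 5⟩) (.one ⟨13838, 4, 4⟩)) (.node 1 (.one ⟨514, 4, 6⟩) (.one ⟨8076, 4, 5⟩))) (.node 2 (.node 1 (.one ⟨3525, 2, 5⟩) (.one ⟨1033, 5, 4⟩)) (.node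 1 (.one ⟨2507, 5, 6⟩) (.one ⟨294, 4, 5⟩)))) (.node 4 (.node 2 (.node 1 (.one ⟨1435, 1, 6⟩) (.one ⟨1102, 0, 4⟩)) (.node 1 (.one ⟨9281, 5, 5⟩) (.one ⟨16268, 0, 5⟩))) (.node 2 (.node 1 (.one ⟨16895, 3, 4⟩) (.one ⟨7530, 5, 6⟩)) (.node 1 (.one ⟨11215, 3, 4⟩) (.one ⟨15547, 1, 4⟩)))))) (.node 16 (.node 8 (.node 4 (.node 2 (.node 1 (.one ⟨3848, 3, 4⟩) (.one ⟨5593, 5, 5⟩)) (.node 1 (.one ⟨3832, 0, 4⟩) (.one ⟨11615, 5, 5⟩))) (.node 2 (.node 1 (.one ⟨15336, 2, 6⟩) (.one ⟨8815, 4, 5⟩)) (.node 1 (.one ⟨13404, 4, 4⟩) (.one ⟨10103, 5, 5⟩)))) (.node 4 (.node 2 (.node 1 (.one ⟨17139, 4, 6⟩) (.one ⟨9656, 2, 4⟩)) (.node 1 (.one ⟨7595, 3, 6⟩) (.one ⟨11212, 0, 6⟩))) (.node 2 (.node 1 (.one ⟨8015, 1, 6⟩) (.one ⟨5491, 3, 6⟩)) (.node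 1 (.one ⟨978, 4, 6⟩) (.one ⟨10042, 3, 5⟩))))) (.node 8 (.node 4 (.node 2 (.node 1 (.one ⟨5776, 0, 6⟩) (.one ⟨7240, 5, 6⟩)) (.node 1 (.one ⟨136, 5, 6⟩) (.one ⟨15886, 5, 4⟩))) (.node 2 (.node 1 (.one ⟨10157, 3, 6⟩) (.one ⟨3920, 5, 4⟩)) (.node 1 (.one ⟨14656, 0, 6⟩) (.one ⟨2814, 1, 6⟩)))) (.node 4 (.node 2 (.node 1 (.one ⟨14446, 0, 6⟩) (.one ⟨2096, 4, 5⟩)) (.node 1 (.one ⟨4123, 5, 5⟩) (.one ⟨9225, 5, 6⟩))) (.node 2 (.node 1 (.one ⟨5746, 1, 4⟩) (.one ⟨14247, 1, 6⟩)) (.node 1 (.one ⟨14186, 3, 5⟩) (.one ⟨14253, 1, 4⟩)))))))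
def par2_15_2 : Arr Par :=
  (.node 32 (.node 16 (.node 8 (.node 4 (.node 2 (.node 1 (.one ⟨3039, 4, 5⟩) (.one ⟨4359, 3, 4⟩)) (.node 1 (.one ⟨14650, 2, 6⟩) (.one ⟨16455, 5, 4⟩))) (.node 2 (.node 1 (.one ⟨16006, 5, 5⟩) (.one ⟨2254, 0, 6⟩)) (.node 1 (.one ⟨2400, 2, 5⟩) (.one ⟨770, 5, 4⟩)))) (.node 4 (.node 2 (.node 1 (.one ⟨8152, 4, 5⟩) (.one ⟨12290, 5, 5⟩)) (.node 1 (.one ⟨15279, 1, 5⟩) (.one ⟨12451, 5, 5⟩))) (.node 2 (.node 1 (.one ⟨16205, 3, 5⟩) (.one ⟨765, 0, 4⟩)) (.node 1 (.one ⟨4951, 3, 5⟩) (.one ⟨17163, 4, 6⟩))))) (.node 8 (.node 4 (.node 2 (.node 1 (.one ⟨8529, 5, 6⟩) (.one ⟨15109, 3, 5⟩)) (.node 1 (.one ⟨15921, 5, 5⟩) (.one ⟨9354, 1, 5⟩))) (.node 2 (.node 1 (.one ⟨12395, 4, 6⟩) (.one ⟨12327, 2, 5⟩)) (.node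 1 (.one ⟨8175, 4, 6⟩) (.one ⟨9536, 5, 5⟩)))) (.node 4 (.node 2 (.node 1 (.one ⟨13921, 5, 5⟩) (.one ⟨1235, 3, 6⟩)) (.node 1 (.one ⟨13838, 5, 4⟩) (.one ⟨5205, 4, 3⟩))) (.node 2 (.node 1 (.one ⟨3453, 1, 6⟩) (.one ⟨13618, 4, 3⟩)) (.node 1 (.one ⟨15376, 4, 5⟩) (.one ⟨2166, 1, 4⟩)))))) (.node 16 (.node 8 (.node 4 (.node 2 (.node 1 (.one ⟨7796, 1, 4⟩) (.one ⟨17134, 5, 5⟩)) (.node 1 (.one ⟨15246, 1, 6⟩) (.one ⟨12470, 4, 4⟩))) (.node 2 (.node 1 (.one ⟨2158, 1, 4⟩) (.one ⟨15184, 1, 5⟩)) (.node 1 (.one ⟨7251, 2, 6⟩) (.one ⟨14138, 3, 4⟩)))) (.node 4 (.node 2 (.node 1 (.one ⟨13307, 5, 6⟩) (.one ⟨16184, 5, 5⟩)) (.node 1 (.one ⟨4059, 4, 5⟩) (.one ⟨7520, 4, 6⟩))) (.node 2 (.node 1 (.one ⟨10150, 2, 6⟩) (.one ⟨14524, 4, 6⟩))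 (.node 1 (.one ⟨6197, 2, 5⟩) (.one ⟨1308, 5, 5⟩))))) (.node 8 (.node 4 (.node 2 (.node 1 (.one ⟨8940, 0, 3⟩) (.one ⟨10581, 5, 5⟩)) (.node 1 (.one ⟨10218, 5, 4⟩) (.one ⟨8036, 3, 5⟩))) (.node 2 (.node 1 (.one ⟨678, 5, 4⟩) (.one ⟨2258, 2, 6⟩)) (.node 1 (.one ⟨10645, 5, 6⟩) (.one ⟨6685, 1, 5⟩)))) (.node 4 (.node 2 (.node 1 (.one ⟨11467, 0, 5⟩) (.one ⟨7728, 0, 5⟩)) (.node 1 (.one ⟨2020, 4, 3⟩) (.one ⟨6660, 5, 3⟩))) (.node 2 (.node 1 (.one ⟨16722, 3, 5⟩) (.one ⟨14888, 4, 5⟩)) (.node 1 (.one ⟨3737, 1, 6⟩) (.one ⟨3500, 0, 4⟩)))))))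
def par2_15_3 : Arr Par :=
  (.node 32 (.node 16 (.node 8 (.node 4 (.node 2 (.node 1 (.one ⟨10048, 1, 4⟩) (.one ⟨1578, 1, 6⟩)) (.node 1 (.one ⟨9030, 1, 5⟩) (.one ⟨13412, 1, 5⟩))) (.node 2 (.node 1 (.one ⟨11583, 5, 5⟩) (.one ⟨11659, 5, 5⟩)) (.node 1 (.one ⟨5252, 1, 5⟩) (.one ⟨7389, 2, 6⟩)))) (.node 4 (.node 2 (.node 1 (.one ⟨6234, 4, 5⟩) (.one ⟨14783, 5, 5⟩)) (.node 1 (.one ⟨10077, 5, 5⟩) (.one ⟨16523, 3, 6⟩))) (.node 2 (.node 1 (.one ⟨15129, 2, 6⟩) (.one ⟨15652, 1, 6⟩)) (.node 1 (.one ⟨5230, 1, 5⟩) (.one ⟨9862, 1, 6⟩))))) (.node 8 (.node 4 (.node 2 (.node 1 (.one ⟨9850, 3, 6⟩) (.one ⟨10451, 5, 5⟩)) (.node 1 (.one ⟨1958, 3, 5⟩) (.one ⟨15655, 5, 6⟩))) (.node 2 (.node 1 (.one ⟨7063, 5, 4⟩) (.one ⟨11016, 3, 5⟩))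 (.node 1 (.one ⟨14959, 2, 4⟩) (.one ⟨8416, 4, 5⟩)))) (.node 4 (.node 2 (.node 1 (.one ⟨3040, 0, 6⟩) (.one ⟨6833, 4, 5⟩)) (.node 1 (.one ⟨3044, 0, 4⟩) (.one ⟨770, 0, 4⟩))) (.node 2 (.node 1 (.one ⟨12217, 3, 5⟩) (.one ⟨12893, 4, 5⟩)) (.node 1 (.one ⟨13796, 4, 5⟩) (.one ⟨8216, 4, 4⟩)))))) (.node 16 (.node 8 (.node 4 (.node 2 (.node 1 (.one ⟨9403, 3, 5⟩) (.one ⟨3961, 5, 5⟩)) (.node 1 (.one ⟨13309, 3, 6⟩) (.one ⟨3741, 1, 6⟩))) (.node 2 (.node 1 (.one ⟨12395, 3, 6⟩) (.one ⟨7245, 5, 5⟩)) (.node 1 (.one ⟨15372, 0, 6⟩) (.one ⟨1484, 4, 6⟩)))) (.node 4 (.node 2 (.node 1 (.one ⟨3810, 5, 5⟩) (.one ⟨3808, 5, 5⟩)) (.node 1 (.one ⟨17093, 2, 5⟩) (.one ⟨3634, 1, 5⟩))) (.node 2 (.node 1 (.one ⟨3654, 1, 5⟩) (.one ⟨492, 5, 5⟩))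 (.node 1 (.one ⟨4059, 3, 5⟩) (.one ⟨13040, 5, 5⟩))))) (.node 8 (.node 4 (.node 2 (.node 1 (.one ⟨14761, 1, 3⟩) (.one ⟨9617, 4, 5⟩)) (.node 1 (.one ⟨6619, 5, 4⟩) (.one ⟨152, 0, 5⟩))) (.node 2 (.node 1 (.one ⟨11215, 5, 4⟩) (.one ⟨9084, 5, 5⟩)) (.node 1 (.one ⟨14255, 5, 5⟩) (.one ⟨6287, 5, 4⟩)))) (.node 4 (.node 2 (.node 1 (.one ⟨9675, 1, 4⟩) (.one ⟨9813, 2, 4⟩)) (.node 1 (.one ⟨12709, 4, 4⟩) (.one ⟨11593, 5, 5⟩))) (.node 2 (.node 1 (.one ⟨6386, 4, 5⟩) (.one ⟨3774, 2, 6⟩)) (.node 1 (.one ⟨4533, 4, 5⟩) (.one ⟨216, 3, 5⟩)))))))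
def par2_15_4 : Arr Par :=
  (.node 32 (.node 16 (.node 8 (.node 4 (.node 2 (.node 1 (.one ⟨1935, 4, 3⟩) (.one ⟨10867, 1, 5⟩)) (.node 1 (.one ⟨10759, 0, 1⟩) (.one ⟨7617, 4, 4⟩))) (.node 2 (.node 1 (.one ⟨3819, 2, 5⟩) (.one ⟨8075, 2, 5⟩)) (.node 1 (.one ⟨8953, 3, 6⟩) (.one ⟨3990, 4, 5⟩)))) (.node 4 (.node 2 (.node 1 (.one ⟨9483, 2, 5⟩) (.one ⟨9256, 2, 6⟩)) (.node 1 (.one ⟨16689, 0, 4⟩) (.one ⟨2473, 4, 6⟩))) (.node 2 (.node 1 (.one ⟨5578, 3, 5⟩) (.one ⟨12995, 1, 5⟩)) (.node 1 (.one ⟨8443, 5, 5⟩) (.one ⟨15707, 2, 5⟩))))) (.node 8 (.node 4 (.node 2 (.node 1 (.one ⟨15431, 0, 3⟩) (.one ⟨6769, 3, 5⟩)) (.node 1 (.one ⟨16225, 3, 6⟩) (.one ⟨2825, 5, 5⟩))) (.node 2 (.node 1 (.one ⟨201, 2, 4⟩) (.one ⟨9343, 2, 5⟩)) (.node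 1 (.one ⟨6473, 0, 3⟩) (.one ⟨7826, 4, 4⟩)))) (.node 4 (.node 2 (.node 1 (.one ⟨4426, 3, 4⟩) (.one ⟨15279, 3, 5⟩)) (.node 1 (.one ⟨9018, 1, 4⟩) (.one ⟨15191, 2, 5⟩))) (.node 2 (.node 1 (.one ⟨8971, 0, 6⟩) (.one ⟨1664, 1, 4⟩)) (.node 1 (.one ⟨7201, 0, 5⟩) (.one ⟨11826, 0, 4⟩)))))) (.node 16 (.node 8 (.node 4 (.node 2 (.node 1 (.one ⟨2870, 2, 5⟩) (.one ⟨470, 2, 4⟩)) (.node 1 (.one ⟨2457, 1, 5⟩) (.one ⟨8329, 5, 3⟩))) (.node 2 (.node 1 (.one ⟨14867, 0, 5⟩) (.one ⟨1012, 3, 6⟩)) (.node 1 (.one ⟨3976, 2, 5⟩) (.one ⟨6708, 3, 5⟩)))) (.node 4 (.node 2 (.node 1 (.one ⟨11933, 2, 5⟩) (.one ⟨14824, 3, 5⟩)) (.node 1 (.one ⟨12573, 4, 5⟩) (.one ⟨13403, 4, 4⟩))) (.node 2 (.node 1 (.one ⟨3477, 5, 5⟩) (.one ⟨417, 4, 5⟩)) (.node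 1 (.one ⟨5737, 3, 3⟩) (.one ⟨15429, 0, 5⟩))))) (.node 8 (.node 4 (.node 2 (.node 1 (.one ⟨15810, 2, 6⟩) (.one ⟨5230, 5, 5⟩)) (.node 1 (.one ⟨5323, 2, 6⟩) (.one ⟨6025, 4, 5⟩))) (.node 2 (.node 1 (.one ⟨15376, 5, 5⟩) (.one ⟨6707, 2, 6⟩)) (.node 1 (.one ⟨9832, 5, 4⟩) (.one ⟨8637, 1, 5⟩)))) (.node 4 (.node 2 (.node 1 (.one ⟨15980, 3, 6⟩) (.one ⟨14705, 4, 4⟩)) (.node 1 (.one ⟨16073, 0, 5⟩) (.one ⟨5332, 0, 5⟩))) (.node 2 (.node 1 (.one ⟨11325, 2, 6⟩) (.one ⟨6442, 5, 5⟩)) (.node 1 (.one ⟨13337, 0, 6⟩) (.one ⟨5118, 2, 5⟩)))))))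
def par2_15_5 : Arr Par :=
  (.node 32 (.node 16 (.node 8 (.node 4 (.node 2 (.node 1 (.one ⟨14783, 3, 5⟩) (.one ⟨4271, 0, 5⟩)) (.node 1 (.one ⟨10836, 0, 5⟩) (.one ⟨15578, 1, 5⟩))) (.node 2 (.node 1 (.one ⟨6137, 2, 5⟩) (.one ⟨2951, 4, 5⟩)) (.node 1 (.one ⟨15249, 1, 5⟩) (.one ⟨5966, 2, 5⟩)))) (.node 4 (.node 2 (.node 1 (.one ⟨1738, 4, 5⟩) (.one ⟨349, 1, 7⟩)) (.node 1 (.one ⟨8671, 1, 4⟩) (.one ⟨4242, 5, 6⟩))) (.node 2 (.node 1 (.one ⟨1063, 1, 4⟩) (.one ⟨828, 5, 6⟩)) (.node 1 (.one ⟨16486, 3, 3⟩) (.one ⟨1991, 5, 5⟩))))) (.node 8 (.node 4 (.node 2 (.node 1 (.one ⟨9746, 4, 5⟩) (.one ⟨7844, 2, 2⟩)) (.node 1 (.one ⟨6115, 1, 4⟩) (.one ⟨3361, 3, 5⟩))) (.node 2 (.node 1 (.one ⟨10056, 0, 6⟩) (.one ⟨11461, 3, 5⟩)) (.node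 1 (.one ⟨6887, 5, 5⟩) (.one ⟨4313, 5, 5⟩)))) (.node 4 (.node 2 (.node 1 (.one ⟨9446, 0, 4⟩) (.one ⟨10137, 0, 4⟩)) (.node 1 (.one ⟨14253, 2, 4⟩) (.one ⟨16284, 4, 4⟩))) (.node 2 (.node 1 (.one ⟨4275, 0, 6⟩) (.one ⟨4066, 0, 5⟩)) (.node 1 (.one ⟨4875, 2, 6⟩) (.one ⟨7854, 3, 3⟩)))))) (.node 16 (.node 8 (.node 4 (.node 2 (.node 1 (.one ⟨10782, 5, 5⟩) (.one ⟨8686, 0, 7⟩)) (.node 1 (.one ⟨2610, 4, 6⟩) (.one ⟨12595, 3, 6⟩))) (.node 2 (.node 1 (.one ⟨15362, 0, 4⟩) (.one ⟨8325, 1, 4⟩)) (.node 1 (.one ⟨16602, 5, 5⟩) (.one ⟨16702, 3, 4⟩)))) (.node 4 (.node 2 (.node 1 (.one ⟨11266, 4, 6⟩) (.one ⟨5502, 2, 4⟩)) (.node 1 (.one ⟨10480, 2, 4⟩) (.one ⟨4292, 5, 4⟩))) (.node 2 (.node 1 (.one ⟨7617, 5, 4⟩) (.one ⟨12778, 1, 3⟩)) (.node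 1 (.one ⟨6386, 3, 5⟩) (.one ⟨3053, 2, 4⟩))))) (.node 8 (.node 4 (.node 2 (.node 1 (.one ⟨11560, 3, 6⟩) (.one ⟨4079, 0, 4⟩)) (.node 1 (.one ⟨5515, 5, 5⟩) (.one ⟨44, 4, 6⟩))) (.node 2 (.node 1 (.one ⟨16286, 5, 5⟩) (.one ⟨2629, 5, 6⟩)) (.node 1 (.one ⟨10368, 4, 6⟩) (.one ⟨16350, 0, 5⟩)))) (.node 4 (.node 2 (.node 1 (.one ⟨11354, 2, 5⟩) (.one ⟨13202, 1, 6⟩)) (.node 1 (.one ⟨2266, 5, 6⟩) (.one ⟨5091, 4, 5⟩))) (.node 2 (.node 1 (.one ⟨4691, 0, 6⟩) (.one ⟨3059, 0, 5⟩)) (.node 1 (.one ⟨15178, 2, 5⟩) (.one ⟨11931, 5, 4⟩)))))))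
def par2_15_6 : Arr Par :=
  (.node 32 (.node 16 (.node 8 (.node 4 (.node 2 (.node 1 (.one ⟨15934, 1, 4⟩) (.one ⟨16113, 5, 6⟩)) (.node 1 (.one ⟨7795, 1, 5⟩) (.one ⟨900, 5, 7⟩))) (.node 2 (.node 1 (.one ⟨3029, 5, 6⟩) (.one ⟨13242, 4, 4⟩)) (.node 1 (.one ⟨7066, 5, 4⟩) (.one ⟨13618, 5, 3⟩)))) (.node 4 (.node 2 (.node 1 (.one ⟨4451, 4, 6⟩) (.one ⟨4702, 5, 6⟩)) (.node 1 (.one ⟨12886, 3, 5⟩) (.one ⟨8879, 4, 5⟩))) (.node 2 (.node 1 (.one ⟨3800, 1, 3⟩) (.one ⟨5087, 4, 6⟩)) (.node 1 (.one ⟨3319, 5, 4⟩) (.one ⟨8628, 4, 5⟩))))) (.node 8 (.node 4 (.node 2 (.node 1 (.one ⟨10481, 5, 5⟩) (.one ⟨1612, 3, 5⟩)) (.node 1 (.one ⟨1198, 5, 6⟩) (.one ⟨13835, 1, 6⟩))) (.node 2 (.node 1 (.one ⟨10891, 1, 6⟩) (.one ⟨8366, 3, 5⟩)) (.node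 1 (.one ⟨8182, 5, 6⟩) (.one ⟨12999, 4, 5⟩)))) (.node 4 (.node 2 (.node 1 (.one ⟨5381, 3, 4⟩) (.one ⟨16609, 2, 5⟩)) (.node 1 (.one ⟨9892, 1, 6⟩) (.one ⟨5494, 1, 6⟩))) (.node 2 (.node 1 (.one ⟨15444, 5, 6⟩) (.one ⟨9037, 5, 5⟩)) (.node 1 (.one ⟨16228, 5, 3⟩) (.one ⟨4066, 3, 5⟩)))))) (.node 16 (.node 8 (.node 4 (.node 2 (.node 1 (.one ⟨15203, 4, 6⟩) (.one ⟨16385, 2, 4⟩)) (.node 1 (.one ⟨14219, 0, 5⟩) (.one ⟨6817, 5, 6⟩))) (.node 2 (.node 1 (.one ⟨16244, 0, 5⟩) (.one ⟨6709, 1, 3⟩)) (.node 1 (.one ⟨8410, 5, 5⟩) (.one ⟨5453, 1, 5⟩)))) (.node 4 (.node 2 (.node 1 (.one ⟨10039, 0, 5⟩) (.one ⟨1737, 4, 6⟩)) (.node 1 (.one ⟨16295, 5, 5⟩) (.one ⟨6174, 4, 6⟩))) (.node 2 (.node 1 (.one ⟨2847, 0, 6⟩) (.one ⟨13508, 1, 5⟩)) (.node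 1 (.one ⟨10694, 4, 6⟩) (.one ⟨14121, 4, 5⟩))))) (.node 8 (.node 4 (.node 2 (.node 1 (.one ⟨9223, 4, 6⟩) (.one ⟨13120, 2, 4⟩)) (.node 1 (.one ⟨163, 2, 3⟩) (.one ⟨16614, 5, 4⟩))) (.node 2 (.node 1 (.one ⟨17093, 5, 5⟩) (.one ⟨15609, 4, 5⟩)) (.node 1 (.one ⟨10832, 1, 5⟩) (.one ⟨11227, 4, 6⟩)))) (.node 4 (.node 2 (.node 1 (.one ⟨5320, 2, 6⟩) (.one ⟨1086, 5, 4⟩)) (.node 1 (.one ⟨10419, 2, 4⟩) (.one ⟨10661, 1, 5⟩))) (.node 2 (.node 1 (.one ⟨1239, 5, 6⟩) (.one ⟨3536, 3, 6⟩)) (.node 1 (.one ⟨15416, 1, 5⟩) (.one ⟨203, 2, 5⟩)))))))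
def par2_15_7 : Arr Par :=
  (.node 32 (.node 16 (.node 8 (.node 4 (.node 2 (.node 1 (.one ⟨1822, 5, 5⟩) (.one ⟨13508, 0, 5⟩)) (.node 1 (.one ⟨13578, 1, 5⟩) (.one ⟨14409, 4, 7⟩))) (.node 2 (.node 1 (.one ⟨4144, 4, 5⟩) (.one ⟨11354, 3, 5⟩)) (.node 1 (.one ⟨8901, 1, 6⟩) (.one ⟨1522, 5, 5⟩)))) (.node 4 (.node 2 (.node 1 (.one ⟨10673, 2, 5⟩) (.one ⟨4146, 3, 6⟩)) (.node 1 (.one ⟨2981, 1, 5⟩) (.one ⟨4149, 3, 5⟩))) (.node 2 (.node 1 (.one ⟨9914, 5, 7⟩) (.one ⟨2158, 4, 4⟩)) (.node 1 (.one ⟨7008, 2, 4⟩) (.one ⟨14630, 0, 5⟩))))) (.node 8 (.node 4 (.node 2 (.node 1 (.one ⟨9620, 4, 6⟩) (.one ⟨11999, 3, 5⟩)) (.node 1 (.one ⟨12505, 3, 6⟩) (.one ⟨1321, 0, 6⟩))) (.node 2 (.node 1 (.one ⟨5591, 1, 6⟩) (.one ⟨3496, 0, 6⟩)) (.node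 1 (.one ⟨12528, 2, 5⟩) (.one ⟨12192, 5, 5⟩)))) (.node 4 (.node 2 (.node 1 (.one ⟨11829, 2, 4⟩) (.one ⟨8398, 2, 6⟩)) (.node 1 (.one ⟨461, 2, 5⟩) (.one ⟨7544, 4, 5⟩))) (.node 2 (.node 1 (.one ⟨12526, 5, 4⟩) (.one ⟨2685, 4, 5⟩)) (.node 1 (.one ⟨1819, 3, 6⟩) (.one ⟨14760, 5, 5⟩)))))) (.node 16 (.node 8 (.node 4 (.node 2 (.node 1 (.one ⟨12456, 5, 5⟩) (.one ⟨4374, 1, 5⟩)) (.node 1 (.one ⟨16830, 2, 6⟩) (.one ⟨16810, 1, 3⟩))) (.node 2 (.node 1 (.one ⟨6259, 1, 5⟩) (.one ⟨11098, 5, 4⟩)) (.node 1 (.one ⟨9615, 4, 5⟩) (.one ⟨4389, 0, 5⟩)))) (.node 4 (.node 2 (.node 1 (.one ⟨13167, 0, 5⟩) (.one ⟨11209, 1, 5⟩)) (.node 1 (.one ⟨8463, 2, 4⟩) (.one ⟨7786, 1, 6⟩))) (.node 2 (.node 1 (.one ⟨6875, 1, 5⟩) (.one ⟨2820, 2, 5⟩)) (.node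 1 (.one ⟨6514, 2, 3⟩) (.one ⟨15732, 0, 6⟩))))) (.node 8 (.node 4 (.node 2 (.node 1 (.one ⟨6130, 5, 5⟩) (.one ⟨10814, 1, 6⟩)) (.node 1 (.one ⟨4524, 2, 6⟩) (.one ⟨257, 5, 6⟩))) (.node 2 (.node 1 (.one ⟨5343, 0, 2⟩) (.one ⟨11010, 5, 6⟩)) (.node 1 (.one ⟨12770, 2, 4⟩) (.one ⟨13523, 4, 5⟩)))) (.node 4 (.node 2 (.node 1 (.one ⟨5501, 5, 6⟩) (.one ⟨7718, 5, 5⟩)) (.node 1 (.one ⟨15379, 5, 5⟩) (.one ⟨12311, 2, 6⟩))) (.node 2 (.node 1 (.one ⟨6527, 3, 4⟩) (.one ⟨7497, 0, 6⟩)) (.node 1 (.one ⟨13337, 3, 6⟩) (.one ⟨1301, 5, 5⟩)))))))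
def par2_15_8 : Arr Par :=
  (.node 32 (.node 16 (.node 8 (.node 4 (.node 2 (.node 1 (.one ⟨2707, 4, 4⟩) (.one ⟨2708, 4, 6⟩)) (.node 1 (.one ⟨2706, 4, 6⟩) (.one ⟨15459, 2, 6⟩))) (.node 2 (.node 1 (.one ⟨9366, 0, 5⟩) (.one ⟨8189, 3, 6⟩)) (.node 1 (.one ⟨15495, 1, 5⟩) (.one ⟨13952, 1, 5⟩)))) (.node 4 (.node 2 (.node 1 (.one ⟨14193, 2, 5⟩) (.one ⟨9274, 0, 4⟩)) (.node 1 (.one ⟨12983, 4, 3⟩) (.one ⟨15396, 5, 5⟩))) (.node 2 (.node 1 (.one ⟨13169, 5, 6⟩) (.one ⟨66, 0, 4⟩)) (.node 1 (.one ⟨88, 0, 3⟩) (.one ⟨5886, 0, 6⟩))))) (.node 8 (.node 4 (.node 2 (.node 1 (.one ⟨16884, 2, 5⟩) (.one ⟨8637, 2, 5⟩)) (.node 1 (.one ⟨4827, 5, 6⟩) (.one ⟨11582, 4, 6⟩))) (.node 2 (.node 1 (.one ⟨5438, 5, 5⟩) (.one ⟨15452, 2, 5⟩)) (.node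 1 (.one ⟨3160, 4, 4⟩) (.one ⟨15232, 1, 4⟩)))) (.node 4 (.node 2 (.node 1 (.one ⟨11532, 0, 6⟩) (.one ⟨1745, 4, 5⟩)) (.node 1 (.one ⟨11998, 1, 5⟩) (.one ⟨1743, 4, 6⟩))) (.node 2 (.node 1 (.one ⟨6090, 2, 6⟩) (.one ⟨11233, 0, 5⟩)) (.node 1 (.one ⟨1746, 4, 5⟩) (.one ⟨13542, 5, 5⟩)))))) (.node 16 (.node 8 (.node 4 (.node 2 (.node 1 (.one ⟨12113, 2, 5⟩) (.one ⟨8986, 5, 5⟩)) (.node 1 (.one ⟨14634, 4, 3⟩) (.one ⟨7826, 1, 4⟩))) (.node 2 (.node 1 (.one ⟨8238, 3, 5⟩) (.one ⟨7276, 0, 4⟩)) (.node 1 (.one ⟨14058, 5, 6⟩) (.one ⟨14793, 2, 6⟩)))) (.node 4 (.node 2 (.node 1 (.one ⟨14929, 3, 5⟩) (.one ⟨15249, 2, 5⟩)) (.node 1 (.one ⟨9712, 5, 6⟩) (.one ⟨9659, 0, 6⟩))) (.node 2 (.node 1 (.one ⟨11088, 4, 6⟩) (.one ⟨15144, 5, 6⟩))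 (.node 1 (.one ⟨15298, 3, 6⟩) (.one ⟨10116, 4, 4⟩))))) (.node 8 (.node 4 (.node 2 (.node 1 (.one ⟨8545, 2, 5⟩) (.one ⟨1114, 3, 4⟩)) (.node 1 (.one ⟨197, 0, 5⟩) (.one ⟨3312, 1, 4⟩))) (.node 2 (.node 1 (.one ⟨12373, 4, 6⟩) (.one ⟨13381, 4, 4⟩)) (.node 1 (.one ⟨7357, 3, 5⟩) (.one ⟨9546, 5, 5⟩)))) (.node 4 (.node 2 (.node 1 (.one ⟨13823, 2, 6⟩) (.one ⟨5664, 5, 4⟩)) (.node 1 (.one ⟨11735, 5, 5⟩) (.one ⟨8074, 5, 5⟩))) (.node 2 (.node 1 (.one ⟨9778, 5, 5⟩) (.one ⟨11880, 5, 5⟩)) (.node 1 (.one ⟨5817, 5, 3⟩) (.one ⟨13604, 1, 5⟩)))))))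
def par2_15_9 : Arr Par :=
  (.node 32 (.node 16 (.node 8 (.node 4 (.node 2 (.node 1 (.one ⟨5299, 3, 5⟩) (.one ⟨14493, 2, 6⟩)) (.node 1 (.one ⟨1402, 0, 5⟩) (.one ⟨10515, 0, 3⟩))) (.node 2 (.node 1 (.one ⟨14498, 2, 5⟩) (.one ⟨10221, 5, 6⟩)) (.node 1 (.one ⟨13200, 0, 5⟩) (.one ⟨1426, 2, 5⟩)))) (.node 4 (.node 2 (.node 1 (.one ⟨5327, 0, 5⟩) (.one ⟨8767, 5, 3⟩)) (.node 1 (.one ⟨12105, 3, 5⟩) (.one ⟨13354, 5, 5⟩))) (.node 2 (.node 1 (.one ⟨10501, 4, 5⟩) (.one ⟨7623, 5, 4⟩)) (.node 1 (.one ⟨7132, 0, 5⟩) (.one ⟨8146, 2, 4⟩))))) (.node 8 (.node 4 (.node 2 (.node 1 (.one ⟨9110, 4, 5⟩) (.one ⟨16805, 1, 3⟩)) (.node 1 (.one ⟨8291, 0, 4⟩) (.one ⟨14736, 5, 6⟩))) (.node 2 (.node 1 (.one ⟨6785, 5, 4⟩) (.one ⟨5605, 4, 5⟩)) (.node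 1 (.one ⟨5377, 5, 4⟩) (.one ⟨17174, 3, 5⟩)))) (.node 4 (.node 2 (.node 1 (.one ⟨3068, 4, 6⟩) (.one ⟨16602, 4, 5⟩)) (.node 1 (.one ⟨10455, 3, 5⟩) (.one ⟨16039, 2, 6⟩))) (.node 2 (.node 1 (.one ⟨11289, 5, 4⟩) (.one ⟨6736, 4, 3⟩)) (.node 1 (.one ⟨1748, 1, 4⟩) (.one ⟨14363, 5, 5⟩)))))) (.node 16 (.node 8 (.node 4 (.node 2 (.node 1 (.one ⟨11736, 1, 4⟩) (.one ⟨11997, 3, 6⟩)) (.node 1 (.one ⟨11001, 5, 5⟩) (.one ⟨2336, 5, 6⟩))) (.node 2 (.node 1 (.one ⟨10519, 5, 6⟩) (.one ⟨7870, 4, 5⟩)) (.node 1 (.one ⟨3598, 4, 6⟩) (.one ⟨16174, 3, 6⟩)))) (.node 4 (.node 2 (.node 1 (.one ⟨3495, 5, 5⟩) (.one ⟨4301, 5, 5⟩)) (.node 1 (.one ⟨9573, 4, 6⟩) (.one ⟨14455, 3, 5⟩))) (.node 2 (.node 1 (.one ⟨11453, 5, 5⟩) (.one ⟨8200, 3, 6⟩))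 (.node 1 (.one ⟨9381, 1, 6⟩) (.one ⟨11491, 0, 5⟩))))) (.node 8 (.node 4 (.node 2 (.node 1 (.one ⟨3342, 5, 4⟩) (.one ⟨16046, 2, 6⟩)) (.node 1 (.one ⟨2931, 1, 4⟩) (.one ⟨12756, 2, 6⟩))) (.node 2 (.node 1 (.one ⟨6397, 2, 5⟩) (.one ⟨12517, 2, 6⟩)) (.node 1 (.one ⟨13724, 1, 5⟩) (.one ⟨6361, 2, 4⟩)))) (.node 4 (.node 2 (.node 1 (.one ⟨9292, 3, 4⟩) (.one ⟨10528, 5, 5⟩)) (.node 1 (.one ⟨2415, 1, 5⟩) (.one ⟨8818, 2, 5⟩))) (.node 2 (.node 1 (.one ⟨14671, 5, 6⟩) (.one ⟨10023, 1, 6⟩)) (.node 1 (.one ⟨9514, 1, 5⟩) (.one ⟨7579, 3, 5⟩)))))))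
def par2_15_10 : Arr Par :=
  (.node 32 (.node 16 (.node 8 (.node 4 (.node 2 (.node 1 (.one ⟨6728, 5, 6⟩) (.one ⟨8897, 5, 6⟩)) (.node 1 (.one ⟨843, 3, 5⟩) (.one ⟨6469, 0, 5⟩))) (.node 2 (.node 1 (.one ⟨6634, 5, 6⟩) (.one ⟨8815, 5, 5⟩)) (.node 1 (.one ⟨479, 2, 4⟩) (.one ⟨8963, 4, 5⟩)))) (.node 4 (.node 2 (.node 1 (.one ⟨13621, 0, 6⟩) (.one ⟨6007, 4, 5⟩)) (.node 1 (.one ⟨13037, 0, 6⟩) (.one ⟨9896, 4, 5⟩))) (.node 2 (.node 1 (.one ⟨5491, 1, 6⟩) (.one ⟨15159, 1, 5⟩)) (.node 1 (.one ⟨11553, 2, 6⟩) (.one ⟨883, 3, 6⟩))))) (.node 8 (.node 4 (.node 2 (.node 1 (.one ⟨7338, 0, 5⟩) (.one ⟨3260, 3, 5⟩)) (.node 1 (.one ⟨13674, 3, 6⟩) (.one ⟨1265, 5, 4⟩))) (.node 2 (.node 1 (.one ⟨5050, 3, 5⟩) (.one ⟨481, 2, 4⟩)) (.node 1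 (.one ⟨7745, 1, 6⟩) (.one ⟨13931, 4, 4⟩)))) (.node 4 (.node 2 (.node 1 (.one ⟨6034, 3, 6⟩) (.one ⟨3171, 5, 6⟩)) (.node 1 (.one ⟨7245, 4, 5⟩) (.one ⟨16946, 5, 6⟩))) (.node 2 (.node 1 (.one ⟨14858, 2, 5⟩) (.one ⟨9015, 4, 5⟩)) (.node 1 (.one ⟨14052, 3, 6⟩) (.one ⟨9036, 0, 4⟩)))))) (.node 16 (.node 8 (.node 4 (.node 2 (.node 1 (.one ⟨2502, 4, 6⟩) (.one ⟨13346, 5, 5⟩)) (.node 1 (.one ⟨15117, 1, 3⟩) (.one ⟨12369, 4, 5⟩))) (.node 2 (.node 1 (.one ⟨7791, 5, 6⟩) (.one ⟨10569, 5, 6⟩)) (.node 1 (.one ⟨12956, 4, 5⟩) (.one ⟨11441, 1, 5⟩)))) (.node 4 (.node 2 (.node 1 (.one ⟨11504, 5, 6⟩) (.one ⟨3634, 4, 5⟩)) (.node 1 (.one ⟨6731, 0, 5⟩) (.one ⟨6129, 5, 5⟩))) (.node 2 (.node 1 (.one ⟨1033, 2, 4⟩) (.one ⟨3430, 5, 5⟩)) (.node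 1 (.one ⟨16066, 1, 5⟩) (.one ⟨16528, 1, 6⟩))))) (.node 8 (.node 4 (.node 2 (.node 1 (.one ⟨10155, 5, 5⟩) (.one ⟨2272, 5, 5⟩)) (.node 1 (.one ⟨12196, 0, 6⟩) (.one ⟨9107, 3, 5⟩))) (.node 2 (.node 1 (.one ⟨2272, 2, 5⟩) (.one ⟨9967, 3, 6⟩)) (.node 1 (.one ⟨9976, 1, 6⟩) (.one ⟨6393, 4, 5⟩)))) (.node 4 (.node 2 (.node 1 (.one ⟨16249, 3, 4⟩) (.one ⟨2647, 1, 5⟩)) (.node 1 (.one ⟨5505, 3, 5⟩) (.one ⟨14391, 5, 4⟩))) (.node 2 (.node 1 (.one ⟨11884, 2, 3⟩) (.one ⟨946, 5, 6⟩)) (.node 1 (.one ⟨15449, 3, 5⟩) (.one ⟨2483, 2, 4⟩)))))))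
def par2_15_11 : Arr Par :=
  (.node 32 (.node 16 (.node 8 (.node 4 (.node 2 (.node 1 (.one ⟨1089, 3, 5⟩) (.one ⟨6947, 4, 5⟩)) (.node 1 (.one ⟨2792, 0, 4⟩) (.one ⟨10168, 2, 6⟩))) (.node 2 (.node 1 (.one ⟨15076, 5, 5⟩) (.one ⟨1567, 2, 5⟩)) (.node 1 (.one ⟨11815, 5, 5⟩) (.one ⟨3235, 2, 4⟩)))) (.node 4 (.node 2 (.node 1 (.one ⟨4062, 4, 5⟩) (.one ⟨506, 5, 4⟩)) (.node 1 (.one ⟨11771, 0, 6⟩) (.one ⟨2157, 0, 6⟩))) (.node 2 (.node 1 (.one ⟨7347, 4, 4⟩) (.one ⟨16687, 4, 6⟩)) (.node 1 (.one ⟨16601, 4, 6⟩) (.one ⟨5033, 3, 6⟩))))) (.node 8 (.node 4 (.node 2 (.node 1 (.one ⟨4279, 5, 6⟩) (.one ⟨15449, 1, 5⟩)) (.node 1 (.one ⟨32, 2, 5⟩) (.one ⟨10304, 5, 5⟩))) (.node 2 (.node 1 (.one ⟨11784, 5, 6⟩) (.one ⟨5225, 3, 4⟩)) (.node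 1 (.one ⟨9869, 0, 6⟩) (.one ⟨15758, 2, 5⟩)))) (.node 4 (.node 2 (.node 1 (.one ⟨8728, 3, 6⟩) (.one ⟨11676, 0, 5⟩)) (.node 1 (.one ⟨9707, 3, 5⟩) (.one ⟨1090, 5, 7⟩))) (.node 2 (.node 1 (.one ⟨16794, 0, 6⟩) (.one ⟨6124, 0, 5⟩)) (.node 1 (.one ⟨4079, 1, 4⟩) (.one ⟨9374, 2, 6⟩)))))) (.node 16 (.node 8 (.node 4 (.node 2 (.node 1 (.one ⟨6364, 5, 6⟩) (.one ⟨6361, 5, 4⟩)) (.node 1 (.one ⟨10584, 2, 5⟩) (.one ⟨221, 5, 5⟩))) (.node 2 (.node 1 (.one ⟨12510, 3, 5⟩) (.one ⟨15196, 0, 5⟩)) (.node 1 (.one ⟨10913, 1, 5⟩) (.one ⟨12425, 5, 6⟩)))) (.node 4 (.node 2 (.node 1 (.one ⟨5964, 2, 6⟩) (.one ⟨6523, 2, 5⟩)) (.node 1 (.one ⟨10740, 0, 6⟩) (.one ⟨1938, 2, 4⟩))) (.node 2 (.node 1 (.one ⟨13660, 2, 6⟩) (.one ⟨2685, 0, 5⟩)) (.node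 1 (.one ⟨2569, 2, 4⟩) (.one ⟨8266, 0, 5⟩))))) (.node 8 (.node 4 (.node 2 (.node 1 (.one ⟨10708, 5, 6⟩) (.one ⟨2400, 3, 5⟩)) (.node 1 (.one ⟨1702, 4, 6⟩) (.one ⟨9193, 5, 5⟩))) (.node 2 (.node 1 (.one ⟨4929, 1, 3⟩) (.one ⟨1487, 3, 5⟩)) (.node 1 (.one ⟨7575, 3, 5⟩) (.one ⟨8216, 0, 4⟩)))) (.node 4 (.node 2 (.node 1 (.one ⟨5691, 3, 5⟩) (.one ⟨2422, 5, 5⟩)) (.node 1 (.one ⟨2202, 1, 4⟩) (.one ⟨8637, 5, 5⟩))) (.node 2 (.node 1 (.one ⟨16400, 4, 5⟩) (.one ⟨8155, 5, 6⟩)) (.node 1 (.one ⟨6018, 3, 5⟩) (.one ⟨4358, 4, 6⟩)))))))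
def par2_15_12 : Arr Par :=
  (.node 32 (.node 16 (.node 8 (.node 4 (.node 2 (.node 1 (.one ⟨13066, 3, 6⟩) (.one ⟨2825, 4, 5⟩)) (.node 1 (.one ⟨208, 0, 5⟩) (.one ⟨3927, 0, 5⟩))) (.node 2 (.node 1 (.one ⟨9953, 2, 5⟩) (.one ⟨11959, 0, 5⟩)) (.node 1 (.one ⟨1103, 2, 4⟩) (.one ⟨12499, 3, 3⟩)))) (.node 4 (.node 2 (.node 1 (.one ⟨13077, 2, 4⟩) (.one ⟨8198, 5, 5⟩)) (.node 1 (.one ⟨7046, 4, 4⟩) (.one ⟨6937, 5, 6⟩))) (.node 2 (.node 1 (.one ⟨15913, 0, 6⟩) (.one ⟨3104, 5, 6⟩)) (.node 1 (.one ⟨5508, 5, 5⟩) (.one ⟨5035, 5, 4⟩))))) (.node 8 (.node 4 (.node 2 (.node 1 (.one ⟨6726, 1, 5⟩) (.one ⟨350, 0, 6⟩)) (.node 1 (.one ⟨2271, 0, 5⟩) (.one ⟨9104, 5, 4⟩))) (.node 2 (.node 1 (.one ⟨7085, 5, 5⟩) (.one ⟨3333, 5, 6⟩)) (.node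 1 (.one ⟨665, 3, 5⟩) (.one ⟨5987, 3, 4⟩)))) (.node 4 (.node 2 (.node 1 (.one ⟨11047, 2, 4⟩) (.one ⟨4047, 5, 5⟩)) (.node 1 (.one ⟨3132, 2, 4⟩) (.one ⟨14118, 2, 5⟩))) (.node 2 (.node 1 (.one ⟨16511, 1, 6⟩) (.one ⟨10419, 1, 4⟩)) (.node 1 (.one ⟨15636, 2, 5⟩) (.one ⟨15732, 3, 6⟩)))))) (.node 16 (.node 8 (.node 4 (.node 2 (.node 1 (.one ⟨6079, 5, 4⟩) (.one ⟨9632, 1, 5⟩)) (.node 1 (.one ⟨12019, 2, 5⟩) (.one ⟨13238, 0, 5⟩))) (.node 2 (.node 1 (.one ⟨13279, 0, 3⟩) (.one ⟨6677, 4, 6⟩)) (.node 1 (.one ⟨12492, 3, 6⟩) (.one ⟨81, 2, 3⟩)))) (.node 4 (.node 2 (.node 1 (.one ⟨13737, 1, 5⟩) (.one ⟨12600, 1, 5⟩)) (.node 1 (.one ⟨11999, 2, 5⟩) (.one ⟨8097, 1, 6⟩))) (.node 2 (.node 1 (.one ⟨9916, 5, 5⟩) (.one ⟨12959, 4, 6⟩)) (.node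 1 (.one ⟨1837, 4, 5⟩) (.one ⟨7853, 4, 4⟩))))) (.node 8 (.node 4 (.node 2 (.node 1 (.one ⟨8784, 2, 5⟩) (.one ⟨14471, 2, 6⟩)) (.node 1 (.one ⟨15881, 5, 5⟩) (.one ⟨13822, 2, 6⟩))) (.node 2 (.node 1 (.one ⟨6514, 4, 3⟩) (.one ⟨6994, 3, 5⟩)) (.node 1 (.one ⟨8465, 2, 3⟩) (.one ⟨14458, 4, 6⟩)))) (.node 4 (.node 2 (.node 1 (.one ⟨13630, 2, 4⟩) (.one ⟨16726, 1, 5⟩)) (.node 1 (.one ⟨16982, 5, 5⟩) (.one ⟨2425, 4, 5⟩))) (.node 2 (.node 1 (.one ⟨10913, 3, 5⟩) (.one ⟨14231, 1, 5⟩)) (.node 1 (.one ⟨2819, 1, 4⟩) (.one ⟨3628, 2, 6⟩)))))))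
def par2_15_13 : Arr Par :=
  (.node 32 (.node 16 (.node 8 (.node 4 (.node 2 (.node 1 (.one ⟨2800, 1, 5⟩) (.one ⟨16481, 3, 6⟩)) (.node 1 (.one ⟨14714, 5, 4⟩) (.one ⟨8452, 3, 5⟩))) (.node 2 (.node 1 (.one ⟨6263, 5, 6⟩) (.one ⟨12648, 0, 5⟩)) (.node 1 (.one ⟨7125, 3, 6⟩) (.one ⟨2398, 2, 6⟩)))) (.node 4 (.node 2 (.node 1 (.one ⟨6649, 4, 5⟩) (.one ⟨6672, 4, 5⟩)) (.node 1 (.one ⟨15552, 5, 5⟩) (.one ⟨406, 5, 6⟩))) (.node 2 (.node 1 (.one ⟨874, 5, 6⟩) (.one ⟨671, 5, 4⟩)) (.node 1 (.one ⟨4578, 0, 5⟩) (.one ⟨7445, 5, 6⟩))))) (.node 8 (.node 4 (.node 2 (.node 1 (.one ⟨11340, 3, 4⟩) (.one ⟨12640, 3, 5⟩)) (.node 1 (.one ⟨15064, 5, 6⟩) (.one ⟨5050, 1, 5⟩))) (.node 2 (.node 1 (.one ⟨4431, 1, 5⟩) (.one ⟨12128, 2, 1⟩)) (.node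 1 (.one ⟨15306, 4, 5⟩) (.one ⟨5458, 1, 6⟩)))) (.node 4 (.node 2 (.node 1 (.one ⟨5732, 3, 5⟩) (.one ⟨8988, 5, 5⟩)) (.node 1 (.one ⟨1957, 0, 6⟩) (.one ⟨15602, 2, 5⟩))) (.node 2 (.node 1 (.one ⟨15777, 2, 5⟩) (.one ⟨16507, 4, 5⟩)) (.node 1 (.one ⟨16847, 3, 5⟩) (.one ⟨12961, 5, 6⟩)))))) (.node 16 (.node 8 (.node 4 (.node 2 (.node 1 (.one ⟨14080, 2, 4⟩) (.one ⟨15429, 2, 5⟩)) (.node 1 (.one ⟨13780, 4, 5⟩) (.one ⟨11534, 4, 5⟩))) (.node 2 (.node 1 (.one ⟨10349, 5, 2⟩) (.one ⟨5385, 2, 5⟩)) (.node 1 (.one ⟨15602, 3, 5⟩) (.one ⟨10230, 2, 6⟩)))) (.node 4 (.node 2 (.node 1 (.one ⟨9684, 3, 6⟩) (.one ⟨2850, 1, 5⟩)) (.node 1 (.one ⟨2033, 4, 3⟩) (.one ⟨2318, 1, 6⟩))) (.node 2 (.node 1 (.one ⟨5267, 4, 5⟩) (.one ⟨3160, 5, 4⟩))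 (.node 1 (.one ⟨1366, 5, 5⟩) (.one ⟨5343, 3, 2⟩))))) (.node 8 (.node 4 (.node 2 (.node 1 (.one ⟨14219, 5, 5⟩) (.one ⟨16956, 0, 5⟩)) (.node 1 (.one ⟨7458, 3, 6⟩) (.one ⟨2135, 5, 6⟩))) (.node 2 (.node 1 (.one ⟨16837, 1, 4⟩) (.one ⟨13843, 5, 6⟩)) (.node 1 (.one ⟨6229, 5, 5⟩) (.one ⟨14927, 2, 5⟩)))) (.node 4 (.node 2 (.node 1 (.one ⟨15965, 1, 4⟩) (.one ⟨16382, 1, 3⟩)) (.node 1 (.one ⟨15802, 2, 5⟩) (.one ⟨16707, 2, 5⟩))) (.node 2 (.node 1 (.one ⟨850, 4, 5⟩) (.one ⟨8196, 3, 3⟩)) (.node 1 (.one ⟨13620, 2, 4⟩) (.one ⟨647, 0, 5⟩)))))))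
def par2_15_14 : Arr Par :=
  (.node 32 (.node 16 (.node 8 (.node 4 (.node 2 (.node 1 (.one ⟨15362, 1, 4⟩) (.one ⟨1971, 5, 5⟩)) (.node 1 (.one ⟨4281, 2, 5⟩) (.one ⟨2026, 5, 6⟩))) (.node 2 (.node 1 (.one ⟨6579, 5, 5⟩) (.one ⟨11027, 1, 5⟩)) (.node 1 (.one ⟨6966, 5, 6⟩) (.one ⟨12940, 3, 6⟩)))) (.node 4 (.node 2 (.node 1 (.one ⟨103, 3, 5⟩) (.one ⟨10952, 1, 5⟩)) (.node 1 (.one ⟨6639, 0, 6⟩) (.one ⟨13630, 5, 4⟩))) (.node 2 (.node 1 (.one ⟨1821, 2, 4⟩) (.one ⟨12408, 3, 5⟩)) (.node 1 (.one ⟨17073, 4, 6⟩) (.one ⟨15690, 0, 5⟩))))) (.node 8 (.node 4 (.node 2 (.node 1 (.one ⟨16659, 3, 5⟩) (.one ⟨8202, 5, 5⟩)) (.node 1 (.one ⟨11828, 2, 5⟩) (.one ⟨8126, 4, 6⟩))) (.node 2 (.node 1 (.one ⟨6243, 4, 5⟩) (.one ⟨7085, 1, 5⟩)) (.node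 1 (.one ⟨15190, 3, 4⟩) (.one ⟨2503, 1, 6⟩)))) (.node 4 (.node 2 (.node 1 (.one ⟨7338, 4, 5⟩) (.one ⟨17016, 5, 6⟩)) (.node 1 (.one ⟨16153, 4, 6⟩) (.one ⟨11513, 0, 6⟩))) (.node 2 (.node 1 (.one ⟨15085, 5, 3⟩) (.one ⟨3034, 3, 6⟩)) (.node 1 (.one ⟨7218, 5, 4⟩) (.one ⟨10548, 5, 5⟩)))))) (.node 16 (.node 8 (.node 4 (.node 2 (.node 1 (.one ⟨8530, 2, 6⟩) (.one ⟨14427, 2, 5⟩)) (.node 1 (.one ⟨16055, 0, 6⟩) (.one ⟨4813, 5, 6⟩))) (.node 2 (.node 1 (.one ⟨15497, 3, 6⟩) (.one ⟨15435, 5, 6⟩)) (.node 1 (.one ⟨13362, 3, 5⟩) (.one ⟨12302, 2, 4⟩)))) (.node 4 (.node 2 (.node 1 (.one ⟨3058, 1, 6⟩) (.one ⟨9739, 2, 6⟩)) (.node 1 (.one ⟨253, 2, 5⟩) (.one ⟨12907, 5, 4⟩))) (.node 2 (.node 1 (.one ⟨15358, 3, 4⟩) (.one ⟨17113, 4, 5⟩))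 (.node 1 (.one ⟨8680, 2, 5⟩) (.one ⟨537, 5, 6⟩))))) (.node 8 (.node 4 (.node 2 (.node 1 (.one ⟨6593, 3, 6⟩) (.one ⟨5715, 4, 4⟩)) (.node 1 (.one ⟨13616, 3, 5⟩) (.one ⟨7519, 1, 5⟩))) (.node 2 (.node 1 (.one ⟨7651, 0, 5⟩) (.one ⟨13742, 4, 4⟩)) (.node 1 (.one ⟨9679, 0, 6⟩) (.one ⟨15454, 5, 5⟩)))) (.node 4 (.node 2 (.node 1 (.one ⟨8846, 3, 3⟩) (.one ⟨11176, 0, 5⟩)) (.node 1 (.one ⟨233, 0, 4⟩) (.one ⟨6090, 3, 6⟩))) (.node 2 (.node 1 (.one ⟨13550, 3, 5⟩) (.one ⟨9759, 4, 6⟩)) (.node 1 (.one ⟨10422, 5, 6⟩) (.one ⟨10515, 5, 3⟩)))))))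
def par2_15_15 : Arr Par :=
  (.node 32 (.node 16 (.node 8 (.node 4 (.node 2 (.node 1 (.one ⟨9606, 5, 5⟩) (.one ⟨9295, 2, 5⟩)) (.node 1 (.one ⟨10480, 5, 4⟩) (.one ⟨9746, 3, 5⟩))) (.node 2 (.node 1 (.one ⟨2371, 5, 5⟩) (.one ⟨2400, 5, 5⟩)) (.node 1 (.one ⟨11825, 4, 5⟩) (.one ⟨14524, 1, 6⟩)))) (.node 4 (.node 2 (.node 1 (.one ⟨16213, 1, 2⟩) (.one ⟨1428, 2, 5⟩)) (.node 1 (.one ⟨3848, 1, 4⟩) (.one ⟨5087, 1, 6⟩))) (.node 2 (.node 1 (.one ⟨15853, 0, 6⟩) (.one ⟨4598, 0, 4⟩)) (.node 1 (.one ⟨14804, 1, 5⟩) (.one ⟨6778, 5, 6⟩))))) (.node 8 (.node 4 (.node 2 (.node 1 (.one ⟨14547, 4, 7⟩) (.one ⟨14477, 3, 6⟩)) (.node 1 (.one ⟨12250, 1, 5⟩) (.one ⟨4597, 0, 5⟩))) (.node 2 (.node 1 (.one ⟨14892, 5, 5⟩) (.one ⟨9036, 2, 4⟩))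 (.node 1 (.one ⟨10528, 1, 5⟩) (.one ⟨16678, 1, 6⟩)))) (.node 4 (.node 2 (.node 1 (.one ⟨13829, 3, 5⟩) (.one ⟨12229, 4, 5⟩)) (.node 1 (.one ⟨3518, 3, 5⟩) (.one ⟨15709, 3, 6⟩))) (.node 2 (.node 1 (.one ⟨3431, 4, 5⟩) (.one ⟨11248, 4, 5⟩)) (.node 1 (.one ⟨1465, 5, 4⟩) (.one ⟨15165, 5, 5⟩)))))) (.node 16 (.node 8 (.node 4 (.node 2 (.node 1 (.one ⟨3658, 2, 6⟩) (.one ⟨9559, 0, 4⟩)) (.node 1 (.one ⟨2820, 0, 5⟩) (.one ⟨16625, 5, 5⟩))) (.node 2 (.node 1 (.one ⟨8325, 3, 4⟩) (.one ⟨10159, 1, 5⟩)) (.node 1 (.one ⟨15118, 4, 6⟩) (.one ⟨4389, 4, 5⟩)))) (.node 4 (.node 2 (.node 1 (.one ⟨7086, 3, 5⟩) (.one ⟨16889, 3, 6⟩)) (.node 1 (.one ⟨691, 0, 4⟩) (.one ⟨15633, 4, 6⟩))) (.node 2 (.node 1 (.one ⟨16456, 4, 6⟩) (.one ⟨9110, 3,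 5⟩)) (.node 1 (.one ⟨3669, 5, 5⟩) (.one ⟨6595, 2, 6⟩))))) (.node 8 (.node 4 (.node 2 (.node 1 (.one ⟨1363, 4, 5⟩) (.one ⟨8289, 0, 6⟩)) (.node 1 (.one ⟨6596, 2, 6⟩) (.one ⟨5472, 1, 4⟩))) (.node 2 (.node 1 (.one ⟨6593, 2, 6⟩) (.one ⟨13566, 1, 5⟩)) (.node 1 (.one ⟨6591, 2, 6⟩) (.one ⟨6688, 2, 4⟩)))) (.node 4 (.node 2 (.node 1 (.one ⟨56, 2, 6⟩) (.one ⟨15767, 3, 6⟩)) (.node 1 (.one ⟨12950, 5, 6⟩) (.one ⟨3709, 5, 5⟩))) (.node 2 (.node 1 (.one ⟨15347, 1, 6⟩) (.one ⟨14904, 3, 6⟩)) (.node 1 (.one ⟨11323, 2, 2⟩) (.one ⟨1838, 3, 5⟩)))))))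
def par2_15 : Arr Par :=
  (.node 512 (.node 256 (.node 128 (.node 64 par2_15_0 par2_15_1) (.node 64 par2_15_2 par2_15_3)) (.node 128 (.node 64 par2_15_4 par2_15_5) (.node 64 par2_15_6 par2_15_7))) (.node 256 (.node 128 (.node 64 par2_15_8 par2_15_9) (.node 64 par2_15_10 par2_15_11)) (.node 128 (.node 64 par2_15_12 par2_15_13) (.node 64 par2_15_14 par2_15_15))))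
def par2_16_0 : Arr Par :=
  (.node 32 (.node 16 (.node 8 (.node 4 (.node 2 (.node 1 (.one ⟨14974, 0, 6⟩) (.one ⟨9111, 2, 3⟩)) (.node 1 (.one ⟨10949, 1, 6⟩) (.one ⟨9274, 2, 4⟩))) (.node 2 (.node 1 (.one ⟨209, 0, 5⟩) (.one ⟨3007, 5, 5⟩)) (.node 1 (.one ⟨17197, 2, 5⟩) (.one ⟨16643, 4, 6⟩)))) (.node 4 (.node 2 (.node 1 (.one ⟨14347, 5, 4⟩) (.one ⟨14836, 2, 6⟩)) (.node 1 (.one ⟨7988, 3, 5⟩) (.one ⟨11955, 2, 5⟩))) (.node 2 (.node 1 (.one ⟨6202, 5, 5⟩) (.one ⟨9299, 1, 6⟩)) (.node 1 (.one ⟨6116, 4, 5⟩) (.one ⟨10852, 5, 6⟩))))) (.node 8 (.node 4 (.node 2 (.node 1 (.one ⟨14731, 1, 4⟩) (.one ⟨8964, 2, 5⟩)) (.node 1 (.one ⟨7035, 4, 3⟩) (.one ⟨7046, 1, 4⟩))) (.node 2 (.node 1 (.one ⟨482, 0, 5⟩) (.one ⟨15758, 0, 5⟩)) (.node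 1 (.one ⟨7592, 2, 5⟩) (.one ⟨6537, 5, 6⟩)))) (.node 4 (.node 2 (.node 1 (.one ⟨13471, 2, 4⟩) (.one ⟨6465, 5, 6⟩)) (.node 1 (.one ⟨9508, 3, 4⟩) (.one ⟨3755, 1, 5⟩))) (.node 2 (.node 1 (.one ⟨9051, 5, 6⟩) (.one ⟨17018, 2, 5⟩)) (.node 1 (.one ⟨9109, 5, 5⟩) (.one ⟨9194, 4, 6⟩)))))) (.node 16 (.node 8 (.node 4 (.node 2 (.node 1 (.one ⟨3646, 5, 5⟩) (.one ⟨3676, 0, 5⟩)) (.node 1 (.one ⟨3294, 4, 6⟩) (.one ⟨15895, 4, 5⟩))) (.node 2 (.node 1 (.one ⟨9052, 1, 6⟩) (.one ⟨2815, 4, 4⟩)) (.node 1 (.one ⟨9486, 2, 5⟩) (.one ⟨15615, 5, 6⟩)))) (.node 4 (.node 2 (.node 1 (.one ⟨10030, 4, 6⟩) (.one ⟨12214, 3, 7⟩)) (.node 1 (.one ⟨15271, 1, 5⟩) (.one ⟨2339, 5, 5⟩))) (.node 2 (.node 1 (.one ⟨15068, 5, 5⟩) (.one ⟨9353, 2, 4⟩)) (.node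 1 (.one ⟨13577, 1, 6⟩) (.one ⟨14392, 5, 5⟩))))) (.node 8 (.node 4 (.node 2 (.node 1 (.one ⟨3282, 0, 6⟩) (.one ⟨8192, 3, 6⟩)) (.node 1 (.one ⟨7889, 3, 6⟩) (.one ⟨4766, 3, 5⟩))) (.node 2 (.node 1 (.one ⟨12413, 1, 6⟩) (.one ⟨8961, 1, 6⟩)) (.node 1 (.one ⟨17098, 2, 5⟩) (.one ⟨8656, 1, 5⟩)))) (.node 4 (.node 2 (.node 1 (.one ⟨7921, 4, 6⟩) (.one ⟨14304, 0, 5⟩)) (.node 1 (.one ⟨14930, 1, 6⟩) (.one ⟨5976, 0, 6⟩))) (.node 2 (.node 1 (.one ⟨17191, 3, 4⟩) (.one ⟨8873, 3, 5⟩)) (.node 1 (.one ⟨14683, 4, 5⟩) (.one ⟨7016, 5, 6⟩)))))))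
def par2_16_1 : Arr Par :=
  (.node 32 (.node 16 (.node 8 (.node 4 (.node 2 (.node 1 (.one ⟨6473, 2, 3⟩) (.one ⟨10838, 1, 6⟩)) (.node 1 (.one ⟨14261, 1, 5⟩) (.one ⟨14599, 0, 1⟩))) (.node 2 (.node 1 (.one ⟨6579, 3, 5⟩) (.one ⟨4539, 4, 5⟩)) (.node 1 (.one ⟨2462, 2, 3⟩) (.one ⟨7196, 0, 3⟩)))) (.node 4 (.node 2 (.node 1 (.one ⟨5652, 1, 5⟩) (.one ⟨279, 4, 5⟩)) (.node 1 (.one ⟨768, 0, 5⟩) (.one ⟨15311, 2, 5⟩))) (.node 2 (.node 1 (.one ⟨14921, 4, 6⟩) (.one ⟨281, 0, 5⟩)) (.node 1 (.one ⟨14295, 5, 4⟩) (.one ⟨14090, 0, 6⟩))))) (.node 8 (.node 4 (.node 2 (.node 1 (.one ⟨6832, 4, 6⟩) (.one ⟨66, 1, 4⟩)) (.node 1 (.one ⟨14301, 2, 6⟩) (.one ⟨2345, 2, 4⟩))) (.node 2 (.node 1 (.one ⟨7972, 5, 6⟩) (.one ⟨5786, 3, 6⟩)) (.node 1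 (.one ⟨11142, 4, 5⟩) (.one ⟨11790, 2, 6⟩)))) (.node 4 (.node 2 (.node 1 (.one ⟨7404, 4, 5⟩) (.one ⟨16294, 4, 6⟩)) (.node 1 (.one ⟨10011, 0, 5⟩) (.one ⟨14964, 5, 5⟩))) (.node 2 (.node 1 (.one ⟨15721, 3, 5⟩) (.one ⟨14960, 5, 5⟩)) (.node 1 (.one ⟨8855, 0, 3⟩) (.one ⟨10471, 3, 6⟩)))))) (.node 16 (.node 8 (.node 4 (.node 2 (.node 1 (.one ⟨3303, 5, 6⟩) (.one ⟨12998, 0, 5⟩)) (.node 1 (.one ⟨6672, 3, 5⟩) (.one ⟨14242, 5, 6⟩))) (.node 2 (.node 1 (.one ⟨16338, 5, 6⟩) (.one ⟨11091, 5, 6⟩)) (.node 1 (.one ⟨6191, 2, 2⟩) (.one ⟨15524, 4, 5⟩)))) (.node 4 (.node 2 (.node 1 (.one ⟨8416, 0, 5⟩) (.one ⟨7926, 4, 6⟩)) (.node 1 (.one ⟨853, 5, 5⟩) (.one ⟨7781, 0, 6⟩))) (.node 2 (.node 1 (.one ⟨14625, 3, 5⟩) (.one ⟨14133, 4, 5⟩)) (.node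 1 (.one ⟨3173, 4, 6⟩) (.one ⟨13853, 5, 6⟩))))) (.node 8 (.node 4 (.node 2 (.node 1 (.one ⟨2165, 5, 6⟩) (.one ⟨8471, 2, 5⟩)) (.node 1 (.one ⟨9057, 2, 5⟩) (.one ⟨12031, 3, 6⟩))) (.node 2 (.node 1 (.one ⟨8319, 2, 3⟩) (.one ⟨1620, 1, 6⟩)) (.node 1 (.one ⟨15076, 4, 5⟩) (.one ⟨13005, 5, 6⟩)))) (.node 4 (.node 2 (.node 1 (.one ⟨1316, 3, 6⟩) (.one ⟨855, 2, 5⟩)) (.node 1 (.one ⟨11457, 4, 5⟩) (.one ⟨5037, 5, 4⟩))) (.node 2 (.node 1 (.one ⟨822, 1, 6⟩) (.one ⟨6191, 0, 2⟩)) (.node 1 (.one ⟨11951, 3, 6⟩) (.one ⟨7288, 3, 5⟩)))))))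
def par2_16_2 : Arr Par :=
  (.node 32 (.node 16 (.node 8 (.node 4 (.node 2 (.node 1 (.one ⟨16066, 3, 5⟩) (.one ⟨11909, 2, 4⟩)) (.node 1 (.one ⟨13993, 5, 6⟩) (.one ⟨10399, 1, 5⟩))) (.node 2 (.node 1 (.one ⟨7385, 3, 4⟩) (.one ⟨16451, 2, 2⟩)) (.node 1 (.one ⟨6769, 2, 5⟩) (.one ⟨511, 4, 5⟩)))) (.node 4 (.node 2 (.node 1 (.one ⟨9381, 5, 6⟩) (.one ⟨5147, 2, 5⟩)) (.node 1 (.one ⟨15416, 3, 5⟩) (.one ⟨379, 4, 5⟩))) (.node 2 (.node 1 (.one ⟨592, 4, 5⟩) (.one ⟨17191, 1, 4⟩)) (.node 1 (.one ⟨421, 3, 5⟩) (.one ⟨16138, 4, 5⟩))))) (.node 8 (.node 4 (.node 2 (.node 1 (.one ⟨2874, 5, 5⟩) (.one ⟨9827, 4, 6⟩)) (.node 1 (.one ⟨1336, 1, 4⟩) (.one ⟨13029, 3, 4⟩))) (.node 2 (.node 1 (.one ⟨8416, 2, 5⟩) (.one ⟨14804, 2, 5⟩)) (.node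 1 (.one ⟨3105, 1, 5⟩) (.one ⟨7890, 4, 6⟩)))) (.node 4 (.node 2 (.node 1 (.one ⟨3835, 4, 5⟩) (.one ⟨8466, 1, 4⟩)) (.node 1 (.one ⟨1158, 2, 4⟩) (.one ⟨7085, 2, 5⟩))) (.node 2 (.node 1 (.one ⟨5248, 1, 6⟩) (.one ⟨7276, 3, 4⟩)) (.node 1 (.one ⟨7853, 1, 4⟩) (.one ⟨4747, 1, 4⟩)))))) (.node 16 (.node 8 (.node 4 (.node 2 (.node 1 (.one ⟨15150, 5, 5⟩) (.one ⟨7863, 4, 5⟩)) (.node 1 (.one ⟨5637, 5, 5⟩) (.one ⟨3312, 2, 4⟩))) (.node 2 (.node 1 (.one ⟨4439, 1, 6⟩) (.one ⟨15113, 2, 5⟩)) (.node 1 (.one ⟨12466, 5, 5⟩) (.one ⟨1651, 3, 5⟩)))) (.node 4 (.node 2 (.node 1 (.one ⟨1727, 4, 2⟩) (.one ⟨15696, 5, 6⟩)) (.node 1 (.one ⟨7944, 4, 6⟩) (.one ⟨1212, 0, 5⟩))) (.node 2 (.node 1 (.one ⟨9662, 3, 6⟩) (.one ⟨2378, 2, 6⟩)) (.node 1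 (.one ⟨4444, 1, 5⟩) (.one ⟨11966, 5, 6⟩))))) (.node 8 (.node 4 (.node 2 (.node 1 (.one ⟨12690, 5, 7⟩) (.one ⟨3156, 5, 6⟩)) (.node 1 (.one ⟨9349, 1, 6⟩) (.one ⟨4312, 3, 5⟩))) (.node 2 (.node 1 (.one ⟨13652, 2, 6⟩) (.one ⟨16968, 5, 5⟩)) (.node 1 (.one ⟨15868, 5, 5⟩) (.one ⟨10443, 3, 5⟩)))) (.node 4 (.node 2 (.node 1 (.one ⟨15340, 2, 5⟩) (.one ⟨16109, 2, 6⟩)) (.node 1 (.one ⟨1016, 3, 6⟩) (.one ⟨7745, 0, 6⟩))) (.node 2 (.node 1 (.one ⟨7501, 1, 5⟩) (.one ⟨7502, 1, 5⟩)) (.node 1 (.one ⟨7008, 5, 4⟩) (.one ⟨8744, 2, 4⟩)))))))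
def par2_16_3 : Arr Par :=
  (.node 32 (.node 16 (.node 8 (.node 4 (.node 2 (.node 1 (.one ⟨2722, 3, 6⟩) (.one ⟨15368, 5, 6⟩)) (.node 1 (.one ⟨10920, 0, 6⟩) (.one ⟨11544, 4, 6⟩))) (.node 2 (.node 1 (.one ⟨7013, 3, 5⟩) (.one ⟨11157, 0, 5⟩)) (.node 1 (.one ⟨7579, 4, 5⟩) (.one ⟨13921, 4, 5⟩)))) (.node 4 (.node 2 (.node 1 (.one ⟨1188, 2, 5⟩) (.one ⟨14559, 0, 4⟩)) (.node 1 (.one ⟨9327, 2, 4⟩) (.one ⟨9923, 2, 5⟩))) (.node 2 (.node 1 (.one ⟨9171, 2, 6⟩) (.one ⟨1865, 2, 6⟩)) (.node 1 (.one ⟨12620, 1, 6⟩) (.one ⟨16280, 1, 6⟩))))) (.node 8 (.node 4 (.node 2 (.node 1 (.one ⟨696, 5, 6⟩) (.one ⟨14487, 3, 6⟩)) (.node 1 (.one ⟨5391, 5, 5⟩) (.one ⟨14626, 5, 6⟩))) (.node 2 (.node 1 (.one ⟨5553, 4, 6⟩) (.one ⟨5105, 0, 4⟩)) (.node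 1 (.one ⟨13115, 4, 3⟩) (.one ⟨468, 1, 6⟩)))) (.node 4 (.node 2 (.node 1 (.one ⟨15297, 3, 5⟩) (.one ⟨1811, 4, 5⟩)) (.node 1 (.one ⟨8809, 1, 4⟩) (.one ⟨12291, 1, 4⟩))) (.node 2 (.node 1 (.one ⟨88, 2, 3⟩) (.one ⟨16793, 4, 6⟩)) (.node 1 (.one ⟨5276, 5, 6⟩) (.one ⟨3367, 4, 5⟩)))))) (.node 16 (.node 8 (.node 4 (.node 2 (.node 1 (.one ⟨15768, 2, 5⟩) (.one ⟨13471, 3, 4⟩)) (.node 1 (.one ⟨15793, 2, 5⟩) (.one ⟨5193, 4, 5⟩))) (.node 2 (.node 1 (.one ⟨6721, 5, 6⟩) (.one ⟨7365, 1, 4⟩)) (.node 1 (.one ⟨8668, 1, 3⟩) (.one ⟨2790, 0, 6⟩)))) (.node 4 (.node 2 (.node 1 (.one ⟨11831, 4, 5⟩) (.one ⟨11001, 1, 5⟩)) (.node 1 (.one ⟨14363, 1, 5⟩) (.one ⟨1657, 3, 5⟩))) (.node 2 (.node 1 (.one ⟨11951, 5, 6⟩) (.one ⟨4023, 2, 6⟩)) (.node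 1 (.one ⟨8699, 3, 6⟩) (.one ⟨4484, 1, 6⟩))))) (.node 8 (.node 4 (.node 2 (.node 1 (.one ⟨13610, 5, 5⟩) (.one ⟨10857, 4, 4⟩)) (.node 1 (.one ⟨2844, 4, 5⟩) (.one ⟨6669, 4, 5⟩))) (.node 2 (.node 1 (.one ⟨2781, 5, 5⟩) (.one ⟨9860, 2, 5⟩)) (.node 1 (.one ⟨5648, 1, 4⟩) (.one ⟨87, 2, 5⟩)))) (.node 4 (.node 2 (.node 1 (.one ⟨6620, 5, 4⟩) (.one ⟨13232, 0, 6⟩)) (.node 1 (.one ⟨9946, 5, 6⟩) (.one ⟨7708, 5, 5⟩))) (.node 2 (.node 1 (.one ⟨8091, 1, 6⟩) (.one ⟨10669, 4, 5⟩)) (.node 1 (.one ⟨4371, 4, 6⟩) (.one ⟨7422, 2, 6⟩)))))))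
def par2_16_4 : Arr Par :=
  (.node 32 (.node 16 (.node 8 (.node 4 (.node 2 (.node 1 (.one ⟨13441, 1, 5⟩) (.one ⟨2825, 1, 5⟩)) (.node 1 (.one ⟨11384, 2, 5⟩) (.one ⟨9352, 2, 5⟩))) (.node 2 (.node 1 (.one ⟨5780, 2, 5⟩) (.one ⟨5155, 0, 6⟩)) (.node 1 (.one ⟨5669, 2, 5⟩) (.one ⟨9675, 3, 4⟩)))) (.node 4 (.node 2 (.node 1 (.one ⟨14987, 4, 5⟩) (.one ⟨1130, 3, 5⟩)) (.node 1 (.one ⟨14402, 5, 6⟩) (.one ⟨11753, 5, 6⟩))) (.node 2 (.node 1 (.one ⟨4120, 1, 4⟩) (.one ⟨4443, 3, 4⟩)) (.node 1 (.one ⟨2052, 4, 6⟩) (.one ⟨2046, 1, 6⟩))))) (.node 8 (.node 4 (.node 2 (.node 1 (.one ⟨12470, 2, 4⟩) (.one ⟨1433, 1, 6⟩)) (.node 1 (.one ⟨10611, 5, 5⟩) (.one ⟨6464, 4, 4⟩))) (.node 2 (.node 1 (.one ⟨2700, 1, 6⟩) (.one ⟨13956, 1, 4⟩)) (.node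 1 (.one ⟨2817, 2, 3⟩) (.one ⟨11502, 2, 5⟩)))) (.node 4 (.node 2 (.node 1 (.one ⟨13076, 2, 4⟩) (.one ⟨1743, 1, 6⟩)) (.node 1 (.one ⟨16284, 3, 4⟩) (.one ⟨13942, 4, 6⟩))) (.node 2 (.node 1 (.one ⟨3332, 0, 5⟩) (.one ⟨13935, 4, 4⟩)) (.node 1 (.one ⟨13939, 4, 5⟩) (.one ⟨1838, 2, 5⟩)))))) (.node 16 (.node 8 (.node 4 (.node 2 (.node 1 (.one ⟨3319, 0, 4⟩) (.one ⟨5105, 5, 4⟩)) (.node 1 (.one ⟨10387, 1, 5⟩) (.one ⟨13777, 1, 5⟩))) (.node 2 (.node 1 (.one ⟨14599, 4, 1⟩) (.one ⟨8624, 4, 6⟩)) (.node 1 (.one ⟨7172, 5, 5⟩) (.one ⟨9053, 5, 4⟩)))) (.node 4 (.node 2 (.node 1 (.one ⟨14476, 1, 5⟩) (.one ⟨7822, 3, 5⟩)) (.node 1 (.one ⟨11517, 1, 6⟩) (.one ⟨1245, 4, 5⟩))) (.node 2 (.node 1 (.one ⟨16994, 1, 6⟩) (.one ⟨15540, 3, 5⟩))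 (.node 1 (.one ⟨86, 2, 3⟩) (.one ⟨15495, 5, 5⟩))))) (.node 8 (.node 4 (.node 2 (.node 1 (.one ⟨10389, 1, 5⟩) (.one ⟨2571, 4, 3⟩)) (.node 1 (.one ⟨7735, 5, 6⟩) (.one ⟨252, 4, 5⟩))) (.node 2 (.node 1 (.one ⟨8416, 3, 5⟩) (.one ⟨8178, 4, 5⟩)) (.node 1 (.one ⟨16955, 2, 5⟩) (.one ⟨11348, 0, 6⟩)))) (.node 4 (.node 2 (.node 1 (.one ⟨5210, 1, 6⟩) (.one ⟨12262, 5, 5⟩)) (.node 1 (.one ⟨13431, 1, 4⟩) (.one ⟨3980, 4, 5⟩))) (.node 2 (.node 1 (.one ⟨10862, 4, 5⟩) (.one ⟨11933, 3, 5⟩)) (.node 1 (.one ⟨15117, 0, 3⟩) (.one ⟨3181, 0, 6⟩)))))))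
def par2_16_5 : Arr Par :=
  (.node 32 (.node 16 (.node 8 (.node 4 (.node 2 (.node 1 (.one ⟨15984, 0, 5⟩) (.one ⟨1114, 0, 4⟩)) (.node 1 (.one ⟨1668, 5, 5⟩) (.one ⟨13828, 3, 4⟩))) (.node 2 (.node 1 (.one ⟨16098, 3, 6⟩) (.one ⟨1244, 5, 6⟩)) (.node 1 (.one ⟨3658, 3, 6⟩) (.one ⟨15491, 1, 5⟩)))) (.node 4 (.node 2 (.node 1 (.one ⟨4426, 2, 4⟩) (.one ⟨15986, 1, 5⟩)) (.node 1 (.one ⟨2046, 3, 6⟩) (.one ⟨3976, 4, 5⟩))) (.node 2 (.node 1 (.one ⟨10082, 1, 4⟩) (.one ⟨4427, 2, 6⟩)) (.node 1 (.one ⟨13047, 0, 6⟩) (.one ⟨3651, 3, 6⟩))))) (.node 8 (.node 4 (.node 2 (.node 1 (.one ⟨2378, 4, 6⟩) (.one ⟨16659, 0, 5⟩)) (.node 1 (.one ⟨678, 4, 4⟩) (.one ⟨4415, 5, 5⟩))) (.node 2 (.node 1 (.one ⟨1923, 0, 6⟩) (.one ⟨5097, 4, 5⟩)) (.node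 1 (.one ⟨16454, 4, 4⟩) (.one ⟨3941, 1, 6⟩)))) (.node 4 (.node 2 (.node 1 (.one ⟨6309, 0, 5⟩) (.one ⟨9045, 1, 4⟩)) (.node 1 (.one ⟨9366, 5, 5⟩) (.one ⟨8728, 1, 6⟩))) (.node 2 (.node 1 (.one ⟨13765, 2, 6⟩) (.one ⟨14208, 0, 6⟩)) (.node 1 (.one ⟨2338, 4, 4⟩) (.one ⟨15646, 3, 6⟩)))))) (.node 16 (.node 8 (.node 4 (.node 2 (.node 1 (.one ⟨15196, 4, 5⟩) (.one ⟨6306, 0, 4⟩)) (.node 1 (.one ⟨15191, 4, 5⟩) (.one ⟨8128, 3, 5⟩))) (.node 2 (.node 1 (.one ⟨6469, 3, 5⟩) (.one ⟨13901, 4, 5⟩)) (.node 1 (.one ⟨7982, 2, 5⟩) (.one ⟨3845, 4, 4⟩)))) (.node 4 (.node 2 (.node 1 (.one ⟨15846, 3, 6⟩) (.one ⟨10207, 0, 3⟩)) (.node 1 (.one ⟨8036, 4, 5⟩) (.one ⟨13532, 5, 5⟩))) (.node 2 (.node 1 (.one ⟨12120, 1, 5⟩) (.one ⟨13194, 0, 6⟩)) (.node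 1 (.one ⟨4775, 3, 5⟩) (.one ⟨8983, 1, 5⟩))))) (.node 8 (.node 4 (.node 2 (.node 1 (.one ⟨4515, 4, 6⟩) (.one ⟨4145, 5, 5⟩)) (.node 1 (.one ⟨12186, 1, 6⟩) (.one ⟨6069, 1, 4⟩))) (.node 2 (.node 1 (.one ⟨7200, 5, 4⟩) (.one ⟨436, 5, 5⟩)) (.node 1 (.one ⟨5434, 3, 5⟩) (.one ⟨15743, 5, 5⟩)))) (.node 4 (.node 2 (.node 1 (.one ⟨8573, 2, 6⟩) (.one ⟨6664, 1, 5⟩)) (.node 1 (.one ⟨8511, 5, 5⟩) (.one ⟨1164, 2, 5⟩))) (.node 2 (.node 1 (.one ⟨11879, 4, 6⟩) (.one ⟨6596, 5, 6⟩)) (.node 1 (.one ⟨13872, 3, 4⟩) (.one ⟨14699, 3, 4⟩)))))))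
def par2_16_6 : Arr Par :=
  (.node 32 (.node 16 (.node 8 (.node 4 (.node 2 (.node 1 (.one ⟨2463, 5, 5⟩) (.one ⟨5614, 3, 5⟩)) (.node 1 (.one ⟨5774, 0, 5⟩) (.one ⟨17195, 1, 6⟩))) (.node 2 (.node 1 (.one ⟨82, 1, 5⟩) (.one ⟨13649, 3, 5⟩)) (.node 1 (.one ⟨13732, 4, 6⟩) (.one ⟨1095, 2, 3⟩)))) (.node 4 (.node 2 (.node 1 (.one ⟨2340, 3, 5⟩) (.one ⟨15161, 3, 6⟩)) (.node 1 (.one ⟨16787, 0, 4⟩) (.one ⟨7275, 5, 6⟩))) (.node 2 (.node 1 (.one ⟨7819, 2, 6⟩) (.one ⟨2951, 0, 5⟩)) (.node 1 (.one ⟨14138, 5, 4⟩) (.one ⟨13214, 5, 6⟩))))) (.node 8 (.node 4 (.node 2 (.node 1 (.one ⟨5407, 1, 6⟩) (.one ⟨16208, 2, 5⟩)) (.node 1 (.one ⟨14584, 1, 6⟩) (.one ⟨7196, 3, 3⟩))) (.node 2 (.node 1 (.one ⟨3178, 0, 6⟩) (.one ⟨9661, 2, 5⟩)) (.node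 1 (.one ⟨4166, 2, 5⟩) (.one ⟨9353, 1, 4⟩)))) (.node 4 (.node 2 (.node 1 (.one ⟨6456, 5, 5⟩) (.one ⟨15191, 1, 5⟩)) (.node 1 (.one ⟨3849, 5, 5⟩) (.one ⟨7195, 2, 6⟩))) (.node 2 (.node 1 (.one ⟨4806, 5, 5⟩) (.one ⟨17036, 4, 6⟩)) (.node 1 (.one ⟨15212, 1, 6⟩) (.one ⟨8191, 4, 5⟩)))))) (.node 16 (.node 8 (.node 4 (.node 2 (.node 1 (.one ⟨14681, 3, 5⟩) (.one ⟨4431, 4, 5⟩)) (.node 1 (.one ⟨2334, 1, 5⟩) (.one ⟨15889, 0, 6⟩))) (.node 2 (.node 1 (.one ⟨15477, 4, 5⟩) (.one ⟨9820, 3, 2⟩)) (.node 1 (.one ⟨8608, 5, 6⟩) (.one ⟨754, 4, 5⟩)))) (.node 4 (.node 2 (.node 1 (.one ⟨5715, 1, 4⟩) (.one ⟨1265, 1, 4⟩)) (.node 1 (.one ⟨2950, 4, 2⟩) (.one ⟨16627, 5, 6⟩))) (.node 2 (.node 1 (.one ⟨13001, 3, 6⟩) (.one ⟨10798, 3, 5⟩)) (.node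 1 (.one ⟨16598, 2, 4⟩) (.one ⟨4479, 2, 6⟩))))) (.node 8 (.node 4 (.node 2 (.node 1 (.one ⟨14121, 5, 5⟩) (.one ⟨3451, 1, 5⟩)) (.node 1 (.one ⟨2527, 5, 3⟩) (.one ⟨2985, 3, 5⟩))) (.node 2 (.node 1 (.one ⟨8342, 4, 6⟩) (.one ⟨918, 2, 6⟩)) (.node 1 (.one ⟨9855, 5, 6⟩) (.one ⟨74, 5, 5⟩)))) (.node 4 (.node 2 (.node 1 (.one ⟨3476, 1, 4⟩) (.one ⟨10595, 2, 6⟩)) (.node 1 (.one ⟨9206, 5, 6⟩) (.one ⟨10642, 5, 5⟩))) (.node 2 (.node 1 (.one ⟨120, 2, 6⟩) (.one ⟨10576, 5, 6⟩)) (.node 1 (.one ⟨1754, 1, 5⟩) (.one ⟨8494, 2, 6⟩)))))))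
def par2_16_7 : Arr Par :=
  (.node 32 (.node 16 (.node 8 (.node 4 (.node 2 (.node 1 (.one ⟨15579, 2, 5⟩) (.one ⟨8319, 1, 3⟩)) (.node 1 (.one ⟨14, 3, 6⟩) (.one ⟨7040, 5, 6⟩))) (.node 2 (.node 1 (.one ⟨12367, 2, 6⟩) (.one ⟨2462, 1, 3⟩)) (.node 1 (.one ⟨16782, 2, 5⟩) (.one ⟨4351, 5, 6⟩)))) (.node 4 (.node 2 (.node 1 (.one ⟨13718, 4, 4⟩) (.one ⟨2083, 5, 5⟩)) (.node 1 (.one ⟨2927, 2, 5⟩) (.one ⟨6166, 3, 4⟩))) (.node 2 (.node 1 (.one ⟨5582, 5, 6⟩) (.one ⟨3990, 2, 5⟩)) (.node 1 (.one ⟨4999, 0, 6⟩) (.one ⟨7368, 4, 4⟩))))) (.node 8 (.node 4 (.node 2 (.node 1 (.one ⟨10701, 5, 6⟩) (.one ⟨15409, 0, 5⟩)) (.node 1 (.one ⟨4496, 0, 6⟩) (.one ⟨890, 2, 6⟩))) (.node 2 (.node 1 (.one ⟨15159, 2, 5⟩) (.one ⟨12451, 4, 5⟩)) (.node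 1 (.one ⟨1811, 0, 5⟩) (.one ⟨962, 3, 4⟩)))) (.node 4 (.node 2 (.node 1 (.one ⟨4267, 5, 6⟩) (.one ⟨15458, 5, 5⟩)) (.node 1 (.one ⟨6942, 5, 6⟩) (.one ⟨5994, 3, 5⟩))) (.node 2 (.node 1 (.one ⟨8338, 1, 6⟩) (.one ⟨1261, 5, 5⟩)) (.node 1 (.one ⟨14191, 4, 6⟩) (.one ⟨1676, 3, 6⟩)))))) (.node 16 (.node 8 (.node 4 (.node 2 (.node 1 (.one ⟨4514, 1, 4⟩) (.one ⟨11027, 5, 5⟩)) (.node 1 (.one ⟨15196, 2, 5⟩) (.one ⟨352, 2, 5⟩))) (.node 2 (.node 1 (.one ⟨9860, 5, 5⟩) (.one ⟨16734, 2, 5⟩)) (.node 1 (.one ⟨12268, 0, 7⟩) (.one ⟨15744, 4, 5⟩)))) (.node 4 (.node 2 (.node 1 (.one ⟨10659, 1, 7⟩) (.one ⟨15795, 5, 5⟩)) (.node 1 (.one ⟨14036, 2, 6⟩) (.one ⟨7119, 5, 6⟩))) (.node 2 (.node 1 (.one ⟨5381, 5, 4⟩) (.one ⟨11415, 4, 6⟩)) (.node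 1 (.one ⟨13403, 5, 4⟩) (.one ⟨607, 0, 3⟩))))) (.node 8 (.node 4 (.node 2 (.node 1 (.one ⟨13560, 2, 3⟩) (.one ⟨15786, 4, 6⟩)) (.node 1 (.one ⟨3346, 2, 5⟩) (.one ⟨16537, 5, 5⟩))) (.node 2 (.node 1 (.one ⟨17053, 5, 4⟩) (.one ⟨9369, 3, 6⟩)) (.node 1 (.one ⟨16693, 5, 6⟩) (.one ⟨477, 1, 5⟩)))) (.node 4 (.node 2 (.node 1 (.one ⟨1492, 3, 5⟩) (.one ⟨882, 4, 5⟩)) (.node 1 (.one ⟨11048, 2, 6⟩) (.one ⟨15364, 0, 4⟩))) (.node 2 (.node 1 (.one ⟨197, 1, 5⟩) (.one ⟨2371, 3, 5⟩)) (.node 1 (.one ⟨16107, 3, 5⟩) (.one ⟨4704, 2, 3⟩)))))))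
def par2_16_8 : Arr Par :=
  (.node 32 (.node 16 (.node 8 (.node 4 (.node 2 (.node 1 (.one ⟨4761, 5, 6⟩) (.one ⟨37, 4, 5⟩)) (.node 1 (.one ⟨9392, 4, 5⟩) (.one ⟨15239, 4, 6⟩))) (.node 2 (.node 1 (.one ⟨7111, 4, 6⟩) (.one ⟨7143, 4, 5⟩)) (.node 1 (.one ⟨15271, 4, 5⟩) (.one ⟨466, 5, 6⟩)))) (.node 4 (.node 2 (.node 1 (.one ⟨5789, 3, 4⟩) (.one ⟨7311, 5, 5⟩)) (.node 1 (.one ⟨1262, 5, 6⟩) (.one ⟨15452, 5, 5⟩))) (.node 2 (.node 1 (.one ⟨14741, 3, 6⟩) (.one ⟨13258, 2, 4⟩)) (.node 1 (.one ⟨14701, 3, 4⟩) (.one ⟨1363, 0, 5⟩))))) (.node 8 (.node 4 (.node 2 (.node 1 (.one ⟨15925, 4, 5⟩) (.one ⟨7774, 2, 6⟩)) (.node 1 (.one ⟨14983, 4, 5⟩) (.one ⟨6794, 2, 4⟩))) (.node 2 (.node 1 (.one ⟨7236, 5, 6⟩) (.one ⟨15118, 2, 6⟩)) (.node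 1 (.one ⟨15601, 0, 6⟩) (.one ⟨9829, 3, 5⟩)))) (.node 4 (.node 2 (.node 1 (.one ⟨6748, 5, 6⟩) (.one ⟨2428, 4, 5⟩)) (.node 1 (.one ⟨3278, 5, 5⟩) (.one ⟨6517, 5, 5⟩))) (.node 2 (.node 1 (.one ⟨20, 4, 5⟩) (.one ⟨9695, 1, 6⟩)) (.node 1 (.one ⟨15222, 1, 5⟩) (.one ⟨6252, 4, 5⟩)))))) (.node 16 (.node 8 (.node 4 (.node 2 (.node 1 (.one ⟨28, 3, 6⟩) (.one ⟨2398, 0, 6⟩)) (.node 1 (.one ⟨1512, 4, 5⟩) (.one ⟨8142, 3, 5⟩))) (.node 2 (.node 1 (.one ⟨16512, 5, 6⟩) (.one ⟨7013, 0, 5⟩)) (.node 1 (.one ⟨8135, 3, 6⟩) (.one ⟨1418, 5, 6⟩)))) (.node 4 (.node 2 (.node 1 (.one ⟨13558, 3, 5⟩) (.one ⟨8052, 3, 5⟩)) (.node 1 (.one ⟨7064, 5, 6⟩) (.one ⟨8747, 4, 5⟩))) (.node 2 (.node 1 (.one ⟨370, 4, 5⟩) (.one ⟨10933, 2, 4⟩)) (.node 1 (.one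 ⟨2338, 0, 4⟩) (.one ⟨9926, 5, 6⟩))))) (.node 8 (.node 4 (.node 2 (.node 1 (.one ⟨11583, 3, 5⟩) (.one ⟨15399, 2, 5⟩)) (.node 1 (.one ⟨9510, 0, 5⟩) (.one ⟨16212, 3, 6⟩))) (.node 2 (.node 1 (.one ⟨10509, 3, 5⟩) (.one ⟨15781, 5, 4⟩)) (.node 1 (.one ⟨6291, 3, 5⟩) (.one ⟨12823, 4, 6⟩)))) (.node 4 (.node 2 (.node 1 (.one ⟨4191, 4, 5⟩) (.one ⟨9481, 0, 6⟩)) (.node 1 (.one ⟨11926, 1, 4⟩) (.one ⟨11215, 4, 4⟩))) (.node 2 (.node 1 (.one ⟨2123, 5, 4⟩) (.one ⟨97, 0, 6⟩)) (.node 1 (.one ⟨7801, 0, 6⟩) (.one ⟨12291, 2, 4⟩)))))))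
def par2_16_9 : Arr Par :=
  (.node 32 (.node 16 (.node 8 (.node 4 (.node 2 (.node 1 (.one ⟨9065, 5, 3⟩) (.one ⟨1465, 4, 4⟩)) (.node 1 (.one ⟨10878, 2, 5⟩) (.one ⟨109, 1, 4⟩))) (.node 2 (.node 1 (.one ⟨16837, 5, 4⟩) (.one ⟨170, 1, 5⟩)) (.node 1 (.one ⟨5832, 2, 5⟩) (.one ⟨11659, 3, 5⟩)))) (.node 4 (.node 2 (.node 1 (.one ⟨10791, 5, 4⟩) (.one ⟨2187, 3, 5⟩)) (.node 1 (.one ⟨11723, 3, 5⟩) (.one ⟨10631, 3, 6⟩))) (.node 2 (.node 1 (.one ⟨4437, 1, 6⟩) (.one ⟨3980, 3, 5⟩)) (.node 1 (.one ⟨4901, 4, 5⟩) (.one ⟨9496, 0, 4⟩))))) (.node 8 (.node 4 (.node 2 (.node 1 (.one ⟨3873, 2, 6⟩) (.one ⟨16470, 4, 6⟩)) (.node 1 (.one ⟨6665, 3, 5⟩) (.one ⟨6493, 4, 4⟩))) (.node 2 (.node 1 (.one ⟨12995, 2, 5⟩) (.one ⟨13701, 1, 6⟩)) (.node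 1 (.one ⟨13007, 5, 4⟩) (.one ⟨4281, 3, 5⟩)))) (.node 4 (.node 2 (.node 1 (.one ⟨7749, 0, 5⟩) (.one ⟨13398, 3, 4⟩)) (.node 1 (.one ⟨110, 5, 5⟩) (.one ⟨3864, 2, 5⟩))) (.node 2 (.node 1 (.one ⟨4345, 3, 5⟩) (.one ⟨2187, 4, 5⟩)) (.node 1 (.one ⟨1225, 1, 6⟩) (.one ⟨5414, 5, 5⟩)))))) (.node 16 (.node 8 (.node 4 (.node 2 (.node 1 (.one ⟨8042, 2, 4⟩) (.one ⟨1450, 1, 5⟩)) (.node 1 (.one ⟨12696, 2, 5⟩) (.one ⟨2395, 4, 6⟩))) (.node 2 (.node 1 (.one ⟨11567, 0, 5⟩) (.one ⟨5189, 4, 6⟩)) (.node 1 (.one ⟨7151, 3, 6⟩) (.one ⟨6513, 2, 6⟩)))) (.node 4 (.node 2 (.node 1 (.one ⟨13163, 3, 6⟩) (.one ⟨13496, 5, 5⟩)) (.node 1 (.one ⟨12684, 2, 5⟩) (.one ⟨14976, 2, 5⟩))) (.node 2 (.node 1 (.one ⟨12404, 3, 5⟩) (.one ⟨8143, 5, 6⟩)) (.node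 1 (.one ⟨3957, 2, 5⟩) (.one ⟨8491, 1, 5⟩))))) (.node 8 (.node 4 (.node 2 (.node 1 (.one ⟨6140, 2, 5⟩) (.one ⟨5713, 3, 5⟩)) (.node 1 (.one ⟨14846, 5, 5⟩) (.one ⟨9731, 4, 6⟩))) (.node 2 (.node 1 (.one ⟨4210, 4, 6⟩) (.one ⟨3806, 5, 6⟩)) (.node 1 (.one ⟨12356, 4, 6⟩) (.one ⟨7258, 2, 6⟩)))) (.node 4 (.node 2 (.node 1 (.one ⟨3088, 3, 5⟩) (.one ⟨14201, 3, 6⟩)) (.node 1 (.one ⟨233, 2, 4⟩) (.one ⟨13255, 1, 5⟩))) (.node 2 (.node 1 (.one ⟨5854, 2, 6⟩) (.one ⟨4120, 0, 4⟩)) (.node 1 (.one ⟨8508, 5, 6⟩) (.one ⟨14689, 5, 4⟩)))))))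
def par2_16_10 : Arr Par :=
  (.node 32 (.node 16 (.node 8 (.node 4 (.node 2 (.node 1 (.one ⟨4991, 4, 6⟩) (.one ⟨12579, 0, 6⟩)) (.node 1 (.one ⟨12893, 2, 5⟩) (.one ⟨10118, 2, 5⟩))) (.node 2 (.node 1 (.one ⟨13164, 4, 5⟩) (.one ⟨3445, 2, 6⟩)) (.node 1 (.one ⟨15385, 2, 4⟩) (.one ⟨7910, 2, 5⟩)))) (.node 4 (.node 2 (.node 1 (.one ⟨14218, 4, 6⟩) (.one ⟨12259, 5, 5⟩)) (.node 1 (.one ⟨14835, 3, 6⟩) (.one ⟨5856, 1, 5⟩))) (.node 2 (.node 1 (.one ⟨3129, 5, 5⟩) (.one ⟨13737, 0, 5⟩)) (.node 1 (.one ⟨8837, 5, 4⟩) (.one ⟨1509, 5, 5⟩))))) (.node 8 (.node 4 (.node 2 (.node 1 (.one ⟨17138, 0, 6⟩) (.one ⟨14690, 0, 4⟩)) (.node 1 (.one ⟨6524, 1, 5⟩) (.one ⟨8845, 4, 6⟩))) (.node 2 (.node 1 (.one ⟨1976, 4, 5⟩) (.one ⟨14148, 4, 4⟩))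 (.node 1 (.one ⟨13283, 0, 5⟩) (.one ⟨16538, 4, 5⟩)))) (.node 4 (.node 2 (.node 1 (.one ⟨599, 4, 5⟩) (.one ⟨5961, 4, 3⟩)) (.node 1 (.one ⟨16867, 5, 6⟩) (.one ⟨2550, 4, 6⟩))) (.node 2 (.node 1 (.one ⟨13213, 0, 5⟩) (.one ⟨7196, 1, 3⟩)) (.node 1 (.one ⟨4540, 5, 5⟩) (.one ⟨13796, 3, 5⟩)))))) (.node 16 (.node 8 (.node 4 (.node 2 (.node 1 (.one ⟨17030, 1, 5⟩) (.one ⟨13729, 2, 5⟩)) (.node 1 (.one ⟨17177, 0, 5⟩) (.one ⟨3557, 4, 5⟩))) (.node 2 (.node 1 (.one ⟨8631, 2, 5⟩) (.one ⟨1700, 5, 6⟩)) (.node 1 (.one ⟨8904, 5, 6⟩) (.one ⟨4770, 5, 6⟩)))) (.node 4 (.node 2 (.node 1 (.one ⟨12312, 4, 6⟩) (.one ⟨9649, 5, 5⟩)) (.node 1 (.one ⟨1923, 2, 6⟩) (.one ⟨9011, 4, 5⟩))) (.node 2 (.node 1 (.one ⟨4029, 4, 6⟩) (.one ⟨10914, 3, 6⟩))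 (.node 1 (.one ⟨17109, 2, 5⟩) (.one ⟨13563, 2, 6⟩))))) (.node 8 (.node 4 (.node 2 (.node 1 (.one ⟨11585, 4, 6⟩) (.one ⟨2685, 1, 5⟩)) (.node 1 (.one ⟨2757, 2, 6⟩) (.one ⟨15249, 5, 5⟩))) (.node 2 (.node 1 (.one ⟨1323, 1, 5⟩) (.one ⟨10093, 2, 5⟩)) (.node 1 (.one ⟨13381, 5, 4⟩) (.one ⟨11300, 2, 6⟩)))) (.node 4 (.node 2 (.node 1 (.one ⟨2755, 5, 5⟩) (.one ⟨12538, 5, 5⟩)) (.node 1 (.one ⟨2354, 1, 5⟩) (.one ⟨3456, 5, 5⟩))) (.node 2 (.node 1 (.one ⟨678, 3, 4⟩) (.one ⟨652, 1, 5⟩)) (.node 1 (.one ⟨16099, 3, 6⟩) (.one ⟨5403, 1, 6⟩)))))))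
def par2_16_11 : Arr Par :=
  (.node 32 (.node 16 (.node 8 (.node 4 (.node 2 (.node 1 (.one ⟨6007, 5, 5⟩) (.one ⟨2800, 5, 5⟩)) (.node 1 (.one ⟨6335, 4, 6⟩) (.one ⟨12648, 3, 5⟩))) (.node 2 (.node 1 (.one ⟨14920, 0, 5⟩) (.one ⟨14326, 4, 4⟩)) (.node 1 (.one ⟨848, 4, 6⟩) (.one ⟨13558, 5, 5⟩)))) (.node 4 (.node 2 (.node 1 (.one ⟨2817, 5, 3⟩) (.one ⟨11446, 4, 5⟩)) (.node 1 (.one ⟨7276, 4, 4⟩) (.one ⟨8216, 1, 4⟩))) (.node 2 (.node 1 (.one ⟨3832, 5, 4⟩) (.one ⟨5034, 5, 6⟩)) (.node 1 (.one ⟨10920, 4, 6⟩) (.one ⟨9575, 1, 6⟩))))) (.node 8 (.node 4 (.node 2 (.node 1 (.one ⟨13120, 5, 4⟩) (.one ⟨16350, 2, 5⟩)) (.node 1 (.one ⟨11401, 5, 5⟩) (.one ⟨1202, 2, 6⟩))) (.node 2 (.node 1 (.one ⟨10264, 5, 6⟩) (.one ⟨12770, 5, 4⟩))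 (.node 1 (.one ⟨12508, 0, 6⟩) (.one ⟨16152, 5, 5⟩)))) (.node 4 (.node 2 (.node 1 (.one ⟨916, 4, 6⟩) (.one ⟨233, 1, 4⟩)) (.node 1 (.one ⟨11274, 3, 6⟩) (.one ⟨11308, 5, 6⟩))) (.node 2 (.node 1 (.one ⟨12229, 5, 5⟩) (.one ⟨14133, 1, 5⟩)) (.node 1 (.one ⟨11884, 5, 3⟩) (.one ⟨1497, 2, 6⟩)))))) (.node 16 (.node 8 (.node 4 (.node 2 (.node 1 (.one ⟨15146, 0, 5⟩) (.one ⟨6285, 4, 5⟩)) (.node 1 (.one ⟨5342, 5, 5⟩) (.one ⟨15497, 4, 6⟩))) (.node 2 (.node 1 (.one ⟨12543, 0, 6⟩) (.one ⟨1821, 0, 4⟩)) (.node 1 (.one ⟨666, 2, 5⟩) (.one ⟨14057, 0, 6⟩)))) (.node 4 (.node 2 (.node 1 (.one ⟨12936, 4, 6⟩) (.one ⟨13431, 5, 4⟩)) (.node 1 (.one ⟨12708, 5, 6⟩) (.one ⟨1470, 3, 5⟩))) (.node 2 (.node 1 (.one ⟨3634, 2, 5⟩) (.one ⟨10928, 3,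 5⟩)) (.node 1 (.one ⟨14959, 4, 4⟩) (.one ⟨11531, 5, 5⟩))))) (.node 8 (.node 4 (.node 2 (.node 1 (.one ⟨6517, 1, 5⟩) (.one ⟨12106, 4, 6⟩)) (.node 1 (.one ⟨15409, 5, 5⟩) (.one ⟨12494, 1, 5⟩))) (.node 2 (.node 1 (.one ⟨13748, 0, 6⟩) (.one ⟨10094, 4, 6⟩)) (.node 1 (.one ⟨14691, 0, 5⟩) (.one ⟨230, 1, 5⟩)))) (.node 4 (.node 2 (.node 1 (.one ⟨16295, 3, 5⟩) (.one ⟨5034, 0, 6⟩)) (.node 1 (.one ⟨411, 3, 6⟩) (.one ⟨9318, 3, 6⟩))) (.node 2 (.node 1 (.one ⟨12526, 4, 4⟩) (.one ⟨461, 1, 5⟩)) (.node 1 (.one ⟨8004, 3, 5⟩) (.one ⟨4347, 3, 3⟩)))))))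
def par2_16_12 : Arr Par :=
  (.node 23 (.node 11 (.node 5 (.node 2 (.node 1 (.one ⟨12542, 2, 5⟩) (.one ⟨6745, 5, 5⟩)) (.node 1 (.one ⟨11712, 5, 4⟩) (.node 1 (.one ⟨11229, 1, 5⟩) (.one ⟨2389, 5, 5⟩)))) (.node 3 (.node 1 (.one ⟨1116, 1, 5⟩) (.node 1 (.one ⟨1402, 1, 5⟩) (.one ⟨10933, 3, 4⟩))) (.node 1 (.one ⟨7254, 3, 5⟩) (.node 1 (.one ⟨11574, 5, 6⟩) (.one ⟨14909, 2, 6⟩))))) (.node 6 (.node 3 (.node 1 (.one ⟨1455, 1, 5⟩) (.node 1 (.one ⟨14574, 1, 5⟩) (.one ⟨6469, 4, 5⟩))) (.node 1 (.one ⟨2341, 1, 6⟩) (.node 1 (.one ⟨8391, 1, 5⟩) (.one ⟨3426, 5, 5⟩)))) (.node 3 (.node 1 (.one ⟨1871, 5, 6⟩) (.node 1 (.one ⟨421, 4, 5⟩) (.one ⟨5030, 5, 5⟩))) (.node 1 (.one ⟨1512, 3, 5⟩) (.node 1 (.one ⟨15604, 1, 5⟩) (.one ⟨2677, 4,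 4⟩)))))) (.node 12 (.node 6 (.node 3 (.node 1 (.one ⟨14192, 2, 5⟩) (.node 1 (.one ⟨9465, 4, 5⟩) (.one ⟨5315, 1, 4⟩))) (.node 1 (.one ⟨7450, 3, 5⟩) (.node 1 (.one ⟨12209, 4, 5⟩) (.one ⟨37, 1, 5⟩)))) (.node 3 (.node 1 (.one ⟨9508, 1, 4⟩) (.node 1 (.one ⟨13439, 1, 5⟩) (.one ⟨17078, 4, 5⟩))) (.node 1 (.one ⟨13774, 3, 6⟩) (.node 1 (.one ⟨5508, 4, 5⟩) (.one ⟨16341, 3, 5⟩))))) (.node 6 (.node 3 (.node 1 (.one ⟨11482, 3, 6⟩) (.node 1 (.one ⟨9956, 5, 5⟩) (.one ⟨12111, 5, 6⟩))) (.node 1 (.one ⟨11311, 4, 5⟩) (.node 1 (.one ⟨5406, 1, 3⟩) (.one ⟨12868, 5, 7⟩)))) (.node 3 (.node 1 (.one ⟨333, 0, 5⟩) (.node 1 (.one ⟨16743, 5, 5⟩) (.one ⟨16767, 4, 5⟩))) (.node 1 (.one ⟨4853, 5, 6⟩) (.node 1 (.one ⟨11846, 4, 4⟩) (.one ⟨3377,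 2, 4⟩)))))))
def par2_16 : Arr Par :=
  (.node 384 (.node 192 (.node 64 par2_16_0 (.node 64 par2_16_1 par2_16_2)) (.node 64 par2_16_3 (.node 64 par2_16_4 par2_16_5))) (.node 192 (.node 64 par2_16_6 (.node 64 par2_16_7 par2_16_8)) (.node 128 (.node 64 par2_16_9 par2_16_10) (.node 64 par2_16_11 par2_16_12))))
def par2 : Arr Par :=
  (.node 8192 (.node 4096 (.node 2048 (.node 1024 par2_0 par2_1) (.node 1024 par2_2 par2_3)) (.node 2048 (.node 1024 par2_4 par2_5) (.node 1024 par2_6 par2_7))) (.node 4096 (.node 2048 (.node 1024 par2_8 par2_9) (.node 1024 par2_10 par2_11)) (.node 2048 (.node 1024 par2_12 par2_13) (.node 1024 par2_14 (.node 1024 par2_15 par2_16)))))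

end CfsgLib.ThIndex62.Data
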