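import Cfsg.Agent.ThIndex62.Closure

/-! Orbit forest of node 3 on the points. -/

set_option autoImplicit false
set_option maxRecDepth 100000

namespace CfsgLib.ThIndex62.Data

open CfsgLib.ThModel83

def par3_0_0 : Arr Par :=
  (.node 32 (.node 16 (.node 8 (.node 4 (.node 2 (.node 1 (.one ⟨587, 0, 4⟩) (.one ⟨82, 0, 4⟩)) (.node 1 (.one ⟨595, 0, 4⟩) (.one ⟨3099, 5, 1⟩))) (.node 2 (.node 1 (.one ⟨5939, 3, 2⟩) (.one ⟨876, 6, 4⟩)) (.node 1 (.one ⟨3756, 6, 4⟩) (.one ⟨11271, 3, 2⟩)))) (.node 4 (.node 2 (.node 1 (.one ⟨6530, 6, 5⟩) (.one ⟨13470, 5, 4⟩)) (.node 1 (.one ⟨15563, 3, 2⟩) (.one ⟨8780, 6, 4⟩))) (.node 2 (.node 1 (.one ⟨10739, 5, 4⟩) (.one ⟨3631, 3, 2⟩)) (.node 1 (.one ⟨7660, 6, 5⟩) (.one ⟨5469, 6, 4⟩)))))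 (.node 8 (.node 4 (.node 2 (.node 1 (.one ⟨5364, 5, 3⟩) (.one ⟨7667, 3, 2⟩)) (.node 1 (.one ⟨13415, 3, 2⟩) (.one ⟨12332, 6, 4⟩))) (.node 2 (.node 1 (.one ⟨6396, 5, 4⟩) (.one ⟨9943, 0, 4⟩)) (.node 1 (.one ⟨4844, 5, 3⟩) (.one ⟨758, 6, 4⟩)))) (.node 4 (.node 2 (.node 1 (.one ⟨11758, 5, 3⟩) (.one ⟨16875, 3, 2⟩)) (.node 1 (.one ⟨10354, 6, 4⟩) (.one ⟨1033, 6, 4⟩))) (.node 2 (.node 1 (.one ⟨3264, 6, 5⟩) (.one ⟨3364, 5, 3⟩)) (.node 1 (.one ⟨247, 6, 4⟩) (.one ⟨7041, 6, 5⟩)))))) (.node 16 (.node 8 (.node 4 (.node 2 (.node 1 (.one ⟨13497, 5, 3⟩) (.one ⟨13960, 0, 4⟩)) (.node 1 (.one ⟨446, 6, 4⟩) (.one ⟨579, 0, 4⟩))) (.node 2 (.node 1 (.one ⟨74, 0, 4⟩) (.one ⟨610, 0, 4⟩)) (.node 1 (.one ⟨79, 0, 4⟩) (.one ⟨4068, 5, 4⟩))))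 (.node 4 (.node 2 (.node 1 (.one ⟨3776, 6, 4⟩) (.one ⟨11146, 5, 4⟩)) (.node 1 (.one ⟨16953, 4, 3⟩) (.one ⟨1836, 6, 4⟩))) (.node 2 (.node 1 (.one ⟨11028, 6, 5⟩) (.one ⟨10523, 6, 4⟩)) (.node 1 (.one ⟨11718, 5, 4⟩) (.one ⟨6779, 5, 3⟩))))) (.node 8 (.node 4 (.node 2 (.node 1 (.one ⟨10733, 0, 3⟩) (.one ⟨3224, 5, 4⟩)) (.node 1 (.one ⟨15269, 6, 5⟩) (.one ⟨1873, 4, 2⟩))) (.node 2 (.node 1 (.one ⟨12675, 6, 5⟩) (.one ⟨13566, 4, 2⟩)) (.node 1 (.one ⟨6232, 5, 4⟩) (.one ⟨13207, 4, 3⟩)))) (.node 4 (.node 2 (.node 1 (.one ⟨10672, 6, 5⟩) (.one ⟨11325, 6, 3⟩)) (.node 1 (.one ⟨8787, 6, 5⟩) (.one ⟨6249, 5, 3⟩))) (.node 2 (.node 1 (.one ⟨10772, 6, 5⟩) (.one ⟨13846, 6, 5⟩)) (.node 1 (.one ⟨14820, 5, 4⟩) (.one ⟨12325, 6, 4⟩)))))))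
def par3_0_1 : Arr Par :=
  (.node 32 (.node 16 (.node 8 (.node 4 (.node 2 (.node 1 (.one ⟨9494, 3, 4⟩) (.one ⟨4385, 6, 4⟩)) (.node 1 (.one ⟨6493, 6, 4⟩) (.one ⟨10231, 6, 4⟩))) (.node 2 (.node 1 (.one ⟨508, 6, 4⟩) (.one ⟨1559, 3, 4⟩)) (.node 1 (.one ⟨9651, 6, 4⟩) (.one ⟨6327, 6, 3⟩)))) (.node 4 (.node 2 (.node 1 (.one ⟨12324, 6, 4⟩) (.one ⟨9196, 3, 4⟩)) (.node 1 (.one ⟨4384, 6, 3⟩) (.one ⟨8263, 5, 5⟩))) (.node 2 (.node 1 (.one ⟨14391, 1, 3⟩) (.one ⟨15687, 6, 4⟩)) (.node 1 (.one ⟨9647, 6, 3⟩) (.one ⟨7685, 6, 3⟩))))) (.node 8 (.node 4 (.node 2 (.node 1 (.one ⟨199, 6, 4⟩) (.one ⟨14459, 6, 1⟩)) (.node 1 (.one ⟨6492, 6, 3⟩) (.one ⟨6330, 6, 4⟩))) (.node 2 (.node 1 (.one ⟨14615, 6, 4⟩) (.one ⟨8095, 6, 4⟩)) (.node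 1 (.one ⟨9654, 6, 4⟩) (.one ⟨16107, 6, 4⟩)))) (.node 4 (.node 2 (.node 1 (.one ⟨381, 6, 4⟩) (.one ⟨16299, 4, 2⟩)) (.node 1 (.one ⟨9848, 0, 4⟩) (.one ⟨11438, 6, 4⟩))) (.node 2 (.node 1 (.one ⟨17146, 4, 2⟩) (.one ⟨6696, 5, 4⟩)) (.node 1 (.one ⟨9945, 6, 3⟩) (.one ⟨11999, 5, 4⟩)))))) (.node 16 (.node 8 (.node 4 (.node 2 (.node 1 (.one ⟨13251, 3, 2⟩) (.one ⟨5849, 3, 2⟩)) (.node 1 (.one ⟨7658, 5, 5⟩) (.one ⟨2473, 6, 3⟩))) (.node 2 (.node 1 (.one ⟨14732, 6, 4⟩) (.one ⟨14672, 5, 4⟩)) (.node 1 (.one ⟨13161, 4, 2⟩) (.one ⟨14332, 6, 4⟩)))) (.node 4 (.node 2 (.node 1 (.one ⟨12676, 6, 5⟩) (.one ⟨12290, 0, 2⟩)) (.node 1 (.one ⟨182, 6, 5⟩) (.one ⟨3879, 5, 3⟩))) (.node 2 (.node 1 (.one ⟨1491, 0, 3⟩) (.one ⟨8945, 5, 2⟩)) (.node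 1 (.one ⟨6180, 0, 4⟩) (.one ⟨1799, 2, 1⟩))))) (.node 8 (.node 4 (.node 2 (.node 1 (.one ⟨8978, 6, 3⟩) (.one ⟨15900, 5, 4⟩)) (.node 1 (.one ⟨8672, 6, 5⟩) (.one ⟨14349, 6, 3⟩))) (.node 2 (.node 1 (.one ⟨6498, 4, 4⟩) (.one ⟨14514, 4, 3⟩)) (.node 1 (.one ⟨188, 4, 4⟩) (.one ⟨12630, 5, 5⟩)))) (.node 4 (.node 2 (.node 1 (.one ⟨16351, 0, 4⟩) (.one ⟨1805, 1, 0⟩)) (.node 1 (.one ⟨4493, 5, 4⟩) (.one ⟨893, 6, 3⟩))) (.node 2 (.node 1 (.one ⟨6473, 4, 4⟩) (.one ⟨10289, 6, 3⟩)) (.node 1 (.one ⟨14081, 6, 3⟩) (.one ⟨10639, 6, 2⟩)))))))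
def par3_0_2 : Arr Par :=
  (.node 32 (.node 16 (.node 8 (.node 4 (.node 2 (.node 1 (.one ⟨13162, 0, 4⟩) (.one ⟨4049, 2, 1⟩)) (.node 1 (.one ⟨16891, 5, 4⟩) (.one ⟨3810, 5, 4⟩))) (.node 2 (.node 1 (.one ⟨14524, 3, 4⟩) (.one ⟨14379, 3, 4⟩)) (.node 1 (.one ⟨10378, 5, 4⟩) (.one ⟨6013, 1, 4⟩)))) (.node 4 (.node 2 (.node 1 (.one ⟨8056, 5, 3⟩) (.one ⟨16346, 6, 4⟩)) (.node 1 (.one ⟨7937, 6, 4⟩) (.one ⟨14417, 6, 4⟩))) (.node 2 (.node 1 (.one ⟨5878, 6, 4⟩) (.one ⟨3638, 5, 4⟩)) (.node 1 (.one ⟨15660, 6, 5⟩) (.one ⟨9345, 5, 3⟩))))) (.node 8 (.node 4 (.node 2 (.node 1 (.one ⟨9350, 5, 3⟩) (.one ⟨9346, 5, 3⟩)) (.node 1 (.one ⟨14071, 1, 4⟩) (.one ⟨12808, 5, 5⟩))) (.node 2 (.node 1 (.one ⟨3896, 2, 1⟩) (.one ⟨7253, 5, 3⟩)) (.node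 1 (.one ⟨5889, 5, 3⟩) (.one ⟨5860, 6, 4⟩)))) (.node 4 (.node 2 (.node 1 (.one ⟨13096, 5, 3⟩) (.one ⟨175, 4, 4⟩)) (.node 1 (.one ⟨13632, 0, 4⟩) (.one ⟨3923, 5, 5⟩))) (.node 2 (.node 1 (.one ⟨8679, 6, 3⟩) (.one ⟨7595, 5, 2⟩)) (.node 1 (.one ⟨7615, 5, 5⟩) (.one ⟨7005, 3, 5⟩)))))) (.node 16 (.node 8 (.node 4 (.node 2 (.node 1 (.one ⟨4531, 1, 1⟩) (.one ⟨16497, 3, 3⟩)) (.node 1 (.one ⟨2385, 5, 3⟩) (.one ⟨15632, 5, 3⟩))) (.node 2 (.node 1 (.one ⟨115, 4, 4⟩) (.one ⟨7235, 1, 3⟩)) (.node 1 (.one ⟨14626, 0, 3⟩) (.one ⟨7903, 6, 4⟩)))) (.node 4 (.node 2 (.node 1 (.one ⟨2124, 0, 4⟩) (.one ⟨3329, 0, 4⟩)) (.node 1 (.one ⟨8947, 5, 4⟩) (.one ⟨14685, 5, 5⟩))) (.node 2 (.node 1 (.one ⟨3883, 5, 2⟩) (.one ⟨1148, 1, 3⟩)) (.node 1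 (.one ⟨16070, 5, 5⟩) (.one ⟨3189, 6, 3⟩))))) (.node 8 (.node 4 (.node 2 (.node 1 (.one ⟨425, 6, 3⟩) (.one ⟨12866, 6, 5⟩)) (.node 1 (.one ⟨11234, 5, 5⟩) (.one ⟨3815, 6, 3⟩))) (.node 2 (.node 1 (.one ⟨16978, 6, 4⟩) (.one ⟨9878, 0, 3⟩)) (.node 1 (.one ⟨13960, 6, 4⟩) (.one ⟨2695, 6, 5⟩)))) (.node 4 (.node 2 (.node 1 (.one ⟨15426, 5, 3⟩) (.one ⟨8482, 5, 5⟩)) (.node 1 (.one ⟨4455, 4, 3⟩) (.one ⟨7562, 5, 4⟩))) (.node 2 (.node 1 (.one ⟨14735, 6, 3⟩) (.one ⟨387, 6, 4⟩)) (.node 1 (.one ⟨8651, 6, 5⟩) (.one ⟨12889, 5, 4⟩)))))))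
def par3_0_3 : Arr Par :=
  (.node 32 (.node 16 (.node 8 (.node 4 (.node 2 (.node 1 (.one ⟨15609, 5, 3⟩) (.one ⟨14910, 5, 4⟩)) (.node 1 (.one ⟨2932, 5, 4⟩) (.one ⟨6600, 6, 3⟩))) (.node 2 (.node 1 (.one ⟨13659, 0, 4⟩) (.one ⟨10682, 0, 3⟩)) (.node 1 (.one ⟨6601, 5, 3⟩) (.one ⟨11967, 5, 3⟩)))) (.node 4 (.node 2 (.node 1 (.one ⟨13032, 6, 4⟩) (.one ⟨12167, 6, 5⟩)) (.node 1 (.one ⟨6795, 3, 2⟩) (.one ⟨7707, 3, 3⟩))) (.node 2 (.node 1 (.one ⟨5774, 5, 4⟩) (.one ⟨5816, 5, 4⟩)) (.node 1 (.one ⟨11162, 4, 3⟩) (.one ⟨3848, 3, 4⟩))))) (.node 8 (.node 4 (.node 2 (.node 1 (.one ⟨6743, 6, 3⟩) (.one ⟨2083, 5, 2⟩)) (.node 1 (.one ⟨3064, 4, 3⟩) (.one ⟨5276, 5, 4⟩))) (.node 2 (.node 1 (.one ⟨11427, 0, 4⟩) (.one ⟨16713, 5, 3⟩)) (.node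 1 (.one ⟨7619, 5, 3⟩) (.one ⟨11083, 5, 2⟩)))) (.node 4 (.node 2 (.node 1 (.one ⟨13622, 0, 3⟩) (.one ⟨616, 6, 4⟩)) (.node 1 (.one ⟨2629, 0, 3⟩) (.one ⟨10163, 5, 4⟩))) (.node 2 (.node 1 (.one ⟨15279, 5, 4⟩) (.one ⟨16044, 3, 2⟩)) (.node 1 (.one ⟨8617, 6, 3⟩) (.one ⟨889, 5, 3⟩)))))) (.node 16 (.node 8 (.node 4 (.node 2 (.node 1 (.one ⟨9012, 6, 3⟩) (.one ⟨16373, 5, 2⟩)) (.node 1 (.one ⟨14682, 5, 4⟩) (.one ⟨6108, 5, 3⟩))) (.node 2 (.node 1 (.one ⟨16063, 0, 4⟩) (.one ⟨11938, 0, 4⟩)) (.node 1 (.one ⟨7909, 5, 4⟩) (.one ⟨11049, 6, 3⟩)))) (.node 4 (.node 2 (.node 1 (.one ⟨11443, 5, 3⟩) (.one ⟨16462, 6, 4⟩)) (.node 1 (.one ⟨14544, 5, 2⟩) (.one ⟨3916, 6, 4⟩))) (.node 2 (.node 1 (.one ⟨11783, 5, 5⟩) (.one ⟨7058, 5, 3⟩))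 (.node 1 (.one ⟨7391, 4, 3⟩) (.one ⟨8511, 4, 3⟩))))) (.node 8 (.node 4 (.node 2 (.node 1 (.one ⟨16818, 5, 4⟩) (.one ⟨3563, 1, 2⟩)) (.node 1 (.one ⟨4615, 4, 2⟩) (.one ⟨3813, 4, 2⟩))) (.node 2 (.node 1 (.one ⟨3938, 0, 4⟩) (.one ⟨3729, 2, 1⟩)) (.node 1 (.one ⟨16295, 5, 4⟩) (.one ⟨16576, 5, 3⟩)))) (.node 4 (.node 2 (.node 1 (.one ⟨1738, 3, 3⟩) (.one ⟨7802, 5, 4⟩)) (.node 1 (.one ⟨12698, 4, 2⟩) (.one ⟨9998, 5, 4⟩))) (.node 2 (.node 1 (.one ⟨846, 6, 3⟩) (.one ⟨16697, 6, 5⟩)) (.node 1 (.one ⟨10678, 6, 5⟩) (.one ⟨10657, 5, 3⟩)))))))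
def par3_0_4 : Arr Par :=
  (.node 32 (.node 16 (.node 8 (.node 4 (.node 2 (.node 1 (.one ⟨5921, 0, 3⟩) (.one ⟨8511, 6, 3⟩)) (.node 1 (.one ⟨15491, 4, 2⟩) (.one ⟨5479, 5, 5⟩))) (.node 2 (.node 1 (.one ⟨15901, 6, 4⟩) (.one ⟨12178, 0, 4⟩)) (.node 1 (.one ⟨11949, 4, 4⟩) (.one ⟨346, 6, 3⟩)))) (.node 4 (.node 2 (.node 1 (.one ⟨16503, 6, 4⟩) (.one ⟨15022, 6, 4⟩)) (.node 1 (.one ⟨7587, 6, 3⟩) (.one ⟨14698, 4, 4⟩))) (.node 2 (.node 1 (.one ⟨971, 6, 3⟩) (.one ⟨15677, 5, 3⟩)) (.node 1 (.one ⟨5463, 6, 3⟩) (.one ⟨6100, 6, 5⟩))))) (.node 8 (.node 4 (.node 2 (.node 1 (.one ⟨1100, 3, 2⟩) (.one ⟨1107, 5, 4⟩)) (.node 1 (.one ⟨1103, 5, 3⟩) (.one ⟨1108, 5, 3⟩))) (.node 2 (.node 1 (.one ⟨1104, 5, 3⟩) (.one ⟨8013, 1, 3⟩)) (.node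 1 (.one ⟨14969, 3, 4⟩) (.one ⟨5821, 5, 5⟩)))) (.node 4 (.node 2 (.node 1 (.one ⟨7995, 6, 4⟩) (.one ⟨15632, 6, 3⟩)) (.node 1 (.one ⟨13300, 6, 3⟩) (.one ⟨10433, 5, 3⟩))) (.node 2 (.node 1 (.one ⟨9235, 5, 3⟩) (.one ⟨9236, 5, 5⟩)) (.node 1 (.one ⟨9232, 5, 3⟩) (.one ⟨9231, 5, 3⟩)))))) (.node 16 (.node 8 (.node 4 (.node 2 (.node 1 (.one ⟨17082, 6, 4⟩) (.one ⟨17057, 4, 3⟩)) (.node 1 (.one ⟨4624, 4, 4⟩) (.one ⟨12880, 6, 4⟩))) (.node 2 (.node 1 (.one ⟨8117, 1, 4⟩) (.one ⟨12812, 6, 4⟩)) (.node 1 (.one ⟨14614, 5, 4⟩) (.one ⟨12174, 5, 4⟩)))) (.node 4 (.node 2 (.node 1 (.one ⟨4586, 6, 3⟩) (.one ⟨14503, 5, 2⟩)) (.node 1 (.one ⟨8806, 0, 4⟩) (.one ⟨3887, 3, 4⟩))) (.node 2 (.node 1 (.one ⟨8025, 0, 4⟩) (.one ⟨14021, 5, 3⟩))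 (.node 1 (.one ⟨4640, 6, 4⟩) (.one ⟨12794, 5, 4⟩))))) (.node 8 (.node 4 (.node 2 (.node 1 (.one ⟨15440, 4, 2⟩) (.one ⟨5857, 6, 3⟩)) (.node 1 (.one ⟨10749, 5, 3⟩) (.one ⟨12912, 6, 4⟩))) (.node 2 (.node 1 (.one ⟨9055, 4, 5⟩) (.one ⟨12703, 5, 2⟩)) (.node 1 (.one ⟨7363, 4, 2⟩) (.one ⟨13246, 0, 4⟩)))) (.node 4 (.node 2 (.node 1 (.one ⟨1896, 0, 4⟩) (.one ⟨3874, 6, 1⟩)) (.node 1 (.one ⟨690, 6, 3⟩) (.one ⟨10060, 6, 3⟩))) (.node 2 (.node 1 (.one ⟨9521, 5, 4⟩) (.one ⟨9525, 5, 4⟩)) (.node 1 (.one ⟨9526, 5, 3⟩) (.one ⟨9522, 5, 5⟩)))))))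
def par3_0_5 : Arr Par :=
  (.node 32 (.node 16 (.node 8 (.node 4 (.node 2 (.node 1 (.one ⟨788, 6, 5⟩) (.one ⟨16878, 3, 2⟩)) (.node 1 (.one ⟨6353, 5, 4⟩) (.one ⟨8497, 4, 2⟩))) (.node 2 (.node 1 (.one ⟨4834, 5, 5⟩) (.one ⟨8070, 3, 2⟩)) (.node 1 (.one ⟨14274, 5, 4⟩) (.one ⟨15422, 3, 2⟩)))) (.node 4 (.node 2 (.node 1 (.one ⟨4601, 4, 3⟩) (.one ⟨2960, 2, 1⟩)) (.node 1 (.one ⟨10912, 3, 5⟩) (.one ⟨10303, 6, 4⟩))) (.node 2 (.node 1 (.one ⟨10306, 6, 4⟩) (.one ⟨11085, 5, 5⟩)) (.node 1 (.one ⟨12711, 4, 3⟩) (.one ⟨13302, 6, 3⟩))))) (.node 8 (.node 4 (.node 2 (.node 1 (.one ⟨14906, 6, 2⟩) (.one ⟨3661, 3, 2⟩)) (.node 1 (.one ⟨5226, 5, 5⟩) (.one ⟨12199, 0, 4⟩))) (.node 2 (.node 1 (.one ⟨920, 6, 3⟩) (.one ⟨14715, 6, 4⟩)) (.node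 1 (.one ⟨8129, 6, 3⟩) (.one ⟨17082, 4, 4⟩)))) (.node 4 (.node 2 (.node 1 (.one ⟨17103, 4, 3⟩) (.one ⟨11517, 3, 2⟩)) (.node 1 (.one ⟨5852, 3, 2⟩) (.one ⟨4500, 6, 3⟩))) (.node 2 (.node 1 (.one ⟨14671, 5, 4⟩) (.one ⟨14568, 4, 2⟩)) (.node 1 (.one ⟨11322, 5, 4⟩) (.one ⟨6727, 5, 5⟩)))))) (.node 16 (.node 8 (.node 4 (.node 2 (.node 1 (.one ⟨13164, 4, 3⟩) (.one ⟨6287, 1, 3⟩)) (.node 1 (.one ⟨1877, 5, 4⟩) (.one ⟨1526, 0, 4⟩))) (.node 2 (.node 1 (.one ⟨3880, 5, 5⟩) (.one ⟨16815, 0, 4⟩)) (.node 1 (.one ⟨6109, 5, 4⟩) (.one ⟨3095, 2, 1⟩)))) (.node 4 (.node 2 (.node 1 (.one ⟨17062, 0, 3⟩) (.one ⟨2589, 3, 4⟩)) (.node 1 (.one ⟨13622, 6, 3⟩) (.one ⟨5302, 5, 4⟩))) (.node 2 (.node 1 (.one ⟨2228, 5, 3⟩) (.one ⟨5480, 2, 1⟩)) (.node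 1 (.one ⟨3353, 5, 3⟩) (.one ⟨8163, 6, 3⟩))))) (.node 8 (.node 4 (.node 2 (.node 1 (.one ⟨3865, 4, 2⟩) (.one ⟨6783, 5, 3⟩)) (.node 1 (.one ⟨15553, 6, 4⟩) (.one ⟨10304, 5, 4⟩))) (.node 2 (.node 1 (.one ⟨15912, 6, 5⟩) (.one ⟨2763, 5, 4⟩)) (.node 1 (.one ⟨9571, 5, 4⟩) (.one ⟨2689, 1, 2⟩)))) (.node 4 (.node 2 (.node 1 (.one ⟨11912, 4, 2⟩) (.one ⟨4870, 5, 5⟩)) (.node 1 (.one ⟨15396, 1, 4⟩) (.one ⟨2870, 5, 5⟩))) (.node 2 (.node 1 (.one ⟨13456, 5, 4⟩) (.one ⟨8123, 5, 3⟩)) (.node 1 (.one ⟨12698, 5, 2⟩) (.one ⟨10346, 4, 2⟩)))))))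
def par3_0_6 : Arr Par :=
  (.node 32 (.node 16 (.node 8 (.node 4 (.node 2 (.node 1 (.one ⟨14514, 6, 3⟩) (.one ⟨12840, 6, 5⟩)) (.node 1 (.one ⟨16076, 5, 5⟩) (.one ⟨4402, 6, 3⟩))) (.node 2 (.node 1 (.one ⟨6039, 3, 4⟩) (.one ⟨2912, 6, 4⟩)) (.node 1 (.one ⟨9260, 0, 4⟩) (.one ⟨11410, 6, 5⟩)))) (.node 4 (.node 2 (.node 1 (.one ⟨15911, 6, 5⟩) (.one ⟨2564, 6, 5⟩)) (.node 1 (.one ⟨5360, 2, 1⟩) (.one ⟨11051, 6, 3⟩))) (.node 2 (.node 1 (.one ⟨15111, 3, 2⟩) (.one ⟨3393, 4, 2⟩)) (.node 1 (.one ⟨4075, 5, 3⟩) (.one ⟨11132, 5, 3⟩))))) (.node 8 (.node 4 (.node 2 (.node 1 (.one ⟨345, 4, 3⟩) (.one ⟨1394, 5, 3⟩)) (.node 1 (.one ⟨15129, 6, 5⟩) (.one ⟨1393, 5, 3⟩))) (.node 2 (.node 1 (.one ⟨96, 6, 3⟩) (.one ⟨3191, 0, 4⟩)) (.node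 1 (.one ⟨6705, 5, 5⟩) (.one ⟨949, 5, 4⟩)))) (.node 4 (.node 2 (.node 1 (.one ⟨5377, 5, 4⟩) (.one ⟨16717, 5, 5⟩)) (.node 1 (.one ⟨7986, 0, 4⟩) (.one ⟨4981, 3, 5⟩))) (.node 2 (.node 1 (.one ⟨3622, 5, 4⟩) (.one ⟨5595, 0, 5⟩)) (.node 1 (.one ⟨16009, 5, 4⟩) (.one ⟨10402, 5, 4⟩)))))) (.node 16 (.node 8 (.node 4 (.node 2 (.node 1 (.one ⟨8217, 0, 4⟩) (.one ⟨10657, 6, 3⟩)) (.node 1 (.one ⟨3789, 6, 3⟩) (.one ⟨11060, 4, 4⟩))) (.node 2 (.node 1 (.one ⟨6104, 5, 5⟩) (.one ⟨11789, 0, 4⟩)) (.node 1 (.one ⟨5409, 1, 3⟩) (.one ⟨16369, 5, 3⟩)))) (.node 4 (.node 2 (.node 1 (.one ⟨3791, 0, 4⟩) (.one ⟨3219, 0, 2⟩)) (.node 1 (.one ⟨6954, 3, 2⟩) (.one ⟨3928, 5, 3⟩))) (.node 2 (.node 1 (.one ⟨9943, 6, 4⟩) (.one ⟨15407, 1, 4⟩)) (.node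 1 (.one ⟨12931, 6, 4⟩) (.one ⟨12656, 6, 4⟩))))) (.node 8 (.node 4 (.node 2 (.node 1 (.one ⟨11019, 6, 4⟩) (.one ⟨5118, 6, 3⟩)) (.node 1 (.one ⟨16411, 5, 4⟩) (.one ⟨14744, 4, 4⟩))) (.node 2 (.node 1 (.one ⟨7479, 6, 4⟩) (.one ⟨7084, 1, 4⟩)) (.node 1 (.one ⟨15639, 5, 4⟩) (.one ⟨5885, 5, 4⟩)))) (.node 4 (.node 2 (.node 1 (.one ⟨16129, 5, 3⟩) (.one ⟨7273, 5, 3⟩)) (.node 1 (.one ⟨16538, 6, 3⟩) (.one ⟨9073, 3, 3⟩))) (.node 2 (.node 1 (.one ⟨1395, 6, 4⟩) (.one ⟨11907, 5, 4⟩)) (.node 1 (.one ⟨12537, 5, 3⟩) (.one ⟨5875, 0, 5⟩)))))))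
def par3_0_7 : Arr Par :=
  (.node 32 (.node 16 (.node 8 (.node 4 (.node 2 (.node 1 (.one ⟨9945, 3, 3⟩) (.one ⟨2338, 3, 3⟩)) (.node 1 (.one ⟨7051, 1, 3⟩) (.one ⟨14438, 5, 5⟩))) (.node 2 (.node 1 (.one ⟨5558, 0, 4⟩) (.one ⟨3400, 5, 2⟩)) (.node 1 (.one ⟨8656, 0, 3⟩) (.one ⟨6946, 5, 4⟩)))) (.node 4 (.node 2 (.node 1 (.one ⟨3423, 4, 3⟩) (.one ⟨1728, 5, 3⟩)) (.node 1 (.one ⟨14297, 4, 3⟩) (.one ⟨1044, 6, 4⟩))) (.node 2 (.node 1 (.one ⟨5771, 6, 3⟩) (.one ⟨1503, 6, 4⟩)) (.node 1 (.one ⟨16447, 6, 3⟩) (.one ⟨15751, 4, 4⟩))))) (.node 8 (.node 4 (.node 2 (.node 1 (.one ⟨15605, 5, 3⟩) (.one ⟨8079, 6, 4⟩)) (.node 1 (.one ⟨5742, 6, 4⟩) (.one ⟨954, 6, 3⟩))) (.node 2 (.node 1 (.one ⟨11978, 5, 4⟩) (.one ⟨11911, 4, 5⟩)) (.node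 1 (.one ⟨7630, 5, 5⟩) (.one ⟨2697, 6, 3⟩)))) (.node 4 (.node 2 (.node 1 (.one ⟨5791, 6, 5⟩) (.one ⟨7735, 5, 4⟩)) (.node 1 (.one ⟨10639, 3, 2⟩) (.one ⟨14413, 0, 4⟩))) (.node 2 (.node 1 (.one ⟨8620, 6, 3⟩) (.one ⟨12846, 6, 2⟩)) (.node 1 (.one ⟨5937, 6, 5⟩) (.one ⟨15667, 5, 4⟩)))))) (.node 16 (.node 8 (.node 4 (.node 2 (.node 1 (.one ⟨16263, 5, 4⟩) (.one ⟨7408, 5, 4⟩)) (.node 1 (.one ⟨1429, 6, 3⟩) (.one ⟨16367, 6, 5⟩))) (.node 2 (.node 1 (.one ⟨10086, 6, 4⟩) (.one ⟨9374, 0, 4⟩)) (.node 1 (.one ⟨16476, 6, 3⟩) (.one ⟨6141, 6, 4⟩)))) (.node 4 (.node 2 (.node 1 (.one ⟨3789, 4, 3⟩) (.one ⟨16405, 5, 3⟩)) (.node 1 (.one ⟨6601, 6, 3⟩) (.one ⟨3399, 0, 4⟩))) (.node 2 (.node 1 (.one ⟨335, 5, 4⟩) (.one ⟨11084, 5, 4⟩)) (.node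 1 (.one ⟨13042, 6, 4⟩) (.one ⟨2699, 6, 3⟩))))) (.node 8 (.node 4 (.node 2 (.node 1 (.one ⟨7067, 5, 4⟩) (.one ⟨8129, 4, 3⟩)) (.node 1 (.one ⟨12335, 6, 4⟩) (.one ⟨1708, 6, 4⟩))) (.node 2 (.node 1 (.one ⟨12605, 1, 4⟩) (.one ⟨1724, 6, 4⟩)) (.node 1 (.one ⟨8167, 4, 3⟩) (.one ⟨15605, 0, 3⟩)))) (.node 4 (.node 2 (.node 1 (.one ⟨14640, 5, 5⟩) (.one ⟨5002, 0, 3⟩)) (.node 1 (.one ⟨2490, 0, 4⟩) (.one ⟨4069, 3, 4⟩))) (.node 2 (.node 1 (.one ⟨13798, 5, 3⟩) (.one ⟨5802, 6, 5⟩)) (.node 1 (.one ⟨7763, 0, 3⟩) (.one ⟨4771, 5, 4⟩)))))))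
def par3_0_8 : Arr Par :=
  (.node 32 (.node 16 (.node 8 (.node 4 (.node 2 (.node 1 (.one ⟨659, 6, 3⟩) (.one ⟨10908, 5, 4⟩)) (.node 1 (.one ⟨13463, 1, 3⟩) (.one ⟨516, 6, 4⟩))) (.node 2 (.node 1 (.one ⟨14793, 6, 3⟩) (.one ⟨785, 5, 4⟩)) (.node 1 (.one ⟨6290, 5, 5⟩) (.one ⟨10289, 4, 3⟩)))) (.node 4 (.node 2 (.node 1 (.one ⟨13977, 5, 5⟩) (.one ⟨17090, 4, 2⟩)) (.node 1 (.one ⟨14220, 5, 3⟩) (.one ⟨4120, 5, 3⟩))) (.node 2 (.node 1 (.one ⟨3997, 6, 3⟩) (.one ⟨3566, 6, 3⟩)) (.node 1 (.one ⟨9587, 5, 4⟩) (.one ⟨6704, 6, 5⟩))))) (.node 8 (.node 4 (.node 2 (.node 1 (.one ⟨9590, 5, 3⟩) (.one ⟨9589, 5, 3⟩)) (.node 1 (.one ⟨3944, 6, 5⟩) (.one ⟨1311, 5, 3⟩))) (.node 2 (.node 1 (.one ⟨1315, 5, 3⟩) (.one ⟨1314, 5, 3⟩)) (.node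 1 (.one ⟨1318, 5, 5⟩) (.one ⟨3026, 4, 2⟩)))) (.node 4 (.node 2 (.node 1 (.one ⟨12173, 5, 3⟩) (.one ⟨14227, 0, 4⟩)) (.node 1 (.one ⟨5819, 0, 4⟩) (.one ⟨11719, 6, 5⟩))) (.node 2 (.node 1 (.one ⟨15555, 6, 5⟩) (.one ⟨2917, 6, 4⟩)) (.node 1 (.one ⟨8297, 6, 5⟩) (.one ⟨4365, 1, 2⟩)))))) (.node 16 (.node 8 (.node 4 (.node 2 (.node 1 (.one ⟨11062, 4, 2⟩) (.one ⟨9935, 0, 4⟩)) (.node 1 (.one ⟨11642, 6, 3⟩) (.one ⟨15787, 6, 4⟩))) (.node 2 (.node 1 (.one ⟨3426, 5, 5⟩) (.one ⟨10066, 6, 3⟩)) (.node 1 (.one ⟨10565, 0, 4⟩) (.one ⟨3120, 5, 4⟩)))) (.node 4 (.node 2 (.node 1 (.one ⟨13852, 4, 2⟩) (.one ⟨2565, 5, 5⟩)) (.node 1 (.one ⟨7375, 0, 4⟩) (.one ⟨321, 6, 3⟩))) (.node 2 (.node 1 (.one ⟨9314, 0, 3⟩) (.one ⟨10581, 5, 3⟩)) (.node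 1 (.one ⟨16368, 5, 4⟩) (.one ⟨11096, 6, 3⟩))))) (.node 8 (.node 4 (.node 2 (.node 1 (.one ⟨16466, 6, 5⟩) (.one ⟨16590, 5, 3⟩)) (.node 1 (.one ⟨5314, 6, 3⟩) (.one ⟨12886, 0, 5⟩))) (.node 2 (.node 1 (.one ⟨12502, 4, 2⟩) (.one ⟨1950, 5, 4⟩)) (.node 1 (.one ⟨15489, 5, 4⟩) (.one ⟨16883, 5, 3⟩)))) (.node 4 (.node 2 (.node 1 (.one ⟨16995, 5, 3⟩) (.one ⟨815, 6, 4⟩)) (.node 1 (.one ⟨6190, 0, 4⟩) (.one ⟨8982, 6, 3⟩))) (.node 2 (.node 1 (.one ⟨7357, 6, 3⟩) (.one ⟨14594, 0, 4⟩)) (.node 1 (.one ⟨9579, 5, 4⟩) (.one ⟨14455, 6, 4⟩)))))))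
def par3_0_9 : Arr Par :=
  (.node 32 (.node 16 (.node 8 (.node 4 (.node 2 (.node 1 (.one ⟨9298, 3, 4⟩) (.one ⟨14621, 6, 3⟩)) (.node 1 (.one ⟨4073, 6, 4⟩) (.one ⟨8101, 6, 3⟩))) (.node 2 (.node 1 (.one ⟨1365, 3, 4⟩) (.one ⟨664, 6, 4⟩)) (.node 1 (.one ⟨10238, 6, 4⟩) (.one ⟨984, 4, 4⟩)))) (.node 4 (.node 2 (.node 1 (.one ⟨6487, 6, 4⟩) (.one ⟨4387, 6, 4⟩)) (.node 1 (.one ⟨9385, 3, 4⟩) (.one ⟨6332, 6, 3⟩))) (.node 2 (.node 1 (.one ⟨10235, 6, 3⟩) (.one ⟨7681, 6, 4⟩)) (.node 1 (.one ⟨988, 6, 4⟩) (.one ⟨1212, 3, 4⟩))))) (.node 8 (.node 4 (.node 2 (.node 1 (.one ⟨16105, 6, 4⟩) (.one ⟨765, 6, 4⟩)) (.node 1 (.one ⟨15692, 6, 4⟩) (.one ⟨2033, 6, 3⟩))) (.node 2 (.node 1 (.one ⟨10482, 3, 5⟩) (.one ⟨14328, 6, 5⟩)) (.node 1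 (.one ⟨4417, 5, 4⟩) (.one ⟨428, 6, 5⟩)))) (.node 4 (.node 2 (.node 1 (.one ⟨4071, 6, 4⟩) (.one ⟨12322, 6, 4⟩)) (.node 1 (.one ⟨6490, 6, 3⟩) (.one ⟨14458, 6, 4⟩))) (.node 2 (.node 1 (.one ⟨845, 6, 4⟩) (.one ⟨7679, 6, 4⟩)) (.node 1 (.one ⟨8100, 6, 4⟩) (.one ⟨6387, 5, 1⟩)))))) (.node 16 (.node 8 (.node 4 (.node 2 (.node 1 (.one ⟨12319, 6, 4⟩) (.one ⟨6333, 6, 4⟩)) (.node 1 (.one ⟨4078, 6, 3⟩) (.one ⟨14619, 6, 4⟩))) (.node 2 (.node 1 (.one ⟨1320, 5, 4⟩) (.one ⟨1324, 5, 3⟩)) (.node 1 (.one ⟨1321, 5, 3⟩) (.one ⟨6172, 6, 5⟩)))) (.node 4 (.node 2 (.node 1 (.one ⟨7824, 6, 3⟩) (.one ⟨2065, 5, 3⟩)) (.node 1 (.one ⟨10279, 3, 4⟩) (.one ⟨1110, 6, 2⟩))) (.node 2 (.node 1 (.one ⟨12310, 4, 1⟩) (.one ⟨8747, 6, 3⟩)) (.node 1 (.one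 ⟨17025, 5, 5⟩) (.one ⟨15978, 6, 4⟩))))) (.node 8 (.node 4 (.node 2 (.node 1 (.one ⟨10568, 4, 4⟩) (.one ⟨2725, 5, 5⟩)) (.node 1 (.one ⟨16086, 6, 4⟩) (.one ⟨5467, 6, 5⟩))) (.node 2 (.node 1 (.one ⟨382, 6, 3⟩) (.one ⟨16701, 6, 2⟩)) (.node 1 (.one ⟨1492, 0, 4⟩) (.one ⟨10444, 5, 4⟩)))) (.node 4 (.node 2 (.node 1 (.one ⟨2572, 5, 3⟩) (.one ⟨6937, 5, 4⟩)) (.node 1 (.one ⟨5817, 5, 4⟩) (.one ⟨6479, 4, 3⟩))) (.node 2 (.node 1 (.one ⟨6479, 6, 3⟩) (.one ⟨12957, 6, 3⟩)) (.node 1 (.one ⟨1057, 4, 4⟩) (.one ⟨7744, 5, 2⟩)))))))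
def par3_0_10 : Arr Par :=
  (.node 32 (.node 16 (.node 8 (.node 4 (.node 2 (.node 1 (.one ⟨14077, 6, 5⟩) (.one ⟨1898, 4, 3⟩)) (.node 1 (.one ⟨13853, 5, 4⟩) (.one ⟨9576, 6, 4⟩))) (.node 2 (.node 1 (.one ⟨5034, 0, 3⟩) (.one ⟨14369, 1, 4⟩)) (.node 1 (.one ⟨3347, 5, 4⟩) (.one ⟨2243, 3, 3⟩)))) (.node 4 (.node 2 (.node 1 (.one ⟨13048, 3, 2⟩) (.one ⟨14880, 4, 2⟩)) (.node 1 (.one ⟨16995, 4, 3⟩) (.one ⟨8990, 5, 3⟩))) (.node 2 (.node 1 (.one ⟨14076, 5, 3⟩) (.one ⟨6720, 4, 2⟩)) (.node 1 (.one ⟨13241, 3, 4⟩) (.one ⟨2453, 0, 3⟩))))) (.node 8 (.node 4 (.node 2 (.node 1 (.one ⟨17152, 6, 3⟩) (.one ⟨160, 3, 2⟩)) (.node 1 (.one ⟨3861, 6, 3⟩) (.one ⟨12642, 5, 2⟩))) (.node 2 (.node 1 (.one ⟨14571, 4, 2⟩) (.one ⟨6769, 4, 2⟩))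 (.node 1 (.one ⟨15831, 5, 5⟩) (.one ⟨8982, 0, 3⟩)))) (.node 4 (.node 2 (.node 1 (.one ⟨4483, 5, 3⟩) (.one ⟨10596, 5, 4⟩)) (.node 1 (.one ⟨4736, 6, 2⟩) (.one ⟨12252, 1, 2⟩))) (.node 2 (.node 1 (.one ⟨2138, 0, 4⟩) (.one ⟨5365, 5, 5⟩)) (.node 1 (.one ⟨4509, 0, 4⟩) (.one ⟨2527, 4, 5⟩)))))) (.node 16 (.node 8 (.node 4 (.node 2 (.node 1 (.one ⟨10670, 4, 3⟩) (.one ⟨9591, 5, 5⟩)) (.node 1 (.one ⟨9592, 5, 3⟩) (.one ⟨9594, 5, 3⟩))) (.node 2 (.node 1 (.one ⟨9593, 5, 3⟩) (.one ⟨9827, 3, 4⟩)) (.node 1 (.one ⟨3729, 6, 1⟩) (.one ⟨7058, 6, 3⟩)))) (.node 4 (.node 2 (.node 1 (.one ⟨12299, 0, 4⟩) (.one ⟨2670, 0, 4⟩)) (.node 1 (.one ⟨6662, 4, 2⟩) (.one ⟨16226, 4, 2⟩))) (.node 2 (.node 1 (.one ⟨2753, 1, 3⟩) (.one ⟨17002, 5, 4⟩))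 (.node 1 (.one ⟨11321, 5, 4⟩) (.one ⟨16200, 4, 2⟩))))) (.node 8 (.node 4 (.node 2 (.node 1 (.one ⟨4785, 4, 3⟩) (.one ⟨16792, 6, 3⟩)) (.node 1 (.one ⟨3634, 3, 2⟩) (.one ⟨11274, 3, 2⟩))) (.node 2 (.node 1 (.one ⟨15834, 5, 4⟩) (.one ⟨1161, 3, 4⟩)) (.node 1 (.one ⟨5043, 5, 3⟩) (.one ⟨1054, 4, 4⟩)))) (.node 4 (.node 2 (.node 1 (.one ⟨2218, 5, 3⟩) (.one ⟨5144, 5, 4⟩)) (.node 1 (.one ⟨10605, 0, 4⟩) (.one ⟨15030, 4, 3⟩))) (.node 2 (.node 1 (.one ⟨16235, 5, 4⟩) (.one ⟨14498, 5, 4⟩)) (.node 1 (.one ⟨12502, 5, 2⟩) (.one ⟨14041, 6, 3⟩)))))))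
def par3_0_11 : Arr Par :=
  (.node 32 (.node 16 (.node 8 (.node 4 (.node 2 (.node 1 (.one ⟨6319, 0, 4⟩) (.one ⟨1598, 6, 5⟩)) (.node 1 (.one ⟨989, 4, 4⟩) (.one ⟨2973, 5, 3⟩))) (.node 2 (.node 1 (.one ⟨16610, 4, 3⟩) (.one ⟨11046, 5, 4⟩)) (.node 1 (.one ⟨7824, 4, 3⟩) (.one ⟨1896, 4, 4⟩)))) (.node 4 (.node 2 (.node 1 (.one ⟨5820, 5, 2⟩) (.one ⟨3552, 5, 3⟩)) (.node 1 (.one ⟨10061, 5, 3⟩) (.one ⟨8181, 6, 3⟩))) (.node 2 (.node 1 (.one ⟨11399, 6, 4⟩) (.one ⟨10480, 5, 5⟩)) (.node 1 (.one ⟨16305, 6, 4⟩) (.one ⟨3109, 5, 4⟩))))) (.node 8 (.node 4 (.node 2 (.node 1 (.one ⟨12329, 5, 4⟩) (.one ⟨9073, 6, 3⟩)) (.node 1 (.one ⟨14679, 6, 5⟩) (.one ⟨16285, 0, 5⟩))) (.node 2 (.node 1 (.one ⟨11596, 6, 3⟩) (.one ⟨691, 5, 3⟩)) (.node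 1 (.one ⟨8167, 6, 3⟩) (.one ⟨10337, 5, 4⟩)))) (.node 4 (.node 2 (.node 1 (.one ⟨10805, 6, 3⟩) (.one ⟨15697, 5, 4⟩)) (.node 1 (.one ⟨4402, 4, 3⟩) (.one ⟨7763, 6, 3⟩))) (.node 2 (.node 1 (.one ⟨2198, 6, 3⟩) (.one ⟨6715, 5, 4⟩)) (.node 1 (.one ⟨13610, 6, 3⟩) (.one ⟨7760, 6, 3⟩)))))) (.node 16 (.node 8 (.node 4 (.node 2 (.node 1 (.one ⟨13300, 0, 3⟩) (.one ⟨8592, 6, 3⟩)) (.node 1 (.one ⟨1738, 6, 3⟩) (.one ⟨11162, 6, 3⟩))) (.node 2 (.node 1 (.one ⟨5640, 5, 3⟩) (.one ⟨3915, 6, 3⟩)) (.node 1 (.one ⟨4450, 1, 5⟩) (.one ⟨2294, 5, 3⟩)))) (.node 4 (.node 2 (.node 1 (.one ⟨11715, 3, 4⟩) (.one ⟨3231, 6, 3⟩)) (.node 1 (.one ⟨15376, 6, 3⟩) (.one ⟨15593, 6, 4⟩))) (.node 2 (.node 1 (.one ⟨4767, 6, 4⟩) (.one ⟨2108, 0, 4⟩)) (.node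 1 (.one ⟨16224, 4, 3⟩) (.one ⟨2509, 0, 4⟩))))) (.node 8 (.node 4 (.node 2 (.node 1 (.one ⟨12397, 5, 5⟩) (.one ⟨5211, 6, 4⟩)) (.node 1 (.one ⟨4601, 6, 3⟩) (.one ⟨14017, 5, 5⟩))) (.node 2 (.node 1 (.one ⟨11514, 5, 4⟩) (.one ⟨15501, 5, 4⟩)) (.node 1 (.one ⟨7192, 5, 3⟩) (.one ⟨16147, 3, 2⟩)))) (.node 4 (.node 2 (.node 1 (.one ⟨8360, 6, 3⟩) (.one ⟨5632, 5, 3⟩)) (.node 1 (.one ⟨7357, 4, 3⟩) (.one ⟨3423, 6, 3⟩))) (.node 2 (.node 1 (.one ⟨5626, 4, 4⟩) (.one ⟨10171, 5, 3⟩)) (.node 1 (.one ⟨15464, 4, 3⟩) (.one ⟨16294, 0, 4⟩)))))))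
def par3_0_12 : Arr Par :=
  (.node 32 (.node 16 (.node 8 (.node 4 (.node 2 (.node 1 (.one ⟨11208, 5, 4⟩) (.one ⟨2312, 6, 3⟩)) (.node 1 (.one ⟨11628, 1, 4⟩) (.one ⟨13294, 6, 4⟩))) (.node 2 (.node 1 (.one ⟨2881, 6, 4⟩) (.one ⟨4772, 6, 4⟩)) (.node 1 (.one ⟨6943, 6, 4⟩) (.one ⟨2692, 5, 4⟩)))) (.node 4 (.node 2 (.node 1 (.one ⟨10675, 6, 4⟩) (.one ⟨4569, 4, 2⟩)) (.node 1 (.one ⟨12101, 5, 4⟩) (.one ⟨702, 6, 3⟩))) (.node 2 (.node 1 (.one ⟨6049, 5, 2⟩) (.one ⟨10501, 0, 4⟩)) (.node 1 (.one ⟨8592, 4, 3⟩) (.one ⟨2192, 6, 3⟩))))) (.node 8 (.node 4 (.node 2 (.node 1 (.one ⟨8992, 1, 3⟩) (.one ⟨1405, 5, 3⟩)) (.node 1 (.one ⟨2248, 4, 2⟩) (.one ⟨1406, 5, 5⟩))) (.node 2 (.node 1 (.one ⟨1402, 5, 4⟩) (.one ⟨8903, 1, 3⟩)) (.node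 1 (.one ⟨6101, 6, 5⟩) (.one ⟨639, 6, 3⟩)))) (.node 4 (.node 2 (.node 1 (.one ⟨16695, 6, 5⟩) (.one ⟨12671, 6, 5⟩)) (.node 1 (.one ⟨12623, 1, 3⟩) (.one ⟨3130, 5, 3⟩))) (.node 2 (.node 1 (.one ⟨11786, 3, 5⟩) (.one ⟨6366, 5, 3⟩)) (.node 1 (.one ⟨16632, 5, 3⟩) (.one ⟨12365, 6, 3⟩)))))) (.node 16 (.node 8 (.node 4 (.node 2 (.node 1 (.one ⟨5079, 6, 3⟩) (.one ⟨8705, 6, 5⟩)) (.node 1 (.one ⟨10433, 6, 3⟩) (.one ⟨5079, 4, 3⟩))) (.node 2 (.node 1 (.one ⟨13241, 5, 4⟩) (.one ⟨1640, 6, 3⟩)) (.node 1 (.one ⟨3071, 6, 4⟩) (.one ⟨16361, 0, 4⟩)))) (.node 4 (.node 2 (.node 1 (.one ⟨8004, 0, 4⟩) (.one ⟨13738, 6, 4⟩)) (.node 1 (.one ⟨12504, 5, 5⟩) (.one ⟨13785, 6, 3⟩))) (.node 2 (.node 1 (.one ⟨13856, 5, 5⟩) (.one ⟨6977, 3, 3⟩))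 (.node 1 (.one ⟨15437, 4, 4⟩) (.one ⟨11496, 6, 3⟩))))) (.node 8 (.node 4 (.node 2 (.node 1 (.one ⟨9529, 5, 3⟩) (.one ⟨7086, 3, 4⟩)) (.node 1 (.one ⟨9534, 5, 3⟩) (.one ⟨9530, 5, 3⟩))) (.node 2 (.node 1 (.one ⟨5220, 5, 4⟩) (.one ⟨15985, 5, 4⟩)) (.node 1 (.one ⟨3321, 0, 5⟩) (.one ⟨7744, 4, 2⟩)))) (.node 4 (.node 2 (.node 1 (.one ⟨5222, 6, 3⟩) (.one ⟨8943, 6, 5⟩)) (.node 1 (.one ⟨8721, 6, 5⟩) (.one ⟨10712, 1, 2⟩))) (.node 2 (.node 1 (.one ⟨2157, 0, 4⟩) (.one ⟨10442, 4, 2⟩)) (.node 1 (.one ⟨2959, 5, 4⟩) (.one ⟨15427, 6, 3⟩)))))))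
def par3_0_13 : Arr Par :=
  (.node 32 (.node 16 (.node 8 (.node 4 (.node 2 (.node 1 (.one ⟨12359, 6, 3⟩) (.one ⟨3742, 5, 4⟩)) (.node 1 (.one ⟨13480, 4, 4⟩) (.one ⟨6837, 6, 4⟩))) (.node 2 (.node 1 (.one ⟨16937, 6, 4⟩) (.one ⟨15680, 6, 3⟩)) (.node 1 (.one ⟨9934, 0, 4⟩) (.one ⟨15432, 4, 2⟩)))) (.node 4 (.node 2 (.node 1 (.one ⟨14276, 4, 2⟩) (.one ⟨7524, 5, 5⟩)) (.node 1 (.one ⟨3498, 5, 4⟩) (.one ⟨12650, 5, 4⟩))) (.node 2 (.node 1 (.one ⟨10176, 6, 5⟩) (.one ⟨5983, 5, 3⟩)) (.node 1 (.one ⟨14880, 5, 2⟩) (.one ⟨11670, 5, 5⟩))))) (.node 8 (.node 4 (.node 2 (.node 1 (.one ⟨10713, 5, 4⟩) (.one ⟨9239, 5, 4⟩)) (.node 1 (.one ⟨9240, 5, 3⟩) (.one ⟨9244, 5, 3⟩))) (.node 2 (.node 1 (.one ⟨15189, 6, 5⟩) (.one ⟨5698, 5, 4⟩))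 (.node 1 (.one ⟨4586, 4, 3⟩) (.one ⟨7691, 5, 3⟩)))) (.node 4 (.node 2 (.node 1 (.one ⟨8609, 4, 2⟩) (.one ⟨8178, 6, 3⟩)) (.node 1 (.one ⟨11404, 6, 4⟩) (.one ⟨9012, 4, 3⟩))) (.node 2 (.node 1 (.one ⟨8929, 1, 3⟩) (.one ⟨7566, 5, 2⟩)) (.node 1 (.one ⟨16544, 6, 3⟩) (.one ⟨11638, 1, 2⟩)))))) (.node 16 (.node 8 (.node 4 (.node 2 (.node 1 (.one ⟨2655, 5, 5⟩) (.one ⟨12793, 4, 2⟩)) (.node 1 (.one ⟨2467, 4, 2⟩) (.one ⟨4735, 6, 4⟩))) (.node 2 (.node 1 (.one ⟨5008, 6, 5⟩) (.one ⟨12108, 0, 4⟩)) (.node 1 (.one ⟨5474, 5, 4⟩) (.one ⟨4539, 5, 4⟩)))) (.node 4 (.node 2 (.node 1 (.one ⟨6311, 4, 2⟩) (.one ⟨15729, 4, 3⟩)) (.node 1 (.one ⟨6478, 4, 2⟩) (.one ⟨5863, 6, 4⟩))) (.node 2 (.node 1 (.one ⟨1832, 5, 3⟩) (.one ⟨7767, 3, 2⟩))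 (.node 1 (.one ⟨8314, 6, 3⟩) (.one ⟨16315, 3, 3⟩))))) (.node 8 (.node 4 (.node 2 (.node 1 (.one ⟨4210, 5, 4⟩) (.one ⟨2877, 5, 4⟩)) (.node 1 (.one ⟨6736, 6, 5⟩) (.one ⟨3050, 4, 3⟩))) (.node 2 (.node 1 (.one ⟨11836, 5, 4⟩) (.one ⟨11723, 6, 5⟩)) (.node 1 (.one ⟨15135, 0, 4⟩) (.one ⟨5890, 6, 5⟩)))) (.node 4 (.node 2 (.node 1 (.one ⟨15832, 5, 3⟩) (.one ⟨7670, 3, 2⟩)) (.node 1 (.one ⟨8784, 5, 4⟩) (.one ⟨5941, 3, 2⟩))) (.node 2 (.node 1 (.one ⟨16798, 6, 3⟩) (.one ⟨8068, 3, 2⟩)) (.node 1 (.one ⟨15181, 6, 3⟩) (.one ⟨3831, 4, 2⟩)))))))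
def par3_0_14 : Arr Par :=
  (.node 32 (.node 16 (.node 8 (.node 4 (.node 2 (.node 1 (.one ⟨3075, 6, 3⟩) (.one ⟨11507, 5, 4⟩)) (.node 1 (.one ⟨5127, 4, 1⟩) (.one ⟨2452, 4, 3⟩))) (.node 2 (.node 1 (.one ⟨13198, 5, 4⟩) (.one ⟨15068, 6, 5⟩)) (.node 1 (.one ⟨4529, 5, 4⟩) (.one ⟨12038, 5, 5⟩)))) (.node 4 (.node 2 (.node 1 (.one ⟨15916, 6, 5⟩) (.one ⟨15552, 6, 5⟩)) (.node 1 (.one ⟨6737, 6, 5⟩) (.one ⟨8301, 6, 2⟩))) (.node 2 (.node 1 (.one ⟨2466, 5, 4⟩) (.one ⟨1115, 5, 3⟩)) (.node 1 (.one ⟨1111, 5, 3⟩) (.one ⟨1116, 5, 3⟩))))) (.node 8 (.node 4 (.node 2 (.node 1 (.one ⟨1112, 5, 5⟩) (.one ⟨14926, 5, 4⟩)) (.node 1 (.one ⟨14148, 5, 4⟩) (.one ⟨14660, 0, 3⟩))) (.node 2 (.node 1 (.one ⟨11465, 4, 2⟩) (.one ⟨14877, 6, 3⟩))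 (.node 1 (.one ⟨12640, 5, 5⟩) (.one ⟨12000, 5, 4⟩)))) (.node 4 (.node 2 (.node 1 (.one ⟨15565, 3, 2⟩) (.one ⟨7669, 3, 2⟩)) (.node 1 (.one ⟨13419, 3, 2⟩) (.one ⟨16737, 5, 4⟩))) (.node 2 (.node 1 (.one ⟨1935, 5, 3⟩) (.one ⟨8316, 6, 3⟩)) (.node 1 (.one ⟨6498, 6, 4⟩) (.one ⟨1586, 5, 5⟩)))))) (.node 16 (.node 8 (.node 4 (.node 2 (.node 1 (.one ⟨14605, 0, 4⟩) (.one ⟨12208, 0, 4⟩)) (.node 1 (.one ⟨6831, 6, 4⟩) (.one ⟨11079, 6, 5⟩))) (.node 2 (.node 1 (.one ⟨11449, 5, 4⟩) (.one ⟨6629, 6, 4⟩)) (.node 1 (.one ⟨8998, 6, 4⟩) (.one ⟨15376, 0, 3⟩)))) (.node 4 (.node 2 (.node 1 (.one ⟨5047, 5, 3⟩) (.one ⟨15383, 6, 4⟩)) (.node 1 (.one ⟨15697, 3, 4⟩) (.one ⟨1689, 6, 3⟩))) (.node 2 (.node 1 (.one ⟨10172, 0, 3⟩) (.one ⟨4423,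 5, 4⟩)) (.node 1 (.one ⟨4424, 5, 3⟩) (.one ⟨15220, 5, 5⟩))))) (.node 8 (.node 4 (.node 2 (.node 1 (.one ⟨10096, 5, 4⟩) (.one ⟨6630, 5, 4⟩)) (.node 1 (.one ⟨13794, 5, 3⟩) (.one ⟨15095, 4, 5⟩))) (.node 2 (.node 1 (.one ⟨11241, 5, 3⟩) (.one ⟨15380, 6, 3⟩)) (.node 1 (.one ⟨1249, 1, 0⟩) (.one ⟨2730, 5, 3⟩)))) (.node 4 (.node 2 (.node 1 (.one ⟨8649, 0, 4⟩) (.one ⟨1313, 6, 2⟩)) (.node 1 (.one ⟨3377, 0, 2⟩) (.one ⟨13232, 5, 5⟩))) (.node 2 (.node 1 (.one ⟨6825, 4, 3⟩) (.one ⟨6743, 4, 3⟩)) (.node 1 (.one ⟨6047, 5, 5⟩) (.one ⟨14793, 4, 3⟩)))))))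
def par3_0_15 : Arr Par :=
  (.node 32 (.node 16 (.node 8 (.node 4 (.node 2 (.node 1 (.one ⟨4993, 6, 5⟩) (.one ⟨15259, 6, 4⟩)) (.node 1 (.one ⟨4455, 6, 3⟩) (.one ⟨11496, 4, 3⟩))) (.node 2 (.node 1 (.one ⟨7503, 4, 4⟩) (.one ⟨11527, 6, 3⟩)) (.node 1 (.one ⟨2793, 1, 4⟩) (.one ⟨13189, 6, 3⟩)))) (.node 4 (.node 2 (.node 1 (.one ⟨15426, 6, 3⟩) (.one ⟨6950, 6, 4⟩)) (.node 1 (.one ⟨12926, 5, 4⟩) (.one ⟨3393, 5, 2⟩))) (.node 2 (.node 1 (.one ⟨5309, 6, 4⟩) (.one ⟨4059, 3, 4⟩)) (.node 1 (.one ⟨7189, 5, 4⟩) (.one ⟨4652, 3, 2⟩))))) (.node 8 (.node 4 (.node 2 (.node 1 (.one ⟨1578, 3, 3⟩) (.one ⟨7223, 0, 5⟩)) (.node 1 (.one ⟨4522, 5, 4⟩) (.one ⟨3237, 6, 3⟩))) (.node 2 (.node 1 (.one ⟨17103, 6, 3⟩) (.one ⟨8210, 0, 4⟩)) (.node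 1 (.one ⟨9028, 6, 5⟩) (.one ⟨12057, 3, 4⟩)))) (.node 4 (.node 2 (.node 1 (.one ⟨16923, 6, 3⟩) (.one ⟨14589, 5, 4⟩)) (.node 1 (.one ⟨11065, 5, 5⟩) (.one ⟨13091, 0, 3⟩))) (.node 2 (.node 1 (.one ⟨16378, 5, 3⟩) (.one ⟨4578, 6, 3⟩)) (.node 1 (.one ⟨10228, 6, 4⟩) (.one ⟨2194, 6, 5⟩)))))) (.node 16 (.node 8 (.node 4 (.node 2 (.node 1 (.one ⟨5909, 6, 5⟩) (.one ⟨8874, 1, 4⟩)) (.node 1 (.one ⟨8257, 4, 4⟩) (.one ⟨11751, 6, 4⟩))) (.node 2 (.node 1 (.one ⟨5812, 0, 3⟩) (.one ⟨16259, 5, 3⟩)) (.node 1 (.one ⟨3702, 5, 4⟩) (.one ⟨12183, 4, 5⟩)))) (.node 4 (.node 2 (.node 1 (.one ⟨14870, 5, 5⟩) (.one ⟨6254, 6, 4⟩)) (.node 1 (.one ⟨13813, 6, 3⟩) (.one ⟨6430, 6, 4⟩))) (.node 2 (.node 1 (.one ⟨3815, 4, 3⟩) (.one ⟨11786, 5, 5⟩))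 (.node 1 (.one ⟨2086, 5, 5⟩) (.one ⟨7445, 5, 2⟩))))) (.node 8 (.node 4 (.node 2 (.node 1 (.one ⟨5814, 6, 3⟩) (.one ⟨5861, 6, 3⟩)) (.node 1 (.one ⟨5760, 6, 3⟩) (.one ⟨8161, 6, 4⟩))) (.node 2 (.node 1 (.one ⟨2856, 5, 3⟩) (.one ⟨10638, 0, 2⟩)) (.node 1 (.one ⟨7391, 6, 3⟩) (.one ⟨6825, 6, 3⟩)))) (.node 4 (.node 2 (.node 1 (.one ⟨4823, 1, 3⟩) (.one ⟨7890, 5, 4⟩)) (.node 1 (.one ⟨15626, 0, 4⟩) (.one ⟨16879, 1, 3⟩))) (.node 2 (.node 1 (.one ⟨8551, 6, 3⟩) (.one ⟨9762, 1, 2⟩)) (.node 1 (.one ⟨10909, 4, 2⟩) (.one ⟨5475, 4, 2⟩)))))))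
def par3_0 : Arr Par :=
  (.node 512 (.node 256 (.node 128 (.node 64 par3_0_0 par3_0_1) (.node 64 par3_0_2 par3_0_3)) (.node 128 (.node 64 par3_0_4 par3_0_5) (.node 64 par3_0_6 par3_0_7))) (.node 256 (.node 128 (.node 64 par3_0_8 par3_0_9) (.node 64 par3_0_10 par3_0_11)) (.node 128 (.node 64 par3_0_12 par3_0_13) (.node 64 par3_0_14 par3_0_15))))
def par3_1_0 : Arr Par :=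
  (.node 32 (.node 16 (.node 8 (.node 4 (.node 2 (.node 1 (.one ⟨4211, 4, 3⟩) (.one ⟨15695, 5, 5⟩)) (.node 1 (.one ⟨4922, 5, 4⟩) (.one ⟨3676, 5, 5⟩))) (.node 2 (.node 1 (.one ⟨9357, 5, 4⟩) (.one ⟨9353, 5, 3⟩)) (.node 1 (.one ⟨9358, 5, 5⟩) (.one ⟨9354, 5, 3⟩)))) (.node 4 (.node 2 (.node 1 (.one ⟨6299, 5, 5⟩) (.one ⟨16807, 5, 3⟩)) (.node 1 (.one ⟨5375, 6, 5⟩) (.one ⟨3072, 6, 3⟩))) (.node 2 (.node 1 (.one ⟨14028, 5, 4⟩) (.one ⟨4543, 5, 5⟩)) (.node 1 (.one ⟨10476, 0, 4⟩) (.one ⟨9056, 4, 2⟩))))) (.node 8 (.node 4 (.node 2 (.node 1 (.one ⟨15285, 6, 4⟩) (.one ⟨6033, 5, 3⟩)) (.node 1 (.one ⟨14210, 5, 4⟩) (.one ⟨3215, 5, 4⟩))) (.node 2 (.node 1 (.one ⟨12711, 6, 3⟩) (.one ⟨4617, 4, 3⟩)) (.node 1 (.one ⟨6660, 5, 4⟩) (.one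 ⟨3064, 6, 3⟩)))) (.node 4 (.node 2 (.node 1 (.one ⟨3874, 2, 1⟩) (.one ⟨6740, 6, 4⟩)) (.node 1 (.one ⟨8295, 6, 5⟩) (.one ⟨3596, 5, 4⟩))) (.node 2 (.node 1 (.one ⟨11721, 6, 5⟩) (.one ⟨15464, 6, 3⟩)) (.node 1 (.one ⟨15778, 6, 3⟩) (.one ⟨6134, 0, 4⟩)))))) (.node 16 (.node 8 (.node 4 (.node 2 (.node 1 (.one ⟨3237, 0, 3⟩) (.one ⟨3980, 6, 3⟩)) (.node 1 (.one ⟨15734, 5, 4⟩) (.one ⟨3998, 6, 4⟩))) (.node 2 (.node 1 (.one ⟨11848, 5, 3⟩) (.one ⟨474, 6, 3⟩)) (.node 1 (.one ⟨12489, 4, 2⟩) (.one ⟨4053, 2, 1⟩)))) (.node 4 (.node 2 (.node 1 (.one ⟨11412, 6, 4⟩) (.one ⟨15558, 6, 4⟩)) (.node 1 (.one ⟨6741, 6, 5⟩) (.one ⟨2916, 6, 5⟩))) (.node 2 (.node 1 (.one ⟨1660, 5, 4⟩) (.one ⟨5032, 6, 3⟩)) (.node 1 (.one ⟨15070, 6, 3⟩) (.one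 ⟨6542, 3, 4⟩))))) (.node 8 (.node 4 (.node 2 (.node 1 (.one ⟨9275, 5, 4⟩) (.one ⟨4691, 6, 4⟩)) (.node 1 (.one ⟨8281, 4, 2⟩) (.one ⟨17146, 5, 2⟩))) (.node 2 (.node 1 (.one ⟨14635, 3, 4⟩) (.one ⟨10353, 3, 4⟩)) (.node 1 (.one ⟨1281, 0, 1⟩) (.one ⟨10378, 3, 4⟩)))) (.node 4 (.node 2 (.node 1 (.one ⟨6090, 5, 4⟩) (.one ⟨1290, 0, 1⟩)) (.node 1 (.one ⟨3805, 6, 4⟩) (.one ⟨5171, 5, 2⟩))) (.node 2 (.node 1 (.one ⟨6402, 6, 3⟩) (.one ⟨6554, 5, 3⟩)) (.node 1 (.one ⟨1293, 0, 1⟩) (.one ⟨5951, 3, 2⟩)))))))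
def par3_1_1 : Arr Par :=
  (.node 32 (.node 16 (.node 8 (.node 4 (.node 2 (.node 1 (.one ⟨1925, 5, 4⟩) (.one ⟨5875, 3, 5⟩)) (.node 1 (.one ⟨13795, 6, 4⟩) (.one ⟨1776, 2, 1⟩))) (.node 2 (.node 1 (.one ⟨14450, 5, 4⟩) (.one ⟨2048, 6, 3⟩)) (.node 1 (.one ⟨7093, 5, 4⟩) (.one ⟨2186, 0, 1⟩)))) (.node 4 (.node 2 (.node 1 (.one ⟨851, 5, 4⟩) (.one ⟨5413, 6, 4⟩)) (.node 1 (.one ⟨3209, 6, 5⟩) (.one ⟨4409, 6, 4⟩))) (.node 2 (.node 1 (.one ⟨2172, 0, 1⟩) (.one ⟨6054, 5, 5⟩)) (.node 1 (.one ⟨318, 5, 4⟩) (.one ⟨14412, 3, 2⟩))))) (.node 8 (.node 4 (.node 2 (.node 1 (.one ⟨6335, 3, 2⟩) (.one ⟨15734, 6, 4⟩)) (.node 1 (.one ⟨9438, 1, 1⟩) (.one ⟨10674, 4, 3⟩))) (.node 2 (.node 1 (.one ⟨11131, 6, 2⟩) (.one ⟨9437, 1, 1⟩)) (.node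 1 (.one ⟨9433, 1, 1⟩) (.one ⟨2667, 3, 2⟩)))) (.node 4 (.node 2 (.node 1 (.one ⟨9151, 5, 4⟩) (.one ⟨9430, 1, 1⟩)) (.node 1 (.one ⟨9426, 1, 1⟩) (.one ⟨10685, 3, 2⟩))) (.node 2 (.node 1 (.one ⟨2610, 3, 2⟩) (.one ⟨10690, 5, 3⟩)) (.node 1 (.one ⟨10705, 4, 4⟩) (.one ⟨6266, 5, 4⟩)))))) (.node 16 (.node 8 (.node 4 (.node 2 (.node 1 (.one ⟨8543, 4, 4⟩) (.one ⟨4557, 4, 3⟩)) (.node 1 (.one ⟨269, 6, 4⟩) (.one ⟨8560, 4, 4⟩))) (.node 2 (.node 1 (.one ⟨16674, 4, 4⟩) (.one ⟨12684, 4, 3⟩)) (.node 1 (.one ⟨4638, 4, 3⟩) (.one ⟨4539, 4, 4⟩)))) (.node 4 (.node 2 (.node 1 (.one ⟨4874, 5, 4⟩) (.one ⟨8527, 4, 3⟩)) (.node 1 (.one ⟨188, 6, 4⟩) (.one ⟨9342, 5, 3⟩))) (.node 2 (.node 1 (.one ⟨4654, 4, 4⟩) (.one ⟨16656, 4, 3⟩)) (.node 1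 (.one ⟨8577, 4, 3⟩) (.one ⟨15832, 3, 3⟩))))) (.node 8 (.node 4 (.node 2 (.node 1 (.one ⟨5840, 4, 3⟩) (.one ⟨13887, 4, 3⟩)) (.node 1 (.one ⟨14688, 6, 4⟩) (.one ⟨2107, 4, 2⟩))) (.node 2 (.node 1 (.one ⟨2136, 4, 2⟩) (.one ⟨9543, 0, 3⟩)) (.node 1 (.one ⟨10093, 5, 4⟩) (.one ⟨2184, 4, 3⟩)))) (.node 4 (.node 2 (.node 1 (.one ⟨2221, 4, 3⟩) (.one ⟨15395, 6, 4⟩)) (.node 1 (.one ⟨9550, 0, 3⟩) (.one ⟨9556, 5, 1⟩))) (.node 2 (.node 1 (.one ⟨1463, 6, 2⟩) (.one ⟨15706, 6, 4⟩)) (.node 1 (.one ⟨13969, 4, 2⟩) (.one ⟨5649, 5, 4⟩)))))))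
def par3_1_2 : Arr Par :=
  (.node 32 (.node 16 (.node 8 (.node 4 (.node 2 (.node 1 (.one ⟨16807, 1, 3⟩) (.one ⟨8707, 1, 3⟩)) (.node 1 (.one ⟨13208, 5, 3⟩) (.one ⟨16785, 5, 4⟩))) (.node 2 (.node 1 (.one ⟨9698, 6, 5⟩) (.one ⟨12218, 5, 4⟩)) (.node 1 (.one ⟨2707, 5, 4⟩) (.one ⟨13932, 5, 4⟩)))) (.node 4 (.node 2 (.node 1 (.one ⟨14067, 5, 3⟩) (.one ⟨6114, 2, 3⟩)) (.node 1 (.one ⟨15762, 6, 3⟩) (.one ⟨9310, 5, 5⟩))) (.node 2 (.node 1 (.one ⟨131, 6, 5⟩) (.one ⟨4056, 6, 3⟩)) (.node 1 (.one ⟨6039, 5, 4⟩) (.one ⟨10408, 4, 3⟩))))) (.node 8 (.node 4 (.node 2 (.node 1 (.one ⟨2317, 4, 3⟩) (.one ⟨9637, 6, 3⟩)) (.node 1 (.one ⟨10368, 4, 3⟩) (.one ⟨9700, 6, 4⟩))) (.node 2 (.node 1 (.one ⟨14604, 4, 2⟩) (.one ⟨9264, 0, 3⟩)) (.node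 1 (.one ⟨10282, 6, 4⟩) (.one ⟨15756, 5, 4⟩)))) (.node 4 (.node 2 (.node 1 (.one ⟨2278, 6, 4⟩) (.one ⟨3950, 3, 4⟩)) (.node 1 (.one ⟨6525, 4, 3⟩) (.one ⟨10385, 4, 4⟩))) (.node 2 (.node 1 (.one ⟨1290, 5, 1⟩) (.one ⟨2332, 4, 2⟩)) (.node 1 (.one ⟨10361, 4, 2⟩) (.one ⟨5077, 5, 3⟩)))))) (.node 16 (.node 8 (.node 4 (.node 2 (.node 1 (.one ⟨92, 5, 3⟩) (.one ⟨1078, 1, 2⟩)) (.node 1 (.one ⟨4847, 6, 4⟩) (.one ⟨5077, 3, 3⟩))) (.node 2 (.node 1 (.one ⟨13105, 3, 3⟩) (.one ⟨15627, 4, 3⟩)) (.node 1 (.one ⟨10666, 5, 4⟩) (.one ⟨17097, 3, 3⟩)))) (.node 4 (.node 2 (.node 1 (.one ⟨9594, 0, 3⟩) (.one ⟨3230, 4, 3⟩)) (.node 1 (.one ⟨1499, 5, 4⟩) (.one ⟨9592, 0, 3⟩))) (.node 2 (.node 1 (.one ⟨16174, 6, 4⟩) (.one ⟨1086, 1, 2⟩)) (.node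 1 (.one ⟨1081, 1, 2⟩) (.one ⟨9308, 6, 1⟩))))) (.node 8 (.node 4 (.node 2 (.node 1 (.one ⟨2104, 5, 1⟩) (.one ⟨3740, 6, 4⟩)) (.node 1 (.one ⟨11737, 6, 4⟩) (.one ⟨2215, 6, 1⟩))) (.node 2 (.node 1 (.one ⟨6404, 5, 2⟩) (.one ⟨595, 3, 4⟩)) (.node 1 (.one ⟨3581, 6, 4⟩) (.one ⟨1570, 6, 4⟩)))) (.node 4 (.node 2 (.node 1 (.one ⟨9774, 6, 4⟩) (.one ⟨10692, 6, 1⟩)) (.node 1 (.one ⟨2687, 6, 3⟩) (.one ⟨10214, 6, 4⟩))) (.node 2 (.node 1 (.one ⟨2018, 6, 3⟩) (.one ⟨2335, 6, 3⟩)) (.node 1 (.one ⟨10339, 6, 3⟩) (.one ⟨9395, 0, 2⟩)))))))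
def par3_1_3 : Arr Par :=
  (.node 32 (.node 16 (.node 8 (.node 4 (.node 2 (.node 1 (.one ⟨15080, 5, 3⟩) (.one ⟨2078, 4, 4⟩)) (.node 1 (.one ⟨10126, 4, 4⟩) (.one ⟨5793, 4, 3⟩))) (.node 2 (.node 1 (.one ⟨13823, 4, 3⟩) (.one ⟨3063, 6, 3⟩)) (.node 1 (.one ⟨2024, 4, 4⟩) (.one ⟨6348, 6, 3⟩)))) (.node 4 (.node 2 (.node 1 (.one ⟨13869, 4, 4⟩) (.one ⟨1971, 4, 3⟩)) (.node 1 (.one ⟨10084, 4, 3⟩) (.one ⟨13799, 4, 4⟩))) (.node 2 (.node 1 (.one ⟨5704, 4, 4⟩) (.one ⟨4375, 5, 5⟩)) (.node 1 (.one ⟨2049, 4, 3⟩) (.one ⟨11548, 3, 4⟩))))) (.node 8 (.node 4 (.node 2 (.node 1 (.one ⟨11523, 3, 4⟩) (.one ⟨9294, 0, 1⟩)) (.node 1 (.one ⟨3490, 5, 3⟩) (.one ⟨3670, 5, 2⟩))) (.node 2 (.node 1 (.one ⟨10110, 6, 5⟩) (.one ⟨9292, 0, 1⟩)) (.node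 1 (.one ⟨7412, 3, 4⟩) (.one ⟨16177, 4, 2⟩)))) (.node 4 (.node 2 (.node 1 (.one ⟨3466, 3, 4⟩) (.one ⟨15501, 3, 4⟩)) (.node 1 (.one ⟨11566, 5, 4⟩) (.one ⟨9284, 0, 1⟩))) (.node 2 (.node 1 (.one ⟨9283, 0, 1⟩) (.one ⟨15522, 3, 4⟩)) (.node 1 (.one ⟨9202, 5, 4⟩) (.one ⟨14446, 4, 3⟩)))))) (.node 16 (.node 8 (.node 4 (.node 2 (.node 1 (.one ⟨10705, 3, 4⟩) (.one ⟨6370, 4, 3⟩)) (.node 1 (.one ⟨14383, 4, 3⟩) (.one ⟨9438, 5, 1⟩))) (.node 2 (.node 1 (.one ⟨14412, 4, 2⟩) (.one ⟨13827, 6, 4⟩)) (.node 1 (.one ⟨6335, 4, 2⟩) (.one ⟨2640, 4, 3⟩)))) (.node 4 (.node 2 (.node 1 (.one ⟨10690, 4, 3⟩) (.one ⟨10718, 4, 3⟩)) (.node 1 (.one ⟨15166, 6, 4⟩) (.one ⟨8072, 6, 4⟩))) (.node 2 (.node 1 (.one ⟨2610, 4, 2⟩) (.one ⟨2667, 4, 2⟩))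 (.node 1 (.one ⟨10685, 4, 2⟩) (.one ⟨14772, 3, 4⟩))))) (.node 8 (.node 4 (.node 2 (.node 1 (.one ⟨9149, 0, 1⟩) (.one ⟨6715, 3, 4⟩)) (.node 1 (.one ⟨15356, 5, 4⟩) (.one ⟨9150, 0, 1⟩))) (.node 2 (.node 1 (.one ⟨9146, 0, 1⟩) (.one ⟨14829, 3, 4⟩)) (.node 1 (.one ⟨6791, 3, 4⟩) (.one ⟨3108, 3, 4⟩)))) (.node 4 (.node 2 (.node 1 (.one ⟨14627, 6, 5⟩) (.one ⟨11175, 3, 4⟩)) (.node 1 (.one ⟨9141, 0, 1⟩) (.one ⟨11139, 3, 4⟩))) (.node 2 (.node 1 (.one ⟨1230, 5, 4⟩) (.one ⟨6756, 5, 3⟩)) (.node 1 (.one ⟨9138, 0, 1⟩) (.one ⟨5079, 3, 3⟩)))))))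
def par3_1_4 : Arr Par :=
  (.node 32 (.node 16 (.node 8 (.node 4 (.node 2 (.node 1 (.one ⟨15159, 5, 3⟩) (.one ⟨758, 1, 0⟩)) (.node 1 (.one ⟨11296, 4, 3⟩) (.one ⟨5291, 6, 4⟩))) (.node 2 (.node 1 (.one ⟨9594, 1, 3⟩) (.one ⟨7599, 6, 4⟩)) (.node 1 (.one ⟨5066, 3, 4⟩) (.one ⟨9012, 3, 3⟩)))) (.node 4 (.node 2 (.node 1 (.one ⟨9012, 5, 3⟩) (.one ⟨7590, 4, 3⟩)) (.node 1 (.one ⟨2443, 1, 0⟩) (.one ⟨2272, 5, 3⟩))) (.node 2 (.node 1 (.one ⟨17103, 3, 3⟩) (.one ⟨485, 1, 0⟩)) (.node 1 (.one ⟨8579, 6, 3⟩) (.one ⟨13553, 4, 3⟩))))) (.node 8 (.node 4 (.node 2 (.node 1 (.one ⟨8599, 5, 5⟩) (.one ⟨8997, 4, 4⟩)) (.node 1 (.one ⟨5235, 6, 4⟩) (.one ⟨5498, 4, 3⟩))) (.node 2 (.node 1 (.one ⟨5542, 4, 3⟩) (.one ⟨17070, 4, 4⟩)) (.node 1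 (.one ⟨17008, 4, 4⟩) (.one ⟨5534, 4, 4⟩)))) (.node 4 (.node 2 (.node 1 (.one ⟨4323, 6, 3⟩) (.one ⟨17034, 4, 3⟩)) (.node 1 (.one ⟨5484, 6, 4⟩) (.one ⟨13589, 4, 4⟩))) (.node 2 (.node 1 (.one ⟨13575, 4, 4⟩) (.one ⟨8961, 4, 3⟩)) (.node 1 (.one ⟨1251, 0, 2⟩) (.one ⟨5748, 3, 2⟩)))))) (.node 16 (.node 8 (.node 4 (.node 2 (.node 1 (.one ⟨5720, 5, 3⟩) (.one ⟨9141, 1, 1⟩)) (.node 1 (.one ⟨5684, 3, 2⟩) (.one ⟨13779, 3, 2⟩))) (.node 2 (.node 1 (.one ⟨9138, 1, 1⟩) (.one ⟨4107, 6, 4⟩)) (.node 1 (.one ⟨12751, 5, 4⟩) (.one ⟨9149, 1, 1⟩)))) (.node 4 (.node 2 (.node 1 (.one ⟨6738, 4, 3⟩) (.one ⟨10109, 3, 2⟩)) (.node 1 (.one ⟨9150, 1, 1⟩) (.one ⟨3810, 6, 4⟩))) (.node 2 (.node 1 (.one ⟨2093, 3, 2⟩) (.one ⟨15146, 6, 5⟩)) (.node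 1 (.one ⟨9146, 1, 1⟩) (.one ⟨17034, 3, 3⟩))))) (.node 8 (.node 4 (.node 2 (.node 1 (.one ⟨5542, 5, 3⟩) (.one ⟨1344, 1, 2⟩)) (.node 1 (.one ⟨9252, 5, 4⟩) (.one ⟨1108, 0, 3⟩))) (.node 2 (.node 1 (.one ⟨8961, 3, 3⟩) (.one ⟨12127, 6, 4⟩)) (.node 1 (.one ⟨1345, 1, 2⟩) (.one ⟨5498, 3, 3⟩)))) (.node 4 (.node 2 (.node 1 (.one ⟨4137, 6, 4⟩) (.one ⟨1354, 1, 2⟩)) (.node 1 (.one ⟨11950, 5, 4⟩) (.one ⟨5542, 3, 3⟩))) (.node 2 (.node 1 (.one ⟨13553, 3, 3⟩) (.one ⟨1352, 1, 2⟩)) (.node 1 (.one ⟨1351, 1, 2⟩) (.one ⟨4469, 5, 3⟩)))))))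
def par3_1_5 : Arr Par :=
  (.node 32 (.node 16 (.node 8 (.node 4 (.node 2 (.node 1 (.one ⟨9430, 0, 1⟩) (.one ⟨9426, 0, 1⟩)) (.node 1 (.one ⟨6871, 6, 4⟩) (.one ⟨11704, 5, 4⟩))) (.node 2 (.node 1 (.one ⟨12545, 3, 4⟩) (.one ⟨4492, 3, 4⟩)) (.node 1 (.one ⟨12570, 3, 4⟩) (.one ⟨9433, 0, 1⟩)))) (.node 4 (.node 2 (.node 1 (.one ⟨9438, 0, 1⟩) (.one ⟨12542, 3, 4⟩)) (.node 1 (.one ⟨9437, 0, 1⟩) (.one ⟨8197, 3, 4⟩))) (.node 2 (.node 1 (.one ⟨16446, 6, 3⟩) (.one ⟨1300, 5, 4⟩)) (.node 1 (.one ⟨16263, 3, 4⟩) (.one ⟨57, 1, 0⟩))))) (.node 8 (.node 4 (.node 2 (.node 1 (.one ⟨14485, 6, 1⟩) (.one ⟨8669, 6, 4⟩)) (.node 1 (.one ⟨13442, 6, 4⟩) (.one ⟨14581, 6, 2⟩))) (.node 2 (.node 1 (.one ⟨68, 1, 0⟩) (.one ⟨13257, 6, 3⟩)) (.node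 1 (.one ⟨610, 3, 4⟩) (.one ⟨2639, 6, 3⟩)))) (.node 4 (.node 2 (.node 1 (.one ⟨5919, 5, 2⟩) (.one ⟨3242, 6, 4⟩)) (.node 1 (.one ⟨14869, 6, 4⟩) (.one ⟨13891, 6, 1⟩))) (.node 2 (.node 1 (.one ⟨2225, 6, 1⟩) (.one ⟨14940, 6, 4⟩)) (.node 1 (.one ⟨3463, 6, 4⟩) (.one ⟨4458, 5, 3⟩)))))) (.node 16 (.node 8 (.node 4 (.node 2 (.node 1 (.one ⟨6479, 3, 3⟩) (.one ⟨5083, 6, 4⟩)) (.node 1 (.one ⟨15455, 5, 4⟩) (.one ⟨14514, 3, 3⟩))) (.node 2 (.node 1 (.one ⟨7352, 5, 3⟩) (.one ⟨7327, 6, 4⟩)) (.node 1 (.one ⟨1435, 1, 0⟩) (.one ⟨2489, 1, 0⟩)))) (.node 4 (.node 2 (.node 1 (.one ⟨7641, 6, 3⟩) (.one ⟨14755, 6, 4⟩)) (.node 1 (.one ⟨6826, 5, 4⟩) (.one ⟨7285, 5, 4⟩))) (.node 2 (.node 1 (.one ⟨1036, 0, 0⟩) (.one ⟨1402, 1, 4⟩)) (.node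 1 (.one ⟨10289, 3, 3⟩) (.one ⟨1383, 1, 1⟩))))) (.node 8 (.node 4 (.node 2 (.node 1 (.one ⟨1388, 1, 1⟩) (.one ⟨2284, 3, 2⟩)) (.node 1 (.one ⟨10316, 3, 2⟩) (.one ⟨11596, 5, 3⟩))) (.node 2 (.node 1 (.one ⟨10883, 5, 4⟩) (.one ⟨15007, 5, 4⟩)) (.node 1 (.one ⟨16016, 5, 4⟩) (.one ⟨12069, 5, 3⟩)))) (.node 4 (.node 2 (.node 1 (.one ⟨11243, 5, 4⟩) (.one ⟨6933, 5, 4⟩)) (.node 1 (.one ⟨5633, 6, 3⟩) (.one ⟨14210, 6, 4⟩))) (.node 2 (.node 1 (.one ⟨1382, 1, 1⟩) (.one ⟨14544, 3, 2⟩)) (.node 1 (.one ⟨4703, 5, 4⟩) (.one ⟨9556, 0, 1⟩)))))))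
def par3_1_6 : Arr Par :=
  (.node 32 (.node 16 (.node 8 (.node 4 (.node 2 (.node 1 (.one ⟨7915, 6, 5⟩) (.one ⟨7774, 3, 4⟩)) (.node 1 (.one ⟨5232, 5, 5⟩) (.one ⟨1429, 1, 3⟩))) (.node 2 (.node 1 (.one ⟨9555, 0, 1⟩) (.one ⟨9564, 0, 4⟩)) (.node 1 (.one ⟨7735, 3, 4⟩) (.one ⟨3828, 3, 4⟩)))) (.node 4 (.node 2 (.node 1 (.one ⟨1441, 6, 1⟩) (.one ⟨9566, 0, 1⟩)) (.node 1 (.one ⟨8572, 6, 3⟩) (.one ⟨9544, 5, 4⟩))) (.node 2 (.node 1 (.one ⟨15849, 5, 4⟩) (.one ⟨7816, 5, 3⟩)) (.node 1 (.one ⟨3779, 3, 4⟩) (.one ⟨2127, 5, 3⟩))))) (.node 8 (.node 4 (.node 2 (.node 1 (.one ⟨1416, 1, 2⟩) (.one ⟨1407, 1, 2⟩)) (.node 1 (.one ⟨1412, 1, 2⟩) (.one ⟨13995, 3, 3⟩))) (.node 2 (.node 1 (.one ⟨14518, 6, 4⟩) (.one ⟨8768, 6, 2⟩)) (.node 1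 (.one ⟨11207, 6, 5⟩) (.one ⟨2096, 3, 3⟩)))) (.node 4 (.node 2 (.node 1 (.one ⟨2127, 3, 3⟩) (.one ⟨9369, 5, 4⟩)) (.node 1 (.one ⟨5833, 3, 3⟩) (.one ⟨5133, 5, 5⟩))) (.node 2 (.node 1 (.one ⟨9529, 0, 3⟩) (.one ⟨1417, 1, 2⟩)) (.node 1 (.one ⟨4019, 5, 4⟩) (.one ⟨8511, 3, 3⟩)))))) (.node 16 (.node 8 (.node 4 (.node 2 (.node 1 (.one ⟨8592, 3, 3⟩) (.one ⟨2210, 1, 0⟩)) (.node 1 (.one ⟨777, 1, 0⟩) (.one ⟨8592, 5, 3⟩))) (.node 2 (.node 1 (.one ⟨9783, 5, 4⟩) (.one ⟨642, 1, 0⟩)) (.node 1 (.one ⟨7155, 6, 4⟩) (.one ⟨4586, 3, 3⟩)))) (.node 4 (.node 2 (.node 1 (.one ⟨4601, 3, 3⟩) (.one ⟨1793, 1, 0⟩)) (.node 1 (.one ⟨5175, 1, 0⟩) (.one ⟨12711, 3, 3⟩))) (.node 2 (.node 1 (.one ⟨16184, 6, 4⟩) (.one ⟨14067, 4, 3⟩)) (.node 1 (.one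 ⟨1402, 6, 4⟩) (.one ⟨9459, 5, 4⟩))))) (.node 8 (.node 4 (.node 2 (.node 1 (.one ⟨1381, 6, 5⟩) (.one ⟨12631, 3, 4⟩)) (.node 1 (.one ⟨4638, 5, 3⟩) (.one ⟨4654, 3, 4⟩))) (.node 2 (.node 1 (.one ⟨4539, 3, 4⟩) (.one ⟨1449, 0, 1⟩)) (.node 1 (.one ⟨1450, 0, 1⟩) (.one ⟨1441, 0, 1⟩)))) (.node 4 (.node 2 (.node 1 (.one ⟨8560, 3, 4⟩) (.one ⟨1442, 0, 1⟩)) (.node 1 (.one ⟨8543, 3, 4⟩) (.one ⟨16575, 3, 4⟩))) (.node 2 (.node 1 (.one ⟨16674, 3, 4⟩) (.one ⟨1445, 0, 1⟩)) (.node 1 (.one ⟨5283, 5, 4⟩) (.one ⟨11346, 5, 4⟩)))))))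
def par3_1_7 : Arr Par :=
  (.node 32 (.node 16 (.node 8 (.node 4 (.node 2 (.node 1 (.one ⟨9122, 3, 4⟩) (.one ⟨1383, 0, 1⟩)) (.node 1 (.one ⟨13083, 5, 5⟩) (.one ⟨9171, 1, 3⟩))) (.node 2 (.node 1 (.one ⟨9107, 5, 4⟩) (.one ⟨1388, 0, 1⟩)) (.node 1 (.one ⟨10558, 6, 4⟩) (.one ⟨5475, 5, 2⟩)))) (.node 4 (.node 2 (.node 1 (.one ⟨5165, 3, 4⟩) (.one ⟨9081, 3, 4⟩)) (.node 1 (.one ⟨3968, 4, 3⟩) (.one ⟨1380, 0, 4⟩))) (.node 2 (.node 1 (.one ⟨13198, 3, 4⟩) (.one ⟨1382, 0, 1⟩)) (.node 1 (.one ⟨16165, 5, 4⟩) (.one ⟨175, 6, 4⟩))))) (.node 8 (.node 4 (.node 2 (.node 1 (.one ⟨2299, 4, 3⟩) (.one ⟨10378, 4, 4⟩)) (.node 1 (.one ⟨5105, 5, 4⟩) (.one ⟨8177, 5, 2⟩))) (.node 2 (.node 1 (.one ⟨953, 6, 3⟩) (.one ⟨14457, 6, 3⟩)) (.node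 1 (.one ⟨14344, 5, 3⟩) (.one ⟨14584, 4, 3⟩)))) (.node 4 (.node 2 (.node 1 (.one ⟨6517, 4, 3⟩) (.one ⟨6542, 4, 4⟩)) (.node 1 (.one ⟨1198, 5, 3⟩) (.one ⟨6554, 4, 3⟩))) (.node 2 (.node 1 (.one ⟨725, 6, 4⟩) (.one ⟨14635, 4, 4⟩)) (.node 1 (.one ⟨7680, 6, 3⟩) (.one ⟨8008, 6, 3⟩)))))) (.node 16 (.node 8 (.node 4 (.node 2 (.node 1 (.one ⟨2098, 5, 4⟩) (.one ⟨10849, 4, 4⟩)) (.node 1 (.one ⟨7017, 1, 2⟩) (.one ⟨10152, 3, 3⟩))) (.node 2 (.node 1 (.one ⟨5896, 0, 4⟩) (.one ⟨3478, 5, 5⟩)) (.node 1 (.one ⟨16432, 4, 4⟩) (.one ⟨3667, 5, 4⟩)))) (.node 4 (.node 2 (.node 1 (.one ⟨13858, 5, 5⟩) (.one ⟨10891, 6, 4⟩)) (.node 1 (.one ⟨15080, 1, 3⟩) (.one ⟨735, 6, 4⟩))) (.node 2 (.node 1 (.one ⟨1669, 6, 2⟩) (.one ⟨10185, 5, 5⟩)) (.node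 1 (.one ⟨2793, 4, 4⟩) (.one ⟨8466, 5, 4⟩))))) (.node 8 (.node 4 (.node 2 (.node 1 (.one ⟨7104, 5, 4⟩) (.one ⟨223, 6, 4⟩)) (.node 1 (.one ⟨5103, 4, 3⟩) (.one ⟨4388, 6, 4⟩))) (.node 2 (.node 1 (.one ⟨9122, 4, 4⟩) (.one ⟨13202, 4, 3⟩)) (.node 1 (.one ⟨15390, 5, 3⟩) (.one ⟨13198, 4, 4⟩)))) (.node 4 (.node 2 (.node 1 (.one ⟨10232, 6, 3⟩) (.one ⟨16537, 5, 4⟩)) (.node 1 (.one ⟨115, 6, 4⟩) (.one ⟨17057, 5, 3⟩))) (.node 2 (.node 1 (.one ⟨5165, 4, 4⟩) (.one ⟨17177, 4, 3⟩)) (.node 1 (.one ⟨474, 5, 3⟩) (.one ⟨17166, 4, 3⟩)))))))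
def par3_1_8 : Arr Par :=
  (.node 32 (.node 16 (.node 8 (.node 4 (.node 2 (.node 1 (.one ⟨9130, 4, 3⟩) (.one ⟨17174, 4, 4⟩)) (.node 1 (.one ⟨9071, 4, 4⟩) (.one ⟨9628, 0, 4⟩))) (.node 2 (.node 1 (.one ⟨13000, 5, 4⟩) (.one ⟨12058, 3, 3⟩)) (.node 1 (.one ⟨7988, 5, 4⟩) (.one ⟨9626, 0, 3⟩)))) (.node 4 (.node 2 (.node 1 (.one ⟨7780, 5, 4⟩) (.one ⟨5254, 5, 5⟩)) (.node 1 (.one ⟨10798, 5, 3⟩) (.one ⟨5157, 4, 4⟩))) (.node 2 (.node 1 (.one ⟨5267, 6, 3⟩) (.one ⟨13209, 4, 3⟩)) (.node 1 (.one ⟨7215, 5, 5⟩) (.one ⟨64, 1, 0⟩))))) (.node 8 (.node 4 (.node 2 (.node 1 (.one ⟨14445, 6, 1⟩) (.one ⟨74, 3, 4⟩)) (.node 1 (.one ⟨11190, 6, 4⟩) (.one ⟨5943, 5, 1⟩))) (.node 2 (.node 1 (.one ⟨6443, 5, 1⟩) (.one ⟨11477, 6, 4⟩)) (.node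 1 (.one ⟨14988, 6, 4⟩) (.one ⟨13402, 6, 3⟩)))) (.node 4 (.node 2 (.node 1 (.one ⟨16776, 6, 4⟩) (.one ⟨5887, 5, 2⟩)) (.node 1 (.one ⟨2728, 6, 1⟩) (.one ⟨16551, 6, 4⟩))) (.node 2 (.node 1 (.one ⟨13330, 6, 4⟩) (.one ⟨2311, 6, 2⟩)) (.node 1 (.one ⟨2267, 5, 2⟩) (.one ⟨12991, 6, 5⟩)))))) (.node 16 (.node 8 (.node 4 (.node 2 (.node 1 (.one ⟨8041, 5, 4⟩) (.one ⟨6862, 6, 4⟩)) (.node 1 (.one ⟨16905, 6, 3⟩) (.one ⟨6087, 6, 4⟩))) (.node 2 (.node 1 (.one ⟨16227, 6, 5⟩) (.one ⟨11846, 6, 5⟩)) (.node 1 (.one ⟨9471, 5, 5⟩) (.one ⟨17185, 6, 5⟩)))) (.node 4 (.node 2 (.node 1 (.one ⟨9043, 6, 5⟩) (.one ⟨11795, 6, 4⟩)) (.node 1 (.one ⟨3684, 6, 2⟩) (.one ⟨9761, 3, 3⟩))) (.node 2 (.node 1 (.one ⟨8440, 4, 2⟩) (.one ⟨10166, 0, 4⟩))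 (.node 1 (.one ⟨11268, 5, 4⟩) (.one ⟨10189, 3, 5⟩))))) (.node 8 (.node 4 (.node 2 (.node 1 (.one ⟨11219, 6, 5⟩) (.one ⟨3999, 6, 4⟩)) (.node 1 (.one ⟨3931, 6, 4⟩) (.one ⟨12609, 6, 3⟩))) (.node 2 (.node 1 (.one ⟨1461, 2, 2⟩) (.one ⟨1260, 5, 3⟩)) (.node 1 (.one ⟨2345, 5, 4⟩) (.one ⟨6655, 5, 5⟩)))) (.node 4 (.node 2 (.node 1 (.one ⟨1264, 6, 2⟩) (.one ⟨4104, 6, 4⟩)) (.node 1 (.one ⟨14411, 5, 2⟩) (.one ⟨14019, 1, 3⟩))) (.node 2 (.node 1 (.one ⟨10838, 5, 5⟩) (.one ⟨1461, 4, 2⟩)) (.node 1 (.one ⟨5296, 6, 4⟩) (.one ⟨5354, 4, 2⟩)))))))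
def par3_1_9 : Arr Par :=
  (.node 32 (.node 16 (.node 8 (.node 4 (.node 2 (.node 1 (.one ⟨12042, 5, 5⟩) (.one ⟨9337, 3, 3⟩)) (.node 1 (.one ⟨758, 5, 4⟩) (.one ⟨16218, 6, 3⟩))) (.node 2 (.node 1 (.one ⟨10837, 6, 4⟩) (.one ⟨5171, 6, 2⟩)) (.node 1 (.one ⟨4421, 5, 4⟩) (.one ⟨1709, 0, 3⟩)))) (.node 4 (.node 2 (.node 1 (.one ⟨8215, 3, 3⟩) (.one ⟨16862, 6, 4⟩)) (.node 1 (.one ⟨16309, 3, 3⟩) (.one ⟨13515, 6, 3⟩))) (.node 2 (.node 1 (.one ⟨1460, 4, 5⟩) (.one ⟨12064, 0, 5⟩)) (.node 1 (.one ⟨5597, 4, 4⟩) (.one ⟨1566, 6, 3⟩))))) (.node 8 (.node 4 (.node 2 (.node 1 (.one ⟨4890, 5, 4⟩) (.one ⟨10934, 5, 3⟩)) (.node 1 (.one ⟨2232, 0, 3⟩) (.one ⟨1780, 5, 1⟩))) (.node 2 (.node 1 (.one ⟨11466, 6, 4⟩) (.one ⟨3004, 5, 4⟩)) (.node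 1 (.one ⟨4619, 6, 4⟩) (.one ⟨10182, 5, 4⟩)))) (.node 4 (.node 2 (.node 1 (.one ⟨1081, 6, 2⟩) (.one ⟨10122, 0, 3⟩)) (.node 1 (.one ⟨8724, 5, 4⟩) (.one ⟨8396, 5, 3⟩))) (.node 2 (.node 1 (.one ⟨8271, 6, 3⟩) (.one ⟨1451, 4, 4⟩)) (.node 1 (.one ⟨9542, 5, 3⟩) (.one ⟨12572, 5, 4⟩)))))) (.node 16 (.node 8 (.node 4 (.node 2 (.node 1 (.one ⟨10296, 6, 3⟩) (.one ⟨759, 5, 3⟩)) (.node 1 (.one ⟨4489, 5, 4⟩) (.one ⟨7264, 3, 4⟩))) (.node 2 (.node 1 (.one ⟨8326, 6, 4⟩) (.one ⟨8017, 6, 4⟩)) (.node 1 (.one ⟨3103, 5, 4⟩) (.one ⟨16544, 5, 3⟩)))) (.node 4 (.node 2 (.node 1 (.one ⟨3377, 4, 2⟩) (.one ⟨15119, 1, 4⟩)) (.node 1 (.one ⟨703, 1, 4⟩) (.one ⟨11584, 5, 3⟩))) (.node 2 (.node 1 (.one ⟨1445, 4, 1⟩) (.one ⟨9660, 3, 3⟩)) (.node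 1 (.one ⟨7017, 4, 2⟩) (.one ⟨2283, 6, 4⟩))))) (.node 8 (.node 4 (.node 2 (.node 1 (.one ⟨9238, 3, 2⟩) (.one ⟨10454, 5, 4⟩)) (.node 1 (.one ⟨5030, 6, 2⟩) (.one ⟨7150, 3, 3⟩))) (.node 2 (.node 1 (.one ⟨2579, 5, 4⟩) (.one ⟨10100, 0, 4⟩)) (.node 1 (.one ⟨7114, 6, 4⟩) (.one ⟨10550, 6, 4⟩)))) (.node 4 (.node 2 (.node 1 (.one ⟨8132, 5, 4⟩) (.one ⟨12872, 5, 4⟩)) (.node 1 (.one ⟨6738, 5, 3⟩) (.one ⟨746, 6, 4⟩))) (.node 2 (.node 1 (.one ⟨4644, 6, 3⟩) (.one ⟨15687, 5, 4⟩)) (.node 1 (.one ⟨1216, 5, 4⟩) (.one ⟨9187, 6, 2⟩)))))))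
def par3_1_10 : Arr Par :=
  (.node 32 (.node 16 (.node 8 (.node 4 (.node 2 (.node 1 (.one ⟨17054, 6, 4⟩) (.one ⟨4585, 4, 4⟩)) (.node 1 (.one ⟨16073, 4, 3⟩) (.one ⟨15845, 6, 3⟩))) (.node 2 (.node 1 (.one ⟨11308, 6, 4⟩) (.one ⟨1445, 2, 1⟩)) (.node 1 (.one ⟨15933, 6, 2⟩) (.one ⟨4764, 3, 4⟩)))) (.node 4 (.node 2 (.node 1 (.one ⟨15045, 6, 4⟩) (.one ⟨8318, 0, 3⟩)) (.node 1 (.one ⟨15435, 6, 5⟩) (.one ⟨10300, 6, 4⟩))) (.node 2 (.node 1 (.one ⟨8150, 5, 5⟩) (.one ⟨1627, 0, 4⟩)) (.node 1 (.one ⟨5941, 2, 2⟩) (.one ⟨16147, 6, 2⟩))))) (.node 8 (.node 4 (.node 2 (.node 1 (.one ⟨7349, 6, 2⟩) (.one ⟨16872, 5, 4⟩)) (.node 1 (.one ⟨13861, 3, 5⟩) (.one ⟨4940, 3, 4⟩))) (.node 2 (.node 1 (.one ⟨14028, 3, 4⟩) (.one ⟨9342, 3, 3⟩))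 (.node 1 (.one ⟨8064, 5, 4⟩) (.one ⟨1459, 4, 5⟩)))) (.node 4 (.node 2 (.node 1 (.one ⟨4005, 0, 4⟩) (.one ⟨5971, 3, 2⟩)) (.node 1 (.one ⟨5430, 5, 5⟩) (.one ⟨1969, 0, 4⟩))) (.node 2 (.node 1 (.one ⟨8118, 0, 4⟩) (.one ⟨7837, 5, 5⟩)) (.node 1 (.one ⟨5191, 6, 4⟩) (.one ⟨3088, 5, 4⟩)))))) (.node 16 (.node 8 (.node 4 (.node 2 (.node 1 (.one ⟨2969, 5, 4⟩) (.one ⟨1462, 2, 2⟩)) (.node 1 (.one ⟨9115, 6, 4⟩) (.one ⟨8933, 6, 4⟩))) (.node 2 (.node 1 (.one ⟨1086, 5, 2⟩) (.one ⟨13752, 3, 4⟩)) (.node 1 (.one ⟨6383, 0, 4⟩) (.one ⟨13480, 6, 4⟩)))) (.node 4 (.node 2 (.node 1 (.one ⟨16225, 5, 5⟩) (.one ⟨16392, 0, 4⟩)) (.node 1 (.one ⟨1462, 4, 2⟩) (.one ⟨12056, 6, 2⟩))) (.node 2 (.node 1 (.one ⟨2265, 5, 3⟩) (.one ⟨3192, 6, 2⟩))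 (.node 1 (.one ⟨15565, 2, 2⟩) (.one ⟨1776, 3, 1⟩))))) (.node 8 (.node 4 (.node 2 (.node 1 (.one ⟨2995, 0, 1⟩) (.one ⟨10313, 2, 3⟩)) (.node 1 (.one ⟨5945, 1, 2⟩) (.one ⟨11545, 4, 3⟩))) (.node 2 (.node 1 (.one ⟨6298, 3, 5⟩) (.one ⟨6645, 0, 4⟩)) (.node 1 (.one ⟨16286, 4, 3⟩) (.one ⟨759, 6, 3⟩)))) (.node 4 (.node 2 (.node 1 (.one ⟨7823, 5, 4⟩) (.one ⟨16667, 5, 4⟩)) (.node 1 (.one ⟨5498, 5, 3⟩) (.one ⟨13046, 6, 4⟩))) (.node 2 (.node 1 (.one ⟨6402, 5, 3⟩) (.one ⟨15619, 5, 5⟩)) (.node 1 (.one ⟨13043, 6, 4⟩) (.one ⟨5951, 2, 2⟩)))))))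
def par3_1_11 : Arr Par :=
  (.node 32 (.node 16 (.node 8 (.node 4 (.node 2 (.node 1 (.one ⟨2217, 3, 2⟩) (.one ⟨3095, 0, 1⟩)) (.node 1 (.one ⟨5960, 1, 2⟩) (.one ⟨5511, 4, 3⟩))) (.node 2 (.node 1 (.one ⟨4344, 0, 3⟩) (.one ⟨15099, 5, 5⟩)) (.node 1 (.one ⟨5629, 5, 5⟩) (.one ⟨6905, 5, 4⟩)))) (.node 4 (.node 2 (.node 1 (.one ⟨8742, 6, 3⟩) (.one ⟨6118, 2, 2⟩)) (.node 1 (.one ⟨8037, 2, 2⟩) (.one ⟨15042, 6, 4⟩))) (.node 2 (.node 1 (.one ⟨2932, 6, 4⟩) (.one ⟨5172, 6, 4⟩)) (.node 1 (.one ⟨16850, 6, 4⟩) (.one ⟨6030, 1, 4⟩))))) (.node 8 (.node 4 (.node 2 (.node 1 (.one ⟨7670, 5, 2⟩) (.one ⟨9227, 1, 4⟩)) (.node 1 (.one ⟨6266, 1, 4⟩) (.one ⟨9419, 5, 2⟩))) (.node 2 (.node 1 (.one ⟨5877, 6, 3⟩) (.one ⟨16504, 6, 4⟩)) (.node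 1 (.one ⟨12593, 5, 4⟩) (.one ⟨1558, 5, 5⟩)))) (.node 4 (.node 2 (.node 1 (.one ⟨2441, 6, 5⟩) (.one ⟨8939, 5, 4⟩)) (.node 1 (.one ⟨10113, 0, 4⟩) (.one ⟨7200, 6, 3⟩))) (.node 2 (.node 1 (.one ⟨5534, 5, 4⟩) (.one ⟨3404, 6, 4⟩)) (.node 1 (.one ⟨6027, 5, 4⟩) (.one ⟨4011, 5, 4⟩)))))) (.node 16 (.node 8 (.node 4 (.node 2 (.node 1 (.one ⟨8903, 0, 3⟩) (.one ⟨11687, 5, 4⟩)) (.node 1 (.one ⟨2590, 4, 3⟩) (.one ⟨9040, 5, 4⟩))) (.node 2 (.node 1 (.one ⟨11009, 6, 5⟩) (.one ⟨16768, 3, 3⟩)) (.node 1 (.one ⟨3681, 6, 5⟩) (.one ⟨7741, 6, 5⟩)))) (.node 4 (.node 2 (.node 1 (.one ⟨421, 6, 5⟩) (.one ⟨10688, 5, 3⟩)) (.node 1 (.one ⟨13516, 6, 5⟩) (.one ⟨1860, 5, 5⟩))) (.node 2 (.node 1 (.one ⟨10093, 0, 4⟩) (.one ⟨6068, 6, 5⟩)) (.node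 1 (.one ⟨3763, 5, 1⟩) (.one ⟨5814, 5, 3⟩))))) (.node 8 (.node 4 (.node 2 (.node 1 (.one ⟨156, 1, 0⟩) (.one ⟨5874, 5, 4⟩)) (.node 1 (.one ⟨971, 0, 3⟩) (.one ⟨8807, 5, 2⟩))) (.node 2 (.node 1 (.one ⟨663, 1, 0⟩) (.one ⟨4624, 3, 4⟩)) (.node 1 (.one ⟨5290, 5, 4⟩) (.one ⟨5945, 6, 2⟩)))) (.node 4 (.node 2 (.node 1 (.one ⟨15258, 5, 4⟩) (.one ⟨5921, 6, 3⟩)) (.node 1 (.one ⟨15056, 5, 4⟩) (.one ⟨2522, 3, 3⟩))) (.node 2 (.node 1 (.one ⟨13535, 5, 5⟩) (.one ⟨4699, 1, 2⟩)) (.node 1 (.one ⟨13091, 6, 3⟩) (.one ⟨4479, 5, 5⟩)))))))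
def par3_1_12 : Arr Par :=
  (.node 32 (.node 16 (.node 8 (.node 4 (.node 2 (.node 1 (.one ⟨11417, 6, 5⟩) (.one ⟨17069, 6, 3⟩)) (.node 1 (.one ⟨13309, 4, 3⟩) (.one ⟨7676, 6, 4⟩))) (.node 2 (.node 1 (.one ⟨14669, 3, 3⟩) (.one ⟨688, 5, 4⟩)) (.node 1 (.one ⟨442, 6, 4⟩) (.one ⟨130, 1, 0⟩)))) (.node 4 (.node 2 (.node 1 (.one ⟨3839, 4, 4⟩) (.one ⟨16754, 4, 4⟩)) (.node 1 (.one ⟨10961, 4, 4⟩) (.one ⟨6178, 3, 3⟩))) (.node 2 (.node 1 (.one ⟨12152, 4, 4⟩) (.one ⟨8887, 4, 4⟩)) (.node 1 (.one ⟨5863, 5, 4⟩) (.one ⟨7250, 5, 3⟩))))) (.node 8 (.node 4 (.node 2 (.node 1 (.one ⟨7532, 6, 3⟩) (.one ⟨15281, 5, 3⟩)) (.node 1 (.one ⟨13934, 6, 4⟩) (.one ⟨16275, 1, 3⟩))) (.node 2 (.node 1 (.one ⟨15359, 5, 5⟩) (.one ⟨7266, 5, 5⟩)) (.node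 1 (.one ⟨7327, 5, 4⟩) (.one ⟨14050, 1, 4⟩)))) (.node 4 (.node 2 (.node 1 (.one ⟨8994, 5, 3⟩) (.one ⟨6946, 0, 4⟩)) (.node 1 (.one ⟨16311, 0, 4⟩) (.one ⟨1580, 5, 3⟩))) (.node 2 (.node 1 (.one ⟨2126, 5, 3⟩) (.one ⟨10555, 5, 2⟩)) (.node 1 (.one ⟨10525, 5, 3⟩) (.one ⟨15146, 5, 5⟩)))))) (.node 16 (.node 8 (.node 4 (.node 2 (.node 1 (.one ⟨7751, 5, 5⟩) (.one ⟨5645, 5, 2⟩)) (.node 1 (.one ⟨16637, 5, 3⟩) (.one ⟨557, 5, 4⟩))) (.node 2 (.node 1 (.one ⟨13504, 6, 5⟩) (.one ⟨12921, 6, 4⟩)) (.node 1 (.one ⟨3584, 5, 2⟩) (.one ⟨13999, 6, 3⟩)))) (.node 4 (.node 2 (.node 1 (.one ⟨1345, 6, 2⟩) (.one ⟨13479, 6, 4⟩)) (.node 1 (.one ⟨11429, 5, 3⟩) (.one ⟨5234, 5, 3⟩))) (.node 2 (.node 1 (.one ⟨5920, 5, 3⟩) (.one ⟨16194, 6, 4⟩)) (.node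 1 (.one ⟨13048, 4, 2⟩) (.one ⟨16275, 0, 3⟩))))) (.node 8 (.node 4 (.node 2 (.node 1 (.one ⟨12915, 4, 2⟩) (.one ⟨6294, 4, 4⟩)) (.node 1 (.one ⟨12941, 6, 4⟩) (.one ⟨5679, 4, 3⟩))) (.node 2 (.node 1 (.one ⟨4956, 6, 3⟩) (.one ⟨9702, 5, 5⟩)) (.node 1 (.one ⟨13217, 4, 3⟩) (.one ⟨12167, 5, 5⟩)))) (.node 4 (.node 2 (.node 1 (.one ⟨617, 5, 4⟩) (.one ⟨16840, 6, 4⟩)) (.node 1 (.one ⟨8821, 3, 5⟩) (.one ⟨12670, 3, 5⟩))) (.node 2 (.node 1 (.one ⟨731, 5, 4⟩) (.one ⟨123, 5, 4⟩)) (.node 1 (.one ⟨1590, 6, 5⟩) (.one ⟨12138, 6, 3⟩)))))))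
def par3_1_13 : Arr Par :=
  (.node 32 (.node 16 (.node 8 (.node 4 (.node 2 (.node 1 (.one ⟨7529, 5, 5⟩) (.one ⟨11411, 4, 3⟩)) (.node 1 (.one ⟨14895, 5, 3⟩) (.one ⟨4679, 5, 5⟩))) (.node 2 (.node 1 (.one ⟨15947, 5, 4⟩) (.one ⟨13225, 5, 4⟩)) (.node 1 (.one ⟨8227, 0, 4⟩) (.one ⟨874, 6, 3⟩)))) (.node 4 (.node 2 (.node 1 (.one ⟨10665, 5, 4⟩) (.one ⟨16883, 0, 3⟩)) (.node 1 (.one ⟨15556, 6, 3⟩) (.one ⟨15362, 5, 5⟩))) (.node 2 (.node 1 (.one ⟨10645, 5, 4⟩) (.one ⟨2918, 4, 3⟩)) (.node 1 (.one ⟨6891, 5, 4⟩) (.one ⟨477, 6, 3⟩))))) (.node 8 (.node 4 (.node 2 (.node 1 (.one ⟨5649, 3, 4⟩) (.one ⟨950, 6, 1⟩)) (.node 1 (.one ⟨3284, 1, 5⟩) (.one ⟨8241, 1, 5⟩))) (.node 2 (.node 1 (.one ⟨16760, 4, 2⟩) (.one ⟨13208, 3, 3⟩)) (.node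 1 (.one ⟨1172, 5, 3⟩) (.one ⟨13469, 6, 4⟩)))) (.node 4 (.node 2 (.node 1 (.one ⟨1679, 4, 3⟩) (.one ⟨1291, 5, 4⟩)) (.node 1 (.one ⟨6675, 5, 4⟩) (.one ⟨13388, 5, 4⟩))) (.node 2 (.node 1 (.one ⟨7596, 4, 4⟩) (.one ⟨13200, 4, 3⟩)) (.node 1 (.one ⟨12240, 4, 3⟩) (.one ⟨14898, 4, 2⟩)))))) (.node 16 (.node 8 (.node 4 (.node 2 (.node 1 (.one ⟨2650, 5, 4⟩) (.one ⟨16058, 5, 5⟩)) (.node 1 (.one ⟨12938, 5, 5⟩) (.one ⟨7108, 5, 4⟩))) (.node 2 (.node 1 (.one ⟨12236, 6, 4⟩) (.one ⟨16019, 5, 2⟩)) (.node 1 (.one ⟨12278, 4, 4⟩) (.one ⟨13794, 1, 3⟩)))) (.node 4 (.node 2 (.node 1 (.one ⟨907, 6, 3⟩) (.one ⟨14741, 6, 3⟩)) (.node 1 (.one ⟨7669, 5, 2⟩) (.one ⟨7448, 6, 3⟩))) (.node 2 (.node 1 (.one ⟨10878, 6, 3⟩) (.one ⟨16015, 5, 4⟩))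 (.node 1 (.one ⟨9829, 5, 4⟩) (.one ⟨5679, 2, 3⟩))))) (.node 8 (.node 4 (.node 2 (.node 1 (.one ⟨11271, 4, 2⟩) (.one ⟨12128, 4, 1⟩)) (.node 1 (.one ⟨13411, 0, 1⟩) (.one ⟨15248, 5, 4⟩))) (.node 2 (.node 1 (.one ⟨1710, 4, 3⟩) (.one ⟨7669, 6, 2⟩)) (.node 1 (.one ⟨12409, 4, 3⟩) (.one ⟨4308, 6, 3⟩)))) (.node 4 (.node 2 (.node 1 (.one ⟨7212, 5, 5⟩) (.one ⟨4592, 6, 4⟩)) (.node 1 (.one ⟨15163, 5, 5⟩) (.one ⟨7193, 5, 3⟩))) (.node 2 (.node 1 (.one ⟨7947, 6, 5⟩) (.one ⟨5099, 6, 4⟩)) (.node 1 (.one ⟨15229, 5, 3⟩) (.one ⟨5935, 6, 4⟩)))))))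
def par3_1_14 : Arr Par :=
  (.node 32 (.node 16 (.node 8 (.node 4 (.node 2 (.node 1 (.one ⟨15160, 5, 3⟩) (.one ⟨3572, 6, 5⟩)) (.node 1 (.one ⟨491, 6, 5⟩) (.one ⟨2107, 6, 2⟩))) (.node 2 (.node 1 (.one ⟨4220, 5, 4⟩) (.one ⟨10403, 5, 3⟩)) (.node 1 (.one ⟨5695, 6, 4⟩) (.one ⟨2172, 1, 1⟩)))) (.node 4 (.node 2 (.node 1 (.one ⟨3142, 5, 3⟩) (.one ⟨3602, 5, 3⟩)) (.node 1 (.one ⟨4956, 4, 3⟩) (.one ⟨12165, 4, 3⟩))) (.node 2 (.node 1 (.one ⟨6649, 3, 3⟩) (.one ⟨12348, 5, 5⟩)) (.node 1 (.one ⟨1277, 5, 4⟩) (.one ⟨5586, 3, 2⟩))))) (.node 8 (.node 4 (.node 2 (.node 1 (.one ⟨129, 3, 2⟩) (.one ⟨8903, 4, 3⟩)) (.node 1 (.one ⟨12190, 5, 5⟩) (.one ⟨6255, 3, 3⟩))) (.node 2 (.node 1 (.one ⟨5360, 0, 1⟩) (.one ⟨16151, 5, 4⟩)) (.node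 1 (.one ⟨8476, 5, 5⟩) (.one ⟨15178, 5, 4⟩)))) (.node 4 (.node 2 (.node 1 (.one ⟨4941, 6, 4⟩) (.one ⟨6628, 5, 5⟩)) (.node 1 (.one ⟨13093, 5, 4⟩) (.one ⟨6750, 6, 4⟩))) (.node 2 (.node 1 (.one ⟨10124, 0, 4⟩) (.one ⟨8364, 5, 5⟩)) (.node 1 (.one ⟨14780, 3, 3⟩) (.one ⟨5704, 5, 4⟩)))))) (.node 16 (.node 8 (.node 4 (.node 2 (.node 1 (.one ⟨15798, 6, 5⟩) (.one ⟨13490, 5, 5⟩)) (.node 1 (.one ⟨1707, 4, 3⟩) (.one ⟨9087, 5, 4⟩))) (.node 2 (.node 1 (.one ⟨12638, 6, 5⟩) (.one ⟨9682, 5, 5⟩)) (.node 1 (.one ⟨1568, 6, 5⟩) (.one ⟨14629, 1, 3⟩)))) (.node 4 (.node 2 (.node 1 (.one ⟨9463, 5, 5⟩) (.one ⟨2702, 6, 3⟩)) (.node 1 (.one ⟨17172, 0, 2⟩) (.one ⟨4, 6, 3⟩))) (.node 2 (.node 1 (.one ⟨892, 6, 4⟩) (.one ⟨660, 6, 3⟩)) (.node 1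 (.one ⟨15628, 5, 3⟩) (.one ⟨4660, 5, 5⟩))))) (.node 8 (.node 4 (.node 2 (.node 1 (.one ⟨9629, 5, 3⟩) (.one ⟨14064, 5, 3⟩)) (.node 1 (.one ⟨12507, 4, 4⟩) (.one ⟨1264, 2, 2⟩))) (.node 2 (.node 1 (.one ⟨12573, 5, 5⟩) (.one ⟨16223, 5, 3⟩)) (.node 1 (.one ⟨4069, 4, 4⟩) (.one ⟨13831, 4, 2⟩)))) (.node 4 (.node 2 (.node 1 (.one ⟨3806, 6, 4⟩) (.one ⟨14812, 6, 4⟩)) (.node 1 (.one ⟨10256, 3, 5⟩) (.one ⟨8440, 1, 2⟩))) (.node 2 (.node 1 (.one ⟨12466, 6, 4⟩) (.one ⟨4791, 5, 4⟩)) (.node 1 (.one ⟨1275, 4, 5⟩) (.one ⟨14599, 6, 2⟩)))))))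
def par3_1_15 : Arr Par :=
  (.node 32 (.node 16 (.node 8 (.node 4 (.node 2 (.node 1 (.one ⟨1316, 3, 2⟩) (.one ⟨12365, 4, 3⟩)) (.node 1 (.one ⟨15525, 3, 3⟩) (.one ⟨3163, 1, 5⟩))) (.node 2 (.node 1 (.one ⟨12556, 6, 3⟩) (.one ⟨8499, 6, 3⟩)) (.node 1 (.one ⟨9724, 3, 3⟩) (.one ⟨15425, 6, 5⟩)))) (.node 4 (.node 2 (.node 1 (.one ⟨8049, 0, 4⟩) (.one ⟨3665, 0, 4⟩)) (.node 1 (.one ⟨11203, 5, 3⟩) (.one ⟨5954, 0, 4⟩))) (.node 2 (.node 1 (.one ⟨9144, 4, 4⟩) (.one ⟨15428, 6, 5⟩)) (.node 1 (.one ⟨862, 6, 4⟩) (.one ⟨1927, 4, 2⟩))))) (.node 8 (.node 4 (.node 2 (.node 1 (.one ⟨11668, 0, 4⟩) (.one ⟨5492, 6, 5⟩)) (.node 1 (.one ⟨4148, 6, 3⟩) (.one ⟨9149, 4, 1⟩))) (.node 2 (.node 1 (.one ⟨4339, 6, 4⟩) (.one ⟨13813, 4, 3⟩)) (.node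 1 (.one ⟨1679, 0, 3⟩) (.one ⟨9193, 6, 4⟩)))) (.node 4 (.node 2 (.node 1 (.one ⟨2618, 6, 5⟩) (.one ⟨7834, 6, 5⟩)) (.node 1 (.one ⟨14418, 3, 5⟩) (.one ⟨9484, 5, 5⟩))) (.node 2 (.node 1 (.one ⟨15123, 5, 4⟩) (.one ⟨5904, 5, 5⟩)) (.node 1 (.one ⟨2913, 5, 4⟩) (.one ⟨7883, 6, 3⟩)))))) (.node 16 (.node 8 (.node 4 (.node 2 (.node 1 (.one ⟨9989, 0, 4⟩) (.one ⟨9021, 6, 3⟩)) (.node 1 (.one ⟨13831, 5, 2⟩) (.one ⟨4819, 6, 2⟩))) (.node 2 (.node 1 (.one ⟨7673, 4, 4⟩) (.one ⟨4087, 6, 5⟩)) (.node 1 (.one ⟨10279, 5, 4⟩) (.one ⟨12173, 4, 3⟩)))) (.node 4 (.node 2 (.node 1 (.one ⟨9452, 3, 3⟩) (.one ⟨4956, 5, 3⟩)) (.node 1 (.one ⟨10196, 6, 2⟩) (.one ⟨4843, 5, 4⟩))) (.node 2 (.node 1 (.one ⟨12165, 5, 3⟩) (.one ⟨6041, 0, 3⟩)) (.node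 1 (.one ⟨2925, 6, 4⟩) (.one ⟨10635, 6, 4⟩))))) (.node 8 (.node 4 (.node 2 (.node 1 (.one ⟨14623, 6, 3⟩) (.one ⟨5579, 6, 2⟩)) (.node 1 (.one ⟨353, 6, 4⟩) (.one ⟨7328, 6, 4⟩))) (.node 2 (.node 1 (.one ⟨3381, 4, 4⟩) (.one ⟨10938, 6, 4⟩)) (.node 1 (.one ⟨14002, 5, 3⟩) (.one ⟨15463, 5, 3⟩)))) (.node 4 (.node 2 (.node 1 (.one ⟨16409, 6, 3⟩) (.one ⟨9143, 4, 4⟩)) (.node 1 (.one ⟨13851, 3, 4⟩) (.one ⟨15908, 5, 3⟩))) (.node 2 (.node 1 (.one ⟨15967, 6, 3⟩) (.one ⟨5045, 5, 3⟩)) (.node 1 (.one ⟨1125, 5, 4⟩) (.one ⟨15811, 5, 2⟩)))))))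
def par3_1 : Arr Par :=
  (.node 512 (.node 256 (.node 128 (.node 64 par3_1_0 par3_1_1) (.node 64 par3_1_2 par3_1_3)) (.node 128 (.node 64 par3_1_4 par3_1_5) (.node 64 par3_1_6 par3_1_7))) (.node 256 (.node 128 (.node 64 par3_1_8 par3_1_9) (.node 64 par3_1_10 par3_1_11)) (.node 128 (.node 64 par3_1_12 par3_1_13) (.node 64 par3_1_14 par3_1_15))))
def par3_2_0 : Arr Par :=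
  (.node 32 (.node 16 (.node 8 (.node 4 (.node 2 (.node 1 (.one ⟨5171, 4, 2⟩) (.one ⟨1267, 2, 2⟩)) (.node 1 (.one ⟨9835, 0, 3⟩) (.one ⟨12346, 6, 4⟩))) (.node 2 (.node 1 (.one ⟨13702, 0, 4⟩) (.one ⟨6062, 0, 4⟩)) (.node 1 (.one ⟨14225, 5, 4⟩) (.one ⟨3068, 4, 3⟩)))) (.node 4 (.node 2 (.node 1 (.one ⟨16532, 4, 4⟩) (.one ⟨9714, 3, 3⟩)) (.node 1 (.one ⟨8188, 6, 4⟩) (.one ⟨3762, 6, 5⟩))) (.node 2 (.node 1 (.one ⟨394, 6, 2⟩) (.one ⟨9754, 5, 5⟩)) (.node 1 (.one ⟨9768, 5, 5⟩) (.one ⟨11480, 5, 5⟩))))) (.node 8 (.node 4 (.node 2 (.node 1 (.one ⟨16798, 4, 3⟩) (.one ⟨1278, 4, 2⟩)) (.node 1 (.one ⟨11380, 5, 5⟩) (.one ⟨8518, 6, 2⟩))) (.node 2 (.node 1 (.one ⟨5946, 6, 2⟩) (.one ⟨1966, 0, 4⟩)) (.node 1 (.one ⟨567, 6, 4⟩) (.one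 ⟨17072, 4, 3⟩)))) (.node 4 (.node 2 (.node 1 (.one ⟨13241, 4, 4⟩) (.one ⟨11649, 5, 3⟩)) (.node 1 (.one ⟨5330, 5, 4⟩) (.one ⟨6098, 0, 3⟩))) (.node 2 (.node 1 (.one ⟨3387, 5, 4⟩) (.one ⟨10552, 5, 5⟩)) (.node 1 (.one ⟨9448, 3, 3⟩) (.one ⟨8770, 5, 2⟩)))))) (.node 16 (.node 8 (.node 4 (.node 2 (.node 1 (.one ⟨10611, 5, 4⟩) (.one ⟨2530, 5, 4⟩)) (.node 1 (.one ⟨2002, 0, 4⟩) (.one ⟨9150, 4, 1⟩))) (.node 2 (.node 1 (.one ⟨8822, 5, 4⟩) (.one ⟨8064, 0, 4⟩)) (.node 1 (.one ⟨1153, 6, 4⟩) (.one ⟨9388, 6, 2⟩)))) (.node 4 (.node 2 (.node 1 (.one ⟨8550, 6, 5⟩) (.one ⟨11421, 5, 2⟩)) (.node 1 (.one ⟨7406, 4, 3⟩) (.one ⟨4673, 6, 4⟩))) (.node 2 (.node 1 (.one ⟨2243, 5, 3⟩) (.one ⟨9138, 2, 1⟩)) (.node 1 (.one ⟨10186, 3, 5⟩) (.one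 ⟨10606, 0, 2⟩))))) (.node 8 (.node 4 (.node 2 (.node 1 (.one ⟨1412, 2, 2⟩) (.one ⟨12582, 5, 5⟩)) (.node 1 (.one ⟨11746, 6, 3⟩) (.one ⟨5679, 3, 3⟩))) (.node 2 (.node 1 (.one ⟨11238, 3, 4⟩) (.one ⟨14112, 3, 4⟩)) (.node 1 (.one ⟨9396, 5, 3⟩) (.one ⟨5551, 2, 2⟩)))) (.node 4 (.node 2 (.node 1 (.one ⟨80, 1, 0⟩) (.one ⟨14409, 2, 3⟩)) (.node 1 (.one ⟨12128, 0, 1⟩) (.one ⟨9555, 2, 1⟩))) (.node 2 (.node 1 (.one ⟨6289, 6, 3⟩) (.one ⟨16192, 4, 3⟩)) (.node 1 (.one ⟨8070, 6, 2⟩) (.one ⟨10316, 5, 2⟩)))))))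
def par3_2_1 : Arr Par :=
  (.node 32 (.node 16 (.node 8 (.node 4 (.node 2 (.node 1 (.one ⟨2136, 5, 2⟩) (.one ⟨10745, 5, 4⟩)) (.node 1 (.one ⟨6931, 6, 2⟩) (.one ⟨6574, 5, 4⟩))) (.node 2 (.node 1 (.one ⟨13844, 5, 5⟩) (.one ⟨6364, 5, 3⟩)) (.node 1 (.one ⟨14078, 5, 4⟩) (.one ⟨10171, 1, 3⟩)))) (.node 4 (.node 2 (.node 1 (.one ⟨13229, 5, 5⟩) (.one ⟨663, 5, 4⟩)) (.node 1 (.one ⟨8486, 5, 4⟩) (.one ⟨4877, 5, 5⟩))) (.node 2 (.node 1 (.one ⟨6287, 6, 3⟩) (.one ⟨17029, 5, 4⟩)) (.node 1 (.one ⟨1416, 4, 2⟩) (.one ⟨1407, 2, 2⟩))))) (.node 8 (.node 4 (.node 2 (.node 1 (.one ⟨1577, 0, 5⟩) (.one ⟨14236, 5, 4⟩)) (.node 1 (.one ⟨10478, 0, 4⟩) (.one ⟨5746, 3, 4⟩))) (.node 2 (.node 1 (.one ⟨10213, 3, 4⟩) (.one ⟨14776, 5, 4⟩)) (.node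 1 (.one ⟨10563, 0, 4⟩) (.one ⟨1372, 6, 2⟩)))) (.node 4 (.node 2 (.node 1 (.one ⟨9556, 2, 1⟩) (.one ⟨8135, 6, 3⟩)) (.node 1 (.one ⟨12770, 5, 3⟩) (.one ⟨13540, 6, 4⟩))) (.node 2 (.node 1 (.one ⟨11568, 3, 3⟩) (.one ⟨6895, 5, 5⟩)) (.node 1 (.one ⟨6465, 4, 4⟩) (.one ⟨15933, 5, 2⟩)))))) (.node 16 (.node 8 (.node 4 (.node 2 (.node 1 (.one ⟨2114, 0, 3⟩) (.one ⟨4820, 6, 3⟩)) (.node 1 (.one ⟨1131, 5, 4⟩) (.one ⟨14014, 6, 3⟩))) (.node 2 (.node 1 (.one ⟨15299, 6, 3⟩) (.one ⟨6565, 5, 5⟩)) (.node 1 (.one ⟨5847, 3, 4⟩) (.one ⟨13547, 5, 4⟩)))) (.node 4 (.node 2 (.node 1 (.one ⟨13294, 5, 4⟩) (.one ⟨5099, 5, 4⟩)) (.node 1 (.one ⟨12475, 6, 5⟩) (.one ⟨5871, 4, 3⟩))) (.node 2 (.node 1 (.one ⟨9732, 5, 4⟩) (.one ⟨17097, 6, 3⟩)) (.node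 1 (.one ⟨2181, 5, 4⟩) (.one ⟨12564, 5, 4⟩))))) (.node 8 (.node 4 (.node 2 (.node 1 (.one ⟨15885, 1, 3⟩) (.one ⟨12085, 5, 5⟩)) (.node 1 (.one ⟨7627, 1, 3⟩) (.one ⟨11237, 1, 3⟩))) (.node 2 (.node 1 (.one ⟨9910, 6, 1⟩) (.one ⟨10555, 0, 2⟩)) (.node 1 (.one ⟨5873, 3, 3⟩) (.one ⟨5618, 6, 5⟩)))) (.node 4 (.node 2 (.node 1 (.one ⟨10610, 5, 5⟩) (.one ⟨15207, 6, 3⟩)) (.node 1 (.one ⟨311, 6, 5⟩) (.one ⟨7857, 6, 3⟩))) (.node 2 (.node 1 (.one ⟨5211, 1, 0⟩) (.one ⟨17096, 6, 5⟩)) (.node 1 (.one ⟨2112, 0, 3⟩) (.one ⟨1183, 6, 4⟩)))))))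
def par3_2_2 : Arr Par :=
  (.node 32 (.node 16 (.node 8 (.node 4 (.node 2 (.node 1 (.one ⟨5737, 3, 3⟩) (.one ⟨7342, 6, 4⟩)) (.node 1 (.one ⟨13493, 3, 4⟩) (.one ⟨7948, 4, 3⟩))) (.node 2 (.node 1 (.one ⟨13450, 5, 3⟩) (.one ⟨1425, 3, 3⟩)) (.node 1 (.one ⟨13598, 6, 4⟩) (.one ⟨73, 1, 0⟩)))) (.node 4 (.node 2 (.node 1 (.one ⟨9519, 3, 2⟩) (.one ⟨8764, 5, 5⟩)) (.node 1 (.one ⟨134, 1, 0⟩) (.one ⟨11583, 5, 5⟩))) (.node 2 (.node 1 (.one ⟨3442, 5, 5⟩) (.one ⟨15453, 5, 3⟩)) (.node 1 (.one ⟨12482, 4, 4⟩) (.one ⟨16451, 6, 3⟩))))) (.node 8 (.node 4 (.node 2 (.node 1 (.one ⟨10442, 0, 2⟩) (.one ⟨7919, 3, 4⟩)) (.node 1 (.one ⟨9099, 6, 4⟩) (.one ⟨368, 5, 3⟩))) (.node 2 (.node 1 (.one ⟨16951, 6, 3⟩) (.one ⟨9040, 4, 4⟩)) (.node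 1 (.one ⟨2164, 0, 2⟩) (.one ⟨10283, 1, 2⟩)))) (.node 4 (.node 2 (.node 1 (.one ⟨7784, 6, 5⟩) (.one ⟨1543, 6, 4⟩)) (.node 1 (.one ⟨5878, 4, 4⟩) (.one ⟨15815, 6, 5⟩))) (.node 2 (.node 1 (.one ⟨15882, 6, 5⟩) (.one ⟨2561, 5, 3⟩)) (.node 1 (.one ⟨2147, 0, 4⟩) (.one ⟨5586, 2, 2⟩)))))) (.node 16 (.node 8 (.node 4 (.node 2 (.node 1 (.one ⟨12896, 6, 4⟩) (.one ⟨4585, 5, 4⟩)) (.node 1 (.one ⟨3085, 6, 3⟩) (.one ⟨1426, 3, 3⟩))) (.node 2 (.node 1 (.one ⟨16592, 6, 3⟩) (.one ⟨3383, 5, 4⟩)) (.node 1 (.one ⟨5913, 1, 3⟩) (.one ⟨84, 1, 0⟩)))) (.node 4 (.node 2 (.node 1 (.one ⟨5787, 3, 3⟩) (.one ⟨4049, 0, 1⟩)) (.node 1 (.one ⟨6155, 3, 2⟩) (.one ⟨11056, 5, 5⟩))) (.node 2 (.node 1 (.one ⟨16230, 5, 5⟩) (.one ⟨9523, 3, 2⟩)) (.node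 1 (.one ⟨414, 5, 5⟩) (.one ⟨2217, 1, 2⟩))))) (.node 8 (.node 4 (.node 2 (.node 1 (.one ⟨15100, 5, 5⟩) (.one ⟨76, 1, 0⟩)) (.node 1 (.one ⟨1391, 3, 2⟩) (.one ⟨2533, 5, 5⟩))) (.node 2 (.node 1 (.one ⟨1940, 3, 2⟩) (.one ⟨14391, 4, 3⟩)) (.node 1 (.one ⟨359, 3, 2⟩) (.one ⟨4111, 6, 5⟩)))) (.node 4 (.node 2 (.node 1 (.one ⟨11517, 6, 2⟩) (.one ⟨6991, 5, 3⟩)) (.node 1 (.one ⟨269, 4, 4⟩) (.one ⟨632, 5, 4⟩))) (.node 2 (.node 1 (.one ⟨757, 5, 5⟩) (.one ⟨14313, 6, 3⟩)) (.node 1 (.one ⟨946, 4, 4⟩) (.one ⟨10188, 6, 2⟩)))))))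
def par3_2_3 : Arr Par :=
  (.node 32 (.node 16 (.node 8 (.node 4 (.node 2 (.node 1 (.one ⟨5705, 5, 3⟩) (.one ⟨13875, 6, 4⟩)) (.node 1 (.one ⟨5771, 5, 3⟩) (.one ⟨11495, 2, 2⟩))) (.node 2 (.node 1 (.one ⟨16223, 6, 3⟩) (.one ⟨12008, 6, 5⟩)) (.node 1 (.one ⟨9618, 4, 4⟩) (.one ⟨6400, 5, 4⟩)))) (.node 4 (.node 2 (.node 1 (.one ⟨1382, 3, 1⟩) (.one ⟨17016, 5, 4⟩)) (.node 1 (.one ⟨1700, 0, 3⟩) (.one ⟨12831, 5, 3⟩))) (.node 2 (.node 1 (.one ⟨14735, 0, 3⟩) (.one ⟨1680, 5, 3⟩)) (.node 1 (.one ⟨4398, 0, 3⟩) (.one ⟨14315, 5, 4⟩))))) (.node 8 (.node 4 (.node 2 (.node 1 (.one ⟨9226, 6, 5⟩) (.one ⟨17008, 6, 4⟩)) (.node 1 (.one ⟨10608, 5, 4⟩) (.one ⟨9200, 5, 4⟩))) (.node 2 (.node 1 (.one ⟨13129, 6, 4⟩) (.one ⟨17017, 5, 4⟩))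 (.node 1 (.one ⟨14107, 5, 4⟩) (.one ⟨3831, 6, 2⟩)))) (.node 4 (.node 2 (.node 1 (.one ⟨11912, 6, 2⟩) (.one ⟨3865, 6, 2⟩)) (.node 1 (.one ⟨3806, 5, 4⟩) (.one ⟨2225, 5, 1⟩))) (.node 2 (.node 1 (.one ⟨1729, 5, 2⟩) (.one ⟨394, 5, 2⟩)) (.node 1 (.one ⟨11900, 4, 3⟩) (.one ⟨14912, 5, 4⟩)))))) (.node 16 (.node 8 (.node 4 (.node 2 (.node 1 (.one ⟨11274, 6, 2⟩) (.one ⟨10846, 5, 4⟩)) (.node 1 (.one ⟨5691, 5, 4⟩) (.one ⟨14176, 5, 2⟩))) (.node 2 (.node 1 (.one ⟨10076, 1, 3⟩) (.one ⟨5617, 6, 5⟩)) (.node 1 (.one ⟨13954, 1, 3⟩) (.one ⟨4367, 5, 4⟩)))) (.node 4 (.node 2 (.node 1 (.one ⟨13818, 5, 4⟩) (.one ⟨16086, 5, 4⟩)) (.node 1 (.one ⟨2047, 6, 3⟩) (.one ⟨9309, 6, 3⟩))) (.node 2 (.node 1 (.one ⟨1388, 2, 1⟩) (.one ⟨151, 1, 0⟩))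 (.node 1 (.one ⟨6089, 6, 5⟩) (.one ⟨8770, 3, 2⟩))))) (.node 8 (.node 4 (.node 2 (.node 1 (.one ⟨10278, 6, 3⟩) (.one ⟨5530, 6, 4⟩)) (.node 1 (.one ⟨16546, 3, 3⟩) (.one ⟨9189, 6, 3⟩))) (.node 2 (.node 1 (.one ⟨5310, 4, 3⟩) (.one ⟨6956, 5, 2⟩)) (.node 1 (.one ⟨1180, 4, 2⟩) (.one ⟨15339, 6, 5⟩)))) (.node 4 (.node 2 (.node 1 (.one ⟨3701, 5, 4⟩) (.one ⟨12087, 4, 5⟩)) (.node 1 (.one ⟨187, 5, 5⟩) (.one ⟨1078, 3, 2⟩))) (.node 2 (.node 1 (.one ⟨2264, 1, 3⟩) (.one ⟨2322, 1, 3⟩)) (.node 1 (.one ⟨3092, 6, 4⟩) (.one ⟨2232, 1, 3⟩)))))))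
def par3_2_4 : Arr Par :=
  (.node 32 (.node 16 (.node 8 (.node 4 (.node 2 (.node 1 (.one ⟨11027, 5, 5⟩) (.one ⟨7531, 6, 5⟩)) (.node 1 (.one ⟨6539, 3, 4⟩) (.one ⟨2946, 5, 3⟩))) (.node 2 (.node 1 (.one ⟨11006, 5, 3⟩) (.one ⟨7612, 5, 4⟩)) (.node 1 (.one ⟨9958, 6, 4⟩) (.one ⟨10759, 6, 1⟩)))) (.node 4 (.node 2 (.node 1 (.one ⟨17146, 1, 2⟩) (.one ⟨14676, 1, 5⟩)) (.node 1 (.one ⟨6855, 6, 2⟩) (.one ⟨8687, 6, 3⟩))) (.node 2 (.node 1 (.one ⟨6662, 1, 2⟩) (.one ⟨9586, 3, 2⟩)) (.node 1 (.one ⟨10322, 1, 3⟩) (.one ⟨4680, 4, 4⟩))))) (.node 8 (.node 4 (.node 2 (.node 1 (.one ⟨8922, 5, 4⟩) (.one ⟨1491, 4, 3⟩)) (.node 1 (.one ⟨11638, 6, 2⟩) (.one ⟨4167, 5, 4⟩))) (.node 2 (.node 1 (.one ⟨7086, 4, 4⟩) (.one ⟨8853, 5, 5⟩)) (.node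 1 (.one ⟨6953, 5, 4⟩) (.one ⟨4714, 5, 3⟩)))) (.node 4 (.node 2 (.node 1 (.one ⟨12014, 6, 3⟩) (.one ⟨9687, 6, 4⟩)) (.node 1 (.one ⟨861, 5, 3⟩) (.one ⟨9378, 6, 3⟩))) (.node 2 (.node 1 (.one ⟨1290, 2, 1⟩) (.one ⟨2272, 1, 3⟩)) (.node 1 (.one ⟨12028, 6, 3⟩) (.one ⟨10783, 6, 2⟩)))))) (.node 16 (.node 8 (.node 4 (.node 2 (.node 1 (.one ⟨14378, 5, 4⟩) (.one ⟨1683, 4, 5⟩)) (.node 1 (.one ⟨6285, 2, 2⟩) (.one ⟨4940, 5, 4⟩))) (.node 2 (.node 1 (.one ⟨15811, 6, 2⟩) (.one ⟨15286, 6, 5⟩)) (.node 1 (.one ⟨1169, 4, 4⟩) (.one ⟨2768, 6, 3⟩)))) (.node 4 (.node 2 (.node 1 (.one ⟨17130, 5, 4⟩) (.one ⟨16464, 6, 3⟩)) (.node 1 (.one ⟨15808, 6, 5⟩) (.one ⟨4715, 0, 4⟩))) (.node 2 (.node 1 (.one ⟨16713, 4, 3⟩) (.one ⟨1258, 5, 5⟩)) (.node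 1 (.one ⟨10175, 6, 4⟩) (.one ⟨10722, 5, 5⟩))))) (.node 8 (.node 4 (.node 2 (.node 1 (.one ⟨14604, 5, 2⟩) (.one ⟨6384, 6, 2⟩)) (.node 1 (.one ⟨14745, 6, 4⟩) (.one ⟨6406, 5, 4⟩))) (.node 2 (.node 1 (.one ⟨2284, 5, 2⟩) (.one ⟨13244, 3, 3⟩)) (.node 1 (.one ⟨16549, 5, 4⟩) (.one ⟨16102, 5, 4⟩)))) (.node 4 (.node 2 (.node 1 (.one ⟨9315, 5, 4⟩) (.one ⟨12246, 5, 5⟩)) (.node 1 (.one ⟨15937, 4, 3⟩) (.one ⟨14902, 5, 2⟩))) (.node 2 (.node 1 (.one ⟨12884, 5, 3⟩) (.one ⟨11478, 5, 4⟩)) (.node 1 (.one ⟨4326, 6, 3⟩) (.one ⟨7937, 5, 4⟩)))))))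
def par3_2_5 : Arr Par :=
  (.node 32 (.node 16 (.node 8 (.node 4 (.node 2 (.node 1 (.one ⟨5903, 6, 3⟩) (.one ⟨16827, 3, 5⟩)) (.node 1 (.one ⟨5014, 6, 5⟩) (.one ⟨11870, 6, 4⟩))) (.node 2 (.node 1 (.one ⟨8648, 6, 5⟩) (.one ⟨13255, 3, 5⟩)) (.node 1 (.one ⟨14849, 5, 4⟩) (.one ⟨3877, 6, 5⟩)))) (.node 4 (.node 2 (.node 1 (.one ⟨11149, 1, 3⟩) (.one ⟨8566, 6, 4⟩)) (.node 1 (.one ⟨435, 6, 5⟩) (.one ⟨2893, 1, 3⟩))) (.node 2 (.node 1 (.one ⟨15717, 1, 3⟩) (.one ⟨3727, 6, 5⟩)) (.node 1 (.one ⟨3854, 1, 3⟩) (.one ⟨6372, 3, 3⟩))))) (.node 8 (.node 4 (.node 2 (.node 1 (.one ⟨2727, 3, 3⟩) (.one ⟨1729, 3, 2⟩)) (.node 1 (.one ⟨5784, 1, 2⟩) (.one ⟨8992, 0, 3⟩))) (.node 2 (.node 1 (.one ⟨13463, 4, 3⟩) (.one ⟨193, 5, 5⟩)) (.node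 1 (.one ⟨9061, 5, 5⟩) (.one ⟨9886, 3, 1⟩)))) (.node 4 (.node 2 (.node 1 (.one ⟨15071, 5, 5⟩) (.one ⟨14156, 3, 2⟩)) (.node 1 (.one ⟨2775, 6, 5⟩) (.one ⟨3438, 5, 3⟩))) (.node 2 (.node 1 (.one ⟨6642, 6, 3⟩) (.one ⟨8744, 6, 4⟩)) (.node 1 (.one ⟨7900, 6, 3⟩) (.one ⟨6332, 3, 3⟩)))))) (.node 16 (.node 8 (.node 4 (.node 2 (.node 1 (.one ⟨5657, 6, 4⟩) (.one ⟨6758, 6, 4⟩)) (.node 1 (.one ⟨7164, 6, 3⟩) (.one ⟨16532, 5, 4⟩))) (.node 2 (.node 1 (.one ⟨10404, 5, 3⟩) (.one ⟨10456, 6, 2⟩)) (.node 1 (.one ⟨14995, 4, 3⟩) (.one ⟨14410, 6, 3⟩)))) (.node 4 (.node 2 (.node 1 (.one ⟨13294, 4, 4⟩) (.one ⟨7443, 4, 3⟩)) (.node 1 (.one ⟨11755, 5, 4⟩) (.one ⟨16801, 3, 4⟩))) (.node 2 (.node 1 (.one ⟨8448, 6, 4⟩) (.one ⟨13800, 5, 5⟩)) (.node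 1 (.one ⟨11988, 6, 2⟩) (.one ⟨5371, 5, 4⟩))))) (.node 8 (.node 4 (.node 2 (.node 1 (.one ⟨3954, 4, 3⟩) (.one ⟨907, 0, 3⟩)) (.node 1 (.one ⟨6064, 6, 4⟩) (.one ⟨12711, 5, 3⟩))) (.node 2 (.node 1 (.one ⟨2689, 3, 2⟩) (.one ⟨2765, 6, 4⟩)) (.node 1 (.one ⟨2556, 5, 3⟩) (.one ⟨5656, 5, 4⟩)))) (.node 4 (.node 2 (.node 1 (.one ⟨3973, 5, 4⟩) (.one ⟨16712, 4, 4⟩)) (.node 1 (.one ⟨4472, 5, 5⟩) (.one ⟨2875, 4, 3⟩))) (.node 2 (.node 1 (.one ⟨16980, 5, 4⟩) (.one ⟨6563, 4, 3⟩)) (.node 1 (.one ⟨17128, 5, 4⟩) (.one ⟨14346, 5, 3⟩)))))))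
def par3_2_6 : Arr Par :=
  (.node 32 (.node 16 (.node 8 (.node 4 (.node 2 (.node 1 (.one ⟨11452, 0, 3⟩) (.one ⟨1291, 6, 4⟩)) (.node 1 (.one ⟨8464, 4, 2⟩) (.one ⟨8068, 4, 2⟩))) (.node 2 (.node 1 (.one ⟨9279, 6, 4⟩) (.one ⟨12100, 4, 4⟩)) (.node 1 (.one ⟨6814, 6, 4⟩) (.one ⟨7225, 3, 3⟩)))) (.node 4 (.node 2 (.node 1 (.one ⟨5337, 6, 3⟩) (.one ⟨12987, 5, 4⟩)) (.node 1 (.one ⟨8172, 5, 4⟩) (.one ⟨11118, 6, 3⟩))) (.node 2 (.node 1 (.one ⟨7567, 0, 4⟩) (.one ⟨7787, 1, 4⟩)) (.node 1 (.one ⟨7237, 5, 5⟩) (.one ⟨10153, 5, 4⟩))))) (.node 8 (.node 4 (.node 2 (.node 1 (.one ⟨12931, 5, 4⟩) (.one ⟨12196, 5, 3⟩)) (.node 1 (.one ⟨4897, 6, 4⟩) (.one ⟨4331, 5, 5⟩))) (.node 2 (.node 1 (.one ⟨3169, 5, 2⟩) (.one ⟨1274, 5, 2⟩)) (.node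 1 (.one ⟨5027, 5, 4⟩) (.one ⟨1111, 6, 3⟩)))) (.node 4 (.node 2 (.node 1 (.one ⟨14200, 5, 5⟩) (.one ⟨5519, 5, 4⟩)) (.node 1 (.one ⟨10790, 5, 5⟩) (.one ⟨9835, 5, 3⟩))) (.node 2 (.node 1 (.one ⟨4825, 5, 4⟩) (.one ⟨14397, 5, 3⟩)) (.node 1 (.one ⟨8903, 5, 3⟩) (.one ⟨12405, 5, 5⟩)))))) (.node 16 (.node 8 (.node 4 (.node 2 (.node 1 (.one ⟨7132, 6, 4⟩) (.one ⟨16388, 6, 4⟩)) (.node 1 (.one ⟨7064, 3, 3⟩) (.one ⟨13413, 6, 1⟩))) (.node 2 (.node 1 (.one ⟨16266, 4, 3⟩) (.one ⟨3214, 0, 4⟩)) (.node 1 (.one ⟨2251, 6, 4⟩) (.one ⟨3065, 6, 4⟩)))) (.node 4 (.node 2 (.node 1 (.one ⟨6484, 5, 4⟩) (.one ⟨5718, 6, 2⟩)) (.node 1 (.one ⟨16425, 3, 4⟩) (.one ⟨6457, 5, 4⟩))) (.node 2 (.node 1 (.one ⟨6449, 5, 5⟩) (.one ⟨11710, 1, 4⟩)) (.node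 1 (.one ⟨6171, 6, 4⟩) (.one ⟨12391, 6, 3⟩))))) (.node 8 (.node 4 (.node 2 (.node 1 (.one ⟨11716, 5, 5⟩) (.one ⟨8635, 0, 3⟩)) (.node 1 (.one ⟨10954, 0, 4⟩) (.one ⟨9010, 6, 4⟩))) (.node 2 (.node 1 (.one ⟨6077, 5, 5⟩) (.one ⟨13134, 3, 2⟩)) (.node 1 (.one ⟨10277, 6, 4⟩) (.one ⟨1553, 5, 5⟩)))) (.node 4 (.node 2 (.node 1 (.one ⟨3374, 4, 4⟩) (.one ⟨15714, 6, 5⟩)) (.node 1 (.one ⟨11231, 6, 3⟩) (.one ⟨2684, 5, 4⟩))) (.node 2 (.node 1 (.one ⟨3924, 4, 4⟩) (.one ⟨3608, 6, 4⟩)) (.node 1 (.one ⟨7443, 6, 3⟩) (.one ⟨5948, 5, 2⟩)))))))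
def par3_2_7 : Arr Par :=
  (.node 32 (.node 16 (.node 8 (.node 4 (.node 2 (.node 1 (.one ⟨16913, 5, 3⟩) (.one ⟨4927, 5, 4⟩)) (.node 1 (.one ⟨10385, 5, 4⟩) (.one ⟨12054, 6, 5⟩))) (.node 2 (.node 1 (.one ⟨16817, 3, 3⟩) (.one ⟨12312, 6, 4⟩)) (.node 1 (.one ⟨6454, 5, 5⟩) (.one ⟨3756, 5, 4⟩)))) (.node 4 (.node 2 (.node 1 (.one ⟨9864, 5, 3⟩) (.one ⟨14765, 5, 5⟩)) (.node 1 (.one ⟨8707, 5, 3⟩) (.one ⟨16964, 6, 4⟩))) (.node 2 (.node 1 (.one ⟨13070, 0, 5⟩) (.one ⟨4205, 6, 3⟩)) (.node 1 (.one ⟨8563, 5, 4⟩) (.one ⟨15946, 4, 2⟩))))) (.node 8 (.node 4 (.node 2 (.node 1 (.one ⟨12781, 5, 2⟩) (.one ⟨14296, 5, 4⟩)) (.node 1 (.one ⟨8504, 5, 4⟩) (.one ⟨3550, 5, 4⟩))) (.node 2 (.node 1 (.one ⟨11494, 5, 5⟩) (.one ⟨8598, 6, 4⟩))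 (.node 1 (.one ⟨2811, 0, 3⟩) (.one ⟨6121, 6, 4⟩)))) (.node 4 (.node 2 (.node 1 (.one ⟨11423, 3, 5⟩) (.one ⟨11005, 4, 3⟩)) (.node 1 (.one ⟨11516, 6, 2⟩) (.one ⟨4119, 5, 4⟩))) (.node 2 (.node 1 (.one ⟨3971, 4, 4⟩) (.one ⟨4392, 6, 4⟩)) (.node 1 (.one ⟨15399, 3, 5⟩) (.one ⟨4468, 6, 4⟩)))))) (.node 16 (.node 8 (.node 4 (.node 2 (.node 1 (.one ⟨734, 4, 4⟩) (.one ⟨6364, 6, 3⟩)) (.node 1 (.one ⟨639, 4, 3⟩) (.one ⟨14283, 5, 4⟩))) (.node 2 (.node 1 (.one ⟨12372, 5, 3⟩) (.one ⟨4349, 5, 4⟩)) (.node 1 (.one ⟨6306, 5, 4⟩) (.one ⟨6619, 4, 4⟩)))) (.node 4 (.node 2 (.node 1 (.one ⟨6631, 0, 3⟩) (.one ⟨9257, 5, 4⟩)) (.node 1 (.one ⟨7084, 0, 4⟩) (.one ⟨15760, 5, 5⟩))) (.node 2 (.node 1 (.one ⟨4665, 5, 2⟩) (.one ⟨12090, 5, 4⟩))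 (.node 1 (.one ⟨8978, 5, 3⟩) (.one ⟨13767, 6, 4⟩))))) (.node 8 (.node 4 (.node 2 (.node 1 (.one ⟨7707, 5, 3⟩) (.one ⟨7548, 4, 4⟩)) (.node 1 (.one ⟨4463, 6, 4⟩) (.one ⟨2111, 0, 3⟩))) (.node 2 (.node 1 (.one ⟨13167, 6, 4⟩) (.one ⟨15690, 5, 5⟩)) (.node 1 (.one ⟨127, 3, 3⟩) (.one ⟨13487, 5, 4⟩)))) (.node 4 (.node 2 (.node 1 (.one ⟨10190, 2, 2⟩) (.one ⟨7382, 6, 4⟩)) (.node 1 (.one ⟨8487, 5, 4⟩) (.one ⟨12201, 6, 3⟩))) (.node 2 (.node 1 (.one ⟨12867, 0, 2⟩) (.one ⟨1017, 6, 5⟩)) (.node 1 (.one ⟨13219, 5, 5⟩) (.one ⟨4623, 4, 3⟩)))))))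
def par3_2_8 : Arr Par :=
  (.node 32 (.node 16 (.node 8 (.node 4 (.node 2 (.node 1 (.one ⟨22, 4, 4⟩) (.one ⟨1048, 6, 2⟩)) (.node 1 (.one ⟨16937, 4, 4⟩) (.one ⟨15405, 3, 3⟩))) (.node 2 (.node 1 (.one ⟨11713, 4, 4⟩) (.one ⟨11170, 6, 4⟩)) (.node 1 (.one ⟨7504, 4, 4⟩) (.one ⟨7697, 2, 2⟩)))) (.node 4 (.node 2 (.node 1 (.one ⟨2223, 3, 3⟩) (.one ⟨9059, 5, 5⟩)) (.node 1 (.one ⟨511, 5, 5⟩) (.one ⟨394, 3, 2⟩))) (.node 2 (.node 1 (.one ⟨5960, 3, 2⟩) (.one ⟨12623, 4, 3⟩)) (.node 1 (.one ⟨7051, 0, 3⟩) (.one ⟨7497, 6, 5⟩))))) (.node 8 (.node 4 (.node 2 (.node 1 (.one ⟨8667, 0, 4⟩) (.one ⟨11006, 3, 3⟩)) (.node 1 (.one ⟨14920, 5, 3⟩) (.one ⟨12058, 6, 3⟩))) (.node 2 (.node 1 (.one ⟨7123, 6, 5⟩) (.one ⟨8413, 6, 5⟩)) (.node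 1 (.one ⟨9689, 6, 3⟩) (.one ⟨10720, 5, 4⟩)))) (.node 4 (.node 2 (.node 1 (.one ⟨2143, 0, 3⟩) (.one ⟨12290, 6, 2⟩)) (.node 1 (.one ⟨12141, 5, 3⟩) (.one ⟨7881, 0, 3⟩))) (.node 2 (.node 1 (.one ⟨4199, 6, 2⟩) (.one ⟨1789, 2, 3⟩)) (.node 1 (.one ⟨16878, 6, 2⟩) (.one ⟨3379, 5, 2⟩)))))) (.node 16 (.node 8 (.node 4 (.node 2 (.node 1 (.one ⟨1998, 5, 5⟩) (.one ⟨15299, 4, 3⟩)) (.node 1 (.one ⟨8567, 5, 5⟩) (.one ⟨13579, 1, 3⟩))) (.node 2 (.node 1 (.one ⟨12875, 6, 5⟩) (.one ⟨3446, 6, 2⟩)) (.node 1 (.one ⟨94, 0, 4⟩) (.one ⟨15870, 5, 4⟩)))) (.node 4 (.node 2 (.node 1 (.one ⟨3191, 6, 4⟩) (.one ⟨9660, 6, 3⟩)) (.node 1 (.one ⟨15302, 6, 5⟩) (.one ⟨7971, 2, 2⟩))) (.node 2 (.node 1 (.one ⟨12905, 5, 5⟩) (.one ⟨10629, 4, 3⟩)) (.node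 1 (.one ⟨4723, 4, 4⟩) (.one ⟨13558, 6, 3⟩))))) (.node 8 (.node 4 (.node 2 (.node 1 (.one ⟨14957, 4, 3⟩) (.one ⟨15113, 4, 3⟩)) (.node 1 (.one ⟨9437, 2, 1⟩) (.one ⟨14445, 5, 1⟩))) (.node 2 (.node 1 (.one ⟨11647, 3, 4⟩) (.one ⟨14319, 6, 4⟩)) (.node 1 (.one ⟨4792, 6, 5⟩) (.one ⟨15763, 4, 3⟩)))) (.node 4 (.node 2 (.node 1 (.one ⟨3031, 5, 4⟩) (.one ⟨12419, 4, 3⟩)) (.node 1 (.one ⟨5668, 5, 4⟩) (.one ⟨17108, 5, 4⟩))) (.node 2 (.node 1 (.one ⟨1108, 4, 3⟩) (.one ⟨1825, 6, 3⟩)) (.node 1 (.one ⟨15013, 6, 4⟩) (.one ⟨10064, 6, 3⟩)))))))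
def par3_2_9 : Arr Par :=
  (.node 32 (.node 16 (.node 8 (.node 4 (.node 2 (.node 1 (.one ⟨4064, 0, 3⟩) (.one ⟨2894, 0, 4⟩)) (.node 1 (.one ⟨215, 6, 3⟩) (.one ⟨5034, 6, 3⟩))) (.node 2 (.node 1 (.one ⟨1114, 4, 2⟩) (.one ⟨14898, 5, 2⟩)) (.node 1 (.one ⟨7064, 5, 3⟩) (.one ⟨6340, 6, 3⟩)))) (.node 4 (.node 2 (.node 1 (.one ⟨648, 5, 3⟩) (.one ⟨17065, 6, 4⟩)) (.node 1 (.one ⟨14446, 6, 3⟩) (.one ⟨11136, 5, 4⟩))) (.node 2 (.node 1 (.one ⟨3105, 5, 5⟩) (.one ⟨12585, 6, 4⟩)) (.node 1 (.one ⟨11502, 6, 4⟩) (.one ⟨9381, 5, 2⟩))))) (.node 8 (.node 4 (.node 2 (.node 1 (.one ⟨1110, 3, 2⟩) (.one ⟨15625, 5, 3⟩)) (.node 1 (.one ⟨3716, 5, 4⟩) (.one ⟨11030, 5, 5⟩))) (.node 2 (.node 1 (.one ⟨8336, 5, 4⟩) (.one ⟨3398, 6, 4⟩)) (.node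 1 (.one ⟨4579, 5, 3⟩) (.one ⟨7420, 6, 4⟩)))) (.node 4 (.node 2 (.node 1 (.one ⟨15627, 6, 3⟩) (.one ⟨3397, 6, 5⟩)) (.node 1 (.one ⟨1789, 5, 3⟩) (.one ⟨9911, 5, 4⟩))) (.node 2 (.node 1 (.one ⟨13896, 6, 4⟩) (.one ⟨1261, 5, 3⟩)) (.node 1 (.one ⟨10389, 5, 5⟩) (.one ⟨13397, 6, 4⟩)))))) (.node 16 (.node 8 (.node 4 (.node 2 (.node 1 (.one ⟨11452, 3, 3⟩) (.one ⟨4205, 1, 3⟩)) (.node 1 (.one ⟨10798, 6, 3⟩) (.one ⟨15744, 4, 4⟩))) (.node 2 (.node 1 (.one ⟨2882, 0, 4⟩) (.one ⟨1103, 4, 3⟩)) (.node 1 (.one ⟨2626, 1, 4⟩) (.one ⟨12772, 5, 3⟩)))) (.node 4 (.node 2 (.node 1 (.one ⟨16247, 6, 3⟩) (.one ⟨11967, 6, 3⟩)) (.node 1 (.one ⟨9219, 5, 4⟩) (.one ⟨9438, 2, 1⟩))) (.node 2 (.node 1 (.one ⟨9191, 6, 2⟩) (.one ⟨13909, 6, 3⟩)) (.node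 1 (.one ⟨6901, 5, 3⟩) (.one ⟨1364, 5, 1⟩))))) (.node 8 (.node 4 (.node 2 (.node 1 (.one ⟨16851, 6, 4⟩) (.one ⟨202, 5, 3⟩)) (.node 1 (.one ⟨13837, 6, 4⟩) (.one ⟨3524, 4, 4⟩))) (.node 2 (.node 1 (.one ⟨11091, 6, 4⟩) (.one ⟨11149, 6, 3⟩)) (.node 1 (.one ⟨12283, 6, 4⟩) (.one ⟨8142, 6, 4⟩)))) (.node 4 (.node 2 (.node 1 (.one ⟨2253, 6, 4⟩) (.one ⟨12933, 3, 5⟩)) (.node 1 (.one ⟨3769, 4, 3⟩) (.one ⟨2699, 0, 3⟩))) (.node 2 (.node 1 (.one ⟨7649, 5, 3⟩) (.one ⟨13397, 5, 4⟩)) (.node 1 (.one ⟨15234, 5, 3⟩) (.one ⟨1556, 5, 2⟩)))))))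
def par3_2_10 : Arr Par :=
  (.node 32 (.node 16 (.node 8 (.node 4 (.node 2 (.node 1 (.one ⟨15211, 6, 3⟩) (.one ⟨1776, 6, 1⟩)) (.node 1 (.one ⟨11271, 6, 2⟩) (.one ⟨89, 6, 3⟩))) (.node 2 (.node 1 (.one ⟨10000, 3, 3⟩) (.one ⟨14276, 1, 2⟩)) (.node 1 (.one ⟨9348, 3, 2⟩) (.one ⟨6123, 6, 4⟩)))) (.node 4 (.node 2 (.node 1 (.one ⟨12391, 1, 3⟩) (.one ⟨4626, 5, 2⟩)) (.node 1 (.one ⟨9613, 4, 4⟩) (.one ⟨1711, 5, 2⟩))) (.node 2 (.node 1 (.one ⟨10927, 5, 5⟩) (.one ⟨2495, 4, 3⟩)) (.node 1 (.one ⟨3446, 3, 2⟩) (.one ⟨4031, 6, 5⟩))))) (.node 8 (.node 4 (.node 2 (.node 1 (.one ⟨9610, 4, 4⟩) (.one ⟨12310, 3, 1⟩)) (.node 1 (.one ⟨10456, 4, 2⟩) (.one ⟨2720, 0, 3⟩))) (.node 2 (.node 1 (.one ⟨9555, 5, 1⟩) (.one ⟨7587, 5, 3⟩)) (.node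 1 (.one ⟨11313, 5, 5⟩) (.one ⟨11642, 0, 3⟩)))) (.node 4 (.node 2 (.node 1 (.one ⟨9351, 5, 2⟩) (.one ⟨9356, 5, 2⟩)) (.node 1 (.one ⟨14658, 6, 5⟩) (.one ⟨607, 5, 2⟩))) (.node 2 (.node 1 (.one ⟨86, 5, 5⟩) (.one ⟨6762, 3, 5⟩)) (.node 1 (.one ⟨429, 6, 5⟩) (.one ⟨10140, 5, 4⟩)))))) (.node 16 (.node 8 (.node 4 (.node 2 (.node 1 (.one ⟨5551, 5, 2⟩) (.one ⟨12229, 4, 4⟩)) (.node 1 (.one ⟨15686, 4, 4⟩) (.one ⟨12424, 5, 5⟩))) (.node 2 (.node 1 (.one ⟨1014, 6, 4⟩) (.one ⟨16417, 5, 4⟩)) (.node 1 (.one ⟨737, 6, 4⟩) (.one ⟨3664, 2, 2⟩)))) (.node 4 (.node 2 (.node 1 (.one ⟨42, 0, 0⟩) (.one ⟨6151, 3, 3⟩)) (.node 1 (.one ⟨5784, 3, 2⟩) (.one ⟨16153, 5, 5⟩))) (.node 2 (.node 1 (.one ⟨2531, 5, 5⟩) (.one ⟨9347, 3, 2⟩)) (.node 1 (.one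 ⟨12186, 5, 5⟩) (.one ⟨477, 3, 3⟩))))) (.node 8 (.node 4 (.node 2 (.node 1 (.one ⟨5645, 0, 2⟩) (.one ⟨15941, 6, 5⟩)) (.node 1 (.one ⟨7435, 0, 4⟩) (.one ⟨14303, 4, 3⟩))) (.node 2 (.node 1 (.one ⟨12311, 3, 4⟩) (.one ⟨4115, 6, 4⟩)) (.node 1 (.one ⟨8177, 4, 2⟩) (.one ⟨2333, 6, 4⟩)))) (.node 4 (.node 2 (.node 1 (.one ⟨1879, 5, 5⟩) (.one ⟨1871, 5, 4⟩)) (.node 1 (.one ⟨1844, 5, 4⟩) (.one ⟨6908, 6, 3⟩))) (.node 2 (.node 1 (.one ⟨9931, 5, 5⟩) (.one ⟨438, 6, 5⟩)) (.node 1 (.one ⟨9953, 5, 4⟩) (.one ⟨3287, 3, 4⟩)))))))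
def par3_2_11 : Arr Par :=
  (.node 32 (.node 16 (.node 8 (.node 4 (.node 2 (.node 1 (.one ⟨15532, 0, 3⟩) (.one ⟨8177, 6, 2⟩)) (.node 1 (.one ⟨1598, 1, 5⟩) (.one ⟨193, 6, 5⟩))) (.node 2 (.node 1 (.one ⟨13602, 4, 2⟩) (.one ⟨727, 6, 5⟩)) (.node 1 (.one ⟨9689, 5, 3⟩) (.one ⟨3513, 5, 4⟩)))) (.node 4 (.node 2 (.node 1 (.one ⟨10697, 5, 4⟩) (.one ⟨14740, 0, 3⟩)) (.node 1 (.one ⟨10458, 5, 3⟩) (.one ⟨15234, 3, 3⟩))) (.node 2 (.node 1 (.one ⟨1923, 4, 3⟩) (.one ⟨14346, 0, 3⟩)) (.node 1 (.one ⟨5916, 6, 4⟩) (.one ⟨7874, 5, 3⟩))))) (.node 8 (.node 4 (.node 2 (.node 1 (.one ⟨16583, 3, 2⟩) (.one ⟨8491, 3, 2⟩)) (.node 1 (.one ⟨3584, 3, 2⟩) (.one ⟨3050, 6, 3⟩))) (.node 2 (.node 1 (.one ⟨5733, 5, 5⟩) (.one ⟨7642, 4, 3⟩)) (.node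 1 (.one ⟨5713, 5, 5⟩) (.one ⟨12571, 5, 4⟩)))) (.node 4 (.node 2 (.node 1 (.one ⟨10952, 5, 4⟩) (.one ⟨6618, 6, 4⟩)) (.node 1 (.one ⟨2874, 5, 4⟩) (.one ⟨5272, 5, 3⟩))) (.node 2 (.node 1 (.one ⟨769, 5, 4⟩) (.one ⟨16155, 4, 4⟩)) (.node 1 (.one ⟨13813, 0, 3⟩) (.one ⟨3398, 5, 4⟩)))))) (.node 16 (.node 8 (.node 4 (.node 2 (.node 1 (.one ⟨12134, 6, 5⟩) (.one ⟨6473, 5, 4⟩)) (.node 1 (.one ⟨7100, 4, 4⟩) (.one ⟨7729, 5, 4⟩))) (.node 2 (.node 1 (.one ⟨10777, 6, 4⟩) (.one ⟨15499, 0, 3⟩)) (.node 1 (.one ⟨3366, 5, 4⟩) (.one ⟨942, 6, 4⟩)))) (.node 4 (.node 2 (.node 1 (.one ⟨3410, 5, 4⟩) (.one ⟨8597, 6, 3⟩)) (.node 1 (.one ⟨4095, 5, 5⟩) (.one ⟨5029, 5, 2⟩))) (.node 2 (.node 1 (.one ⟨15686, 6, 4⟩) (.one ⟨2740, 4, 5⟩)) (.node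 1 (.one ⟨4380, 5, 4⟩) (.one ⟨12656, 1, 4⟩))))) (.node 8 (.node 4 (.node 2 (.node 1 (.one ⟨11093, 6, 4⟩) (.one ⟨1835, 5, 4⟩)) (.node 1 (.one ⟨4275, 5, 5⟩) (.one ⟨9152, 6, 4⟩))) (.node 2 (.node 1 (.one ⟨4451, 5, 3⟩) (.one ⟨9772, 5, 4⟩)) (.node 1 (.one ⟨12542, 5, 4⟩) (.one ⟨565, 6, 5⟩)))) (.node 4 (.node 2 (.node 1 (.one ⟨6030, 3, 4⟩) (.one ⟨4621, 6, 4⟩)) (.node 1 (.one ⟨14816, 6, 4⟩) (.one ⟨10361, 6, 2⟩))) (.node 2 (.node 1 (.one ⟨8232, 6, 3⟩) (.one ⟨8027, 4, 3⟩)) (.node 1 (.one ⟨7535, 0, 4⟩) (.one ⟨6345, 1, 3⟩)))))))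
def par3_2_12 : Arr Par :=
  (.node 32 (.node 16 (.node 8 (.node 4 (.node 2 (.node 1 (.one ⟨1605, 1, 3⟩) (.one ⟨17041, 4, 5⟩)) (.node 1 (.one ⟨6399, 1, 3⟩) (.one ⟨9150, 6, 1⟩))) (.node 2 (.node 1 (.one ⟨2845, 6, 5⟩) (.one ⟨14936, 5, 4⟩)) (.node 1 (.one ⟨16745, 4, 5⟩) (.one ⟨8044, 4, 4⟩)))) (.node 4 (.node 2 (.node 1 (.one ⟨108, 5, 4⟩) (.one ⟨9724, 6, 3⟩)) (.node 1 (.one ⟨3930, 5, 3⟩) (.one ⟨8042, 4, 4⟩))) (.node 2 (.node 1 (.one ⟨8041, 4, 4⟩) (.one ⟨4228, 6, 4⟩)) (.node 1 (.one ⟨11203, 6, 3⟩) (.one ⟨11367, 5, 4⟩))))) (.node 8 (.node 4 (.node 2 (.node 1 (.one ⟨15670, 4, 3⟩) (.one ⟨2307, 5, 4⟩)) (.node 1 (.one ⟨11628, 6, 4⟩) (.one ⟨16867, 5, 4⟩))) (.node 2 (.node 1 (.one ⟨8435, 5, 4⟩) (.one ⟨8197, 5, 4⟩)) (.node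 1 (.one ⟨2795, 6, 3⟩) (.one ⟨16567, 3, 4⟩)))) (.node 4 (.node 2 (.node 1 (.one ⟨2627, 3, 4⟩) (.one ⟨10238, 5, 4⟩)) (.node 1 (.one ⟨6319, 5, 4⟩) (.one ⟨10605, 5, 4⟩))) (.node 2 (.node 1 (.one ⟨9114, 6, 4⟩) (.one ⟨16966, 3, 4⟩)) (.node 1 (.one ⟨549, 3, 4⟩) (.one ⟨8052, 5, 4⟩)))))) (.node 16 (.node 8 (.node 4 (.node 2 (.node 1 (.one ⟨4624, 1, 4⟩) (.one ⟨12539, 5, 4⟩)) (.node 1 (.one ⟨6325, 5, 4⟩) (.one ⟨16003, 5, 4⟩))) (.node 2 (.node 1 (.one ⟨1334, 5, 3⟩) (.one ⟨14820, 6, 4⟩)) (.node 1 (.one ⟨14341, 5, 3⟩) (.one ⟨16966, 1, 4⟩)))) (.node 4 (.node 2 (.node 1 (.one ⟨10555, 4, 2⟩) (.one ⟨13557, 6, 4⟩)) (.node 1 (.one ⟨11747, 4, 3⟩) (.one ⟨12745, 5, 3⟩))) (.node 2 (.node 1 (.one ⟨2114, 6, 3⟩) (.one ⟨16798, 5, 3⟩))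 (.node 1 (.one ⟨2878, 6, 3⟩) (.one ⟨7627, 5, 3⟩))))) (.node 8 (.node 4 (.node 2 (.node 1 (.one ⟨1913, 5, 5⟩) (.one ⟨6289, 5, 3⟩)) (.node 1 (.one ⟨4341, 5, 4⟩) (.one ⟨136, 5, 4⟩))) (.node 2 (.node 1 (.one ⟨7067, 0, 4⟩) (.one ⟨3924, 5, 4⟩)) (.node 1 (.one ⟨3932, 6, 4⟩) (.one ⟨3691, 6, 3⟩)))) (.node 4 (.node 2 (.node 1 (.one ⟨3756, 4, 4⟩) (.one ⟨13995, 5, 3⟩)) (.node 1 (.one ⟨9766, 6, 3⟩) (.one ⟨8491, 6, 2⟩))) (.node 2 (.node 1 (.one ⟨4366, 6, 4⟩) (.one ⟨10326, 6, 3⟩)) (.node 1 (.one ⟨15014, 6, 2⟩) (.one ⟨9988, 5, 5⟩)))))))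
def par3_2_13 : Arr Par :=
  (.node 32 (.node 16 (.node 8 (.node 4 (.node 2 (.node 1 (.one ⟨5782, 6, 4⟩) (.one ⟨15196, 6, 3⟩)) (.node 1 (.one ⟨13302, 5, 3⟩) (.one ⟨14882, 6, 5⟩))) (.node 2 (.node 1 (.one ⟨17055, 5, 3⟩) (.one ⟨15456, 6, 4⟩)) (.node 1 (.one ⟨10042, 5, 5⟩) (.one ⟨7029, 5, 5⟩)))) (.node 4 (.node 2 (.node 1 (.one ⟨7352, 0, 3⟩) (.one ⟨8507, 3, 4⟩)) (.node 1 (.one ⟨17034, 5, 3⟩) (.one ⟨8945, 6, 2⟩))) (.node 2 (.node 1 (.one ⟨3422, 6, 4⟩) (.one ⟨12528, 6, 2⟩)) (.node 1 (.one ⟨2697, 5, 3⟩) (.one ⟨325, 4, 3⟩))))) (.node 8 (.node 4 (.node 2 (.node 1 (.one ⟨920, 4, 3⟩) (.one ⟨13189, 3, 3⟩)) (.node 1 (.one ⟨1937, 5, 4⟩) (.one ⟨3448, 6, 5⟩))) (.node 2 (.node 1 (.one ⟨422, 6, 4⟩) (.one ⟨7799, 6, 5⟩)) (.node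 1 (.one ⟨9990, 5, 4⟩) (.one ⟨14905, 4, 3⟩)))) (.node 4 (.node 2 (.node 1 (.one ⟨2934, 6, 5⟩) (.one ⟨3879, 6, 3⟩)) (.node 1 (.one ⟨16587, 6, 3⟩) (.one ⟨6345, 4, 3⟩))) (.node 2 (.node 1 (.one ⟨9219, 3, 4⟩) (.one ⟨7662, 5, 3⟩)) (.node 1 (.one ⟨13046, 4, 4⟩) (.one ⟨8836, 4, 5⟩)))))) (.node 16 (.node 8 (.node 4 (.node 2 (.node 1 (.one ⟨12499, 5, 3⟩) (.one ⟨7195, 4, 3⟩)) (.node 1 (.one ⟨13161, 5, 2⟩) (.one ⟨11912, 5, 2⟩))) (.node 2 (.node 1 (.one ⟨188, 5, 4⟩) (.one ⟨9314, 6, 3⟩)) (.node 1 (.one ⟨3026, 5, 2⟩) (.one ⟨13991, 5, 4⟩)))) (.node 4 (.node 2 (.node 1 (.one ⟨4500, 4, 3⟩) (.one ⟨15309, 5, 4⟩)) (.node 1 (.one ⟨3766, 6, 5⟩) (.one ⟨2439, 4, 4⟩))) (.node 2 (.node 1 (.one ⟨9984, 5, 4⟩) (.one ⟨2512, 0, 3⟩)) (.node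 1 (.one ⟨12537, 6, 3⟩) (.one ⟨136, 1, 0⟩))))) (.node 8 (.node 4 (.node 2 (.node 1 (.one ⟨8257, 3, 4⟩) (.one ⟨8808, 5, 5⟩)) (.node 1 (.one ⟨8461, 6, 5⟩) (.one ⟨14511, 0, 4⟩))) (.node 2 (.node 1 (.one ⟨14740, 5, 3⟩) (.one ⟨6399, 6, 3⟩)) (.node 1 (.one ⟨12068, 5, 4⟩) (.one ⟨754, 6, 4⟩)))) (.node 4 (.node 2 (.node 1 (.one ⟨9659, 5, 4⟩) (.one ⟨208, 6, 4⟩)) (.node 1 (.one ⟨16939, 4, 4⟩) (.one ⟨13649, 1, 3⟩))) (.node 2 (.node 1 (.one ⟨7685, 1, 3⟩) (.one ⟨3550, 4, 4⟩)) (.node 1 (.one ⟨8283, 5, 5⟩) (.one ⟨5913, 5, 3⟩)))))))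
def par3_2_14 : Arr Par :=
  (.node 32 (.node 16 (.node 8 (.node 4 (.node 2 (.node 1 (.one ⟨6350, 5, 5⟩) (.one ⟨3251, 5, 5⟩)) (.node 1 (.one ⟨5659, 6, 2⟩) (.one ⟨3214, 1, 4⟩))) (.node 2 (.node 1 (.one ⟨12794, 6, 4⟩) (.one ⟨8509, 5, 4⟩)) (.node 1 (.one ⟨11293, 4, 4⟩) (.one ⟨6795, 5, 2⟩)))) (.node 4 (.node 2 (.node 1 (.one ⟨536, 5, 4⟩) (.one ⟨1083, 5, 3⟩)) (.node 1 (.one ⟨13263, 6, 5⟩) (.one ⟨2847, 5, 5⟩))) (.node 2 (.node 1 (.one ⟨5646, 5, 4⟩) (.one ⟨5633, 5, 3⟩)) (.node 1 (.one ⟨2861, 5, 4⟩) (.one ⟨1424, 6, 3⟩))))) (.node 8 (.node 4 (.node 2 (.node 1 (.one ⟨143, 1, 0⟩) (.one ⟨5531, 5, 4⟩)) (.node 1 (.one ⟨16855, 4, 4⟩) (.one ⟨11751, 4, 4⟩))) (.node 2 (.node 1 (.one ⟨7506, 4, 3⟩) (.one ⟨245, 6, 2⟩)) (.node 1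 (.one ⟨13481, 4, 2⟩) (.one ⟨3718, 6, 4⟩)))) (.node 4 (.node 2 (.node 1 (.one ⟨2221, 5, 3⟩) (.one ⟨15281, 3, 3⟩)) (.node 1 (.one ⟨1876, 5, 3⟩) (.one ⟨14675, 6, 3⟩))) (.node 2 (.node 1 (.one ⟨12644, 6, 5⟩) (.one ⟨14276, 6, 2⟩)) (.node 1 (.one ⟨12003, 6, 5⟩) (.one ⟨5391, 6, 3⟩)))))) (.node 16 (.node 8 (.node 4 (.node 2 (.node 1 (.one ⟨17015, 6, 4⟩) (.one ⟨3418, 6, 5⟩)) (.node 1 (.one ⟨15186, 6, 4⟩) (.one ⟨5594, 1, 3⟩))) (.node 2 (.node 1 (.one ⟨3568, 4, 3⟩) (.one ⟨15929, 6, 4⟩)) (.node 1 (.one ⟨15592, 0, 4⟩) (.one ⟨5778, 0, 4⟩)))) (.node 4 (.node 2 (.node 1 (.one ⟨6907, 5, 3⟩) (.one ⟨14283, 0, 4⟩)) (.node 1 (.one ⟨10356, 5, 3⟩) (.one ⟨11326, 1, 5⟩))) (.node 2 (.node 1 (.one ⟨1899, 5, 4⟩) (.one ⟨6975, 0, 4⟩)) (.node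 1 (.one ⟨15338, 5, 3⟩) (.one ⟨11906, 6, 3⟩))))) (.node 8 (.node 4 (.node 2 (.node 1 (.one ⟨5920, 6, 3⟩) (.one ⟨16195, 5, 4⟩)) (.node 1 (.one ⟨1248, 1, 0⟩) (.one ⟨94, 1, 0⟩))) (.node 2 (.node 1 (.one ⟨3372, 5, 4⟩) (.one ⟨1319, 4, 2⟩)) (.node 1 (.one ⟨7503, 3, 4⟩) (.one ⟨6828, 0, 3⟩)))) (.node 4 (.node 2 (.node 1 (.one ⟨2832, 5, 4⟩) (.one ⟨209, 4, 3⟩)) (.node 1 (.one ⟨7676, 1, 4⟩) (.one ⟨7501, 1, 4⟩))) (.node 2 (.node 1 (.one ⟨2265, 6, 3⟩) (.one ⟨11661, 6, 4⟩)) (.node 1 (.one ⟨14038, 5, 5⟩) (.one ⟨10463, 4, 3⟩)))))))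
def par3_2_15 : Arr Par :=
  (.node 32 (.node 16 (.node 8 (.node 4 (.node 2 (.node 1 (.one ⟨10463, 5, 3⟩) (.one ⟨17124, 5, 4⟩)) (.node 1 (.one ⟨10439, 4, 3⟩) (.one ⟨4022, 3, 4⟩))) (.node 2 (.node 1 (.one ⟨9637, 4, 3⟩) (.one ⟨9454, 4, 4⟩)) (.node 1 (.one ⟨15413, 5, 4⟩) (.one ⟨3605, 6, 4⟩)))) (.node 4 (.node 2 (.node 1 (.one ⟨10816, 4, 3⟩) (.one ⟨1274, 3, 2⟩)) (.node 1 (.one ⟨11210, 6, 5⟩) (.one ⟨16635, 4, 4⟩))) (.node 2 (.node 1 (.one ⟨10712, 6, 2⟩) (.one ⟨14730, 5, 4⟩)) (.node 1 (.one ⟨2884, 5, 4⟩) (.one ⟨1748, 0, 4⟩))))) (.node 8 (.node 4 (.node 2 (.node 1 (.one ⟨9321, 5, 4⟩) (.one ⟨3643, 0, 4⟩)) (.node 1 (.one ⟨9141, 3, 1⟩) (.one ⟨6886, 5, 3⟩))) (.node 2 (.node 1 (.one ⟨6770, 0, 4⟩) (.one ⟨1838, 5, 3⟩)) (.node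 1 (.one ⟨15349, 5, 3⟩) (.one ⟨12062, 5, 3⟩)))) (.node 4 (.node 2 (.node 1 (.one ⟨3852, 5, 3⟩) (.one ⟨9825, 5, 3⟩)) (.node 1 (.one ⟨10685, 6, 2⟩) (.one ⟨1311, 4, 3⟩))) (.node 2 (.node 1 (.one ⟨12138, 1, 3⟩) (.one ⟨8206, 6, 3⟩)) (.node 1 (.one ⟨16678, 0, 3⟩) (.one ⟨9486, 4, 4⟩)))))) (.node 16 (.node 8 (.node 4 (.node 2 (.node 1 (.one ⟨13982, 6, 3⟩) (.one ⟨13355, 6, 3⟩)) (.node 1 (.one ⟨12930, 3, 5⟩) (.one ⟨3210, 5, 4⟩))) (.node 2 (.node 1 (.one ⟨13048, 1, 2⟩) (.one ⟨8838, 6, 3⟩)) (.node 1 (.one ⟨33, 6, 5⟩) (.one ⟨14350, 4, 3⟩)))) (.node 4 (.node 2 (.node 1 (.one ⟨5971, 6, 2⟩) (.one ⟨12622, 0, 4⟩)) (.node 1 (.one ⟨6378, 6, 2⟩) (.one ⟨11359, 5, 3⟩))) (.node 2 (.node 1 (.one ⟨9452, 4, 3⟩) (.one ⟨8110, 0, 4⟩)) (.node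 1 (.one ⟨3259, 4, 3⟩) (.one ⟨15719, 5, 5⟩))))) (.node 8 (.node 4 (.node 2 (.node 1 (.one ⟨3906, 5, 5⟩) (.one ⟨15014, 2, 2⟩)) (.node 1 (.one ⟨1521, 5, 5⟩) (.one ⟨1322, 4, 2⟩))) (.node 2 (.node 1 (.one ⟨8753, 5, 3⟩) (.one ⟨6931, 2, 2⟩)) (.node 1 (.one ⟨6545, 6, 4⟩) (.one ⟨4599, 5, 2⟩)))) (.node 4 (.node 2 (.node 1 (.one ⟨1313, 2, 2⟩) (.one ⟨15136, 5, 3⟩)) (.node 1 (.one ⟨9230, 4, 3⟩) (.one ⟨107, 5, 4⟩))) (.node 2 (.node 1 (.one ⟨8491, 5, 2⟩) (.one ⟨16130, 5, 4⟩)) (.node 1 (.one ⟨11131, 5, 2⟩) (.one ⟨8752, 5, 3⟩)))))))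
def par3_2 : Arr Par :=
  (.node 512 (.node 256 (.node 128 (.node 64 par3_2_0 par3_2_1) (.node 64 par3_2_2 par3_2_3)) (.node 128 (.node 64 par3_2_4 par3_2_5) (.node 64 par3_2_6 par3_2_7))) (.node 256 (.node 128 (.node 64 par3_2_8 par3_2_9) (.node 64 par3_2_10 par3_2_11)) (.node 128 (.node 64 par3_2_12 par3_2_13) (.node 64 par3_2_14 par3_2_15))))
def par3_3_0 : Arr Par :=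
  (.node 32 (.node 16 (.node 8 (.node 4 (.node 2 (.node 1 (.one ⟨12607, 5, 2⟩) (.one ⟨9450, 4, 4⟩)) (.node 1 (.one ⟨11799, 5, 4⟩) (.one ⟨14304, 5, 2⟩))) (.node 2 (.node 1 (.one ⟨2352, 4, 3⟩) (.one ⟨11521, 3, 2⟩)) (.node 1 (.one ⟨9208, 6, 3⟩) (.one ⟨3511, 4, 2⟩)))) (.node 4 (.node 2 (.node 1 (.one ⟨1815, 6, 5⟩) (.one ⟨3148, 5, 3⟩)) (.node 1 (.one ⟨10320, 6, 3⟩) (.one ⟨1267, 5, 2⟩))) (.node 2 (.node 1 (.one ⟨5596, 5, 4⟩) (.one ⟨16147, 0, 2⟩)) (.node 1 (.one ⟨3335, 5, 5⟩) (.one ⟨10203, 5, 3⟩))))) (.node 8 (.node 4 (.node 2 (.node 1 (.one ⟨4500, 5, 3⟩) (.one ⟨3083, 0, 3⟩)) (.node 1 (.one ⟨4578, 0, 3⟩) (.one ⟨16683, 5, 5⟩))) (.node 2 (.node 1 (.one ⟨14186, 0, 3⟩) (.one ⟨145, 6, 4⟩)) (.node 1 (.one ⟨14628, 5, 4⟩)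 (.one ⟨139, 1, 0⟩)))) (.node 4 (.node 2 (.node 1 (.one ⟨12374, 5, 5⟩) (.one ⟨11093, 1, 4⟩)) (.node 1 (.one ⟨14666, 6, 5⟩) (.one ⟨472, 1, 0⟩))) (.node 2 (.node 1 (.one ⟨8890, 4, 3⟩) (.one ⟨1314, 4, 3⟩)) (.node 1 (.one ⟨4559, 4, 4⟩) (.one ⟨5414, 6, 3⟩)))))) (.node 16 (.node 8 (.node 4 (.node 2 (.node 1 (.one ⟨1434, 6, 4⟩) (.one ⟨13398, 6, 4⟩)) (.node 1 (.one ⟨16171, 3, 2⟩) (.one ⟨3409, 5, 5⟩))) (.node 2 (.node 1 (.one ⟨9444, 2, 3⟩) (.one ⟨13459, 6, 3⟩)) (.node 1 (.one ⟨6803, 3, 2⟩) (.one ⟨9660, 5, 3⟩)))) (.node 4 (.node 2 (.node 1 (.one ⟨7465, 3, 4⟩) (.one ⟨9448, 4, 3⟩)) (.node 1 (.one ⟨15199, 5, 3⟩) (.one ⟨5008, 1, 5⟩))) (.node 2 (.node 1 (.one ⟨383, 6, 3⟩) (.one ⟨16286, 5, 3⟩)) (.node 1 (.one ⟨8310, 1, 5⟩)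 (.one ⟨1394, 4, 3⟩))))) (.node 8 (.node 4 (.node 2 (.node 1 (.one ⟨15207, 5, 3⟩) (.one ⟨17189, 5, 4⟩)) (.node 1 (.one ⟨14704, 4, 4⟩) (.one ⟨10617, 4, 4⟩))) (.node 2 (.node 1 (.one ⟨11195, 1, 4⟩) (.one ⟨11753, 0, 4⟩)) (.node 1 (.one ⟨7479, 4, 4⟩) (.one ⟨3134, 5, 5⟩)))) (.node 4 (.node 2 (.node 1 (.one ⟨6780, 4, 4⟩) (.one ⟨2405, 4, 3⟩)) (.node 1 (.one ⟨6380, 4, 2⟩) (.one ⟨1390, 4, 4⟩))) (.node 2 (.node 1 (.one ⟨3129, 5, 4⟩) (.one ⟨15589, 0, 3⟩)) (.node 1 (.one ⟨7132, 4, 4⟩) (.one ⟨14064, 0, 3⟩)))))))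
def par3_3_1 : Arr Par :=
  (.node 32 (.node 16 (.node 8 (.node 4 (.node 2 (.node 1 (.one ⟨15382, 5, 4⟩) (.one ⟨16953, 5, 3⟩)) (.node 1 (.one ⟨11660, 5, 4⟩) (.one ⟨11624, 6, 4⟩))) (.node 2 (.node 1 (.one ⟨13884, 5, 4⟩) (.one ⟨15499, 3, 3⟩)) (.node 1 (.one ⟨14001, 3, 2⟩) (.one ⟨15628, 6, 3⟩)))) (.node 4 (.node 2 (.node 1 (.one ⟨12623, 0, 3⟩) (.one ⟨16077, 5, 4⟩)) (.node 1 (.one ⟨3279, 5, 4⟩) (.one ⟨6780, 5, 4⟩))) (.node 2 (.node 1 (.one ⟨5089, 6, 2⟩) (.one ⟨9830, 4, 3⟩)) (.node 1 (.one ⟨16310, 6, 5⟩) (.one ⟨11203, 3, 3⟩))))) (.node 8 (.node 4 (.node 2 (.node 1 (.one ⟨16257, 6, 3⟩) (.one ⟨6500, 5, 4⟩)) (.node 1 (.one ⟨14549, 5, 3⟩) (.one ⟨13421, 0, 3⟩))) (.node 2 (.node 1 (.one ⟨6471, 5, 4⟩) (.one ⟨6467, 5, 4⟩))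 (.node 1 (.one ⟨17139, 6, 2⟩) (.one ⟨12017, 5, 4⟩)))) (.node 4 (.node 2 (.node 1 (.one ⟨8762, 5, 4⟩) (.one ⟨11710, 0, 4⟩)) (.node 1 (.one ⟨15814, 5, 5⟩) (.one ⟨13410, 6, 4⟩))) (.node 2 (.node 1 (.one ⟨14039, 6, 4⟩) (.one ⟨15192, 5, 4⟩)) (.node 1 (.one ⟨8301, 3, 2⟩) (.one ⟨5456, 6, 4⟩)))))) (.node 16 (.node 8 (.node 4 (.node 2 (.node 1 (.one ⟨2632, 6, 4⟩) (.one ⟨4531, 0, 1⟩)) (.node 1 (.one ⟨10057, 5, 4⟩) (.one ⟨4071, 5, 4⟩))) (.node 2 (.node 1 (.one ⟨15850, 6, 4⟩) (.one ⟨1599, 5, 3⟩)) (.node 1 (.one ⟨571, 6, 4⟩) (.one ⟨3486, 5, 4⟩)))) (.node 4 (.node 2 (.node 1 (.one ⟨8374, 4, 5⟩) (.one ⟨2431, 5, 4⟩)) (.node 1 (.one ⟨1392, 4, 2⟩) (.one ⟨7522, 4, 3⟩))) (.node 2 (.node 1 (.one ⟨10849, 5, 4⟩) (.one ⟨4204, 4, 3⟩))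 (.node 1 (.one ⟨10259, 5, 3⟩) (.one ⟨4736, 0, 2⟩))))) (.node 8 (.node 4 (.node 2 (.node 1 (.one ⟨7193, 6, 3⟩) (.one ⟨14784, 5, 4⟩)) (.node 1 (.one ⟨1197, 4, 3⟩) (.one ⟨7595, 0, 2⟩))) (.node 2 (.node 1 (.one ⟨2419, 5, 4⟩) (.one ⟨1264, 5, 2⟩)) (.node 1 (.one ⟨3175, 5, 5⟩) (.one ⟨4920, 6, 3⟩)))) (.node 4 (.node 2 (.node 1 (.one ⟨2960, 1, 1⟩) (.one ⟨3216, 3, 2⟩)) (.node 1 (.one ⟨15299, 5, 3⟩) (.one ⟨1279, 4, 4⟩))) (.node 2 (.node 1 (.one ⟨17062, 5, 3⟩) (.one ⟨5266, 5, 3⟩)) (.node 1 (.one ⟨13622, 5, 3⟩) (.one ⟨12949, 6, 4⟩)))))))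
def par3_3_2 : Arr Par :=
  (.node 32 (.node 16 (.node 8 (.node 4 (.node 2 (.node 1 (.one ⟨15785, 6, 3⟩) (.one ⟨14713, 6, 3⟩)) (.node 1 (.one ⟨772, 3, 5⟩) (.one ⟨14455, 5, 4⟩))) (.node 2 (.node 1 (.one ⟨4645, 6, 3⟩) (.one ⟨5119, 5, 5⟩)) (.node 1 (.one ⟨4025, 5, 4⟩) (.one ⟨10312, 5, 2⟩)))) (.node 4 (.node 2 (.node 1 (.one ⟨12496, 5, 3⟩) (.one ⟨11795, 1, 4⟩)) (.node 1 (.one ⟨8300, 0, 3⟩) (.one ⟨4822, 4, 4⟩))) (.node 2 (.node 1 (.one ⟨1710, 3, 3⟩) (.one ⟨11192, 1, 4⟩)) (.node 1 (.one ⟨3982, 6, 3⟩) (.one ⟨7896, 3, 3⟩))))) (.node 8 (.node 4 (.node 2 (.node 1 (.one ⟨9886, 6, 1⟩) (.one ⟨5325, 5, 4⟩)) (.node 1 (.one ⟨11231, 1, 3⟩) (.one ⟨9858, 6, 1⟩))) (.node 2 (.node 1 (.one ⟨16441, 4, 4⟩) (.one ⟨1280, 4, 4⟩)) (.node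 1 (.one ⟨1779, 6, 3⟩) (.one ⟨7554, 0, 3⟩)))) (.node 4 (.node 2 (.node 1 (.one ⟨7405, 4, 3⟩) (.one ⟨2095, 5, 3⟩)) (.node 1 (.one ⟨9860, 6, 2⟩) (.one ⟨8003, 6, 3⟩))) (.node 2 (.node 1 (.one ⟨15070, 5, 3⟩) (.one ⟨12870, 6, 4⟩)) (.node 1 (.one ⟨12860, 6, 2⟩) (.one ⟨14408, 5, 2⟩)))))) (.node 16 (.node 8 (.node 4 (.node 2 (.node 1 (.one ⟨1187, 4, 4⟩) (.one ⟨2111, 4, 3⟩)) (.node 1 (.one ⟨16995, 6, 3⟩) (.one ⟨8879, 5, 4⟩))) (.node 2 (.node 1 (.one ⟨8951, 5, 5⟩) (.one ⟨4591, 5, 2⟩)) (.node 1 (.one ⟨2540, 6, 3⟩) (.one ⟨16286, 6, 3⟩)))) (.node 4 (.node 2 (.node 1 (.one ⟨11964, 6, 3⟩) (.one ⟨3950, 1, 4⟩)) (.node 1 (.one ⟨1709, 5, 3⟩) (.one ⟨16392, 1, 4⟩))) (.node 2 (.node 1 (.one ⟨8729, 6, 3⟩) (.one ⟨7583, 1, 3⟩)) (.node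 1 (.one ⟨7230, 6, 5⟩) (.one ⟨4771, 6, 4⟩))))) (.node 8 (.node 4 (.node 2 (.node 1 (.one ⟨14629, 0, 3⟩) (.one ⟨13067, 5, 5⟩)) (.node 1 (.one ⟨4224, 5, 2⟩) (.one ⟨13597, 5, 4⟩))) (.node 2 (.node 1 (.one ⟨3815, 5, 3⟩) (.one ⟨11988, 0, 2⟩)) (.node 1 (.one ⟨453, 6, 3⟩) (.one ⟨1880, 5, 4⟩)))) (.node 4 (.node 2 (.node 1 (.one ⟨7971, 6, 2⟩) (.one ⟨11605, 5, 4⟩)) (.node 1 (.one ⟨11839, 5, 5⟩) (.one ⟨12528, 0, 2⟩))) (.node 2 (.node 1 (.one ⟨14814, 5, 4⟩) (.one ⟨15393, 6, 4⟩)) (.node 1 (.one ⟨8551, 5, 3⟩) (.one ⟨4582, 5, 4⟩)))))))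
def par3_3_3 : Arr Par :=
  (.node 32 (.node 16 (.node 8 (.node 4 (.node 2 (.node 1 (.one ⟨8117, 3, 4⟩) (.one ⟨3723, 5, 4⟩)) (.node 1 (.one ⟨11190, 5, 4⟩) (.one ⟨13442, 5, 4⟩))) (.node 2 (.node 1 (.one ⟨17011, 4, 4⟩) (.one ⟨11994, 5, 5⟩)) (.node 1 (.one ⟨16963, 4, 4⟩) (.one ⟨12592, 6, 3⟩)))) (.node 4 (.node 2 (.node 1 (.one ⟨9246, 6, 2⟩) (.one ⟨1316, 6, 2⟩)) (.node 1 (.one ⟨16851, 5, 4⟩) (.one ⟨4561, 6, 4⟩))) (.node 2 (.node 1 (.one ⟨16445, 4, 3⟩) (.one ⟨9176, 5, 3⟩)) (.node 1 (.one ⟨12614, 5, 4⟩) (.one ⟨12649, 6, 3⟩))))) (.node 8 (.node 4 (.node 2 (.node 1 (.one ⟨7049, 3, 3⟩) (.one ⟨10978, 6, 4⟩)) (.node 1 (.one ⟨10876, 5, 5⟩) (.one ⟨6633, 5, 5⟩))) (.node 2 (.node 1 (.one ⟨9801, 6, 4⟩) (.one ⟨5720, 6, 3⟩))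 (.node 1 (.one ⟨1420, 5, 5⟩) (.one ⟨6256, 2, 3⟩)))) (.node 4 (.node 2 (.node 1 (.one ⟨12549, 5, 5⟩) (.one ⟨10530, 4, 5⟩)) (.node 1 (.one ⟨16689, 4, 5⟩) (.one ⟨2973, 1, 3⟩))) (.node 2 (.node 1 (.one ⟨5495, 4, 2⟩) (.one ⟨8707, 6, 3⟩)) (.node 1 (.one ⟨5920, 1, 3⟩) (.one ⟨4117, 4, 3⟩)))))) (.node 16 (.node 8 (.node 4 (.node 2 (.node 1 (.one ⟨4570, 5, 4⟩) (.one ⟨8993, 6, 4⟩)) (.node 1 (.one ⟨14431, 6, 4⟩) (.one ⟨13034, 4, 3⟩))) (.node 2 (.node 1 (.one ⟨9979, 5, 3⟩) (.one ⟨16329, 5, 5⟩)) (.node 1 (.one ⟨13421, 4, 3⟩) (.one ⟨17011, 6, 4⟩)))) (.node 4 (.node 2 (.node 1 (.one ⟨4502, 0, 4⟩) (.one ⟨16433, 5, 4⟩)) (.node 1 (.one ⟨7108, 6, 4⟩) (.one ⟨4330, 6, 4⟩))) (.node 2 (.node 1 (.one ⟨11021, 5, 3⟩) (.one ⟨3546, 6,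 5⟩)) (.node 1 (.one ⟨16001, 5, 4⟩) (.one ⟨12480, 6, 3⟩))))) (.node 8 (.node 4 (.node 2 (.node 1 (.one ⟨4295, 6, 5⟩) (.one ⟨10368, 6, 3⟩)) (.node 1 (.one ⟨2368, 6, 4⟩) (.one ⟨8040, 6, 3⟩))) (.node 2 (.node 1 (.one ⟨9910, 1, 1⟩) (.one ⟨829, 5, 3⟩)) (.node 1 (.one ⟨3778, 4, 4⟩) (.one ⟨9530, 6, 3⟩)))) (.node 4 (.node 2 (.node 1 (.one ⟨7950, 0, 4⟩) (.one ⟨4559, 6, 4⟩)) (.node 1 (.one ⟨840, 6, 3⟩) (.one ⟨11521, 2, 2⟩))) (.node 2 (.node 1 (.one ⟨10961, 6, 4⟩) (.one ⟨2893, 3, 3⟩)) (.node 1 (.one ⟨5201, 5, 3⟩) (.one ⟨1700, 6, 3⟩)))))))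
def par3_3_4 : Arr Par :=
  (.node 32 (.node 16 (.node 8 (.node 4 (.node 2 (.node 1 (.one ⟨942, 4, 4⟩) (.one ⟨10215, 5, 3⟩)) (.node 1 (.one ⟨14660, 6, 3⟩) (.one ⟨15775, 6, 3⟩))) (.node 2 (.node 1 (.one ⟨5827, 0, 4⟩) (.one ⟨12060, 5, 4⟩)) (.node 1 (.one ⟨10442, 3, 2⟩) (.one ⟨12417, 6, 4⟩)))) (.node 4 (.node 2 (.node 1 (.one ⟨14366, 6, 5⟩) (.one ⟨5912, 6, 3⟩)) (.node 1 (.one ⟨14391, 0, 3⟩) (.one ⟨10737, 4, 3⟩))) (.node 2 (.node 1 (.one ⟨9436, 5, 4⟩) (.one ⟨10205, 5, 4⟩)) (.node 1 (.one ⟨4327, 6, 5⟩) (.one ⟨6953, 4, 4⟩))))) (.node 8 (.node 4 (.node 2 (.node 1 (.one ⟨6174, 5, 4⟩) (.one ⟨13864, 4, 4⟩)) (.node 1 (.one ⟨10124, 5, 4⟩) (.one ⟨6348, 4, 3⟩))) (.node 2 (.node 1 (.one ⟨13686, 5, 5⟩) (.one ⟨342, 6, 4⟩))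 (.node 1 (.one ⟨5267, 4, 3⟩) (.one ⟨15533, 4, 2⟩)))) (.node 4 (.node 2 (.node 1 (.one ⟨4468, 0, 4⟩) (.one ⟨10587, 4, 2⟩)) (.node 1 (.one ⟨7002, 4, 3⟩) (.one ⟨11006, 1, 3⟩))) (.node 2 (.node 1 (.one ⟨10160, 6, 4⟩) (.one ⟨6283, 5, 4⟩)) (.node 1 (.one ⟨13995, 6, 3⟩) (.one ⟨1722, 5, 4⟩)))))) (.node 16 (.node 8 (.node 4 (.node 2 (.node 1 (.one ⟨3239, 6, 4⟩) (.one ⟨16283, 3, 5⟩)) (.node 1 (.one ⟨9821, 4, 3⟩) (.one ⟨9769, 6, 5⟩))) (.node 2 (.node 1 (.one ⟨17003, 4, 2⟩) (.one ⟨14557, 6, 5⟩)) (.node 1 (.one ⟨16925, 5, 3⟩) (.one ⟨16856, 6, 4⟩)))) (.node 4 (.node 2 (.node 1 (.one ⟨14651, 5, 3⟩) (.one ⟨4566, 6, 4⟩)) (.node 1 (.one ⟨6435, 6, 3⟩) (.one ⟨11149, 4, 3⟩))) (.node 2 (.node 1 (.one ⟨9825, 3, 3⟩) (.one ⟨10122,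 5, 3⟩)) (.node 1 (.one ⟨9334, 5, 3⟩) (.one ⟨1528, 6, 4⟩))))) (.node 8 (.node 4 (.node 2 (.node 1 (.one ⟨16885, 1, 3⟩) (.one ⟨2172, 6, 1⟩)) (.node 1 (.one ⟨9606, 5, 4⟩) (.one ⟨2186, 6, 1⟩))) (.node 2 (.node 1 (.one ⟨5211, 5, 4⟩) (.one ⟨2753, 5, 3⟩)) (.node 1 (.one ⟨9428, 4, 4⟩) (.one ⟨1624, 5, 3⟩)))) (.node 4 (.node 2 (.node 1 (.one ⟨14254, 6, 4⟩) (.one ⟨7362, 5, 4⟩)) (.node 1 (.one ⟨14669, 0, 3⟩) (.one ⟨7280, 5, 3⟩))) (.node 2 (.node 1 (.one ⟨14761, 5, 4⟩) (.one ⟨8027, 6, 3⟩)) (.node 1 (.one ⟨8250, 6, 4⟩) (.one ⟨10855, 6, 4⟩)))))))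
def par3_3_5 : Arr Par :=
  (.node 32 (.node 16 (.node 8 (.node 4 (.node 2 (.node 1 (.one ⟨15436, 0, 4⟩) (.one ⟨9426, 3, 1⟩)) (.node 1 (.one ⟨213, 0, 4⟩) (.one ⟨3976, 6, 3⟩))) (.node 2 (.node 1 (.one ⟨16919, 6, 4⟩) (.one ⟨4066, 5, 4⟩)) (.node 1 (.one ⟨13309, 6, 3⟩) (.one ⟨13009, 5, 3⟩)))) (.node 4 (.node 2 (.node 1 (.one ⟨9438, 4, 1⟩) (.one ⟨10021, 6, 2⟩)) (.node 1 (.one ⟨235, 3, 5⟩) (.one ⟨13736, 5, 4⟩))) (.node 2 (.node 1 (.one ⟨7399, 3, 3⟩) (.one ⟨5625, 5, 4⟩)) (.node 1 (.one ⟨15114, 6, 4⟩) (.one ⟨13619, 6, 3⟩))))) (.node 8 (.node 4 (.node 2 (.node 1 (.one ⟨15855, 5, 4⟩) (.one ⟨13615, 6, 4⟩)) (.node 1 (.one ⟨13621, 6, 3⟩) (.one ⟨6737, 4, 5⟩))) (.node 2 (.node 1 (.one ⟨9437, 4, 1⟩) (.one ⟨687, 6, 3⟩)) (.node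 1 (.one ⟨13199, 5, 4⟩) (.one ⟨3856, 6, 5⟩)))) (.node 4 (.node 2 (.node 1 (.one ⟨14516, 5, 4⟩) (.one ⟨16244, 0, 3⟩)) (.node 1 (.one ⟨674, 6, 4⟩) (.one ⟨11452, 5, 3⟩))) (.node 2 (.node 1 (.one ⟨3860, 6, 5⟩) (.one ⟨10108, 5, 4⟩)) (.node 1 (.one ⟨15778, 0, 3⟩) (.one ⟨1113, 2, 2⟩)))))) (.node 16 (.node 8 (.node 4 (.node 2 (.node 1 (.one ⟨3095, 3, 1⟩) (.one ⟨15929, 4, 4⟩)) (.node 1 (.one ⟨8863, 6, 4⟩) (.one ⟨6819, 5, 4⟩))) (.node 2 (.node 1 (.one ⟨14384, 4, 3⟩) (.one ⟨9836, 5, 3⟩)) (.node 1 (.one ⟨3277, 5, 4⟩) (.one ⟨5685, 4, 4⟩)))) (.node 4 (.node 2 (.node 1 (.one ⟨12449, 6, 5⟩) (.one ⟨13178, 6, 4⟩)) (.node 1 (.one ⟨8476, 6, 5⟩) (.one ⟨7000, 6, 4⟩))) (.node 2 (.node 1 (.one ⟨11449, 6, 4⟩) (.one ⟨6173, 5, 4⟩)) (.node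 1 (.one ⟨5719, 6, 2⟩) (.one ⟨3400, 6, 2⟩))))) (.node 8 (.node 4 (.node 2 (.node 1 (.one ⟨1603, 6, 4⟩) (.one ⟨7048, 6, 4⟩)) (.node 1 (.one ⟨6219, 6, 4⟩) (.one ⟨11896, 5, 3⟩))) (.node 2 (.node 1 (.one ⟨9289, 4, 4⟩) (.one ⟨5202, 4, 3⟩)) (.node 1 (.one ⟨9858, 1, 1⟩) (.one ⟨14313, 4, 3⟩)))) (.node 4 (.node 2 (.node 1 (.one ⟨11866, 5, 4⟩) (.one ⟨15523, 0, 4⟩)) (.node 1 (.one ⟨3093, 6, 5⟩) (.one ⟨1243, 3, 2⟩))) (.node 2 (.node 1 (.one ⟨9164, 6, 3⟩) (.one ⟨3051, 6, 4⟩)) (.node 1 (.one ⟨8753, 4, 3⟩) (.one ⟨14151, 6, 4⟩)))))))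
def par3_3_6 : Arr Par :=
  (.node 32 (.node 16 (.node 8 (.node 4 (.node 2 (.node 1 (.one ⟨12189, 6, 5⟩) (.one ⟨4633, 0, 4⟩)) (.node 1 (.one ⟨8724, 6, 4⟩) (.one ⟨3468, 5, 4⟩))) (.node 2 (.node 1 (.one ⟨2353, 4, 3⟩) (.one ⟨4678, 6, 4⟩)) (.node 1 (.one ⟨13499, 3, 3⟩) (.one ⟨6401, 6, 3⟩)))) (.node 4 (.node 2 (.node 1 (.one ⟨3692, 6, 4⟩) (.one ⟨14978, 6, 5⟩)) (.node 1 (.one ⟨13262, 6, 3⟩) (.one ⟨10834, 6, 4⟩))) (.node 2 (.node 1 (.one ⟨17140, 6, 3⟩) (.one ⟨5162, 5, 4⟩)) (.node 1 (.one ⟨7844, 6, 4⟩) (.one ⟨9314, 4, 3⟩))))) (.node 8 (.node 4 (.node 2 (.node 1 (.one ⟨15027, 5, 4⟩) (.one ⟨17158, 5, 4⟩)) (.node 1 (.one ⟨14313, 0, 3⟩) (.one ⟨6974, 6, 5⟩))) (.node 2 (.node 1 (.one ⟨3008, 5, 4⟩) (.one ⟨4365, 6, 2⟩)) (.node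 1 (.one ⟨14687, 6, 4⟩) (.one ⟨17066, 5, 3⟩)))) (.node 4 (.node 2 (.node 1 (.one ⟨1830, 5, 3⟩) (.one ⟨15909, 5, 5⟩)) (.node 1 (.one ⟨15490, 3, 4⟩) (.one ⟨5298, 0, 5⟩))) (.node 2 (.node 1 (.one ⟨9287, 4, 4⟩) (.one ⟨15737, 5, 3⟩)) (.node 1 (.one ⟨16782, 6, 3⟩) (.one ⟨14100, 6, 4⟩)))))) (.node 16 (.node 8 (.node 4 (.node 2 (.node 1 (.one ⟨3477, 3, 3⟩) (.one ⟨13424, 0, 5⟩)) (.node 1 (.one ⟨1244, 3, 2⟩) (.one ⟨4398, 5, 3⟩))) (.node 2 (.node 1 (.one ⟨11545, 6, 3⟩) (.one ⟨7369, 6, 4⟩)) (.node 1 (.one ⟨13400, 6, 5⟩) (.one ⟨2595, 6, 4⟩)))) (.node 4 (.node 2 (.node 1 (.one ⟨899, 5, 4⟩) (.one ⟨1062, 5, 3⟩)) (.node 1 (.one ⟨5222, 4, 3⟩) (.one ⟨156, 5, 4⟩))) (.node 2 (.node 1 (.one ⟨17134, 6, 4⟩) (.one ⟨10495, 6, 4⟩)) (.node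 1 (.one ⟨4403, 4, 4⟩) (.one ⟨17011, 5, 4⟩))))) (.node 8 (.node 4 (.node 2 (.node 1 (.one ⟨12592, 1, 3⟩) (.one ⟨16885, 0, 3⟩)) (.node 1 (.one ⟨7064, 4, 3⟩) (.one ⟨4550, 6, 5⟩))) (.node 2 (.node 1 (.one ⟨4083, 5, 4⟩) (.one ⟨9714, 1, 3⟩)) (.node 1 (.one ⟨10737, 1, 3⟩) (.one ⟨9858, 3, 1⟩)))) (.node 4 (.node 2 (.node 1 (.one ⟨7896, 6, 3⟩) (.one ⟨5513, 6, 3⟩)) (.node 1 (.one ⟨8005, 3, 4⟩) (.one ⟨16789, 5, 3⟩))) (.node 2 (.node 1 (.one ⟨14533, 5, 3⟩) (.one ⟨7352, 6, 3⟩)) (.node 1 (.one ⟨3068, 5, 3⟩) (.one ⟨3941, 5, 5⟩)))))))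
def par3_3_7 : Arr Par :=
  (.node 32 (.node 16 (.node 8 (.node 4 (.node 2 (.node 1 (.one ⟨2893, 6, 3⟩) (.one ⟨16817, 0, 3⟩)) (.node 1 (.one ⟨11788, 0, 3⟩) (.one ⟨1175, 5, 5⟩))) (.node 2 (.node 1 (.one ⟨5409, 5, 3⟩) (.one ⟨10391, 0, 4⟩)) (.node 1 (.one ⟨10547, 5, 4⟩) (.one ⟨14695, 5, 5⟩)))) (.node 4 (.node 2 (.node 1 (.one ⟨1116, 6, 3⟩) (.one ⟨3714, 6, 5⟩)) (.node 1 (.one ⟨9824, 5, 5⟩) (.one ⟨15422, 5, 2⟩))) (.node 2 (.node 1 (.one ⟨10679, 1, 3⟩) (.one ⟨1263, 5, 5⟩)) (.node 1 (.one ⟨11118, 4, 3⟩) (.one ⟨1152, 6, 4⟩))))) (.node 8 (.node 4 (.node 2 (.node 1 (.one ⟨8989, 6, 3⟩) (.one ⟨9618, 5, 4⟩)) (.node 1 (.one ⟨13109, 6, 5⟩) (.one ⟨5476, 6, 4⟩))) (.node 2 (.node 1 (.one ⟨5973, 6, 4⟩) (.one ⟨7430, 4, 3⟩)) (.node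 1 (.one ⟨2526, 1, 0⟩) (.one ⟨9063, 5, 4⟩)))) (.node 4 (.node 2 (.node 1 (.one ⟨1374, 5, 5⟩) (.one ⟨7256, 3, 3⟩)) (.node 1 (.one ⟨2627, 1, 4⟩) (.one ⟨8890, 5, 3⟩))) (.node 2 (.node 1 (.one ⟨2022, 5, 5⟩) (.one ⟨7486, 6, 5⟩)) (.node 1 (.one ⟨4453, 5, 3⟩) (.one ⟨2391, 5, 2⟩)))))) (.node 16 (.node 8 (.node 4 (.node 2 (.node 1 (.one ⟨6276, 4, 2⟩) (.one ⟨7188, 5, 4⟩)) (.node 1 (.one ⟨10675, 5, 4⟩) (.one ⟨620, 6, 2⟩))) (.node 2 (.node 1 (.one ⟨3510, 6, 4⟩) (.one ⟨6689, 4, 3⟩)) (.node 1 (.one ⟨1679, 1, 3⟩) (.one ⟨13566, 1, 2⟩)))) (.node 4 (.node 2 (.node 1 (.one ⟨15818, 3, 3⟩) (.one ⟨12646, 1, 5⟩)) (.node 1 (.one ⟨4979, 6, 3⟩) (.one ⟨2995, 6, 1⟩))) (.node 2 (.node 1 (.one ⟨2813, 6, 4⟩) (.one ⟨2690, 1, 3⟩)) (.node 1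 (.one ⟨5475, 1, 2⟩) (.one ⟨2106, 3, 2⟩))))) (.node 8 (.node 4 (.node 2 (.node 1 (.one ⟨2610, 6, 2⟩) (.one ⟨6690, 5, 5⟩)) (.node 1 (.one ⟨10151, 0, 4⟩) (.one ⟨5597, 3, 4⟩))) (.node 2 (.node 1 (.one ⟨14704, 3, 4⟩) (.one ⟨8527, 5, 3⟩)) (.node 1 (.one ⟨16736, 6, 4⟩) (.one ⟨15028, 4, 4⟩)))) (.node 4 (.node 2 (.node 1 (.one ⟨15027, 4, 4⟩) (.one ⟨15499, 6, 3⟩)) (.node 1 (.one ⟨14920, 6, 3⟩) (.one ⟨900, 5, 5⟩))) (.node 2 (.node 1 (.one ⟨15026, 4, 4⟩) (.one ⟨2067, 5, 3⟩)) (.node 1 (.one ⟨13811, 6, 5⟩) (.one ⟨12373, 1, 3⟩)))))))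
def par3_3_8 : Arr Par :=
  (.node 32 (.node 16 (.node 8 (.node 4 (.node 2 (.node 1 (.one ⟨9556, 6, 1⟩) (.one ⟨2223, 2, 3⟩)) (.node 1 (.one ⟨16993, 4, 2⟩) (.one ⟨10207, 4, 5⟩))) (.node 2 (.node 1 (.one ⟨9580, 1, 3⟩) (.one ⟨8654, 6, 3⟩)) (.node 1 (.one ⟨17049, 4, 5⟩) (.one ⟨9742, 5, 5⟩)))) (.node 4 (.node 2 (.node 1 (.one ⟨3779, 5, 4⟩) (.one ⟨15452, 5, 3⟩)) (.node 1 (.one ⟨9085, 5, 4⟩) (.one ⟨10523, 5, 4⟩))) (.node 2 (.node 1 (.one ⟨4308, 5, 3⟩) (.one ⟨7786, 6, 4⟩)) (.node 1 (.one ⟨8654, 5, 3⟩) (.one ⟨10462, 4, 2⟩))))) (.node 8 (.node 4 (.node 2 (.node 1 (.one ⟨7473, 5, 2⟩) (.one ⟨3439, 0, 3⟩)) (.node 1 (.one ⟨12528, 4, 2⟩) (.one ⟨7582, 6, 4⟩))) (.node 2 (.node 1 (.one ⟨3593, 4, 4⟩) (.one ⟨3677, 0, 3⟩)) (.node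 1 (.one ⟨12846, 4, 2⟩) (.one ⟨11498, 5, 5⟩)))) (.node 4 (.node 2 (.node 1 (.one ⟨10336, 6, 3⟩) (.one ⟨1243, 5, 2⟩)) (.node 1 (.one ⟨13465, 0, 4⟩) (.one ⟨7424, 5, 3⟩))) (.node 2 (.node 1 (.one ⟨6548, 6, 3⟩) (.one ⟨14099, 5, 3⟩)) (.node 1 (.one ⟨11711, 0, 3⟩) (.one ⟨14321, 6, 4⟩)))))) (.node 16 (.node 8 (.node 4 (.node 2 (.node 1 (.one ⟨2547, 5, 4⟩) (.one ⟨14653, 5, 4⟩)) (.node 1 (.one ⟨2299, 5, 3⟩) (.one ⟨2697, 0, 3⟩))) (.node 2 (.node 1 (.one ⟨15644, 5, 4⟩) (.one ⟨16492, 3, 5⟩)) (.node 1 (.one ⟨12359, 0, 3⟩) (.one ⟨5046, 5, 4⟩)))) (.node 4 (.node 2 (.node 1 (.one ⟨5053, 5, 5⟩) (.one ⟨12443, 0, 3⟩)) (.node 1 (.one ⟨8984, 5, 5⟩) (.one ⟨5896, 5, 4⟩))) (.node 2 (.node 1 (.one ⟨2811, 3, 3⟩) (.one ⟨11531, 0, 3⟩))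 (.node 1 (.one ⟨7017, 3, 2⟩) (.one ⟨12128, 1, 1⟩))))) (.node 8 (.node 4 (.node 2 (.node 1 (.one ⟨3439, 4, 3⟩) (.one ⟨6692, 3, 4⟩)) (.node 1 (.one ⟨3763, 1, 1⟩) (.one ⟨4063, 6, 3⟩))) (.node 2 (.node 1 (.one ⟨1839, 6, 4⟩) (.one ⟨11019, 4, 4⟩)) (.node 1 (.one ⟨2079, 0, 3⟩) (.one ⟨4330, 0, 4⟩)))) (.node 4 (.node 2 (.node 1 (.one ⟨3284, 6, 5⟩) (.one ⟨8808, 3, 5⟩)) (.node 1 (.one ⟨4450, 6, 5⟩) (.one ⟨8309, 6, 3⟩))) (.node 2 (.node 1 (.one ⟨7894, 6, 5⟩) (.one ⟨7282, 6, 5⟩)) (.node 1 (.one ⟨4772, 5, 4⟩) (.one ⟨14910, 6, 4⟩)))))))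
def par3_3_9 : Arr Par :=
  (.node 32 (.node 16 (.node 8 (.node 4 (.node 2 (.node 1 (.one ⟨12896, 5, 4⟩) (.one ⟨11204, 0, 3⟩)) (.node 1 (.one ⟨5475, 3, 2⟩) (.one ⟨6743, 5, 3⟩))) (.node 2 (.node 1 (.one ⟨2263, 0, 3⟩) (.one ⟨3970, 4, 3⟩)) (.node 1 (.one ⟨1007, 6, 3⟩) (.one ⟨8542, 6, 3⟩)))) (.node 4 (.node 2 (.node 1 (.one ⟨14337, 4, 3⟩) (.one ⟨5076, 6, 5⟩)) (.node 1 (.one ⟨13763, 6, 3⟩) (.one ⟨14417, 5, 4⟩))) (.node 2 (.node 1 (.one ⟨4692, 6, 4⟩) (.one ⟨2285, 0, 1⟩)) (.node 1 (.one ⟨2338, 5, 3⟩) (.one ⟨2971, 3, 4⟩))))) (.node 8 (.node 4 (.node 2 (.node 1 (.one ⟨4049, 1, 1⟩) (.one ⟨14865, 6, 3⟩)) (.node 1 (.one ⟨16592, 5, 3⟩) (.one ⟨9225, 6, 3⟩))) (.node 2 (.node 1 (.one ⟨4326, 5, 3⟩) (.one ⟨3237, 5, 3⟩)) (.node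 1 (.one ⟨3874, 1, 1⟩) (.one ⟨13665, 5, 4⟩)))) (.node 4 (.node 2 (.node 1 (.one ⟨12850, 6, 3⟩) (.one ⟨1834, 6, 4⟩)) (.node 1 (.one ⟨12285, 5, 4⟩) (.one ⟨15288, 3, 5⟩))) (.node 2 (.node 1 (.one ⟨3927, 6, 4⟩) (.one ⟨11273, 6, 2⟩)) (.node 1 (.one ⟨12747, 6, 4⟩) (.one ⟨13525, 6, 4⟩)))))) (.node 16 (.node 8 (.node 4 (.node 2 (.node 1 (.one ⟨4382, 0, 4⟩) (.one ⟨12119, 6, 4⟩)) (.node 1 (.one ⟨3345, 5, 5⟩) (.one ⟨94, 5, 4⟩))) (.node 2 (.node 1 (.one ⟨3542, 2, 1⟩) (.one ⟨10066, 0, 3⟩)) (.node 1 (.one ⟨3346, 5, 5⟩) (.one ⟨3813, 1, 2⟩)))) (.node 4 (.node 2 (.node 1 (.one ⟨5164, 3, 3⟩) (.one ⟨16875, 6, 2⟩)) (.node 1 (.one ⟨1873, 1, 2⟩) (.one ⟨10442, 1, 2⟩))) (.node 2 (.node 1 (.one ⟨11359, 6, 3⟩) (.one ⟨1091, 6, 2⟩)) (.node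 1 (.one ⟨12006, 1, 5⟩) (.one ⟨15628, 4, 3⟩))))) (.node 8 (.node 4 (.node 2 (.node 1 (.one ⟨10540, 6, 4⟩) (.one ⟨846, 0, 3⟩)) (.node 1 (.one ⟨803, 1, 0⟩) (.one ⟨13277, 6, 3⟩))) (.node 2 (.node 1 (.one ⟨16488, 5, 4⟩) (.one ⟨10064, 5, 3⟩)) (.node 1 (.one ⟨14492, 5, 3⟩) (.one ⟨2226, 5, 3⟩)))) (.node 4 (.node 2 (.node 1 (.one ⟨16824, 0, 4⟩) (.one ⟨3586, 5, 3⟩)) (.node 1 (.one ⟨5013, 5, 3⟩) (.one ⟨15836, 6, 5⟩))) (.node 2 (.node 1 (.one ⟨1915, 5, 4⟩) (.one ⟨9819, 6, 5⟩)) (.node 1 (.one ⟨7661, 6, 5⟩) (.one ⟨14997, 0, 3⟩)))))))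
def par3_3_10 : Arr Par :=
  (.node 32 (.node 16 (.node 8 (.node 4 (.node 2 (.node 1 (.one ⟨3439, 5, 3⟩) (.one ⟨2178, 5, 5⟩)) (.node 1 (.one ⟨8249, 5, 4⟩) (.one ⟨4154, 0, 3⟩))) (.node 2 (.node 1 (.one ⟨16923, 0, 3⟩) (.one ⟨11154, 5, 5⟩)) (.node 1 (.one ⟨17152, 5, 3⟩) (.one ⟨5083, 5, 4⟩)))) (.node 4 (.node 2 (.node 1 (.one ⟨13158, 5, 3⟩) (.one ⟨9160, 3, 2⟩)) (.node 1 (.one ⟨7243, 6, 4⟩) (.one ⟨5052, 5, 3⟩))) (.node 2 (.node 1 (.one ⟨12141, 6, 3⟩) (.one ⟨6013, 3, 4⟩)) (.node 1 (.one ⟨3414, 6, 5⟩) (.one ⟨8760, 4, 4⟩))))) (.node 8 (.node 4 (.node 2 (.node 1 (.one ⟨8258, 4, 4⟩) (.one ⟨956, 1, 0⟩)) (.node 1 (.one ⟨13479, 4, 4⟩) (.one ⟨14743, 4, 4⟩))) (.node 2 (.node 1 (.one ⟨14112, 4, 4⟩) (.one ⟨11792, 5, 4⟩)) (.node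 1 (.one ⟨2881, 4, 4⟩) (.one ⟨3366, 4, 4⟩)))) (.node 4 (.node 2 (.node 1 (.one ⟨1737, 6, 3⟩) (.one ⟨12781, 4, 2⟩)) (.node 1 (.one ⟨1911, 5, 4⟩) (.one ⟨636, 6, 4⟩))) (.node 2 (.node 1 (.one ⟨2033, 1, 3⟩) (.one ⟨15737, 4, 3⟩)) (.node 1 (.one ⟨12372, 4, 3⟩) (.one ⟨14425, 6, 4⟩)))))) (.node 16 (.node 8 (.node 4 (.node 2 (.node 1 (.one ⟨15584, 5, 3⟩) (.one ⟨3244, 1, 4⟩)) (.node 1 (.one ⟨10384, 5, 4⟩) (.one ⟨15277, 5, 4⟩))) (.node 2 (.node 1 (.one ⟨3672, 1, 4⟩) (.one ⟨10635, 5, 4⟩)) (.node 1 (.one ⟨14629, 6, 3⟩) (.one ⟨13164, 5, 3⟩)))) (.node 4 (.node 2 (.node 1 (.one ⟨8301, 4, 2⟩) (.one ⟨6309, 5, 3⟩)) (.node 1 (.one ⟨3032, 6, 4⟩) (.one ⟨12373, 5, 3⟩))) (.node 2 (.node 1 (.one ⟨16444, 5, 3⟩) (.one ⟨14898, 6, 2⟩))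 (.node 1 (.one ⟨53, 5, 3⟩) (.one ⟨9523, 4, 2⟩))))) (.node 8 (.node 4 (.node 2 (.node 1 (.one ⟨12928, 5, 4⟩) (.one ⟨12974, 6, 3⟩)) (.node 1 (.one ⟨10300, 5, 4⟩) (.one ⟨592, 1, 0⟩))) (.node 2 (.node 1 (.one ⟨5239, 5, 4⟩) (.one ⟨2645, 5, 5⟩)) (.node 1 (.one ⟨1541, 5, 4⟩) (.one ⟨16315, 5, 3⟩)))) (.node 4 (.node 2 (.node 1 (.one ⟨15087, 6, 4⟩) (.one ⟨2467, 5, 2⟩)) (.node 1 (.one ⟨988, 5, 4⟩) (.one ⟨2175, 6, 5⟩))) (.node 2 (.node 1 (.one ⟨8215, 5, 3⟩) (.one ⟨12215, 6, 5⟩)) (.node 1 (.one ⟨10600, 5, 3⟩) (.one ⟨11152, 5, 3⟩)))))))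
def par3_3_11 : Arr Par :=
  (.node 32 (.node 16 (.node 8 (.node 4 (.node 2 (.node 1 (.one ⟨12974, 5, 3⟩) (.one ⟨12152, 6, 4⟩)) (.node 1 (.one ⟨14780, 5, 3⟩) (.one ⟨6700, 6, 3⟩))) (.node 2 (.node 1 (.one ⟨11857, 5, 3⟩) (.one ⟨17079, 6, 3⟩)) (.node 1 (.one ⟨12247, 6, 3⟩) (.one ⟨6470, 1, 3⟩)))) (.node 4 (.node 2 (.node 1 (.one ⟨8356, 1, 3⟩) (.one ⟨15090, 6, 4⟩)) (.node 1 (.one ⟨6536, 6, 3⟩) (.one ⟨2095, 4, 3⟩))) (.node 2 (.node 1 (.one ⟨8382, 5, 4⟩) (.one ⟨9519, 2, 2⟩)) (.node 1 (.one ⟨4028, 5, 2⟩) (.one ⟨15885, 6, 3⟩))))) (.node 8 (.node 4 (.node 2 (.node 1 (.one ⟨5097, 6, 3⟩) (.one ⟨9519, 4, 2⟩)) (.node 1 (.one ⟨3275, 5, 5⟩) (.one ⟨9153, 2, 2⟩))) (.node 2 (.node 1 (.one ⟨6349, 5, 5⟩) (.one ⟨5230, 6, 4⟩)) (.node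 1 (.one ⟨15738, 6, 5⟩) (.one ⟨1427, 4, 4⟩)))) (.node 4 (.node 2 (.node 1 (.one ⟨10081, 5, 4⟩) (.one ⟨7235, 0, 3⟩)) (.node 1 (.one ⟨10890, 5, 4⟩) (.one ⟨6437, 4, 4⟩))) (.node 2 (.node 1 (.one ⟨15845, 0, 3⟩) (.one ⟨9637, 0, 3⟩)) (.node 1 (.one ⟨15390, 0, 3⟩) (.one ⟨8603, 6, 4⟩)))))) (.node 16 (.node 8 (.node 4 (.node 2 (.node 1 (.one ⟨1417, 3, 2⟩) (.one ⟨9092, 1, 3⟩)) (.node 1 (.one ⟨10929, 3, 3⟩) (.one ⟨15821, 0, 4⟩))) (.node 2 (.node 1 (.one ⟨16868, 4, 3⟩) (.one ⟨2994, 6, 1⟩)) (.node 1 (.one ⟨4999, 6, 3⟩) (.one ⟨9523, 2, 2⟩)))) (.node 4 (.node 2 (.node 1 (.one ⟨15766, 5, 5⟩) (.one ⟨7617, 6, 5⟩)) (.node 1 (.one ⟨9744, 5, 5⟩) (.one ⟨12623, 5, 3⟩))) (.node 2 (.node 1 (.one ⟨953, 5, 3⟩) (.one ⟨14645, 5, 4⟩)) (.node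 1 (.one ⟨7624, 5, 4⟩) (.one ⟨15821, 1, 4⟩))))) (.node 8 (.node 4 (.node 2 (.node 1 (.one ⟨3539, 6, 5⟩) (.one ⟨15592, 1, 4⟩)) (.node 1 (.one ⟨6293, 6, 4⟩) (.one ⟨6417, 5, 4⟩))) (.node 2 (.node 1 (.one ⟨1437, 2, 3⟩) (.one ⟨10626, 6, 4⟩)) (.node 1 (.one ⟨8094, 5, 3⟩) (.one ⟨9555, 3, 1⟩)))) (.node 4 (.node 2 (.node 1 (.one ⟨4209, 6, 5⟩) (.one ⟨6523, 5, 4⟩)) (.node 1 (.one ⟨7333, 0, 3⟩) (.one ⟨327, 4, 3⟩))) (.node 2 (.node 1 (.one ⟨3813, 6, 2⟩) (.one ⟨6558, 5, 4⟩)) (.node 1 (.one ⟨14630, 5, 3⟩) (.one ⟨3230, 5, 3⟩)))))))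
def par3_3_12 : Arr Par :=
  (.node 32 (.node 16 (.node 8 (.node 4 (.node 2 (.node 1 (.one ⟨11712, 5, 3⟩) (.one ⟨13463, 5, 3⟩)) (.node 1 (.one ⟨6291, 6, 5⟩) (.one ⟨9534, 4, 3⟩))) (.node 2 (.node 1 (.one ⟨4240, 6, 5⟩) (.one ⟨4856, 3, 3⟩)) (.node 1 (.one ⟨2090, 5, 4⟩) (.one ⟨1437, 4, 3⟩)))) (.node 4 (.node 2 (.node 1 (.one ⟨16925, 2, 3⟩) (.one ⟨14503, 6, 2⟩)) (.node 1 (.one ⟨13694, 1, 3⟩) (.one ⟨8368, 3, 4⟩))) (.node 2 (.node 1 (.one ⟨4434, 6, 2⟩) (.one ⟨15857, 0, 3⟩)) (.node 1 (.one ⟨11515, 6, 2⟩) (.one ⟨15763, 5, 3⟩))))) (.node 8 (.node 4 (.node 2 (.node 1 (.one ⟨15767, 5, 4⟩) (.one ⟨15821, 3, 4⟩)) (.node 1 (.one ⟨11344, 6, 4⟩) (.one ⟨7693, 5, 3⟩))) (.node 2 (.node 1 (.one ⟨14534, 6, 4⟩) (.one ⟨15946, 3, 2⟩))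 (.node 1 (.one ⟨13095, 3, 4⟩) (.one ⟨1046, 6, 5⟩)))) (.node 4 (.node 2 (.node 1 (.one ⟨10106, 5, 3⟩) (.one ⟨9556, 3, 1⟩)) (.node 1 (.one ⟨4911, 5, 4⟩) (.one ⟨1074, 5, 3⟩))) (.node 2 (.node 1 (.one ⟨10100, 5, 4⟩) (.one ⟨12880, 5, 4⟩)) (.node 1 (.one ⟨4926, 5, 5⟩) (.one ⟨9530, 4, 3⟩)))))) (.node 16 (.node 8 (.node 4 (.node 2 (.node 1 (.one ⟨16753, 4, 3⟩) (.one ⟨9614, 6, 4⟩)) (.node 1 (.one ⟨250, 1, 0⟩) (.one ⟨7786, 1, 4⟩))) (.node 2 (.node 1 (.one ⟨6666, 4, 4⟩) (.one ⟨7705, 4, 4⟩)) (.node 1 (.one ⟨3032, 4, 4⟩) (.one ⟨15933, 3, 2⟩)))) (.node 4 (.node 2 (.node 1 (.one ⟨6502, 6, 4⟩) (.one ⟨2655, 6, 5⟩)) (.node 1 (.one ⟨6557, 5, 4⟩) (.one ⟨12128, 5, 1⟩))) (.node 2 (.node 1 (.one ⟨5645, 1, 2⟩) (.one ⟨9540, 3, 4⟩))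 (.node 1 (.one ⟨7660, 1, 5⟩) (.one ⟨2965, 6, 3⟩))))) (.node 8 (.node 4 (.node 2 (.node 1 (.one ⟨10266, 5, 4⟩) (.one ⟨12062, 1, 3⟩)) (.node 1 (.one ⟨7693, 1, 3⟩) (.one ⟨10326, 5, 3⟩))) (.node 2 (.node 1 (.one ⟨3095, 6, 1⟩) (.one ⟨5359, 6, 5⟩)) (.node 1 (.one ⟨3230, 1, 3⟩) (.one ⟨8250, 1, 4⟩)))) (.node 4 (.node 2 (.node 1 (.one ⟨3833, 1, 0⟩) (.one ⟨9593, 4, 3⟩)) (.node 1 (.one ⟨4119, 6, 4⟩) (.one ⟨15752, 4, 4⟩))) (.node 2 (.node 1 (.one ⟨16346, 4, 4⟩) (.one ⟨11438, 5, 4⟩)) (.node 1 (.one ⟨8106, 5, 4⟩) (.one ⟨15751, 1, 4⟩)))))))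
def par3_3_13 : Arr Par :=
  (.node 32 (.node 16 (.node 8 (.node 4 (.node 2 (.node 1 (.one ⟨8250, 4, 4⟩) (.one ⟨5045, 4, 3⟩)) (.node 1 (.one ⟨4207, 4, 4⟩) (.one ⟨3782, 5, 4⟩))) (.node 2 (.node 1 (.one ⟨11384, 6, 4⟩) (.one ⟨3149, 5, 4⟩)) (.node 1 (.one ⟨1437, 5, 3⟩) (.one ⟨1076, 4, 5⟩)))) (.node 4 (.node 2 (.node 1 (.one ⟨12773, 0, 4⟩) (.one ⟨2842, 5, 5⟩)) (.node 1 (.one ⟨11952, 5, 5⟩) (.one ⟨3892, 3, 2⟩))) (.node 2 (.node 1 (.one ⟨10000, 5, 3⟩) (.one ⟨12138, 0, 3⟩)) (.node 1 (.one ⟨15763, 1, 3⟩) (.one ⟨9592, 4, 3⟩))))) (.node 8 (.node 4 (.node 2 (.node 1 (.one ⟨5004, 4, 3⟩) (.one ⟨9814, 5, 4⟩)) (.node 1 (.one ⟨14270, 6, 4⟩) (.one ⟨9245, 6, 4⟩))) (.node 2 (.node 1 (.one ⟨1329, 5, 3⟩) (.one ⟨6236, 6, 4⟩)) (.node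 1 (.one ⟨14446, 5, 3⟩) (.one ⟨3982, 1, 3⟩)))) (.node 4 (.node 2 (.node 1 (.one ⟨1086, 4, 2⟩) (.one ⟨9611, 5, 5⟩)) (.node 1 (.one ⟨3424, 6, 2⟩) (.one ⟨15782, 1, 3⟩))) (.node 2 (.node 1 (.one ⟨14736, 1, 3⟩) (.one ⟨15574, 5, 5⟩)) (.node 1 (.one ⟨6746, 6, 4⟩) (.one ⟨7602, 6, 4⟩)))))) (.node 16 (.node 8 (.node 4 (.node 2 (.node 1 (.one ⟨17174, 5, 4⟩) (.one ⟨11960, 4, 3⟩)) (.node 1 (.one ⟨1971, 6, 3⟩) (.one ⟨2783, 6, 5⟩))) (.node 2 (.node 1 (.one ⟨8885, 5, 5⟩) (.one ⟨13156, 5, 4⟩)) (.node 1 (.one ⟨13869, 5, 4⟩) (.one ⟨979, 5, 4⟩)))) (.node 4 (.node 2 (.node 1 (.one ⟨832, 5, 4⟩) (.one ⟨9346, 6, 3⟩)) (.node 1 (.one ⟨476, 5, 4⟩) (.one ⟨5202, 6, 3⟩))) (.node 2 (.node 1 (.one ⟨12037, 1, 3⟩) (.one ⟨2507, 3, 5⟩)) (.node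 1 (.one ⟨9864, 6, 3⟩) (.one ⟨1485, 4, 2⟩))))) (.node 8 (.node 4 (.node 2 (.node 1 (.one ⟨1087, 6, 3⟩) (.one ⟨5595, 3, 5⟩)) (.node 1 (.one ⟨5948, 6, 2⟩) (.one ⟨538, 6, 5⟩))) (.node 2 (.node 1 (.one ⟨4741, 2, 3⟩) (.one ⟨2591, 5, 3⟩)) (.node 1 (.one ⟨13409, 6, 5⟩) (.one ⟨7667, 5, 2⟩)))) (.node 4 (.node 2 (.node 1 (.one ⟨10775, 6, 4⟩) (.one ⟨15181, 0, 3⟩)) (.node 1 (.one ⟨10310, 4, 4⟩) (.one ⟨10765, 6, 5⟩))) (.node 2 (.node 1 (.one ⟨15782, 5, 3⟩) (.one ⟨2888, 5, 4⟩)) (.node 1 (.one ⟨9678, 0, 3⟩) (.one ⟨10422, 4, 3⟩)))))))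
def par3_3_14 : Arr Par :=
  (.node 32 (.node 16 (.node 8 (.node 4 (.node 2 (.node 1 (.one ⟨10639, 5, 2⟩) (.one ⟨15642, 6, 5⟩)) (.node 1 (.one ⟨1063, 5, 2⟩) (.one ⟨9689, 3, 3⟩))) (.node 2 (.node 1 (.one ⟨8320, 5, 2⟩) (.one ⟨2207, 6, 3⟩)) (.node 1 (.one ⟨7409, 6, 3⟩) (.one ⟨8649, 6, 4⟩)))) (.node 4 (.node 2 (.node 1 (.one ⟨16373, 0, 2⟩) (.one ⟨9177, 4, 3⟩)) (.node 1 (.one ⟨7995, 5, 4⟩) (.one ⟨9719, 0, 2⟩))) (.node 2 (.node 1 (.one ⟨1078, 5, 2⟩) (.one ⟨12457, 4, 4⟩)) (.node 1 (.one ⟨15000, 6, 2⟩) (.one ⟨5410, 4, 3⟩))))) (.node 8 (.node 4 (.node 2 (.node 1 (.one ⟨12033, 3, 4⟩) (.one ⟨5451, 5, 4⟩)) (.node 1 (.one ⟨7885, 4, 3⟩) (.one ⟨4083, 3, 4⟩))) (.node 2 (.node 1 (.one ⟨4117, 6, 3⟩) (.one ⟨14409, 5, 3⟩)) (.node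 1 (.one ⟨9180, 4, 4⟩) (.one ⟨11240, 0, 4⟩)))) (.node 4 (.node 2 (.node 1 (.one ⟨12003, 1, 5⟩) (.one ⟨12392, 0, 4⟩)) (.node 1 (.one ⟨7814, 4, 3⟩) (.one ⟨5258, 4, 3⟩))) (.node 2 (.node 1 (.one ⟨14434, 5, 5⟩) (.one ⟨8320, 3, 2⟩)) (.node 1 (.one ⟨1592, 0, 3⟩) (.one ⟨8356, 4, 3⟩)))))) (.node 16 (.node 8 (.node 4 (.node 2 (.node 1 (.one ⟨15181, 4, 3⟩) (.one ⟨7926, 5, 4⟩)) (.node 1 (.one ⟨8128, 5, 4⟩) (.one ⟨13009, 0, 3⟩))) (.node 2 (.node 1 (.one ⟨13100, 4, 4⟩) (.one ⟨13813, 5, 3⟩)) (.node 1 (.one ⟨16410, 0, 3⟩) (.one ⟨13018, 6, 4⟩)))) (.node 4 (.node 2 (.node 1 (.one ⟨6514, 5, 4⟩) (.one ⟨8320, 0, 2⟩)) (.node 1 (.one ⟨4805, 6, 4⟩) (.one ⟨7495, 2, 3⟩))) (.node 2 (.node 1 (.one ⟨2003, 6, 2⟩) (.one ⟨10845, 4, 3⟩)) (.node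 1 (.one ⟨13259, 4, 4⟩) (.one ⟨12796, 6, 3⟩))))) (.node 8 (.node 4 (.node 2 (.node 1 (.one ⟨473, 5, 5⟩) (.one ⟨556, 5, 4⟩)) (.node 1 (.one ⟨2462, 6, 4⟩) (.one ⟨11987, 6, 3⟩))) (.node 2 (.node 1 (.one ⟨3327, 4, 4⟩) (.one ⟨3330, 4, 4⟩)) (.node 1 (.one ⟨2811, 6, 3⟩) (.one ⟨15848, 0, 4⟩)))) (.node 4 (.node 2 (.node 1 (.one ⟨48, 5, 4⟩) (.one ⟨2965, 5, 3⟩)) (.node 1 (.one ⟨8905, 6, 5⟩) (.one ⟨16954, 6, 5⟩))) (.node 2 (.node 1 (.one ⟨2960, 5, 1⟩) (.one ⟨16960, 6, 4⟩)) (.node 1 (.one ⟨15932, 0, 4⟩) (.one ⟨17036, 6, 4⟩)))))))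
def par3_3_15 : Arr Par :=
  (.node 32 (.node 16 (.node 8 (.node 4 (.node 2 (.node 1 (.one ⟨6842, 5, 3⟩) (.one ⟨5458, 5, 5⟩)) (.node 1 (.one ⟨11864, 3, 2⟩) (.one ⟨17068, 6, 4⟩))) (.node 2 (.node 1 (.one ⟨11131, 3, 2⟩) (.one ⟨17018, 6, 3⟩)) (.node 1 (.one ⟨12737, 5, 4⟩) (.one ⟨7517, 5, 3⟩)))) (.node 4 (.node 2 (.node 1 (.one ⟨6642, 4, 3⟩) (.one ⟨12219, 5, 4⟩)) (.node 1 (.one ⟨14982, 6, 3⟩) (.one ⟨14125, 5, 5⟩))) (.node 2 (.node 1 (.one ⟨2440, 3, 4⟩) (.one ⟨2951, 6, 3⟩)) (.node 1 (.one ⟨14128, 6, 4⟩) (.one ⟨6375, 4, 4⟩))))) (.node 8 (.node 4 (.node 2 (.node 1 (.one ⟨15348, 5, 3⟩) (.one ⟨242, 1, 0⟩)) (.node 1 (.one ⟨13665, 6, 4⟩) (.one ⟨16344, 0, 4⟩))) (.node 2 (.node 1 (.one ⟨11264, 4, 4⟩) (.one ⟨1618, 1, 0⟩))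 (.node 1 (.one ⟨1195, 6, 4⟩) (.one ⟨9978, 5, 3⟩)))) (.node 4 (.node 2 (.node 1 (.one ⟨6803, 1, 2⟩) (.one ⟨6155, 2, 2⟩)) (.node 1 (.one ⟨15913, 0, 3⟩) (.one ⟨13361, 2, 3⟩))) (.node 2 (.node 1 (.one ⟨5334, 5, 4⟩) (.one ⟨13115, 5, 4⟩)) (.node 1 (.one ⟨8768, 4, 2⟩) (.one ⟨1774, 6, 2⟩)))))) (.node 16 (.node 8 (.node 4 (.node 2 (.node 1 (.one ⟨8068, 6, 2⟩) (.one ⟨10232, 0, 3⟩)) (.node 1 (.one ⟨1971, 5, 3⟩) (.one ⟨4886, 6, 4⟩))) (.node 2 (.node 1 (.one ⟨11204, 4, 3⟩) (.one ⟨17055, 2, 3⟩)) (.node 1 (.one ⟨16355, 6, 3⟩) (.one ⟨13909, 5, 3⟩)))) (.node 4 (.node 2 (.node 1 (.one ⟨76, 6, 4⟩) (.one ⟨8181, 5, 3⟩)) (.node 1 (.one ⟨3368, 5, 4⟩) (.one ⟨5051, 2, 2⟩))) (.node 2 (.node 1 (.one ⟨16799, 6, 4⟩) (.one ⟨10632, 6, 4⟩))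 (.node 1 (.one ⟨4028, 6, 2⟩) (.one ⟨11987, 3, 3⟩))))) (.node 8 (.node 4 (.node 2 (.node 1 (.one ⟨7667, 6, 2⟩) (.one ⟨10263, 1, 3⟩)) (.node 1 (.one ⟨7661, 1, 5⟩) (.one ⟨11179, 2, 3⟩))) (.node 2 (.node 1 (.one ⟨15199, 6, 3⟩) (.one ⟨5696, 6, 3⟩)) (.node 1 (.one ⟨5870, 5, 4⟩) (.one ⟨16823, 6, 4⟩)))) (.node 4 (.node 2 (.node 1 (.one ⟨245, 3, 2⟩) (.one ⟨13527, 6, 5⟩)) (.node 1 (.one ⟨16714, 6, 3⟩) (.one ⟨14237, 5, 5⟩))) (.node 2 (.node 1 (.one ⟨9839, 6, 5⟩) (.one ⟨16355, 5, 3⟩)) (.node 1 (.one ⟨4388, 5, 4⟩) (.one ⟨1328, 6, 4⟩)))))))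
def par3_3 : Arr Par :=
  (.node 512 (.node 256 (.node 128 (.node 64 par3_3_0 par3_3_1) (.node 64 par3_3_2 par3_3_3)) (.node 128 (.node 64 par3_3_4 par3_3_5) (.node 64 par3_3_6 par3_3_7))) (.node 256 (.node 128 (.node 64 par3_3_8 par3_3_9) (.node 64 par3_3_10 par3_3_11)) (.node 128 (.node 64 par3_3_12 par3_3_13) (.node 64 par3_3_14 par3_3_15))))
def par3_4_0 : Arr Par :=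
  (.node 32 (.node 16 (.node 8 (.node 4 (.node 2 (.node 1 (.one ⟨6108, 4, 3⟩) (.one ⟨6926, 4, 3⟩)) (.node 1 (.one ⟨4812, 6, 4⟩) (.one ⟨5202, 5, 3⟩))) (.node 2 (.node 1 (.one ⟨4533, 6, 5⟩) (.one ⟨11511, 5, 4⟩)) (.node 1 (.one ⟨10410, 0, 3⟩) (.one ⟨16019, 2, 2⟩)))) (.node 4 (.node 2 (.node 1 (.one ⟨5200, 5, 3⟩) (.one ⟨7712, 5, 5⟩)) (.node 1 (.one ⟨14642, 5, 5⟩) (.one ⟨8178, 5, 3⟩))) (.node 2 (.node 1 (.one ⟨5886, 6, 3⟩) (.one ⟨9256, 5, 4⟩)) (.node 1 (.one ⟨5043, 6, 3⟩) (.one ⟨7817, 0, 4⟩))))) (.node 8 (.node 4 (.node 2 (.node 1 (.one ⟨11984, 6, 5⟩) (.one ⟨10387, 0, 3⟩)) (.node 1 (.one ⟨13327, 5, 3⟩) (.one ⟨14920, 3, 3⟩))) (.node 2 (.node 1 (.one ⟨14339, 4, 3⟩) (.one ⟨16996, 6, 2⟩)) (.node 1 (.one ⟨15569, 6, 4⟩)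 (.one ⟨13694, 5, 3⟩)))) (.node 4 (.node 2 (.node 1 (.one ⟨5507, 4, 2⟩) (.one ⟨10123, 5, 4⟩)) (.node 1 (.one ⟨14156, 5, 2⟩) (.one ⟨8908, 6, 5⟩))) (.node 2 (.node 1 (.one ⟨7767, 0, 2⟩) (.one ⟨14463, 6, 4⟩)) (.node 1 (.one ⟨11946, 3, 4⟩) (.one ⟨16872, 6, 4⟩)))))) (.node 16 (.node 8 (.node 4 (.node 2 (.node 1 (.one ⟨7666, 6, 3⟩) (.one ⟨17038, 6, 5⟩)) (.node 1 (.one ⟨7734, 6, 5⟩) (.one ⟨14904, 2, 3⟩))) (.node 2 (.node 1 (.one ⟨1781, 6, 5⟩) (.one ⟨9886, 5, 1⟩)) (.node 1 (.one ⟨228, 6, 5⟩) (.one ⟨8769, 5, 5⟩)))) (.node 4 (.node 2 (.node 1 (.one ⟨7141, 6, 3⟩) (.one ⟨11205, 6, 3⟩)) (.node 1 (.one ⟨14571, 5, 2⟩) (.one ⟨7843, 5, 4⟩))) (.node 2 (.node 1 (.one ⟨6751, 6, 3⟩) (.one ⟨10816, 6, 3⟩)) (.node 1 (.one ⟨12543, 0,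 3⟩) (.one ⟨1423, 6, 4⟩))))) (.node 8 (.node 4 (.node 2 (.node 1 (.one ⟨6795, 6, 2⟩) (.one ⟨10143, 5, 3⟩)) (.node 1 (.one ⟨5938, 5, 4⟩) (.one ⟨3234, 5, 4⟩))) (.node 2 (.node 1 (.one ⟨10038, 6, 2⟩) (.one ⟨7678, 3, 5⟩)) (.node 1 (.one ⟨4658, 4, 3⟩) (.one ⟨1239, 5, 3⟩)))) (.node 4 (.node 2 (.node 1 (.one ⟨11462, 5, 4⟩) (.one ⟨12443, 6, 3⟩)) (.node 1 (.one ⟨12723, 6, 2⟩) (.one ⟨3555, 0, 3⟩))) (.node 2 (.node 1 (.one ⟨10146, 5, 3⟩) (.one ⟨1708, 5, 4⟩)) (.node 1 (.one ⟨11553, 5, 5⟩) (.one ⟨8889, 6, 4⟩)))))))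
def par3_4_1 : Arr Par :=
  (.node 32 (.node 16 (.node 8 (.node 4 (.node 2 (.node 1 (.one ⟨16589, 6, 5⟩) (.one ⟨11235, 6, 5⟩)) (.node 1 (.one ⟨3097, 6, 5⟩) (.one ⟨12569, 5, 4⟩))) (.node 2 (.node 1 (.one ⟨16903, 5, 5⟩) (.one ⟨8292, 5, 5⟩)) (.node 1 (.one ⟨10174, 6, 4⟩) (.one ⟨4368, 5, 3⟩)))) (.node 4 (.node 2 (.node 1 (.one ⟨12419, 5, 3⟩) (.one ⟨15659, 6, 4⟩)) (.node 1 (.one ⟨7100, 3, 4⟩) (.one ⟨7091, 5, 5⟩))) (.node 2 (.node 1 (.one ⟨5716, 6, 5⟩) (.one ⟨15468, 6, 4⟩)) (.node 1 (.one ⟨2095, 6, 3⟩) (.one ⟨9865, 0, 3⟩))))) (.node 8 (.node 4 (.node 2 (.node 1 (.one ⟨1873, 0, 2⟩) (.one ⟨4499, 5, 4⟩)) (.node 1 (.one ⟨2813, 5, 4⟩) (.one ⟨16674, 5, 4⟩))) (.node 2 (.node 1 (.one ⟨6905, 6, 4⟩) (.one ⟨9103, 5, 5⟩)) (.node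 1 (.one ⟨5455, 6, 4⟩) (.one ⟨12136, 5, 4⟩)))) (.node 4 (.node 2 (.node 1 (.one ⟨4393, 1, 4⟩) (.one ⟨4495, 5, 4⟩)) (.node 1 (.one ⟨1994, 6, 4⟩) (.one ⟨9230, 5, 3⟩))) (.node 2 (.node 1 (.one ⟨1069, 1, 4⟩) (.one ⟨1887, 5, 3⟩)) (.node 1 (.one ⟨11933, 5, 5⟩) (.one ⟨12073, 5, 4⟩)))))) (.node 16 (.node 8 (.node 4 (.node 2 (.node 1 (.one ⟨12063, 5, 4⟩) (.one ⟨8690, 3, 4⟩)) (.node 1 (.one ⟨12043, 5, 5⟩) (.one ⟨16188, 6, 4⟩))) (.node 2 (.node 1 (.one ⟨15938, 6, 4⟩) (.one ⟨3988, 5, 4⟩)) (.node 1 (.one ⟨3995, 5, 4⟩) (.one ⟨12133, 5, 1⟩)))) (.node 4 (.node 2 (.node 1 (.one ⟨2687, 1, 0⟩) (.one ⟨11468, 6, 5⟩)) (.node 1 (.one ⟨2101, 6, 5⟩) (.one ⟨15500, 6, 5⟩))) (.node 2 (.node 1 (.one ⟨5684, 6, 2⟩) (.one ⟨160, 6, 2⟩)) (.node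 1 (.one ⟨5632, 4, 3⟩) (.one ⟨6792, 5, 3⟩))))) (.node 8 (.node 4 (.node 2 (.node 1 (.one ⟨2811, 4, 3⟩) (.one ⟨15107, 5, 4⟩)) (.node 1 (.one ⟨13954, 3, 3⟩) (.one ⟨14760, 2, 2⟩))) (.node 2 (.node 1 (.one ⟨5200, 4, 3⟩) (.one ⟨11281, 6, 4⟩)) (.node 1 (.one ⟨13061, 6, 5⟩) (.one ⟨13534, 5, 4⟩)))) (.node 4 (.node 2 (.node 1 (.one ⟨14444, 5, 4⟩) (.one ⟨2285, 3, 1⟩)) (.node 1 (.one ⟨10645, 6, 4⟩) (.one ⟨8966, 6, 2⟩))) (.node 2 (.node 1 (.one ⟨11524, 4, 3⟩) (.one ⟨14348, 6, 3⟩)) (.node 1 (.one ⟨5728, 6, 3⟩) (.one ⟨3826, 5, 5⟩)))))))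
def par3_4_2 : Arr Par :=
  (.node 32 (.node 16 (.node 8 (.node 4 (.node 2 (.node 1 (.one ⟨3896, 3, 1⟩) (.one ⟨2613, 5, 5⟩)) (.node 1 (.one ⟨13503, 5, 5⟩) (.one ⟨8910, 5, 3⟩))) (.node 2 (.node 1 (.one ⟨14391, 5, 3⟩) (.one ⟨8752, 4, 3⟩)) (.node 1 (.one ⟨15883, 5, 4⟩) (.one ⟨12736, 6, 2⟩)))) (.node 4 (.node 2 (.node 1 (.one ⟨2217, 2, 2⟩) (.one ⟨8324, 6, 4⟩)) (.node 1 (.one ⟨3593, 5, 4⟩) (.one ⟨16784, 6, 3⟩))) (.node 2 (.node 1 (.one ⟨1033, 5, 4⟩) (.one ⟨4124, 6, 3⟩)) (.node 1 (.one ⟨2504, 5, 4⟩) (.one ⟨16392, 4, 4⟩))))) (.node 8 (.node 4 (.node 2 (.node 1 (.one ⟨1002, 5, 4⟩) (.one ⟨12848, 4, 3⟩)) (.node 1 (.one ⟨7690, 0, 4⟩) (.one ⟨11193, 6, 5⟩))) (.node 2 (.node 1 (.one ⟨11232, 6, 5⟩) (.one ⟨15947, 0, 4⟩)) (.node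 1 (.one ⟨7995, 0, 4⟩) (.one ⟨12701, 3, 5⟩)))) (.node 4 (.node 2 (.node 1 (.one ⟨16071, 3, 5⟩) (.one ⟨7596, 5, 4⟩)) (.node 1 (.one ⟨2379, 6, 4⟩) (.one ⟨1035, 5, 4⟩))) (.node 2 (.node 1 (.one ⟨301, 5, 4⟩) (.one ⟨6210, 6, 4⟩)) (.node 1 (.one ⟨571, 5, 4⟩) (.one ⟨731, 6, 4⟩)))))) (.node 16 (.node 8 (.node 4 (.node 2 (.node 1 (.one ⟨5662, 5, 4⟩) (.one ⟨5468, 5, 3⟩)) (.node 1 (.one ⟨6487, 5, 4⟩) (.one ⟨16309, 6, 3⟩))) (.node 2 (.node 1 (.one ⟨5477, 4, 3⟩) (.one ⟨7293, 5, 4⟩)) (.node 1 (.one ⟨137, 3, 5⟩) (.one ⟨11620, 6, 3⟩)))) (.node 4 (.node 2 (.node 1 (.one ⟨14488, 3, 3⟩) (.one ⟨16222, 6, 4⟩)) (.node 1 (.one ⟨15541, 5, 5⟩) (.one ⟨8328, 5, 4⟩))) (.node 2 (.node 1 (.one ⟨5876, 3, 5⟩) (.one ⟨12690, 5, 4⟩)) (.node 1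 (.one ⟨15646, 5, 4⟩) (.one ⟨11963, 4, 3⟩))))) (.node 8 (.node 4 (.node 2 (.node 1 (.one ⟨6918, 6, 5⟩) (.one ⟨5142, 5, 5⟩)) (.node 1 (.one ⟨13589, 5, 4⟩) (.one ⟨2078, 5, 4⟩))) (.node 2 (.node 1 (.one ⟨9493, 5, 5⟩) (.one ⟨5507, 5, 2⟩)) (.node 1 (.one ⟨2084, 6, 5⟩) (.one ⟨14052, 6, 4⟩)))) (.node 4 (.node 2 (.node 1 (.one ⟨12076, 6, 4⟩) (.one ⟨10041, 6, 4⟩)) (.node 1 (.one ⟨16208, 6, 4⟩) (.one ⟨13894, 6, 4⟩))) (.node 2 (.node 1 (.one ⟨12574, 6, 4⟩) (.one ⟨9264, 6, 3⟩)) (.node 1 (.one ⟨9836, 0, 3⟩) (.one ⟨5648, 0, 2⟩)))))))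
def par3_4_3 : Arr Par :=
  (.node 32 (.node 16 (.node 8 (.node 4 (.node 2 (.node 1 (.one ⟨9326, 5, 4⟩) (.one ⟨6890, 5, 3⟩)) (.node 1 (.one ⟨16959, 1, 4⟩) (.one ⟨9848, 5, 4⟩))) (.node 2 (.node 1 (.one ⟨7315, 5, 4⟩) (.one ⟨486, 1, 4⟩)) (.node 1 (.one ⟨7030, 5, 4⟩) (.one ⟨17104, 5, 4⟩)))) (.node 4 (.node 2 (.node 1 (.one ⟨6865, 5, 3⟩) (.one ⟨15508, 6, 5⟩)) (.node 1 (.one ⟨3980, 0, 3⟩) (.one ⟨12505, 5, 3⟩))) (.node 2 (.node 1 (.one ⟨2026, 5, 3⟩) (.one ⟨6778, 5, 4⟩)) (.node 1 (.one ⟨3609, 0, 3⟩) (.one ⟨5659, 0, 2⟩))))) (.node 8 (.node 4 (.node 2 (.node 1 (.one ⟨9821, 5, 3⟩) (.one ⟨3700, 6, 5⟩)) (.node 1 (.one ⟨5069, 3, 4⟩) (.one ⟨16119, 4, 3⟩))) (.node 2 (.node 1 (.one ⟨1278, 6, 2⟩) (.one ⟨16508, 6, 3⟩)) (.node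 1 (.one ⟨3623, 6, 5⟩) (.one ⟨15128, 5, 4⟩)))) (.node 4 (.node 2 (.node 1 (.one ⟨11879, 5, 3⟩) (.one ⟨1196, 5, 5⟩)) (.node 1 (.one ⟨3954, 0, 3⟩) (.one ⟨4263, 5, 4⟩))) (.node 2 (.node 1 (.one ⟨7545, 5, 4⟩) (.one ⟨17012, 5, 5⟩)) (.node 1 (.one ⟨9823, 6, 3⟩) (.one ⟨12745, 4, 3⟩)))))) (.node 16 (.node 8 (.node 4 (.node 2 (.node 1 (.one ⟨6890, 4, 3⟩) (.one ⟨6788, 5, 3⟩)) (.node 1 (.one ⟨13059, 6, 5⟩) (.one ⟨15108, 5, 2⟩))) (.node 2 (.node 1 (.one ⟨4813, 6, 3⟩) (.one ⟨10019, 5, 4⟩)) (.node 1 (.one ⟨4555, 5, 2⟩) (.one ⟨4137, 5, 4⟩)))) (.node 4 (.node 2 (.node 1 (.one ⟨8300, 5, 3⟩) (.one ⟨5310, 6, 3⟩)) (.node 1 (.one ⟨16116, 6, 3⟩) (.one ⟨282, 6, 4⟩))) (.node 2 (.node 1 (.one ⟨12319, 5, 4⟩) (.one ⟨12052, 0, 4⟩)) (.node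 1 (.one ⟨2071, 5, 4⟩) (.one ⟨12805, 6, 5⟩))))) (.node 8 (.node 4 (.node 2 (.node 1 (.one ⟨12411, 6, 4⟩) (.one ⟨2237, 3, 4⟩)) (.node 1 (.one ⟨10733, 4, 3⟩) (.one ⟨6093, 0, 3⟩))) (.node 2 (.node 1 (.one ⟨15584, 4, 3⟩) (.one ⟨13553, 5, 3⟩)) (.node 1 (.one ⟨6294, 5, 4⟩) (.one ⟨12463, 5, 5⟩)))) (.node 4 (.node 2 (.node 1 (.one ⟨3670, 6, 2⟩) (.one ⟨13703, 6, 4⟩)) (.node 1 (.one ⟨3584, 1, 2⟩) (.one ⟨11726, 0, 3⟩))) (.node 2 (.node 1 (.one ⟨10305, 5, 4⟩) (.one ⟨10280, 6, 3⟩)) (.node 1 (.one ⟨446, 5, 4⟩) (.one ⟨2512, 6, 3⟩)))))))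
def par3_4_4 : Arr Par :=
  (.node 32 (.node 16 (.node 8 (.node 4 (.node 2 (.node 1 (.one ⟨16587, 4, 3⟩) (.one ⟨3612, 3, 4⟩)) (.node 1 (.one ⟨16163, 0, 4⟩) (.one ⟨1129, 5, 4⟩))) (.node 2 (.node 1 (.one ⟨3791, 5, 4⟩) (.one ⟨16294, 5, 4⟩)) (.node 1 (.one ⟨14619, 5, 4⟩) (.one ⟨3970, 5, 3⟩)))) (.node 4 (.node 2 (.node 1 (.one ⟨12259, 6, 3⟩) (.one ⟨15491, 1, 2⟩)) (.node 1 (.one ⟨16391, 6, 3⟩) (.one ⟨6844, 6, 2⟩))) (.node 2 (.node 1 (.one ⟨8789, 1, 5⟩) (.one ⟨2927, 6, 1⟩)) (.node 1 (.one ⟨3954, 3, 3⟩) (.one ⟨13034, 5, 3⟩))))) (.node 8 (.node 4 (.node 2 (.node 1 (.one ⟨13048, 6, 2⟩) (.one ⟨16369, 4, 3⟩)) (.node 1 (.one ⟨13421, 5, 3⟩) (.one ⟨2459, 6, 4⟩))) (.node 2 (.node 1 (.one ⟨4117, 5, 3⟩) (.one ⟨3520, 5, 4⟩))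 (.node 1 (.one ⟨11688, 3, 5⟩) (.one ⟨3589, 4, 4⟩)))) (.node 4 (.node 2 (.node 1 (.one ⟨17061, 4, 3⟩) (.one ⟨5830, 5, 5⟩)) (.node 1 (.one ⟨10343, 0, 4⟩) (.one ⟨4426, 0, 4⟩))) (.node 2 (.node 1 (.one ⟨5559, 6, 3⟩) (.one ⟨3979, 4, 3⟩)) (.node 1 (.one ⟨11811, 6, 3⟩) (.one ⟨10636, 6, 3⟩)))))) (.node 16 (.node 8 (.node 4 (.node 2 (.node 1 (.one ⟨8199, 6, 2⟩) (.one ⟨16100, 6, 3⟩)) (.node 1 (.one ⟨354, 6, 5⟩) (.one ⟨3600, 6, 3⟩))) (.node 2 (.node 1 (.one ⟨15227, 5, 3⟩) (.one ⟨6317, 6, 4⟩)) (.node 1 (.one ⟨12472, 6, 4⟩) (.one ⟨13750, 5, 5⟩)))) (.node 4 (.node 2 (.node 1 (.one ⟨10830, 5, 3⟩) (.one ⟨11899, 6, 3⟩)) (.node 1 (.one ⟨14669, 6, 3⟩) (.one ⟨15993, 6, 3⟩))) (.node 2 (.node 1 (.one ⟨10737, 0, 3⟩) (.one ⟨5224,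 6, 3⟩)) (.node 1 (.one ⟨1268, 5, 2⟩) (.one ⟨16700, 6, 3⟩))))) (.node 8 (.node 4 (.node 2 (.node 1 (.one ⟨10131, 5, 4⟩) (.one ⟨8133, 0, 4⟩)) (.node 1 (.one ⟨9356, 2, 2⟩) (.one ⟨12765, 5, 3⟩))) (.node 2 (.node 1 (.one ⟨10152, 5, 3⟩) (.one ⟨16696, 6, 3⟩)) (.node 1 (.one ⟨14834, 5, 3⟩) (.one ⟨8694, 3, 4⟩)))) (.node 4 (.node 2 (.node 1 (.one ⟨7232, 3, 5⟩) (.one ⟨8123, 0, 3⟩)) (.node 1 (.one ⟨9325, 3, 5⟩) (.one ⟨4453, 6, 3⟩))) (.node 2 (.node 1 (.one ⟨9573, 6, 5⟩) (.one ⟨10754, 5, 4⟩)) (.node 1 (.one ⟨6837, 5, 4⟩) (.one ⟨11195, 6, 4⟩)))))))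
def par3_4_5 : Arr Par :=
  (.node 32 (.node 16 (.node 8 (.node 4 (.node 2 (.node 1 (.one ⟨6254, 1, 4⟩) (.one ⟨7311, 5, 3⟩)) (.node 1 (.one ⟨3742, 6, 4⟩) (.one ⟨12535, 5, 4⟩))) (.node 2 (.node 1 (.one ⟨12472, 5, 4⟩) (.one ⟨1592, 5, 3⟩)) (.node 1 (.one ⟨16043, 6, 4⟩) (.one ⟨7495, 5, 3⟩)))) (.node 4 (.node 2 (.node 1 (.one ⟨1233, 4, 2⟩) (.one ⟨3296, 5, 5⟩)) (.node 1 (.one ⟨14327, 5, 3⟩) (.one ⟨14346, 1, 3⟩))) (.node 2 (.node 1 (.one ⟨4039, 6, 4⟩) (.one ⟨6066, 5, 5⟩)) (.node 1 (.one ⟨8169, 6, 2⟩) (.one ⟨13416, 6, 4⟩))))) (.node 8 (.node 4 (.node 2 (.node 1 (.one ⟨1840, 6, 3⟩) (.one ⟨15201, 6, 5⟩)) (.node 1 (.one ⟨10591, 5, 1⟩) (.one ⟨11528, 0, 3⟩))) (.node 2 (.node 1 (.one ⟨7874, 6, 3⟩) (.one ⟨13193, 6, 5⟩)) (.node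 1 (.one ⟨357, 6, 5⟩) (.one ⟨2819, 5, 2⟩)))) (.node 4 (.node 2 (.node 1 (.one ⟨2858, 5, 4⟩) (.one ⟨11900, 5, 3⟩)) (.node 1 (.one ⟨11849, 5, 3⟩) (.one ⟨227, 5, 4⟩))) (.node 2 (.node 1 (.one ⟨1416, 5, 2⟩) (.one ⟨13097, 5, 5⟩)) (.node 1 (.one ⟨7151, 6, 4⟩) (.one ⟨11616, 6, 3⟩)))))) (.node 16 (.node 8 (.node 4 (.node 2 (.node 1 (.one ⟨4430, 1, 3⟩) (.one ⟨15443, 6, 4⟩)) (.node 1 (.one ⟨3326, 6, 4⟩) (.one ⟨1412, 6, 2⟩))) (.node 2 (.node 1 (.one ⟨1470, 5, 5⟩) (.one ⟨1237, 4, 2⟩)) (.node 1 (.one ⟨13153, 6, 4⟩) (.one ⟨9351, 2, 2⟩)))) (.node 4 (.node 2 (.node 1 (.one ⟨15872, 5, 4⟩) (.one ⟨5741, 6, 3⟩)) (.node 1 (.one ⟨7670, 6, 2⟩) (.one ⟨8027, 1, 3⟩))) (.node 2 (.node 1 (.one ⟨15967, 1, 3⟩) (.one ⟨11056, 6, 5⟩)) (.node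 1 (.one ⟨16415, 5, 2⟩) (.one ⟨15778, 5, 3⟩))))) (.node 8 (.node 4 (.node 2 (.node 1 (.one ⟨12577, 3, 3⟩) (.one ⟨12373, 3, 3⟩)) (.node 1 (.one ⟨1700, 5, 3⟩) (.one ⟨7605, 5, 4⟩))) (.node 2 (.node 1 (.one ⟨3609, 5, 3⟩) (.one ⟨1352, 3, 2⟩)) (.node 1 (.one ⟨9140, 5, 5⟩) (.one ⟨12986, 6, 3⟩)))) (.node 4 (.node 2 (.node 1 (.one ⟨9007, 6, 4⟩) (.one ⟨16552, 6, 5⟩)) (.node 1 (.one ⟨5154, 6, 3⟩) (.one ⟨16689, 6, 5⟩))) (.node 2 (.node 1 (.one ⟨5425, 6, 3⟩) (.one ⟨12586, 5, 2⟩)) (.node 1 (.one ⟨8994, 6, 3⟩) (.one ⟨11702, 6, 4⟩)))))))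
def par3_4_6 : Arr Par :=
  (.node 32 (.node 16 (.node 8 (.node 4 (.node 2 (.node 1 (.one ⟨12379, 6, 5⟩) (.one ⟨3851, 5, 5⟩)) (.node 1 (.one ⟨6083, 5, 4⟩) (.one ⟨5960, 6, 2⟩))) (.node 2 (.node 1 (.one ⟨11177, 5, 5⟩) (.one ⟨1355, 4, 5⟩)) (.node 1 (.one ⟨6575, 6, 5⟩) (.one ⟨6582, 6, 3⟩)))) (.node 4 (.node 2 (.node 1 (.one ⟨16120, 3, 2⟩) (.one ⟨5272, 4, 3⟩)) (.node 1 (.one ⟨6846, 5, 4⟩) (.one ⟨14651, 6, 3⟩))) (.node 2 (.node 1 (.one ⟨1342, 2, 3⟩) (.one ⟨6593, 6, 3⟩)) (.node 1 (.one ⟨12722, 5, 4⟩) (.one ⟨16610, 5, 3⟩))))) (.node 8 (.node 4 (.node 2 (.node 1 (.one ⟨1638, 5, 5⟩) (.one ⟨12546, 3, 4⟩)) (.node 1 (.one ⟨8512, 5, 4⟩) (.one ⟨16678, 5, 3⟩))) (.node 2 (.node 1 (.one ⟨9658, 6, 2⟩) (.one ⟨3413, 6, 4⟩)) (.node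 1 (.one ⟨8579, 5, 3⟩) (.one ⟨13238, 3, 4⟩)))) (.node 4 (.node 2 (.node 1 (.one ⟨3151, 6, 4⟩) (.one ⟨5866, 5, 4⟩)) (.node 1 (.one ⟨13575, 5, 4⟩) (.one ⟨9019, 5, 4⟩))) (.node 2 (.node 1 (.one ⟨9186, 5, 5⟩) (.one ⟨16974, 6, 3⟩)) (.node 1 (.one ⟨16280, 4, 3⟩) (.one ⟨1344, 4, 2⟩)))))) (.node 16 (.node 8 (.node 4 (.node 2 (.node 1 (.one ⟨8450, 3, 3⟩) (.one ⟨4057, 3, 3⟩)) (.node 1 (.one ⟨6040, 6, 3⟩) (.one ⟨2115, 5, 5⟩))) (.node 2 (.node 1 (.one ⟨1696, 5, 5⟩) (.one ⟨1461, 6, 2⟩)) (.node 1 (.one ⟨16257, 1, 3⟩) (.one ⟨4079, 6, 4⟩)))) (.node 4 (.node 2 (.node 1 (.one ⟨11550, 6, 4⟩) (.one ⟨1354, 3, 2⟩)) (.node 1 (.one ⟨2317, 6, 3⟩) (.one ⟨11174, 6, 4⟩))) (.node 2 (.node 1 (.one ⟨3559, 6, 3⟩) (.one ⟨1021, 6, 3⟩)) (.node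 1 (.one ⟨6013, 5, 4⟩) (.one ⟨11159, 0, 4⟩))))) (.node 8 (.node 4 (.node 2 (.node 1 (.one ⟨16444, 6, 3⟩) (.one ⟨3256, 5, 3⟩)) (.node 1 (.one ⟨15049, 1, 3⟩) (.one ⟨4329, 1, 0⟩))) (.node 2 (.node 1 (.one ⟨9246, 4, 2⟩) (.one ⟨14758, 5, 4⟩)) (.node 1 (.one ⟨10848, 5, 4⟩) (.one ⟨1932, 6, 4⟩)))) (.node 4 (.node 2 (.node 1 (.one ⟨10183, 6, 4⟩) (.one ⟨12632, 0, 3⟩)) (.node 1 (.one ⟨16155, 6, 4⟩) (.one ⟨9337, 2, 3⟩))) (.node 2 (.node 1 (.one ⟨15527, 0, 4⟩) (.one ⟨3795, 4, 3⟩)) (.node 1 (.one ⟨1911, 3, 4⟩) (.one ⟨6125, 6, 4⟩)))))))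
def par3_4_7 : Arr Par :=
  (.node 32 (.node 16 (.node 8 (.node 4 (.node 2 (.node 1 (.one ⟨10569, 4, 3⟩) (.one ⟨9240, 4, 3⟩)) (.node 1 (.one ⟨12656, 4, 4⟩) (.one ⟨16574, 1, 4⟩))) (.node 2 (.node 1 (.one ⟨11332, 5, 4⟩) (.one ⟨9678, 3, 3⟩)) (.node 1 (.one ⟨5384, 4, 4⟩) (.one ⟨16119, 1, 3⟩)))) (.node 4 (.node 2 (.node 1 (.one ⟨8395, 3, 4⟩) (.one ⟨12632, 1, 3⟩)) (.node 1 (.one ⟨10295, 4, 4⟩) (.one ⟨1450, 6, 1⟩))) (.node 2 (.node 1 (.one ⟨11898, 4, 3⟩) (.one ⟨1461, 3, 2⟩)) (.node 1 (.one ⟨9065, 4, 5⟩) (.one ⟨16731, 6, 3⟩))))) (.node 8 (.node 4 (.node 2 (.node 1 (.one ⟨11647, 4, 4⟩) (.one ⟨690, 5, 3⟩)) (.node 1 (.one ⟨326, 5, 5⟩) (.one ⟨8057, 5, 5⟩))) (.node 2 (.node 1 (.one ⟨9335, 4, 4⟩) (.one ⟨915, 5, 4⟩)) (.node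 1 (.one ⟨18, 5, 3⟩) (.one ⟨12697, 4, 4⟩)))) (.node 4 (.node 2 (.node 1 (.one ⟨364, 5, 4⟩) (.one ⟨1441, 3, 1⟩)) (.node 1 (.one ⟨7399, 6, 3⟩) (.one ⟨11250, 6, 5⟩))) (.node 2 (.node 1 (.one ⟨3537, 6, 5⟩) (.one ⟨4430, 5, 3⟩)) (.node 1 (.one ⟨5833, 6, 3⟩) (.one ⟨12781, 1, 2⟩)))))) (.node 16 (.node 8 (.node 4 (.node 2 (.node 1 (.one ⟨1712, 6, 2⟩) (.one ⟨9334, 4, 3⟩)) (.node 1 (.one ⟨1237, 5, 2⟩) (.one ⟨12703, 0, 2⟩))) (.node 2 (.node 1 (.one ⟨16582, 6, 2⟩) (.one ⟨4012, 3, 3⟩)) (.node 1 (.one ⟨8656, 6, 3⟩) (.one ⟨12296, 5, 5⟩)))) (.node 4 (.node 2 (.node 1 (.one ⟨3751, 5, 4⟩) (.one ⟨7160, 5, 3⟩)) (.node 1 (.one ⟨9237, 2, 2⟩) (.one ⟨10353, 5, 4⟩))) (.node 2 (.node 1 (.one ⟨1173, 5, 4⟩) (.one ⟨16574, 6, 4⟩)) (.node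 1 (.one ⟨16608, 5, 4⟩) (.one ⟨11976, 3, 1⟩))))) (.node 8 (.node 4 (.node 2 (.node 1 (.one ⟨2733, 5, 3⟩) (.one ⟨4663, 5, 2⟩)) (.node 1 (.one ⟨12419, 3, 3⟩) (.one ⟨14277, 6, 5⟩))) (.node 2 (.node 1 (.one ⟨12006, 6, 5⟩) (.one ⟨9329, 4, 3⟩)) (.node 1 (.one ⟨6731, 6, 5⟩) (.one ⟨9292, 6, 1⟩)))) (.node 4 (.node 2 (.node 1 (.one ⟨17123, 5, 3⟩) (.one ⟨9233, 2, 2⟩)) (.node 1 (.one ⟨3419, 5, 4⟩) (.one ⟨10465, 6, 3⟩))) (.node 2 (.node 1 (.one ⟨11528, 6, 3⟩) (.one ⟨9152, 5, 4⟩)) (.node 1 (.one ⟨2356, 6, 3⟩) (.one ⟨1756, 5, 5⟩)))))))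
def par3_4_8 : Arr Par :=
  (.node 32 (.node 16 (.node 8 (.node 4 (.node 2 (.node 1 (.one ⟨15805, 4, 4⟩) (.one ⟨9947, 6, 5⟩)) (.node 1 (.one ⟨5945, 5, 2⟩) (.one ⟨8101, 1, 3⟩))) (.node 2 (.node 1 (.one ⟨9340, 4, 4⟩) (.one ⟨224, 6, 4⟩)) (.node 1 (.one ⟨763, 6, 4⟩) (.one ⟨1442, 3, 1⟩)))) (.node 4 (.node 2 (.node 1 (.one ⟨12510, 3, 5⟩) (.one ⟨13865, 6, 2⟩)) (.node 1 (.one ⟨182, 4, 5⟩) (.one ⟨2269, 5, 3⟩))) (.node 2 (.node 1 (.one ⟨16172, 1, 2⟩) (.one ⟨4154, 3, 3⟩)) (.node 1 (.one ⟨8354, 5, 4⟩) (.one ⟨10109, 6, 2⟩))))) (.node 8 (.node 4 (.node 2 (.node 1 (.one ⟨12404, 6, 3⟩) (.one ⟨3849, 5, 3⟩)) (.node 1 (.one ⟨121, 3, 1⟩) (.one ⟨9244, 4, 3⟩))) (.node 2 (.node 1 (.one ⟨9142, 5, 4⟩) (.one ⟨3656, 5, 4⟩)) (.node 1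 (.one ⟨3076, 5, 4⟩) (.one ⟨13207, 0, 3⟩)))) (.node 4 (.node 2 (.node 1 (.one ⟨12632, 3, 3⟩) (.one ⟨11829, 5, 3⟩)) (.node 1 (.one ⟨6816, 4, 3⟩) (.one ⟨16464, 5, 3⟩))) (.node 2 (.node 1 (.one ⟨11928, 4, 4⟩) (.one ⟨8488, 3, 3⟩)) (.node 1 (.one ⟨1462, 3, 2⟩) (.one ⟨4805, 5, 4⟩)))))) (.node 16 (.node 8 (.node 4 (.node 2 (.node 1 (.one ⟨3110, 5, 3⟩) (.one ⟨17172, 5, 2⟩)) (.node 1 (.one ⟨8684, 6, 4⟩) (.one ⟨7752, 5, 5⟩))) (.node 2 (.node 1 (.one ⟨9242, 4, 2⟩) (.one ⟨3511, 6, 2⟩)) (.node 1 (.one ⟨10381, 5, 5⟩) (.one ⟨1640, 5, 3⟩)))) (.node 4 (.node 2 (.node 1 (.one ⟨14382, 6, 3⟩) (.one ⟨8278, 6, 3⟩)) (.node 1 (.one ⟨15620, 5, 4⟩) (.one ⟨3763, 4, 1⟩))) (.node 2 (.node 1 (.one ⟨1293, 6, 1⟩) (.one ⟨9171, 5, 3⟩)) (.node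 1 (.one ⟨9342, 2, 3⟩) (.one ⟨3154, 6, 4⟩))))) (.node 8 (.node 4 (.node 2 (.node 1 (.one ⟨1563, 5, 5⟩) (.one ⟨6977, 5, 3⟩)) (.node 1 (.one ⟨3412, 5, 2⟩) (.one ⟨5942, 5, 2⟩))) (.node 2 (.node 1 (.one ⟨2589, 5, 4⟩) (.one ⟨7436, 5, 2⟩)) (.node 1 (.one ⟨12443, 4, 3⟩) (.one ⟨13511, 2, 1⟩)))) (.node 4 (.node 2 (.node 1 (.one ⟨6080, 4, 4⟩) (.one ⟨10701, 2, 1⟩)) (.node 1 (.one ⟨5368, 3, 2⟩) (.one ⟨12949, 5, 4⟩))) (.node 2 (.node 1 (.one ⟨3528, 6, 4⟩) (.one ⟨2632, 5, 4⟩)) (.node 1 (.one ⟨8426, 5, 4⟩) (.one ⟨1141, 6, 4⟩)))))))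
def par3_4_9 : Arr Par :=
  (.node 32 (.node 16 (.node 8 (.node 4 (.node 2 (.node 1 (.one ⟨6551, 0, 4⟩) (.one ⟨16576, 1, 3⟩)) (.node 1 (.one ⟨13596, 5, 4⟩) (.one ⟨5106, 5, 4⟩))) (.node 2 (.node 1 (.one ⟨1885, 5, 4⟩) (.one ⟨8595, 1, 3⟩)) (.node 1 (.one ⟨17111, 5, 3⟩) (.one ⟨12353, 6, 4⟩)))) (.node 4 (.node 2 (.node 1 (.one ⟨15782, 6, 3⟩) (.one ⟨8842, 3, 2⟩)) (.node 1 (.one ⟨15676, 6, 4⟩) (.one ⟨6990, 5, 4⟩))) (.node 2 (.node 1 (.one ⟨13411, 2, 1⟩) (.one ⟨16272, 5, 4⟩)) (.node 1 (.one ⟨1444, 5, 5⟩) (.one ⟨8834, 5, 4⟩))))) (.node 8 (.node 4 (.node 2 (.node 1 (.one ⟨10677, 0, 3⟩) (.one ⟨6622, 5, 5⟩)) (.node 1 (.one ⟨11995, 5, 4⟩) (.one ⟨9864, 1, 3⟩))) (.node 2 (.node 1 (.one ⟨1832, 1, 3⟩) (.one ⟨12611, 5, 4⟩))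 (.node 1 (.one ⟨6213, 5, 2⟩) (.one ⟨410, 6, 5⟩)))) (.node 4 (.node 2 (.node 1 (.one ⟨5815, 5, 3⟩) (.one ⟨14540, 6, 4⟩)) (.node 1 (.one ⟨276, 5, 4⟩) (.one ⟨10701, 0, 1⟩))) (.node 2 (.node 1 (.one ⟨9898, 1, 2⟩) (.one ⟨1031, 5, 4⟩)) (.node 1 (.one ⟨10248, 6, 4⟩) (.one ⟨3106, 6, 3⟩)))))) (.node 16 (.node 8 (.node 4 (.node 2 (.node 1 (.one ⟨11854, 6, 5⟩) (.one ⟨3213, 6, 5⟩)) (.node 1 (.one ⟨12053, 6, 4⟩) (.one ⟨14055, 1, 3⟩))) (.node 2 (.node 1 (.one ⟨2272, 4, 3⟩) (.one ⟨850, 5, 4⟩)) (.node 1 (.one ⟨2079, 5, 3⟩) (.one ⟨14049, 5, 5⟩)))) (.node 4 (.node 2 (.node 1 (.one ⟨10290, 4, 4⟩) (.one ⟨14977, 6, 3⟩)) (.node 1 (.one ⟨15661, 5, 2⟩) (.one ⟨2590, 6, 3⟩))) (.node 2 (.node 1 (.one ⟨9376, 5, 5⟩) (.one ⟨11187, 5, 4⟩))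 (.node 1 (.one ⟨3401, 6, 3⟩) (.one ⟨3512, 5, 4⟩))))) (.node 8 (.node 4 (.node 2 (.node 1 (.one ⟨7675, 5, 5⟩) (.one ⟨10384, 6, 4⟩)) (.node 1 (.one ⟨8600, 1, 3⟩) (.one ⟨1678, 3, 3⟩))) (.node 2 (.node 1 (.one ⟨11869, 5, 4⟩) (.one ⟨9733, 5, 5⟩)) (.node 1 (.one ⟨13832, 5, 4⟩) (.one ⟨11839, 6, 5⟩)))) (.node 4 (.node 2 (.node 1 (.one ⟨9312, 5, 5⟩) (.one ⟨12737, 6, 4⟩)) (.node 1 (.one ⟨15099, 6, 5⟩) (.one ⟨11660, 6, 4⟩))) (.node 2 (.node 1 (.one ⟨14907, 5, 3⟩) (.one ⟨8800, 5, 4⟩)) (.node 1 (.one ⟨3148, 3, 3⟩) (.one ⟨2756, 6, 3⟩)))))))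
def par3_4_10 : Arr Par :=
  (.node 32 (.node 16 (.node 8 (.node 4 (.node 2 (.node 1 (.one ⟨2994, 5, 1⟩) (.one ⟨10596, 4, 4⟩)) (.node 1 (.one ⟨2251, 5, 4⟩) (.one ⟨7487, 3, 4⟩))) (.node 2 (.node 1 (.one ⟨10549, 6, 4⟩) (.one ⟨14001, 1, 2⟩)) (.node 1 (.one ⟨2915, 5, 3⟩) (.one ⟨8103, 6, 5⟩)))) (.node 4 (.node 2 (.node 1 (.one ⟨1150, 5, 3⟩) (.one ⟨11307, 0, 4⟩)) (.node 1 (.one ⟨7131, 6, 4⟩) (.one ⟨4152, 5, 5⟩))) (.node 2 (.node 1 (.one ⟨5659, 4, 2⟩) (.one ⟨3200, 0, 4⟩)) (.node 1 (.one ⟨14915, 5, 2⟩) (.one ⟨11330, 6, 5⟩))))) (.node 8 (.node 4 (.node 2 (.node 1 (.one ⟨11462, 0, 4⟩) (.one ⟨4599, 4, 2⟩)) (.node 1 (.one ⟨934, 3, 5⟩) (.one ⟨11476, 0, 4⟩))) (.node 2 (.node 1 (.one ⟨11463, 0, 4⟩) (.one ⟨3389, 0, 4⟩)) (.node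 1 (.one ⟨9676, 3, 4⟩) (.one ⟨2044, 5, 4⟩)))) (.node 4 (.node 2 (.node 1 (.one ⟨3373, 6, 4⟩) (.one ⟨6617, 6, 5⟩)) (.node 1 (.one ⟨8449, 6, 4⟩) (.one ⟨11763, 5, 5⟩))) (.node 2 (.node 1 (.one ⟨10387, 6, 3⟩) (.one ⟨13970, 6, 4⟩)) (.node 1 (.one ⟨4538, 3, 5⟩) (.one ⟨8526, 6, 3⟩)))))) (.node 16 (.node 8 (.node 4 (.node 2 (.node 1 (.one ⟨12637, 5, 5⟩) (.one ⟨12096, 5, 4⟩)) (.node 1 (.one ⟨7506, 6, 3⟩) (.one ⟨3928, 6, 3⟩))) (.node 2 (.node 1 (.one ⟨2263, 5, 3⟩) (.one ⟨2862, 5, 4⟩)) (.node 1 (.one ⟨7381, 0, 4⟩) (.one ⟨2759, 6, 5⟩)))) (.node 4 (.node 2 (.node 1 (.one ⟨15932, 6, 4⟩) (.one ⟨4509, 6, 4⟩)) (.node 1 (.one ⟨758, 4, 4⟩) (.one ⟨7576, 5, 5⟩))) (.node 2 (.node 1 (.one ⟨4772, 4, 4⟩) (.one ⟨5402, 6, 4⟩)) (.node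 1 (.one ⟨1490, 5, 5⟩) (.one ⟨6273, 5, 4⟩))))) (.node 8 (.node 4 (.node 2 (.node 1 (.one ⟨13415, 2, 2⟩) (.one ⟨16299, 6, 2⟩)) (.node 1 (.one ⟨14352, 5, 4⟩) (.one ⟨6254, 3, 4⟩))) (.node 2 (.node 1 (.one ⟨5350, 5, 4⟩) (.one ⟨4887, 6, 5⟩)) (.node 1 (.one ⟨6259, 5, 4⟩) (.one ⟨14119, 6, 3⟩)))) (.node 4 (.node 2 (.node 1 (.one ⟨7392, 5, 4⟩) (.one ⟨9392, 5, 5⟩)) (.node 1 (.one ⟨14967, 0, 4⟩) (.one ⟨2769, 5, 3⟩))) (.node 2 (.node 1 (.one ⟨2253, 5, 4⟩) (.one ⟨16465, 6, 5⟩)) (.node 1 (.one ⟨14353, 5, 4⟩) (.one ⟨16582, 1, 2⟩)))))))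
def par3_4_11 : Arr Par :=
  (.node 32 (.node 16 (.node 8 (.node 4 (.node 2 (.node 1 (.one ⟨6684, 6, 4⟩) (.one ⟨3512, 3, 4⟩)) (.node 1 (.one ⟨15773, 6, 5⟩) (.one ⟨14267, 6, 4⟩))) (.node 2 (.node 1 (.one ⟨14447, 6, 4⟩) (.one ⟨3954, 5, 3⟩)) (.node 1 (.one ⟨12074, 5, 4⟩) (.one ⟨6938, 5, 5⟩)))) (.node 4 (.node 2 (.node 1 (.one ⟨5480, 3, 1⟩) (.one ⟨4950, 5, 5⟩)) (.node 1 (.one ⟨12244, 5, 5⟩) (.one ⟨16881, 5, 4⟩))) (.node 2 (.node 1 (.one ⟨7625, 5, 3⟩) (.one ⟨12847, 4, 2⟩)) (.node 1 (.one ⟨946, 5, 4⟩) (.one ⟨11615, 6, 5⟩))))) (.node 8 (.node 4 (.node 2 (.node 1 (.one ⟨10172, 6, 3⟩) (.one ⟨2612, 6, 5⟩)) (.node 1 (.one ⟨6339, 5, 4⟩) (.one ⟨1449, 5, 1⟩))) (.node 2 (.node 1 (.one ⟨5645, 4, 2⟩) (.one ⟨14351, 5, 4⟩)) (.node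 1 (.one ⟨16576, 6, 3⟩) (.one ⟨9242, 6, 2⟩)))) (.node 4 (.node 2 (.node 1 (.one ⟨8841, 6, 3⟩) (.one ⟨9448, 5, 3⟩)) (.node 1 (.one ⟨8765, 6, 4⟩) (.one ⟨4821, 5, 5⟩))) (.node 2 (.node 1 (.one ⟨14057, 4, 3⟩) (.one ⟨13146, 5, 4⟩)) (.node 1 (.one ⟨14354, 5, 4⟩) (.one ⟨6392, 5, 4⟩)))))) (.node 16 (.node 8 (.node 4 (.node 2 (.node 1 (.one ⟨11335, 5, 4⟩) (.one ⟨14708, 5, 4⟩)) (.node 1 (.one ⟨10547, 3, 4⟩) (.one ⟨6662, 5, 2⟩))) (.node 2 (.node 1 (.one ⟨9284, 5, 1⟩) (.one ⟨14466, 5, 5⟩)) (.node 1 (.one ⟨16610, 1, 3⟩) (.one ⟨313, 1, 2⟩)))) (.node 4 (.node 2 (.node 1 (.one ⟨2540, 0, 3⟩) (.one ⟨9719, 6, 2⟩)) (.node 1 (.one ⟨6538, 4, 4⟩) (.one ⟨7680, 0, 3⟩))) (.node 2 (.node 1 (.one ⟨1619, 6, 2⟩) (.one ⟨1844, 3, 4⟩)) (.node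 1 (.one ⟨12703, 6, 2⟩) (.one ⟨4623, 3, 3⟩))))) (.node 8 (.node 4 (.node 2 (.node 1 (.one ⟨16188, 5, 4⟩) (.one ⟨14041, 5, 3⟩)) (.node 1 (.one ⟨7193, 0, 3⟩) (.one ⟨16910, 6, 3⟩))) (.node 2 (.node 1 (.one ⟨8680, 5, 5⟩) (.one ⟨7287, 5, 4⟩)) (.node 1 (.one ⟨3325, 5, 4⟩) (.one ⟨4665, 4, 2⟩)))) (.node 4 (.node 2 (.node 1 (.one ⟨9156, 1, 2⟩) (.one ⟨6241, 5, 5⟩)) (.node 1 (.one ⟨6243, 5, 4⟩) (.one ⟨100, 5, 5⟩))) (.node 2 (.node 1 (.one ⟨895, 5, 3⟩) (.one ⟨6239, 5, 3⟩)) (.node 1 (.one ⟨6245, 5, 3⟩) (.one ⟨853, 6, 5⟩)))))))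
def par3_4_12 : Arr Par :=
  (.node 32 (.node 16 (.node 8 (.node 4 (.node 2 (.node 1 (.one ⟨12153, 4, 3⟩) (.one ⟨14050, 4, 4⟩)) (.node 1 (.one ⟨12462, 6, 5⟩) (.one ⟨12026, 4, 4⟩))) (.node 2 (.node 1 (.one ⟨3841, 4, 4⟩) (.one ⟨4382, 6, 4⟩)) (.node 1 (.one ⟨8328, 6, 4⟩) (.one ⟨4434, 0, 2⟩)))) (.node 4 (.node 2 (.node 1 (.one ⟨6129, 6, 2⟩) (.one ⟨3677, 3, 3⟩)) (.node 1 (.one ⟨127, 4, 3⟩) (.one ⟨5002, 6, 3⟩))) (.node 2 (.node 1 (.one ⟨12781, 6, 2⟩) (.one ⟨4141, 6, 4⟩)) (.node 1 (.one ⟨9153, 1, 2⟩) (.one ⟨4604, 5, 4⟩))))) (.node 8 (.node 4 (.node 2 (.node 1 (.one ⟨5438, 0, 3⟩) (.one ⟨10586, 3, 4⟩)) (.node 1 (.one ⟨7755, 5, 5⟩) (.one ⟨7812, 5, 4⟩))) (.node 2 (.node 1 (.one ⟨17154, 6, 5⟩) (.one ⟨14877, 5, 3⟩)) (.node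 1 (.one ⟨14349, 0, 3⟩) (.one ⟨8442, 5, 4⟩)))) (.node 4 (.node 2 (.node 1 (.one ⟨15499, 4, 3⟩) (.one ⟨7100, 0, 4⟩)) (.node 1 (.one ⟨2263, 6, 3⟩) (.one ⟨10795, 6, 4⟩))) (.node 2 (.node 1 (.one ⟨12285, 6, 4⟩) (.one ⟨5414, 1, 3⟩)) (.node 1 (.one ⟨3685, 6, 4⟩) (.one ⟨13398, 1, 4⟩)))))) (.node 16 (.node 8 (.node 4 (.node 2 (.node 1 (.one ⟨8862, 1, 4⟩) (.one ⟨2405, 3, 3⟩)) (.node 1 (.one ⟨14874, 5, 4⟩) (.one ⟨9884, 5, 4⟩))) (.node 2 (.node 1 (.one ⟨14465, 5, 4⟩) (.one ⟨16853, 3, 4⟩)) (.node 1 (.one ⟨3221, 5, 5⟩) (.one ⟨3253, 5, 3⟩)))) (.node 4 (.node 2 (.node 1 (.one ⟨13829, 5, 4⟩) (.one ⟨11710, 3, 4⟩)) (.node 1 (.one ⟨16125, 5, 5⟩) (.one ⟨10916, 6, 4⟩))) (.node 2 (.node 1 (.one ⟨9118, 5, 4⟩) (.one ⟨15272, 0, 5⟩))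 (.node 1 (.one ⟨7669, 2, 2⟩) (.one ⟨2997, 6, 3⟩))))) (.node 8 (.node 4 (.node 2 (.node 1 (.one ⟨13879, 4, 4⟩) (.one ⟨12069, 0, 3⟩)) (.node 1 (.one ⟨9462, 5, 4⟩) (.one ⟨3468, 6, 4⟩))) (.node 2 (.node 1 (.one ⟨12434, 6, 3⟩) (.one ⟨10295, 5, 4⟩)) (.node 1 (.one ⟨5736, 0, 5⟩) (.one ⟨16420, 5, 2⟩)))) (.node 4 (.node 2 (.node 1 (.one ⟨6954, 4, 2⟩) (.one ⟨1546, 5, 4⟩)) (.node 1 (.one ⟨16308, 6, 3⟩) (.one ⟨7267, 6, 4⟩))) (.node 2 (.node 1 (.one ⟨5524, 5, 4⟩) (.one ⟨8095, 5, 4⟩)) (.node 1 (.one ⟨979, 6, 4⟩) (.one ⟨11242, 5, 3⟩)))))))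
def par3_4_13 : Arr Par :=
  (.node 32 (.node 16 (.node 8 (.node 4 (.node 2 (.node 1 (.one ⟨7969, 5, 4⟩) (.one ⟨15819, 6, 4⟩)) (.node 1 (.one ⟨2293, 4, 3⟩) (.one ⟨13619, 5, 3⟩))) (.node 2 (.node 1 (.one ⟨17188, 6, 4⟩) (.one ⟨16546, 4, 3⟩)) (.node 1 (.one ⟨16044, 6, 2⟩) (.one ⟨11233, 5, 4⟩)))) (.node 4 (.node 2 (.node 1 (.one ⟨3986, 5, 4⟩) (.one ⟨298, 6, 5⟩)) (.node 1 (.one ⟨11539, 4, 3⟩) (.one ⟨14514, 5, 3⟩))) (.node 2 (.node 1 (.one ⟨12810, 2, 3⟩) (.one ⟨12796, 5, 3⟩)) (.node 1 (.one ⟨1849, 6, 5⟩) (.one ⟨2770, 6, 3⟩))))) (.node 8 (.node 4 (.node 2 (.node 1 (.one ⟨1266, 5, 5⟩) (.one ⟨6586, 5, 5⟩)) (.node 1 (.one ⟨7015, 5, 5⟩) (.one ⟨7214, 6, 4⟩))) (.node 2 (.node 1 (.one ⟨4145, 6, 4⟩) (.one ⟨16306, 6, 4⟩))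 (.node 1 (.one ⟨11243, 6, 4⟩) (.one ⟨6283, 6, 4⟩)))) (.node 4 (.node 2 (.node 1 (.one ⟨9174, 6, 5⟩) (.one ⟨6757, 0, 4⟩)) (.node 1 (.one ⟨7588, 4, 4⟩) (.one ⟨12792, 3, 4⟩))) (.node 2 (.node 1 (.one ⟨10587, 6, 2⟩) (.one ⟨11283, 6, 4⟩)) (.node 1 (.one ⟨6653, 6, 4⟩) (.one ⟨1114, 5, 2⟩)))))) (.node 16 (.node 8 (.node 4 (.node 2 (.node 1 (.one ⟨1118, 5, 5⟩) (.one ⟨1113, 5, 2⟩)) (.node 1 (.one ⟨1117, 5, 4⟩) (.one ⟨645, 6, 5⟩))) (.node 2 (.node 1 (.one ⟨13064, 3, 5⟩) (.one ⟨82, 5, 4⟩)) (.node 1 (.one ⟨606, 5, 5⟩) (.one ⟨11005, 6, 3⟩)))) (.node 4 (.node 2 (.node 1 (.one ⟨8923, 5, 3⟩) (.one ⟨16420, 4, 2⟩)) (.node 1 (.one ⟨9276, 5, 4⟩) (.one ⟨1516, 4, 3⟩))) (.node 2 (.node 1 (.one ⟨11509, 5, 3⟩) (.one ⟨11759, 6, 3⟩))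 (.node 1 (.one ⟨6178, 6, 3⟩) (.one ⟨10617, 3, 4⟩))))) (.node 8 (.node 4 (.node 2 (.node 1 (.one ⟨9264, 5, 3⟩) (.one ⟨15891, 5, 3⟩)) (.node 1 (.one ⟨16282, 0, 5⟩) (.one ⟨1906, 4, 2⟩))) (.node 2 (.node 1 (.one ⟨11975, 6, 3⟩) (.one ⟨8822, 6, 4⟩)) (.node 1 (.one ⟨4075, 3, 3⟩) (.one ⟨1920, 6, 4⟩)))) (.node 4 (.node 2 (.node 1 (.one ⟨11497, 6, 4⟩) (.one ⟨15306, 6, 4⟩)) (.node 1 (.one ⟨7167, 5, 5⟩) (.one ⟨15304, 0, 3⟩))) (.node 2 (.node 1 (.one ⟨9572, 3, 4⟩) (.one ⟨6189, 5, 5⟩)) (.node 1 (.one ⟨12796, 3, 3⟩) (.one ⟨10466, 6, 3⟩)))))))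
def par3_4_14 : Arr Par :=
  (.node 32 (.node 16 (.node 8 (.node 4 (.node 2 (.node 1 (.one ⟨15886, 4, 3⟩) (.one ⟨5670, 4, 4⟩)) (.node 1 (.one ⟨3158, 4, 3⟩) (.one ⟨15630, 6, 4⟩))) (.node 2 (.node 1 (.one ⟨2403, 5, 5⟩) (.one ⟨16665, 6, 5⟩)) (.node 1 (.one ⟨12067, 3, 4⟩) (.one ⟨6769, 6, 2⟩)))) (.node 4 (.node 2 (.node 1 (.one ⟨6367, 5, 3⟩) (.one ⟨9975, 4, 3⟩)) (.node 1 (.one ⟨14880, 6, 2⟩) (.one ⟨9212, 5, 4⟩))) (.node 2 (.node 1 (.one ⟨6155, 5, 2⟩) (.one ⟨10112, 4, 2⟩)) (.node 1 (.one ⟨6720, 6, 2⟩) (.one ⟨7086, 5, 4⟩))))) (.node 8 (.node 4 (.node 2 (.node 1 (.one ⟨11819, 6, 4⟩) (.one ⟨9021, 3, 3⟩)) (.node 1 (.one ⟨2159, 5, 5⟩) (.one ⟨2184, 6, 3⟩))) (.node 2 (.node 1 (.one ⟨13817, 5, 5⟩) (.one ⟨12607, 4, 2⟩)) (.node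 1 (.one ⟨14234, 6, 4⟩) (.one ⟨14717, 6, 3⟩)))) (.node 4 (.node 2 (.node 1 (.one ⟨10231, 5, 4⟩) (.one ⟨362, 6, 4⟩)) (.node 1 (.one ⟨15355, 6, 4⟩) (.one ⟨2603, 6, 3⟩))) (.node 2 (.node 1 (.one ⟨14951, 6, 4⟩) (.one ⟨15591, 6, 4⟩)) (.node 1 (.one ⟨1925, 6, 4⟩) (.one ⟨1540, 5, 5⟩)))))) (.node 16 (.node 8 (.node 4 (.node 2 (.node 1 (.one ⟨6750, 5, 4⟩) (.one ⟨633, 6, 5⟩)) (.node 1 (.one ⟨6344, 5, 4⟩) (.one ⟨16573, 6, 3⟩))) (.node 2 (.node 1 (.one ⟨10862, 5, 5⟩) (.one ⟨1780, 4, 1⟩)) (.node 1 (.one ⟨10512, 5, 1⟩) (.one ⟨1774, 5, 2⟩)))) (.node 4 (.node 2 (.node 1 (.one ⟨3634, 5, 2⟩) (.one ⟨10986, 5, 5⟩)) (.node 1 (.one ⟨12860, 5, 2⟩) (.one ⟨10736, 5, 4⟩))) (.node 2 (.node 1 (.one ⟨12077, 5, 4⟩) (.one ⟨3187, 5, 3⟩)) (.node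 1 (.one ⟨5544, 5, 4⟩) (.one ⟨214, 5, 4⟩))))) (.node 8 (.node 4 (.node 2 (.node 1 (.one ⟨8451, 5, 3⟩) (.one ⟨6785, 5, 4⟩)) (.node 1 (.one ⟨3627, 5, 5⟩) (.one ⟨10023, 5, 2⟩))) (.node 2 (.node 1 (.one ⟨16633, 5, 4⟩) (.one ⟨15111, 5, 2⟩)) (.node 1 (.one ⟨7881, 6, 3⟩) (.one ⟨14124, 4, 2⟩)))) (.node 4 (.node 2 (.node 1 (.one ⟨9272, 4, 3⟩) (.one ⟨16894, 6, 4⟩)) (.node 1 (.one ⟨11456, 6, 4⟩) (.one ⟨1780, 0, 1⟩))) (.node 2 (.node 1 (.one ⟨3584, 6, 2⟩) (.one ⟨5474, 6, 4⟩)) (.node 1 (.one ⟨2143, 4, 3⟩) (.one ⟨8216, 6, 3⟩)))))))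
def par3_4_15 : Arr Par :=
  (.node 32 (.node 16 (.node 8 (.node 4 (.node 2 (.node 1 (.one ⟨2875, 1, 3⟩) (.one ⟨1197, 3, 3⟩)) (.node 1 (.one ⟨4231, 3, 3⟩) (.one ⟨4260, 5, 4⟩))) (.node 2 (.node 1 (.one ⟨2212, 3, 4⟩) (.one ⟨11420, 6, 4⟩)) (.node 1 (.one ⟨13201, 1, 4⟩) (.one ⟨535, 5, 3⟩)))) (.node 4 (.node 2 (.node 1 (.one ⟨9031, 4, 4⟩) (.one ⟨619, 4, 3⟩)) (.node 1 (.one ⟨4623, 6, 3⟩) (.one ⟨924, 5, 4⟩))) (.node 2 (.node 1 (.one ⟨12897, 6, 5⟩) (.one ⟨3954, 6, 3⟩)) (.node 1 (.one ⟨3819, 6, 4⟩) (.one ⟨10477, 0, 4⟩))))) (.node 8 (.node 4 (.node 2 (.node 1 (.one ⟨12311, 5, 4⟩) (.one ⟨3137, 6, 4⟩)) (.node 1 (.one ⟨439, 6, 5⟩) (.one ⟨14826, 5, 4⟩))) (.node 2 (.node 1 (.one ⟨14706, 5, 4⟩) (.one ⟨1081, 2, 2⟩)) (.node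 1 (.one ⟨9938, 3, 4⟩) (.one ⟨9596, 2, 2⟩)))) (.node 4 (.node 2 (.node 1 (.one ⟨14394, 5, 4⟩) (.one ⟨13264, 5, 5⟩)) (.node 1 (.one ⟨15884, 5, 5⟩) (.one ⟨3272, 5, 3⟩))) (.node 2 (.node 1 (.one ⟨1311, 6, 3⟩) (.one ⟨4828, 5, 4⟩)) (.node 1 (.one ⟨8192, 5, 5⟩) (.one ⟨7071, 5, 4⟩)))))) (.node 16 (.node 8 (.node 4 (.node 2 (.node 1 (.one ⟨8246, 5, 4⟩) (.one ⟨950, 4, 1⟩)) (.node 1 (.one ⟨10353, 0, 4⟩) (.one ⟨11116, 5, 4⟩))) (.node 2 (.node 1 (.one ⟨11462, 6, 4⟩) (.one ⟨5925, 5, 4⟩)) (.node 1 (.one ⟨8778, 5, 3⟩) (.one ⟨10961, 1, 4⟩)))) (.node 4 (.node 2 (.node 1 (.one ⟨4222, 5, 4⟩) (.one ⟨12680, 4, 2⟩)) (.node 1 (.one ⟨6821, 4, 3⟩) (.one ⟨4231, 5, 3⟩))) (.node 2 (.node 1 (.one ⟨8800, 6, 4⟩) (.one ⟨4154, 5, 3⟩)) (.node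 1 (.one ⟨15857, 6, 3⟩) (.one ⟨1473, 3, 2⟩))))) (.node 8 (.node 4 (.node 2 (.node 1 (.one ⟨14327, 4, 3⟩) (.one ⟨1592, 6, 3⟩)) (.node 1 (.one ⟨5583, 2, 3⟩) (.one ⟨13164, 1, 3⟩))) (.node 2 (.node 1 (.one ⟨2546, 4, 5⟩) (.one ⟨8450, 4, 3⟩)) (.node 1 (.one ⟨13222, 1, 3⟩) (.one ⟨6098, 4, 3⟩)))) (.node 4 (.node 2 (.node 1 (.one ⟨1886, 5, 4⟩) (.one ⟨11978, 6, 4⟩)) (.node 1 (.one ⟨8021, 6, 4⟩) (.one ⟨10228, 1, 4⟩))) (.node 2 (.node 1 (.one ⟨8896, 6, 3⟩) (.one ⟨10089, 6, 4⟩)) (.node 1 (.one ⟨6285, 6, 2⟩) (.one ⟨4153, 5, 4⟩)))))))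
def par3_4 : Arr Par :=
  (.node 512 (.node 256 (.node 128 (.node 64 par3_4_0 par3_4_1) (.node 64 par3_4_2 par3_4_3)) (.node 128 (.node 64 par3_4_4 par3_4_5) (.node 64 par3_4_6 par3_4_7))) (.node 256 (.node 128 (.node 64 par3_4_8 par3_4_9) (.node 64 par3_4_10 par3_4_11)) (.node 128 (.node 64 par3_4_12 par3_4_13) (.node 64 par3_4_14 par3_4_15))))
def par3_5_0 : Arr Par :=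
  (.node 32 (.node 16 (.node 8 (.node 4 (.node 2 (.node 1 (.one ⟨17140, 5, 3⟩) (.one ⟨16231, 6, 4⟩)) (.node 1 (.one ⟨6013, 0, 4⟩) (.one ⟨11133, 6, 5⟩))) (.node 2 (.node 1 (.one ⟨9040, 6, 4⟩) (.one ⟨7809, 6, 4⟩)) (.node 1 (.one ⟨5161, 0, 4⟩) (.one ⟨575, 1, 0⟩)))) (.node 4 (.node 2 (.node 1 (.one ⟨17148, 4, 2⟩) (.one ⟨3141, 6, 4⟩)) (.node 1 (.one ⟨15830, 5, 4⟩) (.one ⟨6463, 0, 4⟩))) (.node 2 (.node 1 (.one ⟨6061, 0, 4⟩) (.one ⟨8860, 5, 4⟩)) (.node 1 (.one ⟨13701, 0, 4⟩) (.one ⟨9572, 5, 4⟩))))) (.node 8 (.node 4 (.node 2 (.node 1 (.one ⟨14011, 0, 4⟩) (.one ⟨7498, 6, 5⟩)) (.node 1 (.one ⟨5118, 1, 3⟩) (.one ⟨6199, 6, 3⟩))) (.node 2 (.node 1 (.one ⟨15078, 6, 5⟩) (.one ⟨6293, 5, 4⟩)) (.node 1 (.one ⟨15984, 5, 4⟩)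 (.one ⟨4681, 5, 3⟩)))) (.node 4 (.node 2 (.node 1 (.one ⟨16403, 6, 3⟩) (.one ⟨11309, 5, 4⟩)) (.node 1 (.one ⟨15929, 5, 4⟩) (.one ⟨15395, 4, 4⟩))) (.node 2 (.node 1 (.one ⟨6266, 0, 4⟩) (.one ⟨8330, 6, 4⟩)) (.node 1 (.one ⟨2914, 4, 3⟩) (.one ⟨5631, 6, 5⟩)))))) (.node 16 (.node 8 (.node 4 (.node 2 (.node 1 (.one ⟨11866, 6, 4⟩) (.one ⟨12529, 5, 4⟩)) (.node 1 (.one ⟨16120, 4, 2⟩) (.one ⟨9705, 5, 5⟩))) (.node 2 (.node 1 (.one ⟨13210, 0, 3⟩) (.one ⟨9167, 3, 3⟩)) (.node 1 (.one ⟨9846, 5, 4⟩) (.one ⟨12373, 4, 3⟩)))) (.node 4 (.node 2 (.node 1 (.one ⟨791, 5, 4⟩) (.one ⟨15893, 6, 3⟩)) (.node 1 (.one ⟨2973, 4, 3⟩) (.one ⟨15837, 5, 4⟩))) (.node 2 (.node 1 (.one ⟨1905, 6, 2⟩) (.one ⟨9177, 2, 3⟩)) (.node 1 (.one ⟨15835, 5,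 3⟩) (.one ⟨4329, 6, 4⟩))))) (.node 8 (.node 4 (.node 2 (.node 1 (.one ⟨4325, 5, 5⟩) (.one ⟨3070, 5, 3⟩)) (.node 1 (.one ⟨1496, 5, 4⟩) (.one ⟨3729, 1, 1⟩))) (.node 2 (.node 1 (.one ⟨3737, 6, 3⟩) (.one ⟨11428, 3, 4⟩)) (.node 1 (.one ⟨4439, 5, 3⟩) (.one ⟨16366, 5, 5⟩)))) (.node 4 (.node 2 (.node 1 (.one ⟨10702, 6, 5⟩) (.one ⟨11283, 5, 4⟩)) (.node 1 (.one ⟨6370, 6, 3⟩) (.one ⟨5052, 3, 3⟩))) (.node 2 (.node 1 (.one ⟨4153, 3, 4⟩) (.one ⟨3214, 5, 4⟩)) (.node 1 (.one ⟨5487, 3, 3⟩) (.one ⟨14704, 1, 4⟩)))))))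
def par3_5_1 : Arr Par :=
  (.node 32 (.node 16 (.node 8 (.node 4 (.node 2 (.node 1 (.one ⟨11640, 4, 4⟩) (.one ⟨11342, 6, 4⟩)) (.node 1 (.one ⟨11105, 5, 2⟩) (.one ⟨11160, 1, 2⟩))) (.node 2 (.node 1 (.one ⟨3601, 6, 4⟩) (.one ⟨12414, 5, 5⟩)) (.node 1 (.one ⟨10639, 4, 2⟩) (.one ⟨653, 6, 3⟩)))) (.node 4 (.node 2 (.node 1 (.one ⟨15014, 3, 2⟩) (.one ⟨15000, 3, 2⟩)) (.node 1 (.one ⟨5901, 0, 4⟩) (.one ⟨3198, 0, 4⟩))) (.node 2 (.node 1 (.one ⟨11534, 5, 5⟩) (.one ⟨7399, 5, 3⟩)) (.node 1 (.one ⟨7382, 0, 4⟩) (.one ⟨9234, 5, 5⟩))))) (.node 8 (.node 4 (.node 2 (.node 1 (.one ⟨9233, 5, 2⟩) (.one ⟨9237, 5, 2⟩)) (.node 1 (.one ⟨9238, 5, 2⟩) (.one ⟨15266, 6, 5⟩))) (.node 2 (.node 1 (.one ⟨13839, 6, 5⟩) (.one ⟨966, 6, 5⟩)) (.node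 1 (.one ⟨16114, 3, 5⟩) (.one ⟨13414, 6, 5⟩)))) (.node 4 (.node 2 (.node 1 (.one ⟨14955, 5, 4⟩) (.one ⟨10893, 6, 4⟩)) (.node 1 (.one ⟨11499, 6, 4⟩) (.one ⟨17072, 0, 3⟩))) (.node 2 (.node 1 (.one ⟨2110, 5, 3⟩) (.one ⟨791, 6, 4⟩)) (.node 1 (.one ⟨2556, 6, 3⟩) (.one ⟨11155, 1, 2⟩)))))) (.node 16 (.node 8 (.node 4 (.node 2 (.node 1 (.one ⟨9748, 6, 5⟩) (.one ⟨16832, 5, 5⟩)) (.node 1 (.one ⟨2865, 6, 4⟩) (.one ⟨13879, 0, 4⟩))) (.node 2 (.node 1 (.one ⟨6309, 3, 3⟩) (.one ⟨12307, 4, 3⟩)) (.node 1 (.one ⟨5321, 5, 2⟩) (.one ⟨8042, 6, 4⟩)))) (.node 4 (.node 2 (.node 1 (.one ⟨1619, 5, 2⟩) (.one ⟨12846, 5, 2⟩)) (.node 1 (.one ⟨8867, 6, 4⟩) (.one ⟨6760, 5, 4⟩))) (.node 2 (.node 1 (.one ⟨3976, 5, 3⟩) (.one ⟨11281, 5, 4⟩)) (.node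 1 (.one ⟨15857, 5, 3⟩) (.one ⟨14744, 1, 4⟩))))) (.node 8 (.node 4 (.node 2 (.node 1 (.one ⟨13937, 5, 4⟩) (.one ⟨1193, 5, 4⟩)) (.node 1 (.one ⟨6311, 6, 2⟩) (.one ⟨8200, 6, 3⟩))) (.node 2 (.node 1 (.one ⟨7289, 5, 4⟩) (.one ⟨11352, 5, 4⟩)) (.node 1 (.one ⟨10358, 5, 4⟩) (.one ⟨10119, 4, 3⟩)))) (.node 4 (.node 2 (.node 1 (.one ⟨7468, 5, 4⟩) (.one ⟨1893, 4, 3⟩)) (.node 1 (.one ⟨7343, 0, 4⟩) (.one ⟨3577, 3, 4⟩))) (.node 2 (.node 1 (.one ⟨4990, 6, 4⟩) (.one ⟨8331, 6, 4⟩)) (.node 1 (.one ⟨7016, 4, 3⟩) (.one ⟨5094, 0, 4⟩)))))))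
def par3_5_2 : Arr Par :=
  (.node 32 (.node 16 (.node 8 (.node 4 (.node 2 (.node 1 (.one ⟨4871, 4, 3⟩) (.one ⟨11361, 5, 4⟩)) (.node 1 (.one ⟨5838, 0, 4⟩) (.one ⟨16011, 0, 4⟩))) (.node 2 (.node 1 (.one ⟨15316, 5, 5⟩) (.one ⟨15778, 4, 3⟩)) (.node 1 (.one ⟨7104, 4, 4⟩) (.one ⟨15775, 5, 3⟩)))) (.node 4 (.node 2 (.node 1 (.one ⟨13763, 5, 3⟩) (.one ⟨11598, 5, 4⟩)) (.node 1 (.one ⟨8235, 3, 2⟩) (.one ⟨5429, 4, 4⟩))) (.node 2 (.node 1 (.one ⟨8041, 6, 4⟩) (.one ⟨7406, 0, 3⟩)) (.node 1 (.one ⟨14313, 3, 3⟩) (.one ⟨16636, 5, 4⟩))))) (.node 8 (.node 4 (.node 2 (.node 1 (.one ⟨4328, 6, 4⟩) (.one ⟨2859, 5, 4⟩)) (.node 1 (.one ⟨16583, 5, 2⟩) (.one ⟨16171, 5, 2⟩))) (.node 2 (.node 1 (.one ⟨423, 5, 4⟩) (.one ⟨11438, 4, 4⟩))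 (.node 1 (.one ⟨16132, 5, 4⟩) (.one ⟨2693, 6, 3⟩)))) (.node 4 (.node 2 (.node 1 (.one ⟨9084, 3, 2⟩) (.one ⟨5565, 5, 2⟩)) (.node 1 (.one ⟨5690, 6, 5⟩) (.one ⟨1990, 6, 4⟩))) (.node 2 (.node 1 (.one ⟨9759, 6, 3⟩) (.one ⟨10523, 4, 4⟩)) (.node 1 (.one ⟨8961, 5, 3⟩) (.one ⟨9623, 5, 5⟩)))))) (.node 16 (.node 8 (.node 4 (.node 2 (.node 1 (.one ⟨7570, 0, 4⟩) (.one ⟨16627, 5, 4⟩)) (.node 1 (.one ⟨11092, 1, 4⟩) (.one ⟨13180, 3, 3⟩))) (.node 2 (.node 1 (.one ⟨11337, 6, 5⟩) (.one ⟨3904, 6, 5⟩)) (.node 1 (.one ⟨16003, 0, 4⟩) (.one ⟨2303, 6, 4⟩)))) (.node 4 (.node 2 (.node 1 (.one ⟨2653, 5, 4⟩) (.one ⟨3189, 0, 3⟩)) (.node 1 (.one ⟨5537, 0, 3⟩) (.one ⟨4012, 5, 3⟩))) (.node 2 (.node 1 (.one ⟨9678, 5, 3⟩) (.one ⟨11284, 5, 4⟩))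 (.node 1 (.one ⟨4732, 5, 4⟩) (.one ⟨7475, 0, 4⟩))))) (.node 8 (.node 4 (.node 2 (.node 1 (.one ⟨5840, 5, 3⟩) (.one ⟨3667, 0, 4⟩)) (.node 1 (.one ⟨549, 6, 4⟩) (.one ⟨10023, 0, 2⟩))) (.node 2 (.node 1 (.one ⟨6654, 4, 4⟩) (.one ⟨3129, 6, 4⟩)) (.node 1 (.one ⟨2114, 5, 3⟩) (.one ⟨14696, 5, 4⟩)))) (.node 4 (.node 2 (.node 1 (.one ⟨16812, 6, 3⟩) (.one ⟨9665, 5, 5⟩)) (.node 1 (.one ⟨5775, 5, 5⟩) (.one ⟨5842, 5, 5⟩))) (.node 2 (.node 1 (.one ⟨9479, 5, 4⟩) (.one ⟨2770, 5, 3⟩)) (.node 1 (.one ⟨6954, 2, 2⟩) (.one ⟨8760, 1, 4⟩)))))))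
def par3_5_3 : Arr Par :=
  (.node 32 (.node 16 (.node 8 (.node 4 (.node 2 (.node 1 (.one ⟨4822, 3, 4⟩) (.one ⟨6239, 6, 3⟩)) (.node 1 (.one ⟨9809, 5, 2⟩) (.one ⟨5213, 5, 5⟩))) (.node 2 (.node 1 (.one ⟨11698, 0, 4⟩) (.one ⟨16171, 1, 2⟩)) (.node 1 (.one ⟨14576, 5, 5⟩) (.one ⟨10399, 6, 5⟩)))) (.node 4 (.node 2 (.node 1 (.one ⟨16792, 4, 3⟩) (.one ⟨5127, 3, 1⟩)) (.node 1 (.one ⟨6309, 4, 3⟩) (.one ⟨13572, 4, 4⟩))) (.node 2 (.node 1 (.one ⟨9149, 5, 1⟩) (.one ⟨13217, 0, 3⟩)) (.node 1 (.one ⟨10524, 6, 3⟩) (.one ⟨15200, 6, 5⟩))))) (.node 8 (.node 4 (.node 2 (.node 1 (.one ⟨13408, 4, 1⟩) (.one ⟨2626, 6, 4⟩)) (.node 1 (.one ⟨8595, 5, 3⟩) (.one ⟨7961, 6, 4⟩))) (.node 2 (.node 1 (.one ⟨4517, 5, 3⟩) (.one ⟨16579, 5, 4⟩))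 (.node 1 (.one ⟨15532, 5, 3⟩) (.one ⟨15666, 5, 4⟩)))) (.node 4 (.node 2 (.node 1 (.one ⟨8747, 4, 3⟩) (.one ⟨1100, 6, 2⟩)) (.node 1 (.one ⟨3438, 6, 3⟩) (.one ⟨4696, 5, 4⟩))) (.node 2 (.node 1 (.one ⟨13806, 6, 4⟩) (.one ⟨14713, 5, 3⟩)) (.node 1 (.one ⟨11817, 5, 5⟩) (.one ⟨11850, 6, 4⟩)))))) (.node 16 (.node 8 (.node 4 (.node 2 (.node 1 (.one ⟨3293, 3, 4⟩) (.one ⟨8838, 3, 3⟩)) (.node 1 (.one ⟨13947, 6, 4⟩) (.one ⟨9878, 4, 3⟩))) (.node 2 (.node 1 (.one ⟨14128, 5, 4⟩) (.one ⟨10030, 3, 4⟩)) (.node 1 (.one ⟨8982, 4, 3⟩) (.one ⟨13738, 0, 4⟩)))) (.node 4 (.node 2 (.node 1 (.one ⟨396, 6, 3⟩) (.one ⟨16992, 5, 3⟩)) (.node 1 (.one ⟨12310, 2, 1⟩) (.one ⟨9285, 5, 5⟩))) (.node 2 (.node 1 (.one ⟨12101, 6, 4⟩) (.one ⟨12098,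 6, 5⟩)) (.node 1 (.one ⟨12100, 6, 4⟩) (.one ⟨6254, 4, 4⟩))))) (.node 8 (.node 4 (.node 2 (.node 1 (.one ⟨4251, 1, 0⟩) (.one ⟨7185, 3, 3⟩)) (.node 1 (.one ⟨13000, 6, 4⟩) (.one ⟨7133, 5, 4⟩))) (.node 2 (.node 1 (.one ⟨4626, 4, 2⟩) (.one ⟨14653, 6, 4⟩)) (.node 1 (.one ⟨15753, 4, 4⟩) (.one ⟨15376, 5, 3⟩)))) (.node 4 (.node 2 (.node 1 (.one ⟨5480, 1, 1⟩) (.one ⟨4323, 5, 3⟩)) (.node 1 (.one ⟨5097, 5, 3⟩) (.one ⟨14261, 6, 3⟩))) (.node 2 (.node 1 (.one ⟨5330, 4, 4⟩) (.one ⟨2951, 5, 3⟩)) (.node 1 (.one ⟨1533, 5, 4⟩) (.one ⟨1722, 6, 4⟩)))))))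
def par3_5_4 : Arr Par :=
  (.node 32 (.node 16 (.node 8 (.node 4 (.node 2 (.node 1 (.one ⟨3711, 5, 4⟩) (.one ⟨6924, 4, 3⟩)) (.node 1 (.one ⟨11000, 5, 3⟩) (.one ⟨6080, 0, 4⟩))) (.node 2 (.node 1 (.one ⟨13076, 3, 4⟩) (.one ⟨16119, 0, 3⟩)) (.node 1 (.one ⟨9972, 0, 2⟩) (.one ⟨8308, 5, 5⟩)))) (.node 4 (.node 2 (.node 1 (.one ⟨12437, 6, 3⟩) (.one ⟨8340, 5, 5⟩)) (.node 1 (.one ⟨11183, 5, 5⟩) (.one ⟨11191, 5, 3⟩))) (.node 2 (.node 1 (.one ⟨7542, 4, 4⟩) (.one ⟨11982, 6, 5⟩)) (.node 1 (.one ⟨8315, 5, 5⟩) (.one ⟨8497, 6, 2⟩))))) (.node 8 (.node 4 (.node 2 (.node 1 (.one ⟨5960, 5, 2⟩) (.one ⟨6152, 5, 4⟩)) (.node 1 (.one ⟨12177, 5, 3⟩) (.one ⟨8609, 6, 2⟩))) (.node 2 (.node 1 (.one ⟨3600, 4, 3⟩) (.one ⟨5583, 5, 3⟩)) (.node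 1 (.one ⟨16623, 6, 4⟩) (.one ⟨702, 4, 3⟩)))) (.node 4 (.node 2 (.node 1 (.one ⟨3703, 5, 4⟩) (.one ⟨809, 4, 5⟩)) (.node 1 (.one ⟨13209, 6, 3⟩) (.one ⟨8489, 5, 4⟩))) (.node 2 (.node 1 (.one ⟨6949, 5, 3⟩) (.one ⟨15585, 6, 5⟩)) (.node 1 (.one ⟨13200, 0, 3⟩) (.one ⟨5475, 0, 2⟩)))))) (.node 16 (.node 8 (.node 4 (.node 2 (.node 1 (.one ⟨16855, 1, 4⟩) (.one ⟨3, 6, 2⟩)) (.node 1 (.one ⟨16582, 5, 2⟩) (.one ⟨12626, 4, 3⟩))) (.node 2 (.node 1 (.one ⟨8528, 5, 5⟩) (.one ⟨8056, 0, 3⟩)) (.node 1 (.one ⟨10753, 6, 2⟩) (.one ⟨14014, 5, 3⟩)))) (.node 4 (.node 2 (.node 1 (.one ⟨5659, 3, 2⟩) (.one ⟨11155, 3, 2⟩)) (.node 1 (.one ⟨3589, 0, 4⟩) (.one ⟨10677, 4, 3⟩))) (.node 2 (.node 1 (.one ⟨6093, 6, 3⟩) (.one ⟨14130, 6, 3⟩)) (.node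 1 (.one ⟨1093, 5, 4⟩) (.one ⟨12729, 6, 5⟩))))) (.node 8 (.node 4 (.node 2 (.node 1 (.one ⟨5304, 1, 4⟩) (.one ⟨11131, 4, 2⟩)) (.node 1 (.one ⟨6330, 5, 4⟩) (.one ⟨12108, 5, 4⟩))) (.node 2 (.node 1 (.one ⟨16964, 3, 4⟩) (.one ⟨1893, 6, 3⟩)) (.node 1 (.one ⟨8025, 5, 4⟩) (.one ⟨12626, 0, 3⟩)))) (.node 4 (.node 2 (.node 1 (.one ⟨6080, 3, 4⟩) (.one ⟨14361, 0, 4⟩)) (.node 1 (.one ⟨3057, 5, 3⟩) (.one ⟨4862, 5, 4⟩))) (.node 2 (.node 1 (.one ⟨1244, 2, 2⟩) (.one ⟨7326, 6, 4⟩)) (.node 1 (.one ⟨1278, 5, 2⟩) (.one ⟨12443, 3, 3⟩)))))))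
def par3_5_5 : Arr Par :=
  (.node 32 (.node 16 (.node 8 (.node 4 (.node 2 (.node 1 (.one ⟨3620, 6, 5⟩) (.one ⟨12385, 5, 4⟩)) (.node 1 (.one ⟨4274, 5, 5⟩) (.one ⟨13533, 6, 5⟩))) (.node 2 (.node 1 (.one ⟨9354, 4, 3⟩) (.one ⟨12450, 5, 4⟩)) (.node 1 (.one ⟨4338, 5, 4⟩) (.one ⟨16009, 6, 4⟩)))) (.node 4 (.node 2 (.node 1 (.one ⟨16011, 6, 4⟩) (.one ⟨5030, 5, 2⟩)) (.node 1 (.one ⟨2837, 5, 5⟩) (.one ⟨9206, 4, 3⟩))) (.node 2 (.node 1 (.one ⟨8511, 5, 3⟩) (.one ⟨780, 6, 3⟩)) (.node 1 (.one ⟨12974, 0, 3⟩) (.one ⟨14920, 4, 3⟩))))) (.node 8 (.node 4 (.node 2 (.node 1 (.one ⟨3106, 5, 3⟩) (.one ⟨5273, 5, 3⟩)) (.node 1 (.one ⟨10954, 5, 4⟩) (.one ⟨17007, 2, 2⟩))) (.node 2 (.node 1 (.one ⟨2026, 6, 3⟩) (.one ⟨14780, 6, 3⟩)) (.node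 1 (.one ⟨4012, 6, 3⟩) (.one ⟨14276, 3, 2⟩)))) (.node 4 (.node 2 (.node 1 (.one ⟨6935, 6, 5⟩) (.one ⟨8819, 5, 5⟩)) (.node 1 (.one ⟨2848, 6, 5⟩) (.one ⟨11794, 6, 4⟩))) (.node 2 (.node 1 (.one ⟨12489, 5, 2⟩) (.one ⟨15030, 5, 3⟩)) (.node 1 (.one ⟨3417, 5, 4⟩) (.one ⟨5127, 6, 1⟩)))))) (.node 16 (.node 8 (.node 4 (.node 2 (.node 1 (.one ⟨6030, 0, 4⟩) (.one ⟨1243, 2, 2⟩)) (.node 1 (.one ⟨11429, 3, 3⟩) (.one ⟨12130, 6, 1⟩))) (.node 2 (.node 1 (.one ⟨5314, 5, 3⟩) (.one ⟨15930, 5, 2⟩)) (.node 1 (.one ⟨17152, 3, 3⟩) (.one ⟨17052, 6, 4⟩)))) (.node 4 (.node 2 (.node 1 (.one ⟨229, 1, 0⟩) (.one ⟨16964, 1, 4⟩)) (.node 1 (.one ⟨4330, 5, 4⟩) (.one ⟨9353, 4, 3⟩))) (.node 2 (.node 1 (.one ⟨3034, 4, 3⟩) (.one ⟨3439, 3, 3⟩)) (.node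 1 (.one ⟨10522, 5, 5⟩) (.one ⟨7701, 2, 2⟩))))) (.node 8 (.node 4 (.node 2 (.node 1 (.one ⟨17166, 5, 3⟩) (.one ⟨4298, 6, 4⟩)) (.node 1 (.one ⟨2363, 0, 3⟩) (.one ⟨13599, 0, 3⟩))) (.node 2 (.node 1 (.one ⟨15396, 5, 4⟩) (.one ⟨2100, 5, 5⟩)) (.node 1 (.one ⟨1334, 4, 3⟩) (.one ⟨13413, 3, 1⟩)))) (.node 4 (.node 2 (.node 1 (.one ⟨840, 5, 3⟩) (.one ⟨5552, 6, 3⟩)) (.node 1 (.one ⟨1354, 2, 2⟩) (.one ⟨9294, 5, 1⟩))) (.node 2 (.node 1 (.one ⟨5051, 4, 2⟩) (.one ⟨3555, 4, 3⟩)) (.node 1 (.one ⟨8989, 4, 3⟩) (.one ⟨397, 6, 3⟩)))))))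
def par3_5_6 : Arr Par :=
  (.node 32 (.node 16 (.node 8 (.node 4 (.node 2 (.node 1 (.one ⟨13610, 0, 3⟩) (.one ⟨14119, 5, 3⟩)) (.node 1 (.one ⟨975, 6, 3⟩) (.one ⟨1441, 5, 1⟩))) (.node 2 (.node 1 (.one ⟨3383, 6, 4⟩) (.one ⟨3387, 6, 4⟩)) (.node 1 (.one ⟨3385, 6, 5⟩) (.one ⟨5171, 2, 2⟩)))) (.node 4 (.node 2 (.node 1 (.one ⟨15470, 4, 3⟩) (.one ⟨16019, 4, 2⟩)) (.node 1 (.one ⟨10113, 5, 4⟩) (.one ⟨1053, 6, 4⟩))) (.node 2 (.node 1 (.one ⟨15182, 4, 4⟩) (.one ⟨535, 6, 3⟩)) (.node 1 (.one ⟨1906, 5, 2⟩) (.one ⟨13823, 5, 3⟩))))) (.node 8 (.node 4 (.node 2 (.node 1 (.one ⟨1327, 4, 4⟩) (.one ⟨4131, 3, 4⟩)) (.node 1 (.one ⟨16094, 6, 5⟩) (.one ⟨12899, 6, 5⟩))) (.node 2 (.node 1 (.one ⟨13372, 4, 3⟩) (.one ⟨10071, 6, 4⟩)) (.node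 1 (.one ⟨5554, 5, 3⟩) (.one ⟨17035, 1, 3⟩)))) (.node 4 (.node 2 (.node 1 (.one ⟨12817, 0, 3⟩) (.one ⟨4394, 3, 4⟩)) (.node 1 (.one ⟨5031, 0, 3⟩) (.one ⟨242, 5, 3⟩))) (.node 2 (.node 1 (.one ⟨16101, 6, 4⟩) (.one ⟨4610, 5, 3⟩)) (.node 1 (.one ⟨1342, 3, 3⟩) (.one ⟨9937, 0, 4⟩)))))) (.node 16 (.node 8 (.node 4 (.node 2 (.node 1 (.one ⟨8966, 4, 2⟩) (.one ⟨1233, 5, 2⟩)) (.node 1 (.one ⟨14138, 3, 4⟩) (.one ⟨3652, 6, 4⟩))) (.node 2 (.node 1 (.one ⟨9898, 4, 2⟩) (.one ⟨15930, 3, 2⟩)) (.node 1 (.one ⟨1352, 2, 2⟩) (.one ⟨7884, 6, 4⟩)))) (.node 4 (.node 2 (.node 1 (.one ⟨13196, 5, 3⟩) (.one ⟨11548, 5, 4⟩)) (.node 1 (.one ⟨3108, 5, 4⟩) (.one ⟨1871, 0, 4⟩))) (.node 2 (.node 1 (.one ⟨2169, 6, 4⟩) (.one ⟨12570, 5, 4⟩)) (.node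 1 (.one ⟨3855, 5, 4⟩) (.one ⟨1776, 0, 1⟩))))) (.node 8 (.node 4 (.node 2 (.node 1 (.one ⟨1712, 2, 2⟩) (.one ⟨11980, 4, 1⟩)) (.node 1 (.one ⟨1906, 1, 2⟩) (.one ⟨3557, 5, 4⟩))) (.node 2 (.node 1 (.one ⟨9689, 4, 3⟩) (.one ⟨12929, 4, 3⟩)) (.node 1 (.one ⟨9836, 6, 3⟩) (.one ⟨9972, 1, 2⟩)))) (.node 4 (.node 2 (.node 1 (.one ⟨2578, 6, 4⟩) (.one ⟨1809, 5, 4⟩)) (.node 1 (.one ⟨5351, 6, 5⟩) (.one ⟨1981, 5, 5⟩))) (.node 2 (.node 1 (.one ⟨5537, 4, 3⟩) (.one ⟨10512, 1, 1⟩)) (.node 1 (.one ⟨11090, 5, 4⟩) (.one ⟨1911, 1, 4⟩)))))))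
def par3_5_7 : Arr Par :=
  (.node 32 (.node 16 (.node 8 (.node 4 (.node 2 (.node 1 (.one ⟨16280, 5, 3⟩) (.one ⟨5021, 6, 5⟩)) (.node 1 (.one ⟨6804, 1, 4⟩) (.one ⟨3325, 6, 4⟩))) (.node 2 (.node 1 (.one ⟨5015, 3, 4⟩) (.one ⟨5963, 5, 5⟩)) (.node 1 (.one ⟨16192, 6, 3⟩) (.one ⟨16503, 4, 4⟩)))) (.node 4 (.node 2 (.node 1 (.one ⟨6846, 0, 4⟩) (.one ⟨9834, 6, 5⟩)) (.node 1 (.one ⟨9778, 6, 5⟩) (.one ⟨5360, 5, 1⟩))) (.node 2 (.node 1 (.one ⟨1541, 6, 4⟩) (.one ⟨5826, 4, 4⟩)) (.node 1 (.one ⟨1720, 6, 5⟩) (.one ⟨1940, 1, 2⟩))))) (.node 8 (.node 4 (.node 2 (.node 1 (.one ⟨6256, 3, 3⟩) (.one ⟨148, 3, 2⟩)) (.node 1 (.one ⟨1799, 0, 1⟩) (.one ⟨455, 5, 5⟩))) (.node 2 (.node 1 (.one ⟨16229, 5, 5⟩) (.one ⟨16775, 4, 3⟩)) (.node 1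 (.one ⟨16879, 4, 3⟩) (.one ⟨16153, 6, 5⟩)))) (.node 4 (.node 2 (.node 1 (.one ⟨3704, 6, 5⟩) (.one ⟨9087, 6, 4⟩)) (.node 1 (.one ⟨13602, 6, 2⟩) (.one ⟨5015, 6, 4⟩))) (.node 2 (.node 1 (.one ⟨10298, 5, 3⟩) (.one ⟨12544, 6, 3⟩)) (.node 1 (.one ⟨8351, 6, 3⟩) (.one ⟨4428, 6, 5⟩)))))) (.node 16 (.node 8 (.node 4 (.node 2 (.node 1 (.one ⟨7676, 5, 4⟩) (.one ⟨11556, 6, 5⟩)) (.node 1 (.one ⟨16986, 6, 5⟩) (.one ⟨12062, 4, 3⟩))) (.node 2 (.node 1 (.one ⟨13548, 5, 4⟩) (.one ⟨7159, 5, 4⟩)) (.node 1 (.one ⟨4968, 5, 4⟩) (.one ⟨736, 5, 4⟩)))) (.node 4 (.node 2 (.node 1 (.one ⟨5511, 6, 3⟩) (.one ⟨3618, 5, 4⟩)) (.node 1 (.one ⟨15155, 5, 5⟩) (.one ⟨17030, 5, 4⟩))) (.node 2 (.node 1 (.one ⟨1336, 5, 5⟩) (.one ⟨15215, 5, 4⟩)) (.node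 1 (.one ⟨4204, 0, 3⟩) (.one ⟨2603, 4, 3⟩))))) (.node 8 (.node 4 (.node 2 (.node 1 (.one ⟨130, 6, 5⟩) (.one ⟨17198, 5, 4⟩)) (.node 1 (.one ⟨4559, 3, 4⟩) (.one ⟨5551, 3, 2⟩))) (.node 2 (.node 1 (.one ⟨16365, 4, 3⟩) (.one ⟨1979, 6, 3⟩)) (.node 1 (.one ⟨8748, 3, 4⟩) (.one ⟨4773, 5, 5⟩)))) (.node 4 (.node 2 (.node 1 (.one ⟨6300, 3, 5⟩) (.one ⟨382, 4, 3⟩)) (.node 1 (.one ⟨12810, 5, 3⟩) (.one ⟨4592, 5, 4⟩))) (.node 2 (.node 1 (.one ⟨9767, 5, 4⟩) (.one ⟨1603, 5, 4⟩)) (.node 1 (.one ⟨4653, 6, 4⟩) (.one ⟨8118, 6, 4⟩)))))))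
def par3_5_8 : Arr Par :=
  (.node 32 (.node 16 (.node 8 (.node 4 (.node 2 (.node 1 (.one ⟨12680, 3, 2⟩) (.one ⟨7701, 5, 2⟩)) (.node 1 (.one ⟨15252, 5, 4⟩) (.one ⟨15716, 5, 5⟩))) (.node 2 (.node 1 (.one ⟨4351, 4, 4⟩) (.one ⟨6285, 3, 2⟩)) (.node 1 (.one ⟨1528, 5, 4⟩) (.one ⟨9032, 5, 4⟩)))) (.node 4 (.node 2 (.node 1 (.one ⟨12612, 4, 2⟩) (.one ⟨16224, 5, 3⟩)) (.node 1 (.one ⟨7402, 6, 3⟩) (.one ⟨16482, 3, 2⟩))) (.node 2 (.node 1 (.one ⟨15889, 6, 4⟩) (.one ⟨3099, 6, 1⟩)) (.node 1 (.one ⟨16508, 5, 3⟩) (.one ⟨8488, 1, 3⟩))))) (.node 8 (.node 4 (.node 2 (.node 1 (.one ⟨1290, 6, 1⟩) (.one ⟨5787, 2, 3⟩)) (.node 1 (.one ⟨8719, 4, 2⟩) (.one ⟨12231, 4, 5⟩))) (.node 2 (.node 1 (.one ⟨15051, 3, 4⟩) (.one ⟨8462, 6, 5⟩)) (.node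 1 (.one ⟨9016, 6, 3⟩) (.one ⟨15319, 5, 4⟩)))) (.node 4 (.node 2 (.node 1 (.one ⟨15139, 6, 3⟩) (.one ⟨13814, 6, 3⟩)) (.node 1 (.one ⟨16043, 5, 4⟩) (.one ⟨9149, 6, 1⟩))) (.node 2 (.node 1 (.one ⟨234, 6, 3⟩) (.one ⟨9781, 0, 3⟩)) (.node 1 (.one ⟨11021, 6, 3⟩) (.one ⟨10337, 6, 4⟩)))))) (.node 16 (.node 8 (.node 4 (.node 2 (.node 1 (.one ⟨1605, 4, 3⟩) (.one ⟨14584, 5, 3⟩)) (.node 1 (.one ⟨1589, 5, 4⟩) (.one ⟨5225, 6, 3⟩))) (.node 2 (.node 1 (.one ⟨6813, 6, 3⟩) (.one ⟨14974, 6, 3⟩)) (.node 1 (.one ⟨13379, 6, 3⟩) (.one ⟨1747, 0, 3⟩)))) (.node 4 (.node 2 (.node 1 (.one ⟨16865, 5, 4⟩) (.one ⟨8434, 5, 4⟩)) (.node 1 (.one ⟨5165, 5, 4⟩) (.one ⟨14318, 5, 4⟩))) (.node 2 (.node 1 (.one ⟨8117, 6, 4⟩) (.one ⟨2343, 5, 4⟩)) (.node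 1 (.one ⟨5620, 5, 4⟩) (.one ⟨5551, 1, 2⟩))))) (.node 8 (.node 4 (.node 2 (.node 1 (.one ⟨1210, 6, 4⟩) (.one ⟨15563, 4, 2⟩)) (.node 1 (.one ⟨2927, 0, 1⟩) (.one ⟨6004, 3, 5⟩))) (.node 2 (.node 1 (.one ⟨9149, 2, 1⟩) (.one ⟨15597, 3, 3⟩)) (.node 1 (.one ⟨7203, 4, 3⟩) (.one ⟨5278, 6, 4⟩)))) (.node 4 (.node 2 (.node 1 (.one ⟨13803, 5, 4⟩) (.one ⟨2395, 6, 4⟩)) (.node 1 (.one ⟨13862, 5, 4⟩) (.one ⟨14977, 4, 3⟩))) (.node 2 (.node 1 (.one ⟨13236, 6, 5⟩) (.one ⟨857, 5, 4⟩)) (.node 1 (.one ⟨11711, 4, 3⟩) (.one ⟨1707, 0, 3⟩)))))))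
def par3_5_9 : Arr Par :=
  (.node 32 (.node 16 (.node 8 (.node 4 (.node 2 (.node 1 (.one ⟨5551, 4, 2⟩) (.one ⟨11212, 6, 3⟩)) (.node 1 (.one ⟨8027, 3, 3⟩) (.one ⟨1265, 4, 5⟩))) (.node 2 (.node 1 (.one ⟨5741, 0, 3⟩) (.one ⟨15729, 3, 3⟩)) (.node 1 (.one ⟨12930, 0, 5⟩) (.one ⟨2878, 1, 3⟩)))) (.node 4 (.node 2 (.node 1 (.one ⟨9439, 3, 3⟩) (.one ⟨10190, 5, 2⟩)) (.node 1 (.one ⟨2461, 5, 4⟩) (.one ⟨7789, 6, 3⟩))) (.node 2 (.node 1 (.one ⟨9640, 5, 4⟩) (.one ⟨13200, 1, 3⟩)) (.node 1 (.one ⟨1309, 5, 4⟩) (.one ⟨7764, 6, 4⟩))))) (.node 8 (.node 4 (.node 2 (.node 1 (.one ⟨2265, 1, 3⟩) (.one ⟨7765, 6, 4⟩)) (.node 1 (.one ⟨12884, 4, 3⟩) (.one ⟨658, 6, 4⟩))) (.node 2 (.node 1 (.one ⟨2873, 5, 4⟩) (.one ⟨915, 6, 4⟩)) (.node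 1 (.one ⟨9138, 4, 1⟩) (.one ⟨2186, 3, 1⟩)))) (.node 4 (.node 2 (.node 1 (.one ⟨1322, 3, 2⟩) (.one ⟨6890, 6, 3⟩)) (.node 1 (.one ⟨9886, 2, 1⟩) (.one ⟨10691, 3, 3⟩))) (.node 2 (.node 1 (.one ⟨11798, 5, 3⟩) (.one ⟨14804, 6, 5⟩)) (.node 1 (.one ⟨2291, 6, 4⟩) (.one ⟨13386, 6, 4⟩)))))) (.node 16 (.node 8 (.node 4 (.node 2 (.node 1 (.one ⟨9791, 5, 2⟩) (.one ⟨10845, 6, 3⟩)) (.node 1 (.one ⟨1536, 5, 4⟩) (.one ⟨6351, 6, 3⟩))) (.node 2 (.node 1 (.one ⟨11431, 5, 5⟩) (.one ⟨13752, 5, 4⟩)) (.node 1 (.one ⟨3135, 5, 4⟩) (.one ⟨1267, 4, 2⟩)))) (.node 4 (.node 2 (.node 1 (.one ⟨4624, 6, 4⟩) (.one ⟨10021, 2, 2⟩)) (.node 1 (.one ⟨9240, 6, 3⟩) (.one ⟨14281, 6, 4⟩))) (.node 2 (.node 1 (.one ⟨14665, 5, 5⟩) (.one ⟨8842, 6, 2⟩)) (.node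 1 (.one ⟨5395, 5, 3⟩) (.one ⟨1562, 6, 2⟩))))) (.node 8 (.node 4 (.node 2 (.node 1 (.one ⟨7923, 5, 3⟩) (.one ⟨7943, 5, 3⟩)) (.node 1 (.one ⟨8123, 6, 3⟩) (.one ⟨8231, 6, 3⟩))) (.node 2 (.node 1 (.one ⟨9150, 2, 1⟩) (.one ⟨7381, 6, 4⟩)) (.node 1 (.one ⟨10471, 4, 4⟩) (.one ⟨15138, 5, 3⟩)))) (.node 4 (.node 2 (.node 1 (.one ⟨1577, 3, 5⟩) (.one ⟨5634, 5, 5⟩)) (.node 1 (.one ⟨13728, 6, 4⟩) (.one ⟨10076, 4, 3⟩))) (.node 2 (.node 1 (.one ⟨11122, 5, 4⟩) (.one ⟨1085, 5, 4⟩)) (.node 1 (.one ⟨9139, 4, 4⟩) (.one ⟨1270, 4, 5⟩)))))))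
def par3_5_10 : Arr Par :=
  (.node 32 (.node 16 (.node 8 (.node 4 (.node 2 (.node 1 (.one ⟨13831, 3, 2⟩) (.one ⟨15342, 5, 5⟩)) (.node 1 (.one ⟨13180, 1, 3⟩) (.one ⟨13651, 4, 3⟩))) (.node 2 (.node 1 (.one ⟨16670, 5, 5⟩) (.one ⟨11822, 6, 4⟩)) (.node 1 (.one ⟨8383, 0, 4⟩) (.one ⟨14996, 5, 4⟩)))) (.node 4 (.node 2 (.node 1 (.one ⟨7459, 5, 5⟩) (.one ⟨8129, 5, 3⟩)) (.node 1 (.one ⟨4253, 6, 5⟩) (.one ⟨13508, 5, 2⟩))) (.node 2 (.node 1 (.one ⟨4724, 5, 5⟩) (.one ⟨3945, 6, 4⟩)) (.node 1 (.one ⟨5728, 0, 3⟩) (.one ⟨12065, 6, 4⟩))))) (.node 8 (.node 4 (.node 2 (.node 1 (.one ⟨5597, 1, 4⟩) (.one ⟨4961, 6, 3⟩)) (.node 1 (.one ⟨16193, 6, 3⟩) (.one ⟨16284, 6, 3⟩))) (.node 2 (.node 1 (.one ⟨3293, 1, 4⟩) (.one ⟨8670, 6, 4⟩))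 (.node 1 (.one ⟨11966, 6, 3⟩) (.one ⟨6367, 3, 3⟩)))) (.node 4 (.node 2 (.node 1 (.one ⟨2960, 0, 1⟩) (.one ⟨1605, 0, 3⟩)) (.node 1 (.one ⟨1319, 3, 2⟩) (.one ⟨5586, 1, 2⟩))) (.node 2 (.node 1 (.one ⟨2331, 6, 4⟩) (.one ⟨12189, 5, 5⟩)) (.node 1 (.one ⟨15101, 5, 4⟩) (.one ⟨16966, 4, 4⟩)))))) (.node 16 (.node 8 (.node 4 (.node 2 (.node 1 (.one ⟨15701, 4, 3⟩) (.one ⟨1278, 2, 2⟩)) (.node 1 (.one ⟨16705, 5, 5⟩) (.one ⟨1315, 6, 3⟩))) (.node 2 (.node 1 (.one ⟨10500, 5, 3⟩) (.one ⟨3961, 6, 4⟩)) (.node 1 (.one ⟨3947, 6, 4⟩) (.one ⟨10809, 5, 5⟩)))) (.node 4 (.node 2 (.node 1 (.one ⟨2067, 1, 3⟩) (.one ⟨2207, 3, 3⟩)) (.node 1 (.one ⟨6035, 6, 4⟩) (.one ⟨1649, 5, 5⟩))) (.node 2 (.node 1 (.one ⟨2133, 5, 5⟩) (.one ⟨1264, 4, 2⟩))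 (.node 1 (.one ⟨10883, 6, 4⟩) (.one ⟨1200, 5, 2⟩))))) (.node 8 (.node 4 (.node 2 (.node 1 (.one ⟨3853, 5, 4⟩) (.one ⟨16388, 5, 4⟩)) (.node 1 (.one ⟨14487, 5, 3⟩) (.one ⟨12290, 5, 2⟩))) (.node 2 (.node 1 (.one ⟨10462, 5, 2⟩) (.one ⟨5833, 0, 3⟩)) (.node 1 (.one ⟨8068, 5, 2⟩) (.one ⟨3316, 6, 2⟩)))) (.node 4 (.node 2 (.node 1 (.one ⟨8013, 6, 3⟩) (.one ⟨9016, 4, 3⟩)) (.node 1 (.one ⟨5354, 5, 2⟩) (.one ⟨13372, 5, 3⟩))) (.node 2 (.node 1 (.one ⟨9556, 4, 1⟩) (.one ⟨12744, 6, 4⟩)) (.node 1 (.one ⟨13384, 5, 4⟩) (.one ⟨3759, 6, 3⟩)))))))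
def par3_5_11 : Arr Par :=
  (.node 32 (.node 16 (.node 8 (.node 4 (.node 2 (.node 1 (.one ⟨16921, 5, 3⟩) (.one ⟨1414, 4, 5⟩)) (.node 1 (.one ⟨15532, 6, 3⟩) (.one ⟨9206, 5, 3⟩))) (.node 2 (.node 1 (.one ⟨431, 0, 5⟩) (.one ⟨5871, 0, 3⟩)) (.node 1 (.one ⟨11180, 6, 4⟩) (.one ⟨16121, 6, 4⟩)))) (.node 4 (.node 2 (.node 1 (.one ⟨5225, 0, 3⟩) (.one ⟨9663, 6, 2⟩)) (.node 1 (.one ⟨1516, 0, 3⟩) (.one ⟨5913, 0, 3⟩))) (.node 2 (.node 1 (.one ⟨2720, 5, 3⟩) (.one ⟨2722, 5, 5⟩)) (.node 1 (.one ⟨846, 5, 3⟩) (.one ⟨9523, 5, 2⟩))))) (.node 8 (.node 4 (.node 2 (.node 1 (.one ⟨9519, 5, 2⟩) (.one ⟨4154, 6, 3⟩)) (.node 1 (.one ⟨8969, 6, 4⟩) (.one ⟨595, 5, 4⟩))) (.node 2 (.node 1 (.one ⟨1615, 6, 4⟩) (.one ⟨2834, 3, 5⟩)) (.node 1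 (.one ⟨15365, 6, 5⟩) (.one ⟨4841, 6, 3⟩)))) (.node 4 (.node 2 (.node 1 (.one ⟨5461, 5, 4⟩) (.one ⟨11214, 1, 1⟩)) (.node 1 (.one ⟨9739, 5, 5⟩) (.one ⟨5815, 0, 3⟩))) (.node 2 (.node 1 (.one ⟨12133, 1, 1⟩) (.one ⟨9555, 4, 1⟩)) (.node 1 (.one ⟨2148, 3, 4⟩) (.one ⟨1409, 4, 5⟩)))))) (.node 16 (.node 8 (.node 4 (.node 2 (.node 1 (.one ⟨11493, 6, 4⟩) (.one ⟨10283, 3, 2⟩)) (.node 1 (.one ⟨3308, 0, 4⟩) (.one ⟨1160, 0, 4⟩))) (.node 2 (.node 1 (.one ⟨7280, 0, 3⟩) (.one ⟨678, 3, 2⟩)) (.node 1 (.one ⟨7307, 0, 4⟩) (.one ⟨10118, 5, 3⟩)))) (.node 4 (.node 2 (.node 1 (.one ⟨2244, 6, 4⟩) (.one ⟨13976, 5, 4⟩)) (.node 1 (.one ⟨5877, 5, 3⟩) (.one ⟨9307, 5, 5⟩))) (.node 2 (.node 1 (.one ⟨7911, 6, 4⟩) (.one ⟨11788, 6, 3⟩)) (.node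 1 (.one ⟨5969, 5, 3⟩) (.one ⟨7697, 6, 2⟩))))) (.node 8 (.node 4 (.node 2 (.node 1 (.one ⟨10568, 6, 4⟩) (.one ⟨1927, 2, 2⟩)) (.node 1 (.one ⟨4063, 3, 3⟩) (.one ⟨14704, 6, 4⟩))) (.node 2 (.node 1 (.one ⟨5384, 6, 4⟩) (.one ⟨1407, 4, 2⟩)) (.node 1 (.one ⟨5006, 5, 3⟩) (.one ⟨15553, 5, 4⟩)))) (.node 4 (.node 2 (.node 1 (.one ⟨7582, 5, 4⟩) (.one ⟨11497, 5, 4⟩)) (.node 1 (.one ⟨16825, 0, 4⟩) (.one ⟨13145, 6, 3⟩))) (.node 2 (.node 1 (.one ⟨9542, 4, 3⟩) (.one ⟨5477, 6, 3⟩)) (.node 1 (.one ⟨5719, 5, 2⟩) (.one ⟨2183, 5, 1⟩)))))))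
def par3_5_12 : Arr Par :=
  (.node 32 (.node 16 (.node 8 (.node 4 (.node 2 (.node 1 (.one ⟨11681, 5, 3⟩) (.one ⟨1147, 4, 2⟩)) (.node 1 (.one ⟨14546, 4, 4⟩) (.one ⟨14709, 6, 4⟩))) (.node 2 (.node 1 (.one ⟨10246, 6, 3⟩) (.one ⟨5737, 5, 3⟩)) (.node 1 (.one ⟨2905, 6, 4⟩) (.one ⟨2172, 3, 1⟩)))) (.node 4 (.node 2 (.node 1 (.one ⟨15159, 6, 3⟩) (.one ⟨15295, 5, 4⟩)) (.node 1 (.one ⟨15862, 3, 4⟩) (.one ⟨9560, 4, 4⟩))) (.node 2 (.node 1 (.one ⟨2164, 3, 2⟩) (.one ⟨14950, 6, 3⟩)) (.node 1 (.one ⟨15739, 5, 3⟩) (.one ⟨1412, 4, 2⟩))))) (.node 8 (.node 4 (.node 2 (.node 1 (.one ⟨12695, 6, 4⟩) (.one ⟨12494, 6, 4⟩)) (.node 1 (.one ⟨10867, 5, 5⟩) (.one ⟨14522, 6, 4⟩))) (.node 2 (.node 1 (.one ⟨13984, 1, 3⟩) (.one ⟨8851, 6, 4⟩))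 (.node 1 (.one ⟨1347, 5, 5⟩) (.one ⟨15930, 4, 2⟩)))) (.node 4 (.node 2 (.node 1 (.one ⟨5471, 3, 2⟩) (.one ⟨12807, 6, 2⟩)) (.node 1 (.one ⟨10558, 5, 4⟩) (.one ⟨6081, 5, 2⟩))) (.node 2 (.node 1 (.one ⟨5923, 0, 3⟩) (.one ⟨6745, 5, 3⟩)) (.node 1 (.one ⟨861, 6, 3⟩) (.one ⟨2215, 5, 1⟩)))))) (.node 16 (.node 8 (.node 4 (.node 2 (.node 1 (.one ⟨4615, 6, 2⟩) (.one ⟨12698, 6, 2⟩)) (.node 1 (.one ⟨16415, 4, 2⟩) (.one ⟨4569, 6, 2⟩))) (.node 2 (.node 1 (.one ⟨148, 5, 2⟩) (.one ⟨1727, 5, 3⟩)) (.node 1 (.one ⟨9547, 5, 4⟩) (.one ⟨7062, 6, 4⟩)))) (.node 4 (.node 2 (.node 1 (.one ⟨14069, 5, 5⟩) (.one ⟨9559, 4, 4⟩)) (.node 1 (.one ⟨16019, 3, 2⟩) (.one ⟨10278, 1, 3⟩))) (.node 2 (.node 1 (.one ⟨443, 6, 4⟩) (.one ⟨5172, 0, 4⟩))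 (.node 1 (.one ⟨16630, 5, 4⟩) (.one ⟨3158, 0, 3⟩))))) (.node 8 (.node 4 (.node 2 (.node 1 (.one ⟨6050, 0, 4⟩) (.one ⟨14050, 3, 4⟩)) (.node 1 (.one ⟨2588, 6, 3⟩) (.one ⟨1776, 1, 1⟩))) (.node 2 (.node 1 (.one ⟨3468, 0, 4⟩) (.one ⟨121, 1, 1⟩)) (.node 1 (.one ⟨1449, 4, 1⟩) (.one ⟨77, 1, 0⟩)))) (.node 4 (.node 2 (.node 1 (.one ⟨1776, 4, 1⟩) (.one ⟨13511, 0, 1⟩)) (.node 1 (.one ⟨13411, 3, 1⟩) (.one ⟨16955, 5, 4⟩))) (.node 2 (.node 1 (.one ⟨1449, 2, 1⟩) (.one ⟨1454, 5, 5⟩)) (.node 1 (.one ⟨12883, 4, 3⟩) (.one ⟨1799, 1, 1⟩)))))))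
def par3_5_13 : Arr Par :=
  (.node 32 (.node 16 (.node 8 (.node 4 (.node 2 (.node 1 (.one ⟨4677, 6, 4⟩) (.one ⟨2272, 6, 3⟩)) (.node 1 (.one ⟨8982, 5, 3⟩) (.one ⟨1439, 4, 4⟩))) (.node 2 (.node 1 (.one ⟨8797, 5, 4⟩) (.one ⟨5267, 5, 3⟩)) (.node 1 (.one ⟨5886, 5, 3⟩) (.one ⟨8842, 2, 2⟩)))) (.node 4 (.node 2 (.node 1 (.one ⟨5480, 0, 1⟩) (.one ⟨111, 3, 2⟩)) (.node 1 (.one ⟨81, 1, 0⟩) (.one ⟨5402, 5, 4⟩))) (.node 2 (.node 1 (.one ⟨4913, 6, 4⟩) (.one ⟨8473, 5, 5⟩)) (.node 1 (.one ⟨9246, 3, 2⟩) (.one ⟨4546, 6, 5⟩))))) (.node 8 (.node 4 (.node 2 (.node 1 (.one ⟨11231, 0, 3⟩) (.one ⟨1469, 4, 2⟩)) (.node 1 (.one ⟨14099, 4, 3⟩) (.one ⟨2960, 6, 1⟩))) (.node 2 (.node 1 (.one ⟨4867, 6, 5⟩) (.one ⟨4844, 1, 3⟩)) (.node 1 (.one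 ⟨666, 1, 3⟩) (.one ⟨976, 6, 4⟩)))) (.node 4 (.node 2 (.node 1 (.one ⟨202, 6, 3⟩) (.one ⟨562, 6, 4⟩)) (.node 1 (.one ⟨11070, 5, 4⟩) (.one ⟨1381, 5, 5⟩))) (.node 2 (.node 1 (.one ⟨2799, 6, 5⟩) (.one ⟨12093, 5, 5⟩)) (.node 1 (.one ⟨2804, 6, 4⟩) (.one ⟨5784, 6, 2⟩)))))) (.node 16 (.node 8 (.node 4 (.node 2 (.node 1 (.one ⟨12967, 1, 3⟩) (.one ⟨15371, 6, 4⟩)) (.node 1 (.one ⟨1468, 4, 5⟩) (.one ⟨13752, 0, 4⟩))) (.node 2 (.node 1 (.one ⟨2889, 5, 5⟩) (.one ⟨2276, 6, 4⟩)) (.node 1 (.one ⟨10152, 0, 3⟩) (.one ⟨9638, 5, 4⟩)))) (.node 4 (.node 2 (.node 1 (.one ⟨9693, 6, 4⟩) (.one ⟨7127, 5, 5⟩)) (.node 1 (.one ⟨8019, 6, 4⟩) (.one ⟨3486, 6, 4⟩))) (.node 2 (.node 1 (.one ⟨2915, 4, 3⟩) (.one ⟨15937, 5, 3⟩)) (.node 1 (.one ⟨15235,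 5, 4⟩) (.one ⟨10981, 4, 3⟩))))) (.node 8 (.node 4 (.node 2 (.node 1 (.one ⟨5971, 0, 2⟩) (.one ⟨7901, 6, 4⟩)) (.node 1 (.one ⟨12681, 5, 2⟩) (.one ⟨8189, 6, 4⟩))) (.node 2 (.node 1 (.one ⟨3778, 6, 4⟩) (.one ⟨2630, 6, 4⟩)) (.node 1 (.one ⟨3391, 3, 5⟩) (.one ⟨12519, 5, 4⟩)))) (.node 4 (.node 2 (.node 1 (.one ⟨1469, 2, 2⟩) (.one ⟨15504, 5, 4⟩)) (.node 1 (.one ⟨12239, 6, 4⟩) (.one ⟨10925, 5, 4⟩))) (.node 2 (.node 1 (.one ⟨3611, 5, 4⟩) (.one ⟨15894, 6, 3⟩)) (.node 1 (.one ⟨7012, 5, 5⟩) (.one ⟨12549, 3, 5⟩)))))))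
def par3_5_14 : Arr Par :=
  (.node 32 (.node 16 (.node 8 (.node 4 (.node 2 (.node 1 (.one ⟨2965, 4, 3⟩) (.one ⟨8314, 5, 3⟩)) (.node 1 (.one ⟨7286, 6, 5⟩) (.one ⟨16329, 3, 5⟩))) (.node 2 (.node 1 (.one ⟨5983, 0, 3⟩) (.one ⟨1130, 3, 5⟩)) (.node 1 (.one ⟨16392, 3, 4⟩) (.one ⟨14444, 6, 4⟩)))) (.node 4 (.node 2 (.node 1 (.one ⟨13794, 0, 3⟩) (.one ⟨17146, 0, 2⟩)) (.node 1 (.one ⟨6619, 5, 4⟩) (.one ⟨9330, 3, 3⟩))) (.node 2 (.node 1 (.one ⟨14641, 4, 3⟩) (.one ⟨14669, 5, 3⟩)) (.node 1 (.one ⟨9780, 6, 3⟩) (.one ⟨10659, 6, 5⟩))))) (.node 8 (.node 4 (.node 2 (.node 1 (.one ⟨15230, 4, 4⟩) (.one ⟨1095, 3, 2⟩)) (.node 1 (.one ⟨1440, 4, 4⟩) (.one ⟨14088, 5, 3⟩))) (.node 2 (.node 1 (.one ⟨5958, 0, 4⟩) (.one ⟨3486, 0, 4⟩))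 (.node 1 (.one ⟨1069, 6, 4⟩) (.one ⟨14158, 2, 3⟩)))) (.node 4 (.node 2 (.node 1 (.one ⟨9242, 3, 2⟩) (.one ⟨1100, 5, 2⟩)) (.node 1 (.one ⟨14543, 6, 4⟩) (.one ⟨10750, 6, 5⟩))) (.node 2 (.node 1 (.one ⟨8630, 4, 4⟩) (.one ⟨10629, 3, 3⟩)) (.node 1 (.one ⟨10246, 5, 3⟩) (.one ⟨12764, 6, 4⟩)))))) (.node 16 (.node 8 (.node 4 (.node 2 (.node 1 (.one ⟨11514, 0, 4⟩) (.one ⟨1450, 4, 1⟩)) (.node 1 (.one ⟨14074, 5, 3⟩) (.one ⟨4430, 6, 3⟩))) (.node 2 (.node 1 (.one ⟨6114, 4, 3⟩) (.one ⟨4397, 4, 4⟩)) (.node 1 (.one ⟨7771, 6, 4⟩) (.one ⟨1203, 6, 2⟩)))) (.node 4 (.node 2 (.node 1 (.one ⟨14138, 4, 4⟩) (.one ⟨8143, 6, 4⟩)) (.node 1 (.one ⟨4009, 6, 3⟩) (.one ⟨15984, 6, 4⟩))) (.node 2 (.node 1 (.one ⟨1450, 2, 1⟩) (.one ⟨4659, 5,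 3⟩)) (.node 1 (.one ⟨780, 5, 3⟩) (.one ⟨4888, 6, 4⟩))))) (.node 8 (.node 4 (.node 2 (.node 1 (.one ⟨12477, 0, 3⟩) (.one ⟨321, 4, 3⟩)) (.node 1 (.one ⟨4574, 5, 4⟩) (.one ⟨5939, 2, 2⟩))) (.node 2 (.node 1 (.one ⟨12656, 3, 4⟩) (.one ⟨889, 4, 3⟩)) (.node 1 (.one ⟨4634, 5, 4⟩) (.one ⟨16583, 1, 2⟩)))) (.node 4 (.node 2 (.node 1 (.one ⟨4662, 6, 4⟩) (.one ⟨16439, 6, 3⟩)) (.node 1 (.one ⟨13705, 6, 4⟩) (.one ⟨11416, 6, 4⟩))) (.node 2 (.node 1 (.one ⟨12170, 6, 4⟩) (.one ⟨8049, 3, 4⟩)) (.node 1 (.one ⟨7460, 6, 4⟩) (.one ⟨4218, 5, 5⟩)))))))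
def par3_5_15 : Arr Par :=
  (.node 32 (.node 16 (.node 8 (.node 4 (.node 2 (.node 1 (.one ⟨15677, 6, 3⟩) (.one ⟨1799, 3, 1⟩)) (.node 1 (.one ⟨14895, 4, 3⟩) (.one ⟨619, 5, 3⟩))) (.node 2 (.node 1 (.one ⟨3919, 5, 4⟩) (.one ⟨5885, 6, 4⟩)) (.node 1 (.one ⟨16879, 5, 3⟩) (.one ⟨9130, 6, 3⟩)))) (.node 4 (.node 2 (.node 1 (.one ⟨12106, 6, 5⟩) (.one ⟨13385, 5, 4⟩)) (.node 1 (.one ⟨2946, 3, 3⟩) (.one ⟨15577, 6, 5⟩))) (.node 2 (.node 1 (.one ⟨2620, 5, 4⟩) (.one ⟨16993, 6, 2⟩)) (.node 1 (.one ⟨4637, 5, 4⟩) (.one ⟨11121, 5, 5⟩))))) (.node 8 (.node 4 (.node 2 (.node 1 (.one ⟨7749, 5, 5⟩) (.one ⟨3396, 5, 5⟩)) (.node 1 (.one ⟨16226, 5, 2⟩) (.one ⟨16623, 5, 4⟩))) (.node 2 (.node 1 (.one ⟨1057, 5, 4⟩) (.one ⟨7986, 6, 4⟩)) (.node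 1 (.one ⟨12368, 6, 5⟩) (.one ⟨10042, 6, 5⟩)))) (.node 4 (.node 2 (.node 1 (.one ⟨15039, 6, 4⟩) (.one ⟨5032, 4, 3⟩)) (.node 1 (.one ⟨5365, 6, 5⟩) (.one ⟨16249, 6, 4⟩))) (.node 2 (.node 1 (.one ⟨7878, 3, 2⟩) (.one ⟨4659, 4, 3⟩)) (.node 1 (.one ⟨4632, 5, 4⟩) (.one ⟨9767, 6, 4⟩)))))) (.node 16 (.node 8 (.node 4 (.node 2 (.node 1 (.one ⟨15835, 4, 3⟩) (.one ⟨11895, 6, 4⟩)) (.node 1 (.one ⟨1100, 1, 2⟩) (.one ⟨5353, 5, 4⟩))) (.node 2 (.node 1 (.one ⟨9869, 6, 4⟩) (.one ⟨5572, 6, 5⟩)) (.node 1 (.one ⟨3099, 0, 1⟩) (.one ⟨11021, 0, 3⟩)))) (.node 4 (.node 2 (.node 1 (.one ⟨12321, 5, 5⟩) (.one ⟨8027, 5, 3⟩)) (.node 1 (.one ⟨4095, 6, 5⟩) (.one ⟨4211, 5, 3⟩))) (.node 2 (.node 1 (.one ⟨765, 5, 4⟩) (.one ⟨14401, 5, 3⟩)) (.node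 1 (.one ⟨13447, 6, 5⟩) (.one ⟨5939, 4, 2⟩))))) (.node 8 (.node 4 (.node 2 (.node 1 (.one ⟨5682, 2, 2⟩) (.one ⟨11980, 0, 1⟩)) (.node 1 (.one ⟨13511, 3, 1⟩) (.one ⟨7225, 4, 3⟩))) (.node 2 (.node 1 (.one ⟨14220, 4, 3⟩) (.one ⟨16567, 1, 4⟩)) (.node 1 (.one ⟨14397, 6, 3⟩) (.one ⟨14956, 5, 4⟩)))) (.node 4 (.node 2 (.node 1 (.one ⟨16728, 6, 5⟩) (.one ⟨2431, 6, 4⟩)) (.node 1 (.one ⟨628, 6, 4⟩) (.one ⟨15223, 6, 4⟩))) (.node 2 (.node 1 (.one ⟨4744, 5, 4⟩) (.one ⟨1578, 5, 3⟩)) (.node 1 (.one ⟨3665, 6, 4⟩) (.one ⟨648, 6, 3⟩)))))))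
def par3_5 : Arr Par :=
  (.node 512 (.node 256 (.node 128 (.node 64 par3_5_0 par3_5_1) (.node 64 par3_5_2 par3_5_3)) (.node 128 (.node 64 par3_5_4 par3_5_5) (.node 64 par3_5_6 par3_5_7))) (.node 256 (.node 128 (.node 64 par3_5_8 par3_5_9) (.node 64 par3_5_10 par3_5_11)) (.node 128 (.node 64 par3_5_12 par3_5_13) (.node 64 par3_5_14 par3_5_15))))
def par3_6_0 : Arr Par :=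
  (.node 32 (.node 16 (.node 8 (.node 4 (.node 2 (.node 1 (.one ⟨7835, 5, 4⟩) (.one ⟨823, 6, 3⟩)) (.node 1 (.one ⟨1749, 5, 5⟩) (.one ⟨9137, 5, 5⟩))) (.node 2 (.node 1 (.one ⟨8642, 5, 5⟩) (.one ⟨11834, 6, 5⟩)) (.node 1 (.one ⟨11836, 6, 4⟩) (.one ⟨5368, 2, 2⟩)))) (.node 4 (.node 2 (.node 1 (.one ⟨2386, 3, 3⟩) (.one ⟨4620, 5, 3⟩)) (.node 1 (.one ⟨15435, 5, 5⟩) (.one ⟨3896, 0, 1⟩))) (.node 2 (.node 1 (.one ⟨1727, 3, 3⟩) (.one ⟨16227, 5, 5⟩)) (.node 1 (.one ⟨7629, 6, 5⟩) (.one ⟨15711, 6, 5⟩))))) (.node 8 (.node 4 (.node 2 (.node 1 (.one ⟨6862, 0, 4⟩) (.one ⟨2561, 3, 3⟩)) (.node 1 (.one ⟨12880, 4, 4⟩) (.one ⟨14089, 4, 3⟩))) (.node 2 (.node 1 (.one ⟨7609, 6, 5⟩) (.one ⟨14664, 0, 4⟩)) (.node 1 (.one ⟨7623, 6, 5⟩) (.one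 ⟨15312, 5, 4⟩)))) (.node 4 (.node 2 (.node 1 (.one ⟨1154, 4, 4⟩) (.one ⟨16761, 5, 4⟩)) (.node 1 (.one ⟨8318, 6, 3⟩) (.one ⟨349, 6, 3⟩))) (.node 2 (.node 1 (.one ⟨546, 3, 4⟩) (.one ⟨657, 6, 3⟩)) (.node 1 (.one ⟨325, 6, 3⟩) (.one ⟨2846, 6, 5⟩)))))) (.node 16 (.node 8 (.node 4 (.node 2 (.node 1 (.one ⟨1234, 5, 4⟩) (.one ⟨16604, 5, 3⟩)) (.node 1 (.one ⟨6049, 6, 2⟩) (.one ⟨16331, 5, 5⟩))) (.node 2 (.node 1 (.one ⟨10733, 5, 3⟩) (.one ⟨2713, 4, 3⟩)) (.node 1 (.one ⟨12895, 4, 3⟩) (.one ⟨4839, 6, 3⟩)))) (.node 4 (.node 2 (.node 1 (.one ⟨6703, 5, 4⟩) (.one ⟨216, 5, 4⟩)) (.node 1 (.one ⟨7721, 5, 5⟩) (.one ⟨14347, 5, 5⟩))) (.node 2 (.node 1 (.one ⟨12037, 5, 3⟩) (.one ⟨17026, 5, 4⟩)) (.node 1 (.one ⟨14391, 6, 3⟩) (.one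 ⟨13054, 5, 4⟩))))) (.node 8 (.node 4 (.node 2 (.node 1 (.one ⟨8254, 5, 4⟩) (.one ⟨3371, 6, 4⟩)) (.node 1 (.one ⟨9795, 5, 3⟩) (.one ⟨15483, 6, 5⟩))) (.node 2 (.node 1 (.one ⟨8580, 5, 4⟩) (.one ⟨1405, 6, 3⟩)) (.node 1 (.one ⟨11411, 5, 3⟩) (.one ⟨13134, 2, 2⟩)))) (.node 4 (.node 2 (.node 1 (.one ⟨15405, 6, 3⟩) (.one ⟨11429, 6, 3⟩)) (.node 1 (.one ⟨17104, 6, 4⟩) (.one ⟨7238, 5, 4⟩))) (.node 2 (.node 1 (.one ⟨3677, 6, 3⟩) (.one ⟨11686, 5, 3⟩)) (.node 1 (.one ⟨1680, 6, 3⟩) (.one ⟨14764, 4, 4⟩)))))))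
def par3_6_1 : Arr Par :=
  (.node 32 (.node 16 (.node 8 (.node 4 (.node 2 (.node 1 (.one ⟨9084, 4, 2⟩) (.one ⟨9014, 6, 5⟩)) (.node 1 (.one ⟨4138, 5, 3⟩) (.one ⟨872, 5, 3⟩))) (.node 2 (.node 1 (.one ⟨15374, 6, 5⟩) (.one ⟨10701, 4, 1⟩)) (.node 1 (.one ⟨3542, 4, 1⟩) (.one ⟨9910, 3, 1⟩)))) (.node 4 (.node 2 (.node 1 (.one ⟨12514, 5, 4⟩) (.one ⟨6956, 1, 2⟩)) (.node 1 (.one ⟨4326, 4, 3⟩) (.one ⟨14549, 6, 3⟩))) (.node 2 (.node 1 (.one ⟨1927, 6, 2⟩) (.one ⟨16914, 6, 5⟩)) (.node 1 (.one ⟨4694, 6, 3⟩) (.one ⟨15826, 6, 4⟩))))) (.node 8 (.node 4 (.node 2 (.node 1 (.one ⟨486, 5, 4⟩) (.one ⟨2193, 5, 5⟩)) (.node 1 (.one ⟨12091, 6, 3⟩) (.one ⟨990, 5, 5⟩))) (.node 2 (.node 1 (.one ⟨2195, 5, 4⟩) (.one ⟨15544, 6, 4⟩)) (.node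 1 (.one ⟨2197, 5, 5⟩) (.one ⟨14902, 4, 2⟩)))) (.node 4 (.node 2 (.node 1 (.one ⟨921, 5, 3⟩) (.one ⟨3531, 5, 3⟩)) (.node 1 (.one ⟨8562, 6, 4⟩) (.one ⟨655, 5, 4⟩))) (.node 2 (.node 1 (.one ⟨321, 5, 3⟩) (.one ⟨4658, 6, 3⟩)) (.node 1 (.one ⟨3534, 5, 4⟩) (.one ⟨17007, 3, 2⟩)))))) (.node 16 (.node 8 (.node 4 (.node 2 (.node 1 (.one ⟨1238, 5, 5⟩) (.one ⟨8596, 6, 4⟩)) (.node 1 (.one ⟨13561, 4, 5⟩) (.one ⟨9529, 6, 3⟩))) (.node 2 (.node 1 (.one ⟨15822, 5, 5⟩) (.one ⟨5565, 3, 2⟩)) (.node 1 (.one ⟨12598, 5, 4⟩) (.one ⟨5574, 6, 4⟩)))) (.node 4 (.node 2 (.node 1 (.one ⟨13185, 5, 4⟩) (.one ⟨12643, 4, 2⟩)) (.node 1 (.one ⟨15458, 6, 4⟩) (.one ⟨6954, 1, 2⟩))) (.node 2 (.node 1 (.one ⟨6865, 3, 3⟩) (.one ⟨15753, 6, 4⟩)) (.node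 1 (.one ⟨9865, 6, 3⟩) (.one ⟨3192, 2, 2⟩))))) (.node 8 (.node 4 (.node 2 (.node 1 (.one ⟨1729, 1, 2⟩) (.one ⟨365, 3, 2⟩)) (.node 1 (.one ⟨5959, 3, 3⟩) (.one ⟨4823, 4, 3⟩))) (.node 2 (.node 1 (.one ⟨15102, 5, 5⟩) (.one ⟨5628, 5, 5⟩)) (.node 1 (.one ⟨5487, 4, 3⟩) (.one ⟨9643, 5, 4⟩)))) (.node 4 (.node 2 (.node 1 (.one ⟨4397, 6, 4⟩) (.one ⟨14648, 4, 5⟩)) (.node 1 (.one ⟨4451, 6, 3⟩) (.one ⟨205, 5, 5⟩))) (.node 2 (.node 1 (.one ⟨12104, 6, 4⟩) (.one ⟨15616, 4, 5⟩)) (.node 1 (.one ⟨11953, 6, 5⟩) (.one ⟨11621, 6, 4⟩)))))))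
def par3_6_2 : Arr Par :=
  (.node 32 (.node 16 (.node 8 (.node 4 (.node 2 (.node 1 (.one ⟨3148, 4, 3⟩) (.one ⟨16885, 4, 3⟩)) (.node 1 (.one ⟨13244, 4, 3⟩) (.one ⟨9345, 6, 3⟩))) (.node 2 (.node 1 (.one ⟨1388, 5, 1⟩) (.one ⟨7137, 6, 4⟩)) (.node 1 (.one ⟨11954, 6, 5⟩) (.one ⟨14220, 3, 3⟩)))) (.node 4 (.node 2 (.node 1 (.one ⟨10677, 6, 3⟩) (.one ⟨7490, 5, 5⟩)) (.node 1 (.one ⟨2237, 5, 4⟩) (.one ⟨10674, 6, 3⟩))) (.node 2 (.node 1 (.one ⟨10676, 6, 3⟩) (.one ⟨11544, 0, 1⟩)) (.node 1 (.one ⟨8321, 5, 4⟩) (.one ⟨9351, 6, 2⟩))))) (.node 8 (.node 4 (.node 2 (.node 1 (.one ⟨16905, 4, 3⟩) (.one ⟨1392, 6, 2⟩)) (.node 1 (.one ⟨9531, 6, 4⟩) (.one ⟨11753, 6, 4⟩))) (.node 2 (.node 1 (.one ⟨3669, 6, 4⟩) (.one ⟨14477, 5, 3⟩))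 (.node 1 (.one ⟨15234, 2, 3⟩) (.one ⟨13777, 4, 4⟩)))) (.node 4 (.node 2 (.node 1 (.one ⟨3613, 6, 4⟩) (.one ⟨1680, 4, 3⟩)) (.node 1 (.one ⟨14774, 6, 4⟩) (.one ⟨16256, 6, 4⟩))) (.node 2 (.node 1 (.one ⟨13172, 6, 4⟩) (.one ⟨12682, 5, 4⟩)) (.node 1 (.one ⟨6284, 6, 4⟩) (.one ⟨4885, 6, 4⟩)))))) (.node 16 (.node 8 (.node 4 (.node 2 (.node 1 (.one ⟨654, 4, 5⟩) (.one ⟨8841, 5, 3⟩)) (.node 1 (.one ⟨5966, 5, 3⟩) (.one ⟨14676, 6, 5⟩))) (.node 2 (.node 1 (.one ⟨6733, 6, 5⟩) (.one ⟨14275, 6, 2⟩)) (.node 1 (.one ⟨10977, 4, 4⟩) (.one ⟨3698, 6, 1⟩)))) (.node 4 (.node 2 (.node 1 (.one ⟨619, 1, 3⟩) (.one ⟨4003, 5, 4⟩)) (.node 1 (.one ⟨9835, 1, 3⟩) (.one ⟨6400, 4, 4⟩))) (.node 2 (.node 1 (.one ⟨12091, 4, 3⟩) (.one ⟨16883, 1, 3⟩))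 (.node 1 (.one ⟨9945, 5, 3⟩) (.one ⟨6821, 6, 3⟩))))) (.node 8 (.node 4 (.node 2 (.node 1 (.one ⟨1116, 4, 3⟩) (.one ⟨11988, 5, 2⟩)) (.node 1 (.one ⟨3947, 5, 4⟩) (.one ⟨6710, 6, 5⟩))) (.node 2 (.node 1 (.one ⟨15216, 6, 4⟩) (.one ⟨4063, 4, 3⟩)) (.node 1 (.one ⟨10484, 6, 5⟩) (.one ⟨10680, 6, 2⟩)))) (.node 4 (.node 2 (.node 1 (.one ⟨15584, 6, 3⟩) (.one ⟨789, 6, 4⟩)) (.node 1 (.one ⟨3915, 5, 3⟩) (.one ⟨10939, 6, 4⟩))) (.node 2 (.node 1 (.one ⟨14176, 6, 2⟩) (.one ⟨3250, 6, 3⟩)) (.node 1 (.one ⟨6312, 6, 4⟩) (.one ⟨9426, 2, 1⟩)))))))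
def par3_6_3 : Arr Par :=
  (.node 32 (.node 16 (.node 8 (.node 4 (.node 2 (.node 1 (.one ⟨11269, 6, 4⟩) (.one ⟨16410, 6, 3⟩)) (.node 1 (.one ⟨13398, 5, 4⟩) (.one ⟨1337, 5, 3⟩))) (.node 2 (.node 1 (.one ⟨9381, 6, 2⟩) (.one ⟨4846, 4, 3⟩)) (.node 1 (.one ⟨3387, 4, 4⟩) (.one ⟨11204, 5, 3⟩)))) (.node 4 (.node 2 (.node 1 (.one ⟨9604, 5, 3⟩) (.one ⟨10909, 6, 2⟩)) (.node 1 (.one ⟨5777, 6, 4⟩) (.one ⟨2626, 4, 4⟩))) (.node 2 (.node 1 (.one ⟨16177, 6, 2⟩) (.one ⟨15186, 4, 4⟩)) (.node 1 (.one ⟨4715, 5, 4⟩) (.one ⟨1110, 4, 2⟩))))) (.node 8 (.node 4 (.node 2 (.node 1 (.one ⟨15749, 5, 4⟩) (.one ⟨4855, 5, 3⟩)) (.node 1 (.one ⟨15809, 5, 4⟩) (.one ⟨9146, 5, 1⟩))) (.node 2 (.node 1 (.one ⟨13376, 6, 4⟩) (.one ⟨9866, 5, 4⟩)) (.node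 1 (.one ⟨6765, 5, 5⟩) (.one ⟨1994, 5, 4⟩)))) (.node 4 (.node 2 (.node 1 (.one ⟨2164, 6, 2⟩) (.one ⟨7693, 0, 3⟩)) (.node 1 (.one ⟨3061, 5, 3⟩) (.one ⟨10692, 5, 1⟩))) (.node 2 (.node 1 (.one ⟨5354, 3, 2⟩) (.one ⟨8744, 3, 4⟩)) (.node 1 (.one ⟨1251, 4, 2⟩) (.one ⟨7473, 2, 2⟩)))))) (.node 16 (.node 8 (.node 4 (.node 2 (.node 1 (.one ⟨1730, 3, 3⟩) (.one ⟨15433, 5, 5⟩)) (.node 1 (.one ⟨1113, 3, 2⟩) (.one ⟨83, 1, 0⟩))) (.node 2 (.node 1 (.one ⟨6155, 1, 2⟩) (.one ⟨574, 5, 5⟩)) (.node 1 (.one ⟨11058, 5, 5⟩) (.one ⟨4063, 5, 3⟩)))) (.node 4 (.node 2 (.node 1 (.one ⟨11149, 5, 3⟩) (.one ⟨6817, 6, 5⟩)) (.node 1 (.one ⟨3099, 4, 1⟩) (.one ⟨14182, 6, 4⟩))) (.node 2 (.node 1 (.one ⟨1382, 5, 1⟩) (.one ⟨15763, 0, 3⟩)) (.node 1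 (.one ⟨1111, 4, 3⟩) (.one ⟨6926, 5, 3⟩))))) (.node 8 (.node 4 (.node 2 (.node 1 (.one ⟨9283, 2, 1⟩) (.one ⟨3048, 3, 3⟩)) (.node 1 (.one ⟨13855, 6, 3⟩) (.one ⟨55, 1, 0⟩))) (.node 2 (.node 1 (.one ⟨13874, 6, 3⟩) (.one ⟨9217, 5, 3⟩)) (.node 1 (.one ⟨12995, 6, 4⟩) (.one ⟨2485, 5, 3⟩)))) (.node 4 (.node 2 (.node 1 (.one ⟨4, 5, 3⟩) (.one ⟨888, 5, 4⟩)) (.node 1 (.one ⟨8542, 0, 3⟩) (.one ⟨2483, 5, 5⟩))) (.node 2 (.node 1 (.one ⟨325, 5, 3⟩) (.one ⟨661, 5, 3⟩)) (.node 1 (.one ⟨9601, 4, 4⟩) (.one ⟨11062, 6, 2⟩)))))))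
def par3_6_4 : Arr Par :=
  (.node 32 (.node 16 (.node 8 (.node 4 (.node 2 (.node 1 (.one ⟨1730, 5, 3⟩) (.one ⟨329, 5, 2⟩)) (.node 1 (.one ⟨3026, 6, 2⟩) (.one ⟨3089, 6, 4⟩))) (.node 2 (.node 1 (.one ⟨2728, 5, 1⟩) (.one ⟨2568, 5, 4⟩)) (.node 1 (.one ⟨11747, 5, 3⟩) (.one ⟨15079, 3, 5⟩)))) (.node 4 (.node 2 (.node 1 (.one ⟨1879, 6, 5⟩) (.one ⟨2103, 5, 3⟩)) (.node 1 (.one ⟨5687, 6, 5⟩) (.one ⟨6489, 5, 5⟩))) (.node 2 (.node 1 (.one ⟨7165, 0, 3⟩) (.one ⟨10839, 6, 5⟩)) (.node 1 (.one ⟨10820, 0, 3⟩) (.one ⟨336, 3, 3⟩))))) (.node 8 (.node 4 (.node 2 (.node 1 (.one ⟨10665, 3, 4⟩) (.one ⟨10215, 4, 3⟩)) (.node 1 (.one ⟨9605, 4, 4⟩) (.one ⟨10636, 4, 3⟩))) (.node 2 (.node 1 (.one ⟨4289, 0, 4⟩) (.one ⟨5679, 5, 3⟩)) (.node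 1 (.one ⟨7953, 6, 5⟩) (.one ⟨5181, 5, 5⟩)))) (.node 4 (.node 2 (.node 1 (.one ⟨8244, 5, 5⟩) (.one ⟨7505, 6, 4⟩)) (.node 1 (.one ⟨16082, 3, 5⟩) (.one ⟨2671, 5, 2⟩))) (.node 2 (.node 1 (.one ⟨2662, 6, 5⟩) (.one ⟨7783, 5, 5⟩)) (.node 1 (.one ⟨5002, 5, 3⟩) (.one ⟨5468, 0, 3⟩)))))) (.node 16 (.node 8 (.node 4 (.node 2 (.node 1 (.one ⟨10729, 5, 3⟩) (.one ⟨8093, 6, 4⟩)) (.node 1 (.one ⟨5190, 6, 3⟩) (.one ⟨5944, 5, 2⟩))) (.node 2 (.node 1 (.one ⟨15533, 3, 2⟩) (.one ⟨13507, 6, 3⟩)) (.node 1 (.one ⟨1738, 4, 3⟩) (.one ⟨3050, 5, 3⟩)))) (.node 4 (.node 2 (.node 1 (.one ⟨3207, 6, 3⟩) (.one ⟨11149, 3, 3⟩)) (.node 1 (.one ⟨17068, 5, 4⟩) (.one ⟨53, 1, 0⟩))) (.node 2 (.node 1 (.one ⟨4421, 4, 4⟩) (.one ⟨9284, 2, 1⟩)) (.node 1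 (.one ⟨2720, 6, 3⟩) (.one ⟨1368, 6, 3⟩))))) (.node 8 (.node 4 (.node 2 (.node 1 (.one ⟨13141, 1, 4⟩) (.one ⟨15876, 5, 4⟩)) (.node 1 (.one ⟨12511, 5, 4⟩) (.one ⟨16797, 5, 4⟩))) (.node 2 (.node 1 (.one ⟨11059, 6, 4⟩) (.one ⟨7295, 5, 4⟩)) (.node 1 (.one ⟨2975, 5, 4⟩) (.one ⟨2434, 5, 3⟩)))) (.node 4 (.node 2 (.node 1 (.one ⟨1603, 0, 4⟩) (.one ⟨1083, 6, 3⟩)) (.node 1 (.one ⟨9370, 5, 4⟩) (.one ⟨5154, 5, 3⟩))) (.node 2 (.node 1 (.one ⟨5425, 5, 3⟩) (.one ⟨12986, 5, 3⟩)) (.node 1 (.one ⟨14569, 0, 4⟩) (.one ⟨14977, 5, 3⟩)))))))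
def par3_6_5 : Arr Par :=
  (.node 32 (.node 16 (.node 8 (.node 4 (.node 2 (.node 1 (.one ⟨16287, 6, 4⟩) (.one ⟨13798, 6, 3⟩)) (.node 1 (.one ⟨2416, 6, 4⟩) (.one ⟨10676, 4, 3⟩))) (.node 2 (.node 1 (.one ⟨9492, 6, 2⟩) (.one ⟨13001, 3, 3⟩)) (.node 1 (.one ⟨7701, 6, 2⟩) (.one ⟨846, 4, 3⟩)))) (.node 4 (.node 2 (.node 1 (.one ⟨4233, 5, 5⟩) (.one ⟨14904, 5, 3⟩)) (.node 1 (.one ⟨16907, 5, 3⟩) (.one ⟨8801, 5, 4⟩))) (.node 2 (.node 1 (.one ⟨8575, 0, 4⟩) (.one ⟨10942, 6, 5⟩)) (.node 1 (.one ⟨1388, 3, 1⟩) (.one ⟨1391, 2, 2⟩))))) (.node 8 (.node 4 (.node 2 (.node 1 (.one ⟨14544, 6, 2⟩) (.one ⟨3273, 5, 3⟩)) (.node 1 (.one ⟨13880, 5, 5⟩) (.one ⟨5245, 5, 5⟩))) (.node 2 (.node 1 (.one ⟨15886, 5, 3⟩) (.one ⟨8907, 5, 4⟩)) (.node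 1 (.one ⟨11651, 5, 5⟩) (.one ⟨8135, 5, 3⟩)))) (.node 4 (.node 2 (.node 1 (.one ⟨1016, 6, 4⟩) (.one ⟨6660, 6, 4⟩)) (.node 1 (.one ⟨5919, 6, 2⟩) (.one ⟨10941, 6, 4⟩))) (.node 2 (.node 1 (.one ⟨10112, 6, 2⟩) (.one ⟨15136, 6, 3⟩)) (.node 1 (.one ⟨9624, 4, 4⟩) (.one ⟨15707, 5, 4⟩)))))) (.node 16 (.node 8 (.node 4 (.node 2 (.node 1 (.one ⟨10029, 5, 4⟩) (.one ⟨12810, 4, 3⟩)) (.node 1 (.one ⟨14736, 5, 3⟩) (.one ⟨6738, 6, 3⟩))) (.node 2 (.node 1 (.one ⟨15556, 4, 3⟩) (.one ⟨14513, 0, 4⟩)) (.node 1 (.one ⟨6739, 6, 3⟩) (.one ⟨1404, 5, 2⟩)))) (.node 4 (.node 2 (.node 1 (.one ⟨1404, 3, 2⟩) (.one ⟨1403, 5, 5⟩)) (.node 1 (.one ⟨1399, 5, 4⟩) (.one ⟨5676, 3, 5⟩))) (.node 2 (.node 1 (.one ⟨10988, 6, 5⟩) (.one ⟨13939, 6, 4⟩))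 (.node 1 (.one ⟨72, 5, 5⟩) (.one ⟨5686, 5, 4⟩))))) (.node 8 (.node 4 (.node 2 (.node 1 (.one ⟨15111, 0, 2⟩) (.one ⟨5043, 4, 3⟩)) (.node 1 (.one ⟨9761, 6, 3⟩) (.one ⟨2830, 3, 4⟩))) (.node 2 (.node 1 (.one ⟨12665, 6, 4⟩) (.one ⟨1081, 5, 2⟩)) (.node 1 (.one ⟨12625, 6, 5⟩) (.one ⟨329, 3, 2⟩)))) (.node 4 (.node 2 (.node 1 (.one ⟨5583, 3, 3⟩) (.one ⟨6387, 6, 1⟩)) (.node 1 (.one ⟨2567, 3, 3⟩) (.one ⟨6287, 4, 3⟩))) (.node 2 (.node 1 (.one ⟨230, 5, 5⟩) (.one ⟨9596, 3, 2⟩)) (.node 1 (.one ⟨11916, 5, 5⟩) (.one ⟨11915, 6, 4⟩)))))))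
def par3_6_6 : Arr Par :=
  (.node 32 (.node 16 (.node 8 (.node 4 (.node 2 (.node 1 (.one ⟨15394, 4, 4⟩) (.one ⟨16640, 5, 4⟩)) (.node 1 (.one ⟨8874, 3, 4⟩) (.one ⟨4875, 5, 4⟩))) (.node 2 (.node 1 (.one ⟨1204, 6, 3⟩) (.one ⟨15236, 5, 5⟩)) (.node 1 (.one ⟨3814, 5, 4⟩) (.one ⟨5234, 4, 3⟩)))) (.node 4 (.node 2 (.node 1 (.one ⟨15108, 0, 2⟩) (.one ⟨4019, 3, 4⟩)) (.node 1 (.one ⟨11325, 5, 3⟩) (.one ⟨15781, 6, 3⟩))) (.node 2 (.node 1 (.one ⟨12496, 6, 3⟩) (.one ⟨907, 5, 3⟩)) (.node 1 (.one ⟨1197, 2, 3⟩) (.one ⟨17059, 5, 3⟩))))) (.node 8 (.node 4 (.node 2 (.node 1 (.one ⟨6427, 6, 3⟩) (.one ⟨8351, 5, 3⟩)) (.node 1 (.one ⟨3114, 5, 4⟩) (.one ⟨12528, 5, 2⟩))) (.node 2 (.node 1 (.one ⟨14906, 5, 2⟩) (.one ⟨5109, 5, 4⟩)) (.node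 1 (.one ⟨12495, 6, 4⟩) (.one ⟨14349, 5, 3⟩)))) (.node 4 (.node 2 (.node 1 (.one ⟨16338, 6, 5⟩) (.one ⟨2453, 5, 3⟩)) (.node 1 (.one ⟨1081, 3, 2⟩) (.one ⟨8193, 6, 3⟩))) (.node 2 (.node 1 (.one ⟨17180, 1, 5⟩) (.one ⟨2322, 3, 3⟩)) (.node 1 (.one ⟨3273, 4, 3⟩) (.one ⟨6539, 1, 4⟩)))))) (.node 16 (.node 8 (.node 4 (.node 2 (.node 1 (.one ⟨5661, 6, 4⟩) (.one ⟨15240, 5, 3⟩)) (.node 1 (.one ⟨12628, 6, 5⟩) (.one ⟨8440, 6, 2⟩))) (.node 2 (.node 1 (.one ⟨13095, 1, 4⟩) (.one ⟨9571, 6, 4⟩)) (.node 1 (.one ⟨13556, 5, 5⟩) (.one ⟨4159, 3, 5⟩)))) (.node 4 (.node 2 (.node 1 (.one ⟨12629, 6, 5⟩) (.one ⟨2481, 6, 4⟩)) (.node 1 (.one ⟨13091, 5, 3⟩) (.one ⟨1556, 6, 2⟩))) (.node 2 (.node 1 (.one ⟨10730, 6, 5⟩) (.one ⟨8861, 5, 5⟩)) (.node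 1 (.one ⟨9594, 3, 3⟩) (.one ⟨8054, 5, 4⟩))))) (.node 8 (.node 4 (.node 2 (.node 1 (.one ⟨12033, 4, 4⟩) (.one ⟨12026, 3, 4⟩)) (.node 1 (.one ⟨15357, 5, 5⟩) (.one ⟨14303, 3, 3⟩))) (.node 2 (.node 1 (.one ⟨48, 6, 4⟩) (.one ⟨14835, 6, 5⟩)) (.node 1 (.one ⟨12607, 6, 2⟩) (.one ⟨6683, 3, 4⟩)))) (.node 4 (.node 2 (.node 1 (.one ⟨11799, 3, 4⟩) (.one ⟨1684, 5, 5⟩)) (.node 1 (.one ⟨16525, 5, 4⟩) (.one ⟨8508, 4, 5⟩))) (.node 2 (.node 1 (.one ⟨7147, 3, 2⟩) (.one ⟨14379, 5, 4⟩)) (.node 1 (.one ⟨2340, 3, 3⟩) (.one ⟨7515, 5, 5⟩)))))))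
def par3_6_7 : Arr Par :=
  (.node 32 (.node 16 (.node 8 (.node 4 (.node 2 (.node 1 (.one ⟨2455, 6, 4⟩) (.one ⟨10761, 6, 2⟩)) (.node 1 (.one ⟨3256, 1, 3⟩) (.one ⟨1438, 5, 5⟩))) (.node 2 (.node 1 (.one ⟨14798, 5, 5⟩) (.one ⟨16947, 5, 4⟩)) (.node 1 (.one ⟨3945, 5, 4⟩) (.one ⟨8641, 6, 5⟩)))) (.node 4 (.node 2 (.node 1 (.one ⟨10909, 0, 2⟩) (.one ⟨3584, 4, 2⟩)) (.node 1 (.one ⟨829, 6, 3⟩) (.one ⟨3984, 4, 5⟩))) (.node 2 (.node 1 (.one ⟨10194, 6, 3⟩) (.one ⟨6199, 4, 3⟩)) (.node 1 (.one ⟨3497, 5, 4⟩) (.one ⟨1758, 5, 5⟩))))) (.node 8 (.node 4 (.node 2 (.node 1 (.one ⟨2804, 5, 4⟩) (.one ⟨1729, 2, 2⟩)) (.node 1 (.one ⟨2706, 5, 3⟩) (.one ⟨5648, 1, 2⟩))) (.node 2 (.node 1 (.one ⟨7453, 6, 3⟩) (.one ⟨2862, 0, 4⟩)) (.node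 1 (.one ⟨13046, 5, 4⟩) (.one ⟨12018, 6, 4⟩)))) (.node 4 (.node 2 (.node 1 (.one ⟨9612, 5, 3⟩) (.one ⟨8330, 5, 4⟩)) (.node 1 (.one ⟨11712, 4, 3⟩) (.one ⟨15049, 5, 3⟩))) (.node 2 (.node 1 (.one ⟨12687, 6, 4⟩) (.one ⟨13596, 6, 4⟩)) (.node 1 (.one ⟨8525, 3, 4⟩) (.one ⟨5659, 1, 2⟩)))))) (.node 16 (.node 8 (.node 4 (.node 2 (.node 1 (.one ⟨2638, 5, 5⟩) (.one ⟨6302, 5, 5⟩)) (.node 1 (.one ⟨678, 4, 2⟩) (.one ⟨6782, 5, 4⟩))) (.node 2 (.node 1 (.one ⟨15848, 5, 4⟩) (.one ⟨10039, 6, 3⟩)) (.node 1 (.one ⟨2878, 5, 3⟩) (.one ⟨2332, 6, 2⟩)))) (.node 4 (.node 2 (.node 1 (.one ⟨11788, 3, 3⟩) (.one ⟨14416, 5, 4⟩)) (.node 1 (.one ⟨10361, 5, 2⟩) (.one ⟨13940, 5, 5⟩))) (.node 2 (.node 1 (.one ⟨11676, 6, 5⟩) (.one ⟨16819, 6, 3⟩))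 (.node 1 (.one ⟨12877, 5, 4⟩) (.one ⟨5321, 6, 2⟩))))) (.node 8 (.node 4 (.node 2 (.node 1 (.one ⟨5921, 1, 3⟩) (.one ⟨1182, 5, 3⟩)) (.node 1 (.one ⟨6214, 5, 2⟩) (.one ⟨11185, 5, 3⟩))) (.node 2 (.node 1 (.one ⟨4011, 4, 4⟩) (.one ⟨15627, 5, 3⟩)) (.node 1 (.one ⟨6322, 6, 5⟩) (.one ⟨13649, 5, 3⟩)))) (.node 4 (.node 2 (.node 1 (.one ⟨6788, 6, 3⟩) (.one ⟨12735, 6, 2⟩)) (.node 1 (.one ⟨3804, 6, 4⟩) (.one ⟨6409, 6, 4⟩))) (.node 2 (.node 1 (.one ⟨11077, 5, 3⟩) (.one ⟨2891, 3, 3⟩)) (.node 1 (.one ⟨9092, 5, 3⟩) (.one ⟨2057, 5, 4⟩)))))))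
def par3_6_8 : Arr Par :=
  (.node 32 (.node 16 (.node 8 (.node 4 (.node 2 (.node 1 (.one ⟨2925, 5, 4⟩) (.one ⟨9374, 6, 4⟩)) (.node 1 (.one ⟨13274, 4, 4⟩) (.one ⟨9812, 0, 2⟩))) (.node 2 (.node 1 (.one ⟨6877, 3, 3⟩) (.one ⟨13374, 5, 5⟩)) (.node 1 (.one ⟨3763, 6, 1⟩) (.one ⟨5605, 5, 5⟩)))) (.node 4 (.node 2 (.node 1 (.one ⟨5580, 5, 5⟩) (.one ⟨13620, 5, 5⟩)) (.node 1 (.one ⟨12284, 6, 3⟩) (.one ⟨2753, 0, 3⟩))) (.node 2 (.node 1 (.one ⟨13654, 5, 5⟩) (.one ⟨5613, 5, 5⟩)) (.node 1 (.one ⟨5571, 5, 5⟩) (.one ⟨3389, 5, 4⟩))))) (.node 8 (.node 4 (.node 2 (.node 1 (.one ⟨12179, 5, 5⟩) (.one ⟨11102, 5, 4⟩)) (.node 1 (.one ⟨3599, 5, 3⟩) (.one ⟨6739, 0, 3⟩))) (.node 2 (.node 1 (.one ⟨13041, 5, 4⟩) (.one ⟨8770, 4, 2⟩)) (.node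 1 (.one ⟨5332, 5, 4⟩) (.one ⟨6949, 2, 3⟩)))) (.node 4 (.node 2 (.node 1 (.one ⟨13492, 5, 4⟩) (.one ⟨14024, 5, 4⟩)) (.node 1 (.one ⟨2028, 5, 4⟩) (.one ⟨4617, 6, 3⟩))) (.node 2 (.node 1 (.one ⟨9780, 0, 3⟩) (.one ⟨8953, 5, 4⟩)) (.node 1 (.one ⟨2552, 6, 3⟩) (.one ⟨3252, 5, 4⟩)))))) (.node 16 (.node 8 (.node 4 (.node 2 (.node 1 (.one ⟨11203, 0, 3⟩) (.one ⟨9161, 5, 2⟩)) (.node 1 (.one ⟨3635, 3, 4⟩) (.one ⟨12118, 6, 4⟩))) (.node 2 (.node 1 (.one ⟨1830, 6, 3⟩) (.one ⟨7760, 5, 3⟩)) (.node 1 (.one ⟨14960, 4, 3⟩) (.one ⟨2126, 6, 3⟩)))) (.node 4 (.node 2 (.node 1 (.one ⟨2232, 5, 3⟩) (.one ⟨10525, 6, 3⟩)) (.node 1 (.one ⟨10193, 6, 3⟩) (.one ⟨11690, 4, 3⟩))) (.node 2 (.node 1 (.one ⟨10555, 6, 2⟩) (.one ⟨2527, 6, 5⟩)) (.node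 1 (.one ⟨1580, 6, 3⟩) (.one ⟨6801, 5, 3⟩))))) (.node 8 (.node 4 (.node 2 (.node 1 (.one ⟨3767, 5, 4⟩) (.one ⟨10628, 6, 4⟩)) (.node 1 (.one ⟨9442, 4, 4⟩) (.one ⟨3075, 0, 3⟩))) (.node 2 (.node 1 (.one ⟨17048, 5, 4⟩) (.one ⟨4088, 4, 3⟩)) (.node 1 (.one ⟨11173, 5, 4⟩) (.one ⟨8365, 6, 3⟩)))) (.node 4 (.node 2 (.node 1 (.one ⟨2532, 6, 4⟩) (.one ⟨7707, 4, 3⟩)) (.node 1 (.one ⟨16479, 0, 4⟩) (.one ⟨9448, 2, 3⟩))) (.node 2 (.node 1 (.one ⟨13092, 5, 4⟩) (.one ⟨3020, 0, 3⟩)) (.node 1 (.one ⟨2150, 5, 5⟩) (.one ⟨16527, 5, 4⟩)))))))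
def par3_6_9 : Arr Par :=
  (.node 32 (.node 16 (.node 8 (.node 4 (.node 2 (.node 1 (.one ⟨9150, 3, 1⟩) (.one ⟨8660, 5, 3⟩)) (.node 1 (.one ⟨8152, 6, 4⟩) (.one ⟨744, 4, 5⟩))) (.node 2 (.node 1 (.one ⟨8688, 5, 4⟩) (.one ⟨566, 6, 5⟩)) (.node 1 (.one ⟨16436, 5, 4⟩) (.one ⟨6201, 3, 4⟩)))) (.node 4 (.node 2 (.node 1 (.one ⟨12037, 6, 3⟩) (.one ⟨11269, 5, 4⟩)) (.node 1 (.one ⟨1313, 4, 2⟩) (.one ⟨8812, 6, 4⟩))) (.node 2 (.node 1 (.one ⟨6457, 1, 4⟩) (.one ⟨7415, 5, 4⟩)) (.node 1 (.one ⟨10442, 5, 2⟩) (.one ⟨11473, 5, 4⟩))))) (.node 8 (.node 4 (.node 2 (.node 1 (.one ⟨984, 5, 4⟩) (.one ⟨16063, 6, 4⟩)) (.node 1 (.one ⟨6720, 5, 2⟩) (.one ⟨6478, 5, 2⟩))) (.node 2 (.node 1 (.one ⟨14886, 5, 3⟩) (.one ⟨11334, 6, 4⟩)) (.node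 1 (.one ⟨15961, 6, 5⟩) (.one ⟨1319, 2, 2⟩)))) (.node 4 (.node 2 (.node 1 (.one ⟨9164, 4, 3⟩) (.one ⟨12793, 5, 2⟩)) (.node 1 (.one ⟨9534, 6, 3⟩) (.one ⟨672, 5, 4⟩))) (.node 2 (.node 1 (.one ⟨12626, 5, 3⟩) (.one ⟨3920, 5, 4⟩)) (.node 1 (.one ⟨11237, 5, 3⟩) (.one ⟨8070, 4, 2⟩)))))) (.node 16 (.node 8 (.node 4 (.node 2 (.node 1 (.one ⟨3020, 3, 3⟩) (.one ⟨12864, 5, 3⟩)) (.node 1 (.one ⟨6748, 5, 4⟩) (.one ⟨6696, 6, 4⟩))) (.node 2 (.node 1 (.one ⟨1267, 3, 2⟩) (.one ⟨6517, 5, 3⟩)) (.node 1 (.one ⟨12351, 5, 3⟩) (.one ⟨5193, 4, 3⟩)))) (.node 4 (.node 2 (.node 1 (.one ⟨15496, 5, 3⟩) (.one ⟨10406, 5, 4⟩)) (.node 1 (.one ⟨14369, 6, 4⟩) (.one ⟨8525, 0, 4⟩))) (.node 2 (.node 1 (.one ⟨8400, 0, 4⟩) (.one ⟨15522, 5, 4⟩)) (.node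 1 (.one ⟨6791, 5, 4⟩) (.one ⟨16662, 6, 5⟩))))) (.node 8 (.node 4 (.node 2 (.node 1 (.one ⟨13085, 5, 4⟩) (.one ⟨9149, 3, 1⟩)) (.node 1 (.one ⟨5004, 5, 3⟩) (.one ⟨13666, 5, 4⟩))) (.node 2 (.node 1 (.one ⟨4992, 5, 4⟩) (.one ⟨690, 4, 3⟩)) (.node 1 (.one ⟨3093, 4, 5⟩) (.one ⟨13287, 5, 4⟩)))) (.node 4 (.node 2 (.node 1 (.one ⟨7302, 6, 4⟩) (.one ⟨10301, 5, 5⟩)) (.node 1 (.one ⟨9406, 5, 3⟩) (.one ⟨6355, 4, 2⟩))) (.node 2 (.node 1 (.one ⟨10691, 5, 3⟩) (.one ⟨17006, 4, 3⟩)) (.node 1 (.one ⟨13361, 5, 3⟩) (.one ⟨5324, 4, 2⟩)))))))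
def par3_6_10 : Arr Par :=
  (.node 32 (.node 16 (.node 8 (.node 4 (.node 2 (.node 1 (.one ⟨7604, 5, 4⟩) (.one ⟨12117, 4, 3⟩)) (.node 1 (.one ⟨6738, 0, 3⟩) (.one ⟨7640, 6, 5⟩))) (.node 2 (.node 1 (.one ⟨14600, 5, 2⟩) (.one ⟨4133, 4, 2⟩)) (.node 1 (.one ⟨8507, 0, 4⟩) (.one ⟨9452, 2, 3⟩)))) (.node 4 (.node 2 (.node 1 (.one ⟨16582, 4, 2⟩) (.one ⟨14810, 6, 3⟩)) (.node 1 (.one ⟨552, 5, 3⟩) (.one ⟨9138, 6, 1⟩))) (.node 2 (.node 1 (.one ⟨16630, 6, 4⟩) (.one ⟨9858, 4, 1⟩)) (.node 1 (.one ⟨3650, 6, 3⟩) (.one ⟨5234, 1, 3⟩))))) (.node 8 (.node 4 (.node 2 (.node 1 (.one ⟨3768, 4, 5⟩) (.one ⟨1264, 3, 2⟩)) (.node 1 (.one ⟨7836, 6, 5⟩) (.one ⟨9283, 6, 1⟩))) (.node 2 (.node 1 (.one ⟨7280, 6, 3⟩) (.one ⟨3020, 1, 3⟩)) (.node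 1 (.one ⟨16497, 4, 3⟩) (.one ⟨3192, 5, 2⟩)))) (.node 4 (.node 2 (.node 1 (.one ⟨3184, 5, 4⟩) (.one ⟨13251, 4, 2⟩)) (.node 1 (.one ⟨9444, 4, 3⟩) (.one ⟨11102, 4, 4⟩))) (.node 2 (.node 1 (.one ⟨11310, 5, 4⟩) (.one ⟨11271, 5, 2⟩)) (.node 1 (.one ⟨10845, 0, 3⟩) (.one ⟨8962, 5, 4⟩)))))) (.node 16 (.node 8 (.node 4 (.node 2 (.node 1 (.one ⟨1109, 6, 2⟩) (.one ⟨2882, 6, 4⟩)) (.node 1 (.one ⟨1321, 4, 3⟩) (.one ⟨2268, 4, 3⟩))) (.node 2 (.node 1 (.one ⟨10974, 6, 4⟩) (.one ⟨9528, 6, 2⟩)) (.node 1 (.one ⟨2894, 6, 4⟩) (.one ⟨9156, 4, 2⟩)))) (.node 4 (.node 2 (.node 1 (.one ⟨13081, 5, 4⟩) (.one ⟨1322, 2, 2⟩)) (.node 1 (.one ⟨10289, 5, 3⟩) (.one ⟨7522, 1, 3⟩))) (.node 2 (.node 1 (.one ⟨8199, 5, 2⟩) (.one ⟨11429, 1, 3⟩)) (.node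 1 (.one ⟨10929, 1, 3⟩) (.one ⟨7846, 6, 3⟩))))) (.node 8 (.node 4 (.node 2 (.node 1 (.one ⟨6337, 4, 4⟩) (.one ⟨15913, 5, 3⟩)) (.node 1 (.one ⟨8890, 6, 3⟩) (.one ⟨11495, 1, 2⟩))) (.node 2 (.node 1 (.one ⟨5641, 5, 4⟩) (.one ⟨10679, 5, 3⟩)) (.node 1 (.one ⟨11208, 4, 4⟩) (.one ⟨15593, 5, 4⟩)))) (.node 4 (.node 2 (.node 1 (.one ⟨15652, 5, 4⟩) (.one ⟨11191, 4, 3⟩)) (.node 1 (.one ⟨7473, 3, 2⟩) (.one ⟨10210, 5, 4⟩))) (.node 2 (.node 1 (.one ⟨2995, 2, 1⟩) (.one ⟨14975, 4, 3⟩)) (.node 1 (.one ⟨2127, 6, 3⟩) (.one ⟨5868, 5, 5⟩)))))))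
def par3_6_11 : Arr Par :=
  (.node 32 (.node 16 (.node 8 (.node 4 (.node 2 (.node 1 (.one ⟨6712, 3, 5⟩) (.one ⟨7394, 5, 4⟩)) (.node 1 (.one ⟨15304, 6, 3⟩) (.one ⟨896, 6, 4⟩))) (.node 2 (.node 1 (.one ⟨7485, 5, 5⟩) (.one ⟨14369, 4, 4⟩)) (.node 1 (.one ⟨6001, 5, 5⟩) (.one ⟨2927, 2, 1⟩)))) (.node 4 (.node 2 (.node 1 (.one ⟨15355, 5, 4⟩) (.one ⟨3192, 3, 2⟩)) (.node 1 (.one ⟨14346, 6, 3⟩) (.one ⟨5546, 5, 5⟩))) (.node 2 (.node 1 (.one ⟨3117, 5, 4⟩) (.one ⟨12431, 5, 3⟩)) (.node 1 (.one ⟨5436, 6, 3⟩) (.one ⟨4791, 6, 4⟩))))) (.node 8 (.node 4 (.node 2 (.node 1 (.one ⟨15022, 4, 4⟩) (.one ⟨11484, 6, 2⟩)) (.node 1 (.one ⟨6846, 6, 4⟩) (.one ⟨1033, 4, 4⟩))) (.node 2 (.node 1 (.one ⟨3391, 5, 5⟩) (.one ⟨1119, 5, 5⟩)) (.node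 1 (.one ⟨7552, 5, 4⟩) (.one ⟨15193, 1, 3⟩)))) (.node 4 (.node 2 (.node 1 (.one ⟨12822, 5, 4⟩) (.one ⟨15087, 0, 4⟩)) (.node 1 (.one ⟨7192, 1, 3⟩) (.one ⟨6652, 5, 4⟩))) (.node 2 (.node 1 (.one ⟨7160, 1, 3⟩) (.one ⟨9419, 6, 2⟩)) (.node 1 (.one ⟨2427, 5, 4⟩) (.one ⟨5831, 6, 5⟩)))))) (.node 16 (.node 8 (.node 4 (.node 2 (.node 1 (.one ⟨10633, 5, 4⟩) (.one ⟨14183, 3, 4⟩)) (.node 1 (.one ⟨2926, 0, 4⟩) (.one ⟨7855, 5, 5⟩))) (.node 2 (.node 1 (.one ⟨8446, 4, 4⟩) (.one ⟨8973, 5, 4⟩)) (.node 1 (.one ⟨16171, 4, 2⟩) (.one ⟨12544, 1, 3⟩)))) (.node 4 (.node 2 (.node 1 (.one ⟨4517, 1, 3⟩) (.one ⟨11893, 5, 4⟩)) (.node 1 (.one ⟨17139, 5, 2⟩) (.one ⟨2914, 0, 3⟩))) (.node 2 (.node 1 (.one ⟨12537, 1, 3⟩) (.one ⟨7322, 6, 5⟩)) (.node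 1 (.one ⟨7290, 6, 4⟩) (.one ⟨2147, 5, 4⟩))))) (.node 8 (.node 4 (.node 2 (.node 1 (.one ⟨246, 6, 5⟩) (.one ⟨1160, 6, 4⟩)) (.node 1 (.one ⟨4346, 6, 3⟩) (.one ⟨4351, 5, 4⟩))) (.node 2 (.node 1 (.one ⟨4059, 5, 4⟩) (.one ⟨7349, 5, 2⟩)) (.node 1 (.one ⟨7533, 5, 2⟩) (.one ⟨16052, 5, 4⟩)))) (.node 4 (.node 2 (.node 1 (.one ⟨10883, 0, 4⟩) (.one ⟨16868, 5, 3⟩)) (.node 1 (.one ⟨17091, 5, 5⟩) (.one ⟨11160, 4, 2⟩))) (.node 2 (.node 1 (.one ⟨13508, 4, 2⟩) (.one ⟨1858, 5, 4⟩)) (.node 1 (.one ⟨1254, 5, 3⟩) (.one ⟨9360, 5, 5⟩)))))))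
def par3_6_12 : Arr Par :=
  (.node 32 (.node 16 (.node 8 (.node 4 (.node 2 (.node 1 (.one ⟨12299, 6, 4⟩) (.one ⟨13943, 5, 5⟩)) (.node 1 (.one ⟨13168, 5, 5⟩) (.one ⟨8545, 6, 4⟩))) (.node 2 (.node 1 (.one ⟨5240, 5, 5⟩) (.one ⟨15252, 6, 4⟩)) (.node 1 (.one ⟨8816, 5, 4⟩) (.one ⟨294, 6, 5⟩)))) (.node 4 (.node 2 (.node 1 (.one ⟨4064, 6, 3⟩) (.one ⟨9771, 5, 2⟩)) (.node 1 (.one ⟨4981, 5, 5⟩) (.one ⟨4345, 5, 5⟩))) (.node 2 (.node 1 (.one ⟨11273, 5, 2⟩) (.one ⟨4069, 5, 4⟩)) (.node 1 (.one ⟨11540, 5, 2⟩) (.one ⟨274, 5, 4⟩))))) (.node 8 (.node 4 (.node 2 (.node 1 (.one ⟨14950, 4, 3⟩) (.one ⟨3158, 5, 3⟩)) (.node 1 (.one ⟨613, 5, 4⟩) (.one ⟨9910, 0, 1⟩))) (.node 2 (.node 1 (.one ⟨8212, 6, 4⟩) (.one ⟨786, 5, 3⟩)) (.node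 1 (.one ⟨12275, 6, 3⟩) (.one ⟨15407, 4, 4⟩)))) (.node 4 (.node 2 (.node 1 (.one ⟨476, 6, 4⟩) (.one ⟨10076, 3, 3⟩)) (.node 1 (.one ⟨11213, 6, 4⟩) (.one ⟨3506, 5, 4⟩))) (.node 2 (.node 1 (.one ⟨15597, 4, 3⟩) (.one ⟨15230, 6, 4⟩)) (.node 1 (.one ⟨10202, 5, 5⟩) (.one ⟨1876, 6, 3⟩)))))) (.node 16 (.node 8 (.node 4 (.node 2 (.node 1 (.one ⟨15528, 3, 4⟩) (.one ⟨15223, 4, 4⟩)) (.node 1 (.one ⟨2065, 6, 3⟩) (.one ⟨7096, 5, 4⟩))) (.node 2 (.node 1 (.one ⟨2431, 4, 4⟩) (.one ⟨6285, 1, 2⟩)) (.node 1 (.one ⟨11096, 5, 3⟩) (.one ⟨11622, 6, 3⟩)))) (.node 4 (.node 2 (.node 1 (.one ⟨6020, 6, 4⟩) (.one ⟨7565, 5, 3⟩)) (.node 1 (.one ⟨9858, 0, 1⟩) (.one ⟨13102, 6, 5⟩))) (.node 2 (.node 1 (.one ⟨9886, 0, 1⟩) (.one ⟨614, 5, 4⟩)) (.node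 1 (.one ⟨528, 5, 4⟩) (.one ⟨6294, 3, 4⟩))))) (.node 8 (.node 4 (.node 2 (.node 1 (.one ⟨15994, 5, 5⟩) (.one ⟨16231, 5, 4⟩)) (.node 1 (.one ⟨11614, 5, 5⟩) (.one ⟨14337, 5, 3⟩))) (.node 2 (.node 1 (.one ⟨9518, 5, 3⟩) (.one ⟨10781, 5, 3⟩)) (.node 1 (.one ⟨1909, 0, 3⟩) (.one ⟨1084, 5, 4⟩)))) (.node 4 (.node 2 (.node 1 (.one ⟨2826, 5, 4⟩) (.one ⟨2018, 5, 3⟩)) (.node 1 (.one ⟨2933, 5, 4⟩) (.one ⟨14872, 5, 4⟩))) (.node 2 (.node 1 (.one ⟨13726, 5, 4⟩) (.one ⟨6770, 6, 4⟩)) (.node 1 (.one ⟨546, 1, 4⟩) (.one ⟨5969, 6, 3⟩)))))))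
def par3_6_13 : Arr Par :=
  (.node 32 (.node 16 (.node 8 (.node 4 (.node 2 (.node 1 (.one ⟨2506, 5, 4⟩) (.one ⟨5354, 6, 2⟩)) (.node 1 (.one ⟨10310, 5, 4⟩) (.one ⟨4555, 1, 2⟩))) (.node 2 (.node 1 (.one ⟨15739, 6, 3⟩) (.one ⟨876, 5, 4⟩)) (.node 1 (.one ⟨2450, 5, 5⟩) (.one ⟨5598, 6, 4⟩)))) (.node 4 (.node 2 (.node 1 (.one ⟨11505, 5, 4⟩) (.one ⟨11316, 3, 4⟩)) (.node 1 (.one ⟨5149, 5, 5⟩) (.one ⟨11809, 6, 4⟩))) (.node 2 (.node 1 (.one ⟨11905, 5, 4⟩) (.one ⟨2891, 6, 3⟩)) (.node 1 (.one ⟨877, 5, 3⟩) (.one ⟨14900, 4, 2⟩))))) (.node 8 (.node 4 (.node 2 (.node 1 (.one ⟨10798, 0, 3⟩) (.one ⟨14975, 6, 3⟩)) (.node 1 (.one ⟨10151, 6, 4⟩) (.one ⟨2965, 0, 3⟩))) (.node 2 (.node 1 (.one ⟨6282, 5, 5⟩) (.one ⟨11191, 6, 3⟩)) (.node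 1 (.one ⟨14408, 6, 2⟩) (.one ⟨15463, 6, 3⟩)))) (.node 4 (.node 2 (.node 1 (.one ⟨15378, 4, 3⟩) (.one ⟨13076, 5, 4⟩)) (.node 1 (.one ⟨7878, 5, 2⟩) (.one ⟨8064, 3, 4⟩))) (.node 2 (.node 1 (.one ⟨1670, 4, 3⟩) (.one ⟨5667, 6, 4⟩)) (.node 1 (.one ⟨11309, 6, 4⟩) (.one ⟨1063, 4, 2⟩)))))) (.node 16 (.node 8 (.node 4 (.node 2 (.node 1 (.one ⟨16934, 5, 5⟩) (.one ⟨4599, 1, 2⟩)) (.node 1 (.one ⟨11230, 5, 5⟩) (.one ⟨7680, 4, 3⟩))) (.node 2 (.node 1 (.one ⟨14664, 5, 4⟩) (.one ⟨5870, 4, 4⟩)) (.node 1 (.one ⟨12609, 5, 3⟩) (.one ⟨12023, 5, 4⟩)))) (.node 4 (.node 2 (.node 1 (.one ⟨2708, 0, 2⟩) (.one ⟨3542, 6, 1⟩)) (.node 1 (.one ⟨12626, 1, 3⟩) (.one ⟨6289, 1, 3⟩))) (.node 2 (.node 1 (.one ⟨3019, 5, 5⟩) (.one ⟨9227, 3, 4⟩)) (.node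 1 (.one ⟨1423, 5, 4⟩) (.one ⟨10463, 3, 3⟩))))) (.node 8 (.node 4 (.node 2 (.node 1 (.one ⟨5322, 6, 4⟩) (.one ⟨11715, 4, 4⟩)) (.node 1 (.one ⟨9413, 5, 3⟩) (.one ⟨10603, 0, 3⟩))) (.node 2 (.node 1 (.one ⟨11630, 5, 5⟩) (.one ⟨11710, 5, 4⟩)) (.node 1 (.one ⟨10152, 4, 3⟩) (.one ⟨5145, 5, 5⟩)))) (.node 4 (.node 2 (.node 1 (.one ⟨14325, 6, 4⟩) (.one ⟨12648, 5, 4⟩)) (.node 1 (.one ⟨15523, 5, 4⟩) (.one ⟨482, 5, 4⟩))) (.node 2 (.node 1 (.one ⟨4393, 6, 4⟩) (.one ⟨13887, 6, 3⟩)) (.node 1 (.one ⟨13919, 3, 4⟩) (.one ⟨8381, 5, 5⟩)))))))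
def par3_6_14 : Arr Par :=
  (.node 32 (.node 16 (.node 8 (.node 4 (.node 2 (.node 1 (.one ⟨10828, 5, 3⟩) (.one ⟨2793, 3, 4⟩)) (.node 1 (.one ⟨14569, 6, 4⟩) (.one ⟨15754, 5, 4⟩))) (.node 2 (.node 1 (.one ⟨1785, 5, 4⟩) (.one ⟨2992, 5, 4⟩)) (.node 1 (.one ⟨3613, 4, 4⟩) (.one ⟨12589, 6, 3⟩)))) (.node 4 (.node 2 (.node 1 (.one ⟨9550, 5, 3⟩) (.one ⟨5784, 2, 2⟩)) (.node 1 (.one ⟨3598, 5, 4⟩) (.one ⟨17146, 6, 2⟩))) (.node 2 (.node 1 (.one ⟨15697, 4, 4⟩) (.one ⟨6512, 6, 3⟩)) (.node 1 (.one ⟨3868, 5, 5⟩) (.one ⟨10047, 6, 3⟩))))) (.node 8 (.node 4 (.node 2 (.node 1 (.one ⟨11310, 6, 4⟩) (.one ⟨1022, 6, 3⟩)) (.node 1 (.one ⟨6803, 4, 2⟩) (.one ⟨11218, 6, 4⟩))) (.node 2 (.node 1 (.one ⟨8018, 4, 4⟩) (.one ⟨3419, 6, 4⟩)) (.node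 1 (.one ⟨15398, 0, 3⟩) (.one ⟨7748, 6, 4⟩)))) (.node 4 (.node 2 (.node 1 (.one ⟨13595, 6, 2⟩) (.one ⟨12087, 6, 5⟩)) (.node 1 (.one ⟨14490, 5, 3⟩) (.one ⟨8450, 6, 3⟩))) (.node 2 (.node 1 (.one ⟨12314, 6, 5⟩) (.one ⟨13133, 6, 3⟩)) (.node 1 (.one ⟨7957, 6, 3⟩) (.one ⟨2226, 6, 3⟩)))))) (.node 16 (.node 8 (.node 4 (.node 2 (.node 1 (.one ⟨13722, 5, 5⟩) (.one ⟨13714, 5, 5⟩)) (.node 1 (.one ⟨5644, 5, 5⟩) (.one ⟨13682, 5, 5⟩))) (.node 2 (.node 1 (.one ⟨5677, 5, 5⟩) (.one ⟨5663, 5, 5⟩)) (.node 1 (.one ⟨13692, 5, 5⟩) (.one ⟨8745, 5, 4⟩)))) (.node 4 (.node 2 (.node 1 (.one ⟨14242, 6, 4⟩) (.one ⟨14624, 5, 4⟩)) (.node 1 (.one ⟨1616, 5, 5⟩) (.one ⟨12304, 6, 3⟩))) (.node 2 (.node 1 (.one ⟨8595, 6, 3⟩) (.one ⟨6445, 5, 2⟩))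 (.node 1 (.one ⟨15780, 6, 3⟩) (.one ⟨6793, 5, 4⟩))))) (.node 8 (.node 4 (.node 2 (.node 1 (.one ⟨13307, 6, 4⟩) (.one ⟨2376, 6, 4⟩)) (.node 1 (.one ⟨13270, 6, 4⟩) (.one ⟨10400, 5, 4⟩))) (.node 2 (.node 1 (.one ⟨5941, 4, 2⟩) (.one ⟨396, 5, 3⟩)) (.node 1 (.one ⟨4491, 5, 4⟩) (.one ⟨10119, 6, 3⟩)))) (.node 4 (.node 2 (.node 1 (.one ⟨9945, 4, 3⟩) (.one ⟨14881, 5, 4⟩)) (.node 1 (.one ⟨15242, 6, 4⟩) (.one ⟨3988, 0, 4⟩))) (.node 2 (.node 1 (.one ⟨14492, 6, 3⟩) (.one ⟨13597, 4, 4⟩)) (.node 1 (.one ⟨2462, 5, 4⟩) (.one ⟨12344, 6, 5⟩)))))))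
def par3_6_15 : Arr Par :=
  (.node 32 (.node 16 (.node 8 (.node 4 (.node 2 (.node 1 (.one ⟨3951, 5, 3⟩) (.one ⟨16679, 4, 2⟩)) (.node 1 (.one ⟨2758, 5, 4⟩) (.one ⟨16237, 5, 5⟩))) (.node 2 (.node 1 (.one ⟨4511, 5, 3⟩) (.one ⟨4458, 0, 3⟩)) (.node 1 (.one ⟨6115, 6, 5⟩) (.one ⟨4206, 5, 4⟩)))) (.node 4 (.node 2 (.node 1 (.one ⟨14758, 6, 4⟩) (.one ⟨9889, 6, 4⟩)) (.node 1 (.one ⟨4617, 3, 3⟩) (.one ⟨2893, 4, 3⟩))) (.node 2 (.node 1 (.one ⟨10013, 6, 5⟩) (.one ⟨15323, 5, 4⟩)) (.node 1 (.one ⟨6402, 1, 3⟩) (.one ⟨8222, 3, 5⟩))))) (.node 8 (.node 4 (.node 2 (.node 1 (.one ⟨5298, 3, 5⟩) (.one ⟨13450, 6, 3⟩)) (.node 1 (.one ⟨4589, 3, 5⟩) (.one ⟨12622, 6, 4⟩))) (.node 2 (.node 1 (.one ⟨397, 5, 3⟩) (.one ⟨15049, 0, 3⟩)) (.node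 1 (.one ⟨8551, 4, 3⟩) (.one ⟨3736, 5, 4⟩)))) (.node 4 (.node 2 (.node 1 (.one ⟨7324, 6, 4⟩) (.one ⟨3738, 5, 5⟩)) (.node 1 (.one ⟨14024, 4, 4⟩) (.one ⟨14717, 0, 3⟩))) (.node 2 (.node 1 (.one ⟨3737, 5, 3⟩) (.one ⟨683, 5, 3⟩)) (.node 1 (.one ⟨10336, 0, 3⟩) (.one ⟨5334, 4, 4⟩)))))) (.node 16 (.node 8 (.node 4 (.node 2 (.node 1 (.one ⟨6133, 6, 5⟩) (.one ⟨16792, 0, 3⟩)) (.node 1 (.one ⟨14906, 4, 2⟩) (.one ⟨6182, 6, 4⟩))) (.node 2 (.node 1 (.one ⟨11005, 0, 3⟩) (.one ⟨15565, 4, 2⟩)) (.node 1 (.one ⟨12505, 0, 3⟩) (.one ⟨14964, 6, 3⟩)))) (.node 4 (.node 2 (.node 1 (.one ⟨5521, 4, 5⟩) (.one ⟨110, 6, 5⟩)) (.node 1 (.one ⟨13578, 5, 4⟩) (.one ⟨10512, 2, 1⟩))) (.node 2 (.node 1 (.one ⟨12335, 4, 4⟩) (.one ⟨6630, 6, 4⟩)) (.node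 1 (.one ⟨9791, 6, 2⟩) (.one ⟨15885, 5, 3⟩))))) (.node 8 (.node 4 (.node 2 (.node 1 (.one ⟨6816, 5, 3⟩) (.one ⟨14133, 5, 5⟩)) (.node 1 (.one ⟨9590, 6, 3⟩) (.one ⟨9832, 5, 3⟩))) (.node 2 (.node 1 (.one ⟨4830, 5, 5⟩) (.one ⟨2960, 3, 1⟩)) (.node 1 (.one ⟨14897, 4, 3⟩) (.one ⟨12981, 6, 3⟩)))) (.node 4 (.node 2 (.node 1 (.one ⟨1473, 6, 2⟩) (.one ⟨6609, 3, 3⟩)) (.node 1 (.one ⟨14718, 6, 4⟩) (.one ⟨13847, 5, 5⟩))) (.node 2 (.node 1 (.one ⟨13591, 4, 2⟩) (.one ⟨10606, 5, 2⟩)) (.node 1 (.one ⟨2180, 6, 4⟩) (.one ⟨13825, 5, 4⟩)))))))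
def par3_6 : Arr Par :=
  (.node 512 (.node 256 (.node 128 (.node 64 par3_6_0 par3_6_1) (.node 64 par3_6_2 par3_6_3)) (.node 128 (.node 64 par3_6_4 par3_6_5) (.node 64 par3_6_6 par3_6_7))) (.node 256 (.node 128 (.node 64 par3_6_8 par3_6_9) (.node 64 par3_6_10 par3_6_11)) (.node 128 (.node 64 par3_6_12 par3_6_13) (.node 64 par3_6_14 par3_6_15))))
def par3_7_0 : Arr Par :=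
  (.node 32 (.node 16 (.node 8 (.node 4 (.node 2 (.node 1 (.one ⟨12278, 1, 4⟩) (.one ⟨5911, 5, 3⟩)) (.node 1 (.one ⟨9411, 5, 3⟩) (.one ⟨6858, 1, 4⟩))) (.node 2 (.node 1 (.one ⟨11274, 4, 2⟩) (.one ⟨4599, 6, 2⟩)) (.node 1 (.one ⟨3649, 5, 4⟩) (.one ⟨11115, 6, 5⟩)))) (.node 4 (.node 2 (.node 1 (.one ⟨9135, 5, 4⟩) (.one ⟨10200, 5, 4⟩)) (.node 1 (.one ⟨4064, 4, 3⟩) (.one ⟨15270, 3, 3⟩))) (.node 2 (.node 1 (.one ⟨3062, 6, 5⟩) (.one ⟨5310, 3, 3⟩)) (.node 1 (.one ⟨6002, 5, 3⟩) (.one ⟨4959, 4, 3⟩))))) (.node 8 (.node 4 (.node 2 (.node 1 (.one ⟨15229, 3, 3⟩) (.one ⟨7445, 6, 2⟩)) (.node 1 (.one ⟨8933, 5, 4⟩) (.one ⟨11946, 5, 4⟩))) (.node 2 (.node 1 (.one ⟨12410, 4, 3⟩) (.one ⟨7235, 5, 3⟩)) (.node 1 (.one ⟨160, 4, 2⟩) (.one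 ⟨6626, 6, 3⟩)))) (.node 4 (.node 2 (.node 1 (.one ⟨1417, 6, 2⟩) (.one ⟨15946, 6, 2⟩)) (.node 1 (.one ⟨13066, 6, 3⟩) (.one ⟨6118, 3, 2⟩))) (.node 2 (.node 1 (.one ⟨2629, 4, 3⟩) (.one ⟨12881, 6, 4⟩)) (.node 1 (.one ⟨15897, 6, 3⟩) (.one ⟨12481, 0, 4⟩)))))) (.node 16 (.node 8 (.node 4 (.node 2 (.node 1 (.one ⟨12594, 6, 2⟩) (.one ⟨5841, 5, 4⟩)) (.node 1 (.one ⟨1314, 6, 3⟩) (.one ⟨12739, 5, 2⟩))) (.node 2 (.node 1 (.one ⟨6977, 0, 3⟩) (.one ⟨3316, 2, 2⟩)) (.node 1 (.one ⟨6094, 5, 5⟩) (.one ⟨8713, 5, 4⟩)))) (.node 4 (.node 2 (.node 1 (.one ⟨507, 4, 5⟩) (.one ⟨14106, 5, 4⟩)) (.node 1 (.one ⟨2597, 1, 3⟩) (.one ⟨14713, 3, 3⟩))) (.node 2 (.node 1 (.one ⟨14912, 6, 4⟩) (.one ⟨549, 4, 4⟩)) (.node 1 (.one ⟨5839, 5, 3⟩) (.one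 ⟨8466, 4, 4⟩))))) (.node 8 (.node 4 (.node 2 (.node 1 (.one ⟨7910, 0, 4⟩) (.one ⟨14735, 4, 3⟩)) (.node 1 (.one ⟨3183, 4, 3⟩) (.one ⟨14490, 4, 3⟩))) (.node 2 (.node 1 (.one ⟨10079, 6, 3⟩) (.one ⟨848, 6, 5⟩)) (.node 1 (.one ⟨12893, 0, 4⟩) (.one ⟨15744, 6, 4⟩)))) (.node 4 (.node 2 (.node 1 (.one ⟨14185, 2, 2⟩) (.one ⟨5852, 2, 2⟩)) (.node 1 (.one ⟨5826, 0, 4⟩) (.one ⟨5626, 5, 4⟩))) (.node 2 (.node 1 (.one ⟨15026, 5, 4⟩) (.one ⟨12026, 6, 4⟩)) (.node 1 (.one ⟨12291, 5, 4⟩) (.one ⟨8983, 5, 5⟩)))))))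
def par3_7_1 : Arr Par :=
  (.node 32 (.node 16 (.node 8 (.node 4 (.node 2 (.node 1 (.one ⟨9031, 6, 4⟩) (.one ⟨14373, 6, 4⟩)) (.node 1 (.one ⟨17061, 5, 3⟩) (.one ⟨5471, 6, 2⟩))) (.node 2 (.node 1 (.one ⟨7247, 5, 5⟩) (.one ⟨15301, 5, 4⟩)) (.node 1 (.one ⟨7085, 0, 3⟩) (.one ⟨9536, 5, 5⟩)))) (.node 4 (.node 2 (.node 1 (.one ⟨2970, 5, 4⟩) (.one ⟨8295, 4, 5⟩)) (.node 1 (.one ⟨10901, 0, 5⟩) (.one ⟨895, 6, 3⟩))) (.node 2 (.node 1 (.one ⟨13, 6, 3⟩) (.one ⟨15042, 5, 4⟩)) (.node 1 (.one ⟨5826, 5, 4⟩) (.one ⟨14148, 6, 4⟩))))) (.node 8 (.node 4 (.node 2 (.node 1 (.one ⟨15045, 5, 4⟩) (.one ⟨15089, 0, 4⟩)) (.node 1 (.one ⟨5648, 6, 2⟩) (.one ⟨2414, 4, 3⟩))) (.node 2 (.node 1 (.one ⟨14519, 5, 4⟩) (.one ⟨16996, 4, 2⟩)) (.node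 1 (.one ⟨10284, 6, 4⟩) (.one ⟨7922, 0, 4⟩)))) (.node 4 (.node 2 (.node 1 (.one ⟨15422, 2, 2⟩) (.one ⟨7004, 6, 4⟩)) (.node 1 (.one ⟨4204, 5, 3⟩) (.one ⟨16846, 6, 4⟩))) (.node 2 (.node 1 (.one ⟨16005, 6, 5⟩) (.one ⟨13272, 6, 3⟩)) (.node 1 (.one ⟨11925, 6, 4⟩) (.one ⟨17141, 5, 4⟩)))))) (.node 16 (.node 8 (.node 4 (.node 2 (.node 1 (.one ⟨9825, 6, 3⟩) (.one ⟨7540, 6, 4⟩)) (.node 1 (.one ⟨11506, 5, 4⟩) (.one ⟨975, 5, 3⟩))) (.node 2 (.node 1 (.one ⟨4487, 5, 4⟩) (.one ⟨6539, 5, 4⟩)) (.node 1 (.one ⟨8078, 6, 4⟩) (.one ⟨12291, 6, 4⟩)))) (.node 4 (.node 2 (.node 1 (.one ⟨6659, 5, 3⟩) (.one ⟨10606, 4, 2⟩)) (.node 1 (.one ⟨2144, 6, 4⟩) (.one ⟨15230, 5, 4⟩))) (.node 2 (.node 1 (.one ⟨15192, 1, 4⟩) (.one ⟨12571, 1, 4⟩))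 (.node 1 (.one ⟨5459, 3, 3⟩) (.one ⟨1080, 5, 5⟩))))) (.node 8 (.node 4 (.node 2 (.node 1 (.one ⟨1344, 6, 2⟩) (.one ⟨10690, 6, 3⟩)) (.node 1 (.one ⟨16989, 6, 4⟩) (.one ⟨10903, 5, 5⟩))) (.node 2 (.node 1 (.one ⟨16756, 1, 3⟩) (.one ⟨11596, 4, 3⟩)) (.node 1 (.one ⟨4156, 6, 4⟩) (.one ⟨13507, 4, 3⟩)))) (.node 4 (.node 2 (.node 1 (.one ⟨9683, 6, 4⟩) (.one ⟨2110, 6, 3⟩)) (.node 1 (.one ⟨1678, 6, 3⟩) (.one ⟨9635, 6, 5⟩))) (.node 2 (.node 1 (.one ⟨10076, 6, 3⟩) (.one ⟨13009, 4, 3⟩)) (.node 1 (.one ⟨8643, 0, 4⟩) (.one ⟨16197, 5, 3⟩)))))))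
def par3_7_2 : Arr Par :=
  (.node 32 (.node 16 (.node 8 (.node 4 (.node 2 (.node 1 (.one ⟨4344, 5, 3⟩) (.one ⟨8694, 1, 4⟩)) (.node 1 (.one ⟨13597, 1, 4⟩) (.one ⟨9516, 5, 2⟩))) (.node 2 (.node 1 (.one ⟨5874, 6, 4⟩) (.one ⟨10742, 5, 4⟩)) (.node 1 (.one ⟨1710, 6, 3⟩) (.one ⟨6396, 6, 4⟩)))) (.node 4 (.node 2 (.node 1 (.one ⟨10912, 0, 5⟩) (.one ⟨14967, 5, 4⟩)) (.node 1 (.one ⟨1762, 5, 4⟩) (.one ⟨6634, 5, 3⟩))) (.node 2 (.node 1 (.one ⟨15298, 4, 3⟩) (.one ⟨9330, 5, 3⟩)) (.node 1 (.one ⟨6967, 5, 5⟩) (.one ⟨1465, 6, 2⟩))))) (.node 8 (.node 4 (.node 2 (.node 1 (.one ⟨17006, 5, 3⟩) (.one ⟨7051, 4, 3⟩)) (.node 1 (.one ⟨2504, 4, 4⟩) (.one ⟨8488, 4, 3⟩))) (.node 2 (.node 1 (.one ⟨17003, 5, 2⟩) (.one ⟨3736, 6, 4⟩)) (.node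 1 (.one ⟨10312, 6, 2⟩) (.one ⟨9579, 6, 4⟩)))) (.node 4 (.node 2 (.node 1 (.one ⟨6634, 0, 3⟩) (.one ⟨4822, 5, 4⟩)) (.node 1 (.one ⟨9577, 6, 4⟩) (.one ⟨8169, 5, 2⟩))) (.node 2 (.node 1 (.one ⟨5920, 0, 3⟩) (.one ⟨712, 6, 3⟩)) (.node 1 (.one ⟨4999, 0, 3⟩) (.one ⟨16497, 5, 3⟩)))))) (.node 16 (.node 8 (.node 4 (.node 2 (.node 1 (.one ⟨4057, 5, 3⟩) (.one ⟨7047, 0, 4⟩)) (.node 1 (.one ⟨7909, 0, 4⟩) (.one ⟨145, 0, 4⟩))) (.node 2 (.node 1 (.one ⟨12697, 5, 4⟩) (.one ⟨5324, 5, 2⟩)) (.node 1 (.one ⟨4154, 4, 3⟩) (.one ⟨1650, 3, 3⟩)))) (.node 4 (.node 2 (.node 1 (.one ⟨10228, 5, 4⟩) (.one ⟨13493, 5, 4⟩)) (.node 1 (.one ⟨2073, 5, 4⟩) (.one ⟨9679, 5, 5⟩))) (.node 2 (.node 1 (.one ⟨13534, 4, 4⟩) (.one ⟨16727, 0, 3⟩)) (.node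 1 (.one ⟨10500, 6, 3⟩) (.one ⟨7900, 5, 3⟩))))) (.node 8 (.node 4 (.node 2 (.node 1 (.one ⟨637, 1, 4⟩) (.one ⟨1134, 5, 4⟩)) (.node 1 (.one ⟨6535, 5, 4⟩) (.one ⟨5299, 6, 3⟩))) (.node 2 (.node 1 (.one ⟨313, 0, 2⟩) (.one ⟨9426, 4, 1⟩)) (.node 1 (.one ⟨3379, 4, 2⟩) (.one ⟨7064, 1, 3⟩)))) (.node 4 (.node 2 (.node 1 (.one ⟨12723, 5, 2⟩) (.one ⟨16280, 6, 3⟩)) (.node 1 (.one ⟨14950, 1, 3⟩) (.one ⟨4633, 6, 4⟩))) (.node 2 (.node 1 (.one ⟨15526, 6, 3⟩) (.one ⟨1106, 2, 2⟩)) (.node 1 (.one ⟨12428, 5, 2⟩) (.one ⟨4771, 0, 4⟩)))))))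
def par3_7_3 : Arr Par :=
  (.node 32 (.node 16 (.node 8 (.node 4 (.node 2 (.node 1 (.one ⟨15442, 4, 4⟩) (.one ⟨12612, 5, 2⟩)) (.node 1 (.one ⟨6609, 5, 3⟩) (.one ⟨9433, 3, 1⟩))) (.node 2 (.node 1 (.one ⟨11466, 0, 4⟩) (.one ⟨15683, 5, 5⟩)) (.node 1 (.one ⟨1522, 5, 4⟩) (.one ⟨3672, 5, 4⟩)))) (.node 4 (.node 2 (.node 1 (.one ⟨16090, 6, 4⟩) (.one ⟨3854, 4, 3⟩)) (.node 1 (.one ⟨2440, 0, 4⟩) (.one ⟨3401, 4, 3⟩))) (.node 2 (.node 1 (.one ⟨8668, 5, 5⟩) (.one ⟨15137, 6, 4⟩)) (.node 1 (.one ⟨12892, 6, 5⟩) (.one ⟨12894, 6, 3⟩))))) (.node 8 (.node 4 (.node 2 (.node 1 (.one ⟨15470, 5, 3⟩) (.one ⟨9431, 4, 4⟩)) (.node 1 (.one ⟨9322, 5, 4⟩) (.one ⟨3379, 3, 2⟩))) (.node 2 (.node 1 (.one ⟨15298, 5, 3⟩) (.one ⟨6823, 6, 3⟩)) (.node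 1 (.one ⟨9878, 5, 3⟩) (.one ⟨16861, 5, 4⟩)))) (.node 4 (.node 2 (.node 1 (.one ⟨3313, 5, 4⟩) (.one ⟨6341, 6, 4⟩)) (.node 1 (.one ⟨12542, 0, 4⟩) (.one ⟨15125, 5, 4⟩))) (.node 2 (.node 1 (.one ⟨5000, 5, 4⟩) (.one ⟨12890, 6, 4⟩)) (.node 1 (.one ⟨13204, 5, 4⟩) (.one ⟨1109, 2, 2⟩)))))) (.node 16 (.node 8 (.node 4 (.node 2 (.node 1 (.one ⟨10815, 6, 3⟩) (.one ⟨9477, 5, 4⟩)) (.node 1 (.one ⟨11395, 6, 3⟩) (.one ⟨14064, 6, 3⟩))) (.node 2 (.node 1 (.one ⟨7092, 6, 3⟩) (.one ⟨14601, 6, 3⟩)) (.node 1 (.one ⟨11760, 5, 3⟩) (.one ⟨5748, 6, 2⟩)))) (.node 4 (.node 2 (.node 1 (.one ⟨15161, 6, 4⟩) (.one ⟨5888, 5, 4⟩)) (.node 1 (.one ⟨1095, 6, 2⟩) (.one ⟨6534, 5, 5⟩))) (.node 2 (.node 1 (.one ⟨2667, 5, 2⟩) (.one ⟨9749, 5, 2⟩)) (.node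 1 (.one ⟨13779, 5, 2⟩) (.one ⟨11044, 6, 5⟩))))) (.node 8 (.node 4 (.node 2 (.node 1 (.one ⟨7051, 5, 3⟩) (.one ⟨4652, 4, 2⟩)) (.node 1 (.one ⟨7202, 6, 4⟩) (.one ⟨3477, 5, 3⟩))) (.node 2 (.node 1 (.one ⟨7064, 6, 3⟩) (.one ⟨10758, 5, 5⟩)) (.node 1 (.one ⟨2690, 6, 3⟩) (.one ⟨5839, 6, 3⟩)))) (.node 4 (.node 2 (.node 1 (.one ⟨9018, 5, 5⟩) (.one ⟨12934, 6, 4⟩)) (.node 1 (.one ⟨5490, 5, 4⟩) (.one ⟨1251, 5, 2⟩))) (.node 2 (.node 1 (.one ⟨5873, 6, 3⟩) (.one ⟨4822, 1, 4⟩)) (.node 1 (.one ⟨12950, 6, 4⟩) (.one ⟨12538, 3, 5⟩)))))))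
def par3_7_4 : Arr Par :=
  (.node 32 (.node 16 (.node 8 (.node 4 (.node 2 (.node 1 (.one ⟨1233, 3, 2⟩) (.one ⟨16673, 6, 3⟩)) (.node 1 (.one ⟨12249, 6, 3⟩) (.one ⟨7177, 6, 5⟩))) (.node 2 (.node 1 (.one ⟨543, 6, 3⟩) (.one ⟨11769, 6, 4⟩)) (.node 1 (.one ⟨9895, 5, 2⟩) (.one ⟨4555, 0, 2⟩)))) (.node 4 (.node 2 (.node 1 (.one ⟨15123, 1, 4⟩) (.one ⟨156, 1, 4⟩)) (.node 1 (.one ⟨5302, 6, 4⟩) (.one ⟨12749, 5, 3⟩))) (.node 2 (.node 1 (.one ⟨9284, 4, 1⟩) (.one ⟨12299, 5, 4⟩)) (.node 1 (.one ⟨11257, 5, 5⟩) (.one ⟨13054, 6, 4⟩))))) (.node 8 (.node 4 (.node 2 (.node 1 (.one ⟨1869, 5, 4⟩) (.one ⟨1857, 5, 4⟩)) (.node 1 (.one ⟨11511, 0, 4⟩) (.one ⟨4651, 6, 2⟩))) (.node 2 (.node 1 (.one ⟨9950, 5, 4⟩) (.one ⟨9283, 4, 1⟩)) (.node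 1 (.one ⟨5938, 0, 4⟩) (.one ⟨5105, 3, 4⟩)))) (.node 4 (.node 2 (.node 1 (.one ⟨1244, 5, 2⟩) (.one ⟨8797, 4, 4⟩)) (.node 1 (.one ⟨2314, 6, 3⟩) (.one ⟨4570, 3, 4⟩))) (.node 2 (.node 1 (.one ⟨15512, 5, 5⟩) (.one ⟨4652, 0, 2⟩)) (.node 1 (.one ⟨5722, 5, 2⟩) (.one ⟨4189, 5, 4⟩)))))) (.node 16 (.node 8 (.node 4 (.node 2 (.node 1 (.one ⟨17126, 5, 4⟩) (.one ⟨11511, 3, 4⟩)) (.node 1 (.one ⟨4439, 6, 3⟩) (.one ⟨11514, 3, 4⟩))) (.node 2 (.node 1 (.one ⟨6649, 4, 3⟩) (.one ⟨6861, 5, 4⟩)) (.node 1 (.one ⟨16177, 0, 2⟩) (.one ⟨10545, 4, 5⟩)))) (.node 4 (.node 2 (.node 1 (.one ⟨3477, 1, 3⟩) (.one ⟨2386, 2, 3⟩)) (.node 1 (.one ⟨13316, 6, 5⟩) (.one ⟨1237, 3, 2⟩))) (.node 2 (.node 1 (.one ⟨17178, 3, 3⟩) (.one ⟨4344, 1, 3⟩)) (.node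 1 (.one ⟨4785, 1, 3⟩) (.one ⟨1376, 4, 4⟩))))) (.node 8 (.node 4 (.node 2 (.node 1 (.one ⟨5269, 5, 5⟩) (.one ⟨3095, 1, 1⟩)) (.node 1 (.one ⟨15740, 5, 3⟩) (.one ⟨13300, 5, 3⟩))) (.node 2 (.node 1 (.one ⟨9259, 5, 4⟩) (.one ⟨7692, 5, 3⟩)) (.node 1 (.one ⟨8357, 3, 4⟩) (.one ⟨7419, 6, 3⟩)))) (.node 4 (.node 2 (.node 1 (.one ⟨2695, 5, 5⟩) (.one ⟨7662, 4, 3⟩)) (.node 1 (.one ⟨13724, 6, 4⟩) (.one ⟨1664, 5, 5⟩))) (.node 2 (.node 1 (.one ⟨1404, 4, 2⟩) (.one ⟨11389, 6, 4⟩)) (.node 1 (.one ⟨5505, 5, 4⟩) (.one ⟨14530, 6, 3⟩)))))))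
def par3_7_5 : Arr Par :=
  (.node 32 (.node 16 (.node 8 (.node 4 (.node 2 (.node 1 (.one ⟨4645, 0, 3⟩) (.one ⟨11894, 5, 4⟩)) (.node 1 (.one ⟨6318, 6, 4⟩) (.one ⟨4122, 5, 3⟩))) (.node 2 (.node 1 (.one ⟨2544, 6, 4⟩) (.one ⟨6835, 3, 3⟩)) (.node 1 (.one ⟨5414, 0, 3⟩) (.one ⟨8301, 1, 2⟩)))) (.node 4 (.node 2 (.node 1 (.one ⟨362, 5, 4⟩) (.one ⟨112, 5, 4⟩)) (.node 1 (.one ⟨6198, 6, 4⟩) (.one ⟨2973, 0, 3⟩))) (.node 2 (.node 1 (.one ⟨14510, 5, 4⟩) (.one ⟨4959, 6, 3⟩)) (.node 1 (.one ⟨6005, 3, 5⟩) (.one ⟨16803, 6, 3⟩))))) (.node 8 (.node 4 (.node 2 (.node 1 (.one ⟨2588, 5, 3⟩) (.one ⟨2891, 5, 3⟩)) (.node 1 (.one ⟨12643, 0, 2⟩) (.one ⟨12364, 5, 4⟩))) (.node 2 (.node 1 (.one ⟨2946, 0, 3⟩) (.one ⟨10072, 5, 4⟩)) (.node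 1 (.one ⟨14179, 6, 4⟩) (.one ⟨14339, 0, 3⟩)))) (.node 4 (.node 2 (.node 1 (.one ⟨3231, 5, 3⟩) (.one ⟨16543, 5, 4⟩)) (.node 1 (.one ⟨9888, 5, 4⟩) (.one ⟨4015, 5, 4⟩))) (.node 2 (.node 1 (.one ⟨7224, 5, 3⟩) (.one ⟨12735, 5, 2⟩)) (.node 1 (.one ⟨16789, 6, 3⟩) (.one ⟨7944, 6, 5⟩)))))) (.node 16 (.node 8 (.node 4 (.node 2 (.node 1 (.one ⟨14355, 0, 4⟩) (.one ⟨5633, 4, 3⟩)) (.node 1 (.one ⟨14411, 6, 2⟩) (.one ⟨11195, 3, 4⟩))) (.node 2 (.node 1 (.one ⟨1492, 5, 4⟩) (.one ⟨14594, 5, 4⟩)) (.node 1 (.one ⟨15186, 5, 4⟩) (.one ⟨13283, 5, 4⟩)))) (.node 4 (.node 2 (.node 1 (.one ⟨4406, 5, 4⟩) (.one ⟨11598, 6, 4⟩)) (.node 1 (.one ⟨1224, 5, 5⟩) (.one ⟨12417, 5, 4⟩))) (.node 2 (.node 1 (.one ⟨5089, 5, 2⟩) (.one ⟨1388, 4, 1⟩))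 (.node 1 (.one ⟨17, 6, 3⟩) (.one ⟨6689, 5, 3⟩))))) (.node 8 (.node 4 (.node 2 (.node 1 (.one ⟨5722, 6, 2⟩) (.one ⟨3767, 6, 4⟩)) (.node 1 (.one ⟨7938, 3, 5⟩) (.one ⟨9873, 6, 4⟩))) (.node 2 (.node 1 (.one ⟨13267, 0, 3⟩) (.one ⟨6949, 3, 3⟩)) (.node 1 (.one ⟨4741, 3, 3⟩) (.one ⟨12653, 6, 3⟩)))) (.node 4 (.node 2 (.node 1 (.one ⟨4088, 5, 3⟩) (.one ⟨3231, 0, 3⟩)) (.node 1 (.one ⟨4119, 4, 4⟩) (.one ⟨4300, 6, 4⟩))) (.node 2 (.node 1 (.one ⟨4575, 3, 3⟩) (.one ⟨3769, 5, 3⟩)) (.node 1 (.one ⟨11596, 0, 3⟩) (.one ⟨3088, 6, 4⟩)))))))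
def par3_7_6 : Arr Par :=
  (.node 32 (.node 16 (.node 8 (.node 4 (.node 2 (.node 1 (.one ⟨5650, 5, 3⟩) (.one ⟨5786, 5, 3⟩)) (.node 1 (.one ⟨6844, 5, 2⟩) (.one ⟨13265, 5, 4⟩))) (.node 2 (.node 1 (.one ⟨13581, 4, 4⟩) (.one ⟨3950, 0, 4⟩)) (.node 1 (.one ⟨3163, 6, 5⟩) (.one ⟨10405, 5, 4⟩)))) (.node 4 (.node 2 (.node 1 (.one ⟨6251, 4, 3⟩) (.one ⟨11521, 6, 2⟩)) (.node 1 (.one ⟨2753, 6, 3⟩) (.one ⟨14019, 6, 3⟩))) (.node 2 (.node 1 (.one ⟨3520, 0, 4⟩) (.one ⟨3169, 1, 2⟩)) (.node 1 (.one ⟨1290, 4, 1⟩) (.one ⟨12895, 6, 3⟩))))) (.node 8 (.node 4 (.node 2 (.node 1 (.one ⟨2512, 4, 3⟩) (.one ⟨4011, 3, 4⟩)) (.node 1 (.one ⟨10603, 6, 3⟩) (.one ⟨11949, 3, 4⟩))) (.node 2 (.node 1 (.one ⟨1191, 4, 4⟩) (.one ⟨14303, 5, 3⟩)) (.node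 1 (.one ⟨2165, 4, 3⟩) (.one ⟨3216, 1, 2⟩)))) (.node 4 (.node 2 (.node 1 (.one ⟨15340, 6, 4⟩) (.one ⟨7804, 5, 5⟩)) (.node 1 (.one ⟨1292, 4, 4⟩) (.one ⟨8447, 5, 3⟩))) (.node 2 (.node 1 (.one ⟨10387, 3, 3⟩) (.one ⟨5637, 5, 3⟩)) (.node 1 (.one ⟨11253, 4, 3⟩) (.one ⟨6956, 6, 2⟩)))))) (.node 16 (.node 8 (.node 4 (.node 2 (.node 1 (.one ⟨2371, 6, 5⟩) (.one ⟨10770, 5, 5⟩)) (.node 1 (.one ⟨3031, 6, 4⟩) (.one ⟨10109, 5, 2⟩))) (.node 2 (.node 1 (.one ⟨7565, 3, 3⟩) (.one ⟨12407, 4, 4⟩)) (.node 1 (.one ⟨2332, 5, 2⟩) (.one ⟨15354, 4, 3⟩)))) (.node 4 (.node 2 (.node 1 (.one ⟨9277, 3, 4⟩) (.one ⟨11478, 3, 4⟩)) (.node 1 (.one ⟨5234, 0, 3⟩) (.one ⟨2995, 5, 1⟩))) (.node 2 (.node 1 (.one ⟨7495, 3, 3⟩) (.one ⟨5063, 5, 4⟩)) (.node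 1 (.one ⟨7492, 6, 5⟩) (.one ⟨11231, 5, 3⟩))))) (.node 8 (.node 4 (.node 2 (.node 1 (.one ⟨9090, 5, 5⟩) (.one ⟨15986, 5, 5⟩)) (.node 1 (.one ⟨14220, 6, 3⟩) (.one ⟨12377, 5, 5⟩))) (.node 2 (.node 1 (.one ⟨6287, 5, 3⟩) (.one ⟨14641, 5, 3⟩)) (.node 1 (.one ⟨9350, 6, 3⟩) (.one ⟨2825, 3, 4⟩)))) (.node 4 (.node 2 (.node 1 (.one ⟨11160, 0, 2⟩) (.one ⟨268, 5, 4⟩)) (.node 1 (.one ⟨10601, 6, 2⟩) (.one ⟨270, 5, 4⟩))) (.node 2 (.node 1 (.one ⟨3166, 5, 3⟩) (.one ⟨269, 5, 4⟩)) (.node 1 (.one ⟨12173, 6, 3⟩) (.one ⟨11382, 6, 4⟩)))))))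
def par3_7_7 : Arr Par :=
  (.node 32 (.node 16 (.node 8 (.node 4 (.node 2 (.node 1 (.one ⟨11155, 0, 2⟩) (.one ⟨4426, 6, 4⟩)) (.node 1 (.one ⟨4870, 6, 5⟩) (.one ⟨9161, 3, 2⟩))) (.node 2 (.node 1 (.one ⟨16026, 6, 5⟩) (.one ⟨4015, 3, 4⟩)) (.node 1 (.one ⟨9098, 5, 4⟩) (.one ⟨8017, 5, 4⟩)))) (.node 4 (.node 2 (.node 1 (.one ⟨14630, 4, 3⟩) (.one ⟨9356, 6, 2⟩)) (.node 1 (.one ⟨1648, 5, 3⟩) (.one ⟨9596, 6, 2⟩))) (.node 2 (.node 1 (.one ⟨11750, 5, 4⟩) (.one ⟨8294, 6, 4⟩)) (.node 1 (.one ⟨1312, 6, 4⟩) (.one ⟨17136, 5, 4⟩))))) (.node 8 (.node 4 (.node 2 (.node 1 (.one ⟨9097, 5, 4⟩) (.one ⟨17179, 5, 4⟩)) (.node 1 (.one ⟨16803, 0, 3⟩) (.one ⟨2468, 6, 4⟩))) (.node 2 (.node 1 (.one ⟨9129, 5, 4⟩) (.one ⟨691, 4, 3⟩)) (.node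 1 (.one ⟨9094, 5, 4⟩) (.one ⟨1833, 3, 5⟩)))) (.node 4 (.node 2 (.node 1 (.one ⟨4710, 6, 4⟩) (.one ⟨17147, 5, 2⟩)) (.node 1 (.one ⟨16582, 3, 2⟩) (.one ⟨5061, 6, 5⟩))) (.node 2 (.node 1 (.one ⟨2692, 6, 4⟩) (.one ⟨4361, 6, 3⟩)) (.node 1 (.one ⟨5477, 5, 3⟩) (.one ⟨10247, 6, 5⟩)))))) (.node 16 (.node 8 (.node 4 (.node 2 (.node 1 (.one ⟨4264, 4, 4⟩) (.one ⟨1048, 3, 2⟩)) (.node 1 (.one ⟨4143, 6, 5⟩) (.one ⟨13687, 6, 5⟩))) (.node 2 (.node 1 (.one ⟨2686, 4, 4⟩) (.one ⟨3813, 5, 2⟩)) (.node 1 (.one ⟨381, 5, 4⟩) (.one ⟨14819, 5, 4⟩)))) (.node 4 (.node 2 (.node 1 (.one ⟨1795, 5, 5⟩) (.one ⟨14705, 5, 4⟩)) (.node 1 (.one ⟨14011, 3, 4⟩) (.one ⟨3034, 0, 3⟩))) (.node 2 (.node 1 (.one ⟨8795, 6, 4⟩) (.one ⟨10696, 6, 4⟩)) (.node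 1 (.one ⟨15491, 5, 2⟩) (.one ⟨3852, 6, 3⟩))))) (.node 8 (.node 4 (.node 2 (.node 1 (.one ⟨14186, 4, 3⟩) (.one ⟨15405, 4, 3⟩)) (.node 1 (.one ⟨3219, 5, 2⟩) (.one ⟨11980, 1, 1⟩))) (.node 2 (.node 1 (.one ⟨4144, 0, 3⟩) (.one ⟨2994, 1, 1⟩)) (.node 1 (.one ⟨12130, 1, 1⟩) (.one ⟨11329, 3, 5⟩)))) (.node 4 (.node 2 (.node 1 (.one ⟨3753, 6, 4⟩) (.one ⟨14907, 3, 3⟩)) (.node 1 (.one ⟨9920, 3, 5⟩) (.one ⟨14928, 6, 4⟩))) (.node 2 (.node 1 (.one ⟨16513, 6, 3⟩) (.one ⟨17175, 5, 4⟩)) (.node 1 (.one ⟨17084, 6, 4⟩) (.one ⟨5857, 5, 3⟩)))))))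
def par3_7_8 : Arr Par :=
  (.node 32 (.node 16 (.node 8 (.node 4 (.node 2 (.node 1 (.one ⟨12736, 5, 2⟩) (.one ⟨16603, 6, 3⟩)) (.node 1 (.one ⟨794, 6, 4⟩) (.one ⟨1975, 5, 3⟩))) (.node 2 (.node 1 (.one ⟨14036, 6, 4⟩) (.one ⟨16415, 6, 2⟩)) (.node 1 (.one ⟨3215, 6, 4⟩) (.one ⟨1930, 5, 4⟩)))) (.node 4 (.node 2 (.node 1 (.one ⟨6740, 5, 4⟩) (.one ⟨16913, 0, 3⟩)) (.node 1 (.one ⟨5473, 6, 3⟩) (.one ⟨5499, 4, 2⟩))) (.node 2 (.node 1 (.one ⟨6215, 5, 2⟩) (.one ⟨7848, 6, 2⟩)) (.node 1 (.one ⟨16891, 6, 4⟩) (.one ⟨11555, 6, 4⟩))))) (.node 8 (.node 4 (.node 2 (.node 1 (.one ⟨16784, 5, 3⟩) (.one ⟨3896, 1, 1⟩)) (.node 1 (.one ⟨9474, 5, 4⟩) (.one ⟨7763, 5, 3⟩))) (.node 2 (.node 1 (.one ⟨16595, 5, 3⟩) (.one ⟨4053, 1, 1⟩)) (.node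 1 (.one ⟨12765, 6, 3⟩) (.one ⟨2917, 5, 4⟩)))) (.node 4 (.node 2 (.node 1 (.one ⟨5905, 6, 5⟩) (.one ⟨1594, 6, 3⟩)) (.node 1 (.one ⟨5223, 3, 5⟩) (.one ⟨8235, 2, 2⟩))) (.node 2 (.node 1 (.one ⟨10927, 3, 5⟩) (.one ⟨8133, 6, 4⟩)) (.node 1 (.one ⟨8600, 4, 3⟩) (.one ⟨11891, 6, 5⟩)))))) (.node 16 (.node 8 (.node 4 (.node 2 (.node 1 (.one ⟨15115, 5, 4⟩) (.one ⟨9325, 5, 5⟩)) (.node 1 (.one ⟨3922, 6, 5⟩) (.one ⟨8932, 6, 5⟩))) (.node 2 (.node 1 (.one ⟨11096, 1, 3⟩) (.one ⟨10427, 6, 4⟩)) (.node 1 (.one ⟨16663, 6, 5⟩) (.one ⟨16327, 6, 5⟩)))) (.node 4 (.node 2 (.node 1 (.one ⟨6798, 5, 4⟩) (.one ⟨10624, 6, 4⟩)) (.node 1 (.one ⟨10037, 5, 4⟩) (.one ⟨11088, 1, 4⟩))) (.node 2 (.node 1 (.one ⟨6887, 6, 4⟩) (.one ⟨15699, 6, 5⟩))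 (.node 1 (.one ⟨9490, 5, 5⟩) (.one ⟨12938, 6, 5⟩))))) (.node 8 (.node 4 (.node 2 (.node 1 (.one ⟨10313, 4, 3⟩) (.one ⟨10313, 5, 3⟩)) (.node 1 (.one ⟨15292, 6, 4⟩) (.one ⟨1431, 4, 4⟩))) (.node 2 (.node 1 (.one ⟨12633, 4, 3⟩) (.one ⟨4187, 0, 4⟩)) (.node 1 (.one ⟨11713, 3, 4⟩) (.one ⟨1426, 2, 3⟩)))) (.node 4 (.node 2 (.node 1 (.one ⟨12235, 5, 3⟩) (.one ⟨11857, 0, 3⟩)) (.node 1 (.one ⟨1189, 5, 4⟩) (.one ⟨6129, 3, 2⟩))) (.node 2 (.node 1 (.one ⟨16229, 6, 5⟩) (.one ⟨15744, 3, 4⟩)) (.node 1 (.one ⟨4039, 0, 4⟩) (.one ⟨3975, 6, 5⟩)))))))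
def par3_7_9 : Arr Par :=
  (.node 32 (.node 16 (.node 8 (.node 4 (.node 2 (.node 1 (.one ⟨9566, 3, 1⟩) (.one ⟨5537, 6, 3⟩)) (.node 1 (.one ⟨11216, 5, 4⟩) (.one ⟨11915, 0, 4⟩))) (.node 2 (.node 1 (.one ⟨3083, 6, 3⟩) (.one ⟨301, 4, 4⟩)) (.node 1 (.one ⟨15722, 5, 3⟩) (.one ⟨5953, 5, 4⟩)))) (.node 4 (.node 2 (.node 1 (.one ⟨7570, 5, 4⟩) (.one ⟨9178, 5, 4⟩)) (.node 1 (.one ⟨11218, 5, 4⟩) (.one ⟨15192, 6, 4⟩))) (.node 2 (.node 1 (.one ⟨11026, 5, 5⟩) (.one ⟨6194, 5, 4⟩)) (.node 1 (.one ⟨7786, 4, 4⟩) (.one ⟨7488, 6, 4⟩))))) (.node 8 (.node 4 (.node 2 (.node 1 (.one ⟨10761, 5, 2⟩) (.one ⟨3769, 6, 3⟩)) (.node 1 (.one ⟨1432, 4, 4⟩) (.one ⟨16760, 5, 2⟩))) (.node 2 (.node 1 (.one ⟨8396, 6, 3⟩) (.one ⟨7002, 6, 3⟩)) (.node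 1 (.one ⟨13447, 5, 5⟩) (.one ⟨9294, 6, 1⟩)))) (.node 4 (.node 2 (.node 1 (.one ⟨13539, 6, 3⟩) (.one ⟨3334, 6, 3⟩)) (.node 1 (.one ⟨3643, 6, 4⟩) (.one ⟨2712, 6, 3⟩))) (.node 2 (.node 1 (.one ⟨4655, 6, 5⟩) (.one ⟨4200, 4, 1⟩)) (.node 1 (.one ⟨1425, 2, 3⟩) (.one ⟨12566, 5, 4⟩)))))) (.node 16 (.node 8 (.node 4 (.node 2 (.node 1 (.one ⟨8662, 5, 4⟩) (.one ⟨4259, 6, 4⟩)) (.node 1 (.one ⟨3779, 0, 4⟩) (.one ⟨525, 5, 4⟩))) (.node 2 (.node 1 (.one ⟨14895, 6, 3⟩) (.one ⟨7268, 5, 5⟩)) (.node 1 (.one ⟨9323, 5, 4⟩) (.one ⟨6858, 5, 4⟩)))) (.node 4 (.node 2 (.node 1 (.one ⟨1866, 5, 4⟩) (.one ⟨12119, 0, 4⟩)) (.node 1 (.one ⟨172, 6, 3⟩) (.one ⟨5031, 6, 3⟩))) (.node 2 (.node 1 (.one ⟨9227, 0, 4⟩) (.one ⟨9528, 4, 2⟩)) (.node 1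 (.one ⟨11112, 5, 3⟩) (.one ⟨9729, 6, 4⟩))))) (.node 8 (.node 4 (.node 2 (.node 1 (.one ⟨10376, 5, 4⟩) (.one ⟨12563, 5, 4⟩)) (.node 1 (.one ⟨11503, 5, 4⟩) (.one ⟨11571, 5, 4⟩))) (.node 2 (.node 1 (.one ⟨10839, 5, 5⟩) (.one ⟨13864, 6, 4⟩)) (.node 1 (.one ⟨9952, 5, 5⟩) (.one ⟨1502, 5, 4⟩)))) (.node 4 (.node 2 (.node 1 (.one ⟨9526, 4, 3⟩) (.one ⟨3261, 5, 5⟩)) (.node 1 (.one ⟨16951, 5, 3⟩) (.one ⟨3517, 5, 4⟩))) (.node 2 (.node 1 (.one ⟨3327, 6, 4⟩) (.one ⟨5102, 5, 4⟩)) (.node 1 (.one ⟨15250, 5, 5⟩) (.one ⟨4257, 0, 4⟩)))))))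
def par3_7_10 : Arr Par :=
  (.node 32 (.node 16 (.node 8 (.node 4 (.node 2 (.node 1 (.one ⟨1425, 4, 3⟩) (.one ⟨16391, 5, 3⟩)) (.node 1 (.one ⟨16320, 5, 5⟩) (.one ⟨14488, 4, 3⟩))) (.node 2 (.node 1 (.one ⟨4578, 4, 3⟩) (.one ⟨9577, 0, 4⟩)) (.node 1 (.one ⟨13831, 6, 2⟩) (.one ⟨3980, 5, 3⟩)))) (.node 4 (.node 2 (.node 1 (.one ⟨1407, 3, 2⟩) (.one ⟨16244, 5, 3⟩)) (.node 1 (.one ⟨16341, 6, 4⟩) (.one ⟨2493, 0, 5⟩))) (.node 2 (.node 1 (.one ⟨17178, 1, 3⟩) (.one ⟨11857, 3, 3⟩)) (.node 1 (.one ⟨3330, 6, 4⟩) (.one ⟨11726, 6, 3⟩))))) (.node 8 (.node 4 (.node 2 (.node 1 (.one ⟨9528, 2, 2⟩) (.one ⟨7044, 5, 5⟩)) (.node 1 (.one ⟨11720, 6, 5⟩) (.one ⟨11870, 0, 4⟩))) (.node 2 (.node 1 (.one ⟨568, 6, 4⟩) (.one ⟨839, 6, 3⟩)) (.node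 1 (.one ⟨9229, 5, 4⟩) (.one ⟨14979, 6, 5⟩)))) (.node 4 (.node 2 (.node 1 (.one ⟨12199, 5, 4⟩) (.one ⟨3452, 5, 4⟩)) (.node 1 (.one ⟨7786, 3, 4⟩) (.one ⟨16656, 5, 3⟩))) (.node 2 (.node 1 (.one ⟨5670, 3, 4⟩) (.one ⟨8004, 5, 4⟩)) (.node 1 (.one ⟨5558, 5, 4⟩) (.one ⟨4947, 1, 5⟩)))))) (.node 16 (.node 8 (.node 4 (.node 2 (.node 1 (.one ⟨414, 6, 5⟩) (.one ⟨16199, 5, 3⟩)) (.node 1 (.one ⟨3585, 3, 4⟩) (.one ⟨9515, 5, 3⟩))) (.node 2 (.node 1 (.one ⟨12280, 0, 3⟩) (.one ⟨1426, 4, 3⟩)) (.node 1 (.one ⟨10753, 4, 2⟩) (.one ⟨2113, 6, 5⟩)))) (.node 4 (.node 2 (.node 1 (.one ⟨9438, 6, 1⟩) (.one ⟨6372, 2, 3⟩)) (.node 1 (.one ⟨17181, 6, 2⟩) (.one ⟨1412, 3, 2⟩))) (.node 2 (.node 1 (.one ⟨11857, 1, 3⟩) (.one ⟨16444, 1, 3⟩)) (.node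 1 (.one ⟨3785, 4, 5⟩) (.one ⟨12204, 5, 4⟩))))) (.node 8 (.node 4 (.node 2 (.node 1 (.one ⟨14951, 5, 4⟩) (.one ⟨7697, 3, 2⟩)) (.node 1 (.one ⟨2467, 0, 2⟩) (.one ⟨4795, 5, 4⟩))) (.node 2 (.node 1 (.one ⟨11980, 2, 1⟩) (.one ⟨3321, 3, 5⟩)) (.node 1 (.one ⟨4972, 5, 4⟩) (.one ⟨13538, 6, 5⟩)))) (.node 4 (.node 2 (.node 1 (.one ⟨9848, 6, 4⟩) (.one ⟨15947, 6, 4⟩)) (.node 1 (.one ⟨3705, 5, 4⟩) (.one ⟨7462, 6, 3⟩))) (.node 2 (.node 1 (.one ⟨9250, 5, 5⟩) (.one ⟨11447, 5, 5⟩)) (.node 1 (.one ⟨5392, 6, 3⟩) (.one ⟨14715, 5, 4⟩)))))))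
def par3_7_11 : Arr Par :=
  (.node 32 (.node 16 (.node 8 (.node 4 (.node 2 (.node 1 (.one ⟨12128, 2, 1⟩) (.one ⟨9279, 5, 4⟩)) (.node 1 (.one ⟨3664, 3, 2⟩) (.one ⟨7223, 3, 5⟩))) (.node 2 (.node 1 (.one ⟨10492, 5, 4⟩) (.one ⟨12146, 6, 5⟩)) (.node 1 (.one ⟨10591, 2, 1⟩) (.one ⟨3679, 6, 5⟩)))) (.node 4 (.node 2 (.node 1 (.one ⟨2768, 5, 3⟩) (.one ⟨12740, 5, 2⟩)) (.node 1 (.one ⟨12165, 2, 3⟩) (.one ⟨11864, 4, 2⟩))) (.node 2 (.node 1 (.one ⟨14313, 5, 3⟩) (.one ⟨8235, 5, 2⟩)) (.node 1 (.one ⟨3693, 3, 3⟩) (.one ⟨3678, 5, 5⟩))))) (.node 8 (.node 4 (.node 2 (.node 1 (.one ⟨10299, 6, 4⟩) (.one ⟨13863, 5, 5⟩)) (.node 1 (.one ⟨11253, 3, 3⟩) (.one ⟨13778, 6, 4⟩))) (.node 2 (.node 1 (.one ⟨9750, 5, 5⟩) (.one ⟨13968, 6, 4⟩))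 (.node 1 (.one ⟨837, 4, 4⟩) (.one ⟨13354, 5, 4⟩)))) (.node 4 (.node 2 (.node 1 (.one ⟨1180, 6, 2⟩) (.one ⟨2617, 5, 4⟩)) (.node 1 (.one ⟨11391, 0, 4⟩) (.one ⟨3066, 5, 4⟩))) (.node 2 (.node 1 (.one ⟨13047, 5, 2⟩) (.one ⟨12280, 1, 3⟩)) (.node 1 (.one ⟨11411, 0, 3⟩) (.one ⟨8401, 6, 3⟩)))))) (.node 16 (.node 8 (.node 4 (.node 2 (.node 1 (.one ⟨8742, 4, 3⟩) (.one ⟨6438, 5, 4⟩)) (.node 1 (.one ⟨15042, 4, 4⟩) (.one ⟨3116, 6, 4⟩))) (.node 2 (.node 1 (.one ⟨2932, 4, 4⟩) (.one ⟨4424, 6, 3⟩)) (.node 1 (.one ⟨16696, 5, 3⟩) (.one ⟨15524, 1, 3⟩)))) (.node 4 (.node 2 (.node 1 (.one ⟨15532, 1, 3⟩) (.one ⟨15736, 5, 4⟩)) (.node 1 (.one ⟨2736, 6, 3⟩) (.one ⟨16960, 5, 4⟩))) (.node 2 (.node 1 (.one ⟨7313, 5, 4⟩) (.one ⟨11575, 5,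 4⟩)) (.node 1 (.one ⟨1666, 5, 4⟩) (.one ⟨3854, 6, 3⟩))))) (.node 8 (.node 4 (.node 2 (.node 1 (.one ⟨1644, 5, 2⟩) (.one ⟨5429, 5, 4⟩)) (.node 1 (.one ⟨10000, 6, 3⟩) (.one ⟨5718, 5, 2⟩))) (.node 2 (.node 1 (.one ⟨13499, 2, 3⟩) (.one ⟨7404, 5, 3⟩)) (.node 1 (.one ⟨9073, 5, 3⟩) (.one ⟨2091, 5, 5⟩)))) (.node 4 (.node 2 (.node 1 (.one ⟨15706, 5, 4⟩) (.one ⟨10295, 6, 4⟩)) (.node 1 (.one ⟨10385, 6, 4⟩) (.one ⟨6654, 6, 4⟩))) (.node 2 (.node 1 (.one ⟨6619, 6, 4⟩) (.one ⟨1073, 5, 5⟩)) (.node 1 (.one ⟨16075, 5, 5⟩) (.one ⟨3196, 4, 4⟩)))))))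
def par3_7_12 : Arr Par :=
  (.node 32 (.node 16 (.node 8 (.node 4 (.node 2 (.node 1 (.one ⟨4973, 6, 4⟩) (.one ⟨10103, 5, 3⟩)) (.node 1 (.one ⟨3839, 6, 4⟩) (.one ⟨10240, 3, 4⟩))) (.node 2 (.node 1 (.one ⟨7761, 3, 4⟩) (.one ⟨16504, 5, 4⟩)) (.node 1 (.one ⟨10259, 4, 3⟩) (.one ⟨13749, 5, 2⟩)))) (.node 4 (.node 2 (.node 1 (.one ⟨14968, 6, 4⟩) (.one ⟨3848, 5, 4⟩)) (.node 1 (.one ⟨15566, 5, 2⟩) (.one ⟨8998, 5, 4⟩))) (.node 2 (.node 1 (.one ⟨9658, 5, 2⟩) (.one ⟨11528, 5, 3⟩)) (.node 1 (.one ⟨2597, 6, 3⟩) (.one ⟨15290, 6, 5⟩))))) (.node 8 (.node 4 (.node 2 (.node 1 (.one ⟨4219, 4, 3⟩) (.one ⟨16093, 6, 4⟩)) (.node 1 (.one ⟨644, 6, 4⟩) (.one ⟨10540, 0, 4⟩))) (.node 2 (.node 1 (.one ⟨14662, 5, 5⟩) (.one ⟨15108, 4, 2⟩))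 (.node 1 (.one ⟨11772, 3, 3⟩) (.one ⟨12980, 6, 3⟩)))) (.node 4 (.node 2 (.node 1 (.one ⟨7439, 5, 5⟩) (.one ⟨7443, 5, 3⟩)) (.node 1 (.one ⟨16316, 6, 4⟩) (.one ⟨16631, 6, 5⟩))) (.node 2 (.node 1 (.one ⟨529, 5, 4⟩) (.one ⟨275, 5, 4⟩)) (.node 1 (.one ⟨12271, 6, 5⟩) (.one ⟨11318, 6, 5⟩)))))) (.node 16 (.node 8 (.node 4 (.node 2 (.node 1 (.one ⟨10639, 0, 2⟩) (.one ⟨3401, 5, 3⟩)) (.node 1 (.one ⟨15967, 4, 3⟩) (.one ⟨10591, 0, 1⟩))) (.node 2 (.node 1 (.one ⟨3406, 5, 5⟩) (.one ⟨13774, 6, 4⟩)) (.node 1 (.one ⟨1029, 5, 4⟩) (.one ⟨8314, 4, 3⟩)))) (.node 4 (.node 2 (.node 1 (.one ⟨12725, 6, 4⟩) (.one ⟨10306, 4, 4⟩)) (.node 1 (.one ⟨1519, 5, 5⟩) (.one ⟨3180, 6, 5⟩))) (.node 2 (.node 1 (.one ⟨446, 4, 4⟩) (.one ⟨14057, 6,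 3⟩)) (.node 1 (.one ⟨15978, 4, 4⟩) (.one ⟨10029, 3, 4⟩))))) (.node 8 (.node 4 (.node 2 (.node 1 (.one ⟨6659, 4, 3⟩) (.one ⟨12507, 3, 4⟩)) (.node 1 (.one ⟨2452, 5, 3⟩) (.one ⟨14409, 4, 3⟩))) (.node 2 (.node 1 (.one ⟨15390, 4, 3⟩) (.one ⟨14962, 6, 5⟩)) (.node 1 (.one ⟨11238, 5, 4⟩) (.one ⟨6498, 5, 4⟩)))) (.node 4 (.node 2 (.node 1 (.one ⟨10598, 5, 4⟩) (.one ⟨11638, 3, 2⟩)) (.node 1 (.one ⟨2621, 3, 4⟩) (.one ⟨13823, 6, 3⟩))) (.node 2 (.node 1 (.one ⟨383, 5, 3⟩) (.one ⟨16920, 0, 3⟩)) (.node 1 (.one ⟨10542, 6, 4⟩) (.one ⟨8583, 5, 5⟩)))))))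
def par3_7_13 : Arr Par :=
  (.node 32 (.node 16 (.node 8 (.node 4 (.node 2 (.node 1 (.one ⟨9657, 5, 4⟩) (.one ⟨13154, 6, 5⟩)) (.node 1 (.one ⟨4267, 6, 5⟩) (.one ⟨16701, 2, 2⟩))) (.node 2 (.node 1 (.one ⟨7625, 6, 3⟩) (.one ⟨16030, 6, 3⟩)) (.node 1 (.one ⟨8525, 5, 4⟩) (.one ⟨4449, 1, 5⟩)))) (.node 4 (.node 2 (.node 1 (.one ⟨8802, 4, 2⟩) (.one ⟨9404, 5, 3⟩)) (.node 1 (.one ⟨7849, 3, 4⟩) (.one ⟨454, 6, 4⟩))) (.node 2 (.node 1 (.one ⟨1593, 1, 5⟩) (.one ⟨12915, 6, 2⟩)) (.node 1 (.one ⟨12929, 5, 3⟩) (.one ⟨12748, 5, 5⟩))))) (.node 8 (.node 4 (.node 2 (.node 1 (.one ⟨14932, 5, 4⟩) (.one ⟨8778, 6, 3⟩)) (.node 1 (.one ⟨9225, 5, 3⟩) (.one ⟨13610, 5, 3⟩))) (.node 2 (.node 1 (.one ⟨15762, 0, 3⟩) (.one ⟨544, 6, 3⟩)) (.node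 1 (.one ⟨10725, 5, 5⟩) (.one ⟨3292, 6, 3⟩)))) (.node 4 (.node 2 (.node 1 (.one ⟨7787, 6, 4⟩) (.one ⟨7627, 6, 3⟩)) (.node 1 (.one ⟨4750, 5, 3⟩) (.one ⟨5507, 6, 2⟩))) (.node 2 (.node 1 (.one ⟨16505, 3, 5⟩) (.one ⟨6431, 5, 4⟩)) (.node 1 (.one ⟨6339, 4, 4⟩) (.one ⟨6170, 5, 4⟩)))))) (.node 16 (.node 8 (.node 4 (.node 2 (.node 1 (.one ⟨3589, 3, 4⟩) (.one ⟨14398, 6, 5⟩)) (.node 1 (.one ⟨13075, 3, 4⟩) (.one ⟨13048, 0, 2⟩))) (.node 2 (.node 1 (.one ⟨5671, 6, 4⟩) (.one ⟨12310, 0, 1⟩)) (.node 1 (.one ⟨13687, 5, 5⟩) (.one ⟨11671, 5, 5⟩)))) (.node 4 (.node 2 (.node 1 (.one ⟨10909, 3, 2⟩) (.one ⟨12307, 6, 3⟩)) (.node 1 (.one ⟨13089, 6, 3⟩) (.one ⟨4976, 0, 4⟩))) (.node 2 (.node 1 (.one ⟨6517, 6, 3⟩) (.one ⟨3187, 6, 3⟩)) (.node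 1 (.one ⟨11547, 1, 4⟩) (.one ⟨16786, 5, 3⟩))))) (.node 8 (.node 4 (.node 2 (.node 1 (.one ⟨16765, 3, 4⟩) (.one ⟨6877, 6, 3⟩)) (.node 1 (.one ⟨14530, 5, 3⟩) (.one ⟨9366, 5, 4⟩))) (.node 2 (.node 1 (.one ⟨4458, 6, 3⟩) (.one ⟨4444, 5, 3⟩)) (.node 1 (.one ⟨8923, 6, 3⟩) (.one ⟨17133, 6, 4⟩)))) (.node 4 (.node 2 (.node 1 (.one ⟨9156, 6, 2⟩) (.one ⟨14689, 6, 4⟩)) (.node 1 (.one ⟨12223, 6, 4⟩) (.one ⟨15529, 0, 3⟩))) (.node 2 (.node 1 (.one ⟨11145, 5, 5⟩) (.one ⟨5536, 5, 3⟩)) (.node 1 (.one ⟨5391, 1, 3⟩) (.one ⟨4368, 0, 3⟩)))))))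
def par3_7_14 : Arr Par :=
  (.node 32 (.node 16 (.node 8 (.node 4 (.node 2 (.node 1 (.one ⟨3226, 6, 3⟩) (.one ⟨6029, 5, 4⟩)) (.node 1 (.one ⟨6999, 3, 4⟩) (.one ⟨15701, 0, 3⟩))) (.node 2 (.node 1 (.one ⟨10591, 1, 1⟩) (.one ⟨3377, 5, 2⟩)) (.node 1 (.one ⟨13413, 1, 1⟩) (.one ⟨1802, 6, 5⟩)))) (.node 4 (.node 2 (.node 1 (.one ⟨10830, 4, 3⟩) (.one ⟨11352, 6, 4⟩)) (.node 1 (.one ⟨7627, 0, 3⟩) (.one ⟨2588, 1, 3⟩))) (.node 2 (.node 1 (.one ⟨624, 6, 5⟩) (.one ⟨4052, 6, 5⟩)) (.node 1 (.one ⟨12596, 1, 3⟩) (.one ⟨14626, 5, 3⟩))))) (.node 8 (.node 4 (.node 2 (.node 1 (.one ⟨3840, 6, 4⟩) (.one ⟨11408, 5, 5⟩)) (.node 1 (.one ⟨11997, 6, 5⟩) (.one ⟨10745, 6, 4⟩))) (.node 2 (.node 1 (.one ⟨3124, 6, 5⟩) (.one ⟨1487, 5, 5⟩)) (.node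 1 (.one ⟨11063, 6, 5⟩) (.one ⟨7909, 6, 4⟩)))) (.node 4 (.node 2 (.node 1 (.one ⟨209, 6, 3⟩) (.one ⟨4118, 5, 5⟩)) (.node 1 (.one ⟨13262, 4, 3⟩) (.one ⟨16444, 0, 3⟩))) (.node 2 (.node 1 (.one ⟨7910, 6, 4⟩) (.one ⟨5395, 0, 3⟩)) (.node 1 (.one ⟨2705, 4, 2⟩) (.one ⟨12028, 5, 3⟩)))))) (.node 16 (.node 8 (.node 4 (.node 2 (.node 1 (.one ⟨1019, 6, 4⟩) (.one ⟨6659, 6, 3⟩)) (.node 1 (.one ⟨13874, 5, 3⟩) (.one ⟨6314, 6, 4⟩))) (.node 2 (.node 1 (.one ⟨17123, 6, 3⟩) (.one ⟨12428, 6, 2⟩)) (.node 1 (.one ⟨3218, 6, 4⟩) (.one ⟨7307, 6, 4⟩)))) (.node 4 (.node 2 (.node 1 (.one ⟨6570, 6, 4⟩) (.one ⟨15722, 6, 3⟩)) (.node 1 (.one ⟨839, 5, 3⟩) (.one ⟨13555, 6, 4⟩))) (.node 2 (.node 1 (.one ⟨13379, 0, 3⟩) (.one ⟨2941, 5, 5⟩)) (.node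 1 (.one ⟨702, 5, 3⟩) (.one ⟨5621, 5, 4⟩))))) (.node 8 (.node 4 (.node 2 (.node 1 (.one ⟨8922, 6, 4⟩) (.one ⟨2767, 5, 4⟩)) (.node 1 (.one ⟨7220, 5, 4⟩) (.one ⟨617, 6, 4⟩))) (.node 2 (.node 1 (.one ⟨15270, 1, 3⟩) (.one ⟨9011, 6, 3⟩)) (.node 1 (.one ⟨2111, 5, 3⟩) (.one ⟨4116, 6, 4⟩)))) (.node 4 (.node 2 (.node 1 (.one ⟨4845, 5, 5⟩) (.one ⟨9589, 6, 3⟩)) (.node 1 (.one ⟨1231, 4, 5⟩) (.one ⟨2217, 6, 2⟩))) (.node 2 (.node 1 (.one ⟨1077, 5, 5⟩) (.one ⟨12313, 6, 4⟩)) (.node 1 (.one ⟨12437, 0, 3⟩) (.one ⟨10778, 6, 3⟩)))))))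
def par3_7_15 : Arr Par :=
  (.node 32 (.node 16 (.node 8 (.node 4 (.node 2 (.node 1 (.one ⟨14827, 6, 3⟩) (.one ⟨9348, 2, 2⟩)) (.node 1 (.one ⟨6127, 6, 3⟩) (.one ⟨13323, 5, 4⟩))) (.node 2 (.node 1 (.one ⟨2495, 6, 3⟩) (.one ⟨7323, 5, 3⟩)) (.node 1 (.one ⟨11204, 6, 3⟩) (.one ⟨129, 6, 2⟩)))) (.node 4 (.node 2 (.node 1 (.one ⟨7300, 5, 5⟩) (.one ⟨15391, 5, 3⟩)) (.node 1 (.one ⟨13463, 3, 3⟩) (.one ⟨12207, 5, 5⟩))) (.node 2 (.node 1 (.one ⟨4285, 6, 4⟩) (.one ⟨7182, 0, 4⟩)) (.node 1 (.one ⟨16756, 0, 3⟩) (.one ⟨8123, 1, 3⟩))))) (.node 8 (.node 4 (.node 2 (.node 1 (.one ⟨16620, 5, 4⟩) (.one ⟨5727, 5, 5⟩)) (.node 1 (.one ⟨1235, 4, 3⟩) (.one ⟨11436, 5, 5⟩))) (.node 2 (.node 1 (.one ⟨2686, 5, 4⟩) (.one ⟨13179, 5, 5⟩)) (.node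 1 (.one ⟨4264, 5, 4⟩) (.one ⟨4462, 0, 3⟩)))) (.node 4 (.node 2 (.node 1 (.one ⟨5337, 1, 3⟩) (.one ⟨1007, 4, 3⟩)) (.node 1 (.one ⟨7121, 1, 4⟩) (.one ⟨15492, 5, 5⟩))) (.node 2 (.node 1 (.one ⟨14707, 5, 4⟩) (.one ⟨2395, 5, 4⟩)) (.node 1 (.one ⟨15114, 1, 4⟩) (.one ⟨1232, 4, 5⟩)))))) (.node 16 (.node 8 (.node 4 (.node 2 (.node 1 (.one ⟨8460, 5, 5⟩) (.one ⟨7160, 0, 3⟩)) (.node 1 (.one ⟨4141, 5, 4⟩) (.one ⟨16217, 3, 2⟩))) (.node 2 (.node 1 (.one ⟨7173, 1, 3⟩) (.one ⟨12367, 0, 4⟩)) (.node 1 (.one ⟨7525, 5, 5⟩) (.one ⟨9347, 2, 2⟩)))) (.node 4 (.node 2 (.node 1 (.one ⟨3540, 5, 5⟩) (.one ⟨4049, 3, 1⟩)) (.node 1 (.one ⟨9244, 6, 3⟩) (.one ⟨3276, 5, 4⟩))) (.node 2 (.node 1 (.one ⟨4823, 5, 3⟩) (.one ⟨8906, 5, 4⟩)) (.node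 1 (.one ⟨6821, 5, 3⟩) (.one ⟨1350, 4, 5⟩))))) (.node 8 (.node 4 (.node 2 (.node 1 (.one ⟨5427, 5, 5⟩) (.one ⟨3729, 3, 1⟩)) (.node 1 (.one ⟨313, 3, 2⟩) (.one ⟨7832, 5, 5⟩))) (.node 2 (.node 1 (.one ⟨12733, 0, 4⟩) (.one ⟨12586, 3, 2⟩)) (.node 1 (.one ⟨11568, 4, 3⟩) (.one ⟨12112, 5, 4⟩)))) (.node 4 (.node 2 (.node 1 (.one ⟨7341, 6, 4⟩) (.one ⟨16236, 6, 4⟩)) (.node 1 (.one ⟨16611, 6, 5⟩) (.one ⟨11479, 6, 4⟩))) (.node 2 (.node 1 (.one ⟨9206, 6, 3⟩) (.one ⟨1923, 5, 3⟩)) (.node 1 (.one ⟨4362, 6, 4⟩) (.one ⟨12546, 1, 4⟩)))))))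
def par3_7 : Arr Par :=
  (.node 512 (.node 256 (.node 128 (.node 64 par3_7_0 par3_7_1) (.node 64 par3_7_2 par3_7_3)) (.node 128 (.node 64 par3_7_4 par3_7_5) (.node 64 par3_7_6 par3_7_7))) (.node 256 (.node 128 (.node 64 par3_7_8 par3_7_9) (.node 64 par3_7_10 par3_7_11)) (.node 128 (.node 64 par3_7_12 par3_7_13) (.node 64 par3_7_14 par3_7_15))))
def par3_8_0 : Arr Par :=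
  (.node 32 (.node 16 (.node 8 (.node 4 (.node 2 (.node 1 (.one ⟨16882, 6, 4⟩) (.one ⟨8070, 2, 2⟩)) (.node 1 (.one ⟨7320, 5, 4⟩) (.one ⟨14263, 6, 5⟩))) (.node 2 (.node 1 (.one ⟨7086, 1, 4⟩) (.one ⟨1334, 2, 3⟩)) (.node 1 (.one ⟨4221, 1, 4⟩) (.one ⟨3896, 5, 1⟩)))) (.node 4 (.node 2 (.node 1 (.one ⟨1351, 4, 2⟩) (.one ⟨4053, 3, 1⟩)) (.node 1 (.one ⟨16880, 6, 5⟩) (.one ⟨8729, 4, 3⟩))) (.node 2 (.node 1 (.one ⟨12725, 0, 4⟩) (.one ⟨8767, 6, 5⟩)) (.node 1 (.one ⟨12586, 1, 2⟩) (.one ⟨200, 6, 5⟩))))) (.node 8 (.node 4 (.node 2 (.node 1 (.one ⟨14513, 6, 4⟩) (.one ⟨4948, 6, 5⟩)) (.node 1 (.one ⟨16883, 6, 3⟩) (.one ⟨9251, 3, 5⟩))) (.node 2 (.node 1 (.one ⟨4483, 0, 3⟩) (.one ⟨13058, 3, 5⟩)) (.node 1 (.one ⟨5907, 6, 5⟩) (.one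 ⟨16172, 2, 2⟩)))) (.node 4 (.node 2 (.node 1 (.one ⟨15111, 1, 2⟩) (.one ⟨16885, 6, 3⟩)) (.node 1 (.one ⟨21, 6, 5⟩) (.one ⟨5164, 6, 3⟩))) (.node 2 (.node 1 (.one ⟨6616, 4, 4⟩) (.one ⟨9257, 4, 4⟩)) (.node 1 (.one ⟨5670, 6, 4⟩) (.one ⟨7355, 4, 5⟩)))))) (.node 16 (.node 8 (.node 4 (.node 2 (.node 1 (.one ⟨16910, 1, 3⟩) (.one ⟨1344, 3, 2⟩)) (.node 1 (.one ⟨12577, 1, 3⟩) (.one ⟨7160, 6, 3⟩))) (.node 2 (.node 1 (.one ⟨4087, 4, 5⟩) (.one ⟨14905, 1, 3⟩)) (.node 1 (.one ⟨16552, 4, 5⟩) (.one ⟨12586, 4, 2⟩)))) (.node 4 (.node 2 (.node 1 (.one ⟨15108, 1, 2⟩) (.one ⟨5504, 6, 4⟩)) (.node 1 (.one ⟨1348, 4, 5⟩) (.one ⟨12130, 0, 1⟩))) (.node 2 (.node 1 (.one ⟨11897, 6, 4⟩) (.one ⟨11263, 6, 4⟩)) (.node 1 (.one ⟨2926, 3, 4⟩) (.one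 ⟨11908, 6, 3⟩))))) (.node 8 (.node 4 (.node 2 (.node 1 (.one ⟨1078, 4, 2⟩) (.one ⟨4099, 6, 4⟩)) (.node 1 (.one ⟨3930, 1, 3⟩) (.one ⟨4858, 5, 5⟩))) (.node 2 (.node 1 (.one ⟨1895, 6, 4⟩) (.one ⟨10935, 5, 5⟩)) (.node 1 (.one ⟨10408, 6, 3⟩) (.one ⟨14915, 4, 2⟩)))) (.node 4 (.node 2 (.node 1 (.one ⟨4659, 6, 3⟩) (.one ⟨13723, 6, 3⟩)) (.node 1 (.one ⟨309, 6, 3⟩) (.one ⟨6641, 5, 4⟩))) (.node 2 (.node 1 (.one ⟨16600, 6, 3⟩) (.one ⟨9160, 5, 2⟩)) (.node 1 (.one ⟨7007, 5, 3⟩) (.one ⟨4846, 5, 3⟩)))))))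
def par3_8_1 : Arr Par :=
  (.node 32 (.node 16 (.node 8 (.node 4 (.node 2 (.node 1 (.one ⟨10737, 5, 3⟩) (.one ⟨7361, 6, 3⟩)) (.node 1 (.one ⟨477, 5, 3⟩) (.one ⟨8286, 6, 3⟩))) (.node 2 (.node 1 (.one ⟨9590, 4, 3⟩) (.one ⟨2005, 5, 4⟩)) (.node 1 (.one ⟨13295, 5, 4⟩) (.one ⟨13986, 6, 4⟩)))) (.node 4 (.node 2 (.node 1 (.one ⟨14764, 6, 4⟩) (.one ⟨3892, 0, 2⟩)) (.node 1 (.one ⟨7576, 3, 5⟩) (.one ⟨6412, 6, 4⟩))) (.node 2 (.node 1 (.one ⟨7258, 6, 4⟩) (.one ⟨2026, 4, 3⟩)) (.node 1 (.one ⟨10842, 6, 4⟩) (.one ⟨9586, 4, 2⟩))))) (.node 8 (.node 4 (.node 2 (.node 1 (.one ⟨15307, 5, 4⟩) (.one ⟨8453, 5, 3⟩)) (.node 1 (.one ⟨3695, 5, 4⟩) (.one ⟨950, 5, 1⟩))) (.node 2 (.node 1 (.one ⟨14573, 6, 4⟩) (.one ⟨17082, 5, 4⟩)) (.node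 1 (.one ⟨12252, 3, 2⟩) (.one ⟨3357, 6, 5⟩)))) (.node 4 (.node 2 (.node 1 (.one ⟨3358, 0, 4⟩) (.one ⟨3729, 5, 1⟩)) (.node 1 (.one ⟨3274, 6, 5⟩) (.one ⟨12481, 4, 4⟩))) (.node 2 (.node 1 (.one ⟨4791, 0, 4⟩) (.one ⟨12737, 0, 4⟩)) (.node 1 (.one ⟨3892, 1, 2⟩) (.one ⟨4315, 5, 5⟩)))))) (.node 16 (.node 8 (.node 4 (.node 2 (.node 1 (.one ⟨7112, 5, 5⟩) (.one ⟨6071, 6, 3⟩)) (.node 1 (.one ⟨5786, 6, 3⟩) (.one ⟨359, 6, 2⟩))) (.node 2 (.node 1 (.one ⟨7100, 5, 4⟩) (.one ⟨15191, 5, 5⟩)) (.node 1 (.one ⟨12359, 5, 3⟩) (.one ⟨13246, 6, 4⟩)))) (.node 4 (.node 2 (.node 1 (.one ⟨11465, 5, 2⟩) (.one ⟨5533, 6, 4⟩)) (.node 1 (.one ⟨10526, 6, 3⟩) (.one ⟨6865, 4, 3⟩))) (.node 2 (.node 1 (.one ⟨17090, 5, 2⟩) (.one ⟨121, 0, 1⟩)) (.node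 1 (.one ⟨12816, 6, 5⟩) (.one ⟨2054, 5, 5⟩))))) (.node 8 (.node 4 (.node 2 (.node 1 (.one ⟨1242, 5, 5⟩) (.one ⟨4232, 3, 3⟩)) (.node 1 (.one ⟨8610, 6, 4⟩) (.one ⟨16404, 1, 3⟩))) (.node 2 (.node 1 (.one ⟨14031, 5, 4⟩) (.one ⟨1473, 4, 2⟩)) (.node 1 (.one ⟨3060, 6, 4⟩) (.one ⟨10487, 5, 5⟩)))) (.node 4 (.node 2 (.node 1 (.one ⟨5767, 5, 5⟩) (.one ⟨8719, 5, 2⟩)) (.node 1 (.one ⟨13591, 5, 2⟩) (.one ⟨5976, 5, 4⟩))) (.node 2 (.node 1 (.one ⟨10599, 5, 2⟩) (.one ⟨1215, 6, 3⟩)) (.node 1 (.one ⟨15533, 6, 2⟩) (.one ⟨3226, 1, 3⟩)))))))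
def par3_8_2 : Arr Par :=
  (.node 32 (.node 16 (.node 8 (.node 4 (.node 2 (.node 1 (.one ⟨1799, 6, 1⟩) (.one ⟨2694, 5, 3⟩)) (.node 1 (.one ⟨2659, 6, 5⟩) (.one ⟨964, 6, 5⟩))) (.node 2 (.node 1 (.one ⟨12058, 1, 3⟩) (.one ⟨11576, 5, 4⟩)) (.node 1 (.one ⟨3849, 1, 3⟩) (.one ⟨10999, 6, 5⟩)))) (.node 4 (.node 2 (.node 1 (.one ⟨2603, 5, 3⟩) (.one ⟨1594, 0, 3⟩)) (.node 1 (.one ⟨8752, 6, 3⟩) (.one ⟨9653, 5, 3⟩))) (.node 2 (.node 1 (.one ⟨10466, 5, 3⟩) (.one ⟨8483, 4, 4⟩)) (.node 1 (.one ⟨11991, 6, 5⟩) (.one ⟨9770, 0, 3⟩))))) (.node 8 (.node 4 (.node 2 (.node 1 (.one ⟨7739, 5, 3⟩) (.one ⟨5304, 6, 4⟩)) (.node 1 (.one ⟨11504, 5, 4⟩) (.one ⟨866, 5, 3⟩))) (.node 2 (.node 1 (.one ⟨8543, 5, 4⟩) (.one ⟨9167, 4, 3⟩)) (.node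 1 (.one ⟨10543, 6, 4⟩) (.one ⟨16378, 1, 3⟩)))) (.node 4 (.node 2 (.node 1 (.one ⟨11884, 5, 4⟩) (.one ⟨17045, 5, 5⟩)) (.node 1 (.one ⟨16615, 5, 4⟩) (.one ⟨1923, 0, 3⟩))) (.node 2 (.node 1 (.one ⟨7550, 5, 4⟩) (.one ⟨1428, 5, 5⟩)) (.node 1 (.one ⟨5667, 4, 4⟩) (.one ⟨7860, 5, 2⟩)))))) (.node 16 (.node 8 (.node 4 (.node 2 (.node 1 (.one ⟨7151, 5, 4⟩) (.one ⟨8401, 5, 3⟩)) (.node 1 (.one ⟨6525, 5, 3⟩) (.one ⟨5190, 5, 3⟩))) (.node 2 (.node 1 (.one ⟨6355, 6, 2⟩) (.one ⟨4835, 6, 3⟩)) (.node 1 (.one ⟨12646, 6, 5⟩) (.one ⟨8320, 4, 2⟩)))) (.node 4 (.node 2 (.node 1 (.one ⟨10190, 4, 2⟩) (.one ⟨4984, 5, 5⟩)) (.node 1 (.one ⟨16741, 5, 4⟩) (.one ⟨13926, 5, 5⟩))) (.node 2 (.node 1 (.one ⟨15685, 4, 4⟩) (.one ⟨11864, 1, 2⟩)) (.node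 1 (.one ⟨1480, 4, 5⟩) (.one ⟨3459, 6, 5⟩))))) (.node 8 (.node 4 (.node 2 (.node 1 (.one ⟨12410, 6, 3⟩) (.one ⟨14367, 5, 4⟩)) (.node 1 (.one ⟨15494, 4, 3⟩) (.one ⟨5554, 4, 3⟩))) (.node 2 (.node 1 (.one ⟨12512, 3, 4⟩) (.one ⟨8697, 0, 4⟩)) (.node 1 (.one ⟨11637, 3, 4⟩) (.one ⟨4066, 6, 4⟩)))) (.node 4 (.node 2 (.node 1 (.one ⟨13436, 5, 4⟩) (.one ⟨4144, 4, 3⟩)) (.node 1 (.one ⟨16184, 5, 4⟩) (.one ⟨9714, 4, 3⟩))) (.node 2 (.node 1 (.one ⟨7048, 5, 4⟩) (.one ⟨14100, 5, 4⟩)) (.node 1 (.one ⟨7920, 4, 3⟩) (.one ⟨10820, 5, 3⟩)))))))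
def par3_8_3 : Arr Par :=
  (.node 32 (.node 16 (.node 8 (.node 4 (.node 2 (.node 1 (.one ⟨3550, 6, 4⟩) (.one ⟨16796, 0, 4⟩)) (.node 1 (.one ⟨12734, 5, 4⟩) (.one ⟨11347, 5, 5⟩))) (.node 2 (.node 1 (.one ⟨12760, 6, 5⟩) (.one ⟨13869, 6, 4⟩)) (.node 1 (.one ⟨7104, 6, 4⟩) (.one ⟨3079, 6, 3⟩)))) (.node 4 (.node 2 (.node 1 (.one ⟨15511, 5, 5⟩) (.one ⟨11122, 3, 4⟩)) (.node 1 (.one ⟨6795, 0, 2⟩) (.one ⟨3070, 6, 3⟩))) (.node 2 (.node 1 (.one ⟨9908, 5, 2⟩) (.one ⟨11214, 4, 1⟩)) (.node 1 (.one ⟨15376, 4, 3⟩) (.one ⟨8880, 3, 5⟩))))) (.node 8 (.node 4 (.node 2 (.node 1 (.one ⟨7203, 5, 3⟩) (.one ⟨4591, 4, 2⟩)) (.node 1 (.one ⟨5106, 3, 4⟩) (.one ⟨5907, 1, 5⟩))) (.node 2 (.node 1 (.one ⟨511, 6, 5⟩) (.one ⟨12243, 5, 4⟩)) (.node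 1 (.one ⟨3281, 1, 5⟩) (.one ⟨555, 5, 4⟩)))) (.node 4 (.node 2 (.node 1 (.one ⟨11079, 5, 5⟩) (.one ⟨1115, 6, 3⟩)) (.node 1 (.one ⟨5329, 3, 5⟩) (.one ⟨471, 5, 4⟩))) (.node 2 (.node 1 (.one ⟨11693, 3, 5⟩) (.one ⟨282, 5, 4⟩)) (.node 1 (.one ⟨10143, 6, 3⟩) (.one ⟨8836, 6, 5⟩)))))) (.node 16 (.node 8 (.node 4 (.node 2 (.node 1 (.one ⟨15918, 5, 3⟩) (.one ⟨15898, 5, 5⟩)) (.node 1 (.one ⟨16807, 0, 3⟩) (.one ⟨10954, 1, 4⟩))) (.node 2 (.node 1 (.one ⟨4524, 5, 4⟩) (.one ⟨4514, 5, 4⟩)) (.node 1 (.one ⟨14579, 5, 4⟩) (.one ⟨11664, 6, 3⟩)))) (.node 4 (.node 2 (.node 1 (.one ⟨6786, 5, 4⟩) (.one ⟨16881, 4, 4⟩)) (.node 1 (.one ⟨9631, 5, 3⟩) (.one ⟨5736, 3, 5⟩))) (.node 2 (.node 1 (.one ⟨3352, 6, 5⟩) (.one ⟨7850, 6, 3⟩)) (.node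 1 (.one ⟨9300, 5, 5⟩) (.one ⟨1796, 6, 4⟩))))) (.node 8 (.node 4 (.node 2 (.node 1 (.one ⟨9673, 6, 4⟩) (.one ⟨8631, 0, 4⟩)) (.node 1 (.one ⟨16355, 4, 3⟩) (.one ⟨4103, 4, 3⟩))) (.node 2 (.node 1 (.one ⟨1342, 5, 3⟩) (.one ⟨7003, 5, 5⟩)) (.node 1 (.one ⟨15433, 6, 5⟩) (.one ⟨11022, 6, 5⟩)))) (.node 4 (.node 2 (.node 1 (.one ⟨1281, 6, 1⟩) (.one ⟨7961, 5, 4⟩)) (.node 1 (.one ⟨14337, 6, 3⟩) (.one ⟨10998, 6, 3⟩))) (.node 2 (.node 1 (.one ⟨15826, 5, 4⟩) (.one ⟨7590, 6, 3⟩)) (.node 1 (.one ⟨11179, 3, 3⟩) (.one ⟨1774, 4, 2⟩)))))))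
def par3_8_4 : Arr Par :=
  (.node 32 (.node 16 (.node 8 (.node 4 (.node 2 (.node 1 (.one ⟨4500, 0, 3⟩) (.one ⟨10629, 0, 3⟩)) (.node 1 (.one ⟨15002, 2, 2⟩) (.one ⟨5951, 5, 2⟩))) (.node 2 (.node 1 (.one ⟨17018, 0, 3⟩) (.one ⟨4736, 4, 2⟩)) (.node 1 (.one ⟨1280, 6, 4⟩) (.one ⟨11088, 3, 4⟩)))) (.node 4 (.node 2 (.node 1 (.one ⟨4466, 0, 4⟩) (.one ⟨16688, 0, 4⟩)) (.node 1 (.one ⟨15784, 5, 4⟩) (.one ⟨1534, 5, 4⟩))) (.node 2 (.node 1 (.one ⟨14605, 5, 4⟩) (.one ⟨5667, 3, 4⟩)) (.node 1 (.one ⟨13303, 3, 4⟩) (.one ⟨11152, 1, 3⟩))))) (.node 8 (.node 4 (.node 2 (.node 1 (.one ⟨13408, 5, 1⟩) (.one ⟨14690, 4, 5⟩)) (.node 1 (.one ⟨4517, 6, 3⟩) (.one ⟨2194, 4, 5⟩))) (.node 2 (.node 1 (.one ⟨16313, 1, 3⟩) (.one ⟨13277, 1, 3⟩))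 (.node 1 (.one ⟨15642, 4, 5⟩) (.one ⟨14356, 6, 4⟩)))) (.node 4 (.node 2 (.node 1 (.one ⟨2321, 5, 4⟩) (.one ⟨13162, 5, 4⟩)) (.node 1 (.one ⟨428, 4, 5⟩) (.one ⟨16078, 3, 5⟩))) (.node 2 (.node 1 (.one ⟨16311, 5, 4⟩) (.one ⟨7553, 5, 4⟩)) (.node 1 (.one ⟨15281, 0, 3⟩) (.one ⟨2769, 6, 3⟩)))))) (.node 16 (.node 8 (.node 4 (.node 2 (.node 1 (.one ⟨11167, 5, 3⟩) (.one ⟨6409, 5, 4⟩)) (.node 1 (.one ⟨7392, 6, 4⟩) (.one ⟨17055, 3, 3⟩))) (.node 2 (.node 1 (.one ⟨4093, 5, 4⟩) (.one ⟨16691, 5, 4⟩)) (.node 1 (.one ⟨7467, 5, 3⟩) (.one ⟨9451, 5, 3⟩)))) (.node 4 (.node 2 (.node 1 (.one ⟨15491, 6, 2⟩) (.one ⟨15605, 4, 3⟩)) (.node 1 (.one ⟨5120, 4, 4⟩) (.one ⟨1445, 6, 1⟩))) (.node 2 (.node 1 (.one ⟨3339, 5, 4⟩) (.one ⟨15740, 4,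 3⟩)) (.node 1 (.one ⟨14832, 5, 4⟩) (.one ⟨15190, 6, 5⟩))))) (.node 8 (.node 4 (.node 2 (.node 1 (.one ⟨8791, 5, 4⟩) (.one ⟨1449, 3, 1⟩)) (.node 1 (.one ⟨8877, 5, 4⟩) (.one ⟨16875, 2, 2⟩))) (.node 2 (.node 1 (.one ⟨16905, 5, 3⟩) (.one ⟨169, 6, 5⟩)) (.node 1 (.one ⟨16828, 5, 4⟩) (.one ⟨1714, 4, 3⟩)))) (.node 4 (.node 2 (.node 1 (.one ⟨1714, 5, 3⟩) (.one ⟨9331, 4, 4⟩)) (.node 1 (.one ⟨6080, 1, 4⟩) (.one ⟨11253, 6, 3⟩))) (.node 2 (.node 1 (.one ⟨3956, 3, 4⟩) (.one ⟨15722, 4, 3⟩)) (.node 1 (.one ⟨1909, 6, 3⟩) (.one ⟨9246, 2, 2⟩)))))))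
def par3_8_5 : Arr Par :=
  (.node 32 (.node 16 (.node 8 (.node 4 (.node 2 (.node 1 (.one ⟨16885, 5, 3⟩) (.one ⟨8793, 5, 5⟩)) (.node 1 (.one ⟨6288, 5, 4⟩) (.one ⟨17180, 6, 5⟩))) (.node 2 (.node 1 (.one ⟨16235, 0, 4⟩) (.one ⟨3389, 3, 4⟩)) (.node 1 (.one ⟨5360, 3, 1⟩) (.one ⟨4784, 5, 3⟩)))) (.node 4 (.node 2 (.node 1 (.one ⟨197, 6, 4⟩) (.one ⟨8648, 1, 5⟩)) (.node 1 (.one ⟨8834, 3, 4⟩) (.one ⟨9337, 4, 3⟩))) (.node 2 (.node 1 (.one ⟨806, 1, 5⟩) (.one ⟨336, 6, 3⟩)) (.node 1 (.one ⟨14224, 4, 2⟩) (.one ⟨1463, 3, 2⟩))))) (.node 8 (.node 4 (.node 2 (.node 1 (.one ⟨3956, 5, 4⟩) (.one ⟨13325, 5, 3⟩)) (.node 1 (.one ⟨10911, 6, 4⟩) (.one ⟨14474, 6, 4⟩))) (.node 2 (.node 1 (.one ⟨10288, 6, 4⟩) (.one ⟨6816, 0, 3⟩)) (.node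 1 (.one ⟨2315, 6, 4⟩) (.one ⟨8375, 5, 5⟩)))) (.node 4 (.node 2 (.node 1 (.one ⟨8481, 6, 5⟩) (.one ⟨12803, 6, 5⟩)) (.node 1 (.one ⟨5290, 6, 4⟩) (.one ⟨9227, 4, 4⟩))) (.node 2 (.node 1 (.one ⟨4269, 6, 5⟩) (.one ⟨9235, 4, 3⟩)) (.node 1 (.one ⟨8037, 6, 2⟩) (.one ⟨9329, 2, 3⟩)))))) (.node 16 (.node 8 (.node 4 (.node 2 (.node 1 (.one ⟨2407, 6, 4⟩) (.one ⟨13105, 6, 3⟩)) (.node 1 (.one ⟨16829, 5, 4⟩) (.one ⟨11096, 0, 3⟩))) (.node 2 (.node 1 (.one ⟨3227, 5, 4⟩) (.one ⟨15537, 5, 5⟩)) (.node 1 (.one ⟨16169, 5, 4⟩) (.one ⟨16420, 0, 2⟩)))) (.node 4 (.node 2 (.node 1 (.one ⟨9233, 4, 2⟩) (.one ⟨1778, 5, 4⟩)) (.node 1 (.one ⟨9003, 5, 5⟩) (.one ⟨3982, 0, 3⟩))) (.node 2 (.node 1 (.one ⟨6446, 5, 4⟩) (.one ⟨16728, 5, 5⟩)) (.node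 1 (.one ⟨10695, 5, 5⟩) (.one ⟨11152, 4, 3⟩))))) (.node 8 (.node 4 (.node 2 (.node 1 (.one ⟨9334, 2, 3⟩) (.one ⟨541, 5, 5⟩)) (.node 1 (.one ⟨11963, 6, 3⟩) (.one ⟨2264, 4, 3⟩))) (.node 2 (.node 1 (.one ⟨10581, 6, 3⟩) (.one ⟨1783, 6, 3⟩)) (.node 1 (.one ⟨12864, 1, 3⟩) (.one ⟨10286, 6, 4⟩)))) (.node 4 (.node 2 (.node 1 (.one ⟨5375, 5, 5⟩) (.one ⟨495, 5, 4⟩)) (.node 1 (.one ⟨746, 5, 4⟩) (.one ⟨2713, 6, 3⟩))) (.node 2 (.node 1 (.one ⟨9237, 4, 2⟩) (.one ⟨512, 5, 4⟩)) (.node 1 (.one ⟨823, 5, 3⟩) (.one ⟨5222, 5, 3⟩)))))))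
def par3_8_6 : Arr Par :=
  (.node 32 (.node 16 (.node 8 (.node 4 (.node 2 (.node 1 (.one ⟨667, 6, 3⟩) (.one ⟨1465, 3, 2⟩)) (.node 1 (.one ⟨13930, 5, 4⟩) (.one ⟨16888, 5, 2⟩))) (.node 2 (.node 1 (.one ⟨2316, 6, 3⟩) (.one ⟨16017, 6, 4⟩)) (.node 1 (.one ⟨10713, 6, 4⟩) (.one ⟨11148, 6, 4⟩)))) (.node 4 (.node 2 (.node 1 (.one ⟨13307, 5, 4⟩) (.one ⟨4368, 4, 3⟩)) (.node 1 (.one ⟨13482, 5, 4⟩) (.one ⟨1375, 5, 4⟩))) (.node 2 (.node 1 (.one ⟨9231, 4, 3⟩) (.one ⟨2075, 5, 4⟩)) (.node 1 (.one ⟨9155, 6, 4⟩) (.one ⟨16827, 5, 5⟩))))) (.node 8 (.node 4 (.node 2 (.node 1 (.one ⟨9242, 2, 2⟩) (.one ⟨13530, 5, 4⟩)) (.node 1 (.one ⟨12070, 6, 3⟩) (.one ⟨1485, 6, 2⟩))) (.node 2 (.node 1 (.one ⟨12895, 1, 3⟩) (.one ⟨5579, 5, 2⟩)) (.node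 1 (.one ⟨16766, 1, 3⟩) (.one ⟨6804, 4, 4⟩)))) (.node 4 (.node 2 (.node 1 (.one ⟨678, 6, 2⟩) (.one ⟨14143, 6, 3⟩)) (.node 1 (.one ⟨6415, 6, 4⟩) (.one ⟨8687, 5, 3⟩))) (.node 2 (.node 1 (.one ⟨1789, 4, 3⟩) (.one ⟨10283, 6, 2⟩)) (.node 1 (.one ⟨9342, 4, 3⟩) (.one ⟨10098, 5, 5⟩)))))) (.node 16 (.node 8 (.node 4 (.node 2 (.node 1 (.one ⟨16443, 5, 3⟩) (.one ⟨1450, 3, 1⟩)) (.node 1 (.one ⟨14089, 5, 3⟩) (.one ⟨8670, 5, 4⟩))) (.node 2 (.node 1 (.one ⟨631, 6, 5⟩) (.one ⟨5823, 5, 4⟩)) (.node 1 (.one ⟨5019, 5, 4⟩) (.one ⟨5506, 5, 4⟩)))) (.node 4 (.node 2 (.node 1 (.one ⟨9328, 4, 4⟩) (.one ⟨13481, 5, 2⟩)) (.node 1 (.one ⟨4122, 6, 3⟩) (.one ⟨5135, 5, 5⟩))) (.node 2 (.node 1 (.one ⟨6130, 5, 2⟩) (.one ⟨13255, 5, 5⟩)) (.node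 1 (.one ⟨12047, 6, 4⟩) (.one ⟨16505, 0, 5⟩))))) (.node 8 (.node 4 (.node 2 (.node 1 (.one ⟨3259, 5, 3⟩) (.one ⟨1001, 0, 5⟩)) (.node 1 (.one ⟨3813, 3, 2⟩) (.one ⟨7229, 0, 5⟩))) (.node 2 (.node 1 (.one ⟨1220, 5, 4⟩) (.one ⟨10698, 6, 3⟩)) (.node 1 (.one ⟨14401, 3, 3⟩) (.one ⟨2540, 5, 3⟩)))) (.node 4 (.node 2 (.node 1 (.one ⟨4661, 6, 3⟩) (.one ⟨12868, 5, 5⟩)) (.node 1 (.one ⟨16793, 5, 5⟩) (.one ⟨5499, 5, 2⟩))) (.node 2 (.node 1 (.one ⟨1462, 6, 2⟩) (.one ⟨9208, 5, 3⟩)) (.node 1 (.one ⟨8552, 6, 3⟩) (.one ⟨16960, 1, 4⟩)))))))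
def par3_8_7 : Arr Par :=
  (.node 32 (.node 16 (.node 8 (.node 4 (.node 2 (.node 1 (.one ⟨5197, 6, 4⟩) (.one ⟨11240, 6, 4⟩)) (.node 1 (.one ⟨4509, 5, 4⟩) (.one ⟨15973, 5, 3⟩))) (.node 2 (.node 1 (.one ⟨549, 1, 4⟩) (.one ⟨4249, 5, 5⟩)) (.node 1 (.one ⟨6170, 3, 4⟩) (.one ⟨3110, 6, 3⟩)))) (.node 4 (.node 2 (.node 1 (.one ⟨13582, 6, 4⟩) (.one ⟨10816, 5, 3⟩)) (.node 1 (.one ⟨14480, 6, 3⟩) (.one ⟨15608, 6, 4⟩))) (.node 2 (.node 1 (.one ⟨6685, 5, 5⟩) (.one ⟨12069, 6, 3⟩)) (.node 1 (.one ⟨1237, 6, 2⟩) (.one ⟨4574, 3, 4⟩))))) (.node 8 (.node 4 (.node 2 (.node 1 (.one ⟨7744, 6, 2⟩) (.one ⟨15823, 6, 4⟩)) (.node 1 (.one ⟨1535, 5, 4⟩) (.one ⟨6368, 5, 4⟩))) (.node 2 (.node 1 (.one ⟨8199, 4, 2⟩) (.one ⟨5787, 5, 3⟩)) (.node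 1 (.one ⟨6255, 5, 3⟩) (.one ⟨13086, 6, 5⟩)))) (.node 4 (.node 2 (.node 1 (.one ⟨9467, 5, 4⟩) (.one ⟨2522, 6, 3⟩)) (.node 1 (.one ⟨7542, 5, 4⟩) (.one ⟨6309, 6, 3⟩))) (.node 2 (.node 1 (.one ⟨5703, 6, 4⟩) (.one ⟨4078, 3, 3⟩)) (.node 1 (.one ⟨6348, 3, 3⟩) (.one ⟨3736, 0, 4⟩)))))) (.node 16 (.node 8 (.node 4 (.node 2 (.node 1 (.one ⟨11795, 4, 4⟩) (.one ⟨1852, 6, 5⟩)) (.node 1 (.one ⟨13158, 3, 3⟩) (.one ⟨1680, 3, 3⟩))) (.node 2 (.node 1 (.one ⟨10708, 6, 5⟩) (.one ⟨11865, 5, 4⟩)) (.node 1 (.one ⟨14993, 5, 5⟩) (.one ⟨5852, 5, 2⟩)))) (.node 4 (.node 2 (.node 1 (.one ⟨14296, 6, 4⟩) (.one ⟨3422, 5, 4⟩)) (.node 1 (.one ⟨12658, 3, 5⟩) (.one ⟨16600, 5, 3⟩))) (.node 2 (.node 1 (.one ⟨10752, 5, 3⟩) (.one ⟨12061, 5, 4⟩)) (.node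 1 (.one ⟨14859, 5, 3⟩) (.one ⟨5945, 4, 2⟩))))) (.node 8 (.node 4 (.node 2 (.node 1 (.one ⟨4532, 6, 3⟩) (.one ⟨16492, 0, 5⟩)) (.node 1 (.one ⟨11736, 6, 3⟩) (.one ⟨7200, 0, 3⟩))) (.node 2 (.node 1 (.one ⟨1295, 5, 4⟩) (.one ⟨3795, 3, 3⟩)) (.node 1 (.one ⟨8636, 6, 3⟩) (.one ⟨9247, 5, 4⟩)))) (.node 4 (.node 2 (.node 1 (.one ⟨5549, 5, 5⟩) (.one ⟨4694, 5, 3⟩)) (.node 1 (.one ⟨10505, 6, 4⟩) (.one ⟨2907, 5, 4⟩))) (.node 2 (.node 1 (.one ⟨15393, 1, 4⟩) (.one ⟨1008, 1, 4⟩)) (.node 1 (.one ⟨14168, 3, 4⟩) (.one ⟨13889, 5, 5⟩)))))))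
def par3_8_8 : Arr Par :=
  (.node 32 (.node 16 (.node 8 (.node 4 (.node 2 (.node 1 (.one ⟨11034, 5, 5⟩) (.one ⟨15665, 6, 4⟩)) (.node 1 (.one ⟨8994, 3, 3⟩) (.one ⟨1078, 6, 2⟩))) (.node 2 (.node 1 (.one ⟨1476, 5, 5⟩) (.one ⟨11898, 3, 3⟩)) (.node 1 (.one ⟨16720, 6, 4⟩) (.one ⟨1549, 5, 4⟩)))) (.node 4 (.node 2 (.node 1 (.one ⟨15270, 0, 3⟩) (.one ⟨3178, 6, 3⟩)) (.node 1 (.one ⟨12845, 3, 3⟩) (.one ⟨9074, 5, 4⟩))) (.node 2 (.node 1 (.one ⟨4200, 2, 1⟩) (.one ⟨6276, 5, 2⟩)) (.node 1 (.one ⟨15298, 6, 3⟩) (.one ⟨2994, 3, 1⟩))))) (.node 8 (.node 4 (.node 2 (.node 1 (.one ⟨1724, 4, 4⟩) (.one ⟨13303, 4, 4⟩)) (.node 1 (.one ⟨16817, 4, 3⟩) (.one ⟨15656, 6, 3⟩))) (.node 2 (.node 1 (.one ⟨9551, 5, 3⟩) (.one ⟨16605, 6, 4⟩))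 (.node 1 (.one ⟨8666, 5, 5⟩) (.one ⟨15680, 0, 3⟩)))) (.node 4 (.node 2 (.node 1 (.one ⟨9598, 5, 5⟩) (.one ⟨9596, 5, 2⟩)) (.node 1 (.one ⟨9595, 5, 5⟩) (.one ⟨601, 5, 5⟩))) (.node 2 (.node 1 (.one ⟨6973, 6, 5⟩) (.one ⟨587, 5, 4⟩)) (.node 1 (.one ⟨11932, 3, 5⟩) (.one ⟨10453, 5, 4⟩)))))) (.node 16 (.node 8 (.node 4 (.node 2 (.node 1 (.one ⟨7152, 5, 4⟩) (.one ⟨11087, 6, 3⟩)) (.node 1 (.one ⟨3596, 4, 4⟩) (.one ⟨8054, 6, 4⟩))) (.node 2 (.node 1 (.one ⟨11037, 5, 4⟩) (.one ⟨1226, 5, 4⟩)) (.node 1 (.one ⟨16996, 0, 2⟩) (.one ⟨16057, 5, 4⟩)))) (.node 4 (.node 2 (.node 1 (.one ⟨15589, 6, 3⟩) (.one ⟨5193, 5, 3⟩)) (.node 1 (.one ⟨1627, 6, 4⟩) (.one ⟨3316, 5, 2⟩))) (.node 2 (.node 1 (.one ⟨16733, 6, 3⟩) (.one ⟨14235, 5, 3⟩))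 (.node 1 (.one ⟨15249, 0, 3⟩) (.one ⟨8611, 6, 5⟩))))) (.node 8 (.node 4 (.node 2 (.node 1 (.one ⟨1313, 5, 2⟩) (.one ⟨1316, 5, 2⟩)) (.node 1 (.one ⟨1312, 5, 4⟩) (.one ⟨585, 5, 5⟩))) (.node 2 (.node 1 (.one ⟨16654, 3, 5⟩) (.one ⟨603, 5, 5⟩)) (.node 1 (.one ⟨1622, 6, 5⟩) (.one ⟨11196, 4, 3⟩)))) (.node 4 (.node 2 (.node 1 (.one ⟨9781, 6, 3⟩) (.one ⟨323, 5, 3⟩)) (.node 1 (.one ⟨345, 5, 3⟩) (.one ⟨5989, 5, 5⟩))) (.node 2 (.node 1 (.one ⟨11913, 6, 4⟩) (.one ⟨920, 5, 3⟩)) (.node 1 (.one ⟨3672, 6, 4⟩) (.one ⟨11382, 5, 4⟩)))))))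
def par3_8_9 : Arr Par :=
  (.node 32 (.node 16 (.node 8 (.node 4 (.node 2 (.node 1 (.one ⟨1780, 3, 1⟩) (.one ⟨1035, 6, 4⟩)) (.node 1 (.one ⟨5127, 2, 1⟩) (.one ⟨13117, 6, 4⟩))) (.node 2 (.node 1 (.one ⟨13115, 6, 4⟩) (.one ⟨13111, 6, 5⟩)) (.node 1 (.one ⟨13113, 6, 5⟩) (.one ⟨4732, 4, 4⟩)))) (.node 4 (.node 2 (.node 1 (.one ⟨3328, 5, 5⟩) (.one ⟨16186, 5, 4⟩)) (.node 1 (.one ⟨3831, 5, 2⟩) (.one ⟨1896, 5, 4⟩))) (.node 2 (.node 1 (.one ⟨14297, 5, 3⟩) (.one ⟨13520, 6, 5⟩)) (.node 1 (.one ⟨16607, 5, 5⟩) (.one ⟨8761, 5, 4⟩))))) (.node 8 (.node 4 (.node 2 (.node 1 (.one ⟨12015, 5, 3⟩) (.one ⟨15745, 5, 5⟩)) (.node 1 (.one ⟨4561, 5, 4⟩) (.one ⟨14732, 5, 4⟩))) (.node 2 (.node 1 (.one ⟨17039, 6, 4⟩) (.one ⟨4849, 6, 4⟩))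 (.node 1 (.one ⟨11259, 5, 5⟩) (.one ⟨7625, 4, 3⟩)))) (.node 4 (.node 2 (.node 1 (.one ⟨10752, 6, 3⟩) (.one ⟨2968, 6, 4⟩)) (.node 1 (.one ⟨14753, 5, 4⟩) (.one ⟨11707, 5, 3⟩))) (.node 2 (.node 1 (.one ⟨9898, 0, 2⟩) (.one ⟨6639, 5, 3⟩)) (.node 1 (.one ⟨11425, 6, 5⟩) (.one ⟨8526, 5, 3⟩)))))) (.node 16 (.node 8 (.node 4 (.node 2 (.node 1 (.one ⟨7850, 5, 3⟩) (.one ⟨6370, 5, 3⟩)) (.node 1 (.one ⟨12133, 3, 1⟩) (.one ⟨8789, 6, 5⟩))) (.node 2 (.node 1 (.one ⟨11323, 6, 5⟩) (.one ⟨15835, 6, 3⟩)) (.node 1 (.one ⟨13507, 5, 3⟩) (.one ⟨4531, 4, 1⟩)))) (.node 4 (.node 2 (.node 1 (.one ⟨15027, 6, 4⟩) (.one ⟨5289, 5, 4⟩)) (.node 1 (.one ⟨7996, 5, 4⟩) (.one ⟨8603, 5, 4⟩))) (.node 2 (.node 1 (.one ⟨3959, 5, 3⟩) (.one ⟨15888, 5,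 3⟩)) (.node 1 (.one ⟨13563, 5, 4⟩) (.one ⟨8539, 5, 5⟩))))) (.node 8 (.node 4 (.node 2 (.node 1 (.one ⟨5438, 6, 3⟩) (.one ⟨4579, 6, 3⟩)) (.node 1 (.one ⟨16921, 6, 3⟩) (.one ⟨997, 4, 4⟩))) (.node 2 (.node 1 (.one ⟨559, 0, 4⟩) (.one ⟨2627, 6, 4⟩)) (.node 1 (.one ⟨14186, 6, 3⟩) (.one ⟨15028, 6, 4⟩)))) (.node 4 (.node 2 (.node 1 (.one ⟨10207, 6, 5⟩) (.one ⟨15095, 6, 5⟩)) (.node 1 (.one ⟨9864, 0, 3⟩) (.one ⟨9731, 6, 3⟩))) (.node 2 (.node 1 (.one ⟨14690, 6, 5⟩) (.one ⟨4012, 4, 3⟩)) (.node 1 (.one ⟨14766, 6, 3⟩) (.one ⟨12974, 1, 3⟩)))))))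
def par3_8_10 : Arr Par :=
  (.node 32 (.node 16 (.node 8 (.node 4 (.node 2 (.node 1 (.one ⟨11213, 5, 4⟩) (.one ⟨7977, 5, 5⟩)) (.node 1 (.one ⟨1730, 2, 3⟩) (.one ⟨12314, 4, 5⟩))) (.node 2 (.node 1 (.one ⟨10537, 6, 4⟩) (.one ⟨2401, 4, 5⟩)) (.node 1 (.one ⟨8397, 6, 2⟩) (.one ⟨4200, 3, 1⟩)))) (.node 4 (.node 2 (.node 1 (.one ⟨2271, 6, 5⟩) (.one ⟨12642, 4, 2⟩)) (.node 1 (.one ⟨5360, 1, 1⟩) (.one ⟨11799, 4, 4⟩))) (.node 2 (.node 1 (.one ⟨3063, 5, 3⟩) (.one ⟨8805, 3, 4⟩)) (.node 1 (.one ⟨3783, 6, 4⟩) (.one ⟨4699, 3, 2⟩))))) (.node 8 (.node 4 (.node 2 (.node 1 (.one ⟨11052, 6, 5⟩) (.one ⟨7400, 5, 5⟩)) (.node 1 (.one ⟨10384, 4, 4⟩) (.one ⟨10144, 5, 3⟩))) (.node 2 (.node 1 (.one ⟨460, 6, 4⟩) (.one ⟨637, 6, 4⟩)) (.node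 1 (.one ⟨304, 6, 3⟩) (.one ⟨4411, 6, 4⟩)))) (.node 4 (.node 2 (.node 1 (.one ⟨10194, 5, 3⟩) (.one ⟨11976, 4, 1⟩)) (.node 1 (.one ⟨7396, 5, 4⟩) (.one ⟨1646, 5, 3⟩))) (.node 2 (.node 1 (.one ⟨15160, 6, 3⟩) (.one ⟨15592, 5, 4⟩)) (.node 1 (.one ⟨10144, 6, 3⟩) (.one ⟨14348, 1, 3⟩)))))) (.node 16 (.node 8 (.node 4 (.node 2 (.node 1 (.one ⟨15551, 5, 5⟩) (.one ⟨2866, 6, 5⟩)) (.node 1 (.one ⟨4876, 1, 3⟩) (.one ⟨907, 1, 3⟩))) (.node 2 (.node 1 (.one ⟨9170, 5, 5⟩) (.one ⟨7154, 6, 4⟩)) (.node 1 (.one ⟨17062, 1, 3⟩) (.one ⟨11435, 6, 4⟩)))) (.node 4 (.node 2 (.node 1 (.one ⟨427, 6, 4⟩) (.one ⟨8601, 5, 4⟩)) (.node 1 (.one ⟨2275, 6, 3⟩) (.one ⟨4672, 6, 5⟩))) (.node 2 (.node 1 (.one ⟨8289, 5, 4⟩) (.one ⟨16883, 4, 3⟩)) (.node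 1 (.one ⟨11640, 6, 4⟩) (.one ⟨877, 6, 3⟩))))) (.node 8 (.node 4 (.node 2 (.node 1 (.one ⟨22, 6, 4⟩) (.one ⟨6977, 4, 3⟩)) (.node 1 (.one ⟨16978, 0, 4⟩) (.one ⟨2504, 6, 4⟩))) (.node 2 (.node 1 (.one ⟨5394, 5, 4⟩) (.one ⟨12285, 4, 4⟩)) (.node 1 (.one ⟨2506, 6, 4⟩) (.one ⟨3854, 5, 3⟩)))) (.node 4 (.node 2 (.node 1 (.one ⟨5145, 6, 5⟩) (.one ⟨12596, 5, 3⟩)) (.node 1 (.one ⟨14275, 0, 2⟩) (.one ⟨2199, 6, 3⟩))) (.node 2 (.node 1 (.one ⟨9425, 5, 4⟩) (.one ⟨9350, 4, 3⟩)) (.node 1 (.one ⟨3016, 5, 4⟩) (.one ⟨4941, 5, 4⟩)))))))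
def par3_8_11 : Arr Par :=
  (.node 32 (.node 16 (.node 8 (.node 4 (.node 2 (.node 1 (.one ⟨6276, 0, 2⟩) (.one ⟨9612, 3, 3⟩)) (.node 1 (.one ⟨4235, 3, 4⟩) (.one ⟨5370, 6, 4⟩))) (.node 2 (.node 1 (.one ⟨4417, 4, 4⟩) (.one ⟨11652, 5, 3⟩)) (.node 1 (.one ⟨12419, 1, 3⟩) (.one ⟨1106, 6, 2⟩)))) (.node 4 (.node 2 (.node 1 (.one ⟨2924, 5, 5⟩) (.one ⟨11502, 5, 4⟩)) (.node 1 (.one ⟨9346, 4, 3⟩) (.one ⟨5392, 4, 3⟩))) (.node 2 (.node 1 (.one ⟨7475, 6, 4⟩) (.one ⟨7512, 6, 4⟩)) (.node 1 (.one ⟨1391, 6, 2⟩) (.one ⟨6928, 6, 4⟩))))) (.node 8 (.node 4 (.node 2 (.node 1 (.one ⟨11216, 6, 4⟩) (.one ⟨12154, 5, 4⟩)) (.node 1 (.one ⟨16959, 5, 4⟩) (.one ⟨3087, 5, 4⟩))) (.node 2 (.node 1 (.one ⟨14532, 6, 5⟩) (.one ⟨5052, 4, 3⟩)) (.node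 1 (.one ⟨16341, 5, 4⟩) (.one ⟨3359, 6, 5⟩)))) (.node 4 (.node 2 (.node 1 (.one ⟨12994, 6, 4⟩) (.one ⟨12153, 5, 3⟩)) (.node 1 (.one ⟨1597, 5, 3⟩) (.one ⟨15014, 4, 2⟩))) (.node 2 (.node 1 (.one ⟨16193, 5, 3⟩) (.one ⟨12376, 5, 4⟩)) (.node 1 (.one ⟨4444, 4, 3⟩) (.one ⟨9345, 4, 3⟩)))))) (.node 16 (.node 8 (.node 4 (.node 2 (.node 1 (.one ⟨14337, 0, 3⟩) (.one ⟨9898, 6, 2⟩)) (.node 1 (.one ⟨11389, 5, 4⟩) (.one ⟨7694, 5, 5⟩))) (.node 2 (.node 1 (.one ⟨17065, 5, 4⟩) (.one ⟨8989, 5, 3⟩)) (.node 1 (.one ⟨14323, 6, 4⟩) (.one ⟨12160, 5, 3⟩)))) (.node 4 (.node 2 (.node 1 (.one ⟨16126, 6, 3⟩) (.one ⟨247, 5, 4⟩)) (.node 1 (.one ⟨3068, 6, 3⟩) (.one ⟨9608, 3, 3⟩))) (.node 2 (.node 1 (.one ⟨12673, 0, 3⟩) (.one ⟨3894, 6, 4⟩))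 (.node 1 (.one ⟨12100, 5, 4⟩) (.one ⟨9911, 6, 4⟩))))) (.node 8 (.node 4 (.node 2 (.node 1 (.one ⟨12957, 4, 3⟩) (.one ⟨13411, 5, 1⟩)) (.node 1 (.one ⟨4635, 6, 4⟩) (.one ⟨7946, 4, 3⟩))) (.node 2 (.node 1 (.one ⟨16074, 6, 5⟩) (.one ⟨1304, 3, 4⟩)) (.node 1 (.one ⟨13315, 5, 5⟩) (.one ⟨6850, 5, 4⟩)))) (.node 4 (.node 2 (.node 1 (.one ⟨10845, 3, 3⟩) (.one ⟨4368, 3, 3⟩)) (.node 1 (.one ⟨8409, 6, 4⟩) (.one ⟨8570, 6, 5⟩))) (.node 2 (.node 1 (.one ⟨4968, 6, 4⟩) (.one ⟨13610, 1, 3⟩)) (.node 1 (.one ⟨14887, 6, 5⟩) (.one ⟨1540, 6, 5⟩)))))))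
def par3_8_12 : Arr Par :=
  (.node 32 (.node 16 (.node 8 (.node 4 (.node 2 (.node 1 (.one ⟨15181, 3, 3⟩) (.one ⟨1345, 2, 2⟩)) (.node 1 (.one ⟨10878, 4, 3⟩) (.one ⟨10862, 6, 5⟩))) (.node 2 (.node 1 (.one ⟨13288, 6, 4⟩) (.one ⟨11652, 6, 3⟩)) (.node 1 (.one ⟨10512, 6, 1⟩) (.one ⟨15933, 4, 2⟩)))) (.node 4 (.node 2 (.node 1 (.one ⟨8125, 5, 5⟩) (.one ⟨327, 5, 3⟩)) (.node 1 (.one ⟨1335, 4, 4⟩) (.one ⟨4714, 6, 3⟩))) (.node 2 (.node 1 (.one ⟨15002, 1, 2⟩) (.one ⟨3609, 4, 3⟩)) (.node 1 (.one ⟨25, 5, 3⟩) (.one ⟨6101, 4, 5⟩))))) (.node 8 (.node 4 (.node 2 (.node 1 (.one ⟨9272, 6, 3⟩) (.one ⟨5424, 6, 5⟩)) (.node 1 (.one ⟨5946, 5, 2⟩) (.one ⟨1339, 4, 4⟩))) (.node 2 (.node 1 (.one ⟨9074, 6, 4⟩) (.one ⟨13911, 6, 4⟩)) (.node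 1 (.one ⟨14224, 5, 2⟩) (.one ⟨14183, 5, 4⟩)))) (.node 4 (.node 2 (.node 1 (.one ⟨721, 5, 4⟩) (.one ⟨11813, 6, 4⟩)) (.node 1 (.one ⟨7210, 6, 4⟩) (.one ⟨14151, 5, 4⟩))) (.node 2 (.node 1 (.one ⟨1310, 4, 3⟩) (.one ⟨5565, 6, 2⟩)) (.node 1 (.one ⟨12867, 4, 2⟩) (.one ⟨8035, 6, 3⟩)))))) (.node 16 (.node 8 (.node 4 (.node 2 (.node 1 (.one ⟨5475, 6, 2⟩) (.one ⟨13833, 6, 3⟩)) (.node 1 (.one ⟨5960, 2, 2⟩) (.one ⟨2819, 1, 2⟩))) (.node 2 (.node 1 (.one ⟨7147, 6, 2⟩) (.one ⟨1329, 3, 3⟩)) (.node 1 (.one ⟨17072, 6, 3⟩) (.one ⟨127, 0, 3⟩)))) (.node 4 (.node 2 (.node 1 (.one ⟨10422, 0, 3⟩) (.one ⟨3295, 6, 4⟩)) (.node 1 (.one ⟨12831, 0, 3⟩) (.one ⟨16926, 5, 4⟩))) (.node 2 (.node 1 (.one ⟨1342, 4, 3⟩) (.one ⟨16875, 5, 2⟩)) (.node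 1 (.one ⟨3383, 4, 4⟩) (.one ⟨13208, 1, 3⟩))))) (.node 8 (.node 4 (.node 2 (.node 1 (.one ⟨11141, 6, 3⟩) (.one ⟨4150, 5, 4⟩)) (.node 1 (.one ⟨4956, 1, 3⟩) (.one ⟨10112, 5, 2⟩))) (.node 2 (.node 1 (.one ⟨9585, 2, 2⟩) (.one ⟨8153, 5, 4⟩)) (.node 1 (.one ⟨4285, 5, 4⟩) (.one ⟨16696, 0, 3⟩)))) (.node 4 (.node 2 (.node 1 (.one ⟨5328, 5, 2⟩) (.one ⟨14900, 6, 2⟩)) (.node 1 (.one ⟨13117, 5, 4⟩) (.one ⟨1185, 3, 3⟩))) (.node 2 (.node 1 (.one ⟨2240, 6, 4⟩) (.one ⟨1940, 2, 2⟩)) (.node 1 (.one ⟨8394, 6, 3⟩) (.one ⟨6446, 6, 4⟩)))))))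
def par3_8_13 : Arr Par :=
  (.node 32 (.node 16 (.node 8 (.node 4 (.node 2 (.node 1 (.one ⟨6739, 4, 3⟩) (.one ⟨15538, 5, 4⟩)) (.node 1 (.one ⟨15942, 5, 4⟩) (.one ⟨3964, 6, 4⟩))) (.node 2 (.node 1 (.one ⟨17115, 1, 4⟩) (.one ⟨8331, 5, 4⟩)) (.node 1 (.one ⟨252, 6, 4⟩) (.one ⟨12351, 6, 3⟩)))) (.node 4 (.node 2 (.node 1 (.one ⟨3064, 5, 3⟩) (.one ⟨15777, 6, 3⟩)) (.node 1 (.one ⟨3979, 6, 3⟩) (.one ⟨105, 6, 3⟩))) (.node 2 (.node 1 (.one ⟨14350, 6, 3⟩) (.one ⟨9062, 0, 4⟩)) (.node 1 (.one ⟨15013, 5, 4⟩) (.one ⟨4367, 6, 4⟩))))) (.node 8 (.node 4 (.node 2 (.node 1 (.one ⟨5513, 5, 3⟩) (.one ⟨12796, 0, 3⟩)) (.node 1 (.one ⟨5518, 5, 3⟩) (.one ⟨17115, 4, 4⟩))) (.node 2 (.node 1 (.one ⟨5511, 5, 3⟩) (.one ⟨5771, 4, 3⟩)) (.node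 1 (.one ⟨5224, 0, 3⟩) (.one ⟨9011, 0, 3⟩)))) (.node 4 (.node 2 (.node 1 (.one ⟨7997, 6, 4⟩) (.one ⟨861, 4, 3⟩)) (.node 1 (.one ⟨10636, 5, 3⟩) (.one ⟨6654, 5, 4⟩))) (.node 2 (.node 1 (.one ⟨15583, 5, 5⟩) (.one ⟨13721, 1, 4⟩)) (.node 1 (.one ⟨7689, 6, 4⟩) (.one ⟨16166, 6, 4⟩)))))) (.node 16 (.node 8 (.node 4 (.node 2 (.node 1 (.one ⟨1293, 3, 1⟩) (.one ⟨9799, 6, 4⟩)) (.node 1 (.one ⟨971, 4, 3⟩) (.one ⟨13724, 5, 4⟩))) (.node 2 (.node 1 (.one ⟨2968, 5, 4⟩) (.one ⟨3643, 5, 4⟩)) (.node 1 (.one ⟨16439, 5, 3⟩) (.one ⟨3057, 4, 3⟩)))) (.node 4 (.node 2 (.node 1 (.one ⟨14288, 6, 5⟩) (.one ⟨16163, 6, 4⟩)) (.node 1 (.one ⟨13201, 5, 4⟩) (.one ⟨7685, 3, 3⟩))) (.node 2 (.node 1 (.one ⟨12831, 6, 3⟩) (.one ⟨11452, 6, 3⟩)) (.node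 1 (.one ⟨10981, 6, 3⟩) (.one ⟨9176, 3, 3⟩))))) (.node 8 (.node 4 (.node 2 (.node 1 (.one ⟨12302, 5, 5⟩) (.one ⟨8770, 6, 2⟩)) (.node 1 (.one ⟨13208, 4, 3⟩) (.one ⟨7848, 1, 2⟩))) (.node 2 (.node 1 (.one ⟨15908, 6, 3⟩) (.one ⟨11421, 6, 2⟩)) (.node 1 (.one ⟨13304, 4, 4⟩) (.one ⟨11634, 6, 3⟩)))) (.node 4 (.node 2 (.node 1 (.one ⟨4653, 4, 4⟩) (.one ⟨2019, 6, 3⟩)) (.node 1 (.one ⟨13222, 5, 3⟩) (.one ⟨16650, 6, 4⟩))) (.node 2 (.node 1 (.one ⟨13413, 0, 1⟩) (.one ⟨14905, 5, 3⟩)) (.node 1 (.one ⟨13091, 4, 3⟩) (.one ⟨9017, 5, 3⟩)))))))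
def par3_8_14 : Arr Par :=
  (.node 32 (.node 16 (.node 8 (.node 4 (.node 2 (.node 1 (.one ⟨17148, 0, 2⟩) (.one ⟨2339, 5, 5⟩)) (.node 1 (.one ⟨3703, 6, 4⟩) (.one ⟨5629, 6, 5⟩))) (.node 2 (.node 1 (.one ⟨4591, 6, 2⟩) (.one ⟨5182, 4, 4⟩)) (.node 1 (.one ⟨9835, 4, 3⟩) (.one ⟨12670, 0, 5⟩)))) (.node 4 (.node 2 (.node 1 (.one ⟨4812, 5, 4⟩) (.one ⟨6289, 4, 3⟩)) (.node 1 (.one ⟨13222, 3, 3⟩) (.one ⟨14186, 5, 3⟩))) (.node 2 (.node 1 (.one ⟨13068, 4, 4⟩) (.one ⟨12307, 5, 3⟩)) (.node 1 (.one ⟨3973, 6, 4⟩) (.one ⟨1858, 6, 4⟩))))) (.node 8 (.node 4 (.node 2 (.node 1 (.one ⟨14274, 0, 4⟩) (.one ⟨11545, 3, 3⟩)) (.node 1 (.one ⟨16682, 6, 5⟩) (.one ⟨12240, 3, 3⟩))) (.node 2 (.node 1 (.one ⟨3508, 5, 5⟩) (.one ⟨16876, 5, 5⟩))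 (.node 1 (.one ⟨10584, 6, 4⟩) (.one ⟨6946, 6, 4⟩)))) (.node 4 (.node 2 (.node 1 (.one ⟨12857, 5, 2⟩) (.one ⟨3425, 5, 5⟩)) (.node 1 (.one ⟨14055, 0, 3⟩) (.one ⟨5391, 0, 3⟩))) (.node 2 (.node 1 (.one ⟨16442, 0, 3⟩) (.one ⟨12304, 5, 3⟩)) (.node 1 (.one ⟨14341, 0, 3⟩) (.one ⟨16953, 6, 3⟩)))))) (.node 16 (.node 8 (.node 4 (.node 2 (.node 1 (.one ⟨14645, 4, 4⟩) (.one ⟨9775, 6, 3⟩)) (.node 1 (.one ⟨9167, 2, 3⟩) (.one ⟨7767, 1, 2⟩))) (.node 2 (.node 1 (.one ⟨7309, 4, 4⟩) (.one ⟨16817, 6, 3⟩)) (.node 1 (.one ⟨9380, 5, 5⟩) (.one ⟨13189, 4, 3⟩)))) (.node 4 (.node 2 (.node 1 (.one ⟨11664, 4, 3⟩) (.one ⟨3272, 4, 3⟩)) (.node 1 (.one ⟨1477, 2, 2⟩) (.one ⟨13210, 4, 3⟩))) (.node 2 (.node 1 (.one ⟨7520, 6, 5⟩) (.one ⟨9980, 6,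 4⟩)) (.node 1 (.one ⟨448, 4, 4⟩) (.one ⟨6825, 5, 3⟩))))) (.node 8 (.node 4 (.node 2 (.node 1 (.one ⟨3064, 3, 3⟩) (.one ⟨15767, 6, 4⟩)) (.node 1 (.one ⟨407, 1, 0⟩) (.one ⟨11162, 3, 3⟩))) (.node 2 (.node 1 (.one ⟨14692, 5, 4⟩) (.one ⟨4244, 1, 0⟩)) (.node 1 (.one ⟨13814, 4, 3⟩) (.one ⟨6743, 3, 3⟩)))) (.node 4 (.node 2 (.node 1 (.one ⟨6825, 3, 3⟩) (.one ⟨8512, 6, 4⟩)) (.node 1 (.one ⟨370, 1, 0⟩) (.one ⟨14196, 6, 4⟩))) (.node 2 (.node 1 (.one ⟨14793, 3, 3⟩) (.one ⟨4623, 1, 0⟩)) (.node 1 (.one ⟨4117, 1, 0⟩) (.one ⟨10404, 6, 3⟩)))))))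
def par3_8_15 : Arr Par :=
  (.node 32 (.node 16 (.node 8 (.node 4 (.node 2 (.node 1 (.one ⟨13244, 5, 3⟩) (.one ⟨3763, 0, 1⟩)) (.node 1 (.one ⟨676, 5, 4⟩) (.one ⟨9225, 4, 3⟩))) (.node 2 (.node 1 (.one ⟨3874, 0, 1⟩) (.one ⟨403, 5, 4⟩)) (.node 1 (.one ⟨2855, 6, 5⟩) (.one ⟨4640, 5, 4⟩)))) (.node 4 (.node 2 (.node 1 (.one ⟨2994, 2, 1⟩) (.one ⟨3763, 2, 1⟩)) (.node 1 (.one ⟨10550, 5, 4⟩) (.one ⟨16567, 4, 4⟩))) (.node 2 (.node 1 (.one ⟨3670, 3, 2⟩) (.one ⟨14670, 5, 4⟩)) (.node 1 (.one ⟨1280, 5, 4⟩) (.one ⟨1485, 1, 2⟩))))) (.node 8 (.node 4 (.node 2 (.node 1 (.one ⟨10971, 5, 4⟩) (.one ⟨12226, 5, 4⟩)) (.node 1 (.one ⟨5069, 5, 4⟩) (.one ⟨16420, 6, 2⟩))) (.node 2 (.node 1 (.one ⟨8132, 6, 4⟩) (.one ⟨13209, 3, 3⟩)) (.node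 1 (.one ⟨12353, 5, 4⟩) (.one ⟨1395, 0, 4⟩)))) (.node 4 (.node 2 (.node 1 (.one ⟨1473, 1, 2⟩) (.one ⟨1477, 1, 2⟩)) (.node 1 (.one ⟨12058, 4, 3⟩) (.one ⟨5072, 5, 5⟩))) (.node 2 (.node 1 (.one ⟨17166, 3, 3⟩) (.one ⟨9130, 3, 3⟩)) (.node 1 (.one ⟨1023, 5, 3⟩) (.one ⟨579, 3, 4⟩)))))) (.node 16 (.node 8 (.node 4 (.node 2 (.node 1 (.one ⟨4611, 6, 4⟩) (.one ⟨17042, 6, 4⟩)) (.node 1 (.one ⟨12832, 6, 4⟩) (.one ⟨10311, 5, 1⟩))) (.node 2 (.node 1 (.one ⟨10371, 6, 3⟩) (.one ⟨10744, 5, 2⟩)) (.node 1 (.one ⟨2239, 6, 3⟩) (.one ⟨6371, 6, 1⟩)))) (.node 4 (.node 2 (.node 1 (.one ⟨1551, 6, 1⟩) (.one ⟨14495, 6, 3⟩)) (.node 1 (.one ⟨9763, 6, 2⟩) (.one ⟨15198, 6, 4⟩))) (.node 2 (.node 1 (.one ⟨10828, 6, 3⟩) (.one ⟨7261, 6, 4⟩)) (.node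 1 (.one ⟨2826, 6, 4⟩) (.one ⟨12372, 6, 3⟩))))) (.node 8 (.node 4 (.node 2 (.node 1 (.one ⟨1840, 5, 3⟩) (.one ⟨5473, 4, 3⟩)) (.node 1 (.one ⟨5436, 4, 3⟩) (.one ⟨13505, 4, 4⟩))) (.node 2 (.node 1 (.one ⟨13532, 4, 4⟩) (.one ⟨8600, 5, 3⟩)) (.node 1 (.one ⟨1048, 5, 2⟩) (.one ⟨16992, 4, 3⟩)))) (.node 4 (.node 2 (.node 1 (.one ⟨9516, 0, 2⟩) (.one ⟨15470, 6, 3⟩)) (.node 1 (.one ⟨8939, 4, 4⟩) (.one ⟨11279, 5, 5⟩))) (.node 2 (.node 1 (.one ⟨16974, 4, 3⟩) (.one ⟨8897, 4, 4⟩)) (.node 1 (.one ⟨8924, 4, 4⟩) (.one ⟨11296, 5, 3⟩)))))))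
def par3_8 : Arr Par :=
  (.node 512 (.node 256 (.node 128 (.node 64 par3_8_0 par3_8_1) (.node 64 par3_8_2 par3_8_3)) (.node 128 (.node 64 par3_8_4 par3_8_5) (.node 64 par3_8_6 par3_8_7))) (.node 256 (.node 128 (.node 64 par3_8_8 par3_8_9) (.node 64 par3_8_10 par3_8_11)) (.node 128 (.node 64 par3_8_12 par3_8_13) (.node 64 par3_8_14 par3_8_15))))
def par3_9_0 : Arr Par :=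
  (.node 32 (.node 16 (.node 8 (.node 4 (.node 2 (.node 1 (.one ⟨7949, 6, 4⟩) (.one ⟨11516, 5, 2⟩)) (.node 1 (.one ⟨11715, 5, 4⟩) (.one ⟨7522, 6, 3⟩))) (.node 2 (.node 1 (.one ⟨9830, 6, 3⟩) (.one ⟨9819, 1, 5⟩)) (.node 1 (.one ⟨16137, 5, 4⟩) (.one ⟨9780, 1, 3⟩)))) (.node 4 (.node 2 (.node 1 (.one ⟨14382, 5, 3⟩) (.one ⟨9516, 6, 2⟩)) (.node 1 (.one ⟨7815, 0, 4⟩) (.one ⟨1148, 6, 3⟩))) (.node 2 (.node 1 (.one ⟨10894, 5, 5⟩) (.one ⟨15918, 0, 3⟩)) (.node 1 (.one ⟨4651, 5, 2⟩) (.one ⟨9663, 3, 2⟩))))) (.node 8 (.node 4 (.node 2 (.node 1 (.one ⟨1669, 3, 2⟩) (.one ⟨1442, 1, 1⟩)) (.node 1 (.one ⟨16295, 6, 4⟩) (.one ⟨9749, 3, 2⟩))) (.node 2 (.node 1 (.one ⟨14999, 5, 4⟩) (.one ⟨1441, 1, 1⟩)) (.node 1 (.one ⟨1445, 1, 1⟩)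 (.one ⟨12678, 4, 3⟩)))) (.node 4 (.node 2 (.node 1 (.one ⟨5948, 3, 2⟩) (.one ⟨1534, 6, 4⟩)) (.node 1 (.one ⟨1450, 1, 1⟩) (.one ⟨5142, 6, 5⟩))) (.node 2 (.node 1 (.one ⟨6060, 3, 2⟩) (.one ⟨6040, 5, 3⟩)) (.node 1 (.one ⟨1449, 1, 1⟩) (.one ⟨4521, 4, 3⟩)))))) (.node 16 (.node 8 (.node 4 (.node 2 (.node 1 (.one ⟨12579, 4, 3⟩) (.one ⟨12570, 4, 4⟩)) (.node 1 (.one ⟨6804, 5, 4⟩) (.one ⟨984, 6, 4⟩))) (.node 2 (.node 1 (.one ⟨4469, 4, 3⟩) (.one ⟨4492, 4, 4⟩)) (.node 1 (.one ⟨12545, 4, 4⟩) (.one ⟨8225, 4, 3⟩)))) (.node 4 (.node 2 (.node 1 (.one ⟨16297, 4, 3⟩) (.one ⟨1341, 5, 3⟩)) (.node 1 (.one ⟨15688, 6, 3⟩) (.one ⟨16244, 4, 3⟩))) (.node 2 (.node 1 (.one ⟨619, 6, 3⟩) (.one ⟨16263, 4, 4⟩)) (.node 1 (.one ⟨8197, 4, 4⟩)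 (.one ⟨12999, 5, 5⟩))))) (.node 8 (.node 4 (.node 2 (.node 1 (.one ⟨245, 5, 2⟩) (.one ⟨5057, 4, 4⟩)) (.node 1 (.one ⟨13156, 4, 4⟩) (.one ⟨17097, 4, 3⟩))) (.node 2 (.node 1 (.one ⟨2559, 6, 4⟩) (.one ⟨13130, 4, 4⟩)) (.node 1 (.one ⟨3230, 3, 3⟩) (.one ⟨4382, 5, 4⟩)))) (.node 4 (.node 2 (.node 1 (.one ⟨1180, 0, 2⟩) (.one ⟨9019, 4, 4⟩)) (.node 1 (.one ⟨16123, 6, 4⟩) (.one ⟨5077, 4, 3⟩))) (.node 2 (.node 1 (.one ⟨13105, 4, 3⟩) (.one ⟨14533, 6, 3⟩)) (.node 1 (.one ⟨2742, 5, 3⟩) (.one ⟨6823, 5, 3⟩)))))))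
def par3_9_1 : Arr Par :=
  (.node 32 (.node 16 (.node 8 (.node 4 (.node 2 (.node 1 (.one ⟨11698, 5, 4⟩) (.one ⟨4402, 3, 3⟩)) (.node 1 (.one ⟨4455, 3, 3⟩) (.one ⟨525, 1, 0⟩))) (.node 2 (.node 1 (.one ⟨388, 1, 0⟩) (.one ⟨6457, 6, 4⟩)) (.node 1 (.one ⟨7462, 4, 3⟩) (.one ⟨8167, 3, 3⟩)))) (.node 4 (.node 2 (.node 1 (.one ⟨17128, 6, 4⟩) (.one ⟨8129, 3, 3⟩)) (.node 1 (.one ⟨4455, 5, 3⟩) (.one ⟨2863, 6, 4⟩))) (.node 2 (.node 1 (.one ⟨425, 1, 0⟩) (.one ⟨11528, 4, 3⟩)) (.node 1 (.one ⟨603, 1, 0⟩) (.one ⟨5807, 6, 3⟩))))) (.node 8 (.node 4 (.node 2 (.node 1 (.one ⟨2940, 6, 4⟩) (.one ⟨10759, 5, 1⟩)) (.node 1 (.one ⟨10934, 6, 3⟩) (.one ⟨10715, 6, 2⟩))) (.node 2 (.node 1 (.one ⟨79, 3, 4⟩) (.one ⟨2715, 6, 3⟩)) (.node 1 (.one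 ⟨7295, 6, 4⟩) (.one ⟨4573, 6, 4⟩)))) (.node 4 (.node 2 (.node 1 (.one ⟨6521, 6, 2⟩) (.one ⟨14523, 6, 3⟩)) (.node 1 (.one ⟨12785, 6, 4⟩) (.one ⟨17192, 6, 4⟩))) (.node 2 (.node 1 (.one ⟨65, 1, 0⟩) (.one ⟨10188, 5, 2⟩)) (.node 1 (.one ⟨9067, 6, 4⟩) (.one ⟨15522, 4, 4⟩)))))) (.node 16 (.node 8 (.node 4 (.node 2 (.node 1 (.one ⟨3293, 5, 4⟩) (.one ⟨3490, 4, 3⟩)) (.node 1 (.one ⟨12915, 5, 2⟩) (.one ⟨9599, 5, 3⟩))) (.node 2 (.node 1 (.one ⟨15501, 4, 4⟩) (.one ⟨3451, 4, 3⟩)) (.node 1 (.one ⟨946, 6, 4⟩) (.one ⟨7710, 5, 4⟩)))) (.node 4 (.node 2 (.node 1 (.one ⟨11548, 4, 4⟩) (.one ⟨7467, 4, 3⟩)) (.node 1 (.one ⟨7448, 4, 3⟩) (.one ⟨14857, 5, 3⟩))) (.node 2 (.node 1 (.one ⟨11523, 4, 4⟩) (.one ⟨1057, 6, 4⟩)) (.node 1 (.one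 ⟨7424, 4, 3⟩) (.one ⟨1546, 6, 4⟩))))) (.node 8 (.node 4 (.node 2 (.node 1 (.one ⟨1697, 3, 3⟩) (.one ⟨1463, 1, 2⟩)) (.node 1 (.one ⟨1469, 1, 2⟩) (.one ⟨1588, 3, 3⟩))) (.node 2 (.node 1 (.one ⟨1697, 5, 3⟩) (.one ⟨13078, 5, 4⟩)) (.node 1 (.one ⟨1465, 1, 2⟩) (.one ⟨14119, 3, 3⟩)))) (.node 4 (.node 2 (.node 1 (.one ⟨10625, 6, 4⟩) (.one ⟨1461, 1, 2⟩)) (.node 1 (.one ⟨1126, 5, 4⟩) (.one ⟨6008, 3, 3⟩))) (.node 2 (.node 1 (.one ⟨14014, 3, 3⟩) (.one ⟨9682, 3, 5⟩)) (.node 1 (.one ⟨1462, 1, 2⟩) (.one ⟨14480, 5, 3⟩)))))))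
def par3_9_2 : Arr Par :=
  (.node 32 (.node 16 (.node 8 (.node 4 (.node 2 (.node 1 (.one ⟨2466, 6, 4⟩) (.one ⟨6445, 3, 2⟩)) (.node 1 (.one ⟨9156, 5, 2⟩) (.one ⟨9292, 1, 1⟩))) (.node 2 (.node 1 (.one ⟨9294, 1, 1⟩) (.one ⟨3627, 6, 5⟩)) (.node 1 (.one ⟨6384, 3, 2⟩) (.one ⟨9283, 1, 1⟩)))) (.node 4 (.node 2 (.node 1 (.one ⟨15784, 6, 4⟩) (.one ⟨10764, 3, 2⟩)) (.node 1 (.one ⟨10788, 3, 2⟩) (.one ⟨17002, 4, 4⟩))) (.node 2 (.node 1 (.one ⟨9284, 1, 1⟩) (.one ⟨5468, 4, 3⟩)) (.node 1 (.one ⟨6951, 5, 4⟩) (.one ⟨3828, 4, 4⟩))))) (.node 8 (.node 4 (.node 2 (.node 1 (.one ⟨8227, 5, 4⟩) (.one ⟨9653, 6, 3⟩)) (.node 1 (.one ⟨1425, 5, 3⟩) (.one ⟨3808, 4, 3⟩))) (.node 2 (.node 1 (.one ⟨1054, 6, 4⟩) (.one ⟨777, 6, 3⟩)) (.node 1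 (.one ⟨11829, 4, 3⟩) (.one ⟨444, 6, 5⟩)))) (.node 4 (.node 2 (.node 1 (.one ⟨9550, 1, 3⟩) (.one ⟨7816, 4, 3⟩)) (.node 1 (.one ⟨7851, 4, 3⟩) (.one ⟨7774, 4, 4⟩))) (.node 2 (.node 1 (.one ⟨7735, 4, 4⟩) (.one ⟨14286, 5, 5⟩)) (.node 1 (.one ⟨4075, 6, 3⟩) (.one ⟨6073, 6, 4⟩)))))) (.node 16 (.node 8 (.node 4 (.node 2 (.node 1 (.one ⟨10548, 6, 4⟩) (.one ⟨10411, 6, 3⟩)) (.node 1 (.one ⟨10767, 5, 2⟩) (.one ⟨13726, 6, 4⟩))) (.node 2 (.node 1 (.one ⟨82, 3, 4⟩) (.one ⟨14407, 5, 1⟩)) (.node 1 (.one ⟨14040, 6, 3⟩) (.one ⟨10268, 6, 2⟩)))) (.node 4 (.node 2 (.node 1 (.one ⟨14060, 5, 2⟩) (.one ⟨3972, 6, 3⟩)) (.node 1 (.one ⟨15844, 6, 4⟩) (.one ⟨1199, 6, 2⟩))) (.node 2 (.node 1 (.one ⟨14475, 6, 1⟩) (.one ⟨12511, 6, 4⟩)) (.node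 1 (.one ⟨7981, 6, 4⟩) (.one ⟨5786, 4, 3⟩))))) (.node 8 (.node 4 (.node 2 (.node 1 (.one ⟨6830, 6, 4⟩) (.one ⟨5720, 4, 3⟩)) (.node 1 (.one ⟨13816, 4, 3⟩) (.one ⟨9150, 5, 1⟩))) (.node 2 (.node 1 (.one ⟨2093, 4, 2⟩) (.one ⟨10109, 4, 2⟩)) (.node 1 (.one ⟨6183, 5, 4⟩) (.one ⟨1984, 4, 3⟩)))) (.node 4 (.node 2 (.node 1 (.one ⟨10144, 4, 3⟩) (.one ⟨1223, 0, 4⟩)) (.node 1 (.one ⟨10064, 4, 3⟩) (.one ⟨11808, 6, 4⟩))) (.node 2 (.node 1 (.one ⟨5684, 4, 2⟩) (.one ⟨13779, 4, 2⟩)) (.node 1 (.one ⟨5748, 4, 2⟩) (.one ⟨9653, 4, 3⟩)))))))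
def par3_9_3 : Arr Par :=
  (.node 32 (.node 16 (.node 8 (.node 4 (.node 2 (.node 1 (.one ⟨1648, 4, 3⟩) (.one ⟨9759, 4, 3⟩)) (.node 1 (.one ⟨9789, 6, 4⟩) (.one ⟨9663, 4, 2⟩))) (.node 2 (.node 1 (.one ⟨1669, 4, 2⟩) (.one ⟨9749, 4, 2⟩)) (.node 1 (.one ⟨5970, 6, 4⟩) (.one ⟨14088, 4, 3⟩)))) (.node 4 (.node 2 (.node 1 (.one ⟨5966, 4, 3⟩) (.one ⟨9464, 0, 4⟩)) (.node 1 (.one ⟨6040, 4, 3⟩) (.one ⟨1450, 5, 1⟩))) (.node 2 (.node 1 (.one ⟨5948, 4, 2⟩) (.one ⟨8936, 5, 4⟩)) (.node 1 (.one ⟨6060, 4, 2⟩) (.one ⟨7357, 3, 3⟩))))) (.node 8 (.node 4 (.node 2 (.node 1 (.one ⟨7391, 3, 3⟩) (.one ⟨7404, 4, 3⟩)) (.node 1 (.one ⟨1272, 1, 0⟩) (.one ⟨3087, 6, 4⟩))) (.node 2 (.node 1 (.one ⟨15464, 3, 3⟩) (.one ⟨11473, 3, 4⟩)) (.node 1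 (.one ⟨742, 1, 0⟩) (.one ⟨3423, 3, 3⟩)))) (.node 4 (.node 2 (.node 1 (.one ⟨1108, 1, 3⟩) (.one ⟨1978, 1, 0⟩)) (.node 1 (.one ⟨6484, 6, 4⟩) (.one ⟨11496, 3, 3⟩))) (.node 2 (.node 1 (.one ⟨7357, 5, 3⟩) (.one ⟨2112, 1, 0⟩)) (.node 1 (.one ⟨2337, 1, 0⟩) (.one ⟨1278, 1, 2⟩)))))) (.node 16 (.node 8 (.node 4 (.node 2 (.node 1 (.one ⟨9483, 5, 4⟩) (.one ⟨2205, 6, 4⟩)) (.node 1 (.one ⟨13823, 3, 3⟩) (.one ⟨5773, 3, 5⟩))) (.node 2 (.node 1 (.one ⟨1274, 1, 2⟩) (.one ⟨5793, 3, 3⟩)) (.node 1 (.one ⟨2049, 5, 3⟩) (.one ⟨11474, 5, 4⟩)))) (.node 4 (.node 2 (.node 1 (.one ⟨1264, 1, 2⟩) (.one ⟨10084, 3, 3⟩)) (.node 1 (.one ⟨2049, 3, 3⟩) (.one ⟨1268, 1, 2⟩))) (.node 2 (.node 1 (.one ⟨1267, 1, 2⟩) (.one ⟨5662, 6, 4⟩)) (.node 1 (.one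 ⟨1971, 3, 3⟩) (.one ⟨14110, 4, 4⟩))))) (.node 8 (.node 4 (.node 2 (.node 1 (.one ⟨14026, 4, 4⟩) (.one ⟨6027, 4, 4⟩)) (.node 1 (.one ⟨16786, 6, 3⟩) (.one ⟨1697, 4, 3⟩))) (.node 2 (.node 1 (.one ⟨1588, 4, 3⟩) (.one ⟨9419, 0, 2⟩)) (.node 1 (.one ⟨127, 5, 3⟩) (.one ⟨9732, 4, 4⟩)))) (.node 4 (.node 2 (.node 1 (.one ⟨9171, 6, 3⟩) (.one ⟨1685, 4, 4⟩)) (.node 1 (.one ⟨1601, 4, 4⟩) (.one ⟨14119, 4, 3⟩))) (.node 2 (.node 1 (.one ⟨14014, 4, 3⟩) (.one ⟨6008, 4, 3⟩)) (.node 1 (.one ⟨16383, 5, 5⟩) (.one ⟨3589, 5, 4⟩)))))))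
def par3_9_4 : Arr Par :=
  (.node 32 (.node 16 (.node 8 (.node 4 (.node 2 (.node 1 (.one ⟨6791, 4, 4⟩) (.one ⟨136, 6, 4⟩)) (.node 1 (.one ⟨3083, 4, 3⟩) (.one ⟨6715, 4, 4⟩))) (.node 2 (.node 1 (.one ⟨14829, 4, 4⟩) (.one ⟨3017, 4, 3⟩)) (.node 1 (.one ⟨11112, 4, 3⟩) (.one ⟨14847, 4, 3⟩)))) (.node 4 (.node 2 (.node 1 (.one ⟨6801, 4, 3⟩) (.one ⟨3108, 4, 4⟩)) (.node 1 (.one ⟨11139, 4, 4⟩) (.one ⟨6756, 4, 3⟩))) (.node 2 (.node 1 (.one ⟨989, 6, 4⟩) (.one ⟨13768, 5, 4⟩)) (.node 1 (.one ⟨9452, 5, 3⟩) (.one ⟨10783, 5, 2⟩))))) (.node 8 (.node 4 (.node 2 (.node 1 (.one ⟨10323, 6, 2⟩) (.one ⟨587, 3, 4⟩)) (.node 1 (.one ⟨15863, 6, 4⟩) (.one ⟨2671, 6, 2⟩))) (.node 2 (.node 1 (.one ⟨5962, 6, 1⟩) (.one ⟨7870, 6, 4⟩)) (.node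 1 (.one ⟨4477, 6, 3⟩) (.one ⟨2183, 6, 1⟩)))) (.node 4 (.node 2 (.node 1 (.one ⟨6544, 6, 4⟩) (.one ⟨14251, 6, 4⟩)) (.node 1 (.one ⟨10669, 6, 4⟩) (.one ⟨10680, 5, 2⟩))) (.node 2 (.node 1 (.one ⟨9192, 6, 2⟩) (.one ⟨2399, 6, 4⟩)) (.node 1 (.one ⟨5568, 6, 4⟩) (.one ⟨9199, 0, 4⟩)))))) (.node 16 (.node 8 (.node 4 (.node 2 (.node 1 (.one ⟨14477, 4, 3⟩) (.one ⟨3845, 5, 4⟩)) (.node 1 (.one ⟨14480, 4, 3⟩) (.one ⟨6384, 4, 2⟩))) (.node 2 (.node 1 (.one ⟨9206, 0, 3⟩) (.one ⟨6445, 4, 2⟩)) (.node 1 (.one ⟨4318, 5, 4⟩) (.one ⟨2694, 4, 3⟩)))) (.node 4 (.node 2 (.node 1 (.one ⟨7351, 6, 4⟩) (.one ⟨2712, 4, 3⟩)) (.node 1 (.one ⟨2733, 4, 3⟩) (.one ⟨10764, 4, 2⟩))) (.node 2 (.node 1 (.one ⟨9283, 5, 1⟩) (.one ⟨3506, 6, 4⟩)) (.node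 1 (.one ⟨10788, 4, 2⟩) (.one ⟨9556, 1, 1⟩))))) (.node 8 (.node 4 (.node 2 (.node 1 (.one ⟨7201, 5, 5⟩) (.one ⟨15917, 4, 3⟩)) (.node 1 (.one ⟨7959, 5, 4⟩) (.one ⟨9555, 1, 1⟩))) (.node 2 (.node 1 (.one ⟨1429, 0, 3⟩) (.one ⟨15885, 4, 3⟩)) (.node 1 (.one ⟨13969, 3, 2⟩) (.one ⟨15832, 4, 3⟩)))) (.node 4 (.node 2 (.node 1 (.one ⟨9566, 1, 1⟩) (.one ⟨15930, 6, 2⟩)) (.node 1 (.one ⟨2107, 3, 2⟩) (.one ⟨2184, 5, 3⟩))) (.node 2 (.node 1 (.one ⟨14614, 6, 4⟩) (.one ⟨7803, 6, 5⟩)) (.node 1 (.one ⟨2136, 3, 2⟩) (.one ⟨13881, 4, 4⟩)))))))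
def par3_9_5 : Arr Par :=
  (.node 32 (.node 16 (.node 8 (.node 4 (.node 2 (.node 1 (.one ⟨5866, 4, 4⟩) (.one ⟨1148, 0, 3⟩)) (.node 1 (.one ⟨13647, 5, 5⟩) (.one ⟨5833, 4, 3⟩))) (.node 2 (.node 1 (.one ⟨15737, 6, 3⟩) (.one ⟨13995, 4, 3⟩)) (.node 1 (.one ⟨1147, 0, 2⟩) (.one ⟨5029, 6, 2⟩)))) (.node 4 (.node 2 (.node 1 (.one ⟨2127, 4, 3⟩) (.one ⟨1145, 0, 5⟩)) (.node 1 (.one ⟨2211, 4, 4⟩) (.one ⟨2096, 4, 3⟩))) (.node 2 (.node 1 (.one ⟨17019, 5, 5⟩) (.one ⟨2181, 4, 4⟩)) (.node 1 (.one ⟨15422, 6, 2⟩) (.one ⟨11912, 3, 2⟩))))) (.node 8 (.node 4 (.node 2 (.node 1 (.one ⟨11945, 3, 5⟩) (.one ⟨4299, 6, 4⟩)) (.node 1 (.one ⟨7824, 3, 3⟩) (.one ⟨567, 1, 0⟩))) (.node 2 (.node 1 (.one ⟨624, 1, 0⟩) (.one ⟨3789, 5, 3⟩)) (.node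 1 (.one ⟨1416, 0, 2⟩) (.one ⟨3789, 3, 3⟩)))) (.node 4 (.node 2 (.node 1 (.one ⟨3815, 3, 3⟩) (.one ⟨2112, 4, 3⟩)) (.node 1 (.one ⟨9231, 6, 3⟩) (.one ⟨9786, 5, 5⟩))) (.node 2 (.node 1 (.one ⟨5500, 6, 3⟩) (.one ⟨4227, 6, 4⟩)) (.node 1 (.one ⟨1041, 0, 0⟩) (.one ⟨4678, 5, 4⟩)))))) (.node 16 (.node 8 (.node 4 (.node 2 (.node 1 (.one ⟨13777, 6, 4⟩) (.one ⟨5970, 5, 4⟩)) (.node 1 (.one ⟨11643, 5, 5⟩) (.one ⟨12895, 3, 3⟩))) (.node 2 (.node 1 (.one ⟨6649, 6, 3⟩) (.one ⟨546, 4, 4⟩)) (.node 1 (.one ⟨1346, 5, 5⟩) (.one ⟨10569, 6, 3⟩)))) (.node 4 (.node 2 (.node 1 (.one ⟨12967, 5, 3⟩) (.one ⟨6739, 5, 3⟩)) (.node 1 (.one ⟨4529, 4, 4⟩) (.one ⟨16259, 6, 3⟩))) (.node 2 (.node 1 (.one ⟨1873, 6, 2⟩) (.one ⟨16485, 3, 4⟩)) (.node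 1 (.one ⟨13036, 3, 4⟩) (.one ⟨13153, 5, 4⟩))))) (.node 8 (.node 4 (.node 2 (.node 1 (.one ⟨10408, 5, 3⟩) (.one ⟨1290, 1, 1⟩)) (.node 1 (.one ⟨1293, 1, 1⟩) (.one ⟨8300, 4, 3⟩))) (.node 2 (.node 1 (.one ⟨4708, 5, 4⟩) (.one ⟨10361, 3, 2⟩)) (.node 1 (.one ⟨2332, 3, 2⟩) (.one ⟨16039, 5, 4⟩)))) (.node 4 (.node 2 (.node 1 (.one ⟨15002, 5, 2⟩) (.one ⟨14604, 3, 2⟩)) (.node 1 (.one ⟨16583, 6, 2⟩) (.one ⟨3950, 4, 4⟩))) (.node 2 (.node 1 (.one ⟨1281, 1, 1⟩) (.one ⟨11999, 4, 4⟩)) (.node 1 (.one ⟨4210, 6, 4⟩) (.one ⟨1244, 1, 2⟩)))))))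
def par3_9_6 : Arr Par :=
  (.node 32 (.node 16 (.node 8 (.node 4 (.node 2 (.node 1 (.one ⟨10781, 4, 3⟩) (.one ⟨16992, 3, 3⟩)) (.node 1 (.one ⟨11863, 6, 4⟩) (.one ⟨13490, 3, 5⟩))) (.node 2 (.node 1 (.one ⟨1243, 1, 2⟩) (.one ⟨16974, 3, 3⟩)) (.node 1 (.one ⟨5436, 5, 3⟩) (.one ⟨9313, 5, 4⟩)))) (.node 4 (.node 2 (.node 1 (.one ⟨1237, 1, 2⟩) (.one ⟨4025, 6, 4⟩)) (.node 1 (.one ⟨5473, 3, 3⟩) (.one ⟨2825, 5, 4⟩))) (.node 2 (.node 1 (.one ⟨1233, 1, 2⟩) (.one ⟨5436, 3, 3⟩)) (.node 1 (.one ⟨9346, 0, 3⟩) (.one ⟨2226, 4, 3⟩))))) (.node 8 (.node 4 (.node 2 (.node 1 (.one ⟨12156, 5, 3⟩) (.one ⟨10326, 4, 3⟩)) (.node 1 (.one ⟨7885, 6, 3⟩) (.one ⟨13832, 6, 4⟩))) (.node 2 (.node 1 (.one ⟨14566, 4, 4⟩) (.one ⟨14544, 4, 2⟩)) (.node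 1 (.one ⟨3092, 5, 4⟩) (.one ⟨10528, 6, 4⟩)))) (.node 4 (.node 2 (.node 1 (.one ⟨16756, 5, 3⟩) (.one ⟨6504, 4, 3⟩)) (.node 1 (.one ⟨6380, 5, 2⟩) (.one ⟨10316, 4, 2⟩))) (.node 2 (.node 1 (.one ⟨9016, 5, 3⟩) (.one ⟨2284, 4, 2⟩)) (.node 1 (.one ⟨10299, 4, 4⟩) (.one ⟨5645, 3, 2⟩)))))) (.node 16 (.node 8 (.node 4 (.node 2 (.node 1 (.one ⟨7331, 6, 5⟩) (.one ⟨3836, 0, 3⟩)) (.node 1 (.one ⟨8614, 5, 5⟩) (.one ⟨9680, 6, 4⟩))) (.node 2 (.node 1 (.one ⟨996, 6, 4⟩) (.one ⟨14001, 5, 2⟩)) (.node 1 (.one ⟨15499, 5, 3⟩) (.one ⟨15399, 5, 5⟩)))) (.node 4 (.node 2 (.node 1 (.one ⟨3072, 4, 3⟩) (.one ⟨11423, 5, 5⟩)) (.node 1 (.one ⟨9576, 4, 4⟩) (.one ⟨11096, 4, 3⟩))) (.node 2 (.node 1 (.one ⟨12178, 6, 4⟩) (.one ⟨247, 4, 4⟩)) (.node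 1 (.one ⟨2147, 6, 4⟩) (.one ⟨2267, 6, 2⟩))))) (.node 8 (.node 4 (.node 2 (.node 1 (.one ⟨15489, 6, 4⟩) (.one ⟨2165, 6, 3⟩)) (.node 1 (.one ⟨12014, 5, 3⟩) (.one ⟨7323, 6, 3⟩))) (.node 2 (.node 1 (.one ⟨10441, 6, 4⟩) (.one ⟨9237, 3, 2⟩)) (.node 1 (.one ⟨9975, 6, 3⟩) (.one ⟨4931, 5, 4⟩)))) (.node 4 (.node 2 (.node 1 (.one ⟨25, 6, 3⟩) (.one ⟨13034, 6, 3⟩)) (.node 1 (.one ⟨1442, 4, 1⟩) (.one ⟨97, 6, 3⟩))) (.node 2 (.node 1 (.one ⟨160, 2, 2⟩) (.one ⟨14328, 4, 5⟩)) (.node 1 (.one ⟨13033, 6, 3⟩) (.one ⟨1441, 2, 1⟩)))))))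
def par3_9_7 : Arr Par :=
  (.node 32 (.node 16 (.node 8 (.node 4 (.node 2 (.node 1 (.one ⟨4625, 6, 4⟩) (.one ⟨13052, 5, 4⟩)) (.node 1 (.one ⟨14787, 6, 5⟩) (.one ⟨9295, 6, 4⟩))) (.node 2 (.node 1 (.one ⟨13273, 5, 5⟩) (.one ⟨7805, 6, 5⟩)) (.node 1 (.one ⟨8779, 5, 5⟩) (.one ⟨1448, 4, 4⟩)))) (.node 4 (.node 2 (.node 1 (.one ⟨1421, 5, 4⟩) (.one ⟨1670, 3, 3⟩)) (.node 1 (.one ⟨13450, 4, 3⟩) (.one ⟨13098, 5, 3⟩))) (.node 2 (.node 1 (.one ⟨4231, 6, 3⟩) (.one ⟨9020, 6, 5⟩)) (.node 1 (.one ⟨7566, 6, 2⟩) (.one ⟨10870, 6, 4⟩))))) (.node 8 (.node 4 (.node 2 (.node 1 (.one ⟨971, 5, 3⟩) (.one ⟨2012, 6, 5⟩)) (.node 1 (.one ⟨14566, 6, 4⟩) (.one ⟨10215, 6, 3⟩))) (.node 2 (.node 1 (.one ⟨14248, 5, 5⟩) (.one ⟨2862, 1, 4⟩)) (.node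 1 (.one ⟨15239, 6, 4⟩) (.one ⟨5983, 1, 3⟩)))) (.node 4 (.node 2 (.node 1 (.one ⟨17198, 6, 4⟩) (.one ⟨11274, 2, 2⟩)) (.node 1 (.one ⟨7548, 5, 4⟩) (.one ⟨9453, 5, 5⟩))) (.node 2 (.node 1 (.one ⟨10007, 5, 4⟩) (.one ⟨16775, 6, 3⟩)) (.node 1 (.one ⟨15133, 5, 4⟩) (.one ⟨9898, 3, 2⟩)))))) (.node 16 (.node 8 (.node 4 (.node 2 (.node 1 (.one ⟨9374, 5, 4⟩) (.one ⟨12839, 6, 4⟩)) (.node 1 (.one ⟨12843, 6, 4⟩) (.one ⟨10103, 0, 3⟩))) (.node 2 (.node 1 (.one ⟨6402, 0, 3⟩) (.one ⟨2264, 0, 3⟩)) (.node 1 (.one ⟨6080, 5, 4⟩) (.one ⟨15520, 6, 5⟩)))) (.node 4 (.node 2 (.node 1 (.one ⟨4916, 4, 4⟩) (.one ⟨2658, 5, 4⟩)) (.node 1 (.one ⟨4961, 4, 3⟩) (.one ⟨5971, 1, 2⟩))) (.node 2 (.node 1 (.one ⟨266, 5, 4⟩) (.one ⟨1708, 4, 4⟩)) (.node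 1 (.one ⟨13765, 0, 4⟩) (.one ⟨5755, 5, 4⟩))))) (.node 8 (.node 4 (.node 2 (.node 1 (.one ⟨12588, 6, 4⟩) (.one ⟨8965, 6, 4⟩)) (.node 1 (.one ⟨6803, 6, 2⟩) (.one ⟨9461, 4, 3⟩))) (.node 2 (.node 1 (.one ⟨14184, 5, 4⟩) (.one ⟨10745, 0, 4⟩)) (.node 1 (.one ⟨761, 5, 4⟩) (.one ⟨11976, 5, 1⟩)))) (.node 4 (.node 2 (.node 1 (.one ⟨4490, 5, 5⟩) (.one ⟨4975, 6, 5⟩)) (.node 1 (.one ⟨12258, 6, 5⟩) (.one ⟨6857, 6, 3⟩))) (.node 2 (.node 1 (.one ⟨14604, 6, 2⟩) (.one ⟨3522, 6, 4⟩)) (.node 1 (.one ⟨14067, 0, 3⟩) (.one ⟨13057, 6, 5⟩)))))))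
def par3_9_8 : Arr Par :=
  (.node 32 (.node 16 (.node 8 (.node 4 (.node 2 (.node 1 (.one ⟨7335, 6, 4⟩) (.one ⟨16218, 5, 3⟩)) (.node 1 (.one ⟨2272, 0, 3⟩) (.one ⟨8491, 4, 2⟩))) (.node 2 (.node 1 (.one ⟨1706, 5, 3⟩) (.one ⟨9223, 6, 4⟩)) (.node 1 (.one ⟨3968, 5, 3⟩) (.one ⟨16805, 6, 5⟩)))) (.node 4 (.node 2 (.node 1 (.one ⟨1709, 4, 3⟩) (.one ⟨1707, 6, 3⟩)) (.node 1 (.one ⟨12784, 6, 5⟩) (.one ⟨1685, 5, 4⟩))) (.node 2 (.node 1 (.one ⟨1608, 4, 4⟩) (.one ⟨10255, 5, 4⟩)) (.node 1 (.one ⟨8997, 5, 4⟩) (.one ⟨14834, 6, 3⟩))))) (.node 8 (.node 4 (.node 2 (.node 1 (.one ⟨3891, 6, 4⟩) (.one ⟨9066, 6, 5⟩)) (.node 1 (.one ⟨10081, 6, 4⟩) (.one ⟨1371, 6, 2⟩))) (.node 2 (.node 1 (.one ⟨11647, 1, 4⟩) (.one ⟨1442, 2, 1⟩)) (.node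 1 (.one ⟨6874, 6, 4⟩) (.one ⟨3797, 6, 5⟩)))) (.node 4 (.node 2 (.node 1 (.one ⟨5832, 6, 4⟩) (.one ⟨2597, 4, 3⟩)) (.node 1 (.one ⟨4943, 5, 4⟩) (.one ⟨16704, 5, 4⟩))) (.node 2 (.node 1 (.one ⟨11328, 5, 4⟩) (.one ⟨13985, 6, 5⟩)) (.node 1 (.one ⟨1447, 4, 4⟩) (.one ⟨9233, 3, 2⟩)))))) (.node 16 (.node 8 (.node 4 (.node 2 (.node 1 (.one ⟨6716, 6, 5⟩) (.one ⟨4684, 6, 2⟩)) (.node 1 (.one ⟨12128, 6, 1⟩) (.one ⟨10311, 6, 1⟩))) (.node 2 (.node 1 (.one ⟨7318, 3, 3⟩) (.one ⟨10909, 1, 2⟩)) (.node 1 (.one ⟨12793, 1, 2⟩) (.one ⟨1706, 6, 3⟩)))) (.node 4 (.node 2 (.node 1 (.one ⟨16488, 6, 4⟩) (.one ⟨8749, 5, 4⟩)) (.node 1 (.one ⟨9395, 5, 2⟩) (.one ⟨1441, 4, 1⟩))) (.node 2 (.node 1 (.one ⟨3970, 0, 3⟩) (.one ⟨3589, 1, 4⟩)) (.node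 1 (.one ⟨5741, 5, 3⟩) (.one ⟨5944, 6, 2⟩))))) (.node 8 (.node 4 (.node 2 (.node 1 (.one ⟨777, 5, 3⟩) (.one ⟨6108, 6, 3⟩)) (.node 1 (.one ⟨779, 5, 4⟩) (.one ⟨12745, 6, 3⟩))) (.node 2 (.node 1 (.one ⟨1354, 6, 2⟩) (.one ⟨12643, 5, 2⟩)) (.node 1 (.one ⟨1777, 6, 5⟩) (.one ⟨6470, 6, 3⟩)))) (.node 4 (.node 2 (.node 1 (.one ⟨9614, 5, 4⟩) (.one ⟨9225, 1, 3⟩)) (.node 1 (.one ⟨11397, 5, 4⟩) (.one ⟨16197, 6, 3⟩))) (.node 2 (.node 1 (.one ⟨6309, 1, 3⟩) (.one ⟨14099, 1, 3⟩)) (.node 1 (.one ⟨15540, 5, 4⟩) (.one ⟨2285, 2, 1⟩)))))))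
def par3_9_9 : Arr Par :=
  (.node 32 (.node 16 (.node 8 (.node 4 (.node 2 (.node 1 (.one ⟨181, 5, 4⟩) (.one ⟨7532, 5, 3⟩)) (.node 1 (.one ⟨11636, 6, 4⟩) (.one ⟨14760, 3, 2⟩))) (.node 2 (.node 1 (.one ⟨10321, 6, 3⟩) (.one ⟨14147, 5, 5⟩)) (.node 1 (.one ⟨5473, 5, 3⟩) (.one ⟨16951, 0, 3⟩)))) (.node 4 (.node 2 (.node 1 (.one ⟨10113, 3, 4⟩) (.one ⟨8729, 5, 3⟩)) (.node 1 (.one ⟨5707, 5, 4⟩) (.one ⟨5878, 5, 4⟩))) (.node 2 (.node 1 (.one ⟨8629, 5, 4⟩) (.one ⟨14235, 3, 3⟩)) (.node 1 (.one ⟨361, 4, 5⟩) (.one ⟨10607, 6, 5⟩))))) (.node 8 (.node 4 (.node 2 (.node 1 (.one ⟨16766, 4, 3⟩) (.one ⟨10512, 3, 1⟩)) (.node 1 (.one ⟨17172, 4, 2⟩) (.one ⟨13372, 0, 3⟩))) (.node 2 (.node 1 (.one ⟨9292, 5, 1⟩) (.one ⟨11019, 5, 4⟩))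 (.node 1 (.one ⟨10119, 0, 3⟩) (.one ⟨6236, 5, 4⟩)))) (.node 4 (.node 2 (.node 1 (.one ⟨14816, 5, 4⟩) (.one ⟨725, 5, 4⟩)) (.node 1 (.one ⟨11336, 5, 5⟩) (.one ⟨12945, 6, 4⟩))) (.node 2 (.node 1 (.one ⟨11384, 5, 4⟩) (.one ⟨6311, 5, 2⟩)) (.node 1 (.one ⟨6029, 6, 4⟩) (.one ⟨678, 1, 2⟩)))))) (.node 16 (.node 8 (.node 4 (.node 2 (.node 1 (.one ⟨3988, 3, 4⟩) (.one ⟨16373, 6, 2⟩)) (.node 1 (.one ⟨6689, 0, 3⟩) (.one ⟨14488, 2, 3⟩))) (.node 2 (.node 1 (.one ⟨2252, 6, 4⟩) (.one ⟨1588, 5, 3⟩)) (.node 1 (.one ⟨15565, 6, 2⟩) (.one ⟨13099, 5, 4⟩)))) (.node 4 (.node 2 (.node 1 (.one ⟨9523, 6, 2⟩) (.one ⟨5367, 6, 4⟩)) (.node 1 (.one ⟨12717, 5, 4⟩) (.one ⟨1326, 6, 2⟩))) (.node 2 (.node 1 (.one ⟨9586, 6, 2⟩) (.one ⟨16887, 5, 4⟩))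 (.node 1 (.one ⟨11547, 5, 4⟩) (.one ⟨9798, 6, 4⟩))))) (.node 8 (.node 4 (.node 2 (.node 1 (.one ⟨1443, 5, 4⟩) (.one ⟨16087, 5, 4⟩)) (.node 1 (.one ⟨6994, 6, 5⟩) (.one ⟨6220, 4, 3⟩))) (.node 2 (.node 1 (.one ⟨8104, 6, 5⟩) (.one ⟨12919, 6, 5⟩)) (.node 1 (.one ⟨6199, 5, 3⟩) (.one ⟨13799, 5, 4⟩)))) (.node 4 (.node 2 (.node 1 (.one ⟨17166, 6, 3⟩) (.one ⟨13130, 5, 4⟩)) (.node 1 (.one ⟨13349, 6, 5⟩) (.one ⟨3472, 6, 5⟩))) (.node 2 (.node 1 (.one ⟨1601, 5, 4⟩) (.one ⟨7228, 6, 5⟩)) (.node 1 (.one ⟨6083, 6, 4⟩) (.one ⟨11513, 6, 4⟩)))))))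
def par3_9_10 : Arr Par :=
  (.node 32 (.node 16 (.node 8 (.node 4 (.node 2 (.node 1 (.one ⟨2742, 6, 3⟩) (.one ⟨15321, 5, 4⟩)) (.node 1 (.one ⟨5474, 1, 0⟩) (.one ⟨16205, 6, 5⟩))) (.node 2 (.node 1 (.one ⟨10701, 5, 1⟩) (.one ⟨4038, 5, 5⟩)) (.node 1 (.one ⟨12558, 6, 5⟩) (.one ⟨16768, 5, 3⟩)))) (.node 4 (.node 2 (.node 1 (.one ⟨1274, 6, 2⟩) (.one ⟨1147, 5, 2⟩)) (.node 1 (.one ⟨16511, 6, 3⟩) (.one ⟨5735, 6, 3⟩))) (.node 2 (.node 1 (.one ⟨12481, 1, 4⟩) (.one ⟨12929, 6, 3⟩)) (.node 1 (.one ⟨8227, 1, 4⟩) (.one ⟨14775, 6, 3⟩))))) (.node 8 (.node 4 (.node 2 (.node 1 (.one ⟨14112, 1, 4⟩) (.one ⟨10387, 5, 3⟩)) (.node 1 (.one ⟨17133, 5, 4⟩) (.one ⟨2348, 5, 4⟩))) (.node 2 (.node 1 (.one ⟨4982, 4, 4⟩) (.one ⟨14223, 6, 4⟩))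 (.node 1 (.one ⟨17095, 5, 2⟩) (.one ⟨12422, 4, 4⟩)))) (.node 4 (.node 2 (.node 1 (.one ⟨16912, 6, 5⟩) (.one ⟨15973, 6, 3⟩)) (.node 1 (.one ⟨6362, 6, 4⟩) (.one ⟨1830, 4, 3⟩))) (.node 2 (.node 1 (.one ⟨14158, 3, 3⟩) (.one ⟨15313, 4, 4⟩)) (.node 1 (.one ⟨5310, 1, 0⟩) (.one ⟨12526, 6, 3⟩)))))) (.node 16 (.node 8 (.node 4 (.node 2 (.node 1 (.one ⟨12727, 5, 3⟩) (.one ⟨4458, 1, 3⟩)) (.node 1 (.one ⟨10199, 6, 3⟩) (.one ⟨7946, 5, 3⟩))) (.node 2 (.node 1 (.one ⟨14111, 6, 3⟩) (.one ⟨2665, 4, 4⟩)) (.node 1 (.one ⟨6902, 5, 3⟩) (.one ⟨11544, 1, 1⟩)))) (.node 4 (.node 2 (.node 1 (.one ⟨11041, 5, 5⟩) (.one ⟨3429, 6, 4⟩)) (.node 1 (.one ⟨12310, 6, 1⟩) (.one ⟨16792, 3, 3⟩))) (.node 2 (.node 1 (.one ⟨5597, 0, 4⟩) (.one ⟨5665,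 5, 4⟩)) (.node 1 (.one ⟨12351, 4, 3⟩) (.one ⟨10409, 3, 5⟩))))) (.node 8 (.node 4 (.node 2 (.node 1 (.one ⟨12136, 6, 4⟩) (.one ⟨15473, 5, 5⟩)) (.node 1 (.one ⟨8693, 4, 4⟩) (.one ⟨15572, 6, 4⟩))) (.node 2 (.node 1 (.one ⟨2186, 2, 1⟩) (.one ⟨7384, 6, 5⟩)) (.node 1 (.one ⟨153, 1, 0⟩) (.one ⟨13105, 5, 3⟩)))) (.node 4 (.node 2 (.node 1 (.one ⟨10004, 5, 4⟩) (.one ⟨16017, 5, 4⟩)) (.node 1 (.one ⟨649, 6, 3⟩) (.one ⟨11102, 6, 4⟩))) (.node 2 (.node 1 (.one ⟨7437, 5, 5⟩) (.one ⟨11095, 6, 5⟩)) (.node 1 (.one ⟨11099, 6, 5⟩) (.one ⟨8996, 6, 3⟩)))))))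
def par3_9_11 : Arr Par :=
  (.node 32 (.node 16 (.node 8 (.node 4 (.node 2 (.node 1 (.one ⟨16669, 6, 4⟩) (.one ⟨3138, 5, 5⟩)) (.node 1 (.one ⟨13075, 5, 4⟩) (.one ⟨16836, 0, 4⟩))) (.node 2 (.node 1 (.one ⟨1458, 5, 4⟩) (.one ⟨7232, 5, 5⟩)) (.node 1 (.one ⟨16686, 5, 4⟩) (.one ⟨9044, 5, 4⟩)))) (.node 4 (.node 2 (.node 1 (.one ⟨2988, 6, 5⟩) (.one ⟨9390, 5, 5⟩)) (.node 1 (.one ⟨11790, 6, 4⟩) (.one ⟨14110, 5, 4⟩))) (.node 2 (.node 1 (.one ⟨12833, 6, 5⟩) (.one ⟨5157, 5, 4⟩)) (.node 1 (.one ⟨1588, 6, 3⟩) (.one ⟨4661, 5, 3⟩))))) (.node 8 (.node 4 (.node 2 (.node 1 (.one ⟨5746, 4, 4⟩) (.one ⟨1007, 5, 3⟩)) (.node 1 (.one ⟨16378, 6, 3⟩) (.one ⟨12562, 6, 3⟩))) (.node 2 (.node 1 (.one ⟨4856, 4, 3⟩) (.one ⟨16359, 6, 4⟩))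 (.node 1 (.one ⟨5896, 6, 4⟩) (.one ⟨9637, 5, 3⟩)))) (.node 4 (.node 2 (.node 1 (.one ⟨15307, 6, 4⟩) (.one ⟨12680, 2, 2⟩)) (.node 1 (.one ⟨3702, 6, 4⟩) (.one ⟨9683, 5, 4⟩))) (.node 2 (.node 1 (.one ⟨7828, 6, 5⟩) (.one ⟨16282, 3, 5⟩)) (.node 1 (.one ⟨16696, 4, 3⟩) (.one ⟨5873, 4, 3⟩)))))) (.node 16 (.node 8 (.node 4 (.node 2 (.node 1 (.one ⟨8694, 5, 4⟩) (.one ⟨7235, 4, 3⟩)) (.node 1 (.one ⟨13296, 6, 4⟩) (.one ⟨18, 6, 3⟩))) (.node 2 (.node 1 (.one ⟨691, 6, 3⟩) (.one ⟨921, 6, 3⟩)) (.node 1 (.one ⟨323, 6, 3⟩) (.one ⟨2998, 6, 5⟩)))) (.node 4 (.node 2 (.node 1 (.one ⟨5642, 4, 4⟩) (.one ⟨2000, 6, 5⟩)) (.node 1 (.one ⟨14412, 6, 2⟩) (.one ⟨8691, 6, 4⟩))) (.node 2 (.node 1 (.one ⟨11910, 5, 5⟩) (.one ⟨8069, 6, 3⟩)) (.node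 1 (.one ⟨12140, 6, 5⟩) (.one ⟨7469, 6, 4⟩))))) (.node 8 (.node 4 (.node 2 (.node 1 (.one ⟨2951, 4, 3⟩) (.one ⟨13660, 5, 4⟩)) (.node 1 (.one ⟨8257, 1, 4⟩) (.one ⟨7414, 5, 4⟩))) (.node 2 (.node 1 (.one ⟨9284, 6, 1⟩) (.one ⟨5694, 5, 4⟩)) (.node 1 (.one ⟨7005, 0, 5⟩) (.one ⟨8842, 5, 2⟩)))) (.node 4 (.node 2 (.node 1 (.one ⟨12290, 4, 2⟩) (.one ⟨2026, 0, 3⟩)) (.node 1 (.one ⟨12860, 4, 2⟩) (.one ⟨9719, 4, 2⟩))) (.node 2 (.node 1 (.one ⟨17152, 0, 3⟩) (.one ⟨11515, 4, 2⟩)) (.node 1 (.one ⟨16937, 5, 4⟩) (.one ⟨2016, 6, 5⟩)))))))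
def par3_9_12 : Arr Par :=
  (.node 32 (.node 16 (.node 8 (.node 4 (.node 2 (.node 1 (.one ⟨4785, 3, 3⟩) (.one ⟨3083, 5, 3⟩)) (.node 1 (.one ⟨15037, 0, 5⟩) (.one ⟨16232, 6, 4⟩))) (.node 2 (.node 1 (.one ⟨4093, 6, 4⟩) (.one ⟨14997, 5, 3⟩)) (.node 1 (.one ⟨11237, 4, 3⟩) (.one ⟨16346, 1, 4⟩)))) (.node 4 (.node 2 (.node 1 (.one ⟨7412, 5, 4⟩) (.one ⟨9852, 5, 5⟩)) (.node 1 (.one ⟨707, 5, 4⟩) (.one ⟨1836, 5, 4⟩))) (.node 2 (.node 1 (.one ⟨9508, 5, 4⟩) (.one ⟨7196, 5, 4⟩)) (.node 1 (.one ⟨15524, 5, 3⟩) (.one ⟨9216, 6, 5⟩))))) (.node 8 (.node 4 (.node 2 (.node 1 (.one ⟨10606, 6, 2⟩) (.one ⟨9101, 0, 4⟩)) (.node 1 (.one ⟨11859, 6, 4⟩) (.one ⟨12345, 4, 3⟩))) (.node 2 (.node 1 (.one ⟨3808, 5, 3⟩) (.one ⟨13659, 5, 4⟩)) (.node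 1 (.one ⟨16107, 5, 4⟩) (.one ⟨8314, 0, 3⟩)))) (.node 4 (.node 2 (.node 1 (.one ⟨8225, 5, 3⟩) (.one ⟨17054, 5, 4⟩)) (.node 1 (.one ⟨17178, 4, 3⟩) (.one ⟨13347, 5, 4⟩))) (.node 2 (.node 1 (.one ⟨15070, 0, 3⟩) (.one ⟨6125, 5, 4⟩)) (.node 1 (.one ⟨17130, 6, 4⟩) (.one ⟨17178, 0, 3⟩)))))) (.node 16 (.node 8 (.node 4 (.node 2 (.node 1 (.one ⟨16447, 5, 3⟩) (.one ⟨14198, 6, 5⟩)) (.node 1 (.one ⟨16311, 6, 4⟩) (.one ⟨9551, 6, 3⟩))) (.node 2 (.node 1 (.one ⟨10591, 4, 1⟩) (.one ⟨2186, 1, 1⟩)) (.node 1 (.one ⟨14774, 4, 4⟩) (.one ⟨1382, 6, 1⟩)))) (.node 4 (.node 2 (.node 1 (.one ⟨700, 5, 5⟩) (.one ⟨6086, 6, 4⟩)) (.node 1 (.one ⟨17190, 6, 4⟩) (.one ⟨12408, 6, 5⟩))) (.node 2 (.node 1 (.one ⟨12987, 4, 4⟩) (.one ⟨16266, 6, 3⟩))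 (.node 1 (.one ⟨6631, 6, 3⟩) (.one ⟨15421, 6, 4⟩))))) (.node 8 (.node 4 (.node 2 (.node 1 (.one ⟨11618, 5, 5⟩) (.one ⟨7701, 4, 2⟩)) (.node 1 (.one ⟨3573, 5, 4⟩) (.one ⟨4681, 6, 3⟩))) (.node 2 (.node 1 (.one ⟨11977, 6, 5⟩) (.one ⟨13814, 0, 3⟩)) (.node 1 (.one ⟨2186, 5, 1⟩) (.one ⟨4217, 5, 2⟩)))) (.node 4 (.node 2 (.node 1 (.one ⟨824, 6, 4⟩) (.one ⟨9017, 4, 3⟩)) (.node 1 (.one ⟨398, 6, 4⟩) (.one ⟨3598, 6, 4⟩))) (.node 2 (.node 1 (.one ⟨3596, 6, 4⟩) (.one ⟨10049, 5, 5⟩)) (.node 1 (.one ⟨3593, 6, 4⟩) (.one ⟨3584, 0, 2⟩)))))))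
def par3_9_13 : Arr Par :=
  (.node 32 (.node 16 (.node 8 (.node 4 (.node 2 (.node 1 (.one ⟨9146, 4, 1⟩) (.one ⟨12178, 5, 4⟩)) (.node 1 (.one ⟨15667, 6, 4⟩) (.one ⟨5159, 5, 4⟩))) (.node 2 (.node 1 (.one ⟨11584, 6, 3⟩) (.one ⟨13093, 1, 4⟩)) (.node 1 (.one ⟨3446, 5, 2⟩) (.one ⟨11327, 6, 4⟩)))) (.node 4 (.node 2 (.node 1 (.one ⟨9714, 0, 3⟩) (.one ⟨14549, 4, 3⟩)) (.node 1 (.one ⟨16544, 4, 3⟩) (.one ⟨1360, 6, 2⟩))) (.node 2 (.node 1 (.one ⟨11521, 5, 2⟩) (.one ⟨9395, 4, 2⟩)) (.node 1 (.one ⟨15475, 5, 5⟩) (.one ⟨10672, 4, 5⟩))))) (.node 8 (.node 4 (.node 2 (.node 1 (.one ⟨1313, 3, 2⟩) (.one ⟨13840, 5, 5⟩)) (.node 1 (.one ⟨11515, 5, 2⟩) (.one ⟨6571, 6, 3⟩))) (.node 2 (.node 1 (.one ⟨7554, 5, 3⟩) (.one ⟨11143, 5, 4⟩))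 (.node 1 (.one ⟨14467, 5, 4⟩) (.one ⟨1516, 3, 3⟩)))) (.node 4 (.node 2 (.node 1 (.one ⟨234, 4, 3⟩) (.one ⟨6850, 3, 4⟩)) (.node 1 (.one ⟨14519, 6, 4⟩) (.one ⟨1670, 0, 3⟩))) (.node 2 (.node 1 (.one ⟨12867, 6, 2⟩) (.one ⟨16292, 5, 5⟩)) (.node 1 (.one ⟨11916, 6, 5⟩) (.one ⟨8491, 1, 2⟩)))))) (.node 16 (.node 8 (.node 4 (.node 2 (.node 1 (.one ⟨14132, 0, 4⟩) (.one ⟨10125, 0, 3⟩)) (.node 1 (.one ⟨14004, 5, 5⟩) (.one ⟨16572, 5, 4⟩))) (.node 2 (.node 1 (.one ⟨1268, 2, 2⟩) (.one ⟨6481, 6, 4⟩)) (.node 1 (.one ⟨15762, 1, 3⟩) (.one ⟨13798, 1, 3⟩)))) (.node 4 (.node 2 (.node 1 (.one ⟨8452, 6, 4⟩) (.one ⟨15780, 5, 3⟩)) (.node 1 (.one ⟨2683, 5, 4⟩) (.one ⟨9724, 0, 3⟩))) (.node 2 (.node 1 (.one ⟨11882, 5, 4⟩) (.one ⟨13463,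 6, 3⟩)) (.node 1 (.one ⟨1271, 4, 5⟩) (.one ⟨4972, 6, 4⟩))))) (.node 8 (.node 4 (.node 2 (.node 1 (.one ⟨16985, 6, 3⟩) (.one ⟨9205, 5, 4⟩)) (.node 1 (.one ⟨4108, 6, 4⟩) (.one ⟨3070, 4, 3⟩))) (.node 2 (.node 1 (.one ⟨3057, 6, 3⟩) (.one ⟨6017, 0, 4⟩)) (.node 1 (.one ⟨14238, 6, 3⟩) (.one ⟨13161, 6, 2⟩)))) (.node 4 (.node 2 (.node 1 (.one ⟨1225, 5, 4⟩) (.one ⟨8451, 4, 3⟩)) (.node 1 (.one ⟨4028, 4, 2⟩) (.one ⟨81, 6, 2⟩))) (.node 2 (.node 1 (.one ⟨6256, 5, 3⟩) (.one ⟨9141, 2, 1⟩)) (.node 1 (.one ⟨13121, 6, 4⟩) (.one ⟨6087, 0, 4⟩)))))))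
def par3_9_14 : Arr Par :=
  (.node 32 (.node 16 (.node 8 (.node 4 (.node 2 (.node 1 (.one ⟨1799, 5, 1⟩) (.one ⟨13208, 6, 3⟩)) (.node 1 (.one ⟨13186, 6, 5⟩) (.one ⟨5160, 6, 5⟩))) (.node 2 (.node 1 (.one ⟨13831, 1, 2⟩) (.one ⟨5742, 4, 4⟩)) (.node 1 (.one ⟨1274, 4, 2⟩) (.one ⟨14760, 5, 2⟩)))) (.node 4 (.node 2 (.node 1 (.one ⟨12026, 1, 4⟩) (.one ⟨11740, 5, 5⟩)) (.node 1 (.one ⟨8802, 6, 2⟩) (.one ⟨6649, 5, 3⟩))) (.node 2 (.node 1 (.one ⟨7311, 6, 3⟩) (.one ⟨3661, 5, 2⟩)) (.node 1 (.one ⟨9451, 3, 3⟩) (.one ⟨11966, 4, 3⟩))))) (.node 8 (.node 4 (.node 2 (.node 1 (.one ⟨13302, 4, 3⟩) (.one ⟨15060, 5, 4⟩)) (.node 1 (.one ⟨2862, 4, 4⟩) (.one ⟨10039, 0, 3⟩))) (.node 2 (.node 1 (.one ⟨4529, 6, 4⟩) (.one ⟨12486, 4, 4⟩))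 (.node 1 (.one ⟨12826, 5, 4⟩) (.one ⟨9306, 5, 5⟩)))) (.node 4 (.node 2 (.node 1 (.one ⟨16508, 4, 3⟩) (.one ⟨2024, 5, 4⟩)) (.node 1 (.one ⟨7332, 6, 5⟩) (.one ⟨5741, 4, 3⟩))) (.node 2 (.node 1 (.one ⟨5833, 5, 3⟩) (.one ⟨13242, 6, 4⟩)) (.node 1 (.one ⟨14026, 5, 4⟩) (.one ⟨1326, 5, 2⟩)))))) (.node 16 (.node 8 (.node 4 (.node 2 (.node 1 (.one ⟨1322, 5, 2⟩) (.one ⟨1323, 5, 5⟩)) (.node 1 (.one ⟨1319, 5, 2⟩) (.one ⟨6532, 6, 4⟩))) (.node 2 (.node 1 (.one ⟨993, 6, 5⟩) (.one ⟨610, 5, 4⟩)) (.node 1 (.one ⟨11025, 6, 5⟩) (.one ⟨2143, 5, 3⟩)))) (.node 4 (.node 2 (.node 1 (.one ⟨7017, 6, 2⟩) (.one ⟨14813, 6, 3⟩)) (.node 1 (.one ⟨2189, 6, 4⟩) (.one ⟨8917, 5, 4⟩))) (.node 2 (.node 1 (.one ⟨6901, 6, 3⟩) (.one ⟨9148, 4, 4⟩)) (.node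 1 (.one ⟨9272, 5, 3⟩) (.one ⟨13226, 6, 4⟩))))) (.node 8 (.node 4 (.node 2 (.node 1 (.one ⟨3061, 6, 3⟩) (.one ⟨7732, 5, 4⟩)) (.node 1 (.one ⟨7093, 6, 4⟩) (.one ⟨14403, 6, 3⟩))) (.node 2 (.node 1 (.one ⟨7880, 6, 4⟩) (.one ⟨431, 3, 5⟩)) (.node 1 (.one ⟨4103, 6, 3⟩) (.one ⟨11739, 5, 5⟩)))) (.node 4 (.node 2 (.node 1 (.one ⟨1415, 4, 5⟩) (.one ⟨12940, 6, 4⟩)) (.node 1 (.one ⟨2254, 6, 4⟩) (.one ⟨6155, 6, 2⟩))) (.node 2 (.node 1 (.one ⟨17095, 6, 2⟩) (.one ⟨2263, 1, 3⟩)) (.node 1 (.one ⟨12284, 0, 3⟩) (.one ⟨14602, 6, 3⟩)))))))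
def par3_9_15 : Arr Par :=
  (.node 32 (.node 16 (.node 8 (.node 4 (.node 2 (.node 1 (.one ⟨3608, 4, 4⟩) (.one ⟨2953, 6, 4⟩)) (.node 1 (.one ⟨9543, 4, 3⟩) (.one ⟨4404, 5, 4⟩))) (.node 2 (.node 1 (.one ⟨8571, 6, 4⟩) (.one ⟨9039, 5, 5⟩)) (.node 1 (.one ⟨12279, 6, 3⟩) (.one ⟨9529, 3, 3⟩)))) (.node 4 (.node 2 (.node 1 (.one ⟨5536, 6, 3⟩) (.one ⟨16231, 4, 4⟩)) (.node 1 (.one ⟨17102, 6, 4⟩) (.one ⟨12335, 5, 4⟩))) (.node 2 (.node 1 (.one ⟨13891, 5, 1⟩) (.one ⟨15450, 6, 4⟩)) (.node 1 (.one ⟨2285, 1, 1⟩) (.one ⟨1070, 3, 4⟩))))) (.node 8 (.node 4 (.node 2 (.node 1 (.one ⟨14468, 5, 5⟩) (.one ⟨678, 0, 2⟩)) (.node 1 (.one ⟨2164, 4, 2⟩) (.one ⟨15477, 6, 4⟩))) (.node 2 (.node 1 (.one ⟨9566, 4, 1⟩) (.one ⟨14185, 5, 2⟩)) (.node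 1 (.one ⟨2319, 5, 5⟩) (.one ⟨10283, 0, 2⟩)))) (.node 4 (.node 2 (.node 1 (.one ⟨8753, 6, 3⟩) (.one ⟨10394, 6, 4⟩)) (.node 1 (.one ⟨12762, 6, 4⟩) (.one ⟨15419, 6, 2⟩))) (.node 2 (.node 1 (.one ⟨13943, 3, 5⟩) (.one ⟨17178, 5, 3⟩)) (.node 1 (.one ⟨4088, 6, 3⟩) (.one ⟨9101, 6, 4⟩)))))) (.node 16 (.node 8 (.node 4 (.node 2 (.node 1 (.one ⟨7094, 5, 5⟩) (.one ⟨1219, 5, 4⟩)) (.node 1 (.one ⟨11622, 5, 3⟩) (.one ⟨2579, 0, 4⟩))) (.node 2 (.node 1 (.one ⟨5101, 5, 4⟩) (.one ⟨11776, 6, 3⟩)) (.node 1 (.one ⟨2033, 3, 3⟩) (.one ⟨8301, 5, 2⟩)))) (.node 4 (.node 2 (.node 1 (.one ⟨5481, 6, 5⟩) (.one ⟨15542, 6, 5⟩)) (.node 1 (.one ⟨12559, 5, 5⟩) (.one ⟨1214, 6, 4⟩))) (.node 2 (.node 1 (.one ⟨8059, 6, 4⟩) (.one ⟨5007, 5, 5⟩)) (.node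 1 (.one ⟨15881, 6, 5⟩) (.one ⟨11873, 6, 5⟩))))) (.node 8 (.node 4 (.node 2 (.node 1 (.one ⟨10547, 0, 4⟩) (.one ⟨10213, 0, 4⟩)) (.node 1 (.one ⟨12820, 5, 5⟩) (.one ⟨10506, 6, 5⟩))) (.node 2 (.node 1 (.one ⟨15478, 6, 3⟩) (.one ⟨1679, 3, 3⟩)) (.node 1 (.one ⟨4251, 6, 5⟩) (.one ⟨12562, 5, 3⟩)))) (.node 4 (.node 2 (.node 1 (.one ⟨14900, 5, 2⟩) (.one ⟨10907, 6, 4⟩)) (.node 1 (.one ⟨8359, 5, 3⟩) (.one ⟨14060, 6, 2⟩))) (.node 2 (.node 1 (.one ⟨7019, 6, 4⟩) (.one ⟨15487, 6, 5⟩)) (.node 1 (.one ⟨5760, 5, 3⟩) (.one ⟨9554, 4, 4⟩)))))))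
def par3_9 : Arr Par :=
  (.node 512 (.node 256 (.node 128 (.node 64 par3_9_0 par3_9_1) (.node 64 par3_9_2 par3_9_3)) (.node 128 (.node 64 par3_9_4 par3_9_5) (.node 64 par3_9_6 par3_9_7))) (.node 256 (.node 128 (.node 64 par3_9_8 par3_9_9) (.node 64 par3_9_10 par3_9_11)) (.node 128 (.node 64 par3_9_12 par3_9_13) (.node 64 par3_9_14 par3_9_15))))
def par3_10_0 : Arr Par :=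
  (.node 32 (.node 16 (.node 8 (.node 4 (.node 2 (.node 1 (.one ⟨5045, 6, 3⟩) (.one ⟨5596, 6, 4⟩)) (.node 1 (.one ⟨1310, 5, 3⟩) (.one ⟨13541, 6, 3⟩))) (.node 2 (.node 1 (.one ⟨10180, 5, 5⟩) (.one ⟨11852, 3, 4⟩)) (.node 1 (.one ⟨14156, 6, 2⟩) (.one ⟨5519, 6, 4⟩)))) (.node 4 (.node 2 (.node 1 (.one ⟨10171, 0, 3⟩) (.one ⟨9364, 3, 5⟩)) (.node 1 (.one ⟨8306, 6, 5⟩) (.one ⟨13951, 3, 5⟩))) (.node 2 (.node 1 (.one ⟨7162, 6, 5⟩) (.one ⟨9576, 5, 4⟩)) (.node 1 (.one ⟨3281, 6, 5⟩) (.one ⟨9550, 4, 3⟩))))) (.node 8 (.node 4 (.node 2 (.node 1 (.one ⟨17115, 6, 4⟩) (.one ⟨3910, 5, 4⟩)) (.node 1 (.one ⟨7150, 6, 3⟩) (.one ⟨10587, 0, 2⟩))) (.node 2 (.node 1 (.one ⟨8249, 6, 4⟩) (.one ⟨9469, 5, 4⟩)) (.node 1 (.one ⟨11836, 4, 4⟩)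 (.one ⟨13415, 6, 2⟩)))) (.node 4 (.node 2 (.node 1 (.one ⟨11912, 1, 2⟩) (.one ⟨3689, 1, 3⟩)) (.node 1 (.one ⟨2697, 4, 3⟩) (.one ⟨2467, 1, 2⟩))) (.node 2 (.node 1 (.one ⟨5943, 6, 1⟩) (.one ⟨15685, 5, 4⟩)) (.node 1 (.one ⟨9775, 3, 3⟩) (.one ⟨9690, 5, 5⟩)))))) (.node 16 (.node 8 (.node 4 (.node 2 (.node 1 (.one ⟨1578, 0, 3⟩) (.one ⟨4432, 6, 4⟩)) (.node 1 (.one ⟨16060, 6, 4⟩) (.one ⟨9061, 6, 5⟩))) (.node 2 (.node 1 (.one ⟨13003, 6, 4⟩) (.one ⟨7399, 4, 3⟩)) (.node 1 (.one ⟨6215, 6, 2⟩) (.one ⟨2561, 6, 3⟩)))) (.node 4 (.node 2 (.node 1 (.one ⟨1417, 4, 2⟩) (.one ⟨994, 6, 5⟩)) (.node 1 (.one ⟨13954, 4, 3⟩) (.one ⟨3896, 6, 1⟩))) (.node 2 (.node 1 (.one ⟨11711, 1, 3⟩) (.one ⟨3732, 6, 5⟩)) (.node 1 (.one ⟨4063, 1, 3⟩)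 (.one ⟨2275, 0, 3⟩))))) (.node 8 (.node 4 (.node 2 (.node 1 (.one ⟨8595, 0, 3⟩) (.one ⟨1404, 2, 2⟩)) (.node 1 (.one ⟨6199, 3, 3⟩) (.one ⟨10200, 1, 4⟩))) (.node 2 (.node 1 (.one ⟨5777, 1, 4⟩) (.one ⟨10491, 5, 4⟩)) (.node 1 (.one ⟨13778, 5, 4⟩) (.one ⟨17018, 5, 3⟩)))) (.node 4 (.node 2 (.node 1 (.one ⟨1200, 6, 2⟩) (.one ⟨3849, 4, 3⟩)) (.node 1 (.one ⟨7878, 6, 2⟩) (.one ⟨12138, 5, 3⟩))) (.node 2 (.node 1 (.one ⟨11712, 3, 3⟩) (.one ⟨8332, 6, 4⟩)) (.node 1 (.one ⟨16494, 3, 5⟩) (.one ⟨15605, 6, 3⟩)))))))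
def par3_10_1 : Arr Par :=
  (.node 32 (.node 16 (.node 8 (.node 4 (.node 2 (.node 1 (.one ⟨12544, 5, 3⟩) (.one ⟨1262, 5, 3⟩)) (.node 1 (.one ⟨3752, 5, 3⟩) (.one ⟨1816, 5, 4⟩))) (.node 2 (.node 1 (.one ⟨3776, 5, 4⟩) (.one ⟨10352, 5, 5⟩)) (.node 1 (.one ⟨12280, 5, 3⟩) (.one ⟨86, 1, 0⟩)))) (.node 4 (.node 2 (.node 1 (.one ⟨2995, 4, 1⟩) (.one ⟨2106, 1, 2⟩)) (.node 1 (.one ⟨5554, 2, 3⟩) (.one ⟨5054, 5, 4⟩))) (.node 2 (.node 1 (.one ⟨1383, 2, 1⟩) (.one ⟨16926, 3, 4⟩)) (.node 1 (.one ⟨3673, 3, 5⟩) (.one ⟨866, 6, 3⟩))))) (.node 8 (.node 4 (.node 2 (.node 1 (.one ⟨7860, 6, 2⟩) (.one ⟨13852, 1, 2⟩)) (.node 1 (.one ⟨3631, 6, 2⟩) (.one ⟨2104, 6, 1⟩))) (.node 2 (.node 1 (.one ⟨1923, 3, 3⟩) (.one ⟨6067, 6, 3⟩)) (.node 1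 (.one ⟨1392, 3, 2⟩) (.one ⟨677, 4, 5⟩)))) (.node 4 (.node 2 (.node 1 (.one ⟨3200, 5, 4⟩) (.one ⟨9099, 0, 4⟩)) (.node 1 (.one ⟨12193, 5, 4⟩) (.one ⟨14056, 5, 3⟩))) (.node 2 (.node 1 (.one ⟨16493, 5, 4⟩) (.one ⟨8737, 5, 4⟩)) (.node 1 (.one ⟨5731, 5, 4⟩) (.one ⟨7045, 5, 5⟩)))))) (.node 16 (.node 8 (.node 4 (.node 2 (.node 1 (.one ⟨4199, 5, 2⟩) (.one ⟨2585, 3, 3⟩)) (.node 1 (.one ⟨8464, 5, 2⟩) (.one ⟨9187, 5, 2⟩))) (.node 2 (.node 1 (.one ⟨17015, 5, 4⟩) (.one ⟨15653, 5, 4⟩)) (.node 1 (.one ⟨11931, 5, 4⟩) (.one ⟨8296, 5, 3⟩)))) (.node 4 (.node 2 (.node 1 (.one ⟨10683, 5, 4⟩) (.one ⟨9081, 0, 4⟩)) (.node 1 (.one ⟨3099, 3, 1⟩) (.one ⟨16576, 0, 3⟩))) (.node 2 (.node 1 (.one ⟨477, 4, 3⟩) (.one ⟨8862, 5, 4⟩)) (.node 1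 (.one ⟨11314, 5, 5⟩) (.one ⟨10923, 6, 5⟩))))) (.node 8 (.node 4 (.node 2 (.node 1 (.one ⟨11463, 5, 4⟩) (.one ⟨13954, 6, 3⟩)) (.node 1 (.one ⟨13277, 5, 3⟩) (.one ⟨12720, 6, 3⟩))) (.node 2 (.node 1 (.one ⟨15111, 4, 2⟩) (.one ⟨15752, 6, 4⟩)) (.node 1 (.one ⟨3689, 6, 3⟩) (.one ⟨5370, 4, 4⟩)))) (.node 4 (.node 2 (.node 1 (.one ⟨9487, 6, 3⟩) (.one ⟨1293, 2, 1⟩)) (.node 1 (.one ⟨6679, 5, 4⟩) (.one ⟨4710, 0, 4⟩))) (.node 2 (.node 1 (.one ⟨4219, 3, 3⟩) (.one ⟨1169, 5, 4⟩)) (.node 1 (.one ⟨1973, 6, 4⟩) (.one ⟨9586, 5, 2⟩)))))))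
def par3_10_2 : Arr Par :=
  (.node 32 (.node 16 (.node 8 (.node 4 (.node 2 (.node 1 (.one ⟨9585, 5, 2⟩) (.one ⟨9583, 5, 5⟩)) (.node 1 (.one ⟨9584, 5, 4⟩) (.one ⟨10767, 6, 2⟩))) (.node 2 (.node 1 (.one ⟨11024, 6, 5⟩) (.one ⟨65, 5, 5⟩)) (.node 1 (.one ⟨770, 6, 5⟩) (.one ⟨15401, 6, 4⟩)))) (.node 4 (.node 2 (.node 1 (.one ⟨5187, 6, 3⟩) (.one ⟨15282, 6, 5⟩)) (.node 1 (.one ⟨1185, 2, 3⟩) (.one ⟨11821, 5, 4⟩))) (.node 2 (.node 1 (.one ⟨820, 6, 5⟩) (.one ⟨15809, 6, 4⟩)) (.node 1 (.one ⟨2322, 0, 3⟩) (.one ⟨9297, 6, 2⟩))))) (.node 8 (.node 4 (.node 2 (.node 1 (.one ⟨13267, 5, 3⟩) (.one ⟨6582, 5, 3⟩)) (.node 1 (.one ⟨16637, 6, 3⟩) (.one ⟨9161, 6, 2⟩))) (.node 2 (.node 1 (.one ⟨15810, 6, 4⟩) (.one ⟨11173, 6, 4⟩)) (.node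 1 (.one ⟨1197, 5, 3⟩) (.one ⟨6208, 6, 3⟩)))) (.node 4 (.node 2 (.node 1 (.one ⟨13126, 6, 5⟩) (.one ⟨2752, 6, 4⟩)) (.node 1 (.one ⟨11987, 5, 3⟩) (.one ⟨10347, 6, 4⟩))) (.node 2 (.node 1 (.one ⟨8826, 6, 4⟩) (.one ⟨3273, 0, 3⟩)) (.node 1 (.one ⟨3562, 6, 4⟩) (.one ⟨1969, 6, 4⟩)))))) (.node 16 (.node 8 (.node 4 (.node 2 (.node 1 (.one ⟨10122, 6, 3⟩) (.one ⟨3293, 0, 4⟩)) (.node 1 (.one ⟨2068, 6, 3⟩) (.one ⟨10023, 3, 2⟩))) (.node 2 (.node 1 (.one ⟨15108, 3, 2⟩) (.one ⟨16700, 4, 3⟩)) (.node 1 (.one ⟨14897, 5, 3⟩) (.one ⟨6365, 6, 5⟩)))) (.node 4 (.node 2 (.node 1 (.one ⟨9585, 3, 2⟩) (.one ⟨14546, 6, 4⟩)) (.node 1 (.one ⟨6954, 5, 2⟩) (.one ⟨10744, 6, 2⟩))) (.node 2 (.node 1 (.one ⟨9230, 6, 3⟩) (.one ⟨6217, 2, 3⟩)) (.node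 1 (.one ⟨6391, 5, 4⟩) (.one ⟨2025, 6, 4⟩))))) (.node 8 (.node 4 (.node 2 (.node 1 (.one ⟨4403, 6, 4⟩) (.one ⟨6959, 4, 5⟩)) (.node 1 (.one ⟨3298, 3, 5⟩) (.one ⟨7450, 5, 4⟩))) (.node 2 (.node 1 (.one ⟨7271, 3, 5⟩) (.one ⟨8329, 6, 4⟩)) (.node 1 (.one ⟨5942, 6, 2⟩) (.one ⟨9895, 3, 2⟩)))) (.node 4 (.node 2 (.node 1 (.one ⟨9354, 6, 3⟩) (.one ⟨1481, 5, 5⟩)) (.node 1 (.one ⟨12383, 4, 4⟩) (.one ⟨15448, 0, 3⟩))) (.node 2 (.node 1 (.one ⟨6639, 6, 3⟩) (.one ⟨15864, 5, 5⟩)) (.node 1 (.one ⟨9800, 5, 5⟩) (.one ⟨12088, 6, 3⟩)))))))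
def par3_10_3 : Arr Par :=
  (.node 32 (.node 16 (.node 8 (.node 4 (.node 2 (.node 1 (.one ⟨10437, 5, 5⟩) (.one ⟨2819, 4, 2⟩)) (.node 1 (.one ⟨4968, 4, 4⟩) (.one ⟨10434, 5, 5⟩))) (.node 2 (.node 1 (.one ⟨11381, 4, 4⟩) (.one ⟨13803, 4, 4⟩)) (.node 1 (.one ⟨3712, 6, 4⟩) (.one ⟨13595, 0, 2⟩)))) (.node 4 (.node 2 (.node 1 (.one ⟨11852, 1, 4⟩) (.one ⟨6821, 1, 3⟩)) (.node 1 (.one ⟨11976, 6, 1⟩) (.one ⟨1183, 5, 4⟩))) (.node 2 (.node 1 (.one ⟨15967, 3, 3⟩) (.one ⟨1894, 5, 5⟩)) (.node 1 (.one ⟨15886, 1, 3⟩) (.one ⟨8573, 6, 5⟩))))) (.node 8 (.node 4 (.node 2 (.node 1 (.one ⟨11162, 5, 3⟩) (.one ⟨16950, 6, 5⟩)) (.node 1 (.one ⟨3012, 5, 4⟩) (.one ⟨14173, 4, 3⟩))) (.node 2 (.node 1 (.one ⟨3684, 4, 2⟩) (.one ⟨12817, 5, 3⟩))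 (.node 1 (.one ⟨10982, 3, 3⟩) (.one ⟨12101, 4, 4⟩)))) (.node 4 (.node 2 (.node 1 (.one ⟨5127, 5, 1⟩) (.one ⟨6085, 5, 5⟩)) (.node 1 (.one ⟨5499, 0, 2⟩) (.one ⟨6980, 3, 4⟩))) (.node 2 (.node 1 (.one ⟨7309, 5, 4⟩) (.one ⟨8957, 6, 4⟩)) (.node 1 (.one ⟨12130, 5, 1⟩) (.one ⟨5682, 1, 2⟩)))))) (.node 16 (.node 8 (.node 4 (.node 2 (.node 1 (.one ⟨14303, 2, 3⟩) (.one ⟨3631, 4, 2⟩)) (.node 1 (.one ⟨6129, 2, 2⟩) (.one ⟨4312, 6, 4⟩))) (.node 2 (.node 1 (.one ⟨7256, 4, 3⟩) (.one ⟨8264, 3, 5⟩)) (.node 1 (.one ⟨8193, 4, 3⟩) (.one ⟨5983, 6, 3⟩)))) (.node 4 (.node 2 (.node 1 (.one ⟨1975, 6, 3⟩) (.one ⟨15084, 3, 3⟩)) (.node 1 (.one ⟨8291, 6, 3⟩) (.one ⟨2764, 6, 4⟩))) (.node 2 (.node 1 (.one ⟨7920, 5, 3⟩) (.one ⟨6921, 5, 3⟩))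 (.node 1 (.one ⟨7948, 5, 3⟩) (.one ⟨17052, 5, 4⟩))))) (.node 8 (.node 4 (.node 2 (.node 1 (.one ⟨16169, 6, 4⟩) (.one ⟨6414, 5, 4⟩)) (.node 1 (.one ⟨3524, 6, 4⟩) (.one ⟨6121, 4, 4⟩))) (.node 2 (.node 1 (.one ⟨6123, 5, 4⟩) (.one ⟨16925, 3, 3⟩)) (.node 1 (.one ⟨16627, 6, 4⟩) (.one ⟨9122, 5, 4⟩)))) (.node 4 (.node 2 (.node 1 (.one ⟨16264, 5, 4⟩) (.one ⟨89, 5, 3⟩)) (.node 1 (.one ⟨11139, 5, 4⟩) (.one ⟨11681, 4, 3⟩))) (.node 2 (.node 1 (.one ⟨11906, 5, 3⟩) (.one ⟨6561, 5, 4⟩)) (.node 1 (.one ⟨2406, 6, 4⟩) (.one ⟨4841, 4, 3⟩)))))))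
def par3_10_4 : Arr Par :=
  (.node 32 (.node 16 (.node 8 (.node 4 (.node 2 (.node 1 (.one ⟨10479, 6, 5⟩) (.one ⟨10010, 5, 4⟩)) (.node 1 (.one ⟨1951, 5, 5⟩) (.one ⟨8414, 5, 4⟩))) (.node 2 (.node 1 (.one ⟨3661, 4, 2⟩) (.one ⟨14641, 6, 3⟩)) (.node 1 (.one ⟨8368, 5, 4⟩) (.one ⟨4415, 3, 5⟩)))) (.node 4 (.node 2 (.node 1 (.one ⟨427, 5, 4⟩) (.one ⟨11879, 1, 3⟩)) (.node 1 (.one ⟨724, 5, 4⟩) (.one ⟨13424, 3, 5⟩))) (.node 2 (.node 1 (.one ⟨2763, 4, 4⟩) (.one ⟨16254, 3, 5⟩)) (.node 1 (.one ⟨10343, 6, 4⟩) (.one ⟨16095, 5, 5⟩))))) (.node 8 (.node 4 (.node 2 (.node 1 (.one ⟨106, 1, 0⟩) (.one ⟨17108, 6, 4⟩)) (.node 1 (.one ⟨1896, 1, 4⟩) (.one ⟨11262, 0, 5⟩))) (.node 2 (.node 1 (.one ⟨11868, 6, 4⟩) (.one ⟨15241, 5, 4⟩)) (.node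 1 (.one ⟨14643, 6, 5⟩) (.one ⟨15677, 1, 3⟩)))) (.node 4 (.node 2 (.node 1 (.one ⟨12632, 5, 3⟩) (.one ⟨7504, 6, 4⟩)) (.node 1 (.one ⟨57, 5, 4⟩) (.one ⟨16910, 5, 3⟩))) (.node 2 (.node 1 (.one ⟨16701, 4, 2⟩) (.one ⟨7767, 4, 2⟩)) (.node 1 (.one ⟨5507, 0, 2⟩) (.one ⟨10000, 1, 3⟩)))))) (.node 16 (.node 8 (.node 4 (.node 2 (.node 1 (.one ⟨2019, 1, 3⟩) (.one ⟨12141, 4, 3⟩)) (.node 1 (.one ⟨6757, 6, 4⟩) (.one ⟨15931, 5, 4⟩))) (.node 2 (.node 1 (.one ⟨11440, 5, 4⟩) (.one ⟨7608, 6, 3⟩)) (.node 1 (.one ⟨15238, 5, 4⟩) (.one ⟨10650, 5, 4⟩)))) (.node 4 (.node 2 (.node 1 (.one ⟨10583, 5, 4⟩) (.one ⟨10670, 5, 3⟩)) (.node 1 (.one ⟨659, 4, 3⟩) (.one ⟨2573, 5, 4⟩))) (.node 2 (.node 1 (.one ⟨15729, 6, 3⟩) (.one ⟨4208, 6, 4⟩)) (.node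 1 (.one ⟨7361, 0, 3⟩) (.one ⟨12817, 4, 3⟩))))) (.node 8 (.node 4 (.node 2 (.node 1 (.one ⟨9678, 6, 3⟩) (.one ⟨4466, 6, 4⟩)) (.node 1 (.one ⟨12505, 6, 3⟩) (.one ⟨16766, 6, 3⟩))) (.node 2 (.node 1 (.one ⟨6492, 3, 3⟩) (.one ⟨15478, 5, 3⟩)) (.node 1 (.one ⟨4034, 5, 3⟩) (.one ⟨11903, 6, 5⟩)))) (.node 4 (.node 2 (.node 1 (.one ⟨1162, 5, 4⟩) (.one ⟨9368, 6, 4⟩)) (.node 1 (.one ⟨3374, 5, 4⟩) (.one ⟨1383, 5, 1⟩))) (.node 2 (.node 1 (.one ⟨10519, 6, 4⟩) (.one ⟨3212, 4, 4⟩)) (.node 1 (.one ⟨7885, 0, 3⟩) (.one ⟨12288, 6, 4⟩)))))))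
def par3_10_5 : Arr Par :=
  (.node 32 (.node 16 (.node 8 (.node 4 (.node 2 (.node 1 (.one ⟨2060, 6, 3⟩) (.one ⟨209, 5, 3⟩)) (.node 1 (.one ⟨8265, 6, 3⟩) (.one ⟨14974, 5, 3⟩))) (.node 2 (.node 1 (.one ⟨8343, 6, 4⟩) (.one ⟨14982, 5, 3⟩)) (.node 1 (.one ⟨8605, 3, 3⟩) (.one ⟨15837, 0, 4⟩)))) (.node 4 (.node 2 (.node 1 (.one ⟨16613, 6, 3⟩) (.one ⟨4836, 0, 2⟩)) (.node 1 (.one ⟨218, 5, 4⟩) (.one ⟨2701, 5, 4⟩))) (.node 2 (.node 1 (.one ⟨9293, 5, 4⟩) (.one ⟨16176, 6, 4⟩)) (.node 1 (.one ⟨9708, 6, 5⟩) (.one ⟨8488, 0, 3⟩))))) (.node 8 (.node 4 (.node 2 (.node 1 (.one ⟨5479, 6, 5⟩) (.one ⟨15824, 5, 5⟩)) (.node 1 (.one ⟨9988, 6, 5⟩) (.one ⟨11707, 4, 3⟩))) (.node 2 (.node 1 (.one ⟨8679, 4, 3⟩) (.one ⟨4665, 3, 2⟩)) (.node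 1 (.one ⟨11124, 5, 4⟩) (.one ⟨11231, 4, 3⟩)))) (.node 4 (.node 2 (.node 1 (.one ⟨2103, 6, 3⟩) (.one ⟨7850, 4, 3⟩)) (.node 1 (.one ⟨4444, 6, 3⟩) (.one ⟨1442, 5, 1⟩))) (.node 2 (.node 1 (.one ⟨1962, 6, 3⟩) (.one ⟨4354, 6, 5⟩)) (.node 1 (.one ⟨16951, 4, 3⟩) (.one ⟨921, 1, 0⟩)))))) (.node 16 (.node 8 (.node 4 (.node 2 (.node 1 (.one ⟨4353, 6, 5⟩) (.one ⟨14285, 6, 5⟩)) (.node 1 (.one ⟨2250, 5, 4⟩) (.one ⟨5032, 5, 3⟩))) (.node 2 (.node 1 (.one ⟨16920, 5, 3⟩) (.one ⟨6550, 5, 5⟩)) (.node 1 (.one ⟨382, 0, 3⟩) (.one ⟨11980, 3, 1⟩)))) (.node 4 (.node 2 (.node 1 (.one ⟨2106, 2, 2⟩) (.one ⟨13411, 4, 1⟩)) (.node 1 (.one ⟨1714, 2, 3⟩) (.one ⟨5849, 6, 2⟩))) (.node 2 (.node 1 (.one ⟨9660, 4, 3⟩) (.one ⟨11237, 6, 3⟩)) (.node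 1 (.one ⟨9141, 5, 1⟩) (.one ⟨12392, 6, 4⟩))))) (.node 8 (.node 4 (.node 2 (.node 1 (.one ⟨4666, 5, 3⟩) (.one ⟨11748, 5, 4⟩)) (.node 1 (.one ⟨15932, 5, 4⟩) (.one ⟨8296, 4, 3⟩))) (.node 2 (.node 1 (.one ⟨7850, 0, 3⟩) (.one ⟨9178, 6, 4⟩)) (.node 1 (.one ⟨8466, 0, 4⟩) (.one ⟨8241, 6, 5⟩)))) (.node 4 (.node 2 (.node 1 (.one ⟨6550, 3, 5⟩) (.one ⟨7165, 6, 3⟩)) (.node 1 (.one ⟨8823, 3, 5⟩) (.one ⟨8310, 6, 5⟩))) (.node 2 (.node 1 (.one ⟨5260, 3, 5⟩) (.one ⟨5826, 3, 4⟩)) (.node 1 (.one ⟨15978, 5, 4⟩) (.one ⟨13327, 3, 3⟩)))))))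
def par3_10_6 : Arr Par :=
  (.node 32 (.node 16 (.node 8 (.node 4 (.node 2 (.node 1 (.one ⟨7406, 6, 3⟩) (.one ⟨10820, 6, 3⟩)) (.node 1 (.one ⟨16731, 0, 3⟩) (.one ⟨10762, 6, 3⟩))) (.node 2 (.node 1 (.one ⟨6634, 6, 3⟩) (.one ⟨11202, 6, 2⟩)) (.node 1 (.one ⟨12775, 5, 4⟩) (.one ⟨5397, 4, 4⟩)))) (.node 4 (.node 2 (.node 1 (.one ⟨9832, 1, 3⟩) (.one ⟨7235, 3, 3⟩)) (.node 1 (.one ⟨12580, 5, 5⟩) (.one ⟨8013, 5, 3⟩))) (.node 2 (.node 1 (.one ⟨4819, 0, 2⟩) (.one ⟨1645, 4, 4⟩)) (.node 1 (.one ⟨4200, 6, 1⟩) (.one ⟨4053, 6, 1⟩))))) (.node 8 (.node 4 (.node 2 (.node 1 (.one ⟨9830, 1, 3⟩) (.one ⟨11767, 5, 5⟩)) (.node 1 (.one ⟨834, 6, 5⟩) (.one ⟨15886, 0, 3⟩))) (.node 2 (.node 1 (.one ⟨10348, 6, 4⟩) (.one ⟨2317, 5, 3⟩)) (.node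 1 (.one ⟨3734, 6, 5⟩) (.one ⟨8023, 6, 4⟩)))) (.node 4 (.node 2 (.node 1 (.one ⟨5693, 5, 5⟩) (.one ⟨6046, 5, 4⟩)) (.node 1 (.one ⟨3237, 4, 3⟩) (.one ⟨8335, 6, 4⟩))) (.node 2 (.node 1 (.one ⟨6141, 5, 4⟩) (.one ⟨8227, 3, 4⟩)) (.node 1 (.one ⟨4824, 6, 4⟩) (.one ⟨7431, 6, 3⟩)))))) (.node 16 (.node 8 (.node 4 (.node 2 (.node 1 (.one ⟨7251, 6, 4⟩) (.one ⟨7848, 4, 2⟩)) (.node 1 (.one ⟨13548, 4, 4⟩) (.one ⟨1069, 5, 4⟩))) (.node 2 (.node 1 (.one ⟨13786, 5, 4⟩) (.one ⟨7115, 6, 4⟩)) (.node 1 (.one ⟨7350, 6, 3⟩) (.one ⟨8816, 4, 4⟩)))) (.node 4 (.node 2 (.node 1 (.one ⟨708, 5, 4⟩) (.one ⟨3568, 6, 3⟩)) (.node 1 (.one ⟨4204, 6, 3⟩) (.one ⟨8822, 4, 4⟩))) (.node 2 (.node 1 (.one ⟨10365, 6, 5⟩) (.one ⟨16257, 5, 3⟩)) (.node 1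 (.one ⟨16255, 5, 2⟩) (.one ⟨12616, 6, 4⟩))))) (.node 8 (.node 4 (.node 2 (.node 1 (.one ⟨11427, 6, 4⟩) (.one ⟨4253, 1, 5⟩)) (.node 1 (.one ⟨15440, 5, 2⟩) (.one ⟨12990, 5, 3⟩))) (.node 2 (.node 1 (.one ⟨2248, 5, 2⟩) (.one ⟨8497, 5, 2⟩)) (.node 1 (.one ⟨16091, 6, 4⟩) (.one ⟨11465, 6, 2⟩)))) (.node 4 (.node 2 (.node 1 (.one ⟨6371, 5, 1⟩) (.one ⟨5584, 5, 4⟩)) (.node 1 (.one ⟨3393, 6, 2⟩) (.one ⟨6151, 5, 3⟩))) (.node 2 (.node 1 (.one ⟨3417, 6, 4⟩) (.one ⟨9433, 2, 1⟩)) (.node 1 (.one ⟨15136, 4, 3⟩) (.one ⟨2397, 3, 5⟩)))))))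
def par3_10_7 : Arr Par :=
  (.node 32 (.node 16 (.node 8 (.node 4 (.node 2 (.node 1 (.one ⟨2164, 5, 2⟩) (.one ⟨15463, 4, 3⟩)) (.node 1 (.one ⟨1106, 3, 2⟩) (.one ⟨6931, 1, 2⟩))) (.node 2 (.node 1 (.one ⟨78, 0, 0⟩) (.one ⟨6191, 6, 5⟩)) (.node 1 (.one ⟨738, 0, 4⟩) (.one ⟨11504, 6, 4⟩)))) (.node 4 (.node 2 (.node 1 (.one ⟨8679, 5, 3⟩) (.one ⟨702, 0, 3⟩)) (.node 1 (.one ⟨1113, 4, 2⟩) (.one ⟨3757, 0, 3⟩))) (.node 2 (.node 1 (.one ⟨4880, 5, 4⟩) (.one ⟨785, 1, 0⟩)) (.node 1 (.one ⟨6441, 5, 4⟩) (.one ⟨2493, 3, 5⟩))))) (.node 8 (.node 4 (.node 2 (.node 1 (.one ⟨942, 5, 4⟩) (.one ⟨15193, 6, 3⟩)) (.node 1 (.one ⟨649, 5, 3⟩) (.one ⟨8319, 6, 4⟩))) (.node 2 (.node 1 (.one ⟨896, 5, 4⟩) (.one ⟨10901, 3, 5⟩)) (.node 1 (.one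 ⟨8416, 6, 4⟩) (.one ⟨4784, 6, 3⟩)))) (.node 4 (.node 2 (.node 1 (.one ⟨11980, 6, 1⟩) (.one ⟨7522, 3, 3⟩)) (.node 1 (.one ⟨9962, 3, 3⟩) (.one ⟨14407, 6, 1⟩))) (.node 2 (.node 1 (.one ⟨12247, 1, 3⟩) (.one ⟨13867, 5, 4⟩)) (.node 1 (.one ⟨1109, 3, 2⟩) (.one ⟨9499, 6, 3⟩)))))) (.node 16 (.node 8 (.node 4 (.node 2 (.node 1 (.one ⟨3034, 5, 3⟩) (.one ⟨13402, 5, 3⟩)) (.node 1 (.one ⟨15727, 5, 4⟩) (.one ⟨3859, 5, 4⟩))) (.node 2 (.node 1 (.one ⟨8918, 5, 5⟩) (.one ⟨14739, 5, 4⟩)) (.node 1 (.one ⟨10669, 5, 4⟩) (.one ⟨1104, 4, 3⟩)))) (.node 4 (.node 2 (.node 1 (.one ⟨650, 5, 4⟩) (.one ⟨11067, 4, 2⟩)) (.node 1 (.one ⟨9871, 5, 4⟩) (.one ⟨13296, 5, 4⟩))) (.node 2 (.node 1 (.one ⟨15892, 5, 5⟩) (.one ⟨5051, 5, 2⟩)) (.node 1 (.one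 ⟨16868, 3, 3⟩) (.one ⟨7043, 5, 5⟩))))) (.node 8 (.node 4 (.node 2 (.node 1 (.one ⟨10752, 0, 3⟩) (.one ⟨3634, 6, 2⟩)) (.node 1 (.one ⟨16470, 6, 4⟩) (.one ⟨10815, 4, 3⟩))) (.node 2 (.node 1 (.one ⟨7203, 0, 3⟩) (.one ⟨9604, 4, 3⟩)) (.node 1 (.one ⟨7002, 0, 3⟩) (.one ⟨5197, 5, 4⟩)))) (.node 4 (.node 2 (.node 1 (.one ⟨14485, 5, 1⟩) (.one ⟨11798, 6, 3⟩)) (.node 1 (.one ⟨3077, 5, 3⟩) (.one ⟨7614, 6, 4⟩))) (.node 2 (.node 1 (.one ⟨16725, 5, 5⟩) (.one ⟨9516, 4, 2⟩)) (.node 1 (.one ⟨5958, 6, 4⟩) (.one ⟨3111, 5, 4⟩)))))))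
def par3_10_8 : Arr Par :=
  (.node 32 (.node 16 (.node 8 (.node 4 (.node 2 (.node 1 (.one ⟨1091, 5, 2⟩) (.one ⟨10591, 3, 1⟩)) (.node 1 (.one ⟨4062, 5, 3⟩) (.one ⟨14678, 6, 5⟩))) (.node 2 (.node 1 (.one ⟨10842, 4, 4⟩) (.one ⟨12645, 6, 5⟩)) (.node 1 (.one ⟨9199, 3, 4⟩) (.one ⟨63, 1, 0⟩)))) (.node 4 (.node 2 (.node 1 (.one ⟨10463, 2, 3⟩) (.one ⟨12128, 3, 1⟩)) (.node 1 (.one ⟨13415, 4, 2⟩) (.one ⟨3184, 3, 4⟩))) (.node 2 (.node 1 (.one ⟨9292, 2, 1⟩) (.one ⟨5304, 3, 4⟩)) (.node 1 (.one ⟨6965, 0, 4⟩) (.one ⟨14459, 5, 1⟩))))) (.node 8 (.node 4 (.node 2 (.node 1 (.one ⟨3972, 5, 3⟩) (.one ⟨4623, 5, 3⟩)) (.node 1 (.one ⟨14851, 5, 4⟩) (.one ⟨3242, 5, 4⟩))) (.node 2 (.node 1 (.one ⟨11628, 3, 4⟩) (.one ⟨15126, 4, 4⟩)) (.node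 1 (.one ⟨11262, 3, 5⟩) (.one ⟨1680, 0, 3⟩)))) (.node 4 (.node 2 (.node 1 (.one ⟨7188, 6, 4⟩) (.one ⟨11690, 0, 3⟩)) (.node 1 (.one ⟨16878, 4, 2⟩) (.one ⟨7185, 0, 3⟩))) (.node 2 (.node 1 (.one ⟨5939, 5, 2⟩) (.one ⟨12594, 5, 2⟩)) (.node 1 (.one ⟨7140, 6, 4⟩) (.one ⟨14475, 5, 1⟩)))))) (.node 16 (.node 8 (.node 4 (.node 2 (.node 1 (.one ⟨7146, 5, 5⟩) (.one ⟨12165, 3, 3⟩)) (.node 1 (.one ⟨12857, 4, 2⟩) (.one ⟨7085, 4, 3⟩))) (.node 2 (.node 1 (.one ⟨9294, 2, 1⟩) (.one ⟨6430, 5, 4⟩)) (.node 1 (.one ⟨15707, 6, 4⟩) (.one ⟨9680, 0, 4⟩)))) (.node 4 (.node 2 (.node 1 (.one ⟨9599, 4, 3⟩) (.one ⟨15887, 4, 3⟩)) (.node 1 (.one ⟨4912, 5, 5⟩) (.one ⟨5696, 5, 3⟩))) (.node 2 (.node 1 (.one ⟨16921, 4, 3⟩) (.one ⟨4328, 0, 4⟩)) (.node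 1 (.one ⟨1063, 6, 2⟩) (.one ⟨10801, 5, 5⟩))))) (.node 8 (.node 4 (.node 2 (.node 1 (.one ⟨5459, 4, 3⟩) (.one ⟨11328, 4, 4⟩)) (.node 1 (.one ⟨17145, 4, 3⟩) (.one ⟨1008, 5, 4⟩))) (.node 2 (.node 1 (.one ⟨14832, 6, 4⟩) (.one ⟨13852, 0, 2⟩)) (.node 1 (.one ⟨552, 6, 3⟩) (.one ⟨13694, 0, 3⟩)))) (.node 4 (.node 2 (.node 1 (.one ⟨13752, 4, 4⟩) (.one ⟨7179, 5, 4⟩)) (.node 1 (.one ⟨16784, 4, 3⟩) (.one ⟨15515, 0, 4⟩))) (.node 2 (.node 1 (.one ⟨15256, 5, 5⟩) (.one ⟨15249, 3, 3⟩)) (.node 1 (.one ⟨2996, 6, 5⟩) (.one ⟨2610, 5, 2⟩)))))))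
def par3_10_9 : Arr Par :=
  (.node 32 (.node 16 (.node 8 (.node 4 (.node 2 (.node 1 (.one ⟨9663, 5, 2⟩) (.one ⟨16744, 6, 4⟩)) (.node 1 (.one ⟨11664, 3, 3⟩) (.one ⟨10299, 5, 4⟩))) (.node 2 (.node 1 (.one ⟨2107, 5, 2⟩) (.one ⟨6060, 6, 2⟩)) (.node 1 (.one ⟨12874, 5, 4⟩) (.one ⟨12183, 6, 5⟩)))) (.node 4 (.node 2 (.node 1 (.one ⟨10093, 3, 4⟩) (.one ⟨3785, 6, 5⟩)) (.node 1 (.one ⟨17049, 6, 5⟩) (.one ⟨11811, 5, 3⟩))) (.node 2 (.node 1 (.one ⟨3892, 5, 2⟩) (.one ⟨15395, 1, 4⟩)) (.node 1 (.one ⟨12612, 6, 2⟩) (.one ⟨11040, 6, 5⟩))))) (.node 8 (.node 4 (.node 2 (.node 1 (.one ⟨5565, 2, 2⟩) (.one ⟨12806, 6, 4⟩)) (.node 1 (.one ⟨15524, 0, 3⟩) (.one ⟨8079, 4, 4⟩))) (.node 2 (.node 1 (.one ⟨10039, 5, 3⟩) (.one ⟨1650, 1, 3⟩))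 (.node 1 (.one ⟨17112, 5, 4⟩) (.one ⟨9446, 6, 4⟩)))) (.node 4 (.node 2 (.node 1 (.one ⟨5325, 6, 4⟩) (.one ⟨1578, 6, 3⟩)) (.node 1 (.one ⟨10076, 5, 3⟩) (.one ⟨6220, 0, 3⟩))) (.node 2 (.node 1 (.one ⟨5847, 5, 4⟩) (.one ⟨10048, 6, 2⟩)) (.node 1 (.one ⟨7923, 4, 3⟩) (.one ⟨10807, 6, 4⟩)))))) (.node 16 (.node 8 (.node 4 (.node 2 (.node 1 (.one ⟨3849, 3, 3⟩) (.one ⟨5518, 6, 3⟩)) (.node 1 (.one ⟨3598, 4, 4⟩) (.one ⟨4006, 6, 4⟩))) (.node 2 (.node 1 (.one ⟨16248, 4, 3⟩) (.one ⟨7200, 3, 3⟩)) (.node 1 (.one ⟨12596, 4, 3⟩) (.one ⟨10733, 6, 3⟩)))) (.node 4 (.node 2 (.node 1 (.one ⟨11134, 6, 4⟩) (.one ⟨11762, 6, 4⟩)) (.node 1 (.one ⟨14364, 0, 4⟩) (.one ⟨5744, 0, 4⟩))) (.node 2 (.node 1 (.one ⟨6389, 0, 4⟩) (.one ⟨3706, 5,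 4⟩)) (.node 1 (.one ⟨3792, 5, 4⟩) (.one ⟨16086, 4, 4⟩))))) (.node 8 (.node 4 (.node 2 (.node 1 (.one ⟨10452, 5, 3⟩) (.one ⟨13201, 6, 4⟩)) (.node 1 (.one ⟨9728, 5, 5⟩) (.one ⟨8674, 5, 4⟩))) (.node 2 (.node 1 (.one ⟨4939, 5, 4⟩) (.one ⟨11421, 3, 2⟩)) (.node 1 (.one ⟨14957, 6, 3⟩) (.one ⟨3670, 4, 2⟩)))) (.node 4 (.node 2 (.node 1 (.one ⟨15246, 6, 4⟩) (.one ⟨10471, 3, 4⟩)) (.node 1 (.one ⟨2327, 0, 4⟩) (.one ⟨13361, 4, 3⟩))) (.node 2 (.node 1 (.one ⟨4594, 5, 4⟩) (.one ⟨14641, 0, 3⟩)) (.node 1 (.one ⟨1354, 5, 2⟩) (.one ⟨3635, 5, 4⟩)))))))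
def par3_10_10 : Arr Par :=
  (.node 32 (.node 16 (.node 8 (.node 4 (.node 2 (.node 1 (.one ⟨4133, 6, 2⟩) (.one ⟨11110, 6, 4⟩)) (.node 1 (.one ⟨7619, 4, 3⟩) (.one ⟨7707, 6, 3⟩))) (.node 2 (.node 1 (.one ⟨15937, 6, 3⟩) (.one ⟨4065, 5, 4⟩)) (.node 1 (.one ⟨2579, 3, 4⟩) (.one ⟨2804, 4, 4⟩)))) (.node 4 (.node 2 (.node 1 (.one ⟨12611, 6, 4⟩) (.one ⟨13569, 6, 3⟩)) (.node 1 (.one ⟨9177, 5, 3⟩) (.one ⟨5414, 5, 3⟩))) (.node 2 (.node 1 (.one ⟨14819, 6, 4⟩) (.one ⟨15599, 6, 3⟩)) (.node 1 (.one ⟨1871, 3, 4⟩) (.one ⟨7001, 5, 5⟩))))) (.node 8 (.node 4 (.node 2 (.node 1 (.one ⟨14889, 5, 4⟩) (.one ⟨9922, 5, 5⟩)) (.node 1 (.one ⟨4580, 1, 3⟩) (.one ⟨14492, 1, 3⟩))) (.node 2 (.node 1 (.one ⟨9333, 5, 5⟩) (.one ⟨16567, 6, 4⟩))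 (.node 1 (.one ⟨2561, 0, 3⟩) (.one ⟨10959, 5, 4⟩)))) (.node 4 (.node 2 (.node 1 (.one ⟨10130, 5, 5⟩) (.one ⟨953, 1, 3⟩)) (.node 1 (.one ⟨14397, 1, 3⟩) (.one ⟨8910, 1, 3⟩))) (.node 2 (.node 1 (.one ⟨9225, 3, 3⟩) (.one ⟨12133, 6, 1⟩)) (.node 1 (.one ⟨12884, 3, 3⟩) (.one ⟨15229, 4, 3⟩)))))) (.node 16 (.node 8 (.node 4 (.node 2 (.node 1 (.one ⟨3612, 6, 4⟩) (.one ⟨3520, 3, 4⟩)) (.node 1 (.one ⟨8137, 5, 4⟩) (.one ⟨13830, 5, 4⟩))) (.node 2 (.node 1 (.one ⟨1578, 4, 3⟩) (.one ⟨7169, 5, 4⟩)) (.node 1 (.one ⟨1498, 5, 4⟩) (.one ⟨9030, 5, 5⟩)))) (.node 4 (.node 2 (.node 1 (.one ⟨14692, 0, 4⟩) (.one ⟨4559, 1, 4⟩)) (.node 1 (.one ⟨13597, 3, 4⟩) (.one ⟨4005, 6, 4⟩))) (.node 2 (.node 1 (.one ⟨2432, 6, 4⟩) (.one ⟨2079, 4, 3⟩))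 (.node 1 (.one ⟨8545, 5, 4⟩) (.one ⟨14884, 6, 4⟩))))) (.node 8 (.node 4 (.node 2 (.node 1 (.one ⟨7348, 6, 3⟩) (.one ⟨9812, 6, 2⟩)) (.node 1 (.one ⟨2401, 6, 5⟩) (.one ⟨14648, 6, 5⟩))) (.node 2 (.node 1 (.one ⟨3545, 4, 4⟩) (.one ⟨10203, 4, 3⟩)) (.node 1 (.one ⟨16217, 5, 2⟩) (.one ⟨5179, 5, 4⟩)))) (.node 4 (.node 2 (.node 1 (.one ⟨14628, 4, 4⟩) (.one ⟨2440, 1, 4⟩)) (.node 1 (.one ⟨7625, 1, 3⟩) (.one ⟨6816, 1, 3⟩))) (.node 2 (.node 1 (.one ⟨11110, 5, 4⟩) (.one ⟨3272, 1, 3⟩)) (.node 1 (.one ⟨9446, 5, 4⟩) (.one ⟨9894, 0, 4⟩)))))))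
def par3_10_11 : Arr Par :=
  (.node 32 (.node 16 (.node 8 (.node 4 (.node 2 (.node 1 (.one ⟨14752, 5, 4⟩) (.one ⟨15858, 5, 4⟩)) (.node 1 (.one ⟨16145, 5, 5⟩) (.one ⟨10561, 0, 4⟩))) (.node 2 (.node 1 (.one ⟨7802, 6, 4⟩) (.one ⟨5262, 6, 4⟩)) (.node 1 (.one ⟨14362, 3, 4⟩) (.one ⟨7768, 5, 4⟩)))) (.node 4 (.node 2 (.node 1 (.one ⟨13816, 6, 3⟩) (.one ⟨10994, 3, 4⟩)) (.node 1 (.one ⟨13794, 6, 3⟩) (.one ⟨8565, 5, 4⟩))) (.node 2 (.node 1 (.one ⟨12982, 5, 4⟩) (.one ⟨8792, 6, 4⟩)) (.node 1 (.one ⟨5420, 5, 4⟩) (.one ⟨7250, 3, 3⟩))))) (.node 8 (.node 4 (.node 2 (.node 1 (.one ⟨15375, 5, 5⟩) (.one ⟨8717, 6, 3⟩)) (.node 1 (.one ⟨4534, 6, 5⟩) (.one ⟨15333, 5, 5⟩))) (.node 2 (.node 1 (.one ⟨5966, 6, 3⟩) (.one ⟨12278, 5, 4⟩))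 (.node 1 (.one ⟨15739, 4, 3⟩) (.one ⟨5326, 6, 4⟩)))) (.node 4 (.node 2 (.node 1 (.one ⟨2948, 5, 5⟩) (.one ⟨7399, 0, 3⟩)) (.node 1 (.one ⟨8318, 4, 3⟩) (.one ⟨234, 0, 3⟩))) (.node 2 (.node 1 (.one ⟨7663, 3, 4⟩) (.one ⟨13445, 5, 4⟩)) (.node 1 (.one ⟨8316, 5, 3⟩) (.one ⟨7205, 3, 3⟩)))))) (.node 16 (.node 8 (.node 4 (.node 2 (.node 1 (.one ⟨2597, 0, 3⟩) (.one ⟨12895, 5, 3⟩)) (.node 1 (.one ⟨2713, 5, 3⟩) (.one ⟨16252, 3, 5⟩))) (.node 2 (.node 1 (.one ⟨4003, 6, 4⟩) (.one ⟨1644, 6, 2⟩)) (.node 1 (.one ⟨5051, 1, 2⟩) (.one ⟨14726, 5, 4⟩)))) (.node 4 (.node 2 (.node 1 (.one ⟨14788, 5, 5⟩) (.one ⟨4573, 5, 4⟩)) (.node 1 (.one ⟨4851, 5, 4⟩) (.one ⟨1807, 5, 4⟩))) (.node 2 (.node 1 (.one ⟨8500, 6, 4⟩) (.one ⟨6474, 6, 4⟩))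 (.node 1 (.one ⟨15777, 5, 3⟩) (.one ⟨14636, 5, 4⟩))))) (.node 8 (.node 4 (.node 2 (.node 1 (.one ⟨16481, 6, 4⟩) (.one ⟨11619, 5, 4⟩)) (.node 1 (.one ⟨11712, 6, 3⟩) (.one ⟨2773, 5, 4⟩))) (.node 2 (.node 1 (.one ⟨5668, 6, 4⟩) (.one ⟨14537, 3, 4⟩)) (.node 1 (.one ⟨13419, 4, 2⟩) (.one ⟨9606, 6, 4⟩)))) (.node 4 (.node 2 (.node 1 (.one ⟨160, 5, 2⟩) (.one ⟨9564, 5, 4⟩)) (.node 1 (.one ⟨7605, 6, 4⟩) (.one ⟨9811, 6, 4⟩))) (.node 2 (.node 1 (.one ⟨4007, 3, 5⟩) (.one ⟨7436, 6, 2⟩)) (.node 1 (.one ⟨7767, 6, 2⟩) (.one ⟨12736, 4, 2⟩)))))))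
def par3_10_12 : Arr Par :=
  (.node 32 (.node 16 (.node 8 (.node 4 (.node 2 (.node 1 (.one ⟨12575, 6, 4⟩) (.one ⟨15527, 6, 4⟩)) (.node 1 (.one ⟨8170, 6, 4⟩) (.one ⟨10706, 5, 4⟩))) (.node 2 (.node 1 (.one ⟨15080, 0, 3⟩) (.one ⟨5756, 5, 5⟩)) (.node 1 (.one ⟨15780, 1, 3⟩) (.one ⟨8887, 6, 4⟩)))) (.node 4 (.node 2 (.node 1 (.one ⟨4934, 5, 3⟩) (.one ⟨15701, 3, 3⟩)) (.node 1 (.one ⟨16917, 5, 5⟩) (.one ⟨5923, 5, 3⟩))) (.node 2 (.node 1 (.one ⟨13770, 6, 5⟩) (.one ⟨10764, 5, 2⟩)) (.node 1 (.one ⟨14566, 5, 4⟩) (.one ⟨4392, 4, 4⟩))))) (.node 8 (.node 4 (.node 2 (.node 1 (.one ⟨9062, 6, 4⟩) (.one ⟨16206, 6, 4⟩)) (.node 1 (.one ⟨1356, 5, 4⟩) (.one ⟨14217, 5, 4⟩))) (.node 2 (.node 1 (.one ⟨14369, 3, 4⟩) (.one ⟨9774, 5, 4⟩))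 (.node 1 (.one ⟨4528, 5, 4⟩) (.one ⟨14192, 5, 4⟩)))) (.node 4 (.node 2 (.node 1 (.one ⟨5745, 0, 4⟩) (.one ⟨14137, 0, 4⟩)) (.node 1 (.one ⟨16759, 5, 4⟩) (.one ⟨6470, 0, 3⟩))) (.node 2 (.node 1 (.one ⟨6821, 0, 3⟩) (.one ⟨3630, 6, 3⟩)) (.node 1 (.one ⟨15555, 4, 5⟩) (.one ⟨14542, 5, 5⟩)))))) (.node 16 (.node 8 (.node 4 (.node 2 (.node 1 (.one ⟨11264, 1, 4⟩) (.one ⟨6087, 5, 4⟩)) (.node 1 (.one ⟨12230, 5, 5⟩) (.one ⟨1479, 5, 3⟩))) (.node 2 (.node 1 (.one ⟨2709, 6, 4⟩) (.one ⟨10526, 5, 3⟩)) (.node 1 (.one ⟨2485, 6, 3⟩) (.one ⟨15373, 6, 4⟩)))) (.node 4 (.node 2 (.node 1 (.one ⟨258, 6, 3⟩) (.one ⟨6311, 0, 2⟩)) (.node 1 (.one ⟨13018, 4, 4⟩) (.one ⟨7017, 0, 2⟩))) (.node 2 (.node 1 (.one ⟨1639, 6, 4⟩) (.one ⟨15430, 5,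 4⟩)) (.node 1 (.one ⟨16087, 4, 4⟩) (.one ⟨15019, 5, 4⟩))))) (.node 8 (.node 4 (.node 2 (.node 1 (.one ⟨11859, 5, 4⟩) (.one ⟨7646, 0, 4⟩)) (.node 1 (.one ⟨13895, 5, 4⟩) (.one ⟨5924, 5, 3⟩))) (.node 2 (.node 1 (.one ⟨4741, 5, 3⟩) (.one ⟨3378, 6, 5⟩)) (.node 1 (.one ⟨9138, 3, 1⟩) (.one ⟨11093, 3, 4⟩)))) (.node 4 (.node 2 (.node 1 (.one ⟨8217, 5, 4⟩) (.one ⟨9260, 5, 4⟩)) (.node 1 (.one ⟨15733, 5, 5⟩) (.one ⟨3099, 2, 1⟩))) (.node 2 (.node 1 (.one ⟨7679, 5, 4⟩) (.one ⟨10501, 5, 4⟩)) (.node 1 (.one ⟨16297, 5, 3⟩) (.one ⟨10808, 5, 5⟩)))))))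
def par3_10_13 : Arr Par :=
  (.node 32 (.node 16 (.node 8 (.node 4 (.node 2 (.node 1 (.one ⟨5793, 6, 3⟩) (.one ⟨8350, 6, 5⟩)) (.node 1 (.one ⟨8052, 0, 4⟩) (.one ⟨4991, 6, 4⟩))) (.node 2 (.node 1 (.one ⟨7213, 6, 5⟩) (.one ⟨8719, 6, 2⟩)) (.node 1 (.one ⟨1138, 5, 5⟩) (.one ⟨5353, 6, 4⟩)))) (.node 4 (.node 2 (.node 1 (.one ⟨1221, 3, 4⟩) (.one ⟨16120, 0, 2⟩)) (.node 1 (.one ⟨3488, 5, 4⟩) (.one ⟨2927, 5, 1⟩))) (.node 2 (.node 1 (.one ⟨9217, 4, 3⟩) (.one ⟨13015, 6, 4⟩)) (.node 1 (.one ⟨13445, 3, 4⟩) (.one ⟨1326, 4, 2⟩))))) (.node 8 (.node 4 (.node 2 (.node 1 (.one ⟨5812, 6, 3⟩) (.one ⟨2102, 5, 4⟩)) (.node 1 (.one ⟨13202, 5, 3⟩) (.one ⟨3959, 6, 3⟩))) (.node 2 (.node 1 (.one ⟨16478, 6, 3⟩) (.one ⟨225, 6, 3⟩)) (.node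 1 (.one ⟨15354, 6, 3⟩) (.one ⟨7479, 1, 4⟩)))) (.node 4 (.node 2 (.node 1 (.one ⟨14571, 6, 2⟩) (.one ⟨3347, 6, 4⟩)) (.node 1 (.one ⟨12464, 5, 5⟩) (.one ⟨7328, 5, 4⟩))) (.node 2 (.node 1 (.one ⟨16575, 5, 4⟩) (.one ⟨12775, 6, 4⟩)) (.node 1 (.one ⟨12434, 5, 3⟩) (.one ⟨9449, 4, 4⟩)))))) (.node 16 (.node 8 (.node 4 (.node 2 (.node 1 (.one ⟨11970, 6, 5⟩) (.one ⟨11544, 3, 1⟩)) (.node 1 (.one ⟨14780, 4, 3⟩) (.one ⟨14863, 0, 3⟩))) (.node 2 (.node 1 (.one ⟨14577, 5, 5⟩) (.one ⟨7095, 4, 4⟩)) (.node 1 (.one ⟨12633, 0, 3⟩) (.one ⟨3754, 3, 5⟩)))) (.node 4 (.node 2 (.node 1 (.one ⟨1278, 3, 2⟩) (.one ⟨7367, 6, 5⟩)) (.node 1 (.one ⟨827, 6, 3⟩) (.one ⟨16688, 6, 4⟩))) (.node 2 (.node 1 (.one ⟨12251, 6, 3⟩) (.one ⟨10714, 6, 4⟩))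 (.node 1 (.one ⟨898, 5, 2⟩) (.one ⟨14884, 4, 4⟩))))) (.node 8 (.node 4 (.node 2 (.node 1 (.one ⟨696, 5, 4⟩) (.one ⟨14239, 6, 4⟩)) (.node 1 (.one ⟨14339, 6, 3⟩) (.one ⟨134, 5, 5⟩))) (.node 2 (.node 1 (.one ⟨310, 5, 3⟩) (.one ⟨8172, 6, 4⟩)) (.node 1 (.one ⟨11007, 5, 3⟩) (.one ⟨1315, 4, 3⟩)))) (.node 4 (.node 2 (.node 1 (.one ⟨5598, 5, 4⟩) (.one ⟨11495, 3, 2⟩)) (.node 1 (.one ⟨14431, 4, 4⟩) (.one ⟨9433, 6, 1⟩))) (.node 2 (.node 1 (.one ⟨11988, 4, 2⟩) (.one ⟨7765, 5, 4⟩)) (.node 1 (.one ⟨3568, 3, 3⟩) (.one ⟨7619, 6, 3⟩)))))))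
def par3_10_14 : Arr Par :=
  (.node 32 (.node 16 (.node 8 (.node 4 (.node 2 (.node 1 (.one ⟨4872, 6, 3⟩) (.one ⟨14675, 5, 3⟩)) (.node 1 (.one ⟨13078, 3, 4⟩) (.one ⟨9439, 2, 3⟩))) (.node 2 (.node 1 (.one ⟨1065, 5, 5⟩) (.one ⟨16171, 0, 2⟩)) (.node 1 (.one ⟨2993, 6, 5⟩) (.one ⟨14775, 0, 3⟩)))) (.node 4 (.node 2 (.node 1 (.one ⟨3090, 6, 4⟩) (.one ⟨7567, 3, 4⟩)) (.node 1 (.one ⟨14341, 4, 3⟩) (.one ⟨9451, 4, 3⟩))) (.node 2 (.node 1 (.one ⟨16974, 5, 3⟩) (.one ⟨11083, 6, 2⟩)) (.node 1 (.one ⟨5795, 6, 4⟩) (.one ⟨7503, 1, 4⟩))))) (.node 8 (.node 4 (.node 2 (.node 1 (.one ⟨10442, 6, 2⟩) (.one ⟨10495, 5, 4⟩)) (.node 1 (.one ⟨9866, 6, 4⟩) (.one ⟨9566, 6, 1⟩))) (.node 2 (.node 1 (.one ⟨11093, 4, 4⟩) (.one ⟨16578, 5, 4⟩))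 (.node 1 (.one ⟨16610, 0, 3⟩) (.one ⟨1491, 5, 3⟩)))) (.node 4 (.node 2 (.node 1 (.one ⟨1383, 6, 1⟩) (.one ⟨15654, 5, 4⟩)) (.node 1 (.one ⟨1316, 2, 2⟩) (.one ⟨3250, 5, 3⟩))) (.node 2 (.node 1 (.one ⟨2435, 6, 3⟩) (.one ⟨14194, 5, 4⟩)) (.node 1 (.one ⟨13758, 6, 3⟩) (.one ⟨16299, 5, 2⟩)))))) (.node 16 (.node 8 (.node 4 (.node 2 (.node 1 (.one ⟨2711, 6, 4⟩) (.one ⟨845, 5, 4⟩)) (.node 1 (.one ⟨3795, 5, 3⟩) (.one ⟨8583, 6, 5⟩))) (.node 2 (.node 1 (.one ⟨8946, 6, 5⟩) (.one ⟨6128, 5, 3⟩)) (.node 1 (.one ⟨7680, 5, 3⟩) (.one ⟨13958, 6, 3⟩)))) (.node 4 (.node 2 (.node 1 (.one ⟨9537, 6, 4⟩) (.one ⟨2044, 3, 4⟩)) (.node 1 (.one ⟨11691, 3, 5⟩) (.one ⟨9084, 1, 2⟩))) (.node 2 (.node 1 (.one ⟨16713, 6, 3⟩) (.one ⟨5322, 5, 4⟩))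 (.node 1 (.one ⟨1988, 6, 4⟩) (.one ⟨12068, 6, 4⟩))))) (.node 8 (.node 4 (.node 2 (.node 1 (.one ⟨11686, 4, 3⟩) (.one ⟨3169, 3, 2⟩)) (.node 1 (.one ⟨6362, 5, 4⟩) (.one ⟨6470, 5, 3⟩))) (.node 2 (.node 1 (.one ⟨11307, 1, 4⟩) (.one ⟨13879, 1, 4⟩)) (.node 1 (.one ⟨5871, 5, 3⟩) (.one ⟨11067, 3, 2⟩)))) (.node 4 (.node 2 (.node 1 (.one ⟨14042, 6, 3⟩) (.one ⟨16849, 5, 4⟩)) (.node 1 (.one ⟨12772, 6, 3⟩) (.one ⟨109, 6, 3⟩))) (.node 2 (.node 1 (.one ⟨1469, 5, 2⟩) (.one ⟨11710, 4, 4⟩)) (.node 1 (.one ⟨1744, 6, 3⟩) (.one ⟨8208, 6, 5⟩)))))))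
def par3_10_15 : Arr Par :=
  (.node 32 (.node 16 (.node 8 (.node 4 (.node 2 (.node 1 (.one ⟨13471, 6, 3⟩) (.one ⟨948, 5, 4⟩)) (.node 1 (.one ⟨1382, 4, 1⟩) (.one ⟨2667, 6, 2⟩))) (.node 2 (.node 1 (.one ⟨2093, 5, 2⟩) (.one ⟨14412, 5, 2⟩)) (.node 1 (.one ⟨3158, 3, 3⟩) (.one ⟨8138, 5, 4⟩)))) (.node 4 (.node 2 (.node 1 (.one ⟨3982, 5, 3⟩) (.one ⟨6653, 5, 4⟩)) (.node 1 (.one ⟨2735, 5, 4⟩) (.one ⟨639, 1, 0⟩))) (.node 2 (.node 1 (.one ⟨1391, 4, 2⟩) (.one ⟨2640, 5, 3⟩)) (.node 1 (.one ⟨384, 1, 0⟩) (.one ⟨15221, 6, 5⟩))))) (.node 8 (.node 4 (.node 2 (.node 1 (.one ⟨1707, 5, 3⟩) (.one ⟨10009, 6, 5⟩)) (.node 1 (.one ⟨2588, 4, 3⟩) (.one ⟨8571, 5, 4⟩))) (.node 2 (.node 1 (.one ⟨1393, 4, 3⟩) (.one ⟨15372, 6, 4⟩)) (.node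 1 (.one ⟨8507, 5, 4⟩) (.one ⟨6631, 4, 3⟩)))) (.node 4 (.node 2 (.node 1 (.one ⟨4799, 5, 3⟩) (.one ⟨6649, 0, 3⟩)) (.node 1 (.one ⟨6561, 6, 4⟩) (.one ⟨15102, 6, 5⟩))) (.node 2 (.node 1 (.one ⟨7491, 0, 4⟩) (.one ⟨13973, 6, 4⟩)) (.node 1 (.one ⟨11376, 6, 4⟩) (.one ⟨1319, 6, 2⟩)))))) (.node 16 (.node 8 (.node 4 (.node 2 (.node 1 (.one ⟨6280, 5, 4⟩) (.one ⟨13816, 5, 3⟩)) (.node 1 (.one ⟨1117, 6, 4⟩) (.one ⟨2542, 6, 4⟩))) (.node 2 (.node 1 (.one ⟨13601, 5, 4⟩) (.one ⟨9348, 6, 2⟩)) (.node 1 (.one ⟨2585, 6, 3⟩) (.one ⟨6639, 0, 3⟩)))) (.node 4 (.node 2 (.node 1 (.one ⟨234, 5, 3⟩) (.one ⟨6931, 3, 2⟩)) (.node 1 (.one ⟨12781, 3, 2⟩) (.one ⟨6504, 5, 3⟩))) (.node 2 (.node 1 (.one ⟨15344, 5, 4⟩) (.one ⟨3669, 0, 4⟩)) (.node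 1 (.one ⟨7477, 0, 4⟩) (.one ⟨6441, 6, 4⟩))))) (.node 8 (.node 4 (.node 2 (.node 1 (.one ⟨9856, 6, 4⟩) (.one ⟨2391, 6, 2⟩)) (.node 1 (.one ⟨15090, 0, 4⟩) (.one ⟨11550, 5, 4⟩))) (.node 2 (.node 1 (.one ⟨6499, 6, 4⟩) (.one ⟨14124, 6, 2⟩)) (.node 1 (.one ⟨2531, 6, 5⟩) (.one ⟨5930, 4, 3⟩)))) (.node 4 (.node 2 (.node 1 (.one ⟨3828, 5, 4⟩) (.one ⟨14635, 5, 4⟩)) (.node 1 (.one ⟨11584, 4, 3⟩) (.one ⟨8560, 5, 4⟩))) (.node 2 (.node 1 (.one ⟨8436, 5, 4⟩) (.one ⟨11368, 5, 3⟩)) (.node 1 (.one ⟨837, 6, 4⟩) (.one ⟨10172, 5, 3⟩)))))))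
def par3_10 : Arr Par :=
  (.node 512 (.node 256 (.node 128 (.node 64 par3_10_0 par3_10_1) (.node 64 par3_10_2 par3_10_3)) (.node 128 (.node 64 par3_10_4 par3_10_5) (.node 64 par3_10_6 par3_10_7))) (.node 256 (.node 128 (.node 64 par3_10_8 par3_10_9) (.node 64 par3_10_10 par3_10_11)) (.node 128 (.node 64 par3_10_12 par3_10_13) (.node 64 par3_10_14 par3_10_15))))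
def par3_11_0 : Arr Par :=
  (.node 32 (.node 16 (.node 8 (.node 4 (.node 2 (.node 1 (.one ⟨15521, 6, 3⟩) (.one ⟨352, 5, 4⟩)) (.node 1 (.one ⟨659, 5, 3⟩) (.one ⟨1188, 4, 4⟩))) (.node 2 (.node 1 (.one ⟨13089, 4, 3⟩) (.one ⟨10, 5, 3⟩)) (.node 1 (.one ⟨11687, 6, 4⟩) (.one ⟨2927, 1, 1⟩)))) (.node 4 (.node 2 (.node 1 (.one ⟨7587, 4, 3⟩) (.one ⟨1281, 4, 1⟩)) (.node 1 (.one ⟨11211, 1, 1⟩) (.one ⟨16067, 0, 4⟩))) (.node 2 (.node 1 (.one ⟨7185, 4, 3⟩) (.one ⟨10137, 5, 5⟩)) (.node 1 (.one ⟨7561, 0, 3⟩) (.one ⟨3293, 4, 4⟩))))) (.node 8 (.node 4 (.node 2 (.node 1 (.one ⟨16554, 5, 4⟩) (.one ⟨15211, 5, 3⟩)) (.node 1 (.one ⟨15891, 4, 3⟩) (.one ⟨12480, 5, 3⟩))) (.node 2 (.node 1 (.one ⟨16923, 4, 3⟩) (.one ⟨1198, 4, 3⟩)) (.node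 1 (.one ⟨16093, 0, 4⟩) (.one ⟨4523, 6, 5⟩)))) (.node 4 (.node 2 (.node 1 (.one ⟨4447, 5, 4⟩) (.one ⟨11460, 6, 5⟩)) (.node 1 (.one ⟨7561, 4, 3⟩) (.one ⟨9290, 5, 4⟩))) (.node 2 (.node 1 (.one ⟨14402, 6, 5⟩) (.one ⟨2405, 5, 3⟩)) (.node 1 (.one ⟨9002, 6, 4⟩) (.one ⟨3075, 5, 3⟩)))))) (.node 16 (.node 8 (.node 4 (.node 2 (.node 1 (.one ⟨8281, 0, 2⟩) (.one ⟨7583, 0, 3⟩)) (.node 1 (.one ⟨2353, 0, 3⟩) (.one ⟨3651, 5, 4⟩))) (.node 2 (.node 1 (.one ⟨16675, 5, 5⟩) (.one ⟨9486, 5, 4⟩)) (.node 1 (.one ⟨11799, 1, 4⟩) (.one ⟨14517, 5, 4⟩)))) (.node 4 (.node 2 (.node 1 (.one ⟨13970, 5, 4⟩) (.one ⟨2473, 4, 3⟩)) (.node 1 (.one ⟨11780, 1, 5⟩) (.one ⟨1832, 6, 3⟩))) (.node 2 (.node 1 (.one ⟨15599, 0, 3⟩) (.one ⟨3752, 6, 3⟩)) (.node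 1 (.one ⟨2452, 0, 3⟩) (.one ⟨15821, 5, 4⟩))))) (.node 8 (.node 4 (.node 2 (.node 1 (.one ⟨15119, 6, 4⟩) (.one ⟨4037, 5, 4⟩)) (.node 1 (.one ⟨1855, 5, 4⟩) (.one ⟨9871, 6, 4⟩))) (.node 2 (.node 1 (.one ⟨4846, 6, 3⟩) (.one ⟨7494, 6, 4⟩)) (.node 1 (.one ⟨5415, 5, 4⟩) (.one ⟨8766, 5, 5⟩)))) (.node 4 (.node 2 (.node 1 (.one ⟨15810, 5, 4⟩) (.one ⟨5409, 3, 3⟩)) (.node 1 (.one ⟨8967, 5, 3⟩) (.one ⟨5777, 5, 4⟩))) (.node 2 (.node 1 (.one ⟨15275, 5, 5⟩) (.one ⟨6118, 4, 2⟩)) (.node 1 (.one ⟨9616, 6, 4⟩) (.one ⟨6547, 0, 3⟩)))))))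
def par3_11_1 : Arr Par :=
  (.node 32 (.node 16 (.node 8 (.node 4 (.node 2 (.node 1 (.one ⟨16409, 5, 3⟩) (.one ⟨9618, 6, 4⟩)) (.node 1 (.one ⟨6343, 6, 4⟩) (.one ⟨3792, 0, 4⟩))) (.node 2 (.node 1 (.one ⟨874, 5, 3⟩) (.one ⟨16407, 5, 5⟩)) (.node 1 (.one ⟨16410, 5, 3⟩) (.one ⟨657, 5, 3⟩)))) (.node 4 (.node 2 (.node 1 (.one ⟨13862, 6, 4⟩) (.one ⟨2627, 4, 4⟩)) (.node 1 (.one ⟨7948, 6, 3⟩) (.one ⟨16073, 6, 3⟩))) (.node 2 (.node 1 (.one ⟨102, 5, 3⟩) (.one ⟨6321, 0, 3⟩)) (.node 1 (.one ⟨11924, 0, 3⟩) (.one ⟨6988, 5, 5⟩))))) (.node 8 (.node 4 (.node 2 (.node 1 (.one ⟨916, 6, 3⟩) (.one ⟨655, 6, 4⟩)) (.node 1 (.one ⟨10676, 0, 3⟩) (.one ⟨16392, 5, 4⟩))) (.node 2 (.node 1 (.one ⟨889, 6, 3⟩) (.one ⟨686, 6, 5⟩)) (.node 1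 (.one ⟨16442, 1, 3⟩) (.one ⟨13908, 5, 4⟩)))) (.node 4 (.node 2 (.node 1 (.one ⟨336, 4, 3⟩) (.one ⟨3285, 5, 4⟩)) (.node 1 (.one ⟨12537, 0, 3⟩) (.one ⟨15114, 5, 4⟩))) (.node 2 (.node 1 (.one ⟨10166, 6, 4⟩) (.one ⟨2634, 5, 4⟩)) (.node 1 (.one ⟨2871, 5, 4⟩) (.one ⟨5682, 4, 2⟩)))))) (.node 16 (.node 8 (.node 4 (.node 2 (.node 1 (.one ⟨5872, 0, 5⟩) (.one ⟨1737, 4, 3⟩)) (.node 1 (.one ⟨436, 0, 5⟩) (.one ⟨4211, 3, 3⟩))) (.node 2 (.node 1 (.one ⟨865, 5, 3⟩) (.one ⟨14741, 5, 3⟩)) (.node 1 (.one ⟨16283, 0, 5⟩) (.one ⟨9444, 5, 3⟩)))) (.node 4 (.node 2 (.node 1 (.one ⟨1712, 3, 2⟩) (.one ⟨10913, 5, 5⟩)) (.node 1 (.one ⟨6623, 6, 3⟩) (.one ⟨12861, 6, 4⟩))) (.node 2 (.node 1 (.one ⟨9976, 5, 3⟩) (.one ⟨870, 6, 5⟩)) (.node 1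 (.one ⟨8003, 4, 3⟩) (.one ⟨12677, 6, 5⟩))))) (.node 8 (.node 4 (.node 2 (.node 1 (.one ⟨12678, 6, 3⟩) (.one ⟨8714, 5, 4⟩)) (.node 1 (.one ⟨809, 6, 5⟩) (.one ⟨242, 6, 3⟩))) (.node 2 (.node 1 (.one ⟨3577, 5, 4⟩) (.one ⟨15967, 5, 3⟩)) (.node 1 (.one ⟨12673, 6, 3⟩) (.one ⟨16984, 5, 3⟩)))) (.node 4 (.node 2 (.node 1 (.one ⟨10146, 6, 3⟩) (.one ⟨2926, 1, 4⟩)) (.node 1 (.one ⟨2584, 5, 4⟩) (.one ⟨10124, 1, 4⟩))) (.node 2 (.node 1 (.one ⟨15478, 4, 3⟩) (.one ⟨7203, 6, 3⟩)) (.node 1 (.one ⟨5826, 1, 4⟩) (.one ⟨3189, 5, 3⟩)))))))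
def par3_11_2 : Arr Par :=
  (.node 32 (.node 16 (.node 8 (.node 4 (.node 2 (.node 1 (.one ⟨2459, 5, 4⟩) (.one ⟨13953, 0, 4⟩)) (.node 1 (.one ⟨8222, 0, 5⟩) (.one ⟨5849, 4, 2⟩))) (.node 2 (.node 1 (.one ⟨4478, 6, 4⟩) (.one ⟨16313, 3, 3⟩)) (.node 1 (.one ⟨10878, 5, 3⟩) (.one ⟨7522, 5, 3⟩)))) (.node 4 (.node 2 (.node 1 (.one ⟨16136, 5, 5⟩) (.one ⟨6343, 0, 4⟩)) (.node 1 (.one ⟨2946, 1, 3⟩) (.one ⟨13317, 5, 5⟩))) (.node 2 (.node 1 (.one ⟨4517, 0, 3⟩) (.one ⟨3048, 4, 3⟩)) (.node 1 (.one ⟨7949, 0, 4⟩) (.one ⟨12513, 5, 5⟩))))) (.node 8 (.node 4 (.node 2 (.node 1 (.one ⟨15837, 3, 4⟩) (.one ⟨5231, 6, 5⟩)) (.node 1 (.one ⟨11789, 6, 4⟩) (.one ⟨14568, 5, 2⟩))) (.node 2 (.node 1 (.one ⟨3334, 5, 3⟩) (.one ⟨1518, 6, 5⟩)) (.node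 1 (.one ⟨15029, 5, 5⟩) (.one ⟨10832, 3, 3⟩)))) (.node 4 (.node 2 (.node 1 (.one ⟨12544, 0, 3⟩) (.one ⟨11795, 3, 4⟩)) (.node 1 (.one ⟨4560, 6, 5⟩) (.one ⟨17118, 5, 4⟩))) (.node 2 (.node 1 (.one ⟨10125, 5, 3⟩) (.one ⟨11544, 2, 1⟩)) (.node 1 (.one ⟨5311, 6, 5⟩) (.one ⟨6437, 6, 4⟩)))))) (.node 16 (.node 8 (.node 4 (.node 2 (.node 1 (.one ⟨2756, 5, 3⟩) (.one ⟨6553, 0, 4⟩)) (.node 1 (.one ⟨14752, 6, 4⟩) (.one ⟨10119, 5, 3⟩))) (.node 2 (.node 1 (.one ⟨7662, 6, 3⟩) (.one ⟨17003, 6, 2⟩)) (.node 1 (.one ⟨13172, 4, 4⟩) (.one ⟨3337, 5, 4⟩)))) (.node 4 (.node 2 (.node 1 (.one ⟨9197, 5, 5⟩) (.one ⟨11989, 5, 4⟩)) (.node 1 (.one ⟨2651, 6, 5⟩) (.one ⟨5903, 5, 3⟩))) (.node 2 (.node 1 (.one ⟨15107, 6, 4⟩) (.one ⟨11668, 6, 4⟩))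 (.node 1 (.one ⟨8200, 5, 3⟩) (.one ⟨7358, 0, 3⟩))))) (.node 8 (.node 4 (.node 2 (.node 1 (.one ⟨453, 4, 3⟩) (.one ⟨15255, 6, 4⟩)) (.node 1 (.one ⟨2165, 5, 3⟩) (.one ⟨14411, 4, 2⟩))) (.node 2 (.node 1 (.one ⟨5723, 5, 4⟩) (.one ⟨11255, 5, 4⟩)) (.node 1 (.one ⟨16077, 1, 4⟩) (.one ⟨5429, 6, 4⟩)))) (.node 4 (.node 2 (.node 1 (.one ⟨13058, 5, 5⟩) (.one ⟨3630, 5, 3⟩)) (.node 1 (.one ⟨10030, 5, 4⟩) (.one ⟨10143, 4, 3⟩))) (.node 2 (.node 1 (.one ⟨5820, 6, 2⟩) (.one ⟨3379, 1, 2⟩)) (.node 1 (.one ⟨9424, 4, 4⟩) (.one ⟨2404, 6, 4⟩)))))))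
def par3_11_3 : Arr Par :=
  (.node 32 (.node 16 (.node 8 (.node 4 (.node 2 (.node 1 (.one ⟨14235, 6, 3⟩) (.one ⟨3792, 6, 4⟩)) (.node 1 (.one ⟨16272, 6, 4⟩) (.one ⟨6503, 4, 3⟩))) (.node 2 (.node 1 (.one ⟨11863, 5, 4⟩) (.one ⟨995, 3, 5⟩)) (.node 1 (.one ⟨14401, 6, 3⟩) (.one ⟨4211, 6, 3⟩)))) (.node 4 (.node 2 (.node 1 (.one ⟨2229, 5, 4⟩) (.one ⟨9430, 3, 1⟩)) (.node 1 (.one ⟨2268, 5, 3⟩) (.one ⟨15563, 2, 2⟩))) (.node 2 (.node 1 (.one ⟨7479, 3, 4⟩) (.one ⟨346, 4, 3⟩)) (.node 1 (.one ⟨3418, 4, 5⟩) (.one ⟨3398, 4, 4⟩))))) (.node 8 (.node 4 (.node 2 (.node 1 (.one ⟨733, 5, 5⟩) (.one ⟨3034, 6, 3⟩)) (.node 1 (.one ⟨12448, 6, 3⟩) (.one ⟨162, 5, 4⟩))) (.node 2 (.node 1 (.one ⟨4844, 6, 3⟩) (.one ⟨13984, 5, 3⟩)) (.node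 1 (.one ⟨1516, 6, 3⟩) (.one ⟨10298, 4, 3⟩)))) (.node 4 (.node 2 (.node 1 (.one ⟨3578, 5, 4⟩) (.one ⟨7402, 0, 3⟩)) (.node 1 (.one ⟨13181, 5, 5⟩) (.one ⟨9362, 5, 4⟩))) (.node 2 (.node 1 (.one ⟨9433, 4, 1⟩) (.one ⟨15415, 3, 3⟩)) (.node 1 (.one ⟨11, 1, 5⟩) (.one ⟨13778, 4, 4⟩)))))) (.node 16 (.node 8 (.node 4 (.node 2 (.node 1 (.one ⟨14335, 5, 5⟩) (.one ⟨9423, 4, 4⟩)) (.node 1 (.one ⟨11263, 4, 4⟩) (.one ⟨7699, 0, 4⟩))) (.node 2 (.node 1 (.one ⟨3438, 1, 3⟩) (.one ⟨856, 6, 3⟩)) (.node 1 (.one ⟨703, 6, 4⟩) (.one ⟨10512, 0, 1⟩)))) (.node 4 (.node 2 (.node 1 (.one ⟨1114, 2, 2⟩) (.one ⟨8300, 6, 3⟩)) (.node 1 (.one ⟨9227, 5, 4⟩) (.one ⟨1039, 6, 3⟩))) (.node 2 (.node 1 (.one ⟨12512, 5, 4⟩) (.one ⟨7398, 0, 4⟩)) (.node 1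 (.one ⟨8296, 6, 3⟩) (.one ⟨6857, 5, 3⟩))))) (.node 8 (.node 4 (.node 2 (.node 1 (.one ⟨9164, 5, 3⟩) (.one ⟨9795, 4, 3⟩)) (.node 1 (.one ⟨13267, 6, 3⟩) (.one ⟨13231, 6, 3⟩))) (.node 2 (.node 1 (.one ⟨4820, 5, 3⟩) (.one ⟨4599, 3, 2⟩)) (.node 1 (.one ⟨1193, 6, 4⟩) (.one ⟨13579, 6, 3⟩)))) (.node 4 (.node 2 (.node 1 (.one ⟨7458, 3, 4⟩) (.one ⟨11664, 0, 3⟩)) (.node 1 (.one ⟨2414, 6, 3⟩) (.one ⟨4531, 5, 1⟩))) (.node 2 (.node 1 (.one ⟨9292, 4, 1⟩) (.one ⟨13408, 1, 1⟩)) (.node 1 (.one ⟨14671, 6, 4⟩) (.one ⟨16048, 6, 4⟩)))))))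
def par3_11_4 : Arr Par :=
  (.node 32 (.node 16 (.node 8 (.node 4 (.node 2 (.node 1 (.one ⟨15240, 6, 3⟩) (.one ⟨9886, 1, 1⟩)) (.node 1 (.one ⟨16190, 6, 5⟩) (.one ⟨9599, 2, 3⟩))) (.node 2 (.node 1 (.one ⟨13134, 6, 2⟩) (.one ⟨12992, 6, 3⟩)) (.node 1 (.one ⟨10527, 6, 4⟩) (.one ⟨11517, 4, 2⟩)))) (.node 4 (.node 2 (.node 1 (.one ⟨6384, 5, 2⟩) (.one ⟨4696, 6, 4⟩)) (.node 1 (.one ⟨12154, 6, 4⟩) (.one ⟨1669, 5, 2⟩))) (.node 2 (.node 1 (.one ⟨5684, 5, 2⟩) (.one ⟨7443, 3, 3⟩)) (.node 1 (.one ⟨7354, 6, 4⟩) (.one ⟨8618, 6, 4⟩))))) (.node 8 (.node 4 (.node 2 (.node 1 (.one ⟨9269, 5, 5⟩) (.one ⟨8353, 5, 4⟩)) (.node 1 (.one ⟨5395, 1, 3⟩) (.one ⟨10346, 5, 2⟩))) (.node 2 (.node 1 (.one ⟨9294, 4, 1⟩) (.one ⟨888, 6, 4⟩)) (.node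 1 (.one ⟨11410, 4, 5⟩) (.one ⟨15523, 1, 4⟩)))) (.node 4 (.node 2 (.node 1 (.one ⟨5486, 1, 0⟩) (.one ⟨5849, 2, 2⟩)) (.node 1 (.one ⟨17119, 5, 5⟩) (.one ⟨4138, 6, 3⟩))) (.node 2 (.node 1 (.one ⟨9604, 2, 3⟩) (.one ⟨7100, 1, 4⟩)) (.node 1 (.one ⟨5912, 5, 3⟩) (.one ⟨10210, 6, 4⟩)))))) (.node 16 (.node 8 (.node 4 (.node 2 (.node 1 (.one ⟨1846, 5, 4⟩) (.one ⟨16990, 6, 4⟩)) (.node 1 (.one ⟨6990, 6, 4⟩) (.one ⟨16768, 6, 3⟩))) (.node 2 (.node 1 (.one ⟨14518, 5, 4⟩) (.one ⟨10492, 6, 4⟩)) (.node 1 (.one ⟨10674, 5, 3⟩) (.one ⟨14118, 5, 5⟩)))) (.node 4 (.node 2 (.node 1 (.one ⟨1176, 5, 5⟩) (.one ⟨12863, 6, 4⟩)) (.node 1 (.one ⟨5953, 0, 4⟩) (.one ⟨10628, 5, 4⟩))) (.node 2 (.node 1 (.one ⟨6347, 6, 5⟩) (.one ⟨11998, 5, 4⟩))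 (.node 1 (.one ⟨6563, 3, 3⟩) (.one ⟨775, 6, 5⟩))))) (.node 8 (.node 4 (.node 2 (.node 1 (.one ⟨3892, 6, 2⟩) (.one ⟨3189, 4, 3⟩)) (.node 1 (.one ⟨14741, 4, 3⟩) (.one ⟨5215, 6, 3⟩))) (.node 2 (.node 1 (.one ⟨16925, 4, 3⟩) (.one ⟨15017, 0, 4⟩)) (.node 1 (.one ⟨11791, 0, 4⟩) (.one ⟨14590, 4, 3⟩)))) (.node 4 (.node 2 (.node 1 (.one ⟨15270, 4, 3⟩) (.one ⟨2017, 5, 4⟩)) (.node 1 (.one ⟨10982, 4, 3⟩) (.one ⟨4205, 0, 3⟩))) (.node 2 (.node 1 (.one ⟨4136, 5, 4⟩) (.one ⟨4347, 5, 4⟩)) (.node 1 (.one ⟨15297, 6, 5⟩) (.one ⟨8075, 6, 4⟩)))))))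
def par3_11_5 : Arr Par :=
  (.node 32 (.node 16 (.node 8 (.node 4 (.node 2 (.node 1 (.one ⟨3, 0, 2⟩) (.one ⟨3597, 3, 5⟩)) (.node 1 (.one ⟨14679, 5, 5⟩) (.one ⟨564, 5, 3⟩))) (.node 2 (.node 1 (.one ⟨997, 5, 4⟩) (.one ⟨16610, 3, 3⟩)) (.node 1 (.one ⟨314, 5, 4⟩) (.one ⟨11535, 5, 5⟩)))) (.node 4 (.node 2 (.node 1 (.one ⟨7063, 5, 5⟩) (.one ⟨6305, 5, 4⟩)) (.node 1 (.one ⟨11021, 4, 3⟩) (.one ⟨2839, 6, 5⟩))) (.node 2 (.node 1 (.one ⟨12847, 5, 2⟩) (.one ⟨12375, 5, 5⟩)) (.node 1 (.one ⟨7517, 6, 3⟩) (.one ⟨10964, 5, 4⟩))))) (.node 8 (.node 4 (.node 2 (.node 1 (.one ⟨8650, 5, 4⟩) (.one ⟨9796, 5, 4⟩)) (.node 1 (.one ⟨3200, 6, 4⟩) (.one ⟨15224, 6, 4⟩))) (.node 2 (.node 1 (.one ⟨8582, 5, 5⟩) (.one ⟨7587, 0, 3⟩)) (.node 1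 (.one ⟨17083, 6, 4⟩) (.one ⟨6858, 4, 4⟩)))) (.node 4 (.node 2 (.node 1 (.one ⟨15805, 5, 4⟩) (.one ⟨11435, 5, 4⟩)) (.node 1 (.one ⟨7142, 6, 4⟩) (.one ⟨10720, 6, 4⟩))) (.node 2 (.node 1 (.one ⟨9788, 6, 4⟩) (.one ⟨2308, 5, 4⟩)) (.node 1 (.one ⟨4221, 4, 4⟩) (.one ⟨17165, 6, 4⟩)))))) (.node 16 (.node 8 (.node 4 (.node 2 (.node 1 (.one ⟨2819, 3, 2⟩) (.one ⟨14169, 5, 5⟩)) (.node 1 (.one ⟨12725, 5, 4⟩) (.one ⟨9092, 6, 3⟩))) (.node 2 (.node 1 (.one ⟨16679, 3, 2⟩) (.one ⟨8838, 0, 3⟩)) (.node 1 (.one ⟨8440, 3, 2⟩) (.one ⟨5870, 6, 4⟩)))) (.node 4 (.node 2 (.node 1 (.one ⟨2352, 5, 3⟩) (.one ⟨8140, 5, 5⟩)) (.node 1 (.one ⟨6898, 5, 4⟩) (.one ⟨7246, 5, 5⟩))) (.node 2 (.node 1 (.one ⟨7358, 6, 3⟩) (.one ⟨2175, 5, 5⟩)) (.node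 1 (.one ⟨832, 6, 4⟩) (.one ⟨11467, 6, 3⟩))))) (.node 8 (.node 4 (.node 2 (.node 1 (.one ⟨3574, 6, 5⟩) (.one ⟨13958, 5, 3⟩)) (.node 1 (.one ⟨5939, 6, 2⟩) (.one ⟨13355, 3, 3⟩))) (.node 2 (.node 1 (.one ⟨12448, 3, 3⟩) (.one ⟨13327, 2, 3⟩)) (.node 1 (.one ⟨13411, 6, 1⟩) (.one ⟨2174, 5, 4⟩)))) (.node 4 (.node 2 (.node 1 (.one ⟨13833, 5, 3⟩) (.one ⟨3179, 6, 4⟩)) (.node 1 (.one ⟨16177, 5, 2⟩) (.one ⟨12759, 6, 4⟩))) (.node 2 (.node 1 (.one ⟨8442, 6, 4⟩) (.one ⟨11524, 0, 3⟩)) (.node 1 (.one ⟨7506, 5, 3⟩) (.one ⟨5449, 6, 3⟩)))))))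
def par3_11_6 : Arr Par :=
  (.node 32 (.node 16 (.node 8 (.node 4 (.node 2 (.node 1 (.one ⟨8079, 5, 4⟩) (.one ⟨10190, 3, 2⟩)) (.node 1 (.one ⟨16278, 6, 5⟩) (.one ⟨8321, 6, 4⟩))) (.node 2 (.node 1 (.one ⟨7147, 5, 2⟩) (.one ⟨6892, 6, 4⟩)) (.node 1 (.one ⟨13149, 6, 5⟩) (.one ⟨14332, 5, 4⟩)))) (.node 4 (.node 2 (.node 1 (.one ⟨3491, 0, 4⟩) (.one ⟨6499, 5, 4⟩)) (.node 1 (.one ⟨3295, 5, 4⟩) (.one ⟨10640, 6, 4⟩))) (.node 2 (.node 1 (.one ⟨8961, 6, 3⟩) (.one ⟨5337, 0, 3⟩)) (.node 1 (.one ⟨934, 5, 5⟩) (.one ⟨9058, 5, 4⟩))))) (.node 8 (.node 4 (.node 2 (.node 1 (.one ⟨8857, 6, 2⟩) (.one ⟨10821, 3, 3⟩)) (.node 1 (.one ⟨17083, 5, 4⟩) (.one ⟨9024, 5, 4⟩))) (.node 2 (.node 1 (.one ⟨17072, 5, 3⟩) (.one ⟨12571, 6, 4⟩)) (.node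 1 (.one ⟨15968, 6, 4⟩) (.one ⟨4341, 6, 4⟩)))) (.node 4 (.node 2 (.node 1 (.one ⟨12812, 5, 4⟩) (.one ⟨8710, 6, 5⟩)) (.node 1 (.one ⟨1593, 6, 5⟩) (.one ⟨7804, 3, 5⟩))) (.node 2 (.node 1 (.one ⟨7398, 6, 4⟩) (.one ⟨4916, 3, 4⟩)) (.node 1 (.one ⟨806, 6, 5⟩) (.one ⟨10803, 6, 5⟩)))))) (.node 16 (.node 8 (.node 4 (.node 2 (.node 1 (.one ⟨12391, 0, 3⟩) (.one ⟨7971, 3, 2⟩)) (.node 1 (.one ⟨10891, 4, 4⟩) (.one ⟨5367, 0, 4⟩))) (.node 2 (.node 1 (.one ⟨2040, 0, 4⟩) (.one ⟨1008, 6, 4⟩)) (.node 1 (.one ⟨17007, 5, 2⟩) (.one ⟨14386, 6, 3⟩)))) (.node 4 (.node 2 (.node 1 (.one ⟨11381, 6, 4⟩) (.one ⟨15856, 3, 5⟩)) (.node 1 (.one ⟨5853, 6, 2⟩) (.one ⟨1154, 6, 4⟩))) (.node 2 (.node 1 (.one ⟨3082, 5, 4⟩) (.one ⟨15394, 6, 4⟩)) (.node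 1 (.one ⟨7288, 3, 5⟩) (.one ⟨9049, 5, 4⟩))))) (.node 8 (.node 4 (.node 2 (.node 1 (.one ⟨2179, 5, 4⟩) (.one ⟨12217, 5, 4⟩)) (.node 1 (.one ⟨1605, 6, 3⟩) (.one ⟨1195, 5, 4⟩))) (.node 2 (.node 1 (.one ⟨8455, 6, 5⟩) (.one ⟨14701, 5, 4⟩)) (.node 1 (.one ⟨4117, 1, 3⟩) (.one ⟨12423, 0, 4⟩)))) (.node 4 (.node 2 (.node 1 (.one ⟨16678, 3, 3⟩) (.one ⟨7758, 6, 5⟩)) (.node 1 (.one ⟨15092, 5, 4⟩) (.one ⟨5941, 5, 2⟩))) (.node 2 (.node 1 (.one ⟨9410, 5, 5⟩) (.one ⟨14757, 5, 4⟩)) (.node 1 (.one ⟨12864, 6, 3⟩) (.one ⟨5852, 6, 2⟩)))))))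
def par3_11_7 : Arr Par :=
  (.node 32 (.node 16 (.node 8 (.node 4 (.node 2 (.node 1 (.one ⟨3883, 6, 2⟩) (.one ⟨4277, 6, 3⟩)) (.node 1 (.one ⟨6275, 6, 4⟩) (.one ⟨4878, 2, 3⟩))) (.node 2 (.node 1 (.one ⟨7292, 3, 4⟩) (.one ⟨11842, 6, 4⟩)) (.node 1 (.one ⟨2356, 4, 3⟩) (.one ⟨16815, 6, 4⟩)))) (.node 4 (.node 2 (.node 1 (.one ⟨12473, 5, 4⟩) (.one ⟨115, 5, 4⟩)) (.node 1 (.one ⟨3903, 6, 5⟩) (.one ⟨1526, 6, 4⟩))) (.node 2 (.node 1 (.one ⟨6853, 6, 5⟩) (.one ⟨12501, 5, 5⟩)) (.node 1 (.one ⟨9056, 5, 2⟩) (.one ⟨8638, 5, 4⟩))))) (.node 8 (.node 4 (.node 2 (.node 1 (.one ⟨16503, 5, 4⟩) (.one ⟨10166, 5, 4⟩)) (.node 1 (.one ⟨1043, 6, 5⟩) (.one ⟨4920, 5, 3⟩))) (.node 2 (.node 1 (.one ⟨12920, 5, 5⟩) (.one ⟨14009, 5, 4⟩)) (.node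 1 (.one ⟨5697, 5, 4⟩) (.one ⟨11237, 0, 3⟩)))) (.node 4 (.node 2 (.node 1 (.one ⟨13566, 5, 2⟩) (.one ⟨2269, 6, 3⟩)) (.node 1 (.one ⟨13324, 6, 4⟩) (.one ⟨3667, 3, 4⟩))) (.node 2 (.node 1 (.one ⟨4131, 5, 4⟩) (.one ⟨16149, 6, 4⟩)) (.node 1 (.one ⟨6899, 6, 5⟩) (.one ⟨10172, 1, 3⟩)))))) (.node 16 (.node 8 (.node 4 (.node 2 (.node 1 (.one ⟨3253, 4, 3⟩) (.one ⟨17152, 4, 3⟩)) (.node 1 (.one ⟨4217, 6, 2⟩) (.one ⟨9156, 3, 2⟩))) (.node 2 (.node 1 (.one ⟨13758, 5, 3⟩) (.one ⟨12272, 4, 4⟩)) (.node 1 (.one ⟨5410, 0, 3⟩) (.one ⟨9770, 6, 3⟩)))) (.node 4 (.node 2 (.node 1 (.one ⟨14675, 4, 3⟩) (.one ⟨15380, 5, 3⟩)) (.node 1 (.one ⟨5778, 6, 4⟩) (.one ⟨3166, 4, 3⟩))) (.node 2 (.node 1 (.one ⟨6217, 5, 3⟩) (.one ⟨2485, 4, 3⟩)) (.node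 1 (.one ⟨14275, 4, 2⟩) (.one ⟨5321, 4, 2⟩))))) (.node 8 (.node 4 (.node 2 (.node 1 (.one ⟨3424, 5, 2⟩) (.one ⟨7941, 6, 5⟩)) (.node 1 (.one ⟨10679, 0, 3⟩) (.one ⟨173, 6, 4⟩))) (.node 2 (.node 1 (.one ⟨7405, 0, 3⟩) (.one ⟨16904, 0, 3⟩)) (.node 1 (.one ⟨3805, 5, 4⟩) (.one ⟨13567, 5, 4⟩)))) (.node 4 (.node 2 (.node 1 (.one ⟨9729, 5, 4⟩) (.one ⟨15070, 4, 3⟩)) (.node 1 (.one ⟨4204, 3, 3⟩) (.one ⟨4080, 1, 3⟩))) (.node 2 (.node 1 (.one ⟨4663, 6, 2⟩) (.one ⟨16199, 6, 3⟩)) (.node 1 (.one ⟨7610, 3, 3⟩) (.one ⟨4302, 6, 4⟩)))))))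
def par3_11_8 : Arr Par :=
  (.node 32 (.node 16 (.node 8 (.node 4 (.node 2 (.node 1 (.one ⟨3661, 6, 2⟩) (.one ⟨2908, 5, 5⟩)) (.node 1 (.one ⟨8473, 6, 5⟩) (.one ⟨568, 0, 4⟩))) (.node 2 (.node 1 (.one ⟨2242, 6, 4⟩) (.one ⟨3820, 5, 4⟩)) (.node 1 (.one ⟨10103, 1, 3⟩) (.one ⟨15956, 6, 4⟩)))) (.node 4 (.node 2 (.node 1 (.one ⟨3930, 6, 3⟩) (.one ⟨4231, 0, 3⟩)) (.node 1 (.one ⟨12383, 6, 4⟩) (.one ⟨15415, 0, 3⟩))) (.node 2 (.node 1 (.one ⟨6214, 6, 2⟩) (.one ⟨1893, 5, 3⟩)) (.node 1 (.one ⟨6631, 3, 3⟩) (.one ⟨639, 5, 3⟩))))) (.node 8 (.node 4 (.node 2 (.node 1 (.one ⟨1039, 5, 3⟩) (.one ⟨15606, 5, 5⟩)) (.node 1 (.one ⟨15599, 5, 3⟩) (.one ⟨6321, 6, 3⟩))) (.node 2 (.node 1 (.one ⟨14995, 0, 3⟩) (.one ⟨12339, 6, 5⟩)) (.node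 1 (.one ⟨3169, 4, 2⟩) (.one ⟨11924, 6, 3⟩)))) (.node 4 (.node 2 (.node 1 (.one ⟨7490, 6, 5⟩) (.one ⟨10827, 4, 4⟩)) (.node 1 (.one ⟨11563, 6, 5⟩) (.one ⟨734, 3, 4⟩))) (.node 2 (.node 1 (.one ⟨5273, 4, 3⟩) (.one ⟨5049, 6, 5⟩)) (.node 1 (.one ⟨14706, 4, 4⟩) (.one ⟨5482, 6, 5⟩)))))) (.node 16 (.node 8 (.node 4 (.node 2 (.node 1 (.one ⟨10929, 4, 3⟩) (.one ⟨11712, 1, 3⟩)) (.node 1 (.one ⟨3126, 6, 5⟩) (.one ⟨14001, 4, 2⟩))) (.node 2 (.node 1 (.one ⟨9759, 5, 3⟩) (.one ⟨4064, 1, 3⟩)) (.node 1 (.one ⟨2962, 6, 5⟩) (.one ⟨6224, 6, 5⟩)))) (.node 4 (.node 2 (.node 1 (.one ⟨6229, 6, 5⟩) (.one ⟨7084, 5, 4⟩)) (.node 1 (.one ⟨13812, 5, 4⟩) (.one ⟨2712, 5, 3⟩))) (.node 2 (.node 1 (.one ⟨3513, 0, 4⟩) (.one ⟨11185, 4, 3⟩)) (.node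 1 (.one ⟨368, 6, 3⟩) (.one ⟨8839, 4, 2⟩))))) (.node 8 (.node 4 (.node 2 (.node 1 (.one ⟨4324, 6, 4⟩) (.one ⟨2860, 3, 4⟩)) (.node 1 (.one ⟨9839, 5, 5⟩) (.one ⟨11927, 6, 4⟩))) (.node 2 (.node 1 (.one ⟨4363, 6, 3⟩) (.one ⟨1407, 5, 2⟩)) (.node 1 (.one ⟨6292, 6, 5⟩) (.one ⟨7296, 5, 4⟩)))) (.node 4 (.node 2 (.node 1 (.one ⟨9081, 5, 4⟩) (.one ⟨10354, 5, 4⟩)) (.node 1 (.one ⟨12400, 5, 4⟩) (.one ⟨14767, 5, 4⟩))) (.node 2 (.node 1 (.one ⟨16727, 5, 3⟩) (.one ⟨1753, 5, 5⟩)) (.node 1 (.one ⟨3775, 5, 4⟩) (.one ⟨3665, 5, 4⟩)))))))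
def par3_11_9 : Arr Par :=
  (.node 32 (.node 16 (.node 8 (.node 4 (.node 2 (.node 1 (.one ⟨9962, 4, 3⟩) (.one ⟨16204, 6, 4⟩)) (.node 1 (.one ⟨15070, 3, 3⟩) (.one ⟨3697, 5, 4⟩))) (.node 2 (.node 1 (.one ⟨2903, 5, 4⟩) (.one ⟨15894, 0, 3⟩)) (.node 1 (.one ⟨1667, 5, 4⟩) (.one ⟨12929, 3, 3⟩)))) (.node 4 (.node 2 (.node 1 (.one ⟨2708, 4, 2⟩) (.one ⟨1905, 5, 2⟩)) (.node 1 (.one ⟨5364, 6, 3⟩) (.one ⟨15917, 0, 3⟩))) (.node 2 (.node 1 (.one ⟨16913, 6, 3⟩) (.one ⟨5670, 1, 4⟩)) (.node 1 (.one ⟨14546, 1, 4⟩) (.one ⟨9160, 4, 2⟩))))) (.node 8 (.node 4 (.node 2 (.node 1 (.one ⟨3989, 5, 4⟩) (.one ⟨3563, 6, 2⟩)) (.node 1 (.one ⟨16343, 5, 4⟩) (.one ⟨14098, 6, 3⟩))) (.node 2 (.node 1 (.one ⟨16601, 6, 4⟩) (.one ⟨13864, 5, 4⟩))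 (.node 1 (.one ⟨16868, 0, 3⟩) (.one ⟨2352, 6, 3⟩)))) (.node 4 (.node 2 (.node 1 (.one ⟨9555, 6, 1⟩) (.one ⟨15603, 6, 3⟩)) (.node 1 (.one ⟨7085, 6, 3⟩) (.one ⟨15373, 5, 4⟩))) (.node 2 (.node 1 (.one ⟨7316, 0, 3⟩) (.one ⟨4799, 3, 3⟩)) (.node 1 (.one ⟨16100, 5, 3⟩) (.one ⟨1070, 5, 4⟩)))))) (.node 16 (.node 8 (.node 4 (.node 2 (.node 1 (.one ⟨263, 5, 4⟩) (.one ⟨735, 5, 4⟩)) (.node 1 (.one ⟨489, 5, 4⟩) (.one ⟨1145, 3, 5⟩))) (.node 2 (.node 1 (.one ⟨57, 0, 4⟩) (.one ⟨2525, 3, 5⟩)) (.node 1 (.one ⟨8943, 5, 5⟩) (.one ⟨5941, 6, 2⟩)))) (.node 4 (.node 2 (.node 1 (.one ⟨15885, 0, 3⟩) (.one ⟨16694, 5, 5⟩)) (.node 1 (.one ⟨7851, 5, 3⟩) (.one ⟨11170, 5, 4⟩))) (.node 2 (.node 1 (.one ⟨7760, 0, 3⟩) (.one ⟨4878, 3, 3⟩)) (.node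 1 (.one ⟨3774, 5, 4⟩) (.one ⟨14196, 5, 4⟩))))) (.node 8 (.node 4 (.node 2 (.node 1 (.one ⟨11164, 5, 4⟩) (.one ⟨11006, 4, 3⟩)) (.node 1 (.one ⟨10824, 5, 5⟩) (.one ⟨4393, 5, 4⟩))) (.node 2 (.node 1 (.one ⟨9015, 5, 4⟩) (.one ⟨8579, 4, 3⟩)) (.node 1 (.one ⟨7693, 4, 3⟩) (.one ⟨15832, 0, 3⟩)))) (.node 4 (.node 2 (.node 1 (.one ⟨4434, 4, 2⟩) (.one ⟨15405, 0, 3⟩)) (.node 1 (.one ⟨9156, 2, 2⟩) (.one ⟨3631, 5, 2⟩))) (.node 2 (.node 1 (.one ⟨3664, 5, 2⟩) (.one ⟨15141, 6, 4⟩)) (.node 1 (.one ⟨9558, 6, 3⟩) (.one ⟨6963, 6, 4⟩)))))))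
def par3_11_10 : Arr Par :=
  (.node 32 (.node 16 (.node 8 (.node 4 (.node 2 (.node 1 (.one ⟨7857, 5, 3⟩) (.one ⟨15049, 6, 3⟩)) (.node 1 (.one ⟨1416, 3, 2⟩) (.one ⟨6998, 6, 3⟩))) (.node 2 (.node 1 (.one ⟨7848, 3, 2⟩) (.one ⟨12118, 5, 4⟩)) (.node 1 (.one ⟨6862, 5, 4⟩) (.one ⟨15089, 6, 4⟩)))) (.node 4 (.node 2 (.node 1 (.one ⟨1780, 6, 1⟩) (.one ⟨2414, 1, 3⟩)) (.node 1 (.one ⟨10415, 3, 5⟩) (.one ⟨6401, 5, 3⟩))) (.node 2 (.node 1 (.one ⟨4411, 5, 4⟩) (.one ⟨3471, 5, 4⟩)) (.node 1 (.one ⟨8941, 5, 5⟩) (.one ⟨8484, 6, 5⟩))))) (.node 8 (.node 4 (.node 2 (.node 1 (.one ⟨7292, 5, 4⟩) (.one ⟨15387, 5, 4⟩)) (.node 1 (.one ⟨12301, 5, 5⟩) (.one ⟨11886, 6, 5⟩))) (.node 2 (.node 1 (.one ⟨12680, 6, 2⟩) (.one ⟨9529, 4, 3⟩)) (.node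 1 (.one ⟨12215, 5, 5⟩) (.one ⟨7299, 0, 3⟩)))) (.node 4 (.node 2 (.node 1 (.one ⟨16775, 3, 3⟩) (.one ⟨4971, 6, 4⟩)) (.node 1 (.one ⟨13178, 5, 4⟩) (.one ⟨3567, 5, 3⟩))) (.node 2 (.node 1 (.one ⟨2793, 6, 4⟩) (.one ⟨7774, 5, 4⟩)) (.node 1 (.one ⟨5615, 5, 4⟩) (.one ⟨15701, 6, 3⟩)))))) (.node 16 (.node 8 (.node 4 (.node 2 (.node 1 (.one ⟨9183, 5, 5⟩) (.one ⟨7544, 5, 4⟩)) (.node 1 (.one ⟨15886, 6, 3⟩) (.one ⟨13574, 5, 4⟩))) (.node 2 (.node 1 (.one ⟨13327, 4, 3⟩) (.one ⟨7318, 6, 3⟩)) (.node 1 (.one ⟨9362, 4, 4⟩) (.one ⟨7748, 4, 4⟩)))) (.node 4 (.node 2 (.node 1 (.one ⟨951, 5, 4⟩) (.one ⟨3841, 6, 4⟩)) (.node 1 (.one ⟨10821, 6, 3⟩) (.one ⟨7745, 4, 4⟩))) (.node 2 (.node 1 (.one ⟨496, 5, 5⟩) (.one ⟨10982, 2, 3⟩)) (.node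 1 (.one ⟨9962, 6, 3⟩) (.one ⟨16307, 5, 4⟩))))) (.node 8 (.node 4 (.node 2 (.node 1 (.one ⟨14413, 5, 4⟩) (.one ⟨11192, 3, 4⟩)) (.node 1 (.one ⟨11398, 0, 4⟩) (.one ⟨8250, 3, 4⟩))) (.node 2 (.node 1 (.one ⟨559, 5, 4⟩) (.one ⟨4073, 5, 4⟩)) (.node 1 (.one ⟨2490, 5, 4⟩) (.one ⟨1081, 4, 2⟩)))) (.node 4 (.node 2 (.node 1 (.one ⟨7473, 6, 2⟩) (.one ⟨8546, 5, 5⟩)) (.node 1 (.one ⟨1103, 6, 3⟩) (.one ⟨12736, 3, 2⟩))) (.node 2 (.node 1 (.one ⟨3219, 3, 2⟩) (.one ⟨14551, 5, 4⟩)) (.node 1 (.one ⟨13508, 2, 2⟩) (.one ⟨1729, 6, 2⟩)))))))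
def par3_11_11 : Arr Par :=
  (.node 32 (.node 16 (.node 8 (.node 4 (.node 2 (.node 1 (.one ⟨9235, 6, 3⟩) (.one ⟨9776, 5, 4⟩)) (.node 1 (.one ⟨4897, 5, 4⟩) (.one ⟨4801, 5, 5⟩))) (.node 2 (.node 1 (.one ⟨6782, 4, 4⟩) (.one ⟨1353, 5, 5⟩)) (.node 1 (.one ⟨1075, 4, 3⟩) (.one ⟨9596, 4, 2⟩)))) (.node 4 (.node 2 (.node 1 (.one ⟨736, 1, 0⟩) (.one ⟨15751, 3, 4⟩)) (.node 1 (.one ⟨4876, 5, 3⟩) (.one ⟨13115, 4, 4⟩))) (.node 2 (.node 1 (.one ⟨4271, 1, 0⟩) (.one ⟨639, 0, 3⟩)) (.node 1 (.one ⟨13973, 5, 4⟩) (.one ⟨8067, 6, 4⟩))))) (.node 8 (.node 4 (.node 2 (.node 1 (.one ⟨7705, 1, 4⟩) (.one ⟨12266, 6, 5⟩)) (.node 1 (.one ⟨13250, 6, 3⟩) (.one ⟨10316, 6, 2⟩))) (.node 2 (.node 1 (.one ⟨3542, 5, 1⟩) (.one ⟨7590, 0, 3⟩)) (.node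 1 (.one ⟨6842, 6, 3⟩) (.one ⟨9829, 6, 4⟩)))) (.node 4 (.node 2 (.node 1 (.one ⟨6901, 4, 3⟩) (.one ⟨10128, 5, 4⟩)) (.node 1 (.one ⟨4478, 5, 4⟩) (.one ⟨15281, 4, 3⟩))) (.node 2 (.node 1 (.one ⟨8127, 5, 4⟩) (.one ⟨8252, 5, 4⟩)) (.node 1 (.one ⟨9594, 4, 3⟩) (.one ⟨8972, 5, 3⟩)))))) (.node 16 (.node 8 (.node 4 (.node 2 (.node 1 (.one ⟨15743, 5, 3⟩) (.one ⟨4860, 5, 4⟩)) (.node 1 (.one ⟨12018, 5, 4⟩) (.one ⟨6233, 6, 4⟩))) (.node 2 (.node 1 (.one ⟨8683, 6, 4⟩) (.one ⟨15767, 1, 4⟩)) (.node 1 (.one ⟨13517, 6, 4⟩) (.one ⟨15800, 5, 3⟩)))) (.node 4 (.node 2 (.node 1 (.one ⟨15744, 1, 4⟩) (.one ⟨13825, 4, 4⟩)) (.node 1 (.one ⟨1071, 4, 5⟩) (.one ⟨3966, 6, 4⟩))) (.node 2 (.node 1 (.one ⟨14762, 5, 5⟩) (.one ⟨1637, 5, 5⟩)) (.node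 1 (.one ⟨3892, 4, 2⟩) (.one ⟨7878, 4, 2⟩))))) (.node 8 (.node 4 (.node 2 (.node 1 (.one ⟨96, 5, 3⟩) (.one ⟨916, 5, 3⟩)) (.node 1 (.one ⟨17, 5, 3⟩) (.one ⟨5015, 4, 4⟩))) (.node 2 (.node 1 (.one ⟨9181, 4, 4⟩) (.one ⟨7923, 6, 3⟩)) (.node 1 (.one ⟨4309, 6, 4⟩) (.one ⟨15717, 3, 3⟩)))) (.node 4 (.node 2 (.node 1 (.one ⟨14701, 6, 4⟩) (.one ⟨12994, 5, 4⟩)) (.node 1 (.one ⟨15448, 6, 3⟩) (.one ⟨11209, 6, 5⟩))) (.node 2 (.node 1 (.one ⟨111, 6, 2⟩) (.one ⟨13003, 5, 4⟩)) (.node 1 (.one ⟨13031, 5, 5⟩) (.one ⟨4488, 6, 3⟩)))))))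
def par3_11_12 : Arr Par :=
  (.node 32 (.node 16 (.node 8 (.node 4 (.node 2 (.node 1 (.one ⟨8316, 0, 3⟩) (.one ⟨7565, 2, 3⟩)) (.node 1 (.one ⟨6119, 5, 4⟩) (.one ⟨4070, 6, 4⟩))) (.node 2 (.node 1 (.one ⟨3772, 5, 4⟩) (.one ⟨13419, 6, 2⟩)) (.node 1 (.one ⟨4606, 6, 4⟩) (.one ⟨12070, 4, 3⟩)))) (.node 4 (.node 2 (.node 1 (.one ⟨1724, 5, 4⟩) (.one ⟨1472, 4, 5⟩)) (.node 1 (.one ⟨13881, 5, 4⟩) (.one ⟨8897, 5, 4⟩))) (.node 2 (.node 1 (.one ⟨1207, 5, 5⟩) (.one ⟨15925, 6, 5⟩)) (.node 1 (.one ⟨11665, 6, 4⟩) (.one ⟨10798, 4, 3⟩))))) (.node 8 (.node 4 (.node 2 (.node 1 (.one ⟨1530, 3, 5⟩) (.one ⟨4053, 4, 1⟩)) (.node 1 (.one ⟨15022, 5, 4⟩) (.one ⟨4949, 6, 5⟩))) (.node 2 (.node 1 (.one ⟨3072, 5, 3⟩) (.one ⟨16378, 0, 3⟩)) (.node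 1 (.one ⟨17106, 6, 4⟩) (.one ⟨5289, 6, 4⟩)))) (.node 4 (.node 2 (.node 1 (.one ⟨3729, 4, 1⟩) (.one ⟨4575, 2, 3⟩)) (.node 1 (.one ⟨10462, 6, 2⟩) (.one ⟨2417, 6, 4⟩))) (.node 2 (.node 1 (.one ⟨2096, 5, 3⟩) (.one ⟨8351, 0, 3⟩)) (.node 1 (.one ⟨13251, 6, 2⟩) (.one ⟨12177, 4, 3⟩)))))) (.node 16 (.node 8 (.node 4 (.node 2 (.node 1 (.one ⟨6666, 6, 4⟩) (.one ⟨4148, 3, 3⟩)) (.node 1 (.one ⟨9933, 5, 5⟩) (.one ⟨15800, 6, 3⟩))) (.node 2 (.node 1 (.one ⟨3226, 3, 3⟩) (.one ⟨12049, 6, 2⟩)) (.node 1 (.one ⟨5951, 6, 2⟩) (.one ⟨3917, 6, 4⟩)))) (.node 4 (.node 2 (.node 1 (.one ⟨5909, 1, 5⟩) (.one ⟨11545, 5, 3⟩)) (.node 1 (.one ⟨1678, 5, 3⟩) (.one ⟨9176, 4, 3⟩))) (.node 2 (.node 1 (.one ⟨1624, 0, 3⟩) (.one ⟨12259, 5, 3⟩)) (.node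 1 (.one ⟨574, 6, 5⟩) (.one ⟨2110, 1, 3⟩))))) (.node 8 (.node 4 (.node 2 (.node 1 (.one ⟨11224, 5, 4⟩) (.one ⟨10769, 6, 4⟩)) (.node 1 (.one ⟨7573, 5, 4⟩) (.one ⟨16266, 0, 3⟩))) (.node 2 (.node 1 (.one ⟨3720, 5, 4⟩) (.one ⟨3214, 4, 4⟩)) (.node 1 (.one ⟨15686, 5, 4⟩) (.one ⟨16824, 6, 4⟩)))) (.node 4 (.node 2 (.node 1 (.one ⟨7848, 0, 2⟩) (.one ⟨7611, 5, 5⟩)) (.node 1 (.one ⟨2511, 5, 3⟩) (.one ⟨6380, 0, 2⟩))) (.node 2 (.node 1 (.one ⟨1525, 5, 4⟩) (.one ⟨3938, 5, 4⟩)) (.node 1 (.one ⟨15614, 6, 4⟩) (.one ⟨15459, 5, 4⟩)))))))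
def par3_11_13 : Arr Par :=
  (.node 32 (.node 16 (.node 8 (.node 4 (.node 2 (.node 1 (.one ⟨7195, 5, 3⟩) (.one ⟨12332, 5, 4⟩)) (.node 1 (.one ⟨11751, 1, 4⟩) (.one ⟨16580, 5, 4⟩))) (.node 2 (.node 1 (.one ⟨8636, 5, 3⟩) (.one ⟨9780, 5, 3⟩)) (.node 1 (.one ⟨15009, 6, 4⟩) (.one ⟨16606, 6, 4⟩)))) (.node 4 (.node 2 (.node 1 (.one ⟨5487, 6, 3⟩) (.one ⟨14071, 6, 4⟩)) (.node 1 (.one ⟨3612, 4, 4⟩) (.one ⟨510, 5, 4⟩))) (.node 2 (.node 1 (.one ⟨8903, 6, 3⟩) (.one ⟨11987, 0, 3⟩)) (.node 1 (.one ⟨6707, 5, 4⟩) (.one ⟨10390, 5, 4⟩))))) (.node 8 (.node 4 (.node 2 (.node 1 (.one ⟨11429, 4, 3⟩) (.one ⟨7425, 5, 4⟩)) (.node 1 (.one ⟨6900, 5, 5⟩) (.one ⟨9981, 5, 3⟩))) (.node 2 (.node 1 (.one ⟨16807, 6, 3⟩) (.one ⟨15002, 3, 2⟩))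 (.node 1 (.one ⟨10215, 0, 3⟩) (.one ⟨2629, 5, 3⟩)))) (.node 4 (.node 2 (.node 1 (.one ⟨14436, 6, 5⟩) (.one ⟨15674, 6, 4⟩)) (.node 1 (.one ⟨3895, 6, 5⟩) (.one ⟨8909, 6, 5⟩))) (.node 2 (.node 1 (.one ⟨13907, 5, 5⟩) (.one ⟨6425, 3, 5⟩)) (.node 1 (.one ⟨1130, 5, 5⟩) (.one ⟨3034, 3, 3⟩)))))) (.node 16 (.node 8 (.node 4 (.node 2 (.node 1 (.one ⟨109, 1, 0⟩) (.one ⟨9270, 5, 4⟩)) (.node 1 (.one ⟨840, 1, 0⟩) (.one ⟨11463, 6, 4⟩))) (.node 2 (.node 1 (.one ⟨14744, 3, 4⟩) (.one ⟨687, 1, 0⟩)) (.node 1 (.one ⟨6415, 5, 4⟩) (.one ⟨9827, 4, 4⟩)))) (.node 4 (.node 2 (.node 1 (.one ⟨11524, 5, 3⟩) (.one ⟨6925, 5, 5⟩)) (.node 1 (.one ⟨13591, 6, 2⟩) (.one ⟨14409, 3, 3⟩))) (.node 2 (.node 1 (.one ⟨10961, 3, 4⟩) (.one ⟨14411, 0, 2⟩))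 (.node 1 (.one ⟨5002, 1, 3⟩) (.one ⟨15762, 5, 3⟩))))) (.node 8 (.node 4 (.node 2 (.node 1 (.one ⟨10734, 6, 4⟩) (.one ⟨2663, 0, 4⟩)) (.node 1 (.one ⟨11713, 1, 4⟩) (.one ⟨16328, 6, 4⟩))) (.node 2 (.node 1 (.one ⟨16586, 6, 5⟩) (.one ⟨2330, 0, 4⟩)) (.node 1 (.one ⟨2665, 3, 4⟩) (.one ⟨987, 5, 4⟩)))) (.node 4 (.node 2 (.node 1 (.one ⟨4841, 5, 3⟩) (.one ⟨6355, 0, 2⟩)) (.node 1 (.one ⟨11711, 5, 3⟩) (.one ⟨6563, 0, 3⟩))) (.node 2 (.node 1 (.one ⟨11517, 5, 2⟩) (.one ⟨10116, 6, 3⟩)) (.node 1 (.one ⟨2324, 5, 5⟩) (.one ⟨17035, 6, 3⟩)))))))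
def par3_11_14 : Arr Par :=
  (.node 32 (.node 16 (.node 8 (.node 4 (.node 2 (.node 1 (.one ⟨5030, 4, 2⟩) (.one ⟨14736, 6, 3⟩)) (.node 1 (.one ⟨2747, 5, 4⟩) (.one ⟨8294, 0, 4⟩))) (.node 2 (.node 1 (.one ⟨11531, 4, 3⟩) (.one ⟨3661, 1, 2⟩)) (.node 1 (.one ⟨13820, 5, 3⟩) (.one ⟨5505, 6, 4⟩)))) (.node 4 (.node 2 (.node 1 (.one ⟨4543, 6, 5⟩) (.one ⟨1744, 4, 3⟩)) (.node 1 (.one ⟨14669, 4, 3⟩) (.one ⟨6753, 6, 4⟩))) (.node 2 (.node 1 (.one ⟨7537, 6, 5⟩) (.one ⟨14902, 3, 2⟩)) (.node 1 (.one ⟨14974, 4, 3⟩) (.one ⟨13477, 6, 4⟩))))) (.node 8 (.node 4 (.node 2 (.node 1 (.one ⟨2513, 6, 5⟩) (.one ⟨16255, 3, 2⟩)) (.node 1 (.one ⟨17034, 6, 3⟩) (.one ⟨10126, 5, 4⟩))) (.node 2 (.node 1 (.one ⟨8924, 5, 4⟩) (.one ⟨1373, 5, 5⟩))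 (.node 1 (.one ⟨3820, 6, 4⟩) (.one ⟨16825, 6, 4⟩)))) (.node 4 (.node 2 (.node 1 (.one ⟨13800, 3, 5⟩) (.one ⟨13848, 6, 5⟩)) (.node 1 (.one ⟨9867, 5, 4⟩) (.one ⟨14590, 0, 3⟩))) (.node 2 (.node 1 (.one ⟨12845, 5, 3⟩) (.one ⟨16048, 5, 4⟩)) (.node 1 (.one ⟨7047, 5, 4⟩) (.one ⟨4795, 6, 4⟩)))))) (.node 16 (.node 8 (.node 4 (.node 2 (.node 1 (.one ⟨436, 3, 5⟩) (.one ⟨6677, 5, 3⟩)) (.node 1 (.one ⟨16733, 4, 3⟩) (.one ⟨5241, 5, 4⟩))) (.node 2 (.node 1 (.one ⟨16044, 4, 2⟩) (.one ⟨2673, 6, 4⟩)) (.node 1 (.one ⟨5266, 4, 3⟩) (.one ⟨8910, 6, 3⟩)))) (.node 4 (.node 2 (.node 1 (.one ⟨9489, 5, 5⟩) (.one ⟨6795, 1, 2⟩)) (.node 1 (.one ⟨5872, 3, 5⟩) (.one ⟨2852, 4, 4⟩))) (.node 2 (.node 1 (.one ⟨13694, 6, 3⟩) (.one ⟨11367, 4, 4⟩))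 (.node 1 (.one ⟨13244, 6, 3⟩) (.one ⟨12031, 5, 4⟩))))) (.node 8 (.node 4 (.node 2 (.node 1 (.one ⟨4823, 6, 3⟩) (.one ⟨2400, 5, 5⟩)) (.node 1 (.one ⟨10485, 5, 4⟩) (.one ⟨11644, 5, 5⟩))) (.node 2 (.node 1 (.one ⟨3615, 5, 5⟩) (.one ⟨1056, 5, 4⟩)) (.node 1 (.one ⟨9602, 5, 5⟩) (.one ⟨5488, 6, 4⟩)))) (.node 4 (.node 2 (.node 1 (.one ⟨15109, 5, 4⟩) (.one ⟨12770, 4, 3⟩)) (.node 1 (.one ⟨7641, 4, 3⟩) (.one ⟨15249, 4, 3⟩))) (.node 2 (.node 1 (.one ⟨8256, 5, 4⟩) (.one ⟨5291, 5, 4⟩)) (.node 1 (.one ⟨16015, 6, 4⟩) (.one ⟨10821, 4, 3⟩)))))))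
def par3_11_15 : Arr Par :=
  (.node 32 (.node 16 (.node 8 (.node 4 (.node 2 (.node 1 (.one ⟨10848, 6, 4⟩) (.one ⟨10970, 6, 4⟩)) (.node 1 (.one ⟨10033, 6, 3⟩) (.one ⟨15868, 5, 4⟩))) (.node 2 (.node 1 (.one ⟨15937, 0, 3⟩) (.one ⟨11179, 5, 3⟩)) (.node 1 (.one ⟨14795, 6, 4⟩) (.one ⟨9989, 6, 4⟩)))) (.node 4 (.node 2 (.node 1 (.one ⟨6178, 0, 3⟩) (.one ⟨1380, 6, 4⟩)) (.node 1 (.one ⟨9977, 6, 4⟩) (.one ⟨8275, 4, 2⟩))) (.node 2 (.node 1 (.one ⟨10203, 0, 3⟩) (.one ⟨9564, 6, 4⟩)) (.node 1 (.one ⟨1930, 6, 4⟩) (.one ⟨13558, 5, 3⟩))))) (.node 8 (.node 4 (.node 2 (.node 1 (.one ⟨16171, 6, 2⟩) (.one ⟨11437, 4, 5⟩)) (.node 1 (.one ⟨4142, 6, 4⟩) (.one ⟨2110, 4, 3⟩))) (.node 2 (.node 1 (.one ⟨11233, 6, 4⟩) (.one ⟨4342, 5, 5⟩))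 (.node 1 (.one ⟨6937, 6, 4⟩) (.one ⟨15563, 6, 2⟩)))) (.node 4 (.node 2 (.node 1 (.one ⟨11640, 5, 4⟩) (.one ⟨16299, 1, 2⟩)) (.node 1 (.one ⟨11634, 1, 3⟩) (.one ⟨6311, 1, 2⟩))) (.node 2 (.node 1 (.one ⟨13511, 6, 1⟩) (.one ⟨7872, 6, 2⟩)) (.node 1 (.one ⟨13262, 5, 3⟩) (.one ⟨97, 4, 3⟩)))))) (.node 16 (.node 8 (.node 4 (.node 2 (.node 1 (.one ⟨5638, 6, 5⟩) (.one ⟨2980, 6, 4⟩)) (.node 1 (.one ⟨2881, 3, 4⟩) (.one ⟨7667, 2, 2⟩))) (.node 2 (.node 1 (.one ⟨1821, 0, 3⟩) (.one ⟨891, 4, 3⟩)) (.node 1 (.one ⟨5590, 5, 4⟩) (.one ⟨5370, 5, 4⟩)))) (.node 4 (.node 2 (.node 1 (.one ⟨10313, 3, 3⟩) (.one ⟨3956, 4, 4⟩)) (.node 1 (.one ⟨6666, 3, 4⟩) (.one ⟨2110, 0, 3⟩))) (.node 2 (.node 1 (.one ⟨10682, 1, 3⟩) (.one ⟨9808, 6, 4⟩))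 (.node 1 (.one ⟨12311, 4, 4⟩) (.one ⟨3608, 1, 4⟩))))) (.node 8 (.node 4 (.node 2 (.node 1 (.one ⟨16192, 3, 3⟩) (.one ⟨13265, 6, 4⟩)) (.node 1 (.one ⟨9116, 6, 4⟩) (.one ⟨3377, 1, 2⟩))) (.node 2 (.node 1 (.one ⟨8934, 5, 5⟩) (.one ⟨11307, 4, 4⟩)) (.node 1 (.one ⟨16920, 6, 3⟩) (.one ⟨12807, 3, 2⟩)))) (.node 4 (.node 2 (.node 1 (.one ⟨1267, 6, 2⟩) (.one ⟨14238, 0, 3⟩)) (.node 1 (.one ⟨5798, 5, 5⟩) (.one ⟨5594, 0, 3⟩))) (.node 2 (.node 1 (.one ⟨14124, 5, 2⟩) (.one ⟨5500, 5, 3⟩)) (.node 1 (.one ⟨10123, 6, 4⟩) (.one ⟨3196, 5, 4⟩)))))))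
def par3_11 : Arr Par :=
  (.node 512 (.node 256 (.node 128 (.node 64 par3_11_0 par3_11_1) (.node 64 par3_11_2 par3_11_3)) (.node 128 (.node 64 par3_11_4 par3_11_5) (.node 64 par3_11_6 par3_11_7))) (.node 256 (.node 128 (.node 64 par3_11_8 par3_11_9) (.node 64 par3_11_10 par3_11_11)) (.node 128 (.node 64 par3_11_12 par3_11_13) (.node 64 par3_11_14 par3_11_15))))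
def par3_12_0 : Arr Par :=
  (.node 32 (.node 16 (.node 8 (.node 4 (.node 2 (.node 1 (.one ⟨12448, 4, 3⟩) (.one ⟨12260, 6, 4⟩)) (.node 1 (.one ⟨121, 5, 1⟩) (.one ⟨2452, 6, 3⟩))) (.node 2 (.node 1 (.one ⟨3945, 4, 4⟩) (.one ⟨15780, 0, 3⟩)) (.node 1 (.one ⟨3964, 5, 4⟩) (.one ⟨17008, 5, 4⟩)))) (.node 4 (.node 2 (.node 1 (.one ⟨9071, 5, 4⟩) (.one ⟨16038, 6, 5⟩)) (.node 1 (.one ⟨7200, 4, 3⟩) (.one ⟨2096, 6, 3⟩))) (.node 2 (.node 1 (.one ⟨16506, 6, 5⟩) (.one ⟨5057, 5, 4⟩)) (.node 1 (.one ⟨13505, 5, 4⟩) (.one ⟨6465, 3, 4⟩))))) (.node 8 (.node 4 (.node 2 (.node 1 (.one ⟨5471, 4, 2⟩) (.one ⟨3718, 5, 4⟩)) (.node 1 (.one ⟨10954, 3, 4⟩) (.one ⟨1465, 5, 2⟩))) (.node 2 (.node 1 (.one ⟨17125, 6, 4⟩) (.one ⟨9891, 0, 4⟩)) (.node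 1 (.one ⟨5325, 1, 0⟩) (.one ⟨4620, 2, 3⟩)))) (.node 4 (.node 2 (.node 1 (.one ⟨7896, 1, 3⟩) (.one ⟨12410, 1, 3⟩)) (.node 1 (.one ⟨9985, 6, 4⟩) (.one ⟨11992, 5, 4⟩))) (.node 2 (.node 1 (.one ⟨11960, 6, 3⟩) (.one ⟨11001, 5, 5⟩)) (.node 1 (.one ⟨4303, 6, 3⟩) (.one ⟨8291, 5, 3⟩)))))) (.node 16 (.node 8 (.node 4 (.node 2 (.node 1 (.one ⟨3376, 6, 4⟩) (.one ⟨10908, 6, 4⟩)) (.node 1 (.one ⟨11900, 6, 3⟩) (.one ⟨10439, 6, 3⟩))) (.node 2 (.node 1 (.one ⟨13551, 6, 3⟩) (.one ⟨3997, 5, 3⟩)) (.node 1 (.one ⟨2163, 6, 4⟩) (.one ⟨8253, 4, 3⟩)))) (.node 4 (.node 2 (.node 1 (.one ⟨16751, 6, 3⟩) (.one ⟨8992, 5, 3⟩)) (.node 1 (.one ⟨14782, 5, 5⟩) (.one ⟨7858, 6, 3⟩))) (.node 2 (.node 1 (.one ⟨6399, 5, 3⟩) (.one ⟨16487, 6, 4⟩)) (.node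 1 (.one ⟨3020, 5, 3⟩) (.one ⟨5921, 5, 3⟩))))) (.node 8 (.node 4 (.node 2 (.node 1 (.one ⟨6376, 6, 4⟩) (.one ⟨9364, 5, 5⟩)) (.node 1 (.one ⟨11955, 6, 5⟩) (.one ⟨15393, 5, 4⟩))) (.node 2 (.node 1 (.one ⟨9664, 3, 5⟩) (.one ⟨3315, 5, 4⟩)) (.node 1 (.one ⟨11128, 6, 5⟩) (.one ⟨11649, 6, 3⟩)))) (.node 4 (.node 2 (.node 1 (.one ⟨13139, 6, 4⟩) (.one ⟨14915, 3, 2⟩)) (.node 1 (.one ⟨16266, 3, 3⟩) (.one ⟨16669, 4, 4⟩))) (.node 2 (.node 1 (.one ⟨3358, 5, 4⟩) (.one ⟨15656, 4, 3⟩)) (.node 1 (.one ⟨13615, 5, 4⟩) (.one ⟨1477, 5, 2⟩)))))))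
def par3_12_1 : Arr Par :=
  (.node 32 (.node 16 (.node 8 (.node 4 (.node 2 (.node 1 (.one ⟨13697, 0, 4⟩) (.one ⟨13209, 5, 3⟩)) (.node 1 (.one ⟨4885, 5, 4⟩) (.one ⟨3628, 6, 4⟩))) (.node 2 (.node 1 (.one ⟨11526, 5, 5⟩) (.one ⟨9699, 6, 4⟩)) (.node 1 (.one ⟨7625, 0, 3⟩) (.one ⟨8768, 5, 2⟩)))) (.node 4 (.node 2 (.node 1 (.one ⟨1310, 6, 3⟩) (.one ⟨16519, 5, 5⟩)) (.node 1 (.one ⟨9914, 6, 4⟩) (.one ⟨13951, 5, 5⟩))) (.node 2 (.node 1 (.one ⟨11205, 4, 3⟩) (.one ⟨6378, 5, 2⟩)) (.node 1 (.one ⟨10359, 5, 5⟩) (.one ⟨10815, 5, 3⟩))))) (.node 8 (.node 4 (.node 2 (.node 1 (.one ⟨10568, 1, 4⟩) (.one ⟨9079, 5, 4⟩)) (.node 1 (.one ⟨7919, 5, 4⟩) (.one ⟨7369, 5, 4⟩))) (.node 2 (.node 1 (.one ⟨8281, 6, 2⟩) (.one ⟨13852, 6, 2⟩))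 (.node 1 (.one ⟨12423, 5, 4⟩) (.one ⟨10841, 5, 4⟩)))) (.node 4 (.node 2 (.node 1 (.one ⟨10832, 5, 3⟩) (.one ⟨11812, 6, 4⟩)) (.node 1 (.one ⟨5796, 6, 4⟩) (.one ⟨5457, 6, 4⟩))) (.node 2 (.node 1 (.one ⟨15358, 6, 5⟩) (.one ⟨17148, 6, 2⟩)) (.node 1 (.one ⟨14064, 4, 3⟩) (.one ⟨15390, 6, 3⟩)))))) (.node 16 (.node 8 (.node 4 (.node 2 (.node 1 (.one ⟨8337, 0, 5⟩) (.one ⟨8193, 5, 3⟩)) (.node 1 (.one ⟨7282, 1, 5⟩) (.one ⟨1710, 5, 3⟩))) (.node 2 (.node 1 (.one ⟨15384, 6, 4⟩) (.one ⟨8705, 1, 5⟩)) (.node 1 (.one ⟨166, 6, 4⟩) (.one ⟨2705, 6, 2⟩)))) (.node 4 (.node 2 (.node 1 (.one ⟨7085, 5, 3⟩) (.one ⟨10499, 6, 5⟩)) (.node 1 (.one ⟨7945, 5, 5⟩) (.one ⟨12112, 6, 4⟩))) (.node 2 (.node 1 (.one ⟨16530, 4, 4⟩) (.one ⟨4427, 6,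 4⟩)) (.node 1 (.one ⟨12057, 4, 4⟩) (.one ⟨13724, 0, 4⟩))))) (.node 8 (.node 4 (.node 2 (.node 1 (.one ⟨7049, 5, 3⟩) (.one ⟨16123, 0, 4⟩)) (.node 1 (.one ⟨1488, 5, 4⟩) (.one ⟨14768, 5, 3⟩))) (.node 2 (.node 1 (.one ⟨2708, 5, 2⟩) (.one ⟨5698, 6, 4⟩)) (.node 1 (.one ⟨7105, 5, 3⟩) (.one ⟨6251, 3, 3⟩)))) (.node 4 (.node 2 (.node 1 (.one ⟨9985, 0, 4⟩) (.one ⟨13419, 2, 2⟩)) (.node 1 (.one ⟨6276, 6, 2⟩) (.one ⟨14995, 3, 3⟩))) (.node 2 (.node 1 (.one ⟨3372, 6, 4⟩) (.one ⟨10298, 0, 3⟩)) (.node 1 (.one ⟨7084, 4, 4⟩) (.one ⟨10357, 3, 5⟩)))))))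
def par3_12_2 : Arr Par :=
  (.node 32 (.node 16 (.node 8 (.node 4 (.node 2 (.node 1 (.one ⟨3145, 6, 5⟩) (.one ⟨10084, 5, 3⟩)) (.node 1 (.one ⟨10324, 6, 4⟩) (.one ⟨11155, 6, 2⟩))) (.node 2 (.node 1 (.one ⟨1223, 5, 4⟩) (.one ⟨1965, 5, 4⟩)) (.node 1 (.one ⟨3057, 3, 3⟩) (.one ⟨9550, 6, 3⟩)))) (.node 4 (.node 2 (.node 1 (.one ⟨15312, 4, 4⟩) (.one ⟨10146, 4, 3⟩)) (.node 1 (.one ⟨13913, 6, 5⟩) (.one ⟨965, 5, 4⟩))) (.node 2 (.node 1 (.one ⟨3095, 5, 1⟩) (.one ⟨5881, 6, 5⟩)) (.node 1 (.one ⟨11660, 0, 4⟩) (.one ⟨12739, 4, 2⟩))))) (.node 8 (.node 4 (.node 2 (.node 1 (.one ⟨14903, 3, 5⟩) (.one ⟨2092, 6, 4⟩)) (.node 1 (.one ⟨1244, 6, 2⟩) (.one ⟨15057, 5, 4⟩))) (.node 2 (.node 1 (.one ⟨12809, 3, 5⟩) (.one ⟨12867, 5, 2⟩))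 (.node 1 (.one ⟨14130, 0, 3⟩) (.one ⟨13731, 5, 4⟩)))) (.node 4 (.node 2 (.node 1 (.one ⟨11687, 1, 4⟩) (.one ⟨14912, 1, 4⟩)) (.node 1 (.one ⟨6759, 5, 4⟩) (.one ⟨12739, 6, 2⟩))) (.node 2 (.node 1 (.one ⟨3375, 5, 5⟩) (.one ⟨7415, 1, 4⟩)) (.node 1 (.one ⟨16913, 1, 3⟩) (.one ⟨3521, 6, 4⟩)))))) (.node 16 (.node 8 (.node 4 (.node 2 (.node 1 (.one ⟨10764, 6, 2⟩) (.one ⟨10617, 1, 4⟩)) (.node 1 (.one ⟨16590, 4, 3⟩) (.one ⟨1779, 5, 3⟩))) (.node 2 (.node 1 (.one ⟨12132, 6, 5⟩) (.one ⟨4787, 6, 5⟩)) (.node 1 (.one ⟨9910, 5, 1⟩) (.one ⟨10177, 6, 5⟩)))) (.node 4 (.node 2 (.node 1 (.one ⟨9163, 6, 5⟩) (.one ⟨8193, 3, 3⟩)) (.node 1 (.one ⟨9512, 5, 5⟩) (.one ⟨4842, 5, 5⟩))) (.node 2 (.node 1 (.one ⟨6053, 6, 5⟩) (.one ⟨4300, 5,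 4⟩)) (.node 1 (.one ⟨3612, 1, 4⟩) (.one ⟨17070, 5, 4⟩))))) (.node 8 (.node 4 (.node 2 (.node 1 (.one ⟨2211, 5, 4⟩) (.one ⟨12069, 4, 3⟩)) (.node 1 (.one ⟨13189, 5, 3⟩) (.one ⟨16197, 4, 3⟩))) (.node 2 (.node 1 (.one ⟨13373, 6, 5⟩) (.one ⟨5773, 5, 5⟩)) (.node 1 (.one ⟨13532, 5, 4⟩) (.one ⟨9767, 0, 4⟩)))) (.node 4 (.node 2 (.node 1 (.one ⟨4232, 5, 3⟩) (.one ⟨11898, 5, 3⟩)) (.node 1 (.one ⟨4349, 0, 4⟩) (.one ⟨14884, 5, 4⟩))) (.node 2 (.node 1 (.one ⟨16206, 0, 4⟩) (.one ⟨9812, 5, 2⟩)) (.node 1 (.one ⟨16554, 6, 4⟩) (.one ⟨16197, 0, 3⟩)))))))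
def par3_12_3 : Arr Par :=
  (.node 32 (.node 16 (.node 8 (.node 4 (.node 2 (.node 1 (.one ⟨16299, 3, 2⟩) (.one ⟨15452, 6, 3⟩)) (.node 1 (.one ⟨2603, 3, 3⟩) (.one ⟨1703, 0, 5⟩))) (.node 2 (.node 1 (.one ⟨1241, 4, 5⟩) (.one ⟨12933, 0, 5⟩)) (.node 1 (.one ⟨8003, 3, 3⟩) (.one ⟨11001, 6, 5⟩)))) (.node 4 (.node 2 (.node 1 (.one ⟨5742, 5, 4⟩) (.one ⟨9283, 3, 1⟩)) (.node 1 (.one ⟨11456, 5, 4⟩) (.one ⟨6220, 1, 3⟩))) (.node 2 (.node 1 (.one ⟨973, 4, 5⟩) (.one ⟨5922, 5, 3⟩)) (.node 1 (.one ⟨16511, 5, 3⟩) (.one ⟨4398, 6, 3⟩))))) (.node 8 (.node 4 (.node 2 (.node 1 (.one ⟨12723, 3, 2⟩) (.one ⟨16228, 0, 4⟩)) (.node 1 (.one ⟨4359, 0, 4⟩) (.one ⟨15491, 3, 2⟩))) (.node 2 (.node 1 (.one ⟨14487, 6, 3⟩) (.one ⟨489, 4, 4⟩)) (.node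 1 (.one ⟨9284, 3, 1⟩) (.one ⟨16570, 6, 4⟩)))) (.node 4 (.node 2 (.node 1 (.one ⟨10899, 6, 4⟩) (.one ⟨15566, 6, 2⟩)) (.node 1 (.one ⟨13331, 6, 4⟩) (.one ⟨16943, 2, 3⟩))) (.node 2 (.node 1 (.one ⟨16217, 0, 2⟩) (.one ⟨13968, 4, 4⟩)) (.node 1 (.one ⟨4372, 6, 4⟩) (.one ⟨16404, 5, 3⟩)))))) (.node 16 (.node 8 (.node 4 (.node 2 (.node 1 (.one ⟨16868, 6, 3⟩) (.one ⟨16752, 6, 4⟩)) (.node 1 (.one ⟨6480, 6, 3⟩) (.one ⟨503, 5, 4⟩))) (.node 2 (.node 1 (.one ⟨12495, 4, 4⟩) (.one ⟨12496, 4, 3⟩)) (.node 1 (.one ⟨457, 5, 4⟩) (.one ⟨10232, 4, 3⟩)))) (.node 4 (.node 2 (.node 1 (.one ⟨12997, 6, 4⟩) (.one ⟨1245, 4, 5⟩)) (.node 1 (.one ⟨13867, 4, 4⟩) (.one ⟨16813, 5, 5⟩))) (.node 2 (.node 1 (.one ⟨6138, 5, 5⟩) (.one ⟨1672, 5, 5⟩))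 (.node 1 (.one ⟨16217, 4, 2⟩) (.one ⟨4110, 3, 4⟩))))) (.node 8 (.node 4 (.node 2 (.node 1 (.one ⟨3698, 5, 1⟩) (.one ⟨7404, 0, 3⟩)) (.node 1 (.one ⟨4666, 6, 3⟩) (.one ⟨2860, 4, 4⟩))) (.node 2 (.node 1 (.one ⟨2928, 6, 5⟩) (.one ⟨6577, 6, 5⟩)) (.node 1 (.one ⟨1999, 6, 3⟩) (.one ⟨2264, 5, 3⟩)))) (.node 4 (.node 2 (.node 1 (.one ⟨3319, 6, 4⟩) (.one ⟨1268, 6, 2⟩)) (.node 1 (.one ⟨6375, 6, 4⟩) (.one ⟨10322, 6, 3⟩))) (.node 2 (.node 1 (.one ⟨16705, 3, 5⟩) (.one ⟨16, 5, 4⟩)) (.node 1 (.one ⟨10830, 6, 3⟩) (.one ⟨4836, 5, 2⟩)))))))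
def par3_12_4 : Arr Par :=
  (.node 32 (.node 16 (.node 8 (.node 4 (.node 2 (.node 1 (.one ⟨1477, 6, 2⟩) (.one ⟨1337, 2, 3⟩)) (.node 1 (.one ⟨14742, 6, 3⟩) (.one ⟨4835, 5, 3⟩))) (.node 2 (.node 1 (.one ⟨3760, 6, 5⟩) (.one ⟨12987, 6, 4⟩)) (.node 1 (.one ⟨373, 5, 5⟩) (.one ⟨15785, 3, 3⟩)))) (.node 4 (.node 2 (.node 1 (.one ⟨16280, 0, 3⟩) (.one ⟨3324, 0, 5⟩)) (.node 1 (.one ⟨1358, 4, 5⟩) (.one ⟨995, 0, 5⟩))) (.node 2 (.node 1 (.one ⟨6129, 4, 2⟩) (.one ⟨4871, 5, 3⟩)) (.node 1 (.one ⟨7705, 3, 4⟩) (.one ⟨13095, 5, 4⟩))))) (.node 8 (.node 4 (.node 2 (.node 1 (.one ⟨2388, 6, 4⟩) (.one ⟨13512, 6, 5⟩)) (.node 1 (.one ⟨365, 6, 2⟩) (.one ⟨13329, 6, 3⟩))) (.node 2 (.node 1 (.one ⟨7693, 3, 3⟩) (.one ⟨12819, 6, 5⟩)) (.node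 1 (.one ⟨2733, 6, 3⟩) (.one ⟨10526, 4, 3⟩)))) (.node 4 (.node 2 (.node 1 (.one ⟨682, 5, 3⟩) (.one ⟨12990, 6, 3⟩)) (.node 1 (.one ⟨1341, 2, 3⟩) (.one ⟨5840, 6, 3⟩))) (.node 2 (.node 1 (.one ⟨15262, 6, 3⟩) (.one ⟨15344, 6, 4⟩)) (.node 1 (.one ⟨3757, 4, 3⟩) (.one ⟨10603, 1, 3⟩)))))) (.node 16 (.node 8 (.node 4 (.node 2 (.node 1 (.one ⟨11060, 5, 4⟩) (.one ⟨9762, 6, 2⟩)) (.node 1 (.one ⟨4114, 5, 4⟩) (.one ⟨1351, 3, 2⟩))) (.node 2 (.node 1 (.one ⟨13095, 4, 4⟩) (.one ⟨13129, 5, 4⟩)) (.node 1 (.one ⟨12161, 4, 4⟩) (.one ⟨3123, 6, 5⟩)))) (.node 4 (.node 2 (.node 1 (.one ⟨11637, 5, 4⟩) (.one ⟨4846, 1, 3⟩)) (.node 1 (.one ⟨5480, 6, 1⟩) (.one ⟨3272, 0, 3⟩))) (.node 2 (.node 1 (.one ⟨2590, 1, 3⟩) (.one ⟨1345, 4, 2⟩)) (.node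 1 (.one ⟨3102, 6, 5⟩) (.one ⟨10769, 5, 4⟩))))) (.node 8 (.node 4 (.node 2 (.node 1 (.one ⟨8275, 6, 2⟩) (.one ⟨7517, 0, 3⟩)) (.node 1 (.one ⟨3874, 4, 1⟩) (.one ⟨9330, 4, 3⟩))) (.node 2 (.node 1 (.one ⟨7595, 6, 2⟩) (.one ⟨4593, 0, 3⟩)) (.node 1 (.one ⟨5477, 0, 3⟩) (.one ⟨6711, 5, 4⟩)))) (.node 4 (.node 2 (.node 1 (.one ⟨5143, 5, 4⟩) (.one ⟨8924, 6, 4⟩)) (.node 1 (.one ⟨6873, 6, 5⟩) (.one ⟨4143, 5, 5⟩))) (.node 2 (.node 1 (.one ⟨6167, 5, 5⟩) (.one ⟨4462, 6, 3⟩)) (.node 1 (.one ⟨489, 6, 4⟩) (.one ⟨11211, 3, 1⟩)))))))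
def par3_12_5 : Arr Par :=
  (.node 32 (.node 16 (.node 8 (.node 4 (.node 2 (.node 1 (.one ⟨9339, 4, 4⟩) (.one ⟨8966, 5, 2⟩)) (.node 1 (.one ⟨14877, 4, 3⟩) (.one ⟨4610, 0, 3⟩))) (.node 2 (.node 1 (.one ⟨9430, 5, 1⟩) (.one ⟨11847, 4, 4⟩)) (.node 1 (.one ⟨13507, 0, 3⟩) (.one ⟨14598, 6, 4⟩)))) (.node 4 (.node 2 (.node 1 (.one ⟨13189, 0, 3⟩) (.one ⟨16575, 0, 4⟩)) (.node 1 (.one ⟨4620, 4, 3⟩) (.one ⟨7644, 5, 5⟩))) (.node 2 (.node 1 (.one ⟨14625, 5, 4⟩) (.one ⟨10297, 6, 4⟩)) (.node 1 (.one ⟨2914, 5, 3⟩) (.one ⟨9585, 6, 2⟩))))) (.node 8 (.node 4 (.node 2 (.node 1 (.one ⟨5564, 5, 4⟩) (.one ⟨5954, 6, 4⟩)) (.node 1 (.one ⟨1114, 6, 2⟩) (.one ⟨1399, 6, 4⟩))) (.node 2 (.node 1 (.one ⟨6017, 6, 4⟩) (.one ⟨14047, 6, 4⟩)) (.node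 1 (.one ⟨9343, 6, 4⟩) (.one ⟨3968, 6, 3⟩)))) (.node 4 (.node 2 (.node 1 (.one ⟨12252, 6, 2⟩) (.one ⟨9153, 5, 2⟩)) (.node 1 (.one ⟨15471, 5, 5⟩) (.one ⟨16939, 5, 4⟩))) (.node 2 (.node 1 (.one ⟨15140, 6, 4⟩) (.one ⟨3784, 6, 4⟩)) (.node 1 (.one ⟨8042, 5, 4⟩) (.one ⟨11340, 5, 4⟩)))))) (.node 16 (.node 8 (.node 4 (.node 2 (.node 1 (.one ⟨8667, 3, 4⟩) (.one ⟨11187, 6, 4⟩)) (.node 1 (.one ⟨4531, 3, 1⟩) (.one ⟨9566, 5, 1⟩))) (.node 2 (.node 1 (.one ⟨12951, 6, 4⟩) (.one ⟨5378, 6, 4⟩)) (.node 1 (.one ⟨1775, 6, 4⟩) (.one ⟨15918, 4, 3⟩)))) (.node 4 (.node 2 (.node 1 (.one ⟨16275, 6, 3⟩) (.one ⟨4555, 3, 2⟩)) (.node 1 (.one ⟨16258, 6, 3⟩) (.one ⟨4664, 5, 5⟩))) (.node 2 (.node 1 (.one ⟨9954, 5, 5⟩) (.one ⟨9972, 3, 2⟩)) (.node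 1 (.one ⟨6804, 0, 4⟩) (.one ⟨6651, 5, 5⟩))))) (.node 8 (.node 4 (.node 2 (.node 1 (.one ⟨7299, 6, 3⟩) (.one ⟨9422, 5, 3⟩)) (.node 1 (.one ⟨8258, 6, 4⟩) (.one ⟨16819, 4, 3⟩))) (.node 2 (.node 1 (.one ⟨6753, 5, 4⟩) (.one ⟨7673, 5, 4⟩)) (.node 1 (.one ⟨9898, 5, 2⟩) (.one ⟨15883, 4, 4⟩)))) (.node 4 (.node 2 (.node 1 (.one ⟨7249, 6, 5⟩) (.one ⟨3586, 6, 3⟩)) (.node 1 (.one ⟨11851, 5, 4⟩) (.one ⟨15818, 6, 3⟩))) (.node 2 (.node 1 (.one ⟨1131, 4, 4⟩) (.one ⟨10390, 4, 4⟩)) (.node 1 (.one ⟨11192, 6, 4⟩) (.one ⟨5836, 6, 4⟩)))))))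
def par3_12_6 : Arr Par :=
  (.node 32 (.node 16 (.node 8 (.node 4 (.node 2 (.node 1 (.one ⟨9365, 6, 4⟩) (.one ⟨15432, 5, 2⟩)) (.node 1 (.one ⟨3089, 5, 4⟩) (.one ⟨8806, 6, 4⟩))) (.node 2 (.node 1 (.one ⟨175, 5, 4⟩) (.one ⟨13121, 5, 4⟩)) (.node 1 (.one ⟨8609, 5, 2⟩) (.one ⟨13663, 6, 3⟩)))) (.node 4 (.node 2 (.node 1 (.one ⟨5127, 0, 1⟩) (.one ⟨2994, 4, 1⟩)) (.node 1 (.one ⟨11772, 6, 3⟩) (.one ⟨7763, 4, 3⟩))) (.node 2 (.node 1 (.one ⟨1462, 5, 2⟩) (.one ⟨16556, 6, 4⟩)) (.node 1 (.one ⟨8466, 3, 4⟩) (.one ⟨14410, 5, 3⟩))))) (.node 8 (.node 4 (.node 2 (.node 1 (.one ⟨199, 5, 4⟩) (.one ⟨15231, 6, 5⟩)) (.node 1 (.one ⟨15729, 5, 3⟩) (.one ⟨7686, 5, 5⟩))) (.node 2 (.node 1 (.one ⟨11885, 4, 4⟩) (.one ⟨11205, 0, 3⟩)) (.node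 1 (.one ⟨11671, 6, 5⟩) (.one ⟨8056, 1, 3⟩)))) (.node 4 (.node 2 (.node 1 (.one ⟨4619, 0, 4⟩) (.one ⟨11829, 6, 3⟩)) (.node 1 (.one ⟨1445, 3, 1⟩) (.one ⟨15888, 6, 3⟩))) (.node 2 (.node 1 (.one ⟨9155, 5, 4⟩) (.one ⟨11088, 6, 4⟩)) (.node 1 (.one ⟨4871, 6, 3⟩) (.one ⟨13511, 5, 1⟩)))))) (.node 16 (.node 8 (.node 4 (.node 2 (.node 1 (.one ⟨3845, 4, 4⟩) (.one ⟨6752, 5, 4⟩)) (.node 1 (.one ⟨10206, 6, 4⟩) (.one ⟨16476, 4, 3⟩))) (.node 2 (.node 1 (.one ⟨3531, 4, 3⟩) (.one ⟨11152, 0, 3⟩)) (.node 1 (.one ⟨9458, 3, 4⟩) (.one ⟨9238, 2, 2⟩)))) (.node 4 (.node 2 (.node 1 (.one ⟨12807, 1, 2⟩) (.one ⟨7902, 5, 4⟩)) (.node 1 (.one ⟨804, 5, 5⟩) (.one ⟨3891, 5, 4⟩))) (.node 2 (.node 1 (.one ⟨6531, 5, 5⟩) (.one ⟨11411, 6, 3⟩)) (.node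 1 (.one ⟨4600, 0, 4⟩) (.one ⟨5309, 5, 4⟩))))) (.node 8 (.node 4 (.node 2 (.node 1 (.one ⟨16299, 0, 2⟩) (.one ⟨13320, 5, 4⟩)) (.node 1 (.one ⟨10871, 6, 3⟩) (.one ⟨13408, 2, 1⟩))) (.node 2 (.node 1 (.one ⟨92, 6, 3⟩) (.one ⟨1697, 6, 3⟩)) (.node 1 (.one ⟨16285, 3, 5⟩) (.one ⟨12723, 4, 2⟩)))) (.node 4 (.node 2 (.node 1 (.one ⟨10737, 6, 3⟩) (.one ⟨12733, 6, 4⟩)) (.node 1 (.one ⟨5781, 5, 5⟩) (.one ⟨6041, 6, 3⟩))) (.node 2 (.node 1 (.one ⟨880, 6, 5⟩) (.one ⟨2112, 5, 3⟩)) (.node 1 (.one ⟨8995, 6, 3⟩) (.one ⟨11976, 2, 1⟩)))))))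
def par3_12_7 : Arr Par :=
  (.node 32 (.node 16 (.node 8 (.node 4 (.node 2 (.node 1 (.one ⟨11211, 2, 1⟩) (.one ⟨5077, 6, 3⟩)) (.node 1 (.one ⟨5456, 5, 4⟩) (.one ⟨4531, 2, 1⟩))) (.node 2 (.node 1 (.one ⟨121, 2, 1⟩) (.one ⟨15278, 5, 5⟩)) (.node 1 (.one ⟨7880, 5, 4⟩) (.one ⟨8296, 0, 3⟩)))) (.node 4 (.node 2 (.node 1 (.one ⟨1592, 1, 3⟩) (.one ⟨12739, 3, 2⟩)) (.node 1 (.one ⟨13968, 5, 4⟩) (.one ⟨1624, 1, 3⟩))) (.node 2 (.node 1 (.one ⟨13304, 5, 4⟩) (.one ⟨8857, 5, 2⟩)) (.node 1 (.one ⟨5448, 6, 5⟩) (.one ⟨11509, 6, 3⟩))))) (.node 8 (.node 4 (.node 2 (.node 1 (.one ⟨5643, 6, 3⟩) (.one ⟨12765, 4, 3⟩)) (.node 1 (.one ⟨675, 5, 4⟩) (.one ⟨13473, 5, 5⟩))) (.node 2 (.node 1 (.one ⟨401, 5, 4⟩) (.one ⟨818, 5, 4⟩)) (.node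 1 (.one ⟨2445, 6, 5⟩) (.one ⟨16727, 1, 3⟩)))) (.node 4 (.node 2 (.node 1 (.one ⟨4463, 0, 4⟩) (.one ⟨13552, 6, 5⟩)) (.node 1 (.one ⟨8636, 1, 3⟩) (.one ⟨14527, 5, 4⟩))) (.node 2 (.node 1 (.one ⟨8654, 1, 3⟩) (.one ⟨1147, 6, 2⟩)) (.node 1 (.one ⟨4938, 5, 4⟩) (.one ⟨908, 6, 5⟩)))))) (.node 16 (.node 8 (.node 4 (.node 2 (.node 1 (.one ⟨6611, 6, 3⟩) (.one ⟨16669, 5, 4⟩)) (.node 1 (.one ⟨10196, 5, 2⟩) (.one ⟨12057, 5, 4⟩))) (.node 2 (.node 1 (.one ⟨15419, 5, 2⟩) (.one ⟨13814, 5, 3⟩)) (.node 1 (.one ⟨10410, 6, 3⟩) (.one ⟨16817, 5, 3⟩)))) (.node 4 (.node 2 (.node 1 (.one ⟨816, 5, 4⟩) (.one ⟨6024, 6, 4⟩)) (.node 1 (.one ⟨16821, 5, 5⟩) (.one ⟨531, 5, 4⟩))) (.node 2 (.node 1 (.one ⟨6436, 6, 3⟩) (.one ⟨11976, 0, 1⟩)) (.node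 1 (.one ⟨909, 5, 4⟩) (.one ⟨11072, 6, 4⟩))))) (.node 8 (.node 4 (.node 2 (.node 1 (.one ⟨7745, 5, 4⟩) (.one ⟨16445, 6, 3⟩)) (.node 1 (.one ⟨8556, 6, 5⟩) (.one ⟨9934, 6, 4⟩))) (.node 2 (.node 1 (.one ⟨9920, 5, 5⟩) (.one ⟨12812, 4, 4⟩)) (.node 1 (.one ⟨11329, 5, 5⟩) (.one ⟨13141, 4, 4⟩)))) (.node 4 (.node 2 (.node 1 (.one ⟨15229, 6, 3⟩) (.one ⟨13408, 6, 1⟩)) (.node 1 (.one ⟨12410, 3, 3⟩) (.one ⟨11653, 5, 5⟩))) (.node 2 (.node 1 (.one ⟨6445, 6, 2⟩) (.one ⟨12605, 4, 4⟩)) (.node 1 (.one ⟨495, 6, 4⟩) (.one ⟨12253, 3, 3⟩)))))))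
def par3_12_8 : Arr Par :=
  (.node 32 (.node 16 (.node 8 (.node 4 (.node 2 (.node 1 (.one ⟨13164, 0, 3⟩) (.one ⟨13117, 0, 4⟩)) (.node 1 (.one ⟨13153, 0, 4⟩) (.one ⟨6318, 5, 4⟩))) (.node 2 (.node 1 (.one ⟨16266, 5, 3⟩) (.one ⟨11791, 6, 4⟩)) (.node 1 (.one ⟨4617, 1, 3⟩) (.one ⟨2285, 6, 1⟩)))) (.node 4 (.node 2 (.node 1 (.one ⟨13989, 6, 4⟩) (.one ⟨14743, 6, 4⟩)) (.node 1 (.one ⟨12680, 1, 2⟩) (.one ⟨17173, 4, 3⟩))) (.node 2 (.node 1 (.one ⟨13271, 5, 3⟩) (.one ⟨6541, 4, 4⟩)) (.node 1 (.one ⟨1667, 4, 4⟩) (.one ⟨3660, 5, 5⟩))))) (.node 8 (.node 4 (.node 2 (.node 1 (.one ⟨11628, 4, 4⟩) (.one ⟨6335, 6, 2⟩)) (.node 1 (.one ⟨925, 6, 4⟩) (.one ⟨5304, 4, 4⟩))) (.node 2 (.node 1 (.one ⟨8446, 5, 4⟩) (.one ⟨10282, 5, 4⟩))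 (.node 1 (.one ⟨2795, 4, 3⟩) (.one ⟨4363, 3, 3⟩)))) (.node 4 (.node 2 (.node 1 (.one ⟨13597, 0, 4⟩) (.one ⟨1794, 5, 4⟩)) (.node 1 (.one ⟨9509, 5, 3⟩) (.one ⟨15950, 5, 5⟩))) (.node 2 (.node 1 (.one ⟨8019, 5, 4⟩) (.one ⟨13567, 0, 4⟩)) (.node 1 (.one ⟨15113, 1, 3⟩) (.one ⟨13749, 6, 2⟩)))))) (.node 16 (.node 8 (.node 4 (.node 2 (.node 1 (.one ⟨2268, 6, 3⟩) (.one ⟨1900, 5, 4⟩)) (.node 1 (.one ⟨7288, 5, 5⟩) (.one ⟨15856, 5, 5⟩))) (.node 2 (.node 1 (.one ⟨14809, 6, 5⟩) (.one ⟨14664, 6, 4⟩)) (.node 1 (.one ⟨3358, 6, 4⟩) (.one ⟨17035, 5, 3⟩)))) (.node 4 (.node 2 (.node 1 (.one ⟨8400, 6, 4⟩) (.one ⟨15921, 5, 4⟩)) (.node 1 (.one ⟨2556, 4, 3⟩) (.one ⟨6098, 5, 3⟩))) (.node 2 (.node 1 (.one ⟨10893, 4, 4⟩) (.one ⟨8037, 1,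 2⟩)) (.node 1 (.one ⟨13413, 5, 1⟩) (.one ⟨13408, 3, 1⟩))))) (.node 8 (.node 4 (.node 2 (.node 1 (.one ⟨1391, 5, 2⟩) (.one ⟨1396, 5, 5⟩)) (.node 1 (.one ⟨1392, 5, 2⟩) (.one ⟨579, 5, 4⟩))) (.node 2 (.node 1 (.one ⟨66, 5, 5⟩) (.one ⟨6527, 6, 5⟩)) (.node 1 (.one ⟨500, 6, 5⟩) (.one ⟨2582, 6, 4⟩)))) (.node 4 (.node 2 (.node 1 (.one ⟨7975, 5, 4⟩) (.one ⟨11544, 5, 1⟩)) (.node 1 (.one ⟨11198, 6, 4⟩) (.one ⟨6364, 4, 3⟩))) (.node 2 (.node 1 (.one ⟨11211, 5, 1⟩) (.one ⟨9017, 3, 3⟩)) (.node 1 (.one ⟨9271, 5, 5⟩) (.one ⟨6128, 6, 3⟩)))))))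
def par3_12_9 : Arr Par :=
  (.node 32 (.node 16 (.node 8 (.node 4 (.node 2 (.node 1 (.one ⟨6118, 6, 2⟩) (.one ⟨8838, 4, 3⟩)) (.node 1 (.one ⟨7787, 4, 4⟩) (.one ⟨9437, 5, 1⟩))) (.node 2 (.node 1 (.one ⟨7121, 6, 4⟩) (.one ⟨11966, 3, 3⟩)) (.node 1 (.one ⟨9232, 6, 3⟩) (.one ⟨15477, 5, 4⟩)))) (.node 4 (.node 2 (.node 1 (.one ⟨14074, 4, 3⟩) (.one ⟨6360, 4, 3⟩)) (.node 1 (.one ⟨5192, 5, 3⟩) (.one ⟨7477, 6, 4⟩))) (.node 2 (.node 1 (.one ⟨8108, 6, 4⟩) (.one ⟨5930, 5, 3⟩)) (.node 1 (.one ⟨3323, 5, 3⟩) (.one ⟨15852, 5, 5⟩))))) (.node 8 (.node 4 (.node 2 (.node 1 (.one ⟨16904, 5, 3⟩) (.one ⟨9593, 6, 3⟩)) (.node 1 (.one ⟨8257, 6, 4⟩) (.one ⟨16878, 2, 2⟩))) (.node 2 (.node 1 (.one ⟨3446, 2, 2⟩) (.one ⟨15312, 0, 4⟩)) (.node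 1 (.one ⟨8760, 6, 4⟩) (.one ⟨1001, 3, 5⟩)))) (.node 4 (.node 2 (.node 1 (.one ⟨16313, 0, 3⟩) (.one ⟨3059, 6, 3⟩)) (.node 1 (.one ⟨3795, 6, 3⟩) (.one ⟨2205, 5, 4⟩))) (.node 2 (.node 1 (.one ⟨16174, 5, 4⟩) (.one ⟨15917, 5, 3⟩)) (.node 1 (.one ⟨1100, 4, 2⟩) (.one ⟨5499, 6, 2⟩)))))) (.node 16 (.node 8 (.node 4 (.node 2 (.node 1 (.one ⟨14960, 0, 3⟩) (.one ⟨13082, 0, 4⟩)) (.node 1 (.one ⟨14698, 5, 4⟩) (.one ⟨11180, 5, 4⟩))) (.node 2 (.node 1 (.one ⟨14164, 5, 5⟩) (.one ⟨15378, 0, 3⟩)) (.node 1 (.one ⟨15965, 3, 4⟩) (.one ⟨16678, 1, 3⟩)))) (.node 4 (.node 2 (.node 1 (.one ⟨8854, 6, 4⟩) (.one ⟨8762, 6, 4⟩)) (.node 1 (.one ⟨2658, 3, 4⟩) (.one ⟨11958, 5, 5⟩))) (.node 2 (.node 1 (.one ⟨14968, 0, 4⟩) (.one ⟨13139, 0, 4⟩))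 (.node 1 (.one ⟨2843, 5, 5⟩) (.one ⟨14846, 0, 4⟩))))) (.node 8 (.node 4 (.node 2 (.node 1 (.one ⟨4451, 0, 3⟩) (.one ⟨13311, 5, 5⟩)) (.node 1 (.one ⟨13525, 0, 4⟩) (.one ⟨3874, 3, 1⟩))) (.node 2 (.node 1 (.one ⟨4357, 5, 5⟩) (.one ⟨11064, 5, 5⟩)) (.node 1 (.one ⟨8605, 4, 3⟩) (.one ⟨10625, 5, 4⟩)))) (.node 4 (.node 2 (.node 1 (.one ⟨14236, 6, 4⟩) (.one ⟨12678, 5, 3⟩)) (.node 1 (.one ⟨14670, 6, 4⟩) (.one ⟨7568, 5, 4⟩))) (.node 2 (.node 1 (.one ⟨9468, 5, 4⟩) (.one ⟨1633, 6, 4⟩)) (.node 1 (.one ⟨3793, 6, 3⟩) (.one ⟨10617, 6, 4⟩)))))))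
def par3_12_10 : Arr Par :=
  (.node 32 (.node 16 (.node 8 (.node 4 (.node 2 (.node 1 (.one ⟨2588, 3, 3⟩) (.one ⟨3634, 2, 2⟩)) (.node 1 (.one ⟨14744, 6, 4⟩) (.one ⟨16442, 5, 3⟩))) (.node 2 (.node 1 (.one ⟨4916, 0, 4⟩) (.one ⟨14112, 6, 4⟩)) (.node 1 (.one ⟨13579, 3, 3⟩) (.one ⟨15229, 0, 3⟩)))) (.node 4 (.node 2 (.node 1 (.one ⟨12210, 5, 5⟩) (.one ⟨11736, 5, 3⟩)) (.node 1 (.one ⟨10391, 5, 4⟩) (.one ⟨6114, 3, 3⟩))) (.node 2 (.node 1 (.one ⟨11203, 4, 3⟩) (.one ⟨12817, 3, 3⟩)) (.node 1 (.one ⟨14996, 3, 4⟩) (.one ⟨13493, 0, 4⟩))))) (.node 8 (.node 4 (.node 2 (.node 1 (.one ⟨9207, 5, 4⟩) (.one ⟨1744, 5, 3⟩)) (.node 1 (.one ⟨8928, 5, 4⟩) (.one ⟨10203, 6, 3⟩))) (.node 2 (.node 1 (.one ⟨10629, 6, 3⟩) (.one ⟨5416, 5,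 3⟩)) (.node 1 (.one ⟨12372, 3, 3⟩) (.one ⟨10780, 5, 3⟩)))) (.node 4 (.node 2 (.node 1 (.one ⟨16653, 5, 4⟩) (.one ⟨3223, 5, 4⟩)) (.node 1 (.one ⟨7809, 5, 4⟩) (.one ⟨4298, 5, 4⟩))) (.node 2 (.node 1 (.one ⟨6970, 5, 5⟩) (.one ⟨13251, 5, 2⟩)) (.node 1 (.one ⟨6997, 6, 4⟩) (.one ⟨15965, 5, 4⟩)))))) (.node 16 (.node 8 (.node 4 (.node 2 (.node 1 (.one ⟨5459, 6, 3⟩) (.one ⟨11244, 6, 5⟩)) (.node 1 (.one ⟨212, 6, 5⟩) (.one ⟨10981, 3, 3⟩))) (.node 2 (.node 1 (.one ⟨3943, 6, 5⟩) (.one ⟨14995, 5, 3⟩)) (.node 1 (.one ⟨5461, 0, 4⟩) (.one ⟨16200, 6, 2⟩)))) (.node 4 (.node 2 (.node 1 (.one ⟨16603, 4, 3⟩) (.one ⟨2216, 5, 4⟩)) (.node 1 (.one ⟨16186, 6, 4⟩) (.one ⟨9267, 5, 4⟩))) (.node 2 (.node 1 (.one ⟨12428, 4, 2⟩) (.one ⟨129,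 5, 2⟩)) (.node 1 (.one ⟨16226, 6, 2⟩) (.one ⟨1087, 5, 3⟩))))) (.node 8 (.node 4 (.node 2 (.node 1 (.one ⟨5105, 0, 4⟩) (.one ⟨13649, 6, 3⟩)) (.node 1 (.one ⟨8778, 4, 3⟩) (.one ⟨15170, 5, 5⟩))) (.node 2 (.node 1 (.one ⟨11160, 3, 2⟩) (.one ⟨5648, 3, 2⟩)) (.node 1 (.one ⟨5594, 6, 3⟩) (.one ⟨10247, 5, 5⟩)))) (.node 4 (.node 2 (.node 1 (.one ⟨14490, 6, 3⟩) (.one ⟨13655, 5, 4⟩)) (.node 1 (.one ⟨10023, 4, 2⟩) (.one ⟨14997, 6, 3⟩))) (.node 2 (.node 1 (.one ⟨7970, 5, 4⟩) (.one ⟨15891, 6, 3⟩)) (.node 1 (.one ⟨6662, 3, 2⟩) (.one ⟨2040, 5, 4⟩)))))))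
def par3_12_11 : Arr Par :=
  (.node 32 (.node 16 (.node 8 (.node 4 (.node 2 (.node 1 (.one ⟨4365, 3, 2⟩) (.one ⟨7495, 4, 3⟩)) (.node 1 (.one ⟨10000, 4, 3⟩) (.one ⟨9724, 4, 3⟩))) (.node 2 (.node 1 (.one ⟨11496, 5, 3⟩) (.one ⟨14348, 0, 3⟩)) (.node 1 (.one ⟨3606, 5, 3⟩) (.one ⟨5105, 4, 4⟩)))) (.node 4 (.node 2 (.node 1 (.one ⟨14320, 6, 3⟩) (.one ⟨8320, 6, 2⟩)) (.node 1 (.one ⟨12921, 0, 4⟩) (.one ⟨16326, 5, 3⟩))) (.node 2 (.node 1 (.one ⟨15214, 5, 5⟩) (.one ⟨4575, 4, 3⟩)) (.node 1 (.one ⟨16395, 5, 5⟩) (.one ⟨15182, 5, 4⟩))))) (.node 8 (.node 4 (.node 2 (.node 1 (.one ⟨3568, 0, 3⟩) (.one ⟨7971, 5, 2⟩)) (.node 1 (.one ⟨9000, 6, 4⟩) (.one ⟨6421, 5, 4⟩))) (.node 2 (.node 1 (.one ⟨15363, 6, 5⟩) (.one ⟨7565, 4, 3⟩))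 (.node 1 (.one ⟨15592, 4, 4⟩) (.one ⟨6098, 6, 3⟩)))) (.node 4 (.node 2 (.node 1 (.one ⟨11812, 5, 4⟩) (.one ⟨4741, 4, 3⟩)) (.node 1 (.one ⟨6877, 5, 3⟩) (.one ⟨729, 5, 5⟩))) (.node 2 (.node 1 (.one ⟨940, 6, 4⟩) (.one ⟨16530, 5, 4⟩)) (.node 1 (.one ⟨4688, 5, 4⟩) (.one ⟨12036, 6, 5⟩)))))) (.node 16 (.node 8 (.node 4 (.node 2 (.node 1 (.one ⟨3617, 6, 5⟩) (.one ⟨7567, 5, 4⟩)) (.node 1 (.one ⟨15656, 5, 3⟩) (.one ⟨4880, 6, 4⟩))) (.node 2 (.node 1 (.one ⟨7541, 5, 4⟩) (.one ⟨3936, 5, 5⟩)) (.node 1 (.one ⟨11991, 5, 5⟩) (.one ⟨1719, 5, 4⟩)))) (.node 4 (.node 2 (.node 1 (.one ⟨14384, 5, 3⟩) (.one ⟨1927, 3, 2⟩)) (.node 1 (.one ⟨13508, 3, 2⟩) (.one ⟨11532, 4, 3⟩))) (.node 2 (.node 1 (.one ⟨11167, 6, 3⟩) (.one ⟨5711, 5, 5⟩))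 (.node 1 (.one ⟨2601, 6, 4⟩) (.one ⟨3755, 5, 4⟩))))) (.node 8 (.node 4 (.node 2 (.node 1 (.one ⟨4507, 5, 5⟩) (.one ⟨9397, 5, 3⟩)) (.node 1 (.one ⟨10524, 5, 3⟩) (.one ⟨6480, 3, 3⟩))) (.node 2 (.node 1 (.one ⟨9086, 5, 4⟩) (.one ⟨14772, 5, 4⟩)) (.node 1 (.one ⟨15193, 5, 3⟩) (.one ⟨12133, 4, 1⟩)))) (.node 4 (.node 2 (.node 1 (.one ⟨9437, 6, 1⟩) (.one ⟨14512, 5, 4⟩)) (.node 1 (.one ⟨2172, 4, 1⟩) (.one ⟨258, 5, 3⟩))) (.node 2 (.node 1 (.one ⟨14886, 6, 3⟩) (.one ⟨16326, 6, 3⟩)) (.node 1 (.one ⟨14383, 6, 3⟩) (.one ⟨9562, 6, 4⟩)))))))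
def par3_12_12 : Arr Par :=
  (.node 32 (.node 16 (.node 8 (.node 4 (.node 2 (.node 1 (.one ⟨15820, 6, 4⟩) (.one ⟨3308, 6, 4⟩)) (.node 1 (.one ⟨8816, 6, 4⟩) (.one ⟨1790, 5, 4⟩))) (.node 2 (.node 1 (.one ⟨13213, 5, 5⟩) (.one ⟨3238, 5, 4⟩)) (.node 1 (.one ⟨10152, 1, 3⟩) (.one ⟨4541, 5, 4⟩)))) (.node 4 (.node 2 (.node 1 (.one ⟨12605, 6, 4⟩) (.one ⟨865, 6, 3⟩)) (.node 1 (.one ⟨13566, 0, 2⟩) (.one ⟨14829, 5, 4⟩))) (.node 2 (.node 1 (.one ⟨5511, 3, 3⟩) (.one ⟨243, 5, 3⟩)) (.node 1 (.one ⟨13141, 6, 4⟩) (.one ⟨1899, 4, 4⟩))))) (.node 8 (.node 4 (.node 2 (.node 1 (.one ⟨871, 5, 5⟩) (.one ⟨4953, 6, 5⟩)) (.node 1 (.one ⟨1900, 4, 4⟩) (.one ⟨2353, 6, 3⟩))) (.node 2 (.node 1 (.one ⟨12817, 6, 3⟩) (.one ⟨136, 4, 4⟩)) (.node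 1 (.one ⟨1923, 6, 3⟩) (.one ⟨16923, 5, 3⟩)))) (.node 4 (.node 2 (.node 1 (.one ⟨9580, 3, 3⟩) (.one ⟨6921, 4, 3⟩)) (.node 1 (.one ⟨12684, 5, 3⟩) (.one ⟨15442, 5, 4⟩))) (.node 2 (.node 1 (.one ⟨8174, 5, 4⟩) (.one ⟨14397, 4, 3⟩)) (.node 1 (.one ⟨10855, 5, 4⟩) (.one ⟨14498, 6, 4⟩)))))) (.node 16 (.node 8 (.node 4 (.node 2 (.node 1 (.one ⟨7033, 5, 5⟩) (.one ⟨1417, 5, 2⟩)) (.node 1 (.one ⟨6626, 5, 3⟩) (.one ⟨15946, 5, 2⟩))) (.node 2 (.node 1 (.one ⟨11707, 6, 3⟩) (.one ⟨3531, 6, 3⟩)) (.node 1 (.one ⟨6924, 6, 3⟩) (.one ⟨14740, 6, 3⟩)))) (.node 4 (.node 2 (.node 1 (.one ⟨9812, 4, 2⟩) (.one ⟨12116, 4, 4⟩)) (.node 1 (.one ⟨10038, 4, 2⟩) (.one ⟨6480, 5, 3⟩))) (.node 2 (.node 1 (.one ⟨16286, 3, 3⟩) (.one ⟨7292, 0, 4⟩))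 (.node 1 (.one ⟨13303, 1, 4⟩) (.one ⟨8910, 4, 3⟩))))) (.node 8 (.node 4 (.node 2 (.node 1 (.one ⟨10600, 6, 3⟩) (.one ⟨1086, 2, 2⟩)) (.node 1 (.one ⟨13982, 4, 3⟩) (.one ⟨15337, 6, 5⟩))) (.node 2 (.node 1 (.one ⟨13021, 5, 5⟩) (.one ⟨7114, 5, 4⟩)) (.node 1 (.one ⟨15793, 3, 4⟩) (.one ⟨2881, 1, 4⟩)))) (.node 4 (.node 2 (.node 1 (.one ⟨6929, 6, 4⟩) (.one ⟨16799, 5, 4⟩)) (.node 1 (.one ⟨5517, 6, 4⟩) (.one ⟨1148, 5, 3⟩))) (.node 2 (.node 1 (.one ⟨12327, 5, 4⟩) (.one ⟨8215, 6, 3⟩)) (.node 1 (.one ⟨16810, 5, 4⟩) (.one ⟨9867, 0, 4⟩)))))))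
def par3_12_13 : Arr Par :=
  (.node 32 (.node 16 (.node 8 (.node 4 (.node 2 (.node 1 (.one ⟨5235, 0, 4⟩) (.one ⟨8450, 5, 3⟩)) (.node 1 (.one ⟨6243, 3, 4⟩) (.one ⟨13163, 0, 4⟩))) (.node 2 (.node 1 (.one ⟨9688, 5, 5⟩) (.one ⟨7409, 5, 3⟩)) (.node 1 (.one ⟨10537, 0, 4⟩) (.one ⟨16585, 6, 5⟩)))) (.node 4 (.node 2 (.node 1 (.one ⟨9375, 5, 5⟩) (.one ⟨8309, 5, 3⟩)) (.node 1 (.one ⟨11959, 5, 3⟩) (.one ⟨6775, 6, 5⟩))) (.node 2 (.node 1 (.one ⟨10836, 6, 4⟩) (.one ⟨11155, 4, 2⟩)) (.node 1 (.one ⟨5127, 1, 1⟩) (.one ⟨11370, 5, 4⟩))))) (.node 8 (.node 4 (.node 2 (.node 1 (.one ⟨12975, 5, 4⟩) (.one ⟨9732, 6, 4⟩)) (.node 1 (.one ⟨14945, 6, 5⟩) (.one ⟨11532, 5, 3⟩))) (.node 2 (.node 1 (.one ⟨12768, 5, 4⟩) (.one ⟨4919, 6, 3⟩))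 (.node 1 (.one ⟨7723, 6, 5⟩) (.one ⟨2461, 6, 4⟩)))) (.node 4 (.node 2 (.node 1 (.one ⟨5541, 4, 3⟩) (.one ⟨10190, 6, 2⟩)) (.node 1 (.one ⟨1700, 4, 3⟩) (.one ⟨13487, 6, 4⟩))) (.node 2 (.node 1 (.one ⟨4168, 5, 4⟩) (.one ⟨6629, 5, 4⟩)) (.node 1 (.one ⟨9956, 5, 4⟩) (.one ⟨3879, 4, 3⟩)))))) (.node 16 (.node 8 (.node 4 (.node 2 (.node 1 (.one ⟨10416, 3, 5⟩) (.one ⟨16315, 6, 3⟩)) (.node 1 (.one ⟨17115, 3, 4⟩) (.one ⟨2002, 5, 4⟩))) (.node 2 (.node 1 (.one ⟨1198, 3, 3⟩) (.one ⟨8174, 6, 4⟩)) (.node 1 (.one ⟨15111, 6, 2⟩) (.one ⟨922, 4, 3⟩)))) (.node 4 (.node 2 (.node 1 (.one ⟨14122, 5, 4⟩) (.one ⟨1281, 3, 1⟩)) (.node 1 (.one ⟨3951, 6, 3⟩) (.one ⟨14057, 5, 3⟩))) (.node 2 (.node 1 (.one ⟨2467, 6, 2⟩) (.one ⟨6028, 5, 4⟩))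 (.node 1 (.one ⟨12683, 5, 4⟩) (.one ⟨6480, 4, 3⟩))))) (.node 8 (.node 4 (.node 2 (.node 1 (.one ⟨1877, 6, 4⟩) (.one ⟨13732, 0, 3⟩)) (.node 1 (.one ⟨7664, 5, 4⟩) (.one ⟨2338, 6, 3⟩))) (.node 2 (.node 1 (.one ⟨11253, 5, 3⟩) (.one ⟨4652, 6, 2⟩)) (.node 1 (.one ⟨4714, 4, 3⟩) (.one ⟨5161, 1, 4⟩)))) (.node 4 (.node 2 (.node 1 (.one ⟨9683, 4, 4⟩) (.one ⟨13145, 1, 3⟩)) (.node 1 (.one ⟨3650, 5, 3⟩) (.one ⟨266, 6, 4⟩))) (.node 2 (.node 1 (.one ⟨11864, 6, 2⟩) (.one ⟨15985, 6, 4⟩)) (.node 1 (.one ⟨11764, 5, 4⟩) (.one ⟨5118, 0, 3⟩)))))))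
def par3_12_14 : Arr Par :=
  (.node 32 (.node 16 (.node 8 (.node 4 (.node 2 (.node 1 (.one ⟨15006, 5, 5⟩) (.one ⟨5793, 5, 3⟩)) (.node 1 (.one ⟨13015, 5, 4⟩) (.one ⟨5330, 6, 4⟩))) (.node 2 (.node 1 (.one ⟨5332, 6, 4⟩) (.one ⟨5328, 6, 2⟩)) (.node 1 (.one ⟨5334, 6, 4⟩) (.one ⟨13222, 0, 3⟩)))) (.node 4 (.node 2 (.node 1 (.one ⟨4394, 5, 4⟩) (.one ⟨8760, 3, 4⟩)) (.node 1 (.one ⟨15785, 4, 3⟩) (.one ⟨15573, 6, 4⟩))) (.node 2 (.node 1 (.one ⟨1906, 3, 2⟩) (.one ⟨5439, 6, 4⟩)) (.node 1 (.one ⟨9176, 2, 3⟩) (.one ⟨6008, 5, 3⟩))))) (.node 8 (.node 4 (.node 2 (.node 1 (.one ⟨16120, 6, 2⟩) (.one ⟨5705, 6, 3⟩)) (.node 1 (.one ⟨1477, 3, 2⟩) (.one ⟨375, 6, 3⟩))) (.node 2 (.node 1 (.one ⟨10267, 6, 3⟩) (.one ⟨14327, 0, 3⟩)) (.node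 1 (.one ⟨11770, 6, 4⟩) (.one ⟨16888, 6, 2⟩)))) (.node 4 (.node 2 (.node 1 (.one ⟨6380, 6, 2⟩) (.one ⟨1485, 2, 2⟩)) (.node 1 (.one ⟨9895, 6, 2⟩) (.one ⟨15264, 5, 5⟩))) (.node 2 (.node 1 (.one ⟨1928, 5, 4⟩) (.one ⟨9676, 5, 4⟩)) (.node 1 (.one ⟨8716, 4, 2⟩) (.one ⟨15396, 6, 4⟩)))))) (.node 16 (.node 8 (.node 4 (.node 2 (.node 1 (.one ⟨12229, 5, 4⟩) (.one ⟨15000, 5, 2⟩)) (.node 1 (.one ⟨11685, 5, 5⟩) (.one ⟨6013, 4, 4⟩))) (.node 2 (.node 1 (.one ⟨5526, 5, 4⟩) (.one ⟨6153, 5, 4⟩)) (.node 1 (.one ⟨2689, 6, 2⟩) (.one ⟨5261, 5, 4⟩)))) (.node 4 (.node 2 (.node 1 (.one ⟨14379, 0, 4⟩) (.one ⟨9171, 3, 3⟩)) (.node 1 (.one ⟨12980, 5, 3⟩) (.one ⟨10423, 6, 3⟩))) (.node 2 (.node 1 (.one ⟨12796, 4, 3⟩) (.one ⟨14516, 6, 4⟩))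 (.node 1 (.one ⟨14189, 6, 5⟩) (.one ⟨14304, 6, 2⟩))))) (.node 8 (.node 4 (.node 2 (.node 1 (.one ⟨11335, 6, 4⟩) (.one ⟨15044, 5, 5⟩)) (.node 1 (.one ⟨1338, 5, 5⟩) (.one ⟨3861, 4, 3⟩))) (.node 2 (.node 1 (.one ⟨16479, 6, 4⟩) (.one ⟨7187, 5, 5⟩)) (.node 1 (.one ⟨6745, 6, 3⟩) (.one ⟨716, 3, 5⟩)))) (.node 4 (.node 2 (.node 1 (.one ⟨5847, 0, 4⟩) (.one ⟨8972, 2, 3⟩)) (.node 1 (.one ⟨2353, 3, 3⟩) (.one ⟨9017, 0, 3⟩))) (.node 2 (.node 1 (.one ⟨10020, 6, 2⟩) (.one ⟨12647, 5, 4⟩)) (.node 1 (.one ⟨12633, 5, 3⟩) (.one ⟨2366, 3, 4⟩)))))))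
def par3_12_15 : Arr Par :=
  (.node 32 (.node 16 (.node 8 (.node 4 (.node 2 (.node 1 (.one ⟨5818, 0, 3⟩) (.one ⟨12470, 5, 5⟩)) (.node 1 (.one ⟨3446, 4, 2⟩) (.one ⟨3698, 1, 1⟩))) (.node 2 (.node 1 (.one ⟨9505, 5, 5⟩) (.one ⟨8667, 5, 4⟩)) (.node 1 (.one ⟨13158, 0, 3⟩) (.one ⟨8044, 6, 4⟩)))) (.node 4 (.node 2 (.node 1 (.one ⟨3768, 6, 5⟩) (.one ⟨5971, 5, 2⟩)) (.node 1 (.one ⟨17041, 6, 5⟩) (.one ⟨16293, 3, 3⟩))) (.node 2 (.node 1 (.one ⟨4748, 6, 3⟩) (.one ⟨12231, 6, 5⟩)) (.node 1 (.one ⟨678, 5, 2⟩) (.one ⟨6666, 1, 4⟩))))) (.node 8 (.node 4 (.node 2 (.node 1 (.one ⟨8801, 6, 4⟩) (.one ⟨3757, 5, 3⟩)) (.node 1 (.one ⟨7926, 6, 4⟩) (.one ⟨16760, 6, 2⟩))) (.node 2 (.node 1 (.one ⟨6575, 5, 5⟩) (.one ⟨16230, 6, 5⟩)) (.node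 1 (.one ⟨4593, 6, 3⟩) (.one ⟨14568, 6, 2⟩)))) (.node 4 (.node 2 (.node 1 (.one ⟨359, 5, 2⟩) (.one ⟨12161, 5, 4⟩)) (.node 1 (.one ⟨2223, 5, 3⟩) (.one ⟨12466, 5, 4⟩))) (.node 2 (.node 1 (.one ⟨2567, 5, 3⟩) (.one ⟨6478, 6, 2⟩)) (.node 1 (.one ⟨6807, 4, 3⟩) (.one ⟨9777, 6, 4⟩)))))) (.node 16 (.node 8 (.node 4 (.node 2 (.node 1 (.one ⟨12490, 5, 5⟩) (.one ⟨11341, 6, 4⟩)) (.node 1 (.one ⟨3216, 6, 2⟩) (.one ⟨15065, 5, 3⟩))) (.node 2 (.node 1 (.one ⟨7134, 6, 4⟩) (.one ⟨6360, 3, 3⟩)) (.node 1 (.one ⟨5052, 0, 3⟩) (.one ⟨9130, 5, 3⟩)))) (.node 4 (.node 2 (.node 1 (.one ⟨9073, 4, 3⟩) (.one ⟨15039, 5, 4⟩)) (.node 1 (.one ⟨878, 6, 4⟩) (.one ⟨10304, 6, 4⟩))) (.node 2 (.node 1 (.one ⟨10310, 6, 4⟩) (.one ⟨10307, 6, 5⟩)) (.node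 1 (.one ⟨16446, 5, 3⟩) (.one ⟨10820, 4, 3⟩))))) (.node 8 (.node 4 (.node 2 (.node 1 (.one ⟨6689, 6, 3⟩) (.one ⟨17071, 6, 4⟩)) (.node 1 (.one ⟨12281, 6, 4⟩) (.one ⟨6639, 1, 3⟩))) (.node 2 (.node 1 (.one ⟨8802, 5, 2⟩) (.one ⟨9461, 6, 3⟩)) (.node 1 (.one ⟨16993, 5, 2⟩) (.one ⟨6547, 6, 3⟩)))) (.node 4 (.node 2 (.node 1 (.one ⟨14907, 2, 3⟩) (.one ⟨4680, 5, 4⟩)) (.node 1 (.one ⟨13999, 5, 3⟩) (.one ⟨10780, 6, 3⟩))) (.node 2 (.node 1 (.one ⟨7026, 5, 4⟩) (.one ⟨1345, 5, 2⟩)) (.node 1 (.one ⟨2345, 4, 4⟩) (.one ⟨8210, 5, 4⟩)))))))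
def par3_12 : Arr Par :=
  (.node 512 (.node 256 (.node 128 (.node 64 par3_12_0 par3_12_1) (.node 64 par3_12_2 par3_12_3)) (.node 128 (.node 64 par3_12_4 par3_12_5) (.node 64 par3_12_6 par3_12_7))) (.node 256 (.node 128 (.node 64 par3_12_8 par3_12_9) (.node 64 par3_12_10 par3_12_11)) (.node 128 (.node 64 par3_12_12 par3_12_13) (.node 64 par3_12_14 par3_12_15))))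
def par3_13_0 : Arr Par :=
  (.node 32 (.node 16 (.node 8 (.node 4 (.node 2 (.node 1 (.one ⟨10896, 6, 5⟩) (.one ⟨4207, 5, 4⟩)) (.node 1 (.one ⟨14207, 5, 4⟩) (.one ⟨471, 6, 4⟩))) (.node 2 (.node 1 (.one ⟨7787, 3, 4⟩) (.one ⟨6134, 5, 4⟩)) (.node 1 (.one ⟨12325, 5, 4⟩) (.one ⟨5802, 1, 5⟩)))) (.node 4 (.node 2 (.node 1 (.one ⟨16192, 5, 3⟩) (.one ⟨5905, 1, 5⟩)) (.node 1 (.one ⟨455, 6, 5⟩) (.one ⟨9627, 5, 3⟩))) (.node 2 (.node 1 (.one ⟨15452, 0, 3⟩) (.one ⟨3, 4, 2⟩)) (.node 1 (.one ⟨4949, 1, 5⟩) (.one ⟨14760, 1, 2⟩))))) (.node 8 (.node 4 (.node 2 (.node 1 (.one ⟨7334, 6, 4⟩) (.one ⟨11131, 1, 2⟩)) (.node 1 (.one ⟨5924, 6, 3⟩) (.one ⟨9724, 5, 3⟩))) (.node 2 (.node 1 (.one ⟨15320, 6, 4⟩) (.one ⟨9222, 6, 5⟩)) (.node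 1 (.one ⟨3999, 5, 4⟩) (.one ⟨13054, 1, 4⟩)))) (.node 4 (.node 2 (.node 1 (.one ⟨4934, 1, 3⟩) (.one ⟨14817, 5, 5⟩)) (.node 1 (.one ⟨8414, 1, 4⟩) (.one ⟨2761, 6, 4⟩))) (.node 2 (.node 1 (.one ⟨13862, 1, 4⟩) (.one ⟨15494, 5, 3⟩)) (.node 1 (.one ⟨11266, 0, 4⟩) (.one ⟨13895, 0, 4⟩)))))) (.node 16 (.node 8 (.node 4 (.node 2 (.node 1 (.one ⟨8993, 0, 4⟩) (.one ⟨9480, 5, 4⟩)) (.node 1 (.one ⟨16009, 0, 4⟩) (.one ⟨2453, 4, 3⟩))) (.node 2 (.node 1 (.one ⟨9731, 5, 3⟩) (.one ⟨15028, 5, 4⟩)) (.node 1 (.one ⟨14766, 5, 3⟩) (.one ⟨10177, 1, 5⟩)))) (.node 4 (.node 2 (.node 1 (.one ⟨10666, 3, 4⟩) (.one ⟨6734, 5, 3⟩)) (.node 1 (.one ⟨8992, 4, 3⟩) (.one ⟨5553, 6, 2⟩))) (.node 2 (.node 1 (.one ⟨4854, 6, 5⟩) (.one ⟨11864, 0, 2⟩))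 (.node 1 (.one ⟨105, 5, 3⟩) (.one ⟨16120, 1, 2⟩))))) (.node 8 (.node 4 (.node 2 (.node 1 (.one ⟨15545, 0, 4⟩) (.one ⟨15014, 1, 2⟩)) (.node 1 (.one ⟨2473, 3, 3⟩) (.one ⟨7152, 6, 4⟩))) (.node 2 (.node 1 (.one ⟨1911, 0, 4⟩) (.one ⟨16566, 5, 4⟩)) (.node 1 (.one ⟨10453, 6, 4⟩) (.one ⟨9624, 5, 4⟩)))) (.node 4 (.node 2 (.node 1 (.one ⟨6038, 5, 5⟩) (.one ⟨6829, 6, 4⟩)) (.node 1 (.one ⟨3459, 5, 5⟩) (.one ⟨16562, 5, 4⟩))) (.node 2 (.node 1 (.one ⟨4699, 5, 2⟩) (.one ⟨12495, 5, 4⟩)) (.node 1 (.one ⟨16425, 4, 4⟩) (.one ⟨8519, 5, 4⟩)))))))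
def par3_13_1 : Arr Par :=
  (.node 32 (.node 16 (.node 8 (.node 4 (.node 2 (.node 1 (.one ⟨6813, 5, 3⟩) (.one ⟨11261, 5, 4⟩)) (.node 1 (.one ⟨13599, 5, 3⟩) (.one ⟨4434, 5, 2⟩))) (.node 2 (.node 1 (.one ⟨2252, 5, 4⟩) (.one ⟨13942, 5, 5⟩)) (.node 1 (.one ⟨12675, 4, 5⟩) (.one ⟨1904, 6, 3⟩)))) (.node 4 (.node 2 (.node 1 (.one ⟨7190, 6, 3⟩) (.one ⟨7405, 6, 3⟩)) (.node 1 (.one ⟨2112, 6, 3⟩) (.one ⟨2900, 5, 5⟩))) (.node 2 (.node 1 (.one ⟨6809, 6, 3⟩) (.one ⟨9248, 5, 4⟩)) (.node 1 (.one ⟨13562, 5, 4⟩) (.one ⟨9648, 5, 5⟩))))) (.node 8 (.node 4 (.node 2 (.node 1 (.one ⟨11532, 0, 3⟩) (.one ⟨3335, 6, 5⟩)) (.node 1 (.one ⟨8003, 5, 3⟩) (.one ⟨17026, 4, 4⟩))) (.node 2 (.node 1 (.one ⟨7703, 6, 5⟩) (.one ⟨15785, 5, 3⟩)) (.node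 1 (.one ⟨14384, 6, 3⟩) (.one ⟨1838, 6, 3⟩)))) (.node 4 (.node 2 (.node 1 (.one ⟨15135, 6, 4⟩) (.one ⟨7355, 6, 5⟩)) (.node 1 (.one ⟨10283, 5, 2⟩) (.one ⟨6886, 6, 3⟩))) (.node 2 (.node 1 (.one ⟨2522, 4, 3⟩) (.one ⟨2546, 6, 5⟩)) (.node 1 (.one ⟨15349, 6, 3⟩) (.one ⟨10406, 6, 4⟩)))))) (.node 16 (.node 8 (.node 4 (.node 2 (.node 1 (.one ⟨2484, 1, 0⟩) (.one ⟨10568, 3, 4⟩)) (.node 1 (.one ⟨12957, 5, 3⟩) (.one ⟨4204, 1, 0⟩))) (.node 2 (.node 1 (.one ⟨15372, 5, 4⟩) (.one ⟨1074, 1, 0⟩)) (.node 1 (.one ⟨15889, 5, 4⟩) (.one ⟨13511, 1, 1⟩)))) (.node 4 (.node 2 (.node 1 (.one ⟨7443, 0, 3⟩) (.one ⟨3683, 5, 5⟩)) (.node 1 (.one ⟨13173, 0, 3⟩) (.one ⟨950, 1, 1⟩))) (.node 2 (.node 1 (.one ⟨6178, 4, 3⟩) (.one ⟨3377, 6, 2⟩)) (.node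 1 (.one ⟨6448, 6, 5⟩) (.one ⟨16489, 3, 5⟩))))) (.node 8 (.node 4 (.node 2 (.node 1 (.one ⟨13303, 6, 4⟩) (.one ⟨13207, 6, 3⟩)) (.node 1 (.one ⟨8487, 4, 4⟩) (.one ⟨16147, 1, 2⟩))) (.node 2 (.node 1 (.one ⟨14394, 4, 4⟩) (.one ⟨10890, 4, 4⟩)) (.node 1 (.one ⟨11736, 4, 3⟩) (.one ⟨16848, 6, 5⟩)))) (.node 4 (.node 2 (.node 1 (.one ⟨12673, 4, 3⟩) (.one ⟨12927, 3, 5⟩)) (.node 1 (.one ⟨5371, 6, 4⟩) (.one ⟨10596, 6, 4⟩))) (.node 2 (.node 1 (.one ⟨1909, 5, 3⟩) (.one ⟨13207, 3, 3⟩)) (.node 1 (.one ⟨6880, 5, 5⟩) (.one ⟨14296, 4, 4⟩)))))))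
def par3_13_2 : Arr Par :=
  (.node 32 (.node 16 (.node 8 (.node 4 (.node 2 (.node 1 (.one ⟨3457, 6, 5⟩) (.one ⟨953, 4, 3⟩)) (.node 1 (.one ⟨14019, 5, 3⟩) (.one ⟨331, 5, 5⟩))) (.node 2 (.node 1 (.one ⟨480, 5, 5⟩) (.one ⟨14995, 6, 3⟩)) (.node 1 (.one ⟨7604, 6, 4⟩) (.one ⟨5415, 6, 4⟩)))) (.node 4 (.node 2 (.node 1 (.one ⟨9531, 5, 4⟩) (.one ⟨9532, 5, 5⟩)) (.node 1 (.one ⟨9528, 5, 2⟩) (.one ⟨609, 5, 5⟩))) (.node 2 (.node 1 (.one ⟨84, 5, 5⟩) (.one ⟨292, 6, 5⟩)) (.node 1 (.one ⟨7042, 6, 5⟩) (.one ⟨7124, 5, 4⟩))))) (.node 8 (.node 4 (.node 2 (.node 1 (.one ⟨11539, 0, 3⟩) (.one ⟨6496, 5, 5⟩)) (.node 1 (.one ⟨11450, 5, 5⟩) (.one ⟨10599, 6, 2⟩))) (.node 2 (.node 1 (.one ⟨12079, 6, 4⟩) (.one ⟨5084, 6, 4⟩)) (.node 1 (.one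 ⟨3368, 4, 4⟩) (.one ⟨8464, 6, 2⟩)))) (.node 4 (.node 2 (.node 1 (.one ⟨9783, 0, 4⟩) (.one ⟨12365, 5, 3⟩)) (.node 1 (.one ⟨6643, 5, 4⟩) (.one ⟨16998, 6, 4⟩))) (.node 2 (.node 1 (.one ⟨3716, 6, 4⟩) (.one ⟨17097, 5, 3⟩)) (.node 1 (.one ⟨6634, 4, 3⟩) (.one ⟨13050, 6, 2⟩)))))) (.node 16 (.node 8 (.node 4 (.node 2 (.node 1 (.one ⟨13432, 5, 4⟩) (.one ⟨8862, 6, 4⟩)) (.node 1 (.one ⟨13984, 6, 3⟩) (.one ⟨3635, 0, 4⟩))) (.node 2 (.node 1 (.one ⟨5399, 5, 4⟩) (.one ⟨14339, 3, 3⟩)) (.node 1 (.one ⟨5419, 5, 4⟩) (.one ⟨2893, 5, 3⟩)))) (.node 4 (.node 2 (.node 1 (.one ⟨7333, 6, 3⟩) (.one ⟨950, 3, 1⟩)) (.node 1 (.one ⟨2590, 5, 3⟩) (.one ⟨16418, 6, 3⟩))) (.node 2 (.node 1 (.one ⟨1289, 5, 4⟩) (.one ⟨3233, 5, 4⟩)) (.node 1 (.one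 ⟨13180, 0, 3⟩) (.one ⟨1516, 5, 3⟩))))) (.node 8 (.node 4 (.node 2 (.node 1 (.one ⟨2608, 5, 4⟩) (.one ⟨6201, 0, 4⟩)) (.node 1 (.one ⟨14889, 6, 4⟩) (.one ⟨7125, 6, 4⟩))) (.node 2 (.node 1 (.one ⟨7391, 5, 3⟩) (.one ⟨3230, 6, 3⟩)) (.node 1 (.one ⟨8411, 6, 5⟩) (.one ⟨11186, 6, 5⟩)))) (.node 4 (.node 2 (.node 1 (.one ⟨1748, 6, 4⟩) (.one ⟨4836, 4, 2⟩)) (.node 1 (.one ⟨6734, 4, 3⟩) (.one ⟨16044, 1, 2⟩))) (.node 2 (.node 1 (.one ⟨9507, 5, 3⟩) (.one ⟨16074, 5, 5⟩)) (.node 1 (.one ⟨15226, 5, 5⟩) (.one ⟨6306, 6, 4⟩)))))))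
def par3_13_3 : Arr Par :=
  (.node 32 (.node 16 (.node 8 (.node 4 (.node 2 (.node 1 (.one ⟨5384, 1, 4⟩) (.one ⟨9604, 3, 3⟩)) (.node 1 (.one ⟨2254, 5, 4⟩) (.one ⟨9084, 5, 2⟩))) (.node 2 (.node 1 (.one ⟨3542, 1, 1⟩) (.one ⟨57, 6, 4⟩)) (.node 1 (.one ⟨5476, 0, 4⟩) (.one ⟨146, 1, 0⟩)))) (.node 4 (.node 2 (.node 1 (.one ⟨15306, 5, 4⟩) (.one ⟨5223, 5, 5⟩)) (.node 1 (.one ⟨15827, 5, 4⟩) (.one ⟨9347, 4, 2⟩))) (.node 2 (.node 1 (.one ⟨13480, 3, 4⟩) (.one ⟨16476, 5, 3⟩)) (.node 1 (.one ⟨3983, 5, 4⟩) (.one ⟨3268, 5, 5⟩))))) (.node 8 (.node 4 (.node 2 (.node 1 (.one ⟨13480, 1, 4⟩) (.one ⟨14771, 5, 4⟩)) (.node 1 (.one ⟨13677, 5, 4⟩) (.one ⟨16964, 4, 4⟩))) (.node 2 (.node 1 (.one ⟨9220, 5, 4⟩) (.one ⟨7405, 5, 3⟩)) (.node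 1 (.one ⟨3244, 6, 4⟩) (.one ⟨9332, 6, 4⟩)))) (.node 4 (.node 2 (.node 1 (.one ⟨10581, 4, 3⟩) (.one ⟨6748, 6, 4⟩)) (.node 1 (.one ⟨6902, 4, 3⟩) (.one ⟨9779, 6, 4⟩))) (.node 2 (.node 1 (.one ⟨9599, 3, 3⟩) (.one ⟨2092, 5, 4⟩)) (.node 1 (.one ⟨14960, 6, 3⟩) (.one ⟨5172, 5, 4⟩)))))) (.node 16 (.node 8 (.node 4 (.node 2 (.node 1 (.one ⟨4402, 5, 3⟩) (.one ⟨10089, 5, 4⟩)) (.node 1 (.one ⟨10893, 5, 4⟩) (.one ⟨3563, 3, 2⟩))) (.node 2 (.node 1 (.one ⟨11987, 4, 3⟩) (.one ⟨9348, 4, 2⟩)) (.node 1 (.one ⟨4876, 0, 3⟩) (.one ⟨5449, 0, 3⟩)))) (.node 4 (.node 2 (.node 1 (.one ⟨4641, 0, 3⟩) (.one ⟨5454, 6, 4⟩)) (.node 1 (.one ⟨6264, 0, 5⟩) (.one ⟨16775, 5, 3⟩))) (.node 2 (.node 1 (.one ⟨16782, 5, 3⟩) (.one ⟨7716, 6, 4⟩)) (.node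 1 (.one ⟨16780, 5, 5⟩) (.one ⟨4808, 5, 2⟩))))) (.node 8 (.node 4 (.node 2 (.node 1 (.one ⟨6833, 6, 4⟩) (.one ⟨1351, 2, 2⟩)) (.node 1 (.one ⟨12143, 5, 4⟩) (.one ⟨13277, 0, 3⟩))) (.node 2 (.node 1 (.one ⟨11307, 5, 4⟩) (.one ⟨5006, 0, 3⟩)) (.node 1 (.one ⟨8966, 3, 2⟩) (.one ⟨505, 6, 4⟩)))) (.node 4 (.node 2 (.node 1 (.one ⟨7286, 1, 5⟩) (.one ⟨13304, 3, 4⟩)) (.node 1 (.one ⟨9420, 5, 3⟩) (.one ⟨8499, 5, 3⟩))) (.node 2 (.node 1 (.one ⟨8651, 1, 5⟩) (.one ⟨1329, 4, 3⟩)) (.node 1 (.one ⟨121, 6, 1⟩) (.one ⟨16365, 6, 3⟩)))))))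
def par3_13_4 : Arr Par :=
  (.node 32 (.node 16 (.node 8 (.node 4 (.node 2 (.node 1 (.one ⟨12105, 5, 5⟩) (.one ⟨10601, 5, 2⟩)) (.node 1 (.one ⟨1844, 0, 4⟩) (.one ⟨3861, 5, 3⟩))) (.node 2 (.node 1 (.one ⟨12883, 3, 3⟩) (.one ⟨3819, 5, 4⟩)) (.node 1 (.one ⟨10674, 0, 3⟩) (.one ⟨1341, 3, 3⟩)))) (.node 4 (.node 2 (.node 1 (.one ⟨7663, 5, 4⟩) (.one ⟨3074, 5, 5⟩)) (.node 1 (.one ⟨2243, 6, 3⟩) (.one ⟨12454, 6, 2⟩))) (.node 2 (.node 1 (.one ⟨15415, 5, 3⟩) (.one ⟨12410, 5, 3⟩)) (.node 1 (.one ⟨4959, 5, 3⟩) (.one ⟨17113, 6, 4⟩))))) (.node 8 (.node 4 (.node 2 (.node 1 (.one ⟨2865, 5, 4⟩) (.one ⟨8966, 1, 2⟩)) (.node 1 (.one ⟨12239, 5, 4⟩) (.one ⟨10040, 5, 5⟩))) (.node 2 (.node 1 (.one ⟨5139, 6, 4⟩) (.one ⟨1337, 3, 3⟩))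 (.node 1 (.one ⟨2852, 5, 4⟩) (.one ⟨12130, 3, 1⟩)))) (.node 4 (.node 2 (.node 1 (.one ⟨1332, 4, 4⟩) (.one ⟨6616, 5, 4⟩)) (.node 1 (.one ⟨12129, 6, 5⟩) (.one ⟨1281, 5, 1⟩))) (.node 2 (.node 1 (.one ⟨5518, 0, 3⟩) (.one ⟨7192, 6, 3⟩)) (.node 1 (.one ⟨1893, 0, 3⟩) (.one ⟨4684, 5, 2⟩)))))) (.node 16 (.node 8 (.node 4 (.node 2 (.node 1 (.one ⟨3292, 5, 3⟩) (.one ⟨4813, 5, 3⟩)) (.node 1 (.one ⟨3698, 3, 1⟩) (.one ⟨3165, 6, 5⟩))) (.node 2 (.node 1 (.one ⟨8788, 6, 5⟩) (.one ⟨11, 6, 5⟩)) (.node 1 (.one ⟨10705, 0, 4⟩) (.one ⟨7884, 5, 4⟩)))) (.node 4 (.node 2 (.node 1 (.one ⟨11208, 6, 4⟩) (.one ⟨6337, 6, 4⟩)) (.node 1 (.one ⟨11495, 6, 2⟩) (.one ⟨2040, 6, 4⟩))) (.node 2 (.node 1 (.one ⟨16030, 5, 3⟩) (.one ⟨268, 6, 4⟩)) (.node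 1 (.one ⟨14785, 5, 4⟩) (.one ⟨2363, 6, 3⟩))))) (.node 8 (.node 4 (.node 2 (.node 1 (.one ⟨5503, 6, 4⟩) (.one ⟨12959, 5, 5⟩)) (.node 1 (.one ⟨8709, 4, 4⟩) (.one ⟨10021, 3, 2⟩))) (.node 2 (.node 1 (.one ⟨5352, 5, 4⟩) (.one ⟨10023, 1, 2⟩)) (.node 1 (.one ⟨13602, 5, 2⟩) (.one ⟨7138, 5, 3⟩)))) (.node 4 (.node 2 (.node 1 (.one ⟨11981, 5, 4⟩) (.one ⟨6541, 5, 4⟩)) (.node 1 (.one ⟨13407, 5, 5⟩) (.one ⟨7634, 6, 4⟩))) (.node 2 (.node 1 (.one ⟨14423, 6, 4⟩) (.one ⟨16432, 5, 4⟩)) (.node 1 (.one ⟨9838, 6, 5⟩) (.one ⟨3277, 4, 4⟩)))))))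
def par3_13_5 : Arr Par :=
  (.node 32 (.node 16 (.node 8 (.node 4 (.node 2 (.node 1 (.one ⟨9832, 6, 3⟩) (.one ⟨9543, 6, 3⟩)) (.node 1 (.one ⟨16638, 5, 4⟩) (.one ⟨4799, 4, 3⟩))) (.node 2 (.node 1 (.one ⟨3910, 4, 4⟩) (.one ⟨8436, 4, 4⟩)) (.node 1 (.one ⟨5882, 6, 5⟩) (.one ⟨13867, 6, 4⟩)))) (.node 4 (.node 2 (.node 1 (.one ⟨14997, 4, 3⟩) (.one ⟨15657, 5, 5⟩)) (.node 1 (.one ⟨10999, 5, 5⟩) (.one ⟨15969, 6, 5⟩))) (.node 2 (.node 1 (.one ⟨13130, 6, 4⟩) (.one ⟨9464, 5, 4⟩)) (.node 1 (.one ⟨14291, 5, 4⟩) (.one ⟨8227, 4, 4⟩))))) (.node 8 (.node 4 (.node 2 (.node 1 (.one ⟨6833, 0, 4⟩) (.one ⟨13481, 6, 2⟩)) (.node 1 (.one ⟨4878, 4, 3⟩) (.one ⟨16217, 6, 2⟩))) (.node 2 (.node 1 (.one ⟨16840, 0, 4⟩) (.one ⟨3980, 4, 3⟩))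 (.node 1 (.one ⟨2735, 6, 4⟩) (.one ⟨7200, 5, 3⟩)))) (.node 4 (.node 2 (.node 1 (.one ⟨15171, 5, 5⟩) (.one ⟨7121, 5, 4⟩)) (.node 1 (.one ⟨14311, 4, 4⟩) (.one ⟨9835, 6, 3⟩))) (.node 2 (.node 1 (.one ⟨3226, 4, 3⟩) (.one ⟨15231, 5, 5⟩)) (.node 1 (.one ⟨2250, 6, 4⟩) (.one ⟨5895, 4, 2⟩)))))) (.node 16 (.node 8 (.node 4 (.node 2 (.node 1 (.one ⟨9833, 6, 5⟩) (.one ⟨13982, 5, 3⟩)) (.node 1 (.one ⟨13300, 4, 3⟩) (.one ⟨7850, 3, 3⟩))) (.node 2 (.node 1 (.one ⟨1918, 5, 4⟩) (.one ⟨16111, 6, 4⟩)) (.node 1 (.one ⟨5687, 5, 5⟩) (.one ⟨5178, 5, 4⟩)))) (.node 4 (.node 2 (.node 1 (.one ⟨13752, 1, 4⟩) (.one ⟨1494, 5, 4⟩)) (.node 1 (.one ⟨5019, 6, 4⟩) (.one ⟨8426, 6, 4⟩))) (.node 2 (.node 1 (.one ⟨14631, 5, 4⟩) (.one ⟨7642, 5, 3⟩))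 (.node 1 (.one ⟨16700, 5, 3⟩) (.one ⟨879, 4, 4⟩))))) (.node 8 (.node 4 (.node 2 (.node 1 (.one ⟨9539, 6, 4⟩) (.one ⟨7248, 6, 5⟩)) (.node 1 (.one ⟨9270, 6, 4⟩) (.one ⟨5402, 0, 4⟩))) (.node 2 (.node 1 (.one ⟨15080, 3, 3⟩) (.one ⟨11072, 0, 4⟩)) (.node 1 (.one ⟨8694, 4, 4⟩) (.one ⟨13199, 6, 4⟩)))) (.node 4 (.node 2 (.node 1 (.one ⟨15595, 6, 5⟩) (.one ⟨16323, 4, 4⟩)) (.node 1 (.one ⟨6284, 5, 4⟩) (.one ⟨1288, 5, 4⟩))) (.node 2 (.node 1 (.one ⟨8239, 5, 4⟩) (.one ⟨16401, 6, 5⟩)) (.node 1 (.one ⟨10346, 6, 2⟩) (.one ⟨13651, 3, 3⟩)))))))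
def par3_13_6 : Arr Par :=
  (.node 32 (.node 16 (.node 8 (.node 4 (.node 2 (.node 1 (.one ⟨9938, 4, 4⟩) (.one ⟨14975, 5, 3⟩)) (.node 1 (.one ⟨11840, 6, 4⟩) (.one ⟨14002, 6, 3⟩))) (.node 2 (.node 1 (.one ⟨10087, 6, 4⟩) (.one ⟨453, 5, 3⟩)) (.node 1 (.one ⟨4658, 5, 3⟩) (.one ⟨2405, 1, 3⟩)))) (.node 4 (.node 2 (.node 1 (.one ⟨4059, 4, 4⟩) (.one ⟨4231, 4, 3⟩)) (.node 1 (.one ⟨4405, 5, 4⟩) (.one ⟨9998, 6, 4⟩))) (.node 2 (.node 1 (.one ⟨9991, 6, 5⟩) (.one ⟨14627, 5, 5⟩)) (.node 1 (.one ⟨16448, 5, 5⟩) (.one ⟨16555, 5, 5⟩))))) (.node 8 (.node 4 (.node 2 (.node 1 (.one ⟨9172, 5, 5⟩) (.one ⟨4265, 5, 5⟩)) (.node 1 (.one ⟨7543, 5, 4⟩) (.one ⟨6753, 4, 4⟩))) (.node 2 (.node 1 (.one ⟨16622, 5, 4⟩) (.one ⟨7170, 5, 4⟩)) (.node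 1 (.one ⟨3978, 5, 5⟩) (.one ⟨4840, 5, 4⟩)))) (.node 4 (.node 2 (.node 1 (.one ⟨8466, 1, 4⟩) (.one ⟨14089, 6, 3⟩)) (.node 1 (.one ⟨16195, 6, 4⟩) (.one ⟨11274, 5, 2⟩))) (.node 2 (.node 1 (.one ⟨11959, 6, 3⟩) (.one ⟨5310, 5, 3⟩)) (.node 1 (.one ⟨12070, 5, 3⟩) (.one ⟨12749, 6, 3⟩)))))) (.node 16 (.node 8 (.node 4 (.node 2 (.node 1 (.one ⟨14074, 6, 3⟩) (.one ⟨8746, 6, 5⟩)) (.node 1 (.one ⟨16948, 5, 5⟩) (.one ⟨6217, 3, 3⟩))) (.node 2 (.node 1 (.one ⟨16044, 5, 2⟩) (.one ⟨1610, 4, 4⟩)) (.node 1 (.one ⟨9908, 3, 2⟩) (.one ⟨10603, 5, 3⟩)))) (.node 4 (.node 2 (.node 1 (.one ⟨15913, 4, 3⟩) (.one ⟨10458, 6, 3⟩)) (.node 1 (.one ⟨14960, 5, 3⟩) (.one ⟨16953, 3, 3⟩))) (.node 2 (.node 1 (.one ⟨12069, 3, 3⟩) (.one ⟨1863, 6, 4⟩))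 (.node 1 (.one ⟨16393, 4, 4⟩) (.one ⟨2002, 3, 4⟩))))) (.node 8 (.node 4 (.node 2 (.node 1 (.one ⟨8644, 6, 5⟩) (.one ⟨5873, 5, 3⟩)) (.node 1 (.one ⟨10864, 5, 4⟩) (.one ⟨2233, 5, 4⟩))) (.node 2 (.node 1 (.one ⟨15243, 5, 4⟩) (.one ⟨9141, 4, 1⟩)) (.node 1 (.one ⟨11748, 6, 4⟩) (.one ⟨8252, 6, 4⟩)))) (.node 4 (.node 2 (.node 1 (.one ⟨8056, 6, 3⟩) (.one ⟨2677, 3, 4⟩)) (.node 1 (.one ⟨15043, 6, 4⟩) (.one ⟨10383, 6, 3⟩))) (.node 2 (.node 1 (.one ⟨9814, 6, 4⟩) (.one ⟨5102, 6, 4⟩)) (.node 1 (.one ⟨14571, 3, 2⟩) (.one ⟨1946, 6, 5⟩)))))))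
def par3_13_7 : Arr Par :=
  (.node 32 (.node 16 (.node 8 (.node 4 (.node 2 (.node 1 (.one ⟨2363, 4, 3⟩) (.one ⟨13173, 1, 3⟩)) (.node 1 (.one ⟨11412, 5, 4⟩) (.one ⟨13865, 0, 2⟩))) (.node 2 (.node 1 (.one ⟨16482, 4, 2⟩) (.one ⟨6008, 6, 3⟩)) (.node 1 (.one ⟨1215, 4, 3⟩) (.one ⟨4919, 0, 3⟩)))) (.node 4 (.node 2 (.node 1 (.one ⟨15080, 4, 3⟩) (.one ⟨4947, 6, 5⟩)) (.node 1 (.one ⟨4600, 6, 4⟩) (.one ⟨1597, 6, 3⟩))) (.node 2 (.node 1 (.one ⟨9484, 3, 5⟩) (.one ⟨4586, 5, 3⟩)) (.node 1 (.one ⟨13798, 0, 3⟩) (.one ⟨11107, 6, 4⟩))))) (.node 8 (.node 4 (.node 2 (.node 1 (.one ⟨16430, 6, 3⟩) (.one ⟨6093, 5, 3⟩)) (.node 1 (.one ⟨5594, 5, 3⟩) (.one ⟨9146, 2, 1⟩))) (.node 2 (.node 1 (.one ⟨1707, 3, 3⟩) (.one ⟨9491, 6, 3⟩)) (.node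 1 (.one ⟨2891, 4, 3⟩) (.one ⟨14153, 6, 4⟩)))) (.node 4 (.node 2 (.node 1 (.one ⟨872, 6, 3⟩) (.one ⟨6662, 0, 2⟩)) (.node 1 (.one ⟨653, 5, 3⟩) (.one ⟨14791, 4, 4⟩))) (.node 2 (.node 1 (.one ⟨10658, 5, 5⟩) (.one ⟨1646, 6, 3⟩)) (.node 1 (.one ⟨14194, 6, 4⟩) (.one ⟨14753, 6, 4⟩)))))) (.node 16 (.node 8 (.node 4 (.node 2 (.node 1 (.one ⟨1422, 5, 5⟩) (.one ⟨1269, 4, 5⟩)) (.node 1 (.one ⟨15002, 6, 2⟩) (.one ⟨1393, 6, 3⟩))) (.node 2 (.node 1 (.one ⟨13271, 1, 3⟩) (.one ⟨4222, 6, 4⟩)) (.node 1 (.one ⟨1940, 6, 2⟩) (.one ⟨9444, 3, 3⟩)))) (.node 4 (.node 2 (.node 1 (.one ⟨13534, 6, 4⟩) (.one ⟨376, 5, 3⟩)) (.node 1 (.one ⟨16478, 0, 3⟩) (.one ⟨14261, 5, 3⟩))) (.node 2 (.node 1 (.one ⟨337, 5, 3⟩) (.one ⟨13000, 0, 4⟩)) (.node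 1 (.one ⟨14042, 0, 3⟩) (.one ⟨7969, 6, 4⟩))))) (.node 8 (.node 4 (.node 2 (.node 1 (.one ⟨13482, 6, 4⟩) (.one ⟨17058, 6, 5⟩)) (.node 1 (.one ⟨4844, 4, 3⟩) (.one ⟨14071, 5, 4⟩))) (.node 2 (.node 1 (.one ⟨2287, 5, 3⟩) (.one ⟨10685, 5, 2⟩)) (.node 1 (.one ⟨5748, 5, 2⟩) (.one ⟨10258, 5, 4⟩)))) (.node 4 (.node 2 (.node 1 (.one ⟨1326, 3, 2⟩) (.one ⟨2577, 5, 4⟩)) (.node 1 (.one ⟨6835, 2, 3⟩) (.one ⟨10448, 5, 4⟩))) (.node 2 (.node 1 (.one ⟨9895, 2, 2⟩) (.one ⟨10360, 6, 4⟩)) (.node 1 (.one ⟨5183, 6, 5⟩) (.one ⟨1274, 2, 2⟩)))))))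
def par3_13_8 : Arr Par :=
  (.node 32 (.node 16 (.node 8 (.node 4 (.node 2 (.node 1 (.one ⟨5545, 5, 5⟩) (.one ⟨13361, 3, 3⟩)) (.node 1 (.one ⟨567, 5, 4⟩) (.one ⟨16446, 0, 3⟩))) (.node 2 (.node 1 (.one ⟨1506, 6, 3⟩) (.one ⟨2552, 5, 3⟩)) (.node 1 (.one ⟨5079, 5, 3⟩) (.one ⟨5360, 6, 1⟩)))) (.node 4 (.node 2 (.node 1 (.one ⟨2019, 4, 3⟩) (.one ⟨1268, 4, 2⟩)) (.node 1 (.one ⟨15142, 5, 3⟩) (.one ⟨3122, 6, 5⟩))) (.node 2 (.node 1 (.one ⟨2906, 6, 4⟩) (.one ⟨2891, 1, 3⟩)) (.node 1 (.one ⟨4865, 6, 5⟩) (.one ⟨3838, 6, 4⟩))))) (.node 8 (.node 4 (.node 2 (.node 1 (.one ⟨3761, 5, 4⟩) (.one ⟨14729, 5, 4⟩)) (.node 1 (.one ⟨3581, 5, 4⟩) (.one ⟨9301, 6, 4⟩))) (.node 2 (.node 1 (.one ⟨16659, 5, 4⟩) (.one ⟨2630, 4, 4⟩)) (.node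 1 (.one ⟨15407, 3, 4⟩) (.one ⟨10813, 5, 4⟩)))) (.node 4 (.node 2 (.node 1 (.one ⟨9332, 5, 4⟩) (.one ⟨14641, 1, 3⟩)) (.node 1 (.one ⟨3273, 1, 3⟩) (.one ⟨2591, 6, 3⟩))) (.node 2 (.node 1 (.one ⟨10591, 6, 1⟩) (.one ⟨14950, 3, 3⟩)) (.node 1 (.one ⟨9136, 4, 4⟩) (.one ⟨13831, 0, 2⟩)))))) (.node 16 (.node 8 (.node 4 (.node 2 (.node 1 (.one ⟨6594, 6, 4⟩) (.one ⟨16239, 5, 4⟩)) (.node 1 (.one ⟨14948, 6, 4⟩) (.one ⟨15870, 6, 4⟩))) (.node 2 (.node 1 (.one ⟨13581, 6, 4⟩) (.one ⟨8018, 6, 4⟩)) (.node 1 (.one ⟨5200, 6, 3⟩) (.one ⟨15951, 6, 4⟩)))) (.node 4 (.node 2 (.node 1 (.one ⟨8240, 5, 3⟩) (.one ⟨2285, 5, 1⟩)) (.node 1 (.one ⟨9726, 5, 4⟩) (.one ⟨12589, 5, 3⟩))) (.node 2 (.node 1 (.one ⟨6248, 6, 5⟩) (.one ⟨5735, 5, 3⟩))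 (.node 1 (.one ⟨14448, 5, 4⟩) (.one ⟨11606, 5, 5⟩))))) (.node 8 (.node 4 (.node 2 (.node 1 (.one ⟨10779, 6, 4⟩) (.one ⟨4951, 5, 5⟩)) (.node 1 (.one ⟨10283, 4, 2⟩) (.one ⟨7256, 6, 3⟩))) (.node 2 (.node 1 (.one ⟨1075, 5, 3⟩) (.one ⟨11788, 4, 3⟩)) (.node 1 (.one ⟨11072, 5, 4⟩) (.one ⟨15524, 6, 3⟩)))) (.node 4 (.node 2 (.node 1 (.one ⟨8354, 6, 4⟩) (.one ⟨1437, 3, 3⟩)) (.node 1 (.one ⟨10100, 6, 4⟩) (.one ⟨2340, 6, 3⟩))) (.node 2 (.node 1 (.one ⟨13599, 6, 3⟩) (.one ⟨1670, 5, 3⟩)) (.node 1 (.one ⟨16030, 4, 3⟩) (.one ⟨9528, 3, 2⟩)))))))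
def par3_13_9 : Arr Par :=
  (.node 32 (.node 16 (.node 8 (.node 4 (.node 2 (.node 1 (.one ⟨14706, 6, 4⟩) (.one ⟨10229, 5, 4⟩)) (.node 1 (.one ⟨5977, 5, 5⟩) (.one ⟨74, 1, 0⟩))) (.node 2 (.node 1 (.one ⟨1162, 0, 4⟩) (.one ⟨13865, 5, 2⟩)) (.node 1 (.one ⟨7311, 0, 3⟩) (.one ⟨16281, 6, 3⟩)))) (.node 4 (.node 2 (.node 1 (.one ⟨7225, 6, 3⟩) (.one ⟨2114, 1, 3⟩)) (.node 1 (.one ⟨9826, 5, 4⟩) (.one ⟨4916, 1, 4⟩))) (.node 2 (.node 1 (.one ⟨5105, 1, 4⟩) (.one ⟨12116, 1, 4⟩)) (.node 1 (.one ⟨14359, 5, 5⟩) (.one ⟨3179, 5, 4⟩))))) (.node 8 (.node 4 (.node 2 (.node 1 (.one ⟨15332, 0, 4⟩) (.one ⟨15908, 4, 3⟩)) (.node 1 (.one ⟨3146, 5, 5⟩) (.one ⟨16425, 5, 4⟩))) (.node 2 (.node 1 (.one ⟨6525, 6, 3⟩) (.one ⟨148, 6, 2⟩)) (.node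 1 (.one ⟨16398, 5, 5⟩) (.one ⟨250, 6, 3⟩)))) (.node 4 (.node 2 (.node 1 (.one ⟨16140, 5, 4⟩) (.one ⟨6502, 5, 4⟩)) (.node 1 (.one ⟨10213, 1, 4⟩) (.one ⟨4590, 6, 5⟩))) (.node 2 (.node 1 (.one ⟨4291, 5, 5⟩) (.one ⟨10110, 5, 5⟩)) (.node 1 (.one ⟨4585, 6, 4⟩) (.one ⟨12596, 6, 3⟩)))))) (.node 16 (.node 8 (.node 4 (.node 2 (.node 1 (.one ⟨6989, 3, 4⟩) (.one ⟨1625, 6, 4⟩)) (.node 1 (.one ⟨12614, 6, 4⟩) (.one ⟨12546, 5, 4⟩))) (.node 2 (.node 1 (.one ⟨1663, 6, 3⟩) (.one ⟨1648, 6, 3⟩)) (.node 1 (.one ⟨12717, 6, 4⟩) (.one ⟨15065, 6, 3⟩)))) (.node 4 (.node 2 (.node 1 (.one ⟨11363, 4, 4⟩) (.one ⟨12481, 5, 4⟩)) (.node 1 (.one ⟨891, 6, 3⟩) (.one ⟨7224, 4, 3⟩))) (.node 2 (.node 1 (.one ⟨327, 6, 3⟩) (.one ⟨9214, 5, 5⟩)) (.node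 1 (.one ⟨102, 6, 3⟩) (.one ⟨15887, 5, 3⟩))))) (.node 8 (.node 4 (.node 2 (.node 1 (.one ⟨11577, 5, 5⟩) (.one ⟨2232, 6, 3⟩)) (.node 1 (.one ⟨5568, 5, 4⟩) (.one ⟨9384, 6, 3⟩))) (.node 2 (.node 1 (.one ⟨14212, 5, 4⟩) (.one ⟨13163, 6, 4⟩)) (.node 1 (.one ⟨3699, 5, 4⟩) (.one ⟨16137, 6, 4⟩)))) (.node 4 (.node 2 (.node 1 (.one ⟨6975, 6, 4⟩) (.one ⟨15150, 5, 5⟩)) (.node 1 (.one ⟨15415, 4, 3⟩) (.one ⟨4062, 6, 3⟩))) (.node 2 (.node 1 (.one ⟨1343, 5, 4⟩) (.one ⟨2164, 1, 2⟩)) (.node 1 (.one ⟨16588, 5, 5⟩) (.one ⟨12697, 6, 4⟩)))))))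
def par3_13_10 : Arr Par :=
  (.node 32 (.node 16 (.node 8 (.node 4 (.node 2 (.node 1 (.one ⟨9065, 6, 5⟩) (.one ⟨16497, 6, 3⟩)) (.node 1 (.one ⟨5324, 6, 2⟩) (.one ⟨16138, 6, 5⟩))) (.node 2 (.node 1 (.one ⟨4057, 6, 3⟩) (.one ⟨11911, 6, 5⟩)) (.node 1 (.one ⟨313, 5, 2⟩) (.one ⟨5051, 3, 2⟩)))) (.node 4 (.node 2 (.node 1 (.one ⟨7885, 5, 3⟩) (.one ⟨1667, 6, 4⟩)) (.node 1 (.one ⟨17173, 6, 3⟩) (.one ⟨6541, 6, 4⟩))) (.node 2 (.node 1 (.one ⟨2615, 5, 4⟩) (.one ⟨12712, 6, 3⟩)) (.node 1 (.one ⟨16951, 3, 3⟩) (.one ⟨15284, 0, 4⟩))))) (.node 8 (.node 4 (.node 2 (.node 1 (.one ⟨16275, 5, 3⟩) (.one ⟨9566, 2, 1⟩)) (.node 1 (.one ⟨1429, 5, 3⟩) (.one ⟨1555, 6, 2⟩))) (.node 2 (.node 1 (.one ⟨8974, 6, 4⟩) (.one ⟨4846, 3, 3⟩)) (.node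 1 (.one ⟨2707, 6, 4⟩) (.one ⟨12233, 6, 5⟩)))) (.node 4 (.node 2 (.node 1 (.one ⟨15762, 4, 3⟩) (.one ⟨8870, 6, 4⟩)) (.node 1 (.one ⟨16879, 0, 3⟩) (.one ⟨5815, 4, 3⟩))) (.node 2 (.node 1 (.one ⟨4256, 6, 5⟩) (.one ⟨7132, 5, 4⟩)) (.node 1 (.one ⟨16843, 6, 2⟩) (.one ⟨2365, 5, 5⟩)))))) (.node 16 (.node 8 (.node 4 (.node 2 (.node 1 (.one ⟨4224, 6, 2⟩) (.one ⟨7535, 6, 4⟩)) (.node 1 (.one ⟨14740, 1, 3⟩) (.one ⟨9447, 5, 5⟩))) (.node 2 (.node 1 (.one ⟨6735, 5, 5⟩) (.one ⟨15894, 1, 3⟩)) (.node 1 (.one ⟨7943, 6, 3⟩) (.one ⟨5913, 3, 3⟩)))) (.node 4 (.node 2 (.node 1 (.one ⟨15120, 5, 4⟩) (.one ⟨8821, 0, 5⟩)) (.node 1 (.one ⟨10855, 4, 4⟩) (.one ⟨1417, 2, 2⟩))) (.node 2 (.node 1 (.one ⟨10926, 5, 5⟩) (.one ⟨7013, 5, 5⟩)) (.node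 1 (.one ⟨10213, 5, 4⟩) (.one ⟨313, 4, 2⟩))))) (.node 8 (.node 4 (.node 2 (.node 1 (.one ⟨13754, 5, 5⟩) (.one ⟨11211, 0, 1⟩)) (.node 1 (.one ⟨5971, 4, 2⟩) (.one ⟨11780, 6, 5⟩))) (.node 2 (.node 1 (.one ⟨11476, 3, 4⟩) (.one ⟨1464, 4, 5⟩)) (.node 1 (.one ⟨11307, 3, 4⟩) (.one ⟨1299, 5, 4⟩)))) (.node 4 (.node 2 (.node 1 (.one ⟨8852, 5, 5⟩) (.one ⟨6730, 6, 3⟩)) (.node 1 (.one ⟨7185, 6, 3⟩) (.one ⟨8356, 6, 3⟩))) (.node 2 (.node 1 (.one ⟨14028, 0, 4⟩) (.one ⟨10422, 6, 3⟩)) (.node 1 (.one ⟨1463, 2, 2⟩) (.one ⟨10973, 5, 5⟩)))))))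
def par3_13_11 : Arr Par :=
  (.node 32 (.node 16 (.node 8 (.node 4 (.node 2 (.node 1 (.one ⟨7606, 6, 4⟩) (.one ⟨11589, 5, 4⟩)) (.node 1 (.one ⟨8574, 5, 4⟩) (.one ⟨7157, 6, 2⟩))) (.node 2 (.node 1 (.one ⟨2457, 6, 5⟩) (.one ⟨1465, 4, 2⟩)) (.node 1 (.one ⟨16943, 5, 3⟩) (.one ⟨4254, 6, 5⟩)))) (.node 4 (.node 2 (.node 1 (.one ⟨12845, 2, 3⟩) (.one ⟨16882, 5, 4⟩)) (.node 1 (.one ⟨9329, 3, 3⟩) (.one ⟨10710, 6, 5⟩))) (.node 2 (.node 1 (.one ⟨1650, 6, 3⟩) (.one ⟨11005, 3, 3⟩)) (.node 1 (.one ⟨492, 6, 5⟩) (.one ⟨10403, 6, 3⟩))))) (.node 8 (.node 4 (.node 2 (.node 1 (.one ⟨8661, 4, 4⟩) (.one ⟨4740, 1, 5⟩)) (.node 1 (.one ⟨1061, 5, 4⟩) (.one ⟨9811, 5, 4⟩))) (.node 2 (.node 1 (.one ⟨9836, 1, 3⟩) (.one ⟨10038, 5, 2⟩)) (.node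 1 (.one ⟨4388, 4, 4⟩) (.one ⟨9005, 5, 3⟩)))) (.node 4 (.node 2 (.node 1 (.one ⟨1555, 5, 2⟩) (.one ⟨16878, 5, 2⟩)) (.node 1 (.one ⟨9860, 5, 2⟩) (.one ⟨4886, 5, 4⟩))) (.node 2 (.node 1 (.one ⟨9624, 6, 4⟩) (.one ⟨12597, 5, 4⟩)) (.node 1 (.one ⟨14451, 5, 4⟩) (.one ⟨2699, 5, 3⟩)))))) (.node 16 (.node 8 (.node 4 (.node 2 (.node 1 (.one ⟨5893, 5, 4⟩) (.one ⟨13225, 6, 4⟩)) (.node 1 (.one ⟨9626, 6, 3⟩) (.one ⟨5387, 5, 4⟩))) (.node 2 (.node 1 (.one ⟨15304, 4, 3⟩) (.one ⟨15, 1, 5⟩)) (.node 1 (.one ⟨5938, 3, 4⟩) (.one ⟨2248, 6, 2⟩)))) (.node 4 (.node 2 (.node 1 (.one ⟨14176, 4, 2⟩) (.one ⟨5586, 5, 2⟩)) (.node 1 (.one ⟨10556, 5, 5⟩) (.one ⟨10329, 6, 5⟩))) (.node 2 (.node 1 (.one ⟨5962, 5, 1⟩) (.one ⟨6520, 5, 4⟩)) (.node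 1 (.one ⟨9460, 5, 4⟩) (.one ⟨7709, 6, 5⟩))))) (.node 8 (.node 4 (.node 2 (.node 1 (.one ⟨13969, 5, 2⟩) (.one ⟨12143, 6, 4⟩)) (.node 1 (.one ⟨1041, 5, 4⟩) (.one ⟨6060, 5, 2⟩))) (.node 2 (.node 1 (.one ⟨14858, 6, 5⟩) (.one ⟨9785, 6, 4⟩)) (.node 1 (.one ⟨12939, 4, 4⟩) (.one ⟨6503, 6, 3⟩)))) (.node 4 (.node 2 (.node 1 (.one ⟨7379, 6, 3⟩) (.one ⟨16768, 4, 3⟩)) (.node 1 (.one ⟨1095, 5, 2⟩) (.one ⟨9495, 6, 2⟩))) (.node 2 (.node 1 (.one ⟨9419, 4, 2⟩) (.one ⟨8744, 4, 4⟩)) (.node 1 (.one ⟨8847, 5, 3⟩) (.one ⟨682, 6, 3⟩)))))))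
def par3_13_12 : Arr Par :=
  (.node 32 (.node 16 (.node 8 (.node 4 (.node 2 (.node 1 (.one ⟨14086, 5, 4⟩) (.one ⟨15491, 0, 2⟩)) (.node 1 (.one ⟨16704, 4, 4⟩) (.one ⟨703, 5, 4⟩))) (.node 2 (.node 1 (.one ⟨14037, 0, 3⟩) (.one ⟨6325, 6, 4⟩)) (.node 1 (.one ⟨856, 5, 3⟩) (.one ⟨1861, 6, 5⟩)))) (.node 4 (.node 2 (.node 1 (.one ⟨9242, 5, 2⟩) (.one ⟨9246, 5, 2⟩)) (.node 1 (.one ⟨9245, 5, 4⟩) (.one ⟨594, 5, 5⟩))) (.node 2 (.node 1 (.one ⟨6447, 6, 4⟩) (.one ⟨74, 5, 4⟩)) (.node 1 (.one ⟨70, 5, 5⟩) (.one ⟨3677, 4, 3⟩))))) (.node 8 (.node 4 (.node 2 (.node 1 (.one ⟨7105, 6, 3⟩) (.one ⟨15616, 6, 5⟩)) (.node 1 (.one ⟨1463, 4, 2⟩) (.one ⟨2708, 6, 2⟩))) (.node 2 (.node 1 (.one ⟨7049, 6, 3⟩) (.one ⟨14768, 6, 3⟩)) (.node 1 (.one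 ⟨10530, 6, 5⟩) (.one ⟨2578, 5, 4⟩)))) (.node 4 (.node 2 (.node 1 (.one ⟨9201, 5, 4⟩) (.one ⟨2287, 4, 3⟩)) (.node 1 (.one ⟨2628, 6, 3⟩) (.one ⟨13427, 6, 3⟩))) (.node 2 (.node 1 (.one ⟨14473, 6, 4⟩) (.one ⟨374, 6, 5⟩)) (.node 1 (.one ⟨9334, 3, 3⟩) (.one ⟨329, 6, 2⟩)))))) (.node 16 (.node 8 (.node 4 (.node 2 (.node 1 (.one ⟨15529, 6, 3⟩) (.one ⟨1466, 4, 5⟩)) (.node 1 (.one ⟨3235, 5, 5⟩) (.one ⟨11288, 5, 5⟩))) (.node 2 (.node 1 (.one ⟨8247, 5, 3⟩) (.one ⟨16592, 4, 3⟩)) (.node 1 (.one ⟨10954, 4, 4⟩) (.one ⟨1465, 2, 2⟩)))) (.node 4 (.node 2 (.node 1 (.one ⟨15398, 4, 3⟩) (.one ⟨10612, 6, 4⟩)) (.node 1 (.one ⟨7627, 4, 3⟩) (.one ⟨10001, 6, 5⟩))) (.node 2 (.node 1 (.one ⟨1293, 5, 1⟩) (.one ⟨7501, 6, 4⟩)) (.node 1 (.one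 ⟨1587, 3, 4⟩) (.one ⟨15371, 5, 4⟩))))) (.node 8 (.node 4 (.node 2 (.node 1 (.one ⟨15304, 5, 3⟩) (.one ⟨5471, 0, 2⟩)) (.node 1 (.one ⟨14224, 6, 2⟩) (.one ⟨15354, 5, 3⟩))) (.node 2 (.node 1 (.one ⟨16727, 6, 3⟩) (.one ⟨7553, 6, 4⟩)) (.node 1 (.one ⟨12190, 6, 5⟩) (.one ⟨12508, 6, 3⟩)))) (.node 4 (.node 2 (.node 1 (.one ⟨7922, 5, 4⟩) (.one ⟨6924, 5, 3⟩)) (.node 1 (.one ⟨10171, 6, 3⟩) (.one ⟨8972, 4, 3⟩))) (.node 2 (.node 1 (.one ⟨7814, 3, 3⟩) (.one ⟨14362, 4, 4⟩)) (.node 1 (.one ⟨3181, 6, 4⟩) (.one ⟨16679, 1, 2⟩)))))))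
def par3_13_13 : Arr Par :=
  (.node 32 (.node 16 (.node 8 (.node 4 (.node 2 (.node 1 (.one ⟨5184, 5, 5⟩) (.one ⟨14877, 3, 3⟩)) (.node 1 (.one ⟨7790, 5, 4⟩) (.one ⟨4816, 5, 4⟩))) (.node 2 (.node 1 (.one ⟨8356, 3, 3⟩) (.one ⟨2129, 6, 5⟩)) (.node 1 (.one ⟨13878, 5, 5⟩) (.one ⟨5900, 5, 3⟩)))) (.node 4 (.node 2 (.node 1 (.one ⟨12551, 4, 4⟩) (.one ⟨4148, 1, 3⟩)) (.node 1 (.one ⟨16789, 4, 3⟩) (.one ⟨10349, 6, 5⟩))) (.node 2 (.node 1 (.one ⟨9910, 2, 1⟩) (.one ⟨2657, 6, 4⟩)) (.node 1 (.one ⟨1095, 1, 2⟩) (.one ⟨5152, 5, 5⟩))))) (.node 8 (.node 4 (.node 2 (.node 1 (.one ⟨6202, 5, 5⟩) (.one ⟨12448, 0, 3⟩)) (.node 1 (.one ⟨14907, 4, 3⟩) (.one ⟨15131, 5, 4⟩))) (.node 2 (.node 1 (.one ⟨11885, 5, 4⟩) (.one ⟨10008, 5, 4⟩))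 (.node 1 (.one ⟨16617, 5, 4⟩) (.one ⟨8799, 5, 4⟩)))) (.node 4 (.node 2 (.node 1 (.one ⟨15378, 6, 3⟩) (.one ⟨15382, 6, 4⟩)) (.node 1 (.one ⟨1302, 5, 5⟩) (.one ⟨5701, 4, 4⟩))) (.node 2 (.node 1 (.one ⟨16695, 4, 5⟩) (.one ⟨16843, 5, 2⟩)) (.node 1 (.one ⟨5278, 5, 4⟩) (.one ⟨5482, 5, 5⟩)))))) (.node 16 (.node 8 (.node 4 (.node 2 (.node 1 (.one ⟨5480, 5, 1⟩) (.one ⟨12931, 4, 4⟩)) (.node 1 (.one ⟨16511, 4, 3⟩) (.one ⟨2965, 3, 3⟩))) (.node 2 (.node 1 (.one ⟨203, 4, 4⟩) (.one ⟨13289, 6, 5⟩)) (.node 1 (.one ⟨10798, 3, 3⟩) (.one ⟨9017, 6, 3⟩)))) (.node 4 (.node 2 (.node 1 (.one ⟨5258, 5, 3⟩) (.one ⟨4200, 1, 1⟩)) (.node 1 (.one ⟨1485, 5, 2⟩) (.one ⟨8542, 1, 3⟩))) (.node 2 (.node 1 (.one ⟨3137, 5, 4⟩) (.one ⟨5660, 5, 4⟩))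 (.node 1 (.one ⟨6197, 6, 4⟩) (.one ⟨6346, 5, 5⟩))))) (.node 8 (.node 4 (.node 2 (.node 1 (.one ⟨16792, 5, 3⟩) (.one ⟨2475, 6, 5⟩)) (.node 1 (.one ⟨6178, 5, 3⟩) (.one ⟨12657, 5, 4⟩))) (.node 2 (.node 1 (.one ⟨2522, 5, 3⟩) (.one ⟨2471, 6, 5⟩)) (.node 1 (.one ⟨13386, 5, 4⟩) (.one ⟨16170, 6, 4⟩)))) (.node 4 (.node 2 (.node 1 (.one ⟨7626, 6, 4⟩) (.one ⟨14129, 6, 3⟩)) (.node 1 (.one ⟨2851, 5, 5⟩) (.one ⟨17007, 4, 2⟩))) (.node 2 (.node 1 (.one ⟨10603, 4, 3⟩) (.one ⟨16635, 1, 4⟩)) (.node 1 (.one ⟨7321, 5, 5⟩) (.one ⟨14897, 6, 3⟩)))))))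
def par3_13_14 : Arr Par :=
  (.node 32 (.node 16 (.node 8 (.node 4 (.node 2 (.node 1 (.one ⟨6858, 0, 4⟩) (.one ⟨4296, 6, 4⟩)) (.node 1 (.one ⟨2019, 3, 3⟩) (.one ⟨14386, 4, 3⟩))) (.node 2 (.node 1 (.one ⟨13271, 6, 3⟩) (.one ⟨4221, 0, 4⟩)) (.node 1 (.one ⟨5724, 6, 4⟩) (.one ⟨7016, 5, 3⟩)))) (.node 4 (.node 2 (.node 1 (.one ⟨8555, 6, 4⟩) (.one ⟨16442, 6, 3⟩)) (.node 1 (.one ⟨3381, 5, 4⟩) (.one ⟨14481, 5, 4⟩))) (.node 2 (.node 1 (.one ⟨11517, 2, 2⟩) (.one ⟨8571, 1, 4⟩)) (.node 1 (.one ⟨1161, 4, 4⟩) (.one ⟨8838, 5, 3⟩))))) (.node 8 (.node 4 (.node 2 (.node 1 (.one ⟨10701, 3, 1⟩) (.one ⟨2875, 3, 3⟩)) (.node 1 (.one ⟨14192, 6, 4⟩) (.one ⟨5410, 5, 3⟩))) (.node 2 (.node 1 (.one ⟨9820, 6, 5⟩) (.one ⟨17004, 6, 5⟩)) (.node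 1 (.one ⟨2025, 4, 4⟩) (.one ⟨7258, 5, 4⟩)))) (.node 4 (.node 2 (.node 1 (.one ⟨619, 0, 3⟩) (.one ⟨8490, 5, 5⟩)) (.node 1 (.one ⟨12850, 5, 3⟩) (.one ⟨1095, 2, 2⟩))) (.node 2 (.node 1 (.one ⟨9878, 6, 3⟩) (.one ⟨12033, 5, 4⟩)) (.node 1 (.one ⟨5895, 6, 2⟩) (.one ⟨6348, 1, 3⟩)))))) (.node 16 (.node 8 (.node 4 (.node 2 (.node 1 (.one ⟨666, 5, 3⟩) (.one ⟨3228, 5, 4⟩)) (.node 1 (.one ⟨4064, 5, 3⟩) (.one ⟨16175, 6, 3⟩))) (.node 2 (.node 1 (.one ⟨9561, 5, 4⟩) (.one ⟨11272, 5, 4⟩)) (.node 1 (.one ⟨12164, 5, 4⟩) (.one ⟨127, 1, 3⟩)))) (.node 4 (.node 2 (.node 1 (.one ⟨13879, 5, 4⟩) (.one ⟨17018, 1, 3⟩)) (.node 1 (.one ⟨13735, 6, 4⟩) (.one ⟨6332, 1, 3⟩))) (.node 2 (.node 1 (.one ⟨384, 6, 4⟩) (.one ⟨1015, 6, 4⟩)) (.node 1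 (.one ⟨310, 6, 3⟩) (.one ⟨9847, 5, 5⟩))))) (.node 8 (.node 4 (.node 2 (.node 1 (.one ⟨2650, 4, 4⟩) (.one ⟨726, 6, 4⟩)) (.node 1 (.one ⟨418, 6, 4⟩) (.one ⟨739, 6, 4⟩))) (.node 2 (.node 1 (.one ⟨4323, 4, 3⟩) (.one ⟨15000, 4, 2⟩)) (.node 1 (.one ⟨11224, 4, 4⟩) (.one ⟨8575, 6, 4⟩)))) (.node 4 (.node 2 (.node 1 (.one ⟨15548, 5, 4⟩) (.one ⟨10821, 0, 3⟩)) (.node 1 (.one ⟨11126, 5, 4⟩) (.one ⟨10387, 4, 3⟩))) (.node 2 (.node 1 (.one ⟨5452, 5, 4⟩) (.one ⟨13421, 3, 3⟩)) (.node 1 (.one ⟨8620, 5, 3⟩) (.one ⟨15813, 5, 4⟩)))))))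
def par3_13_15 : Arr Par :=
  (.node 32 (.node 16 (.node 8 (.node 4 (.node 2 (.node 1 (.one ⟨12016, 5, 4⟩) (.one ⟨8974, 5, 4⟩)) (.node 1 (.one ⟨11879, 6, 3⟩) (.one ⟨9426, 5, 1⟩))) (.node 2 (.node 1 (.one ⟨4531, 6, 1⟩) (.one ⟨3244, 5, 4⟩)) (.node 1 (.one ⟨6806, 5, 4⟩) (.one ⟨2645, 3, 5⟩)))) (.node 4 (.node 2 (.node 1 (.one ⟨12481, 3, 4⟩) (.one ⟨2561, 4, 3⟩)) (.node 1 (.one ⟨15150, 3, 5⟩) (.one ⟨5805, 6, 3⟩))) (.node 2 (.node 1 (.one ⟨11163, 6, 4⟩) (.one ⟨10303, 5, 4⟩)) (.node 1 (.one ⟨724, 6, 4⟩) (.one ⟨12965, 5, 4⟩))))) (.node 8 (.node 4 (.node 2 (.node 1 (.one ⟨5434, 5, 4⟩) (.one ⟨16995, 0, 3⟩)) (.node 1 (.one ⟨6481, 5, 4⟩) (.one ⟨3044, 6, 3⟩))) (.node 2 (.node 1 (.one ⟨9076, 3, 4⟩) (.one ⟨821, 6, 5⟩)) (.node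 1 (.one ⟨15281, 1, 3⟩) (.one ⟨12753, 5, 4⟩)))) (.node 4 (.node 2 (.node 1 (.one ⟨11196, 6, 3⟩) (.one ⟨5849, 5, 2⟩)) (.node 1 (.one ⟨6311, 3, 2⟩) (.one ⟨14859, 6, 3⟩))) (.node 2 (.node 1 (.one ⟨16060, 5, 4⟩) (.one ⟨12791, 6, 5⟩)) (.node 1 (.one ⟨2890, 5, 4⟩) (.one ⟨1712, 1, 2⟩)))))) (.node 16 (.node 8 (.node 4 (.node 2 (.node 1 (.one ⟨2927, 3, 1⟩) (.one ⟨16875, 4, 2⟩)) (.node 1 (.one ⟨13511, 4, 1⟩) (.one ⟨1678, 4, 3⟩))) (.node 2 (.node 1 (.one ⟨3354, 5, 4⟩) (.one ⟨16293, 4, 3⟩)) (.node 1 (.one ⟨6921, 6, 3⟩) (.one ⟨1737, 3, 3⟩)))) (.node 4 (.node 2 (.node 1 (.one ⟨10124, 3, 4⟩) (.one ⟨2093, 6, 2⟩)) (.node 1 (.one ⟨10972, 5, 5⟩) (.one ⟨5317, 6, 3⟩))) (.node 2 (.node 1 (.one ⟨7580, 6, 4⟩) (.one ⟨14401, 4, 3⟩))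 (.node 1 (.one ⟨16315, 4, 3⟩) (.one ⟨10718, 5, 3⟩))))) (.node 8 (.node 4 (.node 2 (.node 1 (.one ⟨8235, 4, 2⟩) (.one ⟨336, 1, 3⟩)) (.node 1 (.one ⟨7250, 1, 3⟩) (.one ⟨2585, 1, 3⟩))) (.node 2 (.node 1 (.one ⟨8910, 0, 3⟩) (.one ⟨9825, 1, 3⟩)) (.node 1 (.one ⟨2963, 6, 5⟩) (.one ⟨4569, 5, 2⟩)))) (.node 4 (.node 2 (.node 1 (.one ⟨5819, 6, 4⟩) (.one ⟨12831, 4, 3⟩)) (.node 1 (.one ⟨17127, 5, 4⟩) (.one ⟨15989, 6, 5⟩))) (.node 2 (.node 1 (.one ⟨14298, 5, 3⟩) (.one ⟨1898, 5, 3⟩)) (.node 1 (.one ⟨6279, 4, 4⟩) (.one ⟨4460, 6, 4⟩)))))))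
def par3_13 : Arr Par :=
  (.node 512 (.node 256 (.node 128 (.node 64 par3_13_0 par3_13_1) (.node 64 par3_13_2 par3_13_3)) (.node 128 (.node 64 par3_13_4 par3_13_5) (.node 64 par3_13_6 par3_13_7))) (.node 256 (.node 128 (.node 64 par3_13_8 par3_13_9) (.node 64 par3_13_10 par3_13_11)) (.node 128 (.node 64 par3_13_12 par3_13_13) (.node 64 par3_13_14 par3_13_15))))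
def par3_14_0 : Arr Par :=
  (.node 32 (.node 16 (.node 8 (.node 4 (.node 2 (.node 1 (.one ⟨15759, 6, 5⟩) (.one ⟨6335, 5, 2⟩)) (.node 1 (.one ⟨8256, 6, 4⟩) (.one ⟨2136, 6, 2⟩))) (.node 2 (.node 1 (.one ⟨14284, 6, 5⟩) (.one ⟨10788, 5, 2⟩)) (.node 1 (.one ⟨5337, 5, 3⟩) (.one ⟨8585, 5, 4⟩)))) (.node 4 (.node 2 (.node 1 (.one ⟨245, 4, 2⟩) (.one ⟨12505, 3, 3⟩)) (.node 1 (.one ⟨14760, 6, 2⟩) (.one ⟨15259, 5, 4⟩))) (.node 2 (.node 1 (.one ⟨14001, 6, 2⟩) (.one ⟨1461, 5, 2⟩)) (.node 1 (.one ⟨11515, 0, 2⟩) (.one ⟨13164, 3, 3⟩))))) (.node 8 (.node 4 (.node 2 (.node 1 (.one ⟨9836, 4, 3⟩) (.one ⟨5234, 3, 3⟩)) (.node 1 (.one ⟨8992, 3, 3⟩) (.one ⟨5438, 5, 3⟩))) (.node 2 (.node 1 (.one ⟨16953, 0, 3⟩) (.one ⟨13953, 6, 4⟩))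 (.node 1 (.one ⟨7067, 6, 4⟩) (.one ⟨3517, 6, 4⟩)))) (.node 4 (.node 2 (.node 1 (.one ⟨6000, 6, 3⟩) (.one ⟨15993, 5, 3⟩)) (.node 1 (.one ⟨4483, 6, 3⟩) (.one ⟨8359, 6, 3⟩))) (.node 2 (.node 1 (.one ⟨712, 5, 3⟩) (.one ⟨2119, 6, 4⟩)) (.node 1 (.one ⟨7646, 6, 4⟩) (.one ⟨15556, 0, 3⟩)))))) (.node 16 (.node 8 (.node 4 (.node 2 (.node 1 (.one ⟨2555, 5, 4⟩) (.one ⟨3790, 6, 3⟩)) (.node 1 (.one ⟨301, 6, 4⟩) (.one ⟨7898, 6, 5⟩))) (.node 2 (.node 1 (.one ⟨5866, 6, 4⟩) (.one ⟨2495, 5, 3⟩)) (.node 1 (.one ⟨1165, 5, 4⟩) (.one ⟨12792, 5, 4⟩)))) (.node 4 (.node 2 (.node 1 (.one ⟨15076, 6, 5⟩) (.one ⟨2026, 3, 3⟩)) (.node 1 (.one ⟨17103, 5, 3⟩) (.one ⟨2405, 6, 3⟩))) (.node 2 (.node 1 (.one ⟨3926, 5, 4⟩) (.one ⟨7496, 6, 5⟩)) (.node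 1 (.one ⟨1873, 3, 2⟩) (.one ⟨1106, 5, 2⟩))))) (.node 8 (.node 4 (.node 2 (.node 1 (.one ⟨1110, 5, 2⟩) (.one ⟨1105, 5, 5⟩)) (.node 1 (.one ⟨1109, 5, 2⟩) (.one ⟨10719, 6, 4⟩))) (.node 2 (.node 1 (.one ⟨589, 5, 5⟩) (.one ⟨1620, 6, 5⟩)) (.node 1 (.one ⟨6452, 6, 5⟩) (.one ⟨9519, 6, 2⟩)))) (.node 4 (.node 2 (.node 1 (.one ⟨3228, 6, 4⟩) (.one ⟨11295, 6, 4⟩)) (.node 1 (.one ⟨9337, 5, 3⟩) (.one ⟨11266, 6, 4⟩))) (.node 2 (.node 1 (.one ⟨1115, 4, 3⟩) (.one ⟨9233, 6, 2⟩)) (.node 1 (.one ⟨3198, 6, 4⟩) (.one ⟨13331, 5, 4⟩)))))))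
def par3_14_1 : Arr Par :=
  (.node 32 (.node 16 (.node 8 (.node 4 (.node 2 (.node 1 (.one ⟨12341, 5, 5⟩) (.one ⟨4699, 2, 2⟩)) (.node 1 (.one ⟨16472, 6, 4⟩) (.one ⟨1106, 4, 2⟩))) (.node 2 (.node 1 (.one ⟨953, 0, 3⟩) (.one ⟨1500, 5, 5⟩)) (.node 1 (.one ⟨7375, 6, 4⟩) (.one ⟨87, 1, 0⟩)))) (.node 4 (.node 2 (.node 1 (.one ⟨2995, 3, 1⟩) (.one ⟨6129, 1, 2⟩)) (.node 1 (.one ⟨5945, 2, 2⟩) (.one ⟨9433, 5, 1⟩))) (.node 2 (.node 1 (.one ⟨9430, 2, 1⟩) (.one ⟨6816, 6, 3⟩)) (.node 1 (.one ⟨7672, 3, 5⟩) (.one ⟨1367, 6, 4⟩))))) (.node 8 (.node 4 (.node 2 (.node 1 (.one ⟨1108, 3, 3⟩) (.one ⟨10682, 5, 3⟩)) (.node 1 (.one ⟨8255, 6, 4⟩) (.one ⟨5428, 6, 5⟩))) (.node 2 (.node 1 (.one ⟨9251, 5, 5⟩) (.one ⟨8126, 6, 4⟩)) (.node 1 (.one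 ⟨6820, 6, 5⟩) (.one ⟨15782, 0, 3⟩)))) (.node 4 (.node 2 (.node 1 (.one ⟨17173, 5, 3⟩) (.one ⟨3256, 0, 3⟩)) (.node 1 (.one ⟨14889, 4, 4⟩) (.one ⟨3834, 6, 4⟩))) (.node 2 (.node 1 (.one ⟨6822, 6, 5⟩) (.one ⟨15223, 5, 4⟩)) (.node 1 (.one ⟨1109, 4, 2⟩) (.one ⟨13217, 6, 3⟩)))))) (.node 16 (.node 8 (.node 4 (.node 2 (.node 1 (.one ⟨15398, 3, 3⟩) (.one ⟨12359, 4, 3⟩)) (.node 1 (.one ⟨12208, 5, 4⟩) (.one ⟨5120, 5, 4⟩))) (.node 2 (.node 1 (.one ⟨2626, 3, 4⟩) (.one ⟨11938, 5, 4⟩)) (.node 1 (.one ⟨11014, 6, 4⟩) (.one ⟨10921, 6, 5⟩)))) (.node 4 (.node 2 (.node 1 (.one ⟨14108, 5, 5⟩) (.one ⟨13818, 3, 4⟩)) (.node 1 (.one ⟨14417, 4, 4⟩) (.one ⟨10884, 4, 4⟩))) (.node 2 (.node 1 (.one ⟨8996, 5, 3⟩) (.one ⟨78, 1, 0⟩)) (.node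 1 (.one ⟨1114, 3, 2⟩) (.one ⟨12434, 0, 3⟩))))) (.node 8 (.node 4 (.node 2 (.node 1 (.one ⟨16293, 5, 3⟩) (.one ⟨9608, 4, 3⟩)) (.node 1 (.one ⟨12883, 5, 3⟩) (.one ⟨6067, 5, 3⟩))) (.node 2 (.node 1 (.one ⟨7162, 1, 5⟩) (.one ⟨230, 6, 5⟩)) (.node 1 (.one ⟨8162, 6, 5⟩) (.one ⟨14111, 5, 3⟩)))) (.node 4 (.node 2 (.node 1 (.one ⟨3381, 6, 4⟩) (.one ⟨16583, 0, 2⟩)) (.node 1 (.one ⟨5915, 6, 3⟩) (.one ⟨62, 1, 0⟩))) (.node 2 (.node 1 (.one ⟨2162, 6, 4⟩) (.one ⟨15494, 6, 3⟩)) (.node 1 (.one ⟨7362, 6, 4⟩) (.one ⟨15196, 0, 3⟩)))))))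
def par3_14_2 : Arr Par :=
  (.node 32 (.node 16 (.node 8 (.node 4 (.node 2 (.node 1 (.one ⟨13228, 6, 4⟩) (.one ⟨8847, 4, 3⟩)) (.node 1 (.one ⟨12545, 5, 4⟩) (.one ⟨5619, 5, 3⟩))) (.node 2 (.node 1 (.one ⟨11523, 5, 4⟩) (.one ⟨17157, 5, 4⟩)) (.node 1 (.one ⟨12804, 6, 4⟩) (.one ⟨5769, 5, 4⟩)))) (.node 4 (.node 2 (.node 1 (.one ⟨13820, 3, 3⟩) (.one ⟨5273, 6, 3⟩)) (.node 1 (.one ⟨4308, 0, 3⟩) (.one ⟨69, 1, 0⟩))) (.node 2 (.node 1 (.one ⟨6430, 4, 4⟩) (.one ⟨9356, 3, 2⟩)) (.node 1 (.one ⟨13804, 5, 4⟩) (.one ⟨8749, 6, 4⟩))))) (.node 8 (.node 4 (.node 2 (.node 1 (.one ⟨9351, 3, 2⟩) (.one ⟨10278, 5, 3⟩)) (.node 1 (.one ⟨4250, 5, 5⟩) (.one ⟨5722, 3, 2⟩))) (.node 2 (.node 1 (.one ⟨16733, 5, 3⟩) (.one ⟨60, 1, 0⟩)) (.node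 1 (.one ⟨4439, 4, 3⟩) (.one ⟨14503, 0, 2⟩)))) (.node 4 (.node 2 (.node 1 (.one ⟨7971, 1, 2⟩) (.one ⟨12451, 0, 4⟩)) (.node 1 (.one ⟨1619, 0, 2⟩) (.one ⟨12996, 5, 4⟩))) (.node 2 (.node 1 (.one ⟨9153, 6, 2⟩) (.one ⟨11690, 3, 3⟩)) (.node 1 (.one ⟨9612, 4, 3⟩) (.one ⟨9297, 5, 2⟩)))))) (.node 16 (.node 8 (.node 4 (.node 2 (.node 1 (.one ⟨6253, 3, 5⟩) (.one ⟨11899, 5, 3⟩)) (.node 1 (.one ⟨5409, 4, 3⟩) (.one ⟨3090, 5, 4⟩))) (.node 2 (.node 1 (.one ⟨3051, 5, 4⟩) (.one ⟨4556, 5, 4⟩)) (.node 1 (.one ⟨4593, 5, 3⟩) (.one ⟨1776, 5, 1⟩)))) (.node 4 (.node 2 (.node 1 (.one ⟨9209, 3, 4⟩) (.one ⟨11000, 4, 3⟩)) (.node 1 (.one ⟨16952, 5, 5⟩) (.one ⟨3578, 3, 4⟩))) (.node 2 (.node 1 (.one ⟨16679, 0, 2⟩) (.one ⟨5814, 4, 3⟩)) (.node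 1 (.one ⟨6470, 4, 3⟩) (.one ⟨9314, 5, 3⟩))))) (.node 8 (.node 4 (.node 2 (.node 1 (.one ⟨7881, 4, 3⟩) (.one ⟨13551, 5, 3⟩)) (.node 1 (.one ⟨1392, 2, 2⟩) (.one ⟨6929, 5, 4⟩))) (.node 2 (.node 1 (.one ⟨7404, 6, 3⟩) (.one ⟨7172, 6, 3⟩)) (.node 1 (.one ⟨2111, 6, 3⟩) (.one ⟨7379, 5, 3⟩)))) (.node 4 (.node 2 (.node 1 (.one ⟨5754, 5, 5⟩) (.one ⟨15403, 6, 4⟩)) (.node 1 (.one ⟨6503, 5, 3⟩) (.one ⟨5887, 6, 2⟩))) (.node 2 (.node 1 (.one ⟨10691, 2, 3⟩) (.one ⟨10707, 5, 5⟩)) (.node 1 (.one ⟨11355, 6, 5⟩) (.one ⟨15973, 4, 3⟩)))))))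
def par3_14_3 : Arr Par :=
  (.node 32 (.node 16 (.node 8 (.node 4 (.node 2 (.node 1 (.one ⟨3208, 5, 4⟩) (.one ⟨13070, 3, 5⟩)) (.node 1 (.one ⟨13048, 5, 2⟩) (.one ⟨16424, 5, 5⟩))) (.node 2 (.node 1 (.one ⟨7095, 5, 4⟩) (.one ⟨5659, 5, 2⟩)) (.node 1 (.one ⟨16603, 5, 3⟩) (.one ⟨4649, 5, 4⟩)))) (.node 4 (.node 2 (.node 1 (.one ⟨5421, 5, 4⟩) (.one ⟨3849, 6, 3⟩)) (.node 1 (.one ⟨12438, 6, 4⟩) (.one ⟨13884, 6, 4⟩))) (.node 2 (.node 1 (.one ⟨15677, 0, 3⟩) (.one ⟨13971, 6, 3⟩)) (.node 1 (.one ⟨6280, 6, 4⟩) (.one ⟨1561, 6, 3⟩))))) (.node 8 (.node 4 (.node 2 (.node 1 (.one ⟨1382, 2, 1⟩) (.one ⟨15717, 0, 3⟩)) (.node 1 (.one ⟨14037, 6, 3⟩) (.one ⟨8564, 6, 4⟩))) (.node 2 (.node 1 (.one ⟨15453, 6, 3⟩) (.one ⟨6931, 5, 2⟩))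 (.node 1 (.one ⟨12752, 6, 4⟩) (.one ⟨2232, 4, 3⟩)))) (.node 4 (.node 2 (.node 1 (.one ⟨6928, 5, 4⟩) (.one ⟨15887, 6, 3⟩)) (.node 1 (.one ⟨17061, 6, 3⟩) (.one ⟨3259, 6, 3⟩))) (.node 2 (.node 1 (.one ⟨427, 4, 4⟩) (.one ⟨11148, 5, 4⟩)) (.node 1 (.one ⟨6474, 0, 4⟩) (.one ⟨9382, 6, 4⟩)))))) (.node 16 (.node 8 (.node 4 (.node 2 (.node 1 (.one ⟨1530, 5, 5⟩) (.one ⟨10965, 5, 5⟩)) (.node 1 (.one ⟨16332, 6, 5⟩) (.one ⟨14632, 5, 4⟩))) (.node 2 (.node 1 (.one ⟨4547, 6, 5⟩) (.one ⟨7523, 6, 5⟩)) (.node 1 (.one ⟨10670, 6, 3⟩) (.one ⟨893, 4, 3⟩)))) (.node 4 (.node 2 (.node 1 (.one ⟨1383, 3, 1⟩) (.one ⟨5392, 5, 3⟩)) (.node 1 (.one ⟨13441, 5, 4⟩) (.one ⟨3099, 1, 1⟩))) (.node 2 (.node 1 (.one ⟨3447, 6, 4⟩) (.one ⟨16613, 0, 3⟩))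 (.node 1 (.one ⟨5411, 5, 4⟩) (.one ⟨11525, 5, 4⟩))))) (.node 8 (.node 4 (.node 2 (.node 1 (.one ⟨4399, 6, 4⟩) (.one ⟨11547, 6, 4⟩)) (.node 1 (.one ⟨5161, 5, 4⟩) (.one ⟨14477, 6, 3⟩))) (.node 2 (.node 1 (.one ⟨16959, 6, 4⟩) (.one ⟨6443, 6, 1⟩)) (.node 1 (.one ⟨8930, 6, 5⟩) (.one ⟨10521, 3, 5⟩)))) (.node 4 (.node 2 (.node 1 (.one ⟨1086, 3, 2⟩) (.one ⟨10354, 4, 4⟩)) (.node 1 (.one ⟨9199, 5, 4⟩) (.one ⟨1761, 6, 5⟩))) (.node 2 (.node 1 (.one ⟨863, 6, 3⟩) (.one ⟨10264, 6, 3⟩)) (.node 1 (.one ⟨9972, 6, 2⟩) (.one ⟨7610, 6, 3⟩)))))))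
def par3_14_4 : Arr Par :=
  (.node 32 (.node 16 (.node 8 (.node 4 (.node 2 (.node 1 (.one ⟨1498, 4, 4⟩) (.one ⟨16619, 5, 5⟩)) (.node 1 (.one ⟨3272, 6, 3⟩) (.one ⟨11656, 6, 5⟩))) (.node 2 (.node 1 (.one ⟨4825, 4, 4⟩) (.one ⟨12882, 3, 5⟩)) (.node 1 (.one ⟨7881, 5, 3⟩) (.one ⟨1364, 6, 1⟩)))) (.node 4 (.node 2 (.node 1 (.one ⟨2927, 4, 1⟩) (.one ⟨7667, 4, 2⟩)) (.node 1 (.one ⟨1906, 2, 2⟩) (.one ⟨13760, 5, 4⟩))) (.node 2 (.node 1 (.one ⟨1281, 2, 1⟩) (.one ⟨3273, 6, 3⟩)) (.node 1 (.one ⟨2377, 5, 5⟩) (.one ⟨4680, 0, 4⟩))))) (.node 8 (.node 4 (.node 2 (.node 1 (.one ⟨12350, 6, 5⟩) (.one ⟨6539, 0, 4⟩)) (.node 1 (.one ⟨7086, 0, 4⟩) (.one ⟨11399, 4, 4⟩))) (.node 2 (.node 1 (.one ⟨10827, 6, 4⟩) (.one ⟨5120, 6, 4⟩)) (.node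 1 (.one ⟨6700, 3, 3⟩) (.one ⟨6807, 6, 3⟩)))) (.node 4 (.node 2 (.node 1 (.one ⟨10905, 6, 4⟩) (.one ⟨1816, 6, 4⟩)) (.node 1 (.one ⟨13850, 6, 4⟩) (.one ⟨8163, 5, 3⟩))) (.node 2 (.node 1 (.one ⟨10635, 4, 4⟩) (.one ⟨6404, 6, 2⟩)) (.node 1 (.one ⟨10444, 6, 4⟩) (.one ⟨607, 6, 2⟩)))))) (.node 16 (.node 8 (.node 4 (.node 2 (.node 1 (.one ⟨12117, 5, 3⟩) (.one ⟨5959, 5, 3⟩)) (.node 1 (.one ⟨12502, 6, 2⟩) (.one ⟨12473, 6, 4⟩))) (.node 2 (.node 1 (.one ⟨6372, 5, 3⟩) (.one ⟨12489, 6, 2⟩)) (.node 1 (.one ⟨5784, 5, 2⟩) (.one ⟨6504, 6, 3⟩)))) (.node 4 (.node 2 (.node 1 (.one ⟨12499, 6, 3⟩) (.one ⟨11166, 5, 4⟩)) (.node 1 (.one ⟨1779, 4, 3⟩) (.one ⟨1198, 2, 3⟩))) (.node 2 (.node 1 (.one ⟨7993, 6, 3⟩) (.one ⟨1834, 4, 4⟩)) (.node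 1 (.one ⟨3416, 6, 5⟩) (.one ⟨7569, 4, 5⟩))))) (.node 8 (.node 4 (.node 2 (.node 1 (.one ⟨9584, 6, 4⟩) (.one ⟨9238, 6, 2⟩)) (.node 1 (.one ⟨12016, 6, 4⟩) (.one ⟨12052, 6, 4⟩))) (.node 2 (.node 1 (.one ⟨9524, 6, 4⟩) (.one ⟨1185, 5, 3⟩)) (.node 1 (.one ⟨9902, 5, 4⟩) (.one ⟨10485, 4, 4⟩)))) (.node 4 (.node 2 (.node 1 (.one ⟨7815, 6, 4⟩) (.one ⟨5841, 3, 4⟩)) (.node 1 (.one ⟨11081, 6, 3⟩) (.one ⟨12847, 6, 2⟩))) (.node 2 (.node 1 (.one ⟨335, 6, 4⟩) (.one ⟨16309, 5, 3⟩)) (.node 1 (.one ⟨508, 5, 4⟩) (.one ⟨983, 4, 5⟩)))))))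
def par3_14_5 : Arr Par :=
  (.node 32 (.node 16 (.node 8 (.node 4 (.node 2 (.node 1 (.one ⟨1659, 5, 5⟩) (.one ⟨1611, 5, 4⟩)) (.node 1 (.one ⟨12950, 5, 4⟩) (.one ⟨12858, 5, 5⟩))) (.node 2 (.node 1 (.one ⟨1351, 5, 2⟩) (.one ⟨513, 6, 5⟩)) (.node 1 (.one ⟨12890, 5, 4⟩) (.one ⟨7289, 0, 4⟩)))) (.node 4 (.node 2 (.node 1 (.one ⟨5498, 6, 3⟩) (.one ⟨4465, 5, 4⟩)) (.node 1 (.one ⟨5667, 1, 4⟩) (.one ⟨6920, 0, 4⟩))) (.node 2 (.node 1 (.one ⟨2587, 5, 4⟩) (.one ⟨12740, 6, 2⟩)) (.node 1 (.one ⟨11620, 5, 3⟩) (.one ⟨2585, 4, 3⟩))))) (.node 8 (.node 4 (.node 2 (.node 1 (.one ⟨6231, 5, 3⟩) (.one ⟨6397, 5, 4⟩)) (.node 1 (.one ⟨223, 5, 4⟩) (.one ⟨13852, 5, 2⟩))) (.node 2 (.node 1 (.one ⟨10595, 6, 4⟩) (.one ⟨10490, 5, 5⟩)) (.node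 1 (.one ⟨13721, 5, 4⟩) (.one ⟨13287, 6, 4⟩)))) (.node 4 (.node 2 (.node 1 (.one ⟨12156, 4, 3⟩) (.one ⟨6345, 0, 3⟩)) (.node 1 (.one ⟨12772, 4, 3⟩) (.one ⟨11956, 5, 5⟩))) (.node 2 (.node 1 (.one ⟨4464, 5, 4⟩) (.one ⟨7823, 6, 4⟩)) (.node 1 (.one ⟨15234, 4, 3⟩) (.one ⟨14780, 1, 3⟩)))))) (.node 16 (.node 8 (.node 4 (.node 2 (.node 1 (.one ⟨6700, 1, 3⟩) (.one ⟨11253, 1, 3⟩)) (.node 1 (.one ⟨7817, 6, 4⟩) (.one ⟨6845, 5, 4⟩))) (.node 2 (.node 1 (.one ⟨4344, 6, 3⟩) (.one ⟨13357, 6, 3⟩)) (.node 1 (.one ⟨13174, 5, 4⟩) (.one ⟨7702, 3, 4⟩)))) (.node 4 (.node 2 (.node 1 (.one ⟨9962, 5, 3⟩) (.one ⟨1873, 5, 2⟩)) (.node 1 (.one ⟨9329, 5, 3⟩) (.one ⟨9808, 5, 4⟩))) (.node 2 (.node 1 (.one ⟨14397, 0, 3⟩) (.one ⟨10670, 0, 3⟩))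 (.node 1 (.one ⟨8418, 6, 4⟩) (.one ⟨16248, 6, 3⟩))))) (.node 8 (.node 4 (.node 2 (.node 1 (.one ⟨12543, 6, 3⟩) (.one ⟨687, 5, 3⟩)) (.node 1 (.one ⟨10125, 6, 3⟩) (.one ⟨5192, 4, 3⟩))) (.node 2 (.node 1 (.one ⟨893, 5, 3⟩) (.one ⟨16224, 6, 3⟩)) (.node 1 (.one ⟨922, 5, 3⟩) (.one ⟨15910, 6, 5⟩)))) (.node 4 (.node 2 (.node 1 (.one ⟨11238, 0, 4⟩) (.one ⟨6956, 2, 2⟩)) (.node 1 (.one ⟨7303, 5, 5⟩) (.one ⟨11616, 5, 3⟩))) (.node 2 (.node 1 (.one ⟨15879, 5, 5⟩) (.one ⟨10456, 5, 2⟩)) (.node 1 (.one ⟨14386, 5, 3⟩) (.one ⟨14969, 4, 4⟩)))))))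
def par3_14_6 : Arr Par :=
  (.node 32 (.node 16 (.node 8 (.node 4 (.node 2 (.node 1 (.one ⟨11384, 1, 4⟩) (.one ⟨3947, 1, 4⟩)) (.node 1 (.one ⟨3373, 5, 4⟩) (.one ⟨15098, 6, 4⟩))) (.node 2 (.node 1 (.one ⟨14651, 1, 3⟩) (.one ⟨7771, 1, 4⟩)) (.node 1 (.one ⟨16904, 6, 3⟩) (.one ⟨4680, 3, 4⟩)))) (.node 4 (.node 2 (.node 1 (.one ⟨15168, 6, 5⟩) (.one ⟨9714, 5, 3⟩)) (.node 1 (.one ⟨1679, 5, 3⟩) (.one ⟨16635, 3, 4⟩))) (.node 2 (.node 1 (.one ⟨11539, 6, 3⟩) (.one ⟨16597, 6, 4⟩)) (.node 1 (.one ⟨1621, 5, 5⟩) (.one ⟨1412, 5, 2⟩))))) (.node 8 (.node 4 (.node 2 (.node 1 (.one ⟨8235, 6, 2⟩) (.one ⟨11889, 5, 4⟩)) (.node 1 (.one ⟨9105, 4, 4⟩) (.one ⟨10682, 6, 3⟩))) (.node 2 (.node 1 (.one ⟨16019, 6, 2⟩) (.one ⟨1774, 0, 2⟩))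 (.node 1 (.one ⟨2106, 6, 2⟩) (.one ⟨12058, 5, 3⟩)))) (.node 4 (.node 2 (.node 1 (.one ⟨1821, 6, 3⟩) (.one ⟨9830, 5, 3⟩)) (.node 1 (.one ⟨5487, 5, 3⟩) (.one ⟨6161, 6, 4⟩))) (.node 2 (.node 1 (.one ⟨11594, 5, 4⟩) (.one ⟨9707, 6, 3⟩)) (.node 1 (.one ⟨6582, 1, 3⟩) (.one ⟨16350, 5, 4⟩)))))) (.node 16 (.node 8 (.node 4 (.node 2 (.node 1 (.one ⟨15181, 5, 3⟩) (.one ⟨11196, 0, 3⟩)) (.node 1 (.one ⟨13653, 5, 4⟩) (.one ⟨10422, 5, 3⟩))) (.node 2 (.node 1 (.one ⟨13526, 5, 5⟩) (.one ⟨10845, 5, 3⟩)) (.node 1 (.one ⟨4844, 3, 3⟩) (.one ⟨13773, 5, 4⟩)))) (.node 4 (.node 2 (.node 1 (.one ⟨11214, 0, 1⟩) (.one ⟨16119, 5, 3⟩)) (.node 1 (.one ⟨1866, 6, 4⟩) (.one ⟨12577, 5, 3⟩))) (.node 2 (.node 1 (.one ⟨16766, 5, 3⟩) (.one ⟨10540,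 5, 4⟩)) (.node 1 (.one ⟨6795, 4, 2⟩) (.one ⟨16313, 5, 3⟩))))) (.node 8 (.node 4 (.node 2 (.node 1 (.one ⟨16147, 4, 2⟩) (.one ⟨4176, 6, 3⟩)) (.node 1 (.one ⟨15911, 4, 5⟩) (.one ⟨4080, 6, 3⟩))) (.node 2 (.node 1 (.one ⟨10929, 6, 3⟩) (.one ⟨15578, 5, 5⟩)) (.node 1 (.one ⟨8356, 5, 3⟩) (.one ⟨6855, 5, 2⟩)))) (.node 4 (.node 2 (.node 1 (.one ⟨14590, 3, 3⟩) (.one ⟨938, 4, 5⟩)) (.node 1 (.one ⟨15830, 6, 4⟩) (.one ⟨4372, 4, 4⟩))) (.node 2 (.node 1 (.one ⟨4836, 6, 2⟩) (.one ⟨6356, 6, 5⟩)) (.node 1 (.one ⟨1223, 3, 4⟩) (.one ⟨4312, 5, 4⟩)))))))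
def par3_14_7 : Arr Par :=
  (.node 32 (.node 16 (.node 8 (.node 4 (.node 2 (.node 1 (.one ⟨13158, 4, 3⟩) (.one ⟨16678, 4, 3⟩)) (.node 1 (.one ⟨8940, 5, 4⟩) (.one ⟨11091, 5, 4⟩))) (.node 2 (.node 1 (.one ⟨13956, 5, 4⟩) (.one ⟨13655, 6, 4⟩)) (.node 1 (.one ⟨13735, 5, 4⟩) (.one ⟨14950, 5, 3⟩)))) (.node 4 (.node 2 (.node 1 (.one ⟨11163, 0, 4⟩) (.one ⟨1326, 2, 2⟩)) (.node 1 (.one ⟨4040, 5, 4⟩) (.one ⟨5468, 6, 3⟩))) (.node 2 (.node 1 (.one ⟨15971, 5, 4⟩) (.one ⟨3263, 5, 5⟩)) (.node 1 (.one ⟨4022, 5, 4⟩) (.one ⟨7645, 5, 4⟩))))) (.node 8 (.node 4 (.node 2 (.node 1 (.one ⟨14772, 0, 4⟩) (.one ⟨7426, 5, 4⟩)) (.node 1 (.one ⟨13205, 5, 4⟩) (.one ⟨9361, 5, 4⟩))) (.node 2 (.node 1 (.one ⟨7771, 5, 4⟩) (.one ⟨13276, 5, 4⟩))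 (.node 1 (.one ⟨7281, 5, 4⟩) (.one ⟨4580, 0, 3⟩)))) (.node 4 (.node 2 (.node 1 (.one ⟨16943, 4, 3⟩) (.one ⟨6337, 5, 4⟩)) (.node 1 (.one ⟨10712, 3, 2⟩) (.one ⟨8896, 5, 3⟩))) (.node 2 (.node 1 (.one ⟨14736, 0, 3⟩) (.one ⟨1316, 4, 2⟩)) (.node 1 (.one ⟨14793, 5, 3⟩) (.one ⟨9161, 4, 2⟩)))))) (.node 16 (.node 8 (.node 4 (.node 2 (.node 1 (.one ⟨16464, 0, 3⟩) (.one ⟨10428, 5, 4⟩)) (.node 1 (.one ⟨9445, 4, 4⟩) (.one ⟨7, 5, 3⟩))) (.node 2 (.node 1 (.one ⟨97, 5, 3⟩) (.one ⟨10423, 5, 3⟩)) (.node 1 (.one ⟨6926, 6, 3⟩) (.one ⟨11136, 1, 4⟩)))) (.node 4 (.node 2 (.node 1 (.one ⟨17121, 5, 4⟩) (.one ⟨16425, 1, 4⟩)) (.node 1 (.one ⟨11759, 5, 3⟩) (.one ⟨7670, 4, 2⟩))) (.node 2 (.node 1 (.one ⟨7305, 5, 5⟩) (.one ⟨9451, 2, 3⟩))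 (.node 1 (.one ⟨1002, 6, 4⟩) (.one ⟨1324, 4, 3⟩))))) (.node 8 (.node 4 (.node 2 (.node 1 (.one ⟨3852, 4, 3⟩) (.one ⟨2685, 6, 5⟩)) (.node 1 (.one ⟨17095, 4, 2⟩) (.one ⟨7501, 5, 4⟩))) (.node 2 (.node 1 (.one ⟨15134, 6, 5⟩) (.one ⟨15535, 5, 5⟩)) (.node 1 (.one ⟨7493, 5, 4⟩) (.one ⟨9278, 5, 4⟩)))) (.node 4 (.node 2 (.node 1 (.one ⟨13527, 5, 5⟩) (.one ⟨15995, 5, 4⟩)) (.node 1 (.one ⟨15498, 5, 4⟩) (.one ⟨13929, 5, 5⟩))) (.node 2 (.node 1 (.one ⟨17171, 5, 4⟩) (.one ⟨11904, 5, 4⟩)) (.node 1 (.one ⟨11205, 5, 3⟩) (.one ⟨1268, 3, 2⟩)))))))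
def par3_14_8 : Arr Par :=
  (.node 32 (.node 16 (.node 8 (.node 4 (.node 2 (.node 1 (.one ⟨11136, 0, 4⟩) (.one ⟨10816, 0, 3⟩)) (.node 1 (.one ⟨16538, 4, 3⟩) (.one ⟨10103, 6, 3⟩))) (.node 2 (.node 1 (.one ⟨13267, 1, 3⟩) (.one ⟨11328, 6, 4⟩)) (.node 1 (.one ⟨16635, 0, 4⟩) (.one ⟨8377, 5, 4⟩)))) (.node 4 (.node 2 (.node 1 (.one ⟨13536, 5, 4⟩) (.one ⟨1048, 4, 2⟩)) (.node 1 (.one ⟨14511, 6, 4⟩) (.one ⟨11083, 0, 2⟩))) (.node 2 (.node 1 (.one ⟨9439, 4, 3⟩) (.one ⟨14626, 6, 3⟩)) (.node 1 (.one ⟨5682, 6, 2⟩) (.one ⟨5682, 5, 2⟩))))) (.node 8 (.node 4 (.node 2 (.node 1 (.one ⟨1737, 5, 3⟩) (.one ⟨9153, 4, 2⟩)) (.node 1 (.one ⟨4114, 4, 4⟩) (.one ⟨980, 6, 4⟩))) (.node 2 (.node 1 (.one ⟨3063, 4, 3⟩) (.one ⟨4078, 1, 3⟩))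 (.node 1 (.one ⟨13684, 5, 4⟩) (.one ⟨7173, 5, 3⟩)))) (.node 4 (.node 2 (.node 1 (.one ⟨15249, 5, 3⟩) (.one ⟨7155, 5, 4⟩)) (.node 1 (.one ⟨15270, 5, 3⟩) (.one ⟨11136, 3, 4⟩))) (.node 2 (.node 1 (.one ⟨6858, 3, 4⟩) (.one ⟨3412, 6, 2⟩)) (.node 1 (.one ⟨1896, 3, 4⟩) (.one ⟨17057, 6, 3⟩)))))) (.node 16 (.node 8 (.node 4 (.node 2 (.node 1 (.one ⟨9146, 3, 1⟩) (.one ⟨15464, 5, 3⟩)) (.node 1 (.one ⟨13469, 5, 4⟩) (.one ⟨11059, 0, 4⟩))) (.node 2 (.node 1 (.one ⟨12684, 6, 3⟩) (.one ⟨1790, 6, 4⟩)) (.node 1 (.one ⟨13852, 3, 2⟩) (.one ⟨925, 5, 4⟩)))) (.node 4 (.node 2 (.node 1 (.one ⟨5094, 6, 4⟩) (.one ⟨9592, 6, 3⟩)) (.node 1 (.one ⟨340, 5, 4⟩) (.one ⟨15037, 3, 5⟩))) (.node 2 (.node 1 (.one ⟨7296, 6, 4⟩) (.one ⟨6264, 3, 5⟩))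 (.node 1 (.one ⟨3390, 3, 5⟩) (.one ⟨7701, 3, 2⟩))))) (.node 8 (.node 4 (.node 2 (.node 1 (.one ⟨8121, 6, 4⟩) (.one ⟨5171, 3, 2⟩)) (.node 1 (.one ⟨13413, 2, 1⟩) (.one ⟨2673, 5, 4⟩))) (.node 2 (.node 1 (.one ⟨12130, 2, 1⟩) (.one ⟨1023, 6, 3⟩)) (.node 1 (.one ⟨3698, 2, 1⟩) (.one ⟨11293, 6, 4⟩)))) (.node 4 (.node 2 (.node 1 (.one ⟨8235, 1, 2⟩) (.one ⟨13566, 6, 2⟩)) (.node 1 (.one ⟨11214, 5, 1⟩) (.one ⟨16255, 1, 2⟩))) (.node 2 (.node 1 (.one ⟨10458, 4, 3⟩) (.one ⟨4045, 3, 4⟩)) (.node 1 (.one ⟨16405, 6, 3⟩) (.one ⟨16305, 5, 4⟩)))))))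
def par3_14_9 : Arr Par :=
  (.node 32 (.node 16 (.node 8 (.node 4 (.node 2 (.node 1 (.one ⟨5201, 6, 3⟩) (.one ⟨11968, 6, 4⟩)) (.node 1 (.one ⟨7035, 5, 5⟩) (.one ⟨950, 2, 1⟩))) (.node 2 (.node 1 (.one ⟨2404, 5, 4⟩) (.one ⟨6745, 4, 3⟩)) (.node 1 (.one ⟨12886, 3, 5⟩) (.one ⟨7702, 5, 4⟩)))) (.node 4 (.node 2 (.node 1 (.one ⟨13969, 6, 2⟩) (.one ⟨10142, 5, 5⟩)) (.node 1 (.one ⟨3535, 5, 5⟩) (.one ⟨12409, 3, 3⟩))) (.node 2 (.node 1 (.one ⟨3653, 5, 4⟩) (.one ⟨8072, 5, 4⟩)) (.node 1 (.one ⟨4956, 3, 3⟩) (.one ⟨4308, 1, 3⟩))))) (.node 8 (.node 4 (.node 2 (.node 1 (.one ⟨12434, 1, 3⟩) (.one ⟨14634, 5, 4⟩)) (.node 1 (.one ⟨11107, 5, 4⟩) (.one ⟨7465, 5, 4⟩))) (.node 2 (.node 1 (.one ⟨16700, 0, 3⟩) (.one ⟨4320, 5, 4⟩)) (.node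 1 (.one ⟨1825, 4, 3⟩) (.one ⟨7271, 5, 5⟩)))) (.node 4 (.node 2 (.node 1 (.one ⟨16713, 0, 3⟩) (.one ⟨3298, 5, 5⟩)) (.node 1 (.one ⟨14429, 6, 5⟩) (.one ⟨2157, 6, 4⟩))) (.node 2 (.node 1 (.one ⟨14630, 6, 3⟩) (.one ⟨12186, 6, 5⟩)) (.node 1 (.one ⟨7690, 6, 4⟩) (.one ⟨15466, 5, 4⟩)))))) (.node 16 (.node 8 (.node 4 (.node 2 (.node 1 (.one ⟨3287, 5, 4⟩) (.one ⟨13079, 0, 4⟩)) (.node 1 (.one ⟨5664, 5, 4⟩) (.one ⟨11308, 5, 4⟩))) (.node 2 (.node 1 (.one ⟨15452, 1, 3⟩) (.one ⟨13777, 5, 4⟩)) (.node 1 (.one ⟨1251, 6, 2⟩) (.one ⟨4036, 5, 3⟩)))) (.node 4 (.node 2 (.node 1 (.one ⟨10328, 5, 5⟩) (.one ⟨5019, 0, 4⟩)) (.node 1 (.one ⟨10320, 3, 3⟩) (.one ⟨9405, 5, 3⟩))) (.node 2 (.node 1 (.one ⟨3568, 5, 3⟩) (.one ⟨11495, 5, 2⟩))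 (.node 1 (.one ⟨5347, 5, 4⟩) (.one ⟨4785, 0, 3⟩))))) (.node 8 (.node 4 (.node 2 (.node 1 (.one ⟨12680, 5, 2⟩) (.one ⟨12890, 0, 4⟩)) (.node 1 (.one ⟨5838, 6, 4⟩) (.one ⟨4138, 4, 3⟩))) (.node 2 (.node 1 (.one ⟨6285, 5, 2⟩) (.one ⟨2314, 3, 3⟩)) (.node 1 (.one ⟨4822, 0, 4⟩) (.one ⟨12062, 6, 3⟩)))) (.node 4 (.node 2 (.node 1 (.one ⟨7590, 5, 3⟩) (.one ⟨6251, 2, 3⟩)) (.node 1 (.one ⟨7422, 5, 5⟩) (.one ⟨10740, 5, 4⟩))) (.node 2 (.node 1 (.one ⟨1361, 5, 5⟩) (.one ⟨7561, 6, 3⟩)) (.node 1 (.one ⟨2003, 5, 2⟩) (.one ⟨11484, 5, 2⟩)))))))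
def par3_14_10 : Arr Par :=
  (.node 32 (.node 16 (.node 8 (.node 4 (.node 2 (.node 1 (.one ⟨14524, 5, 4⟩) (.one ⟨11202, 5, 2⟩)) (.node 1 (.one ⟨14431, 5, 4⟩) (.one ⟨7925, 6, 4⟩))) (.node 2 (.node 1 (.one ⟨9501, 5, 5⟩) (.one ⟨6220, 6, 3⟩)) (.node 1 (.one ⟨10048, 5, 2⟩) (.one ⟨3175, 6, 5⟩)))) (.node 4 (.node 2 (.node 1 (.one ⟨876, 4, 4⟩) (.one ⟨5628, 6, 5⟩)) (.node 1 (.one ⟨6837, 4, 4⟩) (.one ⟨11296, 6, 3⟩))) (.node 2 (.node 1 (.one ⟨5004, 6, 3⟩) (.one ⟨14223, 5, 4⟩)) (.node 1 (.one ⟨8272, 6, 5⟩) (.one ⟨5952, 5, 5⟩))))) (.node 8 (.node 4 (.node 2 (.node 1 (.one ⟨15681, 5, 5⟩) (.one ⟨10623, 5, 4⟩)) (.node 1 (.one ⟨3368, 6, 4⟩) (.one ⟨13779, 6, 2⟩))) (.node 2 (.node 1 (.one ⟨10298, 6, 3⟩) (.one ⟨1463, 5, 2⟩))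 (.node 1 (.one ⟨11801, 5, 5⟩) (.one ⟨4034, 6, 3⟩)))) (.node 4 (.node 2 (.node 1 (.one ⟨3698, 0, 1⟩) (.one ⟨11853, 6, 5⟩)) (.node 1 (.one ⟨3729, 0, 1⟩) (.one ⟨13099, 6, 4⟩))) (.node 2 (.node 1 (.one ⟨143, 5, 4⟩) (.one ⟨5101, 6, 4⟩)) (.node 1 (.one ⟨16067, 5, 4⟩) (.one ⟨4458, 4, 3⟩)))))) (.node 16 (.node 8 (.node 4 (.node 2 (.node 1 (.one ⟨819, 5, 4⟩) (.one ⟨11664, 5, 3⟩)) (.node 1 (.one ⟨11669, 5, 5⟩) (.one ⟨287, 5, 4⟩))) (.node 2 (.node 1 (.one ⟨911, 5, 4⟩) (.one ⟨6877, 4, 3⟩)) (.node 1 (.one ⟨3542, 0, 1⟩) (.one ⟨16753, 6, 3⟩)))) (.node 4 (.node 2 (.node 1 (.one ⟨10089, 4, 4⟩) (.one ⟨12673, 5, 3⟩)) (.node 1 (.one ⟨8896, 4, 3⟩) (.one ⟨11966, 5, 3⟩))) (.node 2 (.node 1 (.one ⟨11978, 4, 4⟩) (.one ⟨2517, 5, 5⟩))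 (.node 1 (.one ⟨5391, 5, 3⟩) (.one ⟨161, 4, 4⟩))))) (.node 8 (.node 4 (.node 2 (.node 1 (.one ⟨17059, 6, 3⟩) (.one ⟨5488, 5, 4⟩)) (.node 1 (.one ⟨2453, 6, 3⟩) (.one ⟨3609, 6, 3⟩))) (.node 2 (.node 1 (.one ⟨16244, 6, 3⟩) (.one ⟨617, 4, 4⟩)) (.node 1 (.one ⟨8070, 5, 2⟩) (.one ⟨13970, 4, 4⟩)))) (.node 4 (.node 2 (.node 1 (.one ⟨13014, 5, 5⟩) (.one ⟨11179, 4, 3⟩)) (.node 1 (.one ⟨6344, 4, 4⟩) (.one ⟨16537, 4, 4⟩))) (.node 2 (.node 1 (.one ⟨4652, 1, 2⟩) (.one ⟨16966, 6, 4⟩)) (.node 1 (.one ⟨1205, 5, 5⟩) (.one ⟨15913, 6, 3⟩)))))))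
def par3_14_11 : Arr Par :=
  (.node 32 (.node 16 (.node 8 (.node 4 (.node 2 (.node 1 (.one ⟨14904, 4, 3⟩) (.one ⟨12743, 5, 4⟩)) (.node 1 (.one ⟨11924, 5, 3⟩) (.one ⟨15918, 6, 3⟩))) (.node 2 (.node 1 (.one ⟨11949, 5, 4⟩) (.one ⟨15917, 6, 3⟩)) (.node 1 (.one ⟨1045, 6, 4⟩) (.one ⟨14168, 5, 4⟩)))) (.node 4 (.node 2 (.node 1 (.one ⟨2402, 6, 4⟩) (.one ⟨12642, 6, 2⟩)) (.node 1 (.one ⟨15516, 5, 4⟩) (.one ⟨5266, 6, 3⟩))) (.node 2 (.node 1 (.one ⟨2189, 5, 4⟩) (.one ⟨6804, 3, 4⟩)) (.node 1 (.one ⟨9743, 6, 4⟩) (.one ⟨4058, 5, 4⟩))))) (.node 8 (.node 4 (.node 2 (.node 1 (.one ⟨13173, 4, 3⟩) (.one ⟨15717, 4, 3⟩)) (.node 1 (.one ⟨4299, 5, 4⟩) (.one ⟨8946, 4, 5⟩))) (.node 2 (.node 1 (.one ⟨7173, 4, 3⟩) (.one ⟨12753, 6, 4⟩))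 (.node 1 (.one ⟨14242, 5, 4⟩) (.one ⟨9542, 6, 3⟩)))) (.node 4 (.node 2 (.node 1 (.one ⟨6145, 6, 4⟩) (.one ⟨3316, 3, 2⟩)) (.node 1 (.one ⟨4512, 4, 4⟩) (.one ⟨14185, 3, 2⟩))) (.node 2 (.node 1 (.one ⟨12690, 6, 4⟩) (.one ⟨16335, 5, 5⟩)) (.node 1 (.one ⟨11067, 6, 2⟩) (.one ⟨15705, 6, 4⟩)))))) (.node 16 (.node 8 (.node 4 (.node 2 (.node 1 (.one ⟨12503, 3, 5⟩) (.one ⟨8024, 3, 5⟩)) (.node 1 (.one ⟨16367, 5, 5⟩) (.one ⟨404, 5, 4⟩))) (.node 2 (.node 1 (.one ⟨13678, 6, 4⟩) (.one ⟨711, 5, 5⟩)) (.node 1 (.one ⟨878, 5, 4⟩) (.one ⟨16754, 6, 4⟩)))) (.node 4 (.node 2 (.node 1 (.one ⟨313, 6, 2⟩) (.one ⟨17055, 4, 3⟩)) (.node 1 (.one ⟨11558, 0, 4⟩) (.one ⟨1614, 5, 5⟩))) (.node 2 (.node 1 (.one ⟨12586, 6, 2⟩) (.one ⟨15777, 4,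 3⟩)) (.node 1 (.one ⟨6198, 0, 4⟩) (.one ⟨14735, 5, 3⟩))))) (.node 8 (.node 4 (.node 2 (.node 1 (.one ⟨16235, 6, 4⟩) (.one ⟨13309, 5, 3⟩)) (.node 1 (.one ⟨7448, 5, 3⟩) (.one ⟨14598, 0, 4⟩))) (.node 2 (.node 1 (.one ⟨16119, 3, 3⟩) (.one ⟨7669, 4, 2⟩)) (.node 1 (.one ⟨9280, 5, 5⟩) (.one ⟨3491, 6, 4⟩)))) (.node 4 (.node 2 (.node 1 (.one ⟨8270, 3, 5⟩) (.one ⟨12839, 5, 4⟩)) (.node 1 (.one ⟨2878, 0, 3⟩) (.one ⟨5778, 5, 4⟩))) (.node 2 (.node 1 (.one ⟨4459, 6, 4⟩) (.one ⟨3017, 5, 3⟩)) (.node 1 (.one ⟨13771, 5, 4⟩) (.one ⟨3492, 6, 4⟩)))))))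
def par3_14_12 : Arr Par :=
  (.node 32 (.node 16 (.node 8 (.node 4 (.node 2 (.node 1 (.one ⟨5292, 5, 4⟩) (.one ⟨1878, 5, 4⟩)) (.node 1 (.one ⟨5681, 6, 3⟩) (.one ⟨11531, 6, 3⟩))) (.node 2 (.node 1 (.one ⟨9430, 6, 1⟩) (.one ⟨15623, 6, 3⟩)) (.node 1 (.one ⟨13810, 6, 4⟩) (.one ⟨1442, 6, 1⟩)))) (.node 4 (.node 2 (.node 1 (.one ⟨3753, 4, 4⟩) (.one ⟨17007, 6, 2⟩)) (.node 1 (.one ⟨14088, 6, 3⟩) (.one ⟨14298, 6, 3⟩))) (.node 2 (.node 1 (.one ⟨16746, 6, 5⟩) (.one ⟨4879, 6, 5⟩)) (.node 1 (.one ⟨15415, 1, 3⟩) (.one ⟨9005, 6, 3⟩))))) (.node 8 (.node 4 (.node 2 (.node 1 (.one ⟨8577, 5, 3⟩) (.one ⟨1968, 5, 4⟩)) (.node 1 (.one ⟨6570, 0, 4⟩) (.one ⟨14297, 6, 3⟩))) (.node 2 (.node 1 (.one ⟨2590, 0, 3⟩) (.one ⟨2640, 6, 3⟩))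 (.node 1 (.one ⟨13954, 5, 3⟩) (.one ⟨7653, 5, 3⟩)))) (.node 4 (.node 2 (.node 1 (.one ⟨659, 0, 3⟩) (.one ⟨2544, 5, 4⟩)) (.node 1 (.one ⟨7649, 4, 3⟩) (.one ⟨15380, 0, 3⟩))) (.node 2 (.node 1 (.one ⟨7229, 3, 5⟩) (.one ⟨5103, 5, 3⟩)) (.node 1 (.one ⟨8332, 5, 4⟩) (.one ⟨2918, 5, 3⟩)))))) (.node 16 (.node 8 (.node 4 (.node 2 (.node 1 (.one ⟨7697, 5, 2⟩) (.one ⟨6865, 0, 3⟩)) (.node 1 (.one ⟨4199, 4, 2⟩) (.one ⟨3634, 4, 2⟩))) (.node 2 (.node 1 (.one ⟨2522, 0, 3⟩) (.one ⟨10981, 0, 3⟩)) (.node 1 (.one ⟨1619, 4, 2⟩) (.one ⟨7251, 5, 4⟩)))) (.node 4 (.node 2 (.node 1 (.one ⟨1825, 5, 3⟩) (.one ⟨16892, 6, 5⟩)) (.node 1 (.one ⟨7381, 5, 4⟩) (.one ⟨3183, 5, 3⟩))) (.node 2 (.node 1 (.one ⟨5883, 5, 4⟩) (.one ⟨16137, 4, 4⟩)) (.node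 1 (.one ⟨7745, 6, 4⟩) (.one ⟨16664, 5, 5⟩))))) (.node 8 (.node 4 (.node 2 (.node 1 (.one ⟨12240, 1, 3⟩) (.one ⟨10005, 5, 5⟩)) (.node 1 (.one ⟨15084, 4, 3⟩) (.one ⟨5660, 6, 4⟩))) (.node 2 (.node 1 (.one ⟨6963, 0, 4⟩) (.one ⟨7838, 5, 5⟩)) (.node 1 (.one ⟨2709, 0, 4⟩) (.one ⟨15002, 4, 2⟩)))) (.node 4 (.node 2 (.node 1 (.one ⟨12793, 3, 2⟩) (.one ⟨6877, 1, 3⟩)) (.node 1 (.one ⟨4097, 5, 4⟩) (.one ⟨13093, 6, 4⟩))) (.node 2 (.node 1 (.one ⟨1709, 6, 3⟩) (.one ⟨3001, 5, 4⟩)) (.node 1 (.one ⟨10830, 1, 3⟩) (.one ⟨11424, 5, 4⟩)))))))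
def par3_14_13 : Arr Par :=
  (.node 32 (.node 16 (.node 8 (.node 4 (.node 2 (.node 1 (.one ⟨9798, 5, 4⟩) (.one ⟨11719, 4, 5⟩)) (.node 1 (.one ⟨3238, 6, 4⟩) (.one ⟨3234, 6, 4⟩))) (.node 2 (.node 1 (.one ⟨345, 6, 3⟩) (.one ⟨10, 6, 3⟩)) (.node 1 (.one ⟨16904, 1, 3⟩) (.one ⟨2863, 5, 4⟩)))) (.node 4 (.node 2 (.node 1 (.one ⟨4221, 3, 4⟩) (.one ⟨14173, 6, 3⟩)) (.node 1 (.one ⟨2875, 5, 3⟩) (.one ⟨10983, 5, 5⟩))) (.node 2 (.node 1 (.one ⟨10956, 5, 5⟩) (.one ⟨7533, 6, 2⟩)) (.node 1 (.one ⟨10982, 5, 3⟩) (.one ⟨12850, 4, 3⟩))))) (.node 8 (.node 4 (.node 2 (.node 1 (.one ⟨3916, 4, 4⟩) (.one ⟨13803, 6, 4⟩)) (.node 1 (.one ⟨6208, 5, 3⟩) (.one ⟨10731, 6, 5⟩))) (.node 2 (.node 1 (.one ⟨16425, 0, 4⟩) (.one ⟨13141, 3, 4⟩)) (.node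 1 (.one ⟨10624, 5, 4⟩) (.one ⟨12928, 6, 4⟩)))) (.node 4 (.node 2 (.node 1 (.one ⟨12848, 6, 3⟩) (.one ⟨1351, 6, 2⟩)) (.node 1 (.one ⟨14289, 5, 4⟩) (.one ⟨14132, 1, 4⟩))) (.node 2 (.node 1 (.one ⟨1180, 5, 2⟩) (.one ⟨12884, 6, 3⟩)) (.node 1 (.one ⟨11960, 5, 3⟩) (.one ⟨11271, 2, 2⟩)))))) (.node 16 (.node 8 (.node 4 (.node 2 (.node 1 (.one ⟨213, 6, 4⟩) (.one ⟨16346, 3, 4⟩)) (.node 1 (.one ⟨5098, 5, 4⟩) (.one ⟨657, 4, 3⟩))) (.node 2 (.node 1 (.one ⟨96, 4, 3⟩) (.one ⟨13103, 5, 4⟩)) (.node 1 (.one ⟨5065, 5, 4⟩) (.one ⟨8201, 4, 2⟩)))) (.node 4 (.node 2 (.node 1 (.one ⟨6030, 4, 4⟩) (.one ⟨10391, 6, 4⟩)) (.node 1 (.one ⟨2795, 5, 3⟩) (.one ⟨1712, 4, 2⟩))) (.node 2 (.node 1 (.one ⟨12927, 0, 5⟩) (.one ⟨16489, 0, 5⟩)) (.node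 1 (.one ⟨5724, 4, 4⟩) (.one ⟨5417, 6, 3⟩))))) (.node 8 (.node 4 (.node 2 (.node 1 (.one ⟨16812, 0, 3⟩) (.one ⟨15771, 5, 4⟩)) (.node 1 (.one ⟨14757, 6, 4⟩) (.one ⟨12693, 5, 4⟩))) (.node 2 (.node 1 (.one ⟨8134, 6, 4⟩) (.one ⟨398, 5, 4⟩)) (.node 1 (.one ⟨11167, 4, 3⟩) (.one ⟨14863, 6, 3⟩)))) (.node 4 (.node 2 (.node 1 (.one ⟨9825, 4, 3⟩) (.one ⟨11849, 6, 3⟩)) (.node 1 (.one ⟨15644, 6, 4⟩) (.one ⟨16255, 4, 2⟩))) (.node 2 (.node 1 (.one ⟨5332, 4, 4⟩) (.one ⟨4665, 6, 2⟩)) (.node 1 (.one ⟨14130, 5, 3⟩) (.one ⟨12060, 6, 4⟩)))))))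
def par3_14_14 : Arr Par :=
  (.node 32 (.node 16 (.node 8 (.node 4 (.node 2 (.node 1 (.one ⟨7970, 6, 4⟩) (.one ⟨5212, 5, 4⟩)) (.node 1 (.one ⟨6118, 1, 2⟩) (.one ⟨13180, 4, 3⟩))) (.node 2 (.node 1 (.one ⟨16232, 5, 4⟩) (.one ⟨14745, 5, 4⟩)) (.node 1 (.one ⟨4661, 4, 3⟩) (.one ⟨6399, 0, 3⟩)))) (.node 4 (.node 2 (.node 1 (.one ⟨17146, 3, 2⟩) (.one ⟨10815, 0, 3⟩)) (.node 1 (.one ⟨2265, 0, 3⟩) (.one ⟨3423, 5, 3⟩))) (.node 2 (.node 1 (.one ⟨11476, 5, 4⟩) (.one ⟨4740, 6, 5⟩)) (.node 1 (.one ⟨12967, 0, 3⟩) (.one ⟨4144, 1, 3⟩))))) (.node 8 (.node 4 (.node 2 (.node 1 (.one ⟨7517, 4, 3⟩) (.one ⟨2819, 6, 2⟩)) (.node 1 (.one ⟨5220, 6, 4⟩) (.one ⟨12491, 6, 4⟩))) (.node 2 (.node 1 (.one ⟨10084, 6, 3⟩) (.one ⟨12869, 4, 4⟩))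 (.node 1 (.one ⟨3889, 6, 4⟩) (.one ⟨14492, 0, 3⟩)))) (.node 4 (.node 2 (.node 1 (.one ⟨2991, 5, 4⟩) (.one ⟨8742, 5, 3⟩)) (.node 1 (.one ⟨7824, 5, 3⟩) (.one ⟨13553, 6, 3⟩))) (.node 2 (.node 1 (.one ⟨6808, 5, 5⟩) (.one ⟨3987, 4, 5⟩)) (.node 1 (.one ⟨9762, 3, 2⟩) (.one ⟨13257, 5, 3⟩)))))) (.node 16 (.node 8 (.node 4 (.node 2 (.node 1 (.one ⟨16564, 5, 4⟩) (.one ⟨16570, 4, 4⟩)) (.node 1 (.one ⟨15436, 6, 4⟩) (.one ⟨14746, 5, 4⟩))) (.node 2 (.node 1 (.one ⟨11477, 5, 4⟩) (.one ⟨12605, 3, 4⟩)) (.node 1 (.one ⟨10023, 6, 2⟩) (.one ⟨9638, 6, 4⟩)))) (.node 4 (.node 2 (.node 1 (.one ⟨546, 6, 4⟩) (.one ⟨16560, 5, 4⟩)) (.node 1 (.one ⟨13192, 5, 5⟩) (.one ⟨6542, 5, 4⟩))) (.node 2 (.node 1 (.one ⟨1024, 5, 4⟩) (.one ⟨11242, 4,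 3⟩)) (.node 1 (.one ⟨4492, 5, 4⟩) (.one ⟨2694, 6, 3⟩))))) (.node 8 (.node 4 (.node 2 (.node 1 (.one ⟨12332, 4, 4⟩) (.one ⟨16679, 6, 2⟩)) (.node 1 (.one ⟨4359, 6, 4⟩) (.one ⟨460, 1, 4⟩))) (.node 2 (.node 1 (.one ⟨14173, 5, 3⟩) (.one ⟨7193, 3, 3⟩)) (.node 1 (.one ⟨8901, 6, 4⟩) (.one ⟨15842, 5, 5⟩)))) (.node 4 (.node 2 (.node 1 (.one ⟨1169, 6, 4⟩) (.one ⟨15845, 5, 3⟩)) (.node 1 (.one ⟨12367, 6, 4⟩) (.one ⟨4940, 4, 4⟩))) (.node 2 (.node 1 (.one ⟨5811, 0, 3⟩) (.one ⟨10454, 4, 4⟩)) (.node 1 (.one ⟨15841, 5, 5⟩) (.one ⟨15348, 4, 3⟩)))))))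
def par3_14_15 : Arr Par :=
  (.node 32 (.node 16 (.node 8 (.node 4 (.node 2 (.node 1 (.one ⟨12277, 5, 5⟩) (.one ⟨6437, 5, 4⟩)) (.node 1 (.one ⟨16147, 5, 2⟩) (.one ⟨5648, 5, 2⟩))) (.node 2 (.node 1 (.one ⟨16430, 5, 3⟩) (.one ⟨9631, 6, 3⟩)) (.node 1 (.one ⟨1658, 6, 4⟩) (.one ⟨16736, 0, 4⟩)))) (.node 4 (.node 2 (.node 1 (.one ⟨14902, 6, 2⟩) (.one ⟨3774, 6, 4⟩)) (.node 1 (.one ⟨12596, 3, 3⟩) (.one ⟨4610, 6, 3⟩))) (.node 2 (.node 1 (.one ⟨6392, 6, 4⟩) (.one ⟨9439, 5, 3⟩)) (.node 1 (.one ⟨2506, 4, 4⟩) (.one ⟨6439, 5, 4⟩))))) (.node 8 (.node 4 (.node 2 (.node 1 (.one ⟨12280, 6, 3⟩) (.one ⟨4103, 3, 3⟩)) (.node 1 (.one ⟨5876, 0, 5⟩) (.one ⟨6667, 6, 4⟩))) (.node 2 (.node 1 (.one ⟨1911, 4, 4⟩) (.one ⟨137, 0, 5⟩)) (.node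 1 (.one ⟨3979, 5, 3⟩) (.one ⟨1139, 5, 3⟩)))) (.node 4 (.node 2 (.node 1 (.one ⟨8636, 0, 3⟩) (.one ⟨7256, 5, 3⟩)) (.node 1 (.one ⟨8710, 1, 5⟩) (.one ⟨4910, 5, 3⟩))) (.node 2 (.node 1 (.one ⟨200, 1, 5⟩) (.one ⟨256, 6, 4⟩)) (.node 1 (.one ⟨7166, 1, 5⟩) (.one ⟨1656, 6, 5⟩)))))) (.node 16 (.node 8 (.node 4 (.node 2 (.node 1 (.one ⟨5459, 5, 3⟩) (.one ⟨12615, 6, 5⟩)) (.node 1 (.one ⟨4823, 0, 3⟩) (.one ⟨11852, 0, 4⟩))) (.node 2 (.node 1 (.one ⟨16248, 5, 3⟩) (.one ⟨8647, 5, 4⟩)) (.node 1 (.one ⟨4642, 6, 5⟩) (.one ⟨15992, 6, 5⟩)))) (.node 4 (.node 2 (.node 1 (.one ⟨14651, 0, 3⟩) (.one ⟨4397, 3, 4⟩)) (.node 1 (.one ⟨16583, 4, 2⟩) (.one ⟨3608, 3, 4⟩))) (.node 2 (.node 1 (.one ⟨12633, 6, 3⟩) (.one ⟨16361, 5, 4⟩)) (.node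 1 (.one ⟨2108, 5, 4⟩) (.one ⟨3139, 6, 5⟩))))) (.node 8 (.node 4 (.node 2 (.node 1 (.one ⟨2079, 6, 3⟩) (.one ⟨12293, 6, 4⟩)) (.node 1 (.one ⟨15113, 0, 3⟩) (.one ⟨16753, 5, 3⟩))) (.node 2 (.node 1 (.one ⟨16172, 3, 2⟩) (.one ⟨9972, 4, 2⟩)) (.node 1 (.one ⟨1202, 5, 5⟩) (.one ⟨11156, 6, 5⟩)))) (.node 4 (.node 2 (.node 1 (.one ⟨7919, 0, 4⟩) (.one ⟨13937, 0, 4⟩)) (.node 1 (.one ⟨13419, 5, 2⟩) (.one ⟨4488, 5, 3⟩))) (.node 2 (.node 1 (.one ⟨7173, 3, 3⟩) (.one ⟨4070, 5, 4⟩)) (.node 1 (.one ⟨4606, 5, 4⟩) (.one ⟨3750, 5, 4⟩)))))))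
def par3_14 : Arr Par :=
  (.node 512 (.node 256 (.node 128 (.node 64 par3_14_0 par3_14_1) (.node 64 par3_14_2 par3_14_3)) (.node 128 (.node 64 par3_14_4 par3_14_5) (.node 64 par3_14_6 par3_14_7))) (.node 256 (.node 128 (.node 64 par3_14_8 par3_14_9) (.node 64 par3_14_10 par3_14_11)) (.node 128 (.node 64 par3_14_12 par3_14_13) (.node 64 par3_14_14 par3_14_15))))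
def par3_15_0 : Arr Par :=
  (.node 32 (.node 16 (.node 8 (.node 4 (.node 2 (.node 1 (.one ⟨15198, 5, 4⟩) (.one ⟨4477, 5, 3⟩)) (.node 1 (.one ⟨14861, 5, 4⟩) (.one ⟨837, 1, 4⟩))) (.node 2 (.node 1 (.one ⟨2424, 5, 5⟩) (.one ⟨16228, 6, 4⟩)) (.node 1 (.one ⟨15272, 3, 5⟩) (.one ⟨5253, 5, 4⟩)))) (.node 4 (.node 2 (.node 1 (.one ⟨10886, 5, 5⟩) (.one ⟨4173, 6, 5⟩)) (.node 1 (.one ⟨3950, 5, 4⟩) (.one ⟨13089, 0, 3⟩))) (.node 2 (.node 1 (.one ⟨10878, 0, 3⟩) (.one ⟨15405, 5, 3⟩)) (.node 1 (.one ⟨8445, 5, 4⟩) (.one ⟨6143, 5, 4⟩))))) (.node 8 (.node 4 (.node 2 (.node 1 (.one ⟨10753, 5, 2⟩) (.one ⟨8823, 5, 5⟩)) (.node 1 (.one ⟨16482, 6, 2⟩) (.one ⟨11879, 0, 3⟩))) (.node 2 (.node 1 (.one ⟨5495, 5, 2⟩) (.one ⟨14375, 5, 5⟩))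 (.node 1 (.one ⟨2143, 6, 3⟩) (.one ⟨8654, 0, 3⟩)))) (.node 4 (.node 2 (.node 1 (.one ⟨6582, 0, 3⟩) (.one ⟨14437, 5, 5⟩)) (.node 1 (.one ⟨7925, 0, 4⟩) (.one ⟨3142, 4, 3⟩))) (.node 2 (.node 1 (.one ⟨2854, 0, 4⟩) (.one ⟨4356, 5, 5⟩)) (.node 1 (.one ⟨16172, 5, 2⟩) (.one ⟨12740, 4, 2⟩)))))) (.node 16 (.node 8 (.node 4 (.node 2 (.node 1 (.one ⟨4344, 4, 3⟩) (.one ⟨15030, 6, 3⟩)) (.node 1 (.one ⟨10929, 5, 3⟩) (.one ⟨10338, 6, 3⟩))) (.node 2 (.node 1 (.one ⟨11000, 6, 3⟩) (.one ⟨7946, 6, 3⟩)) (.node 1 (.one ⟨8807, 6, 2⟩) (.one ⟨4351, 6, 4⟩)))) (.node 4 (.node 2 (.node 1 (.one ⟨4349, 6, 4⟩) (.one ⟨15304, 3, 3⟩)) (.node 1 (.one ⟨16328, 5, 4⟩) (.one ⟨15378, 3, 3⟩))) (.node 2 (.node 1 (.one ⟨5260, 5, 5⟩) (.one ⟨2083, 6,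 2⟩)) (.node 1 (.one ⟨2073, 6, 4⟩) (.one ⟨6828, 6, 3⟩))))) (.node 8 (.node 4 (.node 2 (.node 1 (.one ⟨2812, 5, 4⟩) (.one ⟨997, 6, 4⟩)) (.node 1 (.one ⟨4032, 5, 4⟩) (.one ⟨5055, 5, 4⟩))) (.node 2 (.node 1 (.one ⟨2058, 5, 5⟩) (.one ⟨2918, 0, 3⟩)) (.node 1 (.one ⟨15685, 6, 4⟩) (.one ⟨3219, 6, 2⟩)))) (.node 4 (.node 2 (.node 1 (.one ⟨13758, 4, 3⟩) (.one ⟨14011, 5, 4⟩)) (.node 1 (.one ⟨3401, 0, 3⟩) (.one ⟨9430, 4, 1⟩))) (.node 2 (.node 1 (.one ⟨2158, 5, 5⟩) (.one ⟨13244, 0, 3⟩)) (.node 1 (.one ⟨1780, 1, 1⟩) (.one ⟨15618, 6, 3⟩)))))))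
def par3_15_1 : Arr Par :=
  (.node 32 (.node 16 (.node 8 (.node 4 (.node 2 (.node 1 (.one ⟨13660, 6, 4⟩) (.one ⟨637, 5, 4⟩)) (.node 1 (.one ⟨4555, 4, 2⟩) (.one ⟨3379, 0, 2⟩))) (.node 2 (.node 1 (.one ⟨460, 5, 4⟩) (.one ⟨11054, 5, 5⟩)) (.node 1 (.one ⟨304, 5, 3⟩) (.one ⟨4631, 6, 4⟩)))) (.node 4 (.node 2 (.node 1 (.one ⟨9437, 3, 1⟩) (.one ⟨5235, 5, 4⟩)) (.node 1 (.one ⟨10443, 6, 5⟩) (.one ⟨2368, 5, 4⟩))) (.node 2 (.node 1 (.one ⟨13272, 5, 3⟩) (.one ⟨6835, 5, 3⟩)) (.node 1 (.one ⟨2875, 0, 3⟩) (.one ⟨3061, 3, 3⟩))))) (.node 8 (.node 4 (.node 2 (.node 1 (.one ⟨9438, 3, 1⟩) (.one ⟨10260, 5, 5⟩)) (.node 1 (.one ⟨4620, 3, 3⟩) (.one ⟨4961, 5, 3⟩))) (.node 2 (.node 1 (.one ⟨12972, 5, 3⟩) (.one ⟨207, 4, 5⟩)) (.node 1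 (.one ⟨4255, 5, 5⟩) (.one ⟨16468, 5, 5⟩)))) (.node 4 (.node 2 (.node 1 (.one ⟨16996, 5, 2⟩) (.one ⟨9435, 4, 4⟩)) (.node 1 (.one ⟨2414, 5, 3⟩) (.one ⟨13885, 6, 4⟩))) (.node 2 (.node 1 (.one ⟨1407, 6, 2⟩) (.one ⟨9908, 6, 2⟩)) (.node 1 (.one ⟨15536, 5, 4⟩) (.one ⟨9621, 5, 3⟩)))))) (.node 16 (.node 8 (.node 4 (.node 2 (.node 1 (.one ⟨12883, 6, 3⟩) (.one ⟨11799, 0, 4⟩)) (.node 1 (.one ⟨7402, 1, 3⟩) (.one ⟨1605, 5, 3⟩))) (.node 2 (.node 1 (.one ⟨15312, 1, 4⟩) (.one ⟨7571, 4, 5⟩)) (.node 1 (.one ⟨10705, 1, 4⟩) (.one ⟨7848, 5, 2⟩)))) (.node 4 (.node 2 (.node 1 (.one ⟨1110, 2, 2⟩) (.one ⟨12893, 6, 4⟩)) (.node 1 (.one ⟨7900, 4, 3⟩) (.one ⟨3207, 5, 3⟩))) (.node 2 (.node 1 (.one ⟨3600, 5, 3⟩) (.one ⟨6432, 5, 4⟩)) (.node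 1 (.one ⟨8440, 5, 2⟩) (.one ⟨486, 6, 4⟩))))) (.node 8 (.node 4 (.node 2 (.node 1 (.one ⟨9282, 4, 4⟩) (.one ⟨621, 6, 4⟩)) (.node 1 (.one ⟨3373, 4, 4⟩) (.one ⟨7588, 5, 4⟩))) (.node 2 (.node 1 (.one ⟨12514, 3, 4⟩) (.one ⟨14339, 5, 3⟩)) (.node 1 (.one ⟨13134, 5, 2⟩) (.one ⟨15398, 6, 3⟩)))) (.node 4 (.node 2 (.node 1 (.one ⟨15309, 4, 4⟩) (.one ⟨9315, 4, 4⟩)) (.node 1 (.one ⟨15525, 6, 3⟩) (.one ⟨4635, 0, 4⟩))) (.node 2 (.node 1 (.one ⟨1703, 3, 5⟩) (.one ⟨1366, 5, 5⟩)) (.node 1 (.one ⟨3158, 6, 3⟩) (.one ⟨12383, 5, 4⟩)))))))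
def par3_15_2 : Arr Par :=
  (.node 32 (.node 16 (.node 8 (.node 4 (.node 2 (.node 1 (.one ⟨13215, 5, 5⟩) (.one ⟨12765, 3, 3⟩)) (.node 1 (.one ⟨10688, 6, 3⟩) (.one ⟨10701, 6, 1⟩))) (.node 2 (.node 1 (.one ⟨9279, 4, 4⟩) (.one ⟨1738, 5, 3⟩)) (.node 1 (.one ⟨5324, 0, 2⟩) (.one ⟨13879, 3, 4⟩)))) (.node 4 (.node 2 (.node 1 (.one ⟨5682, 3, 2⟩) (.one ⟨3477, 0, 3⟩)) (.node 1 (.one ⟨7009, 6, 3⟩) (.one ⟨10788, 6, 2⟩))) (.node 2 (.node 1 (.one ⟨11264, 3, 4⟩) (.one ⟨9608, 2, 3⟩)) (.node 1 (.one ⟨914, 6, 5⟩) (.one ⟨6529, 5, 5⟩))))) (.node 8 (.node 4 (.node 2 (.node 1 (.one ⟨14590, 5, 3⟩) (.one ⟨15592, 3, 4⟩)) (.node 1 (.one ⟨6538, 5, 4⟩) (.one ⟨6563, 5, 3⟩))) (.node 2 (.node 1 (.one ⟨15907, 6, 4⟩) (.one ⟨3214, 3, 4⟩)) (.node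 1 (.one ⟨15523, 3, 4⟩) (.one ⟨2873, 6, 4⟩)))) (.node 4 (.node 2 (.node 1 (.one ⟨1009, 5, 4⟩) (.one ⟨14481, 6, 4⟩)) (.node 1 (.one ⟨9557, 5, 4⟩) (.one ⟨16073, 5, 3⟩))) (.node 2 (.node 1 (.one ⟨16464, 4, 3⟩) (.one ⟨6287, 0, 3⟩)) (.node 1 (.one ⟨16984, 3, 3⟩) (.one ⟨11474, 3, 4⟩)))))) (.node 16 (.node 8 (.node 4 (.node 2 (.node 1 (.one ⟨252, 5, 4⟩) (.one ⟨6355, 5, 2⟩)) (.node 1 (.one ⟨9612, 2, 3⟩) (.one ⟨14862, 6, 3⟩))) (.node 2 (.node 1 (.one ⟨1233, 6, 2⟩) (.one ⟨14600, 6, 2⟩)) (.node 1 (.one ⟨4599, 0, 2⟩) (.one ⟨7002, 5, 3⟩)))) (.node 4 (.node 2 (.node 1 (.one ⟨16595, 6, 3⟩) (.one ⟨10587, 5, 2⟩)) (.node 1 (.one ⟨6046, 6, 4⟩) (.one ⟨9281, 4, 4⟩))) (.node 2 (.node 1 (.one ⟨1352, 6, 2⟩) (.one ⟨9858, 2, 1⟩)) (.node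 1 (.one ⟨12770, 6, 3⟩) (.one ⟨2890, 6, 4⟩))))) (.node 8 (.node 4 (.node 2 (.node 1 (.one ⟨7250, 4, 3⟩) (.one ⟨13953, 5, 4⟩)) (.node 1 (.one ⟨2946, 4, 3⟩) (.one ⟨14755, 5, 4⟩))) (.node 2 (.node 1 (.one ⟨14982, 4, 3⟩) (.one ⟨5046, 6, 4⟩)) (.node 1 (.one ⟨15119, 5, 4⟩) (.one ⟨11091, 1, 4⟩)))) (.node 4 (.node 2 (.node 1 (.one ⟨8747, 5, 3⟩) (.one ⟨6642, 5, 3⟩)) (.node 1 (.one ⟨11198, 1, 4⟩) (.one ⟨8559, 5, 4⟩))) (.node 2 (.node 1 (.one ⟨11855, 5, 3⟩) (.one ⟨9478, 5, 4⟩)) (.node 1 (.one ⟨6766, 5, 5⟩) (.one ⟨5066, 5, 4⟩)))))))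
def par3_15_3 : Arr Par :=
  (.node 32 (.node 16 (.node 8 (.node 4 (.node 2 (.node 1 (.one ⟨9042, 6, 4⟩) (.one ⟨8040, 5, 3⟩)) (.node 1 (.one ⟨1405, 4, 3⟩) (.one ⟨6180, 6, 4⟩))) (.node 2 (.node 1 (.one ⟨7363, 5, 2⟩) (.one ⟨11151, 6, 5⟩)) (.node 1 (.one ⟨1491, 6, 3⟩) (.one ⟨14185, 4, 2⟩)))) (.node 4 (.node 2 (.node 1 (.one ⟨11452, 4, 3⟩) (.one ⟨3154, 0, 4⟩)) (.node 1 (.one ⟨7518, 3, 4⟩) (.one ⟨2995, 1, 1⟩))) (.node 2 (.node 1 (.one ⟨11006, 0, 3⟩) (.one ⟨11976, 1, 1⟩)) (.node 1 (.one ⟨1383, 4, 1⟩) (.one ⟨7047, 6, 4⟩))))) (.node 8 (.node 4 (.node 2 (.node 1 (.one ⟨1379, 4, 4⟩) (.one ⟨11924, 1, 3⟩)) (.node 1 (.one ⟨11129, 5, 3⟩) (.one ⟨16133, 5, 3⟩))) (.node 2 (.node 1 (.one ⟨8318, 3, 3⟩) (.one ⟨10298, 3, 3⟩)) (.node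 1 (.one ⟨2830, 5, 4⟩) (.one ⟨2388, 5, 4⟩)))) (.node 4 (.node 2 (.node 1 (.one ⟨13721, 6, 4⟩) (.one ⟨11195, 4, 4⟩)) (.node 1 (.one ⟨2509, 5, 4⟩) (.one ⟨10348, 5, 4⟩))) (.node 2 (.node 1 (.one ⟨14530, 4, 3⟩) (.one ⟨5603, 5, 4⟩)) (.node 1 (.one ⟨2816, 6, 4⟩) (.one ⟨1502, 6, 4⟩)))))) (.node 16 (.node 8 (.node 4 (.node 2 (.node 1 (.one ⟨12612, 0, 2⟩) (.one ⟨1328, 5, 4⟩)) (.node 1 (.one ⟨2786, 5, 5⟩) (.one ⟨522, 5, 4⟩))) (.node 2 (.node 1 (.one ⟨10108, 4, 4⟩) (.one ⟨12454, 5, 2⟩)) (.node 1 (.one ⟨13598, 5, 4⟩) (.one ⟨10676, 5, 3⟩)))) (.node 4 (.node 2 (.node 1 (.one ⟨17062, 6, 3⟩) (.one ⟨11908, 5, 3⟩)) (.node 1 (.one ⟨5264, 6, 5⟩) (.one ⟨13378, 6, 4⟩))) (.node 2 (.node 1 (.one ⟨1133, 5, 4⟩) (.one ⟨14571, 2, 2⟩))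 (.node 1 (.one ⟨3925, 5, 5⟩) (.one ⟨1712, 5, 2⟩))))) (.node 8 (.node 4 (.node 2 (.node 1 (.one ⟨1047, 6, 4⟩) (.one ⟨5724, 5, 4⟩)) (.node 1 (.one ⟨800, 6, 4⟩) (.one ⟨15422, 4, 2⟩))) (.node 2 (.node 1 (.one ⟨5212, 6, 4⟩) (.one ⟨8201, 5, 2⟩)) (.node 1 (.one ⟨6030, 5, 4⟩) (.one ⟨2501, 5, 5⟩)))) (.node 4 (.node 2 (.node 1 (.one ⟨10368, 5, 3⟩) (.one ⟨6956, 3, 2⟩)) (.node 1 (.one ⟨521, 6, 3⟩) (.one ⟨3512, 0, 4⟩))) (.node 2 (.node 1 (.one ⟨1287, 4, 4⟩) (.one ⟨11249, 1, 3⟩)) (.node 1 (.one ⟨6631, 5, 3⟩) (.one ⟨3216, 4, 2⟩)))))))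
def par3_15_4 : Arr Par :=
  (.node 32 (.node 16 (.node 8 (.node 4 (.node 2 (.node 1 (.one ⟨6553, 6, 4⟩) (.one ⟨5668, 1, 4⟩)) (.node 1 (.one ⟨2819, 0, 2⟩) (.one ⟨2157, 5, 4⟩))) (.node 2 (.node 1 (.one ⟨5222, 0, 3⟩) (.one ⟨16057, 6, 4⟩)) (.node 1 (.one ⟨8249, 1, 4⟩) (.one ⟨5852, 4, 2⟩)))) (.node 4 (.node 2 (.node 1 (.one ⟨15597, 5, 3⟩) (.one ⟨15563, 5, 2⟩)) (.node 1 (.one ⟨15556, 5, 3⟩) (.one ⟨12056, 5, 2⟩))) (.node 2 (.node 1 (.one ⟨12049, 5, 2⟩) (.one ⟨1375, 6, 4⟩)) (.node 1 (.one ⟨2473, 0, 3⟩) (.one ⟨4287, 6, 3⟩))))) (.node 8 (.node 4 (.node 2 (.node 1 (.one ⟨5648, 4, 2⟩) (.one ⟨17084, 4, 4⟩)) (.node 1 (.one ⟨5292, 6, 4⟩) (.one ⟨521, 5, 3⟩))) (.node 2 (.node 1 (.one ⟨3216, 0, 2⟩) (.one ⟨15615, 6, 3⟩)) (.node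 1 (.one ⟨15635, 5, 4⟩) (.one ⟨16365, 5, 3⟩)))) (.node 4 (.node 2 (.node 1 (.one ⟨16047, 6, 5⟩) (.one ⟨14508, 6, 3⟩)) (.node 1 (.one ⟨6551, 6, 4⟩) (.one ⟨8375, 6, 5⟩))) (.node 2 (.node 1 (.one ⟨5552, 5, 3⟩) (.one ⟨15511, 6, 5⟩)) (.node 1 (.one ⟨11879, 4, 3⟩) (.one ⟨1185, 4, 3⟩)))))) (.node 16 (.node 8 (.node 4 (.node 2 (.node 1 (.one ⟨8306, 1, 5⟩) (.one ⟨4948, 1, 5⟩)) (.node 1 (.one ⟨5014, 1, 5⟩) (.one ⟨14204, 5, 4⟩))) (.node 2 (.node 1 (.one ⟨7225, 5, 3⟩) (.one ⟨11467, 5, 3⟩)) (.node 1 (.one ⟨1252, 5, 3⟩) (.one ⟨3077, 6, 3⟩)))) (.node 4 (.node 2 (.node 1 (.one ⟨10456, 0, 2⟩) (.one ⟨4916, 5, 4⟩)) (.node 1 (.one ⟨5006, 1, 3⟩) (.one ⟨661, 6, 3⟩))) (.node 2 (.node 1 (.one ⟨837, 3, 4⟩) (.one ⟨1293, 4, 1⟩)) (.node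 1 (.one ⟨7, 6, 3⟩) (.one ⟨14083, 6, 5⟩))))) (.node 8 (.node 4 (.node 2 (.node 1 (.one ⟨8054, 0, 4⟩) (.one ⟨14383, 5, 3⟩)) (.node 1 (.one ⟨10821, 5, 3⟩) (.one ⟨7402, 5, 3⟩))) (.node 2 (.node 1 (.one ⟨2044, 0, 4⟩) (.one ⟨5371, 0, 4⟩)) (.node 1 (.one ⟨9153, 3, 2⟩) (.one ⟨4999, 1, 3⟩)))) (.node 4 (.node 2 (.node 1 (.one ⟨3460, 6, 4⟩) (.one ⟨16624, 6, 5⟩)) (.node 1 (.one ⟨8717, 0, 3⟩) (.one ⟨15800, 4, 3⟩))) (.node 2 (.node 1 (.one ⟨1324, 6, 3⟩) (.one ⟨16255, 6, 2⟩)) (.node 1 (.one ⟨1467, 5, 5⟩) (.one ⟨7233, 6, 5⟩)))))))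
def par3_15_5 : Arr Par :=
  (.node 32 (.node 16 (.node 8 (.node 4 (.node 2 (.node 1 (.one ⟨8281, 5, 2⟩) (.one ⟨14927, 6, 4⟩)) (.node 1 (.one ⟨8502, 5, 5⟩) (.one ⟨11520, 5, 4⟩))) (.node 2 (.node 1 (.one ⟨2553, 6, 5⟩) (.one ⟨10280, 5, 3⟩)) (.node 1 (.one ⟨5805, 5, 3⟩) (.one ⟨2060, 5, 3⟩)))) (.node 4 (.node 2 (.node 1 (.one ⟨11131, 0, 2⟩) (.one ⟨12526, 5, 3⟩)) (.node 1 (.one ⟨13853, 6, 4⟩) (.one ⟨7018, 6, 4⟩))) (.node 2 (.node 1 (.one ⟨8451, 6, 3⟩) (.one ⟨10446, 6, 4⟩)) (.node 1 (.one ⟨12400, 6, 4⟩) (.one ⟨6888, 6, 4⟩))))) (.node 8 (.node 4 (.node 2 (.node 1 (.one ⟨7773, 6, 2⟩) (.one ⟨4856, 2, 3⟩)) (.node 1 (.one ⟨11015, 3, 5⟩) (.one ⟨5015, 1, 4⟩))) (.node 2 (.node 1 (.one ⟨2067, 6, 3⟩) (.one ⟨13047, 6, 2⟩))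 (.node 1 (.one ⟨12978, 5, 4⟩) (.one ⟨5052, 1, 3⟩)))) (.node 4 (.node 2 (.node 1 (.one ⟨3900, 6, 5⟩) (.one ⟨3852, 1, 3⟩)) (.node 1 (.one ⟨6700, 4, 3⟩) (.one ⟨1984, 5, 3⟩))) (.node 2 (.node 1 (.one ⟨6538, 6, 4⟩) (.one ⟨3876, 6, 5⟩)) (.node 1 (.one ⟨463, 6, 5⟩) (.one ⟨14795, 5, 4⟩)))))) (.node 16 (.node 8 (.node 4 (.node 2 (.node 1 (.one ⟨2912, 5, 4⟩) (.one ⟨6182, 5, 4⟩)) (.node 1 (.one ⟨16166, 0, 4⟩) (.one ⟨13158, 1, 3⟩))) (.node 2 (.node 1 (.one ⟨1950, 6, 4⟩) (.one ⟨4555, 6, 2⟩)) (.node 1 (.one ⟨10538, 5, 4⟩) (.one ⟨7769, 5, 4⟩)))) (.node 4 (.node 2 (.node 1 (.one ⟨8584, 6, 5⟩) (.one ⟨3140, 6, 5⟩)) (.node 1 (.one ⟨16701, 5, 2⟩) (.one ⟨16857, 5, 5⟩))) (.node 2 (.node 1 (.one ⟨12336, 3, 5⟩) (.one ⟨3875, 6, 5⟩))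 (.node 1 (.one ⟨8253, 5, 3⟩) (.one ⟨10679, 6, 3⟩))))) (.node 8 (.node 4 (.node 2 (.node 1 (.one ⟨12278, 0, 4⟩) (.one ⟨9084, 2, 2⟩)) (.node 1 (.one ⟨3136, 6, 5⟩) (.one ⟨13548, 6, 4⟩))) (.node 2 (.node 1 (.one ⟨10122, 1, 3⟩) (.one ⟨13053, 5, 4⟩)) (.node 1 (.one ⟨10830, 3, 3⟩) (.one ⟨14905, 0, 3⟩)))) (.node 4 (.node 2 (.node 1 (.one ⟨12749, 4, 3⟩) (.one ⟨11160, 5, 2⟩)) (.node 1 (.one ⟨11558, 6, 4⟩) (.one ⟨9972, 5, 2⟩))) (.node 2 (.node 1 (.one ⟨4652, 5, 2⟩) (.one ⟨13571, 5, 4⟩)) (.node 1 (.one ⟨5408, 6, 5⟩) (.one ⟨12735, 4, 2⟩)))))))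
def par3_15_6 : Arr Par :=
  (.node 32 (.node 16 (.node 8 (.node 4 (.node 2 (.node 1 (.one ⟨7316, 6, 3⟩) (.one ⟨10200, 6, 4⟩)) (.node 1 (.one ⟨5096, 6, 5⟩) (.one ⟨12864, 0, 3⟩))) (.node 2 (.node 1 (.one ⟨4398, 4, 3⟩) (.one ⟨346, 5, 3⟩)) (.node 1 (.one ⟨6902, 6, 3⟩) (.one ⟨12477, 6, 3⟩)))) (.node 4 (.node 2 (.node 1 (.one ⟨3226, 5, 3⟩) (.one ⟨336, 5, 3⟩)) (.node 1 (.one ⟨5923, 6, 3⟩) (.one ⟨12382, 5, 4⟩))) (.node 2 (.node 1 (.one ⟨8972, 3, 3⟩) (.one ⟨12240, 0, 3⟩)) (.node 1 (.one ⟨13035, 5, 4⟩) (.one ⟨464, 6, 4⟩))))) (.node 8 (.node 4 (.node 2 (.node 1 (.one ⟨14926, 6, 4⟩) (.one ⟨12161, 1, 4⟩)) (.node 1 (.one ⟨13508, 6, 2⟩) (.one ⟨11160, 6, 2⟩))) (.node 2 (.node 1 (.one ⟨9696, 5, 5⟩) (.one ⟨13524, 5, 5⟩)) (.node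 1 (.one ⟨3926, 6, 4⟩) (.one ⟨1235, 6, 3⟩)))) (.node 4 (.node 2 (.node 1 (.one ⟨9255, 5, 4⟩) (.one ⟨14910, 0, 4⟩)) (.node 1 (.one ⟨16048, 0, 4⟩) (.one ⟨14660, 4, 3⟩))) (.node 2 (.node 1 (.one ⟨4753, 5, 3⟩) (.one ⟨4976, 6, 4⟩)) (.node 1 (.one ⟨7720, 5, 5⟩) (.one ⟨14906, 0, 2⟩)))))) (.node 16 (.node 8 (.node 4 (.node 2 (.node 1 (.one ⟨2782, 5, 4⟩) (.one ⟨12860, 0, 2⟩)) (.node 1 (.one ⟨1473, 5, 2⟩) (.one ⟨2415, 5, 5⟩))) (.node 2 (.node 1 (.one ⟨16172, 6, 2⟩) (.one ⟨1906, 6, 2⟩)) (.node 1 (.one ⟨9084, 6, 2⟩) (.one ⟨9363, 5, 4⟩)))) (.node 4 (.node 2 (.node 1 (.one ⟨5861, 5, 3⟩) (.one ⟨15000, 2, 2⟩)) (.node 1 (.one ⟨14563, 5, 5⟩) (.one ⟨12981, 5, 3⟩))) (.node 2 (.node 1 (.one ⟨8740, 5, 5⟩) (.one ⟨5236, 5, 5⟩)) (.node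 1 (.one ⟨10522, 6, 5⟩) (.one ⟨2368, 0, 4⟩))))) (.node 8 (.node 4 (.node 2 (.node 1 (.one ⟨9579, 0, 4⟩) (.one ⟨1479, 6, 3⟩)) (.node 1 (.one ⟨11859, 0, 4⟩) (.one ⟨674, 0, 4⟩))) (.node 2 (.node 1 (.one ⟨4748, 5, 3⟩) (.one ⟨3838, 0, 4⟩)) (.node 1 (.one ⟨8044, 5, 4⟩) (.one ⟨4835, 4, 3⟩)))) (.node 4 (.node 2 (.node 1 (.one ⟨5471, 5, 2⟩) (.one ⟨1140, 5, 3⟩)) (.node 1 (.one ⟨3333, 6, 5⟩) (.one ⟨16162, 5, 4⟩))) (.node 2 (.node 1 (.one ⟨13895, 6, 4⟩) (.one ⟨4878, 5, 3⟩)) (.node 1 (.one ⟨15305, 5, 5⟩) (.one ⟨16156, 6, 4⟩)))))))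
def par3_15_7 : Arr Par :=
  (.node 32 (.node 16 (.node 8 (.node 4 (.node 2 (.node 1 (.one ⟨11088, 4, 4⟩) (.one ⟨891, 5, 3⟩)) (.node 1 (.one ⟨13, 5, 3⟩) (.one ⟨2285, 4, 1⟩))) (.node 2 (.node 1 (.one ⟨9543, 3, 3⟩) (.one ⟨349, 5, 3⟩)) (.node 1 (.one ⟨16077, 6, 4⟩) (.one ⟨628, 5, 4⟩)))) (.node 4 (.node 2 (.node 1 (.one ⟨629, 5, 3⟩) (.one ⟨16465, 1, 5⟩)) (.node 1 (.one ⟨14306, 6, 2⟩) (.one ⟨16369, 6, 3⟩))) (.node 2 (.node 1 (.one ⟨5541, 6, 3⟩) (.one ⟨4576, 6, 3⟩)) (.node 1 (.one ⟨7922, 3, 4⟩) (.one ⟨11829, 0, 3⟩))))) (.node 8 (.node 4 (.node 2 (.node 1 (.one ⟨10705, 5, 4⟩) (.one ⟨16441, 5, 4⟩)) (.node 1 (.one ⟨7185, 5, 3⟩) (.one ⟨12307, 0, 3⟩))) (.node 2 (.node 1 (.one ⟨15576, 5, 5⟩) (.one ⟨11569, 5, 4⟩)) (.node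 1 (.one ⟨2473, 5, 3⟩) (.one ⟨5461, 3, 4⟩)))) (.node 4 (.node 2 (.node 1 (.one ⟨9771, 6, 2⟩) (.one ⟨11270, 5, 5⟩)) (.node 1 (.one ⟨14815, 5, 3⟩) (.one ⟨10909, 5, 2⟩))) (.node 2 (.node 1 (.one ⟨14497, 6, 4⟩) (.one ⟨5409, 6, 3⟩)) (.node 1 (.one ⟨5674, 5, 5⟩) (.one ⟨296, 6, 4⟩)))))) (.node 16 (.node 8 (.node 4 (.node 2 (.node 1 (.one ⟨4239, 5, 5⟩) (.one ⟨14132, 5, 4⟩)) (.node 1 (.one ⟨13129, 4, 4⟩) (.one ⟨4029, 5, 5⟩))) (.node 2 (.node 1 (.one ⟨6492, 1, 3⟩) (.one ⟨2106, 5, 2⟩)) (.node 1 (.one ⟨4423, 4, 4⟩) (.one ⟨5147, 6, 5⟩)))) (.node 4 (.node 2 (.node 1 (.one ⟨16992, 6, 3⟩) (.one ⟨15763, 3, 3⟩)) (.node 1 (.one ⟨12653, 5, 3⟩) (.one ⟨5497, 6, 4⟩))) (.node 2 (.node 1 (.one ⟨16161, 5, 4⟩) (.one ⟨13523, 6, 5⟩)) (.node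 1 (.one ⟨9220, 0, 4⟩) (.one ⟨8008, 5, 3⟩))))) (.node 8 (.node 4 (.node 2 (.node 1 (.one ⟨7095, 6, 4⟩) (.one ⟨7872, 5, 2⟩)) (.node 1 (.one ⟨7164, 5, 3⟩) (.one ⟨3164, 6, 5⟩))) (.node 2 (.node 1 (.one ⟨11326, 6, 5⟩) (.one ⟨15, 6, 5⟩)) (.node 1 (.one ⟨9821, 6, 3⟩) (.one ⟨16907, 6, 3⟩)))) (.node 4 (.node 2 (.node 1 (.one ⟨5901, 3, 4⟩) (.one ⟨2688, 6, 4⟩)) (.node 1 (.one ⟨9219, 0, 4⟩) (.one ⟨7921, 6, 5⟩))) (.node 2 (.node 1 (.one ⟨3884, 6, 3⟩) (.one ⟨10829, 6, 5⟩)) (.node 1 (.one ⟨12448, 5, 3⟩) (.one ⟨3790, 0, 3⟩)))))))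
def par3_15_8 : Arr Par :=
  (.node 32 (.node 16 (.node 8 (.node 4 (.node 2 (.node 1 (.one ⟨712, 4, 3⟩) (.one ⟨13542, 6, 4⟩)) (.node 1 (.one ⟨10439, 5, 3⟩) (.one ⟨8330, 1, 4⟩))) (.node 2 (.node 1 (.one ⟨5395, 6, 3⟩) (.one ⟨11263, 5, 4⟩)) (.node 1 (.one ⟨3313, 1, 4⟩) (.one ⟨14708, 6, 4⟩)))) (.node 4 (.node 2 (.node 1 (.one ⟨5221, 5, 4⟩) (.one ⟨6693, 6, 4⟩)) (.node 1 (.one ⟨15043, 5, 4⟩) (.one ⟨9608, 5, 3⟩))) (.node 2 (.node 1 (.one ⟨16160, 5, 4⟩) (.one ⟨9237, 6, 2⟩)) (.node 1 (.one ⟨1113, 6, 2⟩) (.one ⟨10462, 0, 2⟩))))) (.node 8 (.node 4 (.node 2 (.node 1 (.one ⟨3883, 0, 2⟩) (.one ⟨3854, 3, 3⟩)) (.node 1 (.one ⟨12991, 5, 5⟩) (.one ⟨4199, 0, 2⟩))) (.node 2 (.node 1 (.one ⟨15123, 6, 4⟩) (.one ⟨5551, 6, 2⟩)) (.node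 1 (.one ⟨5051, 6, 2⟩) (.one ⟨241, 6, 3⟩)))) (.node 4 (.node 2 (.node 1 (.one ⟨620, 5, 2⟩) (.one ⟨11912, 0, 2⟩)) (.node 1 (.one ⟨16159, 5, 4⟩) (.one ⟨13585, 6, 3⟩))) (.node 2 (.node 1 (.one ⟨10718, 6, 3⟩) (.one ⟨3757, 3, 3⟩)) (.node 1 (.one ⟨3776, 4, 4⟩) (.one ⟨4750, 6, 3⟩)))))) (.node 16 (.node 8 (.node 4 (.node 2 (.node 1 (.one ⟨7101, 5, 5⟩) (.one ⟨9872, 6, 5⟩)) (.node 1 (.one ⟨5923, 1, 3⟩) (.one ⟨6807, 5, 3⟩))) (.node 2 (.node 1 (.one ⟨16120, 5, 2⟩) (.one ⟨5863, 4, 4⟩)) (.node 1 (.one ⟨4257, 6, 4⟩) (.one ⟨3329, 6, 4⟩)))) (.node 4 (.node 2 (.node 1 (.one ⟨15289, 6, 4⟩) (.one ⟨11062, 5, 2⟩)) (.node 1 (.one ⟨9970, 6, 5⟩) (.one ⟨14556, 5, 5⟩))) (.node 2 (.node 1 (.one ⟨1054, 5, 4⟩) (.one ⟨3865, 5, 2⟩)) (.node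 1 (.one ⟨16200, 5, 2⟩) (.one ⟨2415, 6, 5⟩))))) (.node 8 (.node 4 (.node 2 (.node 1 (.one ⟨15288, 5, 5⟩) (.one ⟨13959, 4, 3⟩)) (.node 1 (.one ⟨13765, 6, 4⟩) (.one ⟨9059, 6, 5⟩))) (.node 2 (.node 1 (.one ⟨7937, 4, 4⟩) (.one ⟨9031, 5, 4⟩)) (.node 1 (.one ⟨13982, 3, 3⟩) (.one ⟨15787, 5, 4⟩)))) (.node 4 (.node 2 (.node 1 (.one ⟨8014, 5, 4⟩) (.one ⟨16116, 5, 3⟩)) (.node 1 (.one ⟨1780, 2, 1⟩) (.one ⟨7943, 4, 3⟩))) (.node 2 (.node 1 (.one ⟨2049, 6, 3⟩) (.one ⟨12133, 2, 1⟩)) (.node 1 (.one ⟨1633, 5, 4⟩) (.one ⟨4259, 0, 4⟩)))))))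
def par3_15_9 : Arr Par :=
  (.node 32 (.node 16 (.node 8 (.node 4 (.node 2 (.node 1 (.one ⟨15748, 5, 4⟩) (.one ⟨8037, 5, 2⟩)) (.node 1 (.one ⟨11524, 1, 3⟩) (.one ⟨10623, 4, 4⟩))) (.node 2 (.node 1 (.one ⟨11729, 5, 5⟩) (.one ⟨8110, 6, 4⟩)) (.node 1 (.one ⟨9412, 5, 3⟩) (.one ⟨7267, 5, 4⟩)))) (.node 4 (.node 2 (.node 1 (.one ⟨10424, 6, 4⟩) (.one ⟨15850, 5, 4⟩)) (.node 1 (.one ⟨11214, 2, 1⟩) (.one ⟨5542, 6, 3⟩))) (.node 2 (.node 1 (.one ⟨12387, 5, 4⟩) (.one ⟨13226, 5, 4⟩)) (.node 1 (.one ⟨13092, 6, 4⟩) (.one ⟨7311, 1, 3⟩))))) (.node 8 (.node 4 (.node 2 (.node 1 (.one ⟨7849, 5, 4⟩) (.one ⟨4006, 5, 4⟩)) (.node 1 (.one ⟨10451, 5, 4⟩) (.one ⟨15392, 5, 4⟩))) (.node 2 (.node 1 (.one ⟨7280, 1, 3⟩) (.one ⟨16098, 6, 5⟩))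 (.node 1 (.one ⟨10852, 5, 4⟩) (.one ⟨5901, 5, 4⟩)))) (.node 4 (.node 2 (.node 1 (.one ⟨11808, 5, 4⟩) (.one ⟨8874, 4, 4⟩)) (.node 1 (.one ⟨6540, 6, 4⟩) (.one ⟨6439, 6, 4⟩))) (.node 2 (.node 1 (.one ⟨6338, 6, 5⟩) (.one ⟨1670, 6, 3⟩)) (.node 1 (.one ⟨745, 6, 4⟩) (.one ⟨9395, 6, 2⟩)))))) (.node 16 (.node 8 (.node 4 (.node 2 (.node 1 (.one ⟨4451, 1, 3⟩) (.one ⟨16823, 0, 4⟩)) (.node 1 (.one ⟨8092, 6, 5⟩) (.one ⟨8778, 0, 3⟩))) (.node 2 (.node 1 (.one ⟨3585, 5, 4⟩) (.one ⟨10020, 5, 2⟩)) (.node 1 (.one ⟨3804, 5, 4⟩) (.one ⟨8718, 3, 4⟩)))) (.node 4 (.node 2 (.node 1 (.one ⟨12153, 6, 3⟩) (.one ⟨3964, 4, 4⟩)) (.node 1 (.one ⟨4999, 5, 3⟩) (.one ⟨1973, 5, 4⟩))) (.node 2 (.node 1 (.one ⟨13369, 5, 5⟩) (.one ⟨6446, 4, 4⟩))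 (.node 1 (.one ⟨2519, 3, 5⟩) (.one ⟨8049, 5, 4⟩))))) (.node 8 (.node 4 (.node 2 (.node 1 (.one ⟨15227, 6, 3⟩) (.one ⟨4117, 3, 3⟩)) (.node 1 (.one ⟨3701, 6, 4⟩) (.one ⟨4140, 5, 4⟩))) (.node 2 (.node 1 (.one ⟨7724, 5, 5⟩) (.one ⟨8117, 4, 4⟩)) (.node 1 (.one ⟨112, 6, 4⟩) (.one ⟨7462, 5, 3⟩)))) (.node 4 (.node 2 (.node 1 (.one ⟨12773, 6, 4⟩) (.one ⟨5853, 5, 2⟩)) (.node 1 (.one ⟨9827, 5, 4⟩) (.one ⟨6979, 6, 3⟩))) (.node 2 (.node 1 (.one ⟨1042, 6, 5⟩) (.one ⟨6050, 6, 4⟩)) (.node 1 (.one ⟨1211, 5, 5⟩) (.one ⟨5815, 6, 3⟩)))))))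
def par3_15_10 : Arr Par :=
  (.node 32 (.node 16 (.node 8 (.node 4 (.node 2 (.node 1 (.one ⟨1058, 6, 5⟩) (.one ⟨9075, 6, 3⟩)) (.node 1 (.one ⟨9185, 5, 5⟩) (.one ⟨11711, 6, 3⟩))) (.node 2 (.node 1 (.one ⟨8788, 1, 5⟩) (.one ⟨15340, 5, 4⟩)) (.node 1 (.one ⟨15336, 6, 4⟩) (.one ⟨11612, 5, 5⟩)))) (.node 4 (.node 2 (.node 1 (.one ⟨10306, 5, 4⟩) (.one ⟨14021, 6, 3⟩)) (.node 1 (.one ⟨4296, 5, 4⟩) (.one ⟨11726, 5, 3⟩))) (.node 2 (.node 1 (.one ⟨15307, 4, 4⟩) (.one ⟨11647, 6, 4⟩)) (.node 1 (.one ⟨3702, 4, 4⟩) (.one ⟨7896, 4, 3⟩))))) (.node 8 (.node 4 (.node 2 (.node 1 (.one ⟨7352, 4, 3⟩) (.one ⟨11788, 5, 3⟩)) (.node 1 (.one ⟨144, 5, 4⟩) (.one ⟨12133, 0, 1⟩))) (.node 2 (.node 1 (.one ⟨533, 5, 4⟩) (.one ⟨16423, 6, 3⟩))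 (.node 1 (.one ⟨286, 5, 4⟩) (.one ⟨4070, 0, 4⟩)))) (.node 4 (.node 2 (.node 1 (.one ⟨15795, 6, 5⟩) (.one ⟨8759, 5, 4⟩)) (.node 1 (.one ⟨15639, 6, 4⟩) (.one ⟨2811, 5, 3⟩))) (.node 2 (.node 1 (.one ⟨12116, 0, 4⟩) (.one ⟨721, 3, 4⟩)) (.node 1 (.one ⟨7017, 5, 2⟩) (.one ⟨13535, 6, 5⟩)))))) (.node 16 (.node 8 (.node 4 (.node 2 (.node 1 (.one ⟨13600, 5, 4⟩) (.one ⟨11723, 4, 5⟩)) (.node 1 (.one ⟨11058, 6, 5⟩) (.one ⟨15848, 6, 4⟩))) (.node 2 (.node 1 (.one ⟨3938, 6, 4⟩) (.one ⟨360, 6, 4⟩)) (.node 1 (.one ⟨3327, 5, 4⟩) (.one ⟨5416, 6, 3⟩)))) (.node 4 (.node 2 (.node 1 (.one ⟨532, 5, 4⟩) (.one ⟨5471, 1, 2⟩)) (.node 1 (.one ⟨13567, 6, 4⟩) (.one ⟨15701, 5, 3⟩))) (.node 2 (.node 1 (.one ⟨4200, 0, 1⟩) (.one ⟨910, 5, 4⟩))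 (.node 1 (.one ⟨284, 5, 4⟩) (.one ⟨15558, 5, 4⟩))))) (.node 8 (.node 4 (.node 2 (.node 1 (.one ⟨8240, 6, 3⟩) (.one ⟨7063, 3, 5⟩)) (.node 1 (.one ⟨15312, 3, 4⟩) (.one ⟨7166, 6, 5⟩))) (.node 2 (.node 1 (.one ⟨13959, 5, 3⟩) (.one ⟨4449, 6, 5⟩)) (.node 1 (.one ⟨7822, 3, 5⟩) (.one ⟨3499, 6, 5⟩)))) (.node 4 (.node 2 (.node 1 (.one ⟨1062, 6, 3⟩) (.one ⟨2353, 5, 3⟩)) (.node 1 (.one ⟨156, 6, 4⟩) (.one ⟨10817, 5, 5⟩))) (.node 2 (.node 1 (.one ⟨5463, 5, 3⟩) (.one ⟨2113, 5, 5⟩)) (.node 1 (.one ⟨7702, 0, 4⟩) (.one ⟨13217, 5, 3⟩)))))))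
def par3_15_11 : Arr Par :=
  (.node 32 (.node 16 (.node 8 (.node 4 (.node 2 (.node 1 (.one ⟨7084, 3, 4⟩) (.one ⟨5111, 5, 4⟩)) (.node 1 (.one ⟨5104, 5, 4⟩) (.one ⟨11524, 6, 3⟩))) (.node 2 (.node 1 (.one ⟨7663, 0, 4⟩) (.one ⟨5150, 5, 4⟩)) (.node 1 (.one ⟨6876, 6, 4⟩) (.one ⟨15126, 6, 4⟩)))) (.node 4 (.node 2 (.node 1 (.one ⟨14395, 6, 5⟩) (.one ⟨17181, 5, 2⟩)) (.node 1 (.one ⟨3772, 6, 4⟩) (.one ⟨7912, 6, 4⟩))) (.node 2 (.node 1 (.one ⟨8866, 6, 4⟩) (.one ⟨10367, 6, 3⟩)) (.node 1 (.one ⟨10977, 6, 4⟩) (.one ⟨8914, 6, 5⟩))))) (.node 8 (.node 4 (.node 2 (.node 1 (.one ⟨4526, 5, 5⟩) (.one ⟨13305, 5, 5⟩)) (.node 1 (.one ⟨3033, 6, 4⟩) (.one ⟨11309, 0, 4⟩))) (.node 2 (.node 1 (.one ⟨14393, 6, 5⟩) (.one ⟨8080, 3, 5⟩))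 (.node 1 (.one ⟨8656, 5, 3⟩) (.one ⟨14865, 5, 3⟩)))) (.node 4 (.node 2 (.node 1 (.one ⟨14920, 0, 3⟩) (.one ⟨8091, 6, 4⟩)) (.node 1 (.one ⟨6548, 0, 3⟩) (.one ⟨14863, 5, 3⟩))) (.node 2 (.node 1 (.one ⟨4147, 6, 5⟩) (.one ⟨382, 5, 3⟩)) (.node 1 (.one ⟨14864, 5, 4⟩) (.one ⟨12116, 5, 4⟩)))))) (.node 16 (.node 8 (.node 4 (.node 2 (.node 1 (.one ⟨6630, 4, 4⟩) (.one ⟨11256, 5, 5⟩)) (.node 1 (.one ⟨15017, 6, 4⟩) (.one ⟨13958, 4, 3⟩))) (.node 2 (.node 1 (.one ⟨7157, 5, 2⟩) (.one ⟨16910, 0, 3⟩)) (.node 1 (.one ⟨8167, 5, 3⟩) (.one ⟨10906, 6, 4⟩)))) (.node 4 (.node 2 (.node 1 (.one ⟨16608, 6, 4⟩) (.one ⟨11760, 6, 3⟩)) (.node 1 (.one ⟨13849, 6, 4⟩) (.one ⟨1689, 5, 3⟩))) (.node 2 (.node 1 (.one ⟨2160, 6, 4⟩) (.one ⟨7016, 6,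 3⟩)) (.node 1 (.one ⟨8231, 5, 3⟩) (.one ⟨7419, 0, 3⟩))))) (.node 8 (.node 4 (.node 2 (.node 1 (.one ⟨873, 5, 4⟩) (.one ⟨16027, 6, 4⟩)) (.node 1 (.one ⟨8874, 6, 4⟩) (.one ⟨6713, 5, 4⟩))) (.node 2 (.node 1 (.one ⟨16172, 4, 2⟩) (.one ⟨14871, 5, 4⟩)) (.node 1 (.one ⟨13194, 5, 4⟩) (.one ⟨6662, 6, 2⟩)))) (.node 4 (.node 2 (.node 1 (.one ⟨9146, 6, 1⟩) (.one ⟨2356, 5, 3⟩)) (.node 1 (.one ⟨2779, 5, 4⟩) (.one ⟨10118, 6, 3⟩))) (.node 2 (.node 1 (.one ⟨7115, 5, 4⟩) (.one ⟨6920, 5, 4⟩)) (.node 1 (.one ⟨10639, 1, 2⟩) (.one ⟨3248, 6, 4⟩)))))))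
def par3_15_12 : Arr Par :=
  (.node 32 (.node 16 (.node 8 (.node 4 (.node 2 (.node 1 (.one ⟨8716, 3, 2⟩) (.one ⟨13595, 4, 2⟩)) (.node 1 (.one ⟨5541, 5, 3⟩) (.one ⟨1915, 6, 4⟩))) (.node 2 (.node 1 (.one ⟨16587, 5, 3⟩) (.one ⟨12454, 4, 2⟩)) (.node 1 (.one ⟨4228, 5, 4⟩) (.one ⟨6897, 6, 5⟩)))) (.node 4 (.node 2 (.node 1 (.one ⟨6190, 5, 4⟩) (.one ⟨13009, 6, 3⟩)) (.node 1 (.one ⟨15395, 3, 4⟩) (.one ⟨16657, 5, 5⟩))) (.node 2 (.node 1 (.one ⟨14847, 5, 3⟩) (.one ⟨11174, 0, 4⟩)) (.node 1 (.one ⟨6598, 6, 5⟩) (.one ⟨14283, 6, 4⟩))))) (.node 8 (.node 4 (.node 2 (.node 1 (.one ⟨11437, 6, 5⟩) (.one ⟨6827, 6, 4⟩)) (.node 1 (.one ⟨7350, 5, 3⟩) (.one ⟨1388, 6, 1⟩))) (.node 2 (.node 1 (.one ⟨12645, 1, 5⟩) (.one ⟨7193, 4, 3⟩))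 (.node 1 (.one ⟨13421, 1, 3⟩) (.one ⟨12579, 5, 3⟩)))) (.node 4 (.node 2 (.node 1 (.one ⟨12419, 0, 3⟩) (.one ⟨8993, 5, 4⟩)) (.node 1 (.one ⟨13132, 6, 5⟩) (.one ⟨6348, 5, 3⟩))) (.node 2 (.node 1 (.one ⟨2287, 6, 3⟩) (.one ⟨7022, 6, 5⟩)) (.node 1 (.one ⟨13860, 3, 5⟩) (.one ⟨2973, 3, 3⟩)))))) (.node 16 (.node 8 (.node 4 (.node 2 (.node 1 (.one ⟨7051, 3, 3⟩) (.one ⟨11152, 3, 3⟩)) (.node 1 (.one ⟨14905, 3, 3⟩) (.one ⟨5537, 5, 3⟩))) (.node 2 (.node 1 (.one ⟨2017, 6, 4⟩) (.one ⟨17177, 5, 3⟩)) (.node 1 (.one ⟨13089, 5, 3⟩) (.one ⟨3712, 5, 4⟩)))) (.node 4 (.node 2 (.node 1 (.one ⟨7631, 5, 5⟩) (.one ⟨14341, 6, 3⟩)) (.node 1 (.one ⟨15521, 0, 3⟩) (.one ⟨1449, 6, 1⟩))) (.node 2 (.node 1 (.one ⟨13408, 0, 1⟩) (.one ⟨14305,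 6, 3⟩)) (.node 1 (.one ⟨11532, 6, 3⟩) (.one ⟨16217, 1, 2⟩))))) (.node 8 (.node 4 (.node 2 (.node 1 (.one ⟨4277, 0, 3⟩) (.one ⟨3874, 5, 1⟩)) (.node 1 (.one ⟨15259, 0, 4⟩) (.one ⟨8545, 0, 4⟩))) (.node 2 (.node 1 (.one ⟨5839, 4, 3⟩) (.one ⟨11657, 6, 5⟩)) (.node 1 (.one ⟨11666, 6, 5⟩) (.one ⟨15801, 5, 4⟩)))) (.node 4 (.node 2 (.node 1 (.one ⟨11690, 5, 3⟩) (.one ⟨13274, 5, 4⟩)) (.node 1 (.one ⟨7448, 0, 3⟩) (.one ⟨7217, 5, 4⟩))) (.node 2 (.node 1 (.one ⟨12351, 0, 3⟩) (.one ⟨14733, 6, 5⟩)) (.node 1 (.one ⟨5657, 5, 4⟩) (.one ⟨15210, 0, 4⟩)))))))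
def par3_15_13 : Arr Par :=
  (.node 32 (.node 16 (.node 8 (.node 4 (.node 2 (.node 1 (.one ⟨8068, 2, 2⟩) (.one ⟨1244, 4, 2⟩)) (.node 1 (.one ⟨9353, 6, 3⟩) (.one ⟨4841, 3, 3⟩))) (.node 2 (.node 1 (.one ⟨8694, 0, 4⟩) (.one ⟨3664, 6, 2⟩)) (.node 1 (.one ⟨11706, 5, 5⟩) (.one ⟨3631, 2, 2⟩)))) (.node 4 (.node 2 (.node 1 (.one ⟨9292, 3, 1⟩) (.one ⟨8398, 5, 4⟩)) (.node 1 (.one ⟨3812, 6, 4⟩) (.one ⟨16463, 5, 4⟩))) (.node 2 (.node 1 (.one ⟨12404, 0, 3⟩) (.one ⟨11751, 3, 4⟩)) (.node 1 (.one ⟨16445, 5, 3⟩) (.one ⟨13925, 5, 4⟩))))) (.node 8 (.node 4 (.node 2 (.node 1 (.one ⟨7192, 0, 3⟩) (.one ⟨16906, 5, 4⟩)) (.node 1 (.one ⟨7412, 0, 4⟩) (.one ⟨5011, 5, 4⟩))) (.node 2 (.node 1 (.one ⟨16738, 5, 4⟩) (.one ⟨2623, 5, 4⟩)) (.node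 1 (.one ⟨13782, 6, 4⟩) (.one ⟨1985, 5, 4⟩)))) (.node 4 (.node 2 (.node 1 (.one ⟨15249, 1, 3⟩) (.one ⟨4049, 6, 1⟩)) (.node 1 (.one ⟨1243, 4, 2⟩) (.one ⟨4841, 1, 3⟩))) (.node 2 (.node 1 (.one ⟨290, 6, 5⟩) (.one ⟨9832, 0, 3⟩)) (.node 1 (.one ⟨477, 1, 3⟩) (.one ⟨3661, 2, 2⟩)))))) (.node 16 (.node 8 (.node 4 (.node 2 (.node 1 (.one ⟨3684, 3, 2⟩) (.one ⟨1507, 5, 4⟩)) (.node 1 (.one ⟨9294, 3, 1⟩) (.one ⟨1748, 5, 4⟩))) (.node 2 (.node 1 (.one ⟨12973, 5, 3⟩) (.one ⟨16123, 5, 4⟩)) (.node 1 (.one ⟨6975, 5, 4⟩) (.one ⟨14320, 5, 3⟩)))) (.node 4 (.node 2 (.node 1 (.one ⟨4232, 6, 3⟩) (.one ⟨9055, 6, 5⟩)) (.node 1 (.one ⟨4753, 6, 3⟩) (.one ⟨11898, 6, 3⟩))) (.node 2 (.node 1 (.one ⟨15193, 0, 3⟩) (.one ⟨3887, 5, 4⟩)) (.node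 1 (.one ⟨16745, 6, 5⟩) (.one ⟨12253, 6, 3⟩))))) (.node 8 (.node 4 (.node 2 (.node 1 (.one ⟨4175, 6, 4⟩) (.one ⟨1759, 5, 5⟩)) (.node 1 (.one ⟨4215, 6, 5⟩) (.one ⟨16886, 6, 5⟩))) (.node 2 (.node 1 (.one ⟨1352, 5, 2⟩) (.one ⟨6266, 3, 4⟩)) (.node 1 (.one ⟨9873, 5, 4⟩) (.one ⟨12586, 0, 2⟩)))) (.node 4 (.node 2 (.node 1 (.one ⟨8397, 5, 2⟩) (.one ⟨7649, 6, 3⟩)) (.node 1 (.one ⟨11828, 5, 4⟩) (.one ⟨11447, 3, 5⟩))) (.node 2 (.node 1 (.one ⟨14791, 6, 4⟩) (.one ⟨14696, 6, 4⟩)) (.node 1 (.one ⟨16963, 6, 4⟩) (.one ⟨4053, 0, 1⟩)))))))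
def par3_15_14 : Arr Par :=
  (.node 32 (.node 16 (.node 8 (.node 4 (.node 2 (.node 1 (.one ⟨16920, 1, 3⟩) (.one ⟨4808, 6, 2⟩)) (.node 1 (.one ⟨6130, 6, 2⟩) (.one ⟨1354, 4, 2⟩))) (.node 2 (.node 1 (.one ⟨1864, 5, 5⟩) (.one ⟨11871, 5, 5⟩)) (.node 1 (.one ⟨1190, 5, 5⟩) (.one ⟨1329, 2, 3⟩)))) (.node 4 (.node 2 (.node 1 (.one ⟨8215, 4, 3⟩) (.one ⟨14054, 5, 5⟩)) (.node 1 (.one ⟨2284, 6, 2⟩) (.one ⟨12577, 0, 3⟩))) (.node 2 (.node 1 (.one ⟨15624, 5, 4⟩) (.one ⟨11197, 5, 5⟩)) (.node 1 (.one ⟨14132, 3, 4⟩) (.one ⟨4036, 6, 3⟩))))) (.node 8 (.node 4 (.node 2 (.node 1 (.one ⟨5417, 5, 3⟩) (.one ⟨13104, 6, 4⟩)) (.node 1 (.one ⟨12728, 0, 4⟩) (.one ⟨5495, 6, 2⟩))) (.node 2 (.node 1 (.one ⟨5201, 4, 3⟩) (.one ⟨12584, 5, 5⟩))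 (.node 1 (.one ⟨8134, 5, 4⟩) (.one ⟨7457, 5, 5⟩)))) (.node 4 (.node 2 (.node 1 (.one ⟨5368, 6, 2⟩) (.one ⟨1352, 4, 2⟩)) (.node 1 (.one ⟨7705, 6, 4⟩) (.one ⟨14050, 6, 4⟩))) (.node 2 (.node 1 (.one ⟨3377, 3, 2⟩) (.one ⟨11264, 6, 4⟩)) (.node 1 (.one ⟨13251, 2, 2⟩) (.one ⟨4483, 1, 3⟩)))))) (.node 16 (.node 8 (.node 4 (.node 2 (.node 1 (.one ⟨9962, 0, 3⟩) (.one ⟨12032, 5, 4⟩)) (.node 1 (.one ⟨1349, 4, 5⟩) (.one ⟨935, 5, 4⟩))) (.node 2 (.node 1 (.one ⟨8483, 5, 4⟩) (.one ⟨7670, 2, 2⟩)) (.node 1 (.one ⟨16879, 6, 3⟩) (.one ⟨14099, 3, 3⟩)))) (.node 4 (.node 2 (.node 1 (.one ⟨16513, 4, 3⟩) (.one ⟨1345, 3, 2⟩)) (.node 1 (.one ⟨16087, 6, 4⟩) (.one ⟨11214, 6, 1⟩))) (.node 2 (.node 1 (.one ⟨12161, 0, 4⟩) (.one ⟨12546, 0,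 4⟩)) (.node 1 (.one ⟨13095, 0, 4⟩) (.one ⟨14923, 4, 4⟩))))) (.node 8 (.node 4 (.node 2 (.node 1 (.one ⟨7417, 5, 5⟩) (.one ⟨12649, 5, 3⟩)) (.node 1 (.one ⟨10367, 5, 3⟩) (.one ⟨16538, 5, 3⟩))) (.node 2 (.node 1 (.one ⟨9585, 4, 2⟩) (.one ⟨12781, 2, 2⟩)) (.node 1 (.one ⟨14502, 6, 4⟩) (.one ⟨4511, 6, 3⟩)))) (.node 4 (.node 2 (.node 1 (.one ⟨15172, 5, 4⟩) (.one ⟨12793, 6, 2⟩)) (.node 1 (.one ⟨8680, 3, 5⟩) (.one ⟨14001, 2, 2⟩))) (.node 2 (.node 1 (.one ⟨11967, 0, 3⟩) (.one ⟨16335, 3, 5⟩)) (.node 1 (.one ⟨1487, 3, 5⟩) (.one ⟨772, 0, 5⟩)))))))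
def par3_15_15 : Arr Par :=
  (.node 32 (.node 16 (.node 8 (.node 4 (.node 2 (.node 1 (.one ⟨10124, 4, 4⟩) (.one ⟨1079, 4, 5⟩)) (.node 1 (.one ⟨12882, 0, 5⟩) (.one ⟨16365, 3, 3⟩))) (.node 2 (.node 1 (.one ⟨13640, 5, 4⟩) (.one ⟨11960, 0, 3⟩)) (.node 1 (.one ⟨2467, 3, 2⟩) (.one ⟨14846, 6, 4⟩)))) (.node 4 (.node 2 (.node 1 (.one ⟨13207, 5, 3⟩) (.one ⟨1900, 6, 4⟩)) (.node 1 (.one ⟨15340, 4, 4⟩) (.one ⟨13765, 5, 4⟩))) (.node 2 (.node 1 (.one ⟨13270, 5, 4⟩) (.one ⟨16919, 5, 4⟩)) (.node 1 (.one ⟨9713, 5, 5⟩) (.one ⟨1899, 6, 4⟩))))) (.node 8 (.node 4 (.node 2 (.node 1 (.one ⟨12505, 4, 3⟩) (.one ⟨15338, 6, 3⟩)) (.node 1 (.one ⟨15626, 6, 4⟩) (.one ⟨10545, 6, 5⟩))) (.node 2 (.node 1 (.one ⟨10356, 6, 3⟩) (.one ⟨6609, 6,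 3⟩)) (.node 1 (.one ⟨6907, 6, 3⟩) (.one ⟨4575, 5, 3⟩)))) (.node 4 (.node 2 (.node 1 (.one ⟨8313, 5, 3⟩) (.one ⟨1902, 6, 5⟩)) (.node 1 (.one ⟨1747, 6, 3⟩) (.one ⟨13897, 6, 4⟩))) (.node 2 (.node 1 (.one ⟨6620, 5, 5⟩) (.one ⟨7537, 5, 5⟩)) (.node 1 (.one ⟨1181, 5, 3⟩) (.one ⟨12626, 6, 3⟩)))))) (.node 16 (.node 8 (.node 4 (.node 2 (.node 1 (.one ⟨13578, 6, 4⟩) (.one ⟨9589, 4, 3⟩)) (.node 1 (.one ⟨15827, 6, 4⟩) (.one ⟨8301, 2, 2⟩))) (.node 2 (.node 1 (.one ⟨11883, 6, 5⟩) (.one ⟨16616, 6, 5⟩)) (.node 1 (.one ⟨16446, 1, 3⟩) (.one ⟨11967, 1, 3⟩)))) (.node 4 (.node 2 (.node 1 (.one ⟨14830, 5, 5⟩) (.one ⟨12623, 6, 3⟩)) (.node 1 (.one ⟨9336, 5, 5⟩) (.one ⟨1083, 4, 3⟩))) (.node 2 (.node 1 (.one ⟨3619, 5, 4⟩) (.one ⟨3169,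 2, 2⟩)) (.node 1 (.one ⟨8479, 5, 4⟩) (.one ⟨13185, 6, 4⟩))))) (.node 8 (.node 4 (.node 2 (.node 1 (.one ⟨15993, 4, 3⟩) (.one ⟨12735, 3, 2⟩)) (.node 1 (.one ⟨2565, 6, 5⟩) (.one ⟨12373, 0, 3⟩))) (.node 2 (.node 1 (.one ⟨15756, 4, 4⟩) (.one ⟨11980, 5, 1⟩)) (.node 1 (.one ⟨1548, 3, 4⟩) (.one ⟨8517, 5, 5⟩)))) (.node 4 (.node 2 (.node 1 (.one ⟨9046, 6, 4⟩) (.one ⟨7336, 6, 5⟩)) (.node 1 (.one ⟨5586, 6, 2⟩) (.one ⟨1479, 4, 3⟩))) (.node 2 (.node 1 (.one ⟨16729, 5, 4⟩) (.one ⟨11223, 6, 4⟩)) (.node 1 (.one ⟨2047, 5, 3⟩) (.one ⟨6266, 4, 4⟩)))))))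
def par3_15 : Arr Par :=
  (.node 512 (.node 256 (.node 128 (.node 64 par3_15_0 par3_15_1) (.node 64 par3_15_2 par3_15_3)) (.node 128 (.node 64 par3_15_4 par3_15_5) (.node 64 par3_15_6 par3_15_7))) (.node 256 (.node 128 (.node 64 par3_15_8 par3_15_9) (.node 64 par3_15_10 par3_15_11)) (.node 128 (.node 64 par3_15_12 par3_15_13) (.node 64 par3_15_14 par3_15_15))))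
def par3_16_0 : Arr Par :=
  (.node 32 (.node 16 (.node 8 (.node 4 (.node 2 (.node 1 (.one ⟨105, 4, 3⟩) (.one ⟨15591, 0, 4⟩)) (.node 1 (.one ⟨15208, 5, 5⟩) (.one ⟨1658, 0, 4⟩))) (.node 2 (.node 1 (.one ⟨12556, 5, 3⟩) (.one ⟨8416, 0, 4⟩)) (.node 1 (.one ⟨15775, 4, 3⟩) (.one ⟨2106, 4, 2⟩)))) (.node 4 (.node 2 (.node 1 (.one ⟨1624, 6, 3⟩) (.one ⟨16355, 3, 3⟩)) (.node 1 (.one ⟨16494, 0, 5⟩) (.one ⟨14132, 4, 4⟩))) (.node 2 (.node 1 (.one ⟨12070, 0, 3⟩) (.one ⟨1484, 4, 5⟩)) (.node 1 (.one ⟨8138, 6, 4⟩) (.one ⟨11587, 5, 4⟩))))) (.node 8 (.node 4 (.node 2 (.node 1 (.one ⟨8600, 0, 3⟩) (.one ⟨8631, 6, 4⟩)) (.node 1 (.one ⟨6216, 5, 5⟩) (.one ⟨1711, 6, 2⟩))) (.node 2 (.node 1 (.one ⟨6081, 6, 2⟩) (.one ⟨1477, 4, 2⟩)) (.node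 1 (.one ⟨11500, 5, 5⟩) (.one ⟨7108, 4, 4⟩)))) (.node 4 (.node 2 (.node 1 (.one ⟨2884, 4, 4⟩) (.one ⟨7971, 4, 2⟩)) (.node 1 (.one ⟨6129, 5, 2⟩) (.one ⟨9171, 4, 3⟩))) (.node 2 (.node 1 (.one ⟨14533, 4, 3⟩) (.one ⟨179, 6, 4⟩)) (.node 1 (.one ⟨9704, 5, 5⟩) (.one ⟨4049, 5, 1⟩)))))) (.node 16 (.node 8 (.node 4 (.node 2 (.node 1 (.one ⟨15252, 0, 4⟩) (.one ⟨8600, 3, 3⟩)) (.node 1 (.one ⟨8320, 1, 2⟩) (.one ⟨4048, 5, 4⟩))) (.node 2 (.node 1 (.one ⟨4053, 5, 1⟩) (.one ⟨13690, 6, 5⟩)) (.node 1 (.one ⟨13706, 6, 5⟩) (.one ⟨3219, 1, 2⟩)))) (.node 4 (.node 2 (.node 1 (.one ⟨2926, 4, 4⟩) (.one ⟨3256, 6, 3⟩)) (.node 1 (.one ⟨12345, 5, 3⟩) (.one ⟨9173, 4, 4⟩))) (.node 2 (.node 1 (.one ⟨8368, 0, 4⟩) (.one ⟨6086, 5, 4⟩)) (.node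 1 (.one ⟨5553, 5, 2⟩) (.one ⟨9541, 5, 4⟩))))) (.node 8 (.node 4 (.node 2 (.node 1 (.one ⟨15894, 5, 3⟩) (.one ⟨9123, 6, 3⟩)) (.node 1 (.one ⟨14590, 1, 3⟩) (.one ⟨9998, 4, 4⟩))) (.node 2 (.node 1 (.one ⟨16962, 6, 3⟩) (.one ⟨8938, 3, 4⟩)) (.node 1 (.one ⟨913, 6, 5⟩) (.one ⟨111, 5, 2⟩)))) (.node 4 (.node 2 (.node 1 (.one ⟨1305, 5, 4⟩) (.one ⟨2386, 5, 3⟩)) (.node 1 (.one ⟨15440, 6, 2⟩) (.one ⟨5579, 4, 2⟩))) (.node 2 (.node 1 (.one ⟨15432, 6, 2⟩) (.one ⟨2217, 5, 2⟩)) (.node 1 (.one ⟨7363, 6, 2⟩) (.one ⟨3219, 4, 2⟩)))))))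
def par3_16_1 : Arr Par :=
  (.node 32 (.node 16 (.node 8 (.node 4 (.node 2 (.node 1 (.one ⟨9934, 5, 4⟩) (.one ⟨13307, 1, 4⟩)) (.node 1 (.one ⟨16648, 5, 5⟩) (.one ⟨6803, 0, 2⟩))) (.node 2 (.node 1 (.one ⟨13092, 1, 4⟩) (.one ⟨11607, 5, 5⟩)) (.node 1 (.one ⟨17145, 0, 3⟩) (.one ⟨11069, 5, 5⟩)))) (.node 4 (.node 2 (.node 1 (.one ⟨14373, 0, 4⟩) (.one ⟨15610, 6, 4⟩)) (.node 1 (.one ⟨17165, 0, 4⟩) (.one ⟨16121, 0, 4⟩))) (.node 2 (.node 1 (.one ⟨14433, 5, 4⟩) (.one ⟨6563, 1, 3⟩)) (.node 1 (.one ⟨8707, 0, 3⟩) (.one ⟨9832, 4, 3⟩))))) (.node 8 (.node 4 (.node 2 (.node 1 (.one ⟨6118, 5, 2⟩) (.one ⟨16787, 6, 4⟩)) (.node 1 (.one ⟨11192, 4, 4⟩) (.one ⟨2862, 3, 4⟩))) (.node 2 (.node 1 (.one ⟨8414, 6, 4⟩) (.one ⟨8456, 6, 5⟩))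 (.node 1 (.one ⟨9526, 6, 3⟩) (.one ⟨10795, 5, 4⟩)))) (.node 4 (.node 2 (.node 1 (.one ⟨14775, 5, 3⟩) (.one ⟨7841, 5, 4⟩)) (.node 1 (.one ⟨5491, 5, 4⟩) (.one ⟨9719, 5, 2⟩))) (.node 2 (.node 1 (.one ⟨15565, 5, 2⟩) (.one ⟨8275, 5, 2⟩)) (.node 1 (.one ⟨4736, 5, 2⟩) (.one ⟨2363, 5, 3⟩)))))) (.node 16 (.node 8 (.node 4 (.node 2 (.node 1 (.one ⟨1215, 5, 3⟩) (.one ⟨9092, 0, 3⟩)) (.node 1 (.one ⟨2172, 2, 1⟩) (.one ⟨11845, 6, 4⟩))) (.node 2 (.node 1 (.one ⟨7920, 6, 3⟩) (.one ⟨15740, 6, 3⟩)) (.node 1 (.one ⟨5796, 5, 4⟩) (.one ⟨1394, 6, 3⟩)))) (.node 4 (.node 2 (.node 1 (.one ⟨3852, 3, 3⟩) (.one ⟨7503, 6, 4⟩)) (.node 1 (.one ⟨9073, 0, 3⟩) (.one ⟨4798, 5, 5⟩))) (.node 2 (.node 1 (.one ⟨16855, 6, 4⟩) (.one ⟨7484, 6, 3⟩))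 (.node 1 (.one ⟨11713, 6, 4⟩) (.one ⟨4307, 5, 4⟩))))) (.node 8 (.node 4 (.node 2 (.node 1 (.one ⟨1927, 5, 2⟩) (.one ⟨16255, 2, 2⟩)) (.node 1 (.one ⟨8252, 1, 4⟩) (.one ⟨11239, 6, 4⟩))) (.node 2 (.node 1 (.one ⟨15666, 6, 4⟩) (.one ⟨11094, 1, 4⟩)) (.node 1 (.one ⟨1495, 5, 4⟩) (.one ⟨14629, 5, 3⟩)))) (.node 4 (.node 2 (.node 1 (.one ⟨2414, 3, 3⟩) (.one ⟨15751, 6, 4⟩)) (.node 1 (.one ⟨3330, 5, 4⟩) (.one ⟨6016, 6, 4⟩))) (.node 2 (.node 1 (.one ⟨14900, 3, 2⟩) (.one ⟨13743, 5, 5⟩)) (.node 1 (.one ⟨14981, 0, 4⟩) (.one ⟨9347, 5, 2⟩)))))))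
def par3_16_2 : Arr Par :=
  (.node 32 (.node 16 (.node 8 (.node 4 (.node 2 (.node 1 (.one ⟨9343, 5, 4⟩) (.one ⟨9348, 5, 2⟩)) (.node 1 (.one ⟨9344, 5, 5⟩) (.one ⟨79, 5, 4⟩))) (.node 2 (.node 1 (.one ⟨592, 5, 5⟩) (.one ⟨10989, 6, 5⟩)) (.node 1 (.one ⟨13941, 6, 5⟩) (.one ⟨4764, 5, 4⟩)))) (.node 4 (.node 2 (.node 1 (.one ⟨6694, 5, 4⟩) (.one ⟨7626, 5, 4⟩)) (.node 1 (.one ⟨10510, 6, 5⟩) (.one ⟨407, 6, 5⟩))) (.node 2 (.node 1 (.one ⟨10841, 3, 4⟩) (.one ⟨13173, 3, 3⟩)) (.node 1 (.one ⟨3946, 6, 5⟩) (.one ⟨14430, 6, 3⟩))))) (.node 8 (.node 4 (.node 2 (.node 1 (.one ⟨12291, 4, 4⟩) (.one ⟨1918, 6, 4⟩)) (.node 1 (.one ⟨12810, 3, 3⟩) (.one ⟨8379, 5, 4⟩))) (.node 2 (.node 1 (.one ⟨14904, 3, 3⟩) (.one ⟨16013, 3, 5⟩)) (.node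 1 (.one ⟨9461, 5, 3⟩) (.one ⟨15341, 5, 5⟩)))) (.node 4 (.node 2 (.node 1 (.one ⟨13001, 4, 3⟩) (.one ⟨9167, 5, 3⟩)) (.node 1 (.one ⟨1063, 3, 2⟩) (.one ⟨11624, 0, 4⟩))) (.node 2 (.node 1 (.one ⟨16056, 6, 4⟩) (.one ⟨16668, 5, 5⟩)) (.node 1 (.one ⟨17036, 0, 4⟩) (.one ⟨7205, 5, 3⟩)))))) (.node 16 (.node 8 (.node 4 (.node 2 (.node 1 (.one ⟨10021, 5, 2⟩) (.one ⟨13949, 6, 3⟩)) (.node 1 (.one ⟨3379, 6, 2⟩) (.one ⟨7250, 0, 3⟩))) (.node 2 (.node 1 (.one ⟨12780, 6, 4⟩) (.one ⟨15670, 5, 3⟩)) (.node 1 (.one ⟨12019, 6, 5⟩) (.one ⟨4384, 3, 3⟩)))) (.node 4 (.node 2 (.node 1 (.one ⟨14355, 6, 4⟩) (.one ⟨15832, 6, 3⟩)) (.node 1 (.one ⟨9543, 5, 3⟩) (.one ⟨4604, 6, 4⟩))) (.node 2 (.node 1 (.one ⟨5013, 6, 3⟩) (.one ⟨3439, 6, 3⟩))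 (.node 1 (.one ⟨3253, 6, 3⟩) (.one ⟨6093, 1, 3⟩))))) (.node 8 (.node 4 (.node 2 (.node 1 (.one ⟨13180, 5, 3⟩) (.one ⟨14536, 5, 5⟩)) (.node 1 (.one ⟨13173, 5, 3⟩) (.one ⟨8565, 3, 4⟩))) (.node 2 (.node 1 (.one ⟨14055, 6, 3⟩) (.one ⟨14174, 6, 5⟩)) (.node 1 (.one ⟨13200, 5, 3⟩) (.one ⟨5811, 6, 3⟩)))) (.node 4 (.node 2 (.node 1 (.one ⟨9217, 6, 3⟩) (.one ⟨12062, 0, 3⟩)) (.node 1 (.one ⟨2019, 5, 3⟩) (.one ⟨10958, 5, 5⟩))) (.node 2 (.node 1 (.one ⟨4521, 5, 3⟩) (.one ⟨9238, 4, 2⟩)) (.node 1 (.one ⟨297, 6, 3⟩) (.one ⟨14099, 6, 3⟩)))))))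
def par3_16_3 : Arr Par :=
  (.node 32 (.node 16 (.node 8 (.node 4 (.node 2 (.node 1 (.one ⟨1243, 6, 2⟩) (.one ⟨5738, 6, 4⟩)) (.node 1 (.one ⟨10263, 6, 3⟩) (.one ⟨4785, 5, 3⟩))) (.node 2 (.node 1 (.one ⟨6345, 5, 3⟩) (.one ⟨6025, 6, 3⟩)) (.node 1 (.one ⟨2994, 0, 1⟩) (.one ⟨9141, 6, 1⟩)))) (.node 4 (.node 2 (.node 1 (.one ⟨9232, 4, 3⟩) (.one ⟨8383, 6, 4⟩)) (.node 1 (.one ⟨824, 5, 4⟩) (.one ⟨12740, 3, 2⟩))) (.node 2 (.node 1 (.one ⟨7690, 5, 4⟩) (.one ⟨8792, 5, 4⟩)) (.node 1 (.one ⟨8037, 3, 2⟩) (.one ⟨16333, 6, 5⟩))))) (.node 8 (.node 4 (.node 2 (.node 1 (.one ⟨11155, 5, 2⟩) (.one ⟨16411, 6, 4⟩)) (.node 1 (.one ⟨6480, 0, 3⟩) (.one ⟨7767, 5, 2⟩))) (.node 2 (.node 1 (.one ⟨10120, 6, 5⟩) (.one ⟨9975, 5, 3⟩)) (.node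 1 (.one ⟨13569, 5, 3⟩) (.one ⟨9464, 3, 4⟩)))) (.node 4 (.node 2 (.node 1 (.one ⟨13415, 5, 2⟩) (.one ⟨4012, 0, 3⟩)) (.node 1 (.one ⟨5755, 6, 4⟩) (.one ⟨5368, 5, 2⟩))) (.node 2 (.node 1 (.one ⟨9860, 4, 2⟩) (.one ⟨14877, 0, 3⟩)) (.node 1 (.one ⟨3050, 0, 3⟩) (.one ⟨1475, 6, 4⟩)))))) (.node 16 (.node 8 (.node 4 (.node 2 (.node 1 (.one ⟨9021, 5, 3⟩) (.one ⟨4411, 0, 4⟩)) (.node 1 (.one ⟨1416, 6, 2⟩) (.one ⟨5827, 6, 4⟩))) (.node 2 (.node 1 (.one ⟨7883, 5, 3⟩) (.one ⟨4819, 5, 2⟩)) (.node 1 (.one ⟨8500, 0, 4⟩) (.one ⟨3072, 0, 3⟩)))) (.node 4 (.node 2 (.node 1 (.one ⟨12687, 5, 4⟩) (.one ⟨8620, 0, 3⟩)) (.node 1 (.one ⟨12064, 3, 5⟩) (.one ⟨2550, 5, 4⟩))) (.node 2 (.node 1 (.one ⟨8313, 0, 3⟩) (.one ⟨13394, 5, 4⟩)) (.node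 1 (.one ⟨4557, 5, 3⟩) (.one ⟨12684, 0, 3⟩))))) (.node 8 (.node 4 (.node 2 (.node 1 (.one ⟨11198, 5, 4⟩) (.one ⟨16794, 6, 5⟩)) (.node 1 (.one ⟨3908, 5, 5⟩) (.one ⟨11005, 5, 3⟩))) (.node 2 (.node 1 (.one ⟨5397, 5, 4⟩) (.one ⟨816, 6, 4⟩)) (.node 1 (.one ⟨10629, 5, 3⟩) (.one ⟨8744, 1, 4⟩)))) (.node 4 (.node 2 (.node 1 (.one ⟨4819, 4, 2⟩) (.one ⟨5410, 6, 3⟩)) (.node 1 (.one ⟨11765, 6, 4⟩) (.one ⟨4876, 6, 3⟩))) (.node 2 (.node 1 (.one ⟨11963, 5, 3⟩) (.one ⟨14306, 5, 2⟩)) (.node 1 (.one ⟨12678, 0, 3⟩) (.one ⟨8597, 0, 3⟩)))))))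
def par3_16_4 : Arr Par :=
  (.node 32 (.node 16 (.node 8 (.node 4 (.node 2 (.node 1 (.one ⟨5006, 6, 3⟩) (.one ⟨10891, 5, 4⟩)) (.node 1 (.one ⟨14034, 5, 5⟩) (.one ⟨11481, 6, 4⟩))) (.node 2 (.node 1 (.one ⟨9866, 1, 4⟩) (.one ⟨10140, 6, 4⟩)) (.node 1 (.one ⟨780, 4, 3⟩) (.one ⟨14317, 5, 4⟩)))) (.node 4 (.node 2 (.node 1 (.one ⟨4654, 5, 4⟩) (.one ⟨15507, 5, 4⟩)) (.node 1 (.one ⟨15597, 6, 3⟩) (.one ⟨16271, 5, 4⟩))) (.node 2 (.node 1 (.one ⟨14956, 6, 4⟩) (.one ⟨16863, 5, 3⟩)) (.node 1 (.one ⟨15407, 6, 4⟩) (.one ⟨14130, 1, 3⟩))))) (.node 8 (.node 4 (.node 2 (.node 1 (.one ⟨1469, 3, 2⟩) (.one ⟨3311, 5, 4⟩)) (.node 1 (.one ⟨10367, 4, 3⟩) (.one ⟨12967, 6, 3⟩))) (.node 2 (.node 1 (.one ⟨8565, 0, 4⟩) (.one ⟨5257, 6, 5⟩))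 (.node 1 (.one ⟨7395, 5, 4⟩) (.one ⟨16574, 3, 4⟩)))) (.node 4 (.node 2 (.node 1 (.one ⟨13632, 5, 4⟩) (.one ⟨6758, 0, 4⟩)) (.node 1 (.one ⟨4107, 5, 4⟩) (.one ⟨3451, 5, 3⟩))) (.node 2 (.node 1 (.one ⟨16351, 5, 4⟩) (.one ⟨13372, 6, 3⟩)) (.node 1 (.one ⟨2124, 5, 4⟩) (.one ⟨8565, 1, 4⟩)))))) (.node 16 (.node 8 (.node 4 (.node 2 (.node 1 (.one ⟨4680, 1, 4⟩) (.one ⟨13134, 4, 2⟩)) (.node 1 (.one ⟨9330, 2, 3⟩) (.one ⟨7890, 6, 4⟩))) (.node 2 (.node 1 (.one ⟨13828, 5, 4⟩) (.one ⟨16681, 5, 5⟩)) (.node 1 (.one ⟨15108, 6, 2⟩) (.one ⟨9426, 6, 1⟩)))) (.node 4 (.node 2 (.node 1 (.one ⟨7178, 5, 4⟩) (.one ⟨12728, 5, 4⟩)) (.node 1 (.one ⟨16574, 4, 4⟩) (.one ⟨7415, 6, 4⟩))) (.node 2 (.node 1 (.one ⟨13810, 5, 4⟩) (.one ⟨16595, 4,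 3⟩)) (.node 1 (.one ⟨4205, 4, 3⟩) (.one ⟨5382, 6, 3⟩))))) (.node 8 (.node 4 (.node 2 (.node 1 (.one ⟨10232, 5, 3⟩) (.one ⟨13079, 6, 4⟩)) (.node 1 (.one ⟨3050, 3, 3⟩) (.one ⟨2495, 0, 3⟩))) (.node 2 (.node 1 (.one ⟨664, 5, 4⟩) (.one ⟨14622, 5, 5⟩)) (.node 1 (.one ⟨949, 6, 4⟩) (.one ⟨3399, 6, 4⟩)))) (.node 4 (.node 2 (.node 1 (.one ⟨4615, 5, 2⟩) (.one ⟨989, 5, 4⟩)) (.node 1 (.one ⟨12797, 6, 5⟩) (.one ⟨14885, 5, 5⟩))) (.node 2 (.node 1 (.one ⟨6769, 5, 2⟩) (.one ⟨950, 0, 1⟩)) (.node 1 (.one ⟨15823, 5, 4⟩) (.one ⟨16892, 5, 5⟩)))))))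
def par3_16_5 : Arr Par :=
  (.node 32 (.node 16 (.node 8 (.node 4 (.node 2 (.node 1 (.one ⟨14158, 5, 3⟩) (.one ⟨2345, 6, 4⟩)) (.node 1 (.one ⟨7492, 5, 5⟩) (.one ⟨12831, 3, 3⟩))) (.node 2 (.node 1 (.one ⟨14302, 6, 5⟩) (.one ⟨13471, 4, 3⟩)) (.node 1 (.one ⟨14350, 5, 3⟩) (.one ⟨13723, 4, 3⟩)))) (.node 4 (.node 2 (.node 1 (.one ⟨16943, 3, 3⟩) (.one ⟨11067, 5, 2⟩)) (.node 1 (.one ⟨8491, 0, 2⟩) (.one ⟨14041, 4, 3⟩))) (.node 2 (.node 1 (.one ⟨7821, 5, 4⟩) (.one ⟨4405, 6, 4⟩)) (.node 1 (.one ⟨15370, 5, 5⟩) (.one ⟨10243, 5, 4⟩))))) (.node 8 (.node 4 (.node 2 (.node 1 (.one ⟨12848, 5, 3⟩) (.one ⟨4980, 5, 4⟩)) (.node 1 (.one ⟨1418, 5, 4⟩) (.one ⟨5017, 5, 5⟩))) (.node 2 (.node 1 (.one ⟨642, 6, 5⟩) (.one ⟨10160, 5, 4⟩))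 (.node 1 (.one ⟨12894, 5, 3⟩) (.one ⟨1086, 6, 2⟩)))) (.node 4 (.node 2 (.node 1 (.one ⟨14864, 6, 4⟩) (.one ⟨16313, 4, 3⟩)) (.node 1 (.one ⟨11950, 3, 4⟩) (.one ⟨14275, 5, 2⟩))) (.node 2 (.node 1 (.one ⟨464, 0, 4⟩) (.one ⟨14276, 5, 2⟩)) (.node 1 (.one ⟨8440, 0, 2⟩) (.one ⟨3777, 3, 5⟩)))))) (.node 16 (.node 8 (.node 4 (.node 2 (.node 1 (.one ⟨11539, 5, 3⟩) (.one ⟨1984, 6, 3⟩)) (.node 1 (.one ⟨9765, 6, 3⟩) (.one ⟨14203, 6, 3⟩))) (.node 2 (.node 1 (.one ⟨5600, 6, 5⟩) (.one ⟨16041, 6, 3⟩)) (.node 1 (.one ⟨1836, 4, 4⟩) (.one ⟨2840, 6, 5⟩)))) (.node 4 (.node 2 (.node 1 (.one ⟨12765, 1, 3⟩) (.one ⟨13082, 6, 4⟩)) (.node 1 (.one ⟨8188, 5, 4⟩) (.one ⟨7822, 5, 5⟩))) (.node 2 (.node 1 (.one ⟨5871, 6, 3⟩) (.one ⟨16734, 6,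 3⟩)) (.node 1 (.one ⟨16646, 5, 4⟩) (.one ⟨14276, 0, 2⟩))))) (.node 8 (.node 4 (.node 2 (.node 1 (.one ⟨12372, 1, 3⟩) (.one ⟨17003, 0, 2⟩)) (.node 1 (.one ⟨2585, 5, 3⟩) (.one ⟨1453, 5, 4⟩))) (.node 2 (.node 1 (.one ⟨8201, 6, 2⟩) (.one ⟨10787, 5, 4⟩)) (.node 1 (.one ⟨7173, 0, 3⟩) (.one ⟨13200, 3, 3⟩)))) (.node 4 (.node 2 (.node 1 (.one ⟨3763, 3, 1⟩) (.one ⟨7846, 5, 3⟩)) (.node 1 (.one ⟨7968, 6, 3⟩) (.one ⟨12004, 6, 5⟩))) (.node 2 (.node 1 (.one ⟨6357, 6, 5⟩) (.one ⟨6734, 6, 3⟩)) (.node 1 (.one ⟨12643, 6, 2⟩) (.one ⟨8189, 5, 4⟩)))))))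
def par3_16_6 : Arr Par :=
  (.node 32 (.node 16 (.node 8 (.node 4 (.node 2 (.node 1 (.one ⟨1100, 2, 2⟩) (.one ⟨4163, 5, 5⟩)) (.node 1 (.one ⟨9317, 5, 4⟩) (.one ⟨16884, 5, 5⟩))) (.node 2 (.node 1 (.one ⟨1829, 6, 5⟩) (.one ⟨8797, 6, 4⟩)) (.node 1 (.one ⟨2853, 5, 5⟩) (.one ⟨3670, 2, 2⟩)))) (.node 4 (.node 2 (.node 1 (.one ⟨4384, 1, 3⟩) (.one ⟨8337, 3, 5⟩)) (.node 1 (.one ⟨962, 6, 4⟩) (.one ⟨16786, 4, 3⟩))) (.node 2 (.node 1 (.one ⟨11435, 4, 4⟩) (.one ⟨5581, 5, 5⟩)) (.node 1 (.one ⟨4699, 4, 2⟩) (.one ⟨5095, 6, 5⟩))))) (.node 8 (.node 4 (.node 2 (.node 1 (.one ⟨16679, 5, 2⟩) (.one ⟨4694, 4, 3⟩)) (.node 1 (.one ⟨11864, 5, 2⟩) (.one ⟨1235, 5, 3⟩))) (.node 2 (.node 1 (.one ⟨3211, 5, 5⟩) (.one ⟨6803, 5, 2⟩)) (.node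 1 (.one ⟨6435, 5, 3⟩) (.one ⟨7599, 5, 4⟩)))) (.node 4 (.node 2 (.node 1 (.one ⟨15661, 6, 2⟩) (.one ⟨512, 6, 4⟩)) (.node 1 (.one ⟨5040, 6, 4⟩) (.one ⟨10993, 5, 5⟩))) (.node 2 (.node 1 (.one ⟨7641, 5, 3⟩) (.one ⟨15717, 5, 3⟩)) (.node 1 (.one ⟨14898, 3, 2⟩) (.one ⟨2207, 5, 3⟩)))))) (.node 16 (.node 8 (.node 4 (.node 2 (.node 1 (.one ⟨1121, 5, 4⟩) (.one ⟨1075, 6, 3⟩)) (.node 1 (.one ⟨13771, 0, 4⟩) (.one ⟨13595, 5, 2⟩))) (.node 2 (.node 1 (.one ⟨13133, 5, 3⟩) (.one ⟨7748, 5, 4⟩)) (.node 1 (.one ⟨7957, 5, 3⟩) (.one ⟨1469, 6, 2⟩)))) (.node 4 (.node 2 (.node 1 (.one ⟨6950, 5, 4⟩) (.one ⟨2322, 5, 3⟩)) (.node 1 (.one ⟨8488, 5, 3⟩) (.one ⟨11962, 6, 4⟩))) (.node 2 (.node 1 (.one ⟨3, 5, 2⟩) (.one ⟨16849, 6, 4⟩)) (.node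 1 (.one ⟨5407, 6, 3⟩) (.one ⟨2512, 5, 3⟩))))) (.node 8 (.node 4 (.node 2 (.node 1 (.one ⟨15984, 0, 4⟩) (.one ⟨6213, 6, 2⟩)) (.node 1 (.one ⟨16756, 6, 3⟩) (.one ⟨6797, 6, 2⟩))) (.node 2 (.node 1 (.one ⟨16404, 6, 3⟩) (.one ⟨3313, 6, 4⟩)) (.node 1 (.one ⟨16931, 5, 4⟩) (.one ⟨4578, 5, 3⟩)))) (.node 4 (.node 2 (.node 1 (.one ⟨14660, 5, 3⟩) (.one ⟨11196, 5, 3⟩)) (.node 1 (.one ⟨13956, 6, 4⟩) (.one ⟨15026, 6, 4⟩))) (.node 2 (.node 1 (.one ⟨2264, 3, 3⟩) (.one ⟨6345, 3, 3⟩)) (.node 1 (.one ⟨8024, 0, 5⟩) (.one ⟨5818, 4, 3⟩)))))))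
def par3_16_7 : Arr Par :=
  (.node 32 (.node 16 (.node 8 (.node 4 (.node 2 (.node 1 (.one ⟨9729, 4, 4⟩) (.one ⟨12232, 6, 4⟩)) (.node 1 (.one ⟨11252, 5, 5⟩) (.one ⟨12116, 3, 4⟩))) (.node 2 (.node 1 (.one ⟨11118, 5, 3⟩) (.one ⟨13613, 5, 5⟩)) (.node 1 (.one ⟨2672, 5, 5⟩) (.one ⟨8290, 5, 4⟩)))) (.node 4 (.node 2 (.node 1 (.one ⟨10677, 5, 3⟩) (.one ⟨7037, 5, 4⟩)) (.node 1 (.one ⟨2532, 4, 4⟩) (.one ⟨121, 4, 1⟩))) (.node 2 (.node 1 (.one ⟨5271, 5, 4⟩) (.one ⟨10854, 6, 4⟩)) (.node 1 (.one ⟨1832, 0, 3⟩) (.one ⟨240, 5, 5⟩))))) (.node 8 (.node 4 (.node 2 (.node 1 (.one ⟨4397, 1, 4⟩) (.one ⟨2918, 6, 3⟩)) (.node 1 (.one ⟨683, 6, 3⟩) (.one ⟨2914, 6, 3⟩))) (.node 2 (.node 1 (.one ⟨180, 6, 5⟩) (.one ⟨2915, 6, 3⟩)) (.node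 1 (.one ⟨12845, 4, 3⟩) (.one ⟨8635, 6, 3⟩)))) (.node 4 (.node 2 (.node 1 (.one ⟨13982, 0, 3⟩) (.one ⟨16635, 5, 4⟩)) (.node 1 (.one ⟨8602, 5, 5⟩) (.one ⟨8615, 5, 5⟩))) (.node 2 (.node 1 (.one ⟨16651, 5, 5⟩) (.one ⟨2221, 6, 3⟩)) (.node 1 (.one ⟨8013, 0, 3⟩) (.one ⟨5945, 3, 2⟩)))))) (.node 16 (.node 8 (.node 4 (.node 2 (.node 1 (.one ⟨5058, 6, 4⟩) (.one ⟨16309, 4, 3⟩)) (.node 1 (.one ⟨7184, 6, 4⟩) (.one ⟨4075, 4, 3⟩))) (.node 2 (.node 1 (.one ⟨9749, 6, 2⟩) (.one ⟨9600, 5, 4⟩)) (.node 1 (.one ⟨15747, 6, 4⟩) (.one ⟨9678, 4, 3⟩)))) (.node 4 (.node 2 (.node 1 (.one ⟨15398, 5, 3⟩) (.one ⟨4506, 5, 5⟩)) (.node 1 (.one ⟨13162, 6, 4⟩) (.one ⟨13411, 1, 1⟩))) (.node 2 (.node 1 (.one ⟨11321, 6, 4⟩) (.one ⟨6201, 5, 4⟩)) (.node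 1 (.one ⟨10701, 1, 1⟩) (.one ⟨1322, 6, 2⟩))))) (.node 8 (.node 4 (.node 2 (.node 1 (.one ⟨4399, 5, 4⟩) (.one ⟨1426, 5, 3⟩)) (.node 1 (.one ⟨13887, 5, 3⟩) (.one ⟨1404, 6, 2⟩))) (.node 2 (.node 1 (.one ⟨15749, 6, 4⟩) (.one ⟨9347, 6, 2⟩)) (.node 1 (.one ⟨7699, 6, 4⟩) (.one ⟨5438, 4, 3⟩)))) (.node 4 (.node 2 (.node 1 (.one ⟨11211, 4, 1⟩) (.one ⟨4500, 3, 3⟩)) (.node 1 (.one ⟨12522, 5, 5⟩) (.one ⟨16766, 3, 3⟩))) (.node 2 (.node 1 (.one ⟨5434, 6, 4⟩) (.one ⟨12965, 6, 4⟩)) (.node 1 (.one ⟨5728, 5, 3⟩) (.one ⟨6153, 4, 4⟩)))))))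
def par3_16_8 : Arr Par :=
  (.node 32 (.node 16 (.node 8 (.node 4 (.node 2 (.node 1 (.one ⟨16343, 4, 4⟩) (.one ⟨5597, 5, 4⟩)) (.node 1 (.one ⟨8922, 4, 4⟩) (.one ⟨355, 6, 5⟩))) (.node 2 (.node 1 (.one ⟨125, 6, 4⟩) (.one ⟨572, 6, 4⟩)) (.node 1 (.one ⟨257, 6, 4⟩) (.one ⟨4221, 5, 4⟩)))) (.node 4 (.node 2 (.node 1 (.one ⟨17090, 6, 2⟩) (.one ⟨1940, 5, 2⟩)) (.node 1 (.one ⟨2727, 5, 3⟩) (.one ⟨365, 5, 2⟩))) (.node 2 (.node 1 (.one ⟨2383, 5, 4⟩) (.one ⟨17127, 6, 4⟩)) (.node 1 (.one ⟨9056, 6, 2⟩) (.one ⟨15614, 5, 4⟩))))) (.node 8 (.node 4 (.node 2 (.node 1 (.one ⟨7491, 6, 4⟩) (.one ⟨6954, 6, 2⟩)) (.node 1 (.one ⟨14546, 3, 4⟩) (.one ⟨11135, 6, 4⟩))) (.node 2 (.node 1 (.one ⟨5900, 6, 3⟩) (.one ⟨6391, 6, 4⟩)) (.node 1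 (.one ⟨11453, 6, 3⟩) (.one ⟨2629, 6, 3⟩)))) (.node 4 (.node 2 (.node 1 (.one ⟨4699, 6, 2⟩) (.one ⟨9860, 0, 2⟩)) (.node 1 (.one ⟨2759, 5, 5⟩) (.one ⟨1344, 5, 2⟩))) (.node 2 (.node 1 (.one ⟨10203, 3, 3⟩) (.one ⟨16019, 1, 2⟩)) (.node 1 (.one ⟨3757, 6, 3⟩) (.one ⟨12804, 5, 4⟩)))))) (.node 16 (.node 8 (.node 4 (.node 2 (.node 1 (.one ⟨10849, 6, 4⟩) (.one ⟨5608, 6, 4⟩)) (.node 1 (.one ⟨7829, 6, 4⟩) (.one ⟨11726, 4, 3⟩))) (.node 2 (.node 1 (.one ⟨16432, 6, 4⟩) (.one ⟨3513, 6, 4⟩)) (.node 1 (.one ⟨779, 6, 4⟩) (.one ⟨9867, 6, 4⟩)))) (.node 4 (.node 2 (.node 1 (.one ⟨15068, 5, 5⟩) (.one ⟨14055, 5, 3⟩)) (.node 1 (.one ⟨16026, 5, 5⟩) (.one ⟨14488, 5, 3⟩))) (.node 2 (.node 1 (.one ⟨10781, 6, 3⟩) (.one ⟨15197, 6, 4⟩)) (.node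 1 (.one ⟨15025, 6, 5⟩) (.one ⟨16701, 1, 2⟩))))) (.node 8 (.node 4 (.node 2 (.node 1 (.one ⟨6296, 3, 5⟩) (.one ⟨2800, 3, 5⟩)) (.node 1 (.one ⟨1321, 6, 3⟩) (.one ⟨250, 5, 3⟩))) (.node 2 (.node 1 (.one ⟨16219, 6, 4⟩) (.one ⟨15459, 6, 4⟩)) (.node 1 (.one ⟨745, 5, 4⟩) (.one ⟨898, 6, 2⟩)))) (.node 4 (.node 2 (.node 1 (.one ⟨2382, 6, 4⟩) (.one ⟨17147, 6, 2⟩)) (.node 1 (.one ⟨11376, 5, 4⟩) (.one ⟨2540, 4, 3⟩))) (.node 2 (.node 1 (.one ⟨4368, 1, 3⟩) (.one ⟨9208, 4, 3⟩)) (.node 1 (.one ⟨15570, 5, 4⟩) (.one ⟨15625, 6, 3⟩)))))))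
def par3_16_9 : Arr Par :=
  (.node 32 (.node 16 (.node 8 (.node 4 (.node 2 (.node 1 (.one ⟨12156, 6, 3⟩) (.one ⟨9830, 0, 3⟩)) (.node 1 (.one ⟨9356, 4, 2⟩) (.one ⟨6700, 5, 3⟩))) (.node 2 (.node 1 (.one ⟨157, 6, 3⟩) (.one ⟨6964, 5, 4⟩)) (.node 1 (.one ⟨16475, 6, 3⟩) (.one ⟨3711, 6, 4⟩)))) (.node 4 (.node 2 (.node 1 (.one ⟨15437, 5, 4⟩) (.one ⟨11637, 4, 4⟩)) (.node 1 (.one ⟨15113, 5, 3⟩) (.one ⟨11106, 6, 4⟩))) (.node 2 (.node 1 (.one ⟨2589, 4, 4⟩) (.one ⟨8656, 1, 3⟩)) (.node 1 (.one ⟨1237, 2, 2⟩) (.one ⟨16027, 5, 4⟩))))) (.node 8 (.node 4 (.node 2 (.node 1 (.one ⟨3196, 6, 4⟩) (.one ⟨2429, 5, 4⟩)) (.node 1 (.one ⟨14957, 5, 3⟩) (.one ⟨6910, 5, 4⟩))) (.node 2 (.node 1 (.one ⟨15380, 4, 3⟩) (.one ⟨10259, 6, 3⟩)) (.node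 1 (.one ⟨11379, 6, 4⟩) (.one ⟨10394, 5, 4⟩)))) (.node 4 (.node 2 (.node 1 (.one ⟨16044, 2, 2⟩) (.one ⟨9351, 4, 2⟩)) (.node 1 (.one ⟨10068, 6, 4⟩) (.one ⟨15465, 6, 5⟩))) (.node 2 (.node 1 (.one ⟨4826, 5, 5⟩) (.one ⟨16513, 5, 3⟩)) (.node 1 (.one ⟨7692, 6, 3⟩) (.one ⟨15803, 5, 5⟩)))))) (.node 16 (.node 8 (.node 4 (.node 2 (.node 1 (.one ⟨1233, 2, 2⟩) (.one ⟨11214, 3, 1⟩)) (.node 1 (.one ⟨12661, 5, 5⟩) (.one ⟨3684, 5, 2⟩))) (.node 2 (.node 1 (.one ⟨9138, 5, 1⟩) (.one ⟨8901, 0, 4⟩)) (.node 1 (.one ⟨1104, 6, 3⟩) (.one ⟨4566, 5, 4⟩)))) (.node 4 (.node 2 (.node 1 (.one ⟨8969, 5, 4⟩) (.one ⟨8765, 5, 4⟩)) (.node 1 (.one ⟨4856, 5, 3⟩) (.one ⟨1445, 5, 1⟩))) (.node 2 (.node 1 (.one ⟨2641, 6, 4⟩) (.one ⟨4623, 0, 3⟩)) (.node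 1 (.one ⟨16701, 3, 2⟩) (.one ⟨12310, 1, 1⟩))))) (.node 8 (.node 4 (.node 2 (.node 1 (.one ⟨16281, 5, 3⟩) (.one ⟨4435, 5, 4⟩)) (.node 1 (.one ⟨10569, 5, 3⟩) (.one ⟨14098, 5, 3⟩))) (.node 2 (.node 1 (.one ⟨7395, 6, 4⟩) (.one ⟨8989, 0, 3⟩)) (.node 1 (.one ⟨1564, 5, 5⟩) (.one ⟨4979, 5, 3⟩)))) (.node 4 (.node 2 (.node 1 (.one ⟨14349, 4, 3⟩) (.one ⟨13359, 6, 3⟩)) (.node 1 (.one ⟨4626, 6, 2⟩) (.one ⟨514, 6, 4⟩))) (.node 2 (.node 1 (.one ⟨13678, 0, 4⟩) (.one ⟨1341, 4, 3⟩)) (.node 1 (.one ⟨12843, 0, 4⟩) (.one ⟨1340, 4, 4⟩)))))))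
def par3_16_10 : Arr Par :=
  (.node 32 (.node 16 (.node 8 (.node 4 (.node 2 (.node 1 (.one ⟨3324, 3, 5⟩) (.one ⟨13385, 6, 4⟩)) (.node 1 (.one ⟨1789, 3, 3⟩) (.one ⟨14652, 5, 5⟩))) (.node 2 (.node 1 (.one ⟨13392, 5, 4⟩) (.one ⟨13302, 0, 3⟩)) (.node 1 (.one ⟨8978, 0, 3⟩) (.one ⟨1714, 3, 3⟩)))) (.node 4 (.node 2 (.node 1 (.one ⟨4083, 4, 4⟩) (.one ⟨9218, 5, 5⟩)) (.node 1 (.one ⟨1344, 2, 2⟩) (.one ⟨9809, 6, 2⟩))) (.node 2 (.node 1 (.one ⟨11531, 5, 3⟩) (.one ⟨10827, 5, 4⟩)) (.node 1 (.one ⟨5384, 3, 4⟩) (.one ⟨13723, 5, 3⟩))))) (.node 8 (.node 4 (.node 2 (.node 1 (.one ⟨11690, 6, 3⟩) (.one ⟨11398, 6, 4⟩)) (.node 1 (.one ⟨8101, 3, 3⟩) (.one ⟨6865, 6, 3⟩))) (.node 2 (.node 1 (.one ⟨6245, 6, 3⟩) (.one ⟨8445, 6, 4⟩))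 (.node 1 (.one ⟨3629, 5, 4⟩) (.one ⟨4679, 6, 5⟩)))) (.node 4 (.node 2 (.node 1 (.one ⟨2352, 0, 3⟩) (.one ⟨11391, 6, 4⟩)) (.node 1 (.one ⟨7616, 6, 3⟩) (.one ⟨8727, 6, 4⟩))) (.node 2 (.node 1 (.one ⟨4103, 5, 3⟩) (.one ⟨15535, 6, 5⟩)) (.node 1 (.one ⟨14602, 5, 3⟩) (.one ⟨15000, 1, 2⟩)))))) (.node 16 (.node 8 (.node 4 (.node 2 (.node 1 (.one ⟨10422, 3, 3⟩) (.one ⟨8464, 0, 2⟩)) (.node 1 (.one ⟨11159, 6, 4⟩) (.one ⟨8945, 0, 2⟩))) (.node 2 (.node 1 (.one ⟨1337, 4, 3⟩) (.one ⟨12846, 0, 2⟩)) (.node 1 (.one ⟨3169, 6, 2⟩) (.one ⟨53, 6, 3⟩)))) (.node 4 (.node 2 (.node 1 (.one ⟨4302, 5, 4⟩) (.one ⟨7554, 6, 3⟩)) (.node 1 (.one ⟨8037, 4, 2⟩) (.one ⟨2533, 6, 5⟩))) (.node 2 (.node 1 (.one ⟨12443, 5, 3⟩) (.one ⟨8966, 0, 2⟩))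 (.node 1 (.one ⟨1334, 3, 3⟩) (.one ⟨564, 6, 3⟩))))) (.node 8 (.node 4 (.node 2 (.node 1 (.one ⟨15014, 5, 2⟩) (.one ⟨8998, 4, 4⟩)) (.node 1 (.one ⟨10366, 5, 5⟩) (.one ⟨4416, 6, 5⟩))) (.node 2 (.node 1 (.one ⟨4420, 6, 5⟩) (.one ⟨4421, 6, 4⟩)) (.node 1 (.one ⟨4417, 6, 4⟩) (.one ⟨12793, 0, 2⟩)))) (.node 4 (.node 2 (.node 1 (.one ⟨17106, 0, 4⟩) (.one ⟨376, 6, 3⟩)) (.node 1 (.one ⟨14348, 5, 3⟩) (.one ⟨14327, 6, 3⟩))) (.node 2 (.node 1 (.one ⟨7896, 5, 3⟩) (.one ⟨14319, 5, 4⟩)) (.node 1 (.one ⟨94, 6, 4⟩) (.one ⟨1628, 5, 4⟩)))))))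
def par3_16_11 : Arr Par :=
  (.node 32 (.node 16 (.node 8 (.node 4 (.node 2 (.node 1 (.one ⟨4969, 5, 3⟩) (.one ⟨3174, 5, 5⟩)) (.node 1 (.one ⟨1290, 3, 1⟩) (.one ⟨4259, 5, 4⟩))) (.node 2 (.node 1 (.one ⟨12446, 6, 4⟩) (.one ⟨5005, 5, 3⟩)) (.node 1 (.one ⟨5630, 3, 5⟩) (.one ⟨3542, 3, 1⟩)))) (.node 4 (.node 2 (.node 1 (.one ⟨16855, 3, 4⟩) (.one ⟨1078, 2, 2⟩)) (.node 1 (.one ⟨3848, 4, 4⟩) (.one ⟨5554, 3, 3⟩))) (.node 2 (.node 1 (.one ⟨13657, 6, 5⟩) (.one ⟨15450, 4, 4⟩)) (.node 1 (.one ⟨4617, 5, 3⟩) (.one ⟨9586, 2, 2⟩))))) (.node 8 (.node 4 (.node 2 (.node 1 (.one ⟨14067, 6, 3⟩) (.one ⟨15009, 5, 4⟩)) (.node 1 (.one ⟨5915, 5, 3⟩) (.one ⟨13290, 5, 5⟩))) (.node 2 (.node 1 (.one ⟨4205, 5, 3⟩) (.one ⟨8009, 5, 4⟩)) (.node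 1 (.one ⟨6555, 6, 4⟩) (.one ⟨13566, 3, 2⟩)))) (.node 4 (.node 2 (.node 1 (.one ⟨4144, 3, 3⟩) (.one ⟨16293, 6, 3⟩)) (.node 1 (.one ⟨16946, 6, 4⟩) (.one ⟨13893, 6, 3⟩))) (.node 2 (.node 1 (.one ⟨14888, 6, 5⟩) (.one ⟨8569, 6, 5⟩)) (.node 1 (.one ⟨4601, 5, 3⟩) (.one ⟨2926, 5, 4⟩)))))) (.node 16 (.node 8 (.node 4 (.node 2 (.node 1 (.one ⟨15979, 6, 5⟩) (.one ⟨2356, 0, 3⟩)) (.node 1 (.one ⟨4179, 5, 5⟩) (.one ⟨8518, 5, 2⟩))) (.node 2 (.node 1 (.one ⟨9264, 4, 3⟩) (.one ⟨13271, 0, 3⟩)) (.node 1 (.one ⟨6479, 5, 3⟩) (.one ⟨6517, 0, 3⟩)))) (.node 4 (.node 2 (.node 1 (.one ⟨3677, 5, 3⟩) (.one ⟨1814, 6, 5⟩)) (.node 1 (.one ⟨10981, 5, 3⟩) (.one ⟨13500, 5, 4⟩))) (.node 2 (.node 1 (.one ⟨8661, 5, 4⟩) (.one ⟨13309, 0, 3⟩)) (.node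 1 (.one ⟨786, 6, 3⟩) (.one ⟨1022, 5, 3⟩))))) (.node 8 (.node 4 (.node 2 (.node 1 (.one ⟨17111, 6, 3⟩) (.one ⟨13771, 6, 4⟩)) (.node 1 (.one ⟨12091, 5, 3⟩) (.one ⟨3698, 4, 1⟩))) (.node 2 (.node 1 (.one ⟨14760, 4, 2⟩) (.one ⟨2420, 6, 3⟩)) (.node 1 (.one ⟨15997, 6, 5⟩) (.one ⟨9271, 6, 5⟩)))) (.node 4 (.node 2 (.node 1 (.one ⟨12701, 0, 5⟩) (.one ⟨2705, 5, 2⟩)) (.node 1 (.one ⟨11211, 6, 1⟩) (.one ⟨12130, 4, 1⟩))) (.node 2 (.node 1 (.one ⟨11544, 6, 1⟩) (.one ⟨7011, 5, 4⟩)) (.node 1 (.one ⟨11348, 5, 4⟩) (.one ⟨12278, 3, 4⟩)))))))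
def par3_16_12 : Arr Par :=
  (.node 23 (.node 11 (.node 5 (.node 2 (.node 1 (.one ⟨11540, 6, 2⟩) (.one ⟨4227, 5, 4⟩)) (.node 1 (.one ⟨4441, 6, 4⟩) (.node 1 (.one ⟨12161, 3, 4⟩) (.one ⟨5161, 3, 4⟩)))) (.node 3 (.node 1 (.one ⟨12240, 5, 3⟩) (.node 1 (.one ⟨4144, 5, 3⟩) (.one ⟨8843, 5, 5⟩))) (.node 1 (.one ⟨16599, 5, 5⟩) (.node 1 (.one ⟨11105, 6, 2⟩) (.one ⟨12771, 5, 5⟩))))) (.node 6 (.node 3 (.node 1 (.one ⟨14626, 1, 3⟩) (.node 1 (.one ⟨4131, 4, 4⟩) (.one ⟨7406, 5, 3⟩))) (.node 1 (.one ⟨1473, 2, 2⟩) (.node 1 (.one ⟨303, 6, 5⟩) (.one ⟨3429, 5, 4⟩)))) (.node 3 (.node 1 (.one ⟨10304, 4, 4⟩) (.node 1 (.one ⟨17148, 1, 2⟩) (.one ⟨15036, 6, 3⟩))) (.node 1 (.one ⟨12310, 5, 1⟩) (.node 1 (.one ⟨14124, 0, 2⟩) (.one ⟨9177,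 3, 3⟩)))))) (.node 12 (.node 6 (.node 3 (.node 1 (.one ⟨3693, 6, 3⟩) (.node 1 (.one ⟨13885, 5, 4⟩) (.one ⟨1485, 3, 2⟩))) (.node 1 (.one ⟨5645, 6, 2⟩) (.node 1 (.one ⟨13622, 4, 3⟩) (.one ⟨2957, 6, 4⟩)))) (.node 3 (.node 1 (.one ⟨13413, 4, 1⟩) (.node 1 (.one ⟨5642, 3, 4⟩) (.one ⟨133, 5, 5⟩))) (.node 1 (.one ⟨16898, 5, 5⟩) (.node 1 (.one ⟨2854, 6, 4⟩) (.one ⟨16897, 5, 5⟩))))) (.node 6 (.node 3 (.node 1 (.one ⟨17161, 1, 3⟩) (.node 1 (.one ⟨16475, 0, 3⟩) (.one ⟨544, 5, 3⟩))) (.node 1 (.one ⟨10338, 0, 3⟩) (.node 1 (.one ⟨1920, 5, 4⟩) (.one ⟨12973, 6, 3⟩)))) (.node 3 (.node 1 (.one ⟨4085, 6, 4⟩) (.node 1 (.one ⟨6289, 0, 3⟩) (.one ⟨12769, 6, 5⟩))) (.node 1 (.one ⟨11106, 5, 4⟩) (.node 1 (.one ⟨11354, 6, 4⟩) (.one ⟨3970,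 6, 3⟩)))))))
def par3_16 : Arr Par :=
  (.node 384 (.node 192 (.node 64 par3_16_0 (.node 64 par3_16_1 par3_16_2)) (.node 64 par3_16_3 (.node 64 par3_16_4 par3_16_5))) (.node 192 (.node 64 par3_16_6 (.node 64 par3_16_7 par3_16_8)) (.node 128 (.node 64 par3_16_9 par3_16_10) (.node 64 par3_16_11 par3_16_12))))
def par3 : Arr Par :=
  (.node 8192 (.node 4096 (.node 2048 (.node 1024 par3_0 par3_1) (.node 1024 par3_2 par3_3)) (.node 2048 (.node 1024 par3_4 par3_5) (.node 1024 par3_6 par3_7))) (.node 4096 (.node 2048 (.node 1024 par3_8 par3_9) (.node 1024 par3_10 par3_11)) (.node 2048 (.node 1024 par3_12 par3_13) (.node 1024 par3_14 (.node 1024 par3_15 par3_16)))))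

end CfsgLib.ThIndex62.Data
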