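import Cfsg.Agent.ThIndex62.Closure

/-! Orbit forest of node 4 on the points. -/

set_option autoImplicit false
set_option maxRecDepth 100000

namespace CfsgLib.ThIndex62.Data

open CfsgLib.ThModel83

def par4_0_0 : Arr Par :=
  (.node 32 (.node 16 (.node 8 (.node 4 (.node 2 (.node 1 (.one ⟨5133, 0, 3⟩) (.one ⟨12356, 0, 5⟩)) (.node 1 (.one ⟨10946, 0, 4⟩) (.one ⟨16368, 1, 4⟩))) (.node 2 (.node 1 (.one ⟨1848, 0, 4⟩) (.one ⟨224, 2, 5⟩)) (.node 1 (.one ⟨4336, 1, 4⟩) (.one ⟨9554, 2, 4⟩)))) (.node 4 (.node 2 (.node 1 (.one ⟨11121, 3, 5⟩) (.one ⟨1555, 3, 5⟩)) (.node 1 (.one ⟨10704, 0, 5⟩) (.one ⟨3294, 1, 5⟩))) (.node 2 (.node 1 (.one ⟨9068, 2, 5⟩) (.one ⟨4252, 0, 4⟩)) (.node 1 (.one ⟨9898, 0, 5⟩) (.one ⟨8469, 1, 5⟩)))))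 (.node 8 (.node 4 (.node 2 (.node 1 (.one ⟨3162, 2, 2⟩) (.one ⟨13553, 3, 4⟩)) (.node 1 (.one ⟨5451, 3, 5⟩) (.one ⟨5525, 1, 4⟩))) (.node 2 (.node 1 (.one ⟨15270, 0, 6⟩) (.one ⟨16385, 3, 6⟩)) (.node 1 (.one ⟨3722, 1, 4⟩) (.one ⟨8606, 3, 5⟩)))) (.node 4 (.node 2 (.node 1 (.one ⟨5524, 0, 5⟩) (.one ⟨1291, 2, 3⟩)) (.node 1 (.one ⟨2741, 1, 4⟩) (.one ⟨3052, 3, 5⟩))) (.node 2 (.node 1 (.one ⟨12513, 3, 5⟩) (.one ⟨15165, 1, 5⟩)) (.node 1 (.one ⟨4404, 1, 4⟩) (.one ⟨4948, 0, 1⟩)))))) (.node 16 (.node 8 (.node 4 (.node 2 (.node 1 (.one ⟨3464, 2, 5⟩) (.one ⟨8020, 1, 4⟩)) (.node 1 (.one ⟨14794, 1, 4⟩) (.one ⟨1701, 0, 4⟩))) (.node 2 (.node 1 (.one ⟨5071, 0, 3⟩) (.one ⟨6060, 3, 3⟩)) (.node 1 (.one ⟨11035, 0, 4⟩) (.one ⟨10208,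 2, 5⟩)))) (.node 4 (.node 2 (.node 1 (.one ⟨3986, 1, 5⟩) (.one ⟨5458, 2, 5⟩)) (.node 1 (.one ⟨7732, 0, 4⟩) (.one ⟨4662, 2, 3⟩))) (.node 2 (.node 1 (.one ⟨4454, 0, 4⟩) (.one ⟨14978, 2, 5⟩)) (.node 1 (.one ⟨17043, 2, 4⟩) (.one ⟨15865, 2, 5⟩))))) (.node 8 (.node 4 (.node 2 (.node 1 (.one ⟨7921, 2, 5⟩) (.one ⟨5733, 2, 4⟩)) (.node 1 (.one ⟨4569, 3, 4⟩) (.one ⟨8963, 0, 5⟩))) (.node 2 (.node 1 (.one ⟨6529, 0, 3⟩) (.one ⟨11319, 2, 4⟩)) (.node 1 (.one ⟨13002, 2, 3⟩) (.one ⟨17193, 2, 5⟩)))) (.node 4 (.node 2 (.node 1 (.one ⟨10983, 0, 6⟩) (.one ⟨13178, 3, 5⟩)) (.node 1 (.one ⟨3828, 3, 1⟩) (.one ⟨5241, 0, 5⟩))) (.node 2 (.node 1 (.one ⟨5806, 0, 5⟩) (.one ⟨3281, 0, 1⟩)) (.node 1 (.one ⟨2300, 1, 5⟩) (.one ⟨10860, 0, 4⟩)))))))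
def par4_0_1 : Arr Par :=
  (.node 32 (.node 16 (.node 8 (.node 4 (.node 2 (.node 1 (.one ⟨2053, 0, 5⟩) (.one ⟨10874, 0, 5⟩)) (.node 1 (.one ⟨2127, 0, 3⟩) (.one ⟨5437, 0, 3⟩))) (.node 2 (.node 1 (.one ⟨13482, 3, 3⟩) (.one ⟨16819, 3, 4⟩)) (.node 1 (.one ⟨10859, 0, 3⟩) (.one ⟨5072, 0, 3⟩)))) (.node 4 (.node 2 (.node 1 (.one ⟨1702, 0, 3⟩) (.one ⟨5134, 0, 3⟩)) (.node 1 (.one ⟨92, 0, 3⟩) (.one ⟨11160, 1, 6⟩))) (.node 2 (.node 1 (.one ⟨14444, 0, 4⟩) (.one ⟨1698, 0, 4⟩)) (.node 1 (.one ⟨11032, 0, 4⟩) (.one ⟨681, 0, 3⟩))))) (.node 8 (.node 4 (.node 2 (.node 1 (.one ⟨3212, 2, 2⟩) (.one ⟨12352, 0, 4⟩)) (.node 1 (.one ⟨668, 0, 3⟩) (.one ⟨12309, 0, 5⟩))) (.node 2 (.node 1 (.one ⟨1697, 0, 5⟩) (.one ⟨5539, 0, 5⟩)) (.node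 1 (.one ⟨2049, 0, 4⟩) (.one ⟨5433, 0, 4⟩)))) (.node 4 (.node 2 (.node 1 (.one ⟨11847, 2, 2⟩) (.one ⟨519, 1, 0⟩)) (.node 1 (.one ⟨2282, 0, 3⟩) (.one ⟨16460, 0, 4⟩))) (.node 2 (.node 1 (.one ⟨13097, 0, 2⟩) (.one ⟨146, 3, 6⟩)) (.node 1 (.one ⟨4391, 3, 5⟩) (.one ⟨14352, 0, 5⟩)))))) (.node 16 (.node 8 (.node 4 (.node 2 (.node 1 (.one ⟨5732, 0, 4⟩) (.one ⟨10542, 3, 5⟩)) (.node 1 (.one ⟨16774, 3, 5⟩) (.one ⟨8287, 2, 3⟩))) (.node 2 (.node 1 (.one ⟨16306, 2, 6⟩) (.one ⟨13983, 1, 5⟩)) (.node 1 (.one ⟨10866, 0, 4⟩) (.one ⟨15671, 1, 4⟩)))) (.node 4 (.node 2 (.node 1 (.one ⟨15498, 3, 5⟩) (.one ⟨3410, 3, 4⟩)) (.node 1 (.one ⟨12734, 3, 5⟩) (.one ⟨7697, 2, 5⟩))) (.node 2 (.node 1 (.one ⟨1048, 3, 3⟩) (.one ⟨11495, 1, 3⟩)) (.node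 1 (.one ⟨15042, 1, 5⟩) (.one ⟨13821, 0, 3⟩))))) (.node 8 (.node 4 (.node 2 (.node 1 (.one ⟨3597, 1, 4⟩) (.one ⟨11534, 0, 5⟩)) (.node 1 (.one ⟨7047, 0, 5⟩) (.one ⟨10720, 2, 5⟩))) (.node 2 (.node 1 (.one ⟨3597, 2, 4⟩) (.one ⟨10306, 2, 5⟩)) (.node 1 (.one ⟨6099, 2, 5⟩) (.one ⟨789, 0, 5⟩)))) (.node 4 (.node 2 (.node 1 (.one ⟨3265, 2, 3⟩) (.one ⟨8446, 1, 5⟩)) (.node 1 (.one ⟨1229, 3, 6⟩) (.one ⟨12955, 2, 5⟩))) (.node 2 (.node 1 (.one ⟨6830, 2, 5⟩) (.one ⟨895, 3, 5⟩)) (.node 1 (.one ⟨91, 1, 5⟩) (.one ⟨10118, 2, 2⟩)))))))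
def par4_0_2 : Arr Par :=
  (.node 32 (.node 16 (.node 8 (.node 4 (.node 2 (.node 1 (.one ⟨15581, 1, 6⟩) (.one ⟨1647, 0, 3⟩)) (.node 1 (.one ⟨178, 1, 3⟩) (.one ⟨5086, 1, 4⟩))) (.node 2 (.node 1 (.one ⟨778, 0, 4⟩) (.one ⟨7390, 2, 5⟩)) (.node 1 (.one ⟨9003, 1, 5⟩) (.one ⟨2079, 2, 4⟩)))) (.node 4 (.node 2 (.node 1 (.one ⟨10986, 2, 5⟩) (.one ⟨12729, 2, 3⟩)) (.node 1 (.one ⟨8129, 1, 6⟩) (.one ⟨4718, 2, 5⟩))) (.node 2 (.node 1 (.one ⟨4533, 3, 5⟩) (.one ⟨15391, 3, 5⟩)) (.node 1 (.one ⟨8771, 0, 4⟩) (.one ⟨7938, 3, 6⟩))))) (.node 8 (.node 4 (.node 2 (.node 1 (.one ⟨7289, 2, 2⟩) (.one ⟨13913, 3, 4⟩)) (.node 1 (.one ⟨6482, 1, 5⟩) (.one ⟨16834, 3, 5⟩))) (.node 2 (.node 1 (.one ⟨13891, 0, 3⟩) (.one ⟨11828, 2, 4⟩)) (.node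 1 (.one ⟨10169, 0, 5⟩) (.one ⟨16792, 3, 4⟩)))) (.node 4 (.node 2 (.node 1 (.one ⟨2522, 3, 6⟩) (.one ⟨5333, 1, 4⟩)) (.node 1 (.one ⟨13844, 2, 4⟩) (.one ⟨17068, 3, 4⟩))) (.node 2 (.node 1 (.one ⟨16243, 1, 5⟩) (.one ⟨16852, 1, 4⟩)) (.node 1 (.one ⟨1353, 0, 2⟩) (.one ⟨13000, 3, 4⟩)))))) (.node 16 (.node 8 (.node 4 (.node 2 (.node 1 (.one ⟨5174, 2, 3⟩) (.one ⟨11833, 1, 3⟩)) (.node 1 (.one ⟨794, 3, 5⟩) (.one ⟨8996, 0, 5⟩))) (.node 2 (.node 1 (.one ⟨14613, 3, 5⟩) (.one ⟨11200, 0, 5⟩)) (.node 1 (.one ⟨11164, 1, 4⟩) (.one ⟨646, 1, 5⟩)))) (.node 4 (.node 2 (.node 1 (.one ⟨12349, 3, 4⟩) (.one ⟨5254, 3, 5⟩)) (.node 1 (.one ⟨7377, 2, 4⟩) (.one ⟨4378, 3, 5⟩))) (.node 2 (.node 1 (.one ⟨13648, 3, 3⟩) (.one ⟨11832, 2, 4⟩)) (.node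 1 (.one ⟨2790, 3, 6⟩) (.one ⟨4322, 1, 6⟩))))) (.node 8 (.node 4 (.node 2 (.node 1 (.one ⟨12457, 3, 5⟩) (.one ⟨6877, 1, 5⟩)) (.node 1 (.one ⟨4356, 2, 2⟩) (.one ⟨2556, 1, 4⟩))) (.node 2 (.node 1 (.one ⟨12439, 1, 6⟩) (.one ⟨7016, 0, 4⟩)) (.node 1 (.one ⟨2224, 2, 3⟩) (.one ⟨726, 0, 5⟩)))) (.node 4 (.node 2 (.node 1 (.one ⟨5850, 3, 5⟩) (.one ⟨3339, 2, 3⟩)) (.node 1 (.one ⟨8474, 0, 4⟩) (.one ⟨3595, 2, 4⟩))) (.node 2 (.node 1 (.one ⟨5044, 1, 6⟩) (.one ⟨3246, 3, 5⟩)) (.node 1 (.one ⟨4343, 0, 6⟩) (.one ⟨687, 3, 5⟩)))))))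
def par4_0_3 : Arr Par :=
  (.node 32 (.node 16 (.node 8 (.node 4 (.node 2 (.node 1 (.one ⟨8117, 1, 5⟩) (.one ⟨14639, 2, 5⟩)) (.node 1 (.one ⟨13668, 3, 5⟩) (.one ⟨15662, 2, 5⟩))) (.node 2 (.node 1 (.one ⟨15264, 2, 7⟩) (.one ⟨5656, 1, 4⟩)) (.node 1 (.one ⟨8935, 0, 4⟩) (.one ⟨8464, 0, 6⟩)))) (.node 4 (.node 2 (.node 1 (.one ⟨4664, 3, 6⟩) (.one ⟨3959, 3, 2⟩)) (.node 1 (.one ⟨14009, 2, 5⟩) (.one ⟨5460, 2, 5⟩))) (.node 2 (.node 1 (.one ⟨16105, 1, 3⟩) (.one ⟨4419, 2, 5⟩)) (.node 1 (.one ⟨7241, 0, 5⟩) (.one ⟨8940, 0, 3⟩))))) (.node 8 (.node 4 (.node 2 (.node 1 (.one ⟨1968, 0, 5⟩) (.one ⟨10309, 2, 5⟩)) (.node 1 (.one ⟨14496, 0, 5⟩) (.one ⟨13782, 2, 5⟩))) (.node 2 (.node 1 (.one ⟨1278, 0, 5⟩) (.one ⟨8844, 2, 4⟩)) (.node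 1 (.one ⟨8842, 2, 3⟩) (.one ⟨1344, 0, 6⟩)))) (.node 4 (.node 2 (.node 1 (.one ⟨11168, 3, 4⟩) (.one ⟨14688, 2, 5⟩)) (.node 1 (.one ⟨4138, 1, 6⟩) (.one ⟨3702, 1, 5⟩))) (.node 2 (.node 1 (.one ⟨2501, 0, 4⟩) (.one ⟨15487, 0, 4⟩)) (.node 1 (.one ⟨7132, 3, 5⟩) (.one ⟨13841, 2, 3⟩)))))) (.node 16 (.node 8 (.node 4 (.node 2 (.node 1 (.one ⟨769, 3, 4⟩) (.one ⟨1237, 0, 2⟩)) (.node 1 (.one ⟨11568, 3, 5⟩) (.one ⟨3192, 2, 5⟩))) (.node 2 (.node 1 (.one ⟨7825, 1, 5⟩) (.one ⟨9719, 0, 5⟩)) (.node 1 (.one ⟨13873, 3, 5⟩) (.one ⟨875, 1, 5⟩)))) (.node 4 (.node 2 (.node 1 (.one ⟨14609, 2, 5⟩) (.one ⟨7428, 2, 5⟩)) (.node 1 (.one ⟨4464, 2, 5⟩) (.one ⟨16033, 3, 5⟩))) (.node 2 (.node 1 (.one ⟨9056, 1, 6⟩) (.one ⟨16680, 1, 4⟩)) (.node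 1 (.one ⟨11940, 3, 4⟩) (.one ⟨9994, 2, 4⟩))))) (.node 8 (.node 4 (.node 2 (.node 1 (.one ⟨5225, 0, 3⟩) (.one ⟨14901, 0, 4⟩)) (.node 1 (.one ⟨3001, 1, 4⟩) (.one ⟨12545, 0, 5⟩))) (.node 2 (.node 1 (.one ⟨2912, 3, 4⟩) (.one ⟨13890, 0, 5⟩)) (.node 1 (.one ⟨3480, 3, 3⟩) (.one ⟨8351, 3, 6⟩)))) (.node 4 (.node 2 (.node 1 (.one ⟨8336, 3, 4⟩) (.one ⟨12948, 2, 4⟩)) (.node 1 (.one ⟨11097, 1, 5⟩) (.one ⟨11023, 0, 4⟩))) (.node 2 (.node 1 (.one ⟨10990, 0, 4⟩) (.one ⟨10376, 3, 5⟩)) (.node 1 (.one ⟨770, 0, 4⟩) (.one ⟨1604, 0, 5⟩)))))))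
def par4_0_4 : Arr Par :=
  (.node 32 (.node 16 (.node 8 (.node 4 (.node 2 (.node 1 (.one ⟨15109, 1, 4⟩) (.one ⟨10190, 2, 4⟩)) (.node 1 (.one ⟨16996, 3, 4⟩) (.one ⟨15596, 0, 5⟩))) (.node 2 (.node 1 (.one ⟨14273, 2, 4⟩) (.one ⟨3657, 0, 4⟩)) (.node 1 (.one ⟨11023, 2, 4⟩) (.one ⟨13045, 1, 4⟩)))) (.node 4 (.node 2 (.node 1 (.one ⟨8926, 0, 5⟩) (.one ⟨7391, 1, 5⟩)) (.node 1 (.one ⟨6293, 1, 4⟩) (.one ⟨1738, 3, 3⟩))) (.node 2 (.node 1 (.one ⟨6922, 3, 5⟩) (.one ⟨3268, 2, 4⟩)) (.node 1 (.one ⟨12753, 1, 4⟩) (.one ⟨6711, 3, 5⟩))))) (.node 8 (.node 4 (.node 2 (.node 1 (.one ⟨11077, 3, 4⟩) (.one ⟨7572, 2, 3⟩)) (.node 1 (.one ⟨7987, 2, 3⟩) (.one ⟨9638, 1, 3⟩))) (.node 2 (.node 1 (.one ⟨5245, 2, 3⟩) (.one ⟨4533, 2, 5⟩)) (.node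 1 (.one ⟨14760, 2, 5⟩) (.one ⟨3022, 3, 6⟩)))) (.node 4 (.node 2 (.node 1 (.one ⟨1237, 3, 2⟩) (.one ⟨10632, 0, 4⟩)) (.node 1 (.one ⟨9890, 2, 5⟩) (.one ⟨12371, 1, 4⟩))) (.node 2 (.node 1 (.one ⟨7546, 0, 3⟩) (.one ⟨4705, 0, 5⟩)) (.node 1 (.one ⟨16274, 1, 6⟩) (.one ⟨677, 2, 5⟩)))))) (.node 16 (.node 8 (.node 4 (.node 2 (.node 1 (.one ⟨111, 3, 4⟩) (.one ⟨8200, 2, 5⟩)) (.node 1 (.one ⟨3829, 1, 4⟩) (.one ⟨14981, 2, 5⟩))) (.node 2 (.node 1 (.one ⟨453, 2, 3⟩) (.one ⟨10810, 0, 5⟩)) (.node 1 (.one ⟨680, 2, 3⟩) (.one ⟨1463, 0, 4⟩)))) (.node 4 (.node 2 (.node 1 (.one ⟨127, 3, 3⟩) (.one ⟨17022, 3, 4⟩)) (.node 1 (.one ⟨11499, 1, 4⟩) (.one ⟨15507, 2, 4⟩))) (.node 2 (.node 1 (.one ⟨10770, 2, 4⟩) (.one ⟨5331, 1, 5⟩)) (.node 1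 (.one ⟨9617, 3, 6⟩) (.one ⟨14441, 0, 3⟩))))) (.node 8 (.node 4 (.node 2 (.node 1 (.one ⟨10358, 2, 5⟩) (.one ⟨1364, 2, 4⟩)) (.node 1 (.one ⟨7185, 3, 4⟩) (.one ⟨11114, 2, 5⟩))) (.node 2 (.node 1 (.one ⟨11218, 2, 4⟩) (.one ⟨6285, 1, 4⟩)) (.node 1 (.one ⟨1018, 3, 6⟩) (.one ⟨8600, 3, 6⟩)))) (.node 4 (.node 2 (.node 1 (.one ⟨1244, 0, 4⟩) (.one ⟨9706, 2, 6⟩)) (.node 1 (.one ⟨11832, 1, 4⟩) (.one ⟨12328, 2, 4⟩))) (.node 2 (.node 1 (.one ⟨9664, 3, 5⟩) (.one ⟨14712, 1, 5⟩)) (.node 1 (.one ⟨14667, 1, 4⟩) (.one ⟨15001, 0, 5⟩)))))))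
def par4_0_5 : Arr Par :=
  (.node 32 (.node 16 (.node 8 (.node 4 (.node 2 (.node 1 (.one ⟨4634, 0, 5⟩) (.one ⟨10432, 3, 4⟩)) (.node 1 (.one ⟨6591, 1, 5⟩) (.one ⟨10832, 0, 5⟩))) (.node 2 (.node 1 (.one ⟨3056, 3, 5⟩) (.one ⟨14721, 2, 6⟩)) (.node 1 (.one ⟨3940, 3, 5⟩) (.one ⟨15988, 0, 4⟩)))) (.node 4 (.node 2 (.node 1 (.one ⟨3089, 1, 5⟩) (.one ⟨8169, 1, 1⟩)) (.node 1 (.one ⟨8053, 2, 4⟩) (.one ⟨289, 3, 6⟩))) (.node 2 (.node 1 (.one ⟨8047, 2, 4⟩) (.one ⟨8050, 2, 5⟩)) (.node 1 (.one ⟨2800, 2, 2⟩) (.one ⟨10306, 1, 5⟩))))) (.node 8 (.node 4 (.node 2 (.node 1 (.one ⟨12559, 0, 3⟩) (.one ⟨1437, 2, 5⟩)) (.node 1 (.one ⟨8136, 0, 3⟩) (.one ⟨1616, 2, 5⟩))) (.node 2 (.node 1 (.one ⟨10827, 3, 3⟩) (.one ⟨12290, 0, 4⟩)) (.node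 1 (.one ⟨908, 3, 5⟩) (.one ⟨4589, 2, 5⟩)))) (.node 4 (.node 2 (.node 1 (.one ⟨5327, 2, 6⟩) (.one ⟨16828, 0, 5⟩)) (.node 1 (.one ⟨15743, 1, 5⟩) (.one ⟨5388, 2, 3⟩))) (.node 2 (.node 1 (.one ⟨5307, 2, 6⟩) (.one ⟨1650, 0, 5⟩)) (.node 1 (.one ⟨12343, 2, 5⟩) (.one ⟨15789, 3, 4⟩)))))) (.node 16 (.node 8 (.node 4 (.node 2 (.node 1 (.one ⟨12444, 2, 6⟩) (.one ⟨5575, 2, 6⟩)) (.node 1 (.one ⟨2868, 1, 4⟩) (.one ⟨2043, 2, 4⟩))) (.node 2 (.node 1 (.one ⟨1467, 0, 5⟩) (.one ⟨12716, 1, 6⟩)) (.node 1 (.one ⟨7814, 3, 5⟩) (.one ⟨14475, 0, 3⟩)))) (.node 4 (.node 2 (.node 1 (.one ⟨11625, 1, 4⟩) (.one ⟨2075, 0, 3⟩)) (.node 1 (.one ⟨10562, 2, 5⟩) (.one ⟨4314, 3, 5⟩))) (.node 2 (.node 1 (.one ⟨13750, 0, 4⟩) (.one ⟨7157, 1, 1⟩)) (.node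 1 (.one ⟨7356, 1, 5⟩) (.one ⟨13274, 3, 4⟩))))) (.node 8 (.node 4 (.node 2 (.node 1 (.one ⟨8592, 1, 5⟩) (.one ⟨11690, 3, 3⟩)) (.node 1 (.one ⟨9804, 3, 5⟩) (.one ⟨4384, 3, 5⟩))) (.node 2 (.node 1 (.one ⟨12969, 1, 6⟩) (.one ⟨1616, 0, 5⟩)) (.node 1 (.one ⟨6746, 1, 5⟩) (.one ⟨10033, 3, 4⟩)))) (.node 4 (.node 2 (.node 1 (.one ⟨14065, 0, 4⟩) (.one ⟨5308, 0, 5⟩)) (.node 1 (.one ⟨3640, 1, 2⟩) (.one ⟨13388, 1, 4⟩))) (.node 2 (.node 1 (.one ⟨13803, 3, 5⟩) (.one ⟨10990, 2, 4⟩)) (.node 1 (.one ⟨5588, 2, 5⟩) (.one ⟨4140, 1, 6⟩)))))))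
def par4_0_6 : Arr Par :=
  (.node 32 (.node 16 (.node 8 (.node 4 (.node 2 (.node 1 (.one ⟨11668, 2, 4⟩) (.one ⟨7264, 2, 4⟩)) (.node 1 (.one ⟨10994, 2, 2⟩) (.one ⟨129, 3, 4⟩))) (.node 2 (.node 1 (.one ⟨1051, 0, 4⟩) (.one ⟨6967, 0, 4⟩)) (.node 1 (.one ⟨7045, 0, 3⟩) (.one ⟨13841, 0, 3⟩)))) (.node 4 (.node 2 (.node 1 (.one ⟨4066, 1, 5⟩) (.one ⟨4225, 1, 5⟩)) (.node 1 (.one ⟨3424, 1, 3⟩) (.one ⟨10636, 0, 4⟩))) (.node 2 (.node 1 (.one ⟨12812, 1, 4⟩) (.one ⟨5462, 2, 4⟩)) (.node 1 (.one ⟨9005, 3, 4⟩) (.one ⟨12904, 1, 5⟩))))) (.node 8 (.node 4 (.node 2 (.node 1 (.one ⟨8880, 3, 6⟩) (.one ⟨16344, 3, 6⟩)) (.node 1 (.one ⟨12320, 0, 5⟩) (.one ⟨13240, 1, 3⟩))) (.node 2 (.node 1 (.one ⟨3592, 1, 5⟩) (.one ⟨16275, 3, 4⟩)) (.node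 1 (.one ⟨11229, 3, 5⟩) (.one ⟨1086, 0, 5⟩)))) (.node 4 (.node 2 (.node 1 (.one ⟨13001, 3, 5⟩) (.one ⟨16854, 1, 5⟩)) (.node 1 (.one ⟨7473, 2, 1⟩) (.one ⟨11625, 3, 4⟩))) (.node 2 (.node 1 (.one ⟨1675, 3, 5⟩) (.one ⟨15494, 0, 5⟩)) (.node 1 (.one ⟨5658, 1, 5⟩) (.one ⟨9470, 3, 5⟩)))))) (.node 16 (.node 8 (.node 4 (.node 2 (.node 1 (.one ⟨1060, 1, 4⟩) (.one ⟨16258, 3, 6⟩)) (.node 1 (.one ⟨6187, 1, 5⟩) (.one ⟨3000, 1, 4⟩))) (.node 2 (.node 1 (.one ⟨1238, 0, 5⟩) (.one ⟨8022, 1, 6⟩)) (.node 1 (.one ⟨5369, 2, 5⟩) (.one ⟨5368, 2, 3⟩)))) (.node 4 (.node 2 (.node 1 (.one ⟨13840, 2, 7⟩) (.one ⟨10809, 1, 6⟩)) (.node 1 (.one ⟨6093, 3, 4⟩) (.one ⟨11101, 1, 5⟩))) (.node 2 (.node 1 (.one ⟨8538, 3, 6⟩) (.one ⟨4219, 1, 3⟩)) (.node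 1 (.one ⟨11642, 0, 4⟩) (.one ⟨2372, 3, 4⟩))))) (.node 8 (.node 4 (.node 2 (.node 1 (.one ⟨4657, 2, 4⟩) (.one ⟨11206, 0, 6⟩)) (.node 1 (.one ⟨12734, 2, 5⟩) (.one ⟨15994, 2, 3⟩))) (.node 2 (.node 1 (.one ⟨16051, 3, 4⟩) (.one ⟨13412, 3, 4⟩)) (.node 1 (.one ⟨3963, 2, 7⟩) (.one ⟨14693, 1, 5⟩)))) (.node 4 (.node 2 (.node 1 (.one ⟨12505, 3, 5⟩) (.one ⟨2026, 3, 6⟩)) (.node 1 (.one ⟨6865, 3, 5⟩) (.one ⟨8993, 0, 4⟩))) (.node 2 (.node 1 (.one ⟨6948, 0, 4⟩) (.one ⟨5384, 0, 3⟩)) (.node 1 (.one ⟨12949, 2, 4⟩) (.one ⟨13741, 1, 5⟩)))))))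
def par4_0_7 : Arr Par :=
  (.node 32 (.node 16 (.node 8 (.node 4 (.node 2 (.node 1 (.one ⟨13790, 1, 4⟩) (.one ⟨10548, 2, 5⟩)) (.node 1 (.one ⟨2749, 2, 5⟩) (.one ⟨11029, 3, 4⟩))) (.node 2 (.node 1 (.one ⟨7046, 2, 3⟩) (.one ⟨8557, 3, 2⟩)) (.node 1 (.one ⟨4136, 1, 3⟩) (.one ⟨13384, 1, 5⟩)))) (.node 4 (.node 2 (.node 1 (.one ⟨15040, 3, 3⟩) (.one ⟨10893, 1, 5⟩)) (.node 1 (.one ⟨636, 0, 5⟩) (.one ⟨15191, 3, 5⟩))) (.node 2 (.node 1 (.one ⟨3758, 2, 5⟩) (.one ⟨15651, 2, 4⟩)) (.node 1 (.one ⟨6663, 1, 6⟩) (.one ⟨6560, 1, 3⟩))))) (.node 8 (.node 4 (.node 2 (.node 1 (.one ⟨7626, 1, 4⟩) (.one ⟨7459, 1, 6⟩)) (.node 1 (.one ⟨12731, 2, 4⟩) (.one ⟨14663, 3, 4⟩))) (.node 2 (.node 1 (.one ⟨8876, 1, 4⟩) (.one ⟨14339, 0, 4⟩)) (.node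 1 (.one ⟨9092, 3, 4⟩) (.one ⟨4856, 2, 6⟩)))) (.node 4 (.node 2 (.node 1 (.one ⟨14762, 2, 5⟩) (.one ⟨2182, 0, 4⟩)) (.node 1 (.one ⟨10811, 0, 4⟩) (.one ⟨13845, 2, 3⟩))) (.node 2 (.node 1 (.one ⟨14394, 3, 4⟩) (.one ⟨4960, 3, 6⟩)) (.node 1 (.one ⟨6529, 2, 3⟩) (.one ⟨9586, 2, 3⟩)))))) (.node 16 (.node 8 (.node 4 (.node 2 (.node 1 (.one ⟨2030, 0, 4⟩) (.one ⟨14775, 3, 6⟩)) (.node 1 (.one ⟨5731, 2, 5⟩) (.one ⟨6813, 3, 4⟩))) (.node 2 (.node 1 (.one ⟨7061, 1, 4⟩) (.one ⟨13635, 3, 2⟩)) (.node 1 (.one ⟨10654, 1, 6⟩) (.one ⟨11016, 0, 4⟩)))) (.node 4 (.node 2 (.node 1 (.one ⟨8503, 3, 2⟩) (.one ⟨15528, 3, 5⟩)) (.node 1 (.one ⟨16403, 3, 5⟩) (.one ⟨3480, 2, 3⟩))) (.node 2 (.node 1 (.one ⟨11379, 1, 4⟩) (.one ⟨3484, 2, 4⟩)) (.node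 1 (.one ⟨13002, 3, 3⟩) (.one ⟨2800, 1, 2⟩))))) (.node 8 (.node 4 (.node 2 (.node 1 (.one ⟨3672, 2, 4⟩) (.one ⟨8429, 3, 2⟩)) (.node 1 (.one ⟨15937, 3, 5⟩) (.one ⟨5012, 1, 5⟩))) (.node 2 (.node 1 (.one ⟨9883, 0, 5⟩) (.one ⟨5115, 3, 6⟩)) (.node 1 (.one ⟨2803, 2, 4⟩) (.one ⟨2019, 0, 4⟩)))) (.node 4 (.node 2 (.node 1 (.one ⟨354, 0, 5⟩) (.one ⟨17108, 1, 3⟩)) (.node 1 (.one ⟨6454, 2, 7⟩) (.one ⟨9015, 0, 5⟩))) (.node 2 (.node 1 (.one ⟨2296, 0, 5⟩) (.one ⟨13640, 3, 5⟩)) (.node 1 (.one ⟨4094, 3, 4⟩) (.one ⟨9838, 2, 5⟩)))))))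
def par4_0_8 : Arr Par :=
  (.node 32 (.node 16 (.node 8 (.node 4 (.node 2 (.node 1 (.one ⟨7069, 3, 3⟩) (.one ⟨14440, 0, 5⟩)) (.node 1 (.one ⟨6079, 1, 5⟩) (.one ⟨15166, 2, 5⟩))) (.node 2 (.node 1 (.one ⟨148, 3, 4⟩) (.one ⟨7728, 3, 3⟩)) (.node 1 (.one ⟨10122, 3, 4⟩) (.one ⟨9085, 0, 2⟩)))) (.node 4 (.node 2 (.node 1 (.one ⟨432, 1, 5⟩) (.one ⟨17016, 3, 3⟩)) (.node 1 (.one ⟨16301, 2, 5⟩) (.one ⟨9790, 1, 5⟩))) (.node 2 (.node 1 (.one ⟨6738, 0, 4⟩) (.one ⟨13818, 0, 5⟩)) (.node 1 (.one ⟨6425, 3, 4⟩) (.one ⟨10233, 0, 5⟩))))) (.node 8 (.node 4 (.node 2 (.node 1 (.one ⟨8374, 2, 7⟩) (.one ⟨12035, 0, 5⟩)) (.node 1 (.one ⟨2455, 1, 5⟩) (.one ⟨10906, 0, 5⟩))) (.node 2 (.node 1 (.one ⟨9575, 3, 5⟩) (.one ⟨12658, 3, 6⟩)) (.node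 1 (.one ⟨3777, 3, 5⟩) (.one ⟨7824, 1, 5⟩)))) (.node 4 (.node 2 (.node 1 (.one ⟨11500, 1, 4⟩) (.one ⟨1233, 0, 5⟩)) (.node 1 (.one ⟨17019, 3, 4⟩) (.one ⟨9155, 1, 4⟩))) (.node 2 (.node 1 (.one ⟨8101, 3, 5⟩) (.one ⟨15906, 1, 5⟩)) (.node 1 (.one ⟨2559, 3, 3⟩) (.one ⟨4130, 3, 4⟩)))))) (.node 16 (.node 8 (.node 4 (.node 2 (.node 1 (.one ⟨10822, 0, 5⟩) (.one ⟨12277, 0, 4⟩)) (.node 1 (.one ⟨54, 2, 4⟩) (.one ⟨2417, 0, 3⟩))) (.node 2 (.node 1 (.one ⟨8127, 1, 5⟩) (.one ⟨2212, 0, 4⟩)) (.node 1 (.one ⟨15514, 1, 4⟩) (.one ⟨9061, 3, 5⟩)))) (.node 4 (.node 2 (.node 1 (.one ⟨14124, 3, 4⟩) (.one ⟨6556, 1, 5⟩)) (.node 1 (.one ⟨7021, 0, 4⟩) (.one ⟨4474, 3, 5⟩))) (.node 2 (.node 1 (.one ⟨4402, 1, 5⟩) (.one ⟨5951, 2, 3⟩)) (.node 1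 (.one ⟨5955, 2, 4⟩) (.one ⟨1462, 0, 4⟩))))) (.node 8 (.node 4 (.node 2 (.node 1 (.one ⟨6612, 0, 3⟩) (.one ⟨11083, 3, 6⟩)) (.node 1 (.one ⟨8669, 2, 5⟩) (.one ⟨1742, 1, 5⟩))) (.node 2 (.node 1 (.one ⟨6204, 2, 4⟩) (.one ⟨2341, 0, 4⟩)) (.node 1 (.one ⟨5580, 2, 5⟩) (.one ⟨13267, 3, 4⟩)))) (.node 4 (.node 2 (.node 1 (.one ⟨2496, 0, 5⟩) (.one ⟨10528, 2, 5⟩)) (.node 1 (.one ⟨16788, 1, 4⟩) (.one ⟨2190, 3, 4⟩))) (.node 2 (.node 1 (.one ⟨9693, 1, 4⟩) (.one ⟨4219, 3, 3⟩)) (.node 1 (.one ⟨8441, 1, 5⟩) (.one ⟨10857, 0, 4⟩)))))))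
def par4_0_9 : Arr Par :=
  (.node 32 (.node 16 (.node 8 (.node 4 (.node 2 (.node 1 (.one ⟨12149, 0, 5⟩) (.one ⟨5432, 0, 3⟩)) (.node 1 (.one ⟨2134, 0, 4⟩) (.one ⟨1038, 0, 5⟩))) (.node 2 (.node 1 (.one ⟨12353, 0, 5⟩) (.one ⟨12154, 3, 3⟩)) (.node 1 (.one ⟨11033, 0, 3⟩) (.one ⟨13044, 1, 5⟩)))) (.node 4 (.node 2 (.node 1 (.one ⟨12308, 0, 5⟩) (.one ⟨1095, 3, 3⟩)) (.node 1 (.one ⟨10947, 0, 4⟩) (.one ⟨1023, 0, 4⟩))) (.node 2 (.node 1 (.one ⟨2048, 0, 3⟩) (.one ⟨4101, 2, 4⟩)) (.node 1 (.one ⟨3031, 3, 4⟩) (.one ⟨10858, 0, 4⟩))))) (.node 8 (.node 4 (.node 2 (.node 1 (.one ⟨11038, 0, 3⟩) (.one ⟨2859, 2, 2⟩)) (.node 1 (.one ⟨4696, 3, 2⟩) (.one ⟨5501, 2, 2⟩))) (.node 2 (.node 1 (.one ⟨5488, 1, 4⟩) (.one ⟨6928, 1, 4⟩)) (.node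 1 (.one ⟨13845, 0, 3⟩) (.one ⟨12522, 2, 4⟩)))) (.node 4 (.node 2 (.node 1 (.one ⟨10872, 0, 5⟩) (.one ⟨7969, 3, 2⟩)) (.node 1 (.one ⟨12146, 0, 3⟩) (.one ⟨2052, 0, 4⟩))) (.node 2 (.node 1 (.one ⟨14242, 3, 4⟩) (.one ⟨12145, 0, 3⟩)) (.node 1 (.one ⟨2130, 0, 3⟩) (.one ⟨10871, 0, 3⟩)))))) (.node 16 (.node 8 (.node 4 (.node 2 (.node 1 (.one ⟨12357, 0, 5⟩) (.one ⟨10943, 0, 5⟩)) (.node 1 (.one ⟨550, 0, 5⟩) (.one ⟨5132, 0, 4⟩))) (.node 2 (.node 1 (.one ⟨8080, 3, 6⟩) (.one ⟨7291, 2, 5⟩)) (.node 1 (.one ⟨13706, 3, 5⟩) (.one ⟨6905, 1, 3⟩)))) (.node 4 (.node 2 (.node 1 (.one ⟨329, 3, 2⟩) (.one ⟨4422, 1, 5⟩)) (.node 1 (.one ⟨5177, 0, 5⟩) (.one ⟨7045, 2, 3⟩))) (.node 2 (.node 1 (.one ⟨15584, 0, 5⟩) (.one ⟨598, 0, 4⟩)) (.node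 1 (.one ⟨652, 0, 4⟩) (.one ⟨14967, 2, 5⟩))))) (.node 8 (.node 4 (.node 2 (.node 1 (.one ⟨7945, 2, 3⟩) (.one ⟨13612, 3, 4⟩)) (.node 1 (.one ⟨14263, 1, 4⟩) (.one ⟨429, 0, 4⟩))) (.node 2 (.node 1 (.one ⟨12768, 3, 5⟩) (.one ⟨13469, 1, 5⟩)) (.node 1 (.one ⟨11030, 0, 5⟩) (.one ⟨6590, 0, 4⟩)))) (.node 4 (.node 2 (.node 1 (.one ⟨789, 3, 5⟩) (.one ⟨7606, 1, 5⟩)) (.node 1 (.one ⟨8377, 3, 4⟩) (.one ⟨14797, 3, 3⟩))) (.node 2 (.node 1 (.one ⟨821, 3, 4⟩) (.one ⟨12333, 2, 5⟩)) (.node 1 (.one ⟨6996, 0, 5⟩) (.one ⟨5785, 2, 6⟩)))))))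
def par4_0_10 : Arr Par :=
  (.node 32 (.node 16 (.node 8 (.node 4 (.node 2 (.node 1 (.one ⟨6043, 1, 5⟩) (.one ⟨10306, 3, 5⟩)) (.node 1 (.one ⟨2864, 1, 5⟩) (.one ⟨2192, 1, 0⟩))) (.node 2 (.node 1 (.one ⟨8493, 0, 4⟩) (.one ⟨10785, 1, 6⟩)) (.node 1 (.one ⟨2338, 3, 4⟩) (.one ⟨2399, 2, 5⟩)))) (.node 4 (.node 2 (.node 1 (.one ⟨3187, 3, 5⟩) (.one ⟨11835, 1, 4⟩)) (.node 1 (.one ⟨11261, 3, 3⟩) (.one ⟨4889, 0, 4⟩))) (.node 2 (.node 1 (.one ⟨8119, 0, 3⟩) (.one ⟨6677, 0, 5⟩)) (.node 1 (.one ⟨5126, 2, 4⟩) (.one ⟨15391, 1, 5⟩))))) (.node 8 (.node 4 (.node 2 (.node 1 (.one ⟨5175, 2, 3⟩) (.one ⟨5256, 2, 5⟩)) (.node 1 (.one ⟨14573, 3, 5⟩) (.one ⟨12015, 1, 5⟩))) (.node 2 (.node 1 (.one ⟨12297, 3, 5⟩) (.one ⟨13820, 0, 4⟩)) (.node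 1 (.one ⟨14714, 3, 4⟩) (.one ⟨17051, 3, 4⟩)))) (.node 4 (.node 2 (.node 1 (.one ⟨5651, 0, 4⟩) (.one ⟨3917, 2, 2⟩)) (.node 1 (.one ⟨5181, 0, 5⟩) (.one ⟨11984, 3, 4⟩))) (.node 2 (.node 1 (.one ⟨16636, 0, 2⟩) (.one ⟨14405, 0, 4⟩)) (.node 1 (.one ⟨10675, 3, 4⟩) (.one ⟨7115, 2, 5⟩)))))) (.node 16 (.node 8 (.node 4 (.node 2 (.node 1 (.one ⟨13942, 2, 6⟩) (.one ⟨12328, 3, 4⟩)) (.node 1 (.one ⟨7571, 2, 3⟩) (.one ⟨8883, 0, 4⟩))) (.node 2 (.node 1 (.one ⟨1843, 2, 2⟩) (.one ⟨7048, 0, 4⟩)) (.node 1 (.one ⟨4241, 2, 6⟩) (.one ⟨3218, 0, 5⟩)))) (.node 4 (.node 2 (.node 1 (.one ⟨10184, 0, 2⟩) (.one ⟨5646, 0, 2⟩)) (.node 1 (.one ⟨12867, 3, 4⟩) (.one ⟨6354, 2, 5⟩))) (.node 2 (.node 1 (.one ⟨12741, 3, 5⟩) (.one ⟨4391, 1, 5⟩)) (.node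 1 (.one ⟨1958, 3, 5⟩) (.one ⟨8167, 1, 4⟩))))) (.node 8 (.node 4 (.node 2 (.node 1 (.one ⟨6064, 3, 5⟩) (.one ⟨7535, 1, 5⟩)) (.node 1 (.one ⟨2405, 0, 4⟩) (.one ⟨3796, 3, 5⟩))) (.node 2 (.node 1 (.one ⟨11007, 1, 5⟩) (.one ⟨2077, 0, 4⟩)) (.node 1 (.one ⟨565, 3, 5⟩) (.one ⟨2978, 3, 5⟩)))) (.node 4 (.node 2 (.node 1 (.one ⟨76, 3, 5⟩) (.one ⟨1296, 3, 4⟩)) (.node 1 (.one ⟨3270, 2, 4⟩) (.one ⟨5327, 3, 6⟩))) (.node 2 (.node 1 (.one ⟨7676, 2, 4⟩) (.one ⟨15103, 1, 6⟩)) (.node 1 (.one ⟨7583, 0, 4⟩) (.one ⟨17014, 3, 5⟩)))))))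
def par4_0_11 : Arr Par :=
  (.node 32 (.node 16 (.node 8 (.node 4 (.node 2 (.node 1 (.one ⟨10987, 2, 7⟩) (.one ⟨8876, 3, 4⟩)) (.node 1 (.one ⟨4207, 3, 4⟩) (.one ⟨1963, 2, 5⟩))) (.node 2 (.node 1 (.one ⟨13862, 2, 4⟩) (.one ⟨8116, 1, 5⟩)) (.node 1 (.one ⟨14803, 3, 4⟩) (.one ⟨9040, 3, 5⟩)))) (.node 4 (.node 2 (.node 1 (.one ⟨12617, 1, 5⟩) (.one ⟨14854, 0, 4⟩)) (.node 1 (.one ⟨7821, 2, 5⟩) (.one ⟨10108, 3, 4⟩))) (.node 2 (.node 1 (.one ⟨2322, 2, 6⟩) (.one ⟨4985, 3, 5⟩)) (.node 1 (.one ⟨770, 2, 4⟩) (.one ⟨13383, 1, 6⟩))))) (.node 8 (.node 4 (.node 2 (.node 1 (.one ⟨10210, 2, 5⟩) (.one ⟨7595, 3, 6⟩)) (.node 1 (.one ⟨15625, 3, 5⟩) (.one ⟨9070, 2, 4⟩))) (.node 2 (.node 1 (.one ⟨6859, 3, 4⟩) (.one ⟨4236, 3, 6⟩)) (.node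 1 (.one ⟨303, 3, 4⟩) (.one ⟨11869, 1, 6⟩)))) (.node 4 (.node 2 (.node 1 (.one ⟨837, 1, 5⟩) (.one ⟨8682, 0, 3⟩)) (.node 1 (.one ⟨5329, 2, 2⟩) (.one ⟨6058, 2, 5⟩))) (.node 2 (.node 1 (.one ⟨15583, 0, 4⟩) (.one ⟨848, 3, 5⟩)) (.node 1 (.one ⟨11017, 0, 4⟩) (.one ⟨3390, 1, 6⟩)))))) (.node 16 (.node 8 (.node 4 (.node 2 (.node 1 (.one ⟨8452, 2, 2⟩) (.one ⟨10089, 1, 4⟩)) (.node 1 (.one ⟨11352, 2, 5⟩) (.one ⟨294, 3, 4⟩))) (.node 2 (.node 1 (.one ⟨12829, 0, 5⟩) (.one ⟨10674, 0, 4⟩)) (.node 1 (.one ⟨16660, 2, 5⟩) (.one ⟨9098, 2, 5⟩)))) (.node 4 (.node 2 (.node 1 (.one ⟨4347, 0, 3⟩) (.one ⟨5329, 1, 2⟩)) (.node 1 (.one ⟨14135, 2, 5⟩) (.one ⟨9399, 3, 5⟩))) (.node 2 (.node 1 (.one ⟨1002, 1, 6⟩) (.one ⟨10773, 2, 3⟩)) (.node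 1 (.one ⟨13336, 1, 5⟩) (.one ⟨9022, 0, 6⟩))))) (.node 8 (.node 4 (.node 2 (.node 1 (.one ⟨11166, 1, 4⟩) (.one ⟨12446, 1, 5⟩)) (.node 1 (.one ⟨131, 3, 5⟩) (.one ⟨2503, 1, 4⟩))) (.node 2 (.node 1 (.one ⟨14801, 2, 5⟩) (.one ⟨6808, 1, 5⟩)) (.node 1 (.one ⟨2404, 2, 4⟩) (.one ⟨7937, 1, 4⟩)))) (.node 4 (.node 2 (.node 1 (.one ⟨6333, 1, 3⟩) (.one ⟨6202, 2, 4⟩)) (.node 1 (.one ⟨6471, 0, 4⟩) (.one ⟨17173, 1, 5⟩))) (.node 2 (.node 1 (.one ⟨14342, 0, 4⟩) (.one ⟨4556, 0, 4⟩)) (.node 1 (.one ⟨9033, 1, 5⟩) (.one ⟨11027, 2, 7⟩)))))))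
def par4_0_12 : Arr Par :=
  (.node 32 (.node 16 (.node 8 (.node 4 (.node 2 (.node 1 (.one ⟨6658, 0, 5⟩) (.one ⟨14176, 2, 3⟩)) (.node 1 (.one ⟨519, 2, 3⟩) (.one ⟨13438, 3, 4⟩))) (.node 2 (.node 1 (.one ⟨9011, 0, 5⟩) (.one ⟨6664, 0, 4⟩)) (.node 1 (.one ⟨12073, 2, 4⟩) (.one ⟨760, 0, 4⟩)))) (.node 4 (.node 2 (.node 1 (.one ⟨3268, 0, 4⟩) (.one ⟨13937, 2, 4⟩)) (.node 1 (.one ⟨7046, 0, 3⟩) (.one ⟨15995, 3, 4⟩))) (.node 2 (.node 1 (.one ⟨4584, 2, 5⟩) (.one ⟨4350, 3, 6⟩)) (.node 1 (.one ⟨7987, 3, 3⟩) (.one ⟨17165, 3, 4⟩))))) (.node 8 (.node 4 (.node 2 (.node 1 (.one ⟨9522, 3, 5⟩) (.one ⟨12336, 3, 4⟩)) (.node 1 (.one ⟨15408, 1, 4⟩) (.one ⟨1833, 3, 5⟩))) (.node 2 (.node 1 (.one ⟨14956, 1, 3⟩) (.one ⟨7338, 0, 4⟩)) (.node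 1 (.one ⟨11026, 0, 5⟩) (.one ⟨5184, 2, 4⟩)))) (.node 4 (.node 2 (.node 1 (.one ⟨16015, 1, 5⟩) (.one ⟨5484, 3, 6⟩)) (.node 1 (.one ⟨13683, 2, 4⟩) (.one ⟨11284, 3, 5⟩))) (.node 2 (.node 1 (.one ⟨3788, 1, 3⟩) (.one ⟨9678, 3, 4⟩)) (.node 1 (.one ⟨4012, 3, 4⟩) (.one ⟨6235, 2, 5⟩)))))) (.node 16 (.node 8 (.node 4 (.node 2 (.node 1 (.one ⟨16432, 1, 5⟩) (.one ⟨3307, 3, 6⟩)) (.node 1 (.one ⟨1923, 2, 5⟩) (.one ⟨4414, 0, 3⟩))) (.node 2 (.node 1 (.one ⟨13382, 0, 4⟩) (.one ⟨3757, 2, 5⟩)) (.node 1 (.one ⟨7876, 3, 3⟩) (.one ⟨5263, 1, 4⟩)))) (.node 4 (.node 2 (.node 1 (.one ⟨6981, 3, 6⟩) (.one ⟨6637, 0, 4⟩)) (.node 1 (.one ⟨8289, 0, 6⟩) (.one ⟨13854, 0, 5⟩))) (.node 2 (.node 1 (.one ⟨13919, 2, 2⟩) (.one ⟨10522, 2, 5⟩)) (.node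 1 (.one ⟨2357, 0, 4⟩) (.one ⟨359, 3, 4⟩))))) (.node 8 (.node 4 (.node 2 (.node 1 (.one ⟨5521, 2, 3⟩) (.one ⟨12804, 1, 3⟩)) (.node 1 (.one ⟨2163, 0, 5⟩) (.one ⟨7728, 2, 3⟩))) (.node 2 (.node 1 (.one ⟨4028, 2, 6⟩) (.one ⟨1651, 0, 3⟩)) (.node 1 (.one ⟨5729, 2, 4⟩) (.one ⟨4586, 1, 4⟩)))) (.node 4 (.node 2 (.node 1 (.one ⟨16653, 3, 4⟩) (.one ⟨16600, 3, 2⟩)) (.node 1 (.one ⟨8973, 3, 3⟩) (.one ⟨1920, 3, 4⟩))) (.node 2 (.node 1 (.one ⟨11412, 3, 7⟩) (.one ⟨6276, 3, 4⟩)) (.node 1 (.one ⟨15157, 0, 4⟩) (.one ⟨10938, 0, 4⟩)))))))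
def par4_0_13 : Arr Par :=
  (.node 32 (.node 16 (.node 8 (.node 4 (.node 2 (.node 1 (.one ⟨8868, 0, 3⟩) (.one ⟨16882, 1, 4⟩)) (.node 1 (.one ⟨10651, 0, 4⟩) (.one ⟨17103, 1, 5⟩))) (.node 2 (.node 1 (.one ⟨13886, 1, 5⟩) (.one ⟨52, 2, 4⟩)) (.node 1 (.one ⟨12160, 0, 2⟩) (.one ⟨9049, 1, 4⟩)))) (.node 4 (.node 2 (.node 1 (.one ⟨9224, 3, 4⟩) (.one ⟨13938, 3, 5⟩)) (.node 1 (.one ⟨6975, 0, 3⟩) (.one ⟨10627, 1, 5⟩))) (.node 2 (.node 1 (.one ⟨15748, 3, 5⟩) (.one ⟨5109, 0, 6⟩)) (.node 1 (.one ⟨11221, 3, 5⟩) (.one ⟨11062, 1, 4⟩))))) (.node 8 (.node 4 (.node 2 (.node 1 (.one ⟨204, 0, 4⟩) (.one ⟨3013, 2, 6⟩)) (.node 1 (.one ⟨2739, 2, 2⟩) (.one ⟨8510, 2, 2⟩))) (.node 2 (.node 1 (.one ⟨8767, 3, 3⟩) (.one ⟨13280, 3, 4⟩)) (.node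 1 (.one ⟨6820, 0, 3⟩) (.one ⟨16749, 1, 5⟩)))) (.node 4 (.node 2 (.node 1 (.one ⟨2071, 0, 6⟩) (.one ⟨11697, 1, 5⟩)) (.node 1 (.one ⟨4525, 2, 4⟩) (.one ⟨1843, 3, 2⟩))) (.node 2 (.node 1 (.one ⟨2356, 2, 6⟩) (.one ⟨2763, 3, 6⟩)) (.node 1 (.one ⟨9882, 1, 5⟩) (.one ⟨15834, 2, 3⟩)))))) (.node 16 (.node 8 (.node 4 (.node 2 (.node 1 (.one ⟨3159, 2, 2⟩) (.one ⟨12910, 0, 4⟩)) (.node 1 (.one ⟨4686, 1, 5⟩) (.one ⟨15323, 2, 5⟩))) (.node 2 (.node 1 (.one ⟨783, 2, 5⟩) (.one ⟨3090, 0, 3⟩)) (.node 1 (.one ⟨567, 1, 5⟩) (.one ⟨2431, 1, 5⟩)))) (.node 4 (.node 2 (.node 1 (.one ⟨11673, 1, 5⟩) (.one ⟨15931, 1, 4⟩)) (.node 1 (.one ⟨11440, 1, 4⟩) (.one ⟨5761, 0, 4⟩))) (.node 2 (.node 1 (.one ⟨4972, 2, 5⟩) (.one ⟨15888, 3, 5⟩)) (.node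 1 (.one ⟨3384, 1, 5⟩) (.one ⟨8666, 2, 5⟩))))) (.node 8 (.node 4 (.node 2 (.node 1 (.one ⟨838, 2, 3⟩) (.one ⟨6618, 2, 6⟩)) (.node 1 (.one ⟨5621, 3, 5⟩) (.one ⟨10770, 0, 4⟩))) (.node 2 (.node 1 (.one ⟨3270, 0, 4⟩) (.one ⟨16593, 1, 5⟩)) (.node 1 (.one ⟨2206, 2, 6⟩) (.one ⟨3754, 2, 4⟩)))) (.node 4 (.node 2 (.node 1 (.one ⟨9990, 0, 5⟩) (.one ⟨9689, 0, 4⟩)) (.node 1 (.one ⟨8833, 3, 5⟩) (.one ⟨9932, 3, 5⟩))) (.node 2 (.node 1 (.one ⟨3834, 3, 5⟩) (.one ⟨15429, 3, 4⟩)) (.node 1 (.one ⟨6847, 0, 4⟩) (.one ⟨6583, 0, 4⟩)))))))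
def par4_0_14 : Arr Par :=
  (.node 32 (.node 16 (.node 8 (.node 4 (.node 2 (.node 1 (.one ⟨4415, 1, 4⟩) (.one ⟨8288, 0, 6⟩)) (.node 1 (.one ⟨14841, 1, 5⟩) (.one ⟨6675, 0, 5⟩))) (.node 2 (.node 1 (.one ⟨775, 3, 5⟩) (.one ⟨6107, 2, 5⟩)) (.node 1 (.one ⟨16542, 2, 7⟩) (.one ⟨4958, 3, 5⟩)))) (.node 4 (.node 2 (.node 1 (.one ⟨11370, 3, 3⟩) (.one ⟨1547, 2, 4⟩)) (.node 1 (.one ⟨7970, 1, 5⟩) (.one ⟨7246, 3, 5⟩))) (.node 2 (.node 1 (.one ⟨2338, 0, 4⟩) (.one ⟨3011, 2, 3⟩)) (.node 1 (.one ⟨4377, 3, 4⟩) (.one ⟨15216, 0, 5⟩))))) (.node 8 (.node 4 (.node 2 (.node 1 (.one ⟨3754, 3, 4⟩) (.one ⟨4809, 1, 5⟩)) (.node 1 (.one ⟨470, 1, 5⟩) (.one ⟨6558, 0, 5⟩))) (.node 2 (.node 1 (.one ⟨5079, 1, 4⟩) (.one ⟨16479, 1, 5⟩)) (.node 1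 (.one ⟨16293, 0, 4⟩) (.one ⟨2821, 3, 5⟩)))) (.node 4 (.node 2 (.node 1 (.one ⟨5459, 0, 4⟩) (.one ⟨12260, 3, 5⟩)) (.node 1 (.one ⟨3060, 2, 6⟩) (.one ⟨6341, 2, 5⟩))) (.node 2 (.node 1 (.one ⟨354, 3, 5⟩) (.one ⟨2507, 1, 4⟩)) (.node 1 (.one ⟨365, 3, 2⟩) (.one ⟨12963, 2, 5⟩)))))) (.node 16 (.node 8 (.node 4 (.node 2 (.node 1 (.one ⟨16373, 0, 5⟩) (.one ⟨3422, 0, 3⟩)) (.node 1 (.one ⟨8525, 2, 5⟩) (.one ⟨11899, 3, 5⟩))) (.node 2 (.node 1 (.one ⟨11931, 3, 3⟩) (.one ⟨10214, 2, 5⟩)) (.node 1 (.one ⟨5765, 1, 5⟩) (.one ⟨15624, 2, 2⟩)))) (.node 4 (.node 2 (.node 1 (.one ⟨9008, 1, 3⟩) (.one ⟨15895, 2, 5⟩)) (.node 1 (.one ⟨6823, 1, 5⟩) (.one ⟨5397, 3, 4⟩))) (.node 2 (.node 1 (.one ⟨6634, 2, 6⟩) (.one ⟨8972, 2, 6⟩)) (.node 1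 (.one ⟨13112, 1, 3⟩) (.one ⟨8156, 1, 5⟩))))) (.node 8 (.node 4 (.node 2 (.node 1 (.one ⟨916, 3, 5⟩) (.one ⟨2165, 0, 4⟩)) (.node 1 (.one ⟨11030, 2, 5⟩) (.one ⟨7399, 0, 2⟩))) (.node 2 (.node 1 (.one ⟨16288, 3, 5⟩) (.one ⟨257, 0, 5⟩)) (.node 1 (.one ⟨10623, 1, 5⟩) (.one ⟨10914, 0, 4⟩)))) (.node 4 (.node 2 (.node 1 (.one ⟨14871, 2, 4⟩) (.one ⟨1619, 2, 5⟩)) (.node 1 (.one ⟨9073, 0, 4⟩) (.one ⟨6992, 0, 4⟩))) (.node 2 (.node 1 (.one ⟨2739, 3, 2⟩) (.one ⟨1867, 3, 6⟩)) (.node 1 (.one ⟨11858, 3, 6⟩) (.one ⟨12618, 3, 2⟩)))))))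
def par4_0_15 : Arr Par :=
  (.node 32 (.node 16 (.node 8 (.node 4 (.node 2 (.node 1 (.one ⟨4237, 0, 3⟩) (.one ⟨1344, 3, 6⟩)) (.node 1 (.one ⟨130, 3, 4⟩) (.one ⟨4415, 2, 4⟩))) (.node 2 (.node 1 (.one ⟨10516, 1, 4⟩) (.one ⟨11233, 1, 4⟩)) (.node 1 (.one ⟨10019, 3, 6⟩) (.one ⟨16001, 2, 4⟩)))) (.node 4 (.node 2 (.node 1 (.one ⟨2162, 0, 5⟩) (.one ⟨5180, 0, 3⟩)) (.node 1 (.one ⟨102, 3, 5⟩) (.one ⟨2388, 2, 3⟩))) (.node 2 (.node 1 (.one ⟨292, 2, 4⟩) (.one ⟨9902, 3, 5⟩)) (.node 1 (.one ⟨14467, 3, 3⟩) (.one ⟨4969, 2, 5⟩))))) (.node 8 (.node 4 (.node 2 (.node 1 (.one ⟨16540, 1, 5⟩) (.one ⟨6206, 2, 4⟩)) (.node 1 (.one ⟨10854, 2, 5⟩) (.one ⟨8864, 0, 4⟩))) (.node 2 (.node 1 (.one ⟨15699, 2, 5⟩) (.one ⟨3069, 1, 5⟩)) (.node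 1 (.one ⟨9710, 3, 5⟩) (.one ⟨4058, 0, 3⟩)))) (.node 4 (.node 2 (.node 1 (.one ⟨10769, 2, 5⟩) (.one ⟨16635, 3, 5⟩)) (.node 1 (.one ⟨6972, 3, 6⟩) (.one ⟨7396, 1, 4⟩))) (.node 2 (.node 1 (.one ⟨1826, 1, 5⟩) (.one ⟨1618, 2, 5⟩)) (.node 1 (.one ⟨4349, 0, 4⟩) (.one ⟨13231, 3, 5⟩)))))) (.node 16 (.node 8 (.node 4 (.node 2 (.node 1 (.one ⟨13141, 3, 6⟩) (.one ⟨4652, 3, 5⟩)) (.node 1 (.one ⟨12242, 1, 4⟩) (.one ⟨6897, 2, 3⟩))) (.node 2 (.node 1 (.one ⟨15999, 2, 5⟩) (.one ⟨10900, 0, 3⟩)) (.node 1 (.one ⟨3220, 0, 5⟩) (.one ⟨6631, 0, 2⟩)))) (.node 4 (.node 2 (.node 1 (.one ⟨10130, 3, 6⟩) (.one ⟨15992, 2, 3⟩)) (.node 1 (.one ⟨1654, 3, 5⟩) (.one ⟨13746, 1, 4⟩))) (.node 2 (.node 1 (.one ⟨4422, 2, 5⟩) (.one ⟨1461, 3, 4⟩)) (.node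 1 (.one ⟨16226, 1, 6⟩) (.one ⟨10524, 0, 5⟩))))) (.node 8 (.node 4 (.node 2 (.node 1 (.one ⟨15350, 3, 4⟩) (.one ⟨10534, 1, 4⟩)) (.node 1 (.one ⟨15917, 0, 4⟩) (.one ⟨4500, 3, 4⟩))) (.node 2 (.node 1 (.one ⟨8226, 2, 6⟩) (.one ⟨7193, 2, 5⟩)) (.node 1 (.one ⟨880, 3, 4⟩) (.one ⟨13718, 1, 5⟩)))) (.node 4 (.node 2 (.node 1 (.one ⟨6745, 1, 5⟩) (.one ⟨11506, 3, 6⟩)) (.node 1 (.one ⟨8281, 2, 5⟩) (.one ⟨11744, 3, 3⟩))) (.node 2 (.node 1 (.one ⟨7363, 1, 5⟩) (.one ⟨9856, 3, 4⟩)) (.node 1 (.one ⟨7704, 1, 5⟩) (.one ⟨3340, 1, 3⟩)))))))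
def par4_0 : Arr Par :=
  (.node 512 (.node 256 (.node 128 (.node 64 par4_0_0 par4_0_1) (.node 64 par4_0_2 par4_0_3)) (.node 128 (.node 64 par4_0_4 par4_0_5) (.node 64 par4_0_6 par4_0_7))) (.node 256 (.node 128 (.node 64 par4_0_8 par4_0_9) (.node 64 par4_0_10 par4_0_11)) (.node 128 (.node 64 par4_0_12 par4_0_13) (.node 64 par4_0_14 par4_0_15))))
def par4_1_0 : Arr Par :=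
  (.node 32 (.node 16 (.node 8 (.node 4 (.node 2 (.node 1 (.one ⟨11820, 3, 4⟩) (.one ⟨15432, 1, 4⟩)) (.node 1 (.one ⟨10596, 1, 5⟩) (.one ⟨5659, 1, 6⟩))) (.node 2 (.node 1 (.one ⟨4159, 3, 5⟩) (.one ⟨8503, 2, 2⟩)) (.node 1 (.one ⟨10521, 3, 5⟩) (.one ⟨12882, 3, 5⟩)))) (.node 4 (.node 2 (.node 1 (.one ⟨15108, 1, 6⟩) (.one ⟨10752, 3, 6⟩)) (.node 1 (.one ⟨10780, 3, 2⟩) (.one ⟨10303, 1, 4⟩))) (.node 2 (.node 1 (.one ⟨9067, 2, 5⟩) (.one ⟨14934, 3, 5⟩)) (.node 1 (.one ⟨7176, 1, 4⟩) (.one ⟨6632, 0, 4⟩))))) (.node 8 (.node 4 (.node 2 (.node 1 (.one ⟨7873, 1, 4⟩) (.one ⟨10441, 0, 5⟩)) (.node 1 (.one ⟨1654, 0, 5⟩) (.one ⟨11421, 0, 4⟩))) (.node 2 (.node 1 (.one ⟨394, 3, 4⟩) (.one ⟨9178, 2, 3⟩)) (.node 1 (.one ⟨4329, 3, 5⟩)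 (.one ⟨6006, 2, 5⟩)))) (.node 4 (.node 2 (.node 1 (.one ⟨16177, 2, 2⟩) (.one ⟨13937, 0, 4⟩)) (.node 1 (.one ⟨3265, 0, 3⟩) (.one ⟨10773, 0, 3⟩))) (.node 2 (.node 1 (.one ⟨14315, 3, 4⟩) (.one ⟨7317, 1, 6⟩)) (.node 1 (.one ⟨7043, 2, 5⟩) (.one ⟨12703, 0, 5⟩)))))) (.node 16 (.node 8 (.node 4 (.node 2 (.node 1 (.one ⟨7136, 2, 7⟩) (.one ⟨15363, 2, 3⟩)) (.node 1 (.one ⟨5174, 3, 3⟩) (.one ⟨13203, 2, 5⟩))) (.node 2 (.node 1 (.one ⟨11696, 1, 3⟩) (.one ⟨10531, 1, 5⟩)) (.node 1 (.one ⟨2208, 0, 4⟩) (.one ⟨8203, 2, 6⟩)))) (.node 4 (.node 2 (.node 1 (.one ⟨4944, 2, 5⟩) (.one ⟨6967, 2, 4⟩)) (.node 1 (.one ⟨292, 0, 4⟩) (.one ⟨2812, 3, 4⟩))) (.node 2 (.node 1 (.one ⟨661, 3, 5⟩) (.one ⟨5867, 3, 5⟩)) (.node 1 (.one ⟨4565, 2, 5⟩)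 (.one ⟨5336, 2, 5⟩))))) (.node 8 (.node 4 (.node 2 (.node 1 (.one ⟨12048, 1, 5⟩) (.one ⟨2562, 3, 4⟩)) (.node 1 (.one ⟨16379, 1, 5⟩) (.one ⟨12707, 2, 4⟩))) (.node 2 (.node 1 (.one ⟨12041, 2, 5⟩) (.one ⟨8366, 1, 6⟩)) (.node 1 (.one ⟨6229, 3, 6⟩) (.one ⟨2084, 3, 3⟩)))) (.node 4 (.node 2 (.node 1 (.one ⟨2890, 0, 5⟩) (.one ⟨15589, 2, 5⟩)) (.node 1 (.one ⟨14016, 3, 5⟩) (.one ⟨16067, 3, 6⟩))) (.node 2 (.node 1 (.one ⟨13185, 0, 5⟩) (.one ⟨6656, 2, 5⟩)) (.node 1 (.one ⟨14603, 0, 4⟩) (.one ⟨1935, 0, 4⟩)))))))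
def par4_1_1 : Arr Par :=
  (.node 32 (.node 16 (.node 8 (.node 4 (.node 2 (.node 1 (.one ⟨6285, 3, 4⟩) (.one ⟨4050, 2, 5⟩)) (.node 1 (.one ⟨2502, 3, 5⟩) (.one ⟨6067, 1, 4⟩))) (.node 2 (.node 1 (.one ⟨2304, 3, 5⟩) (.one ⟨11833, 0, 3⟩)) (.node 1 (.one ⟨8641, 1, 4⟩) (.one ⟨14407, 3, 2⟩)))) (.node 4 (.node 2 (.node 1 (.one ⟨3001, 2, 4⟩) (.one ⟨15714, 1, 4⟩)) (.node 1 (.one ⟨13511, 3, 3⟩) (.one ⟨983, 3, 4⟩))) (.node 2 (.node 1 (.one ⟨12259, 3, 4⟩) (.one ⟨9576, 2, 6⟩)) (.node 1 (.one ⟨8510, 3, 2⟩) (.one ⟨7572, 1, 3⟩))))) (.node 8 (.node 4 (.node 2 (.node 1 (.one ⟨3421, 0, 4⟩) (.one ⟨3186, 1, 4⟩)) (.node 1 (.one ⟨11997, 2, 5⟩) (.one ⟨14352, 3, 5⟩))) (.node 2 (.node 1 (.one ⟨3244, 0, 3⟩) (.one ⟨11257, 1, 6⟩)) (.node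 1 (.one ⟨1965, 3, 5⟩) (.one ⟨4094, 0, 4⟩)))) (.node 4 (.node 2 (.node 1 (.one ⟨16829, 3, 5⟩) (.one ⟨13993, 3, 5⟩)) (.node 1 (.one ⟨3499, 2, 4⟩) (.one ⟨9096, 3, 4⟩))) (.node 2 (.node 1 (.one ⟨154, 3, 5⟩) (.one ⟨5285, 3, 5⟩)) (.node 1 (.one ⟨4947, 2, 5⟩) (.one ⟨7067, 3, 3⟩)))))) (.node 16 (.node 8 (.node 4 (.node 2 (.node 1 (.one ⟨11850, 2, 2⟩) (.one ⟨1904, 2, 4⟩)) (.node 1 (.one ⟨11643, 2, 4⟩) (.one ⟨13101, 2, 2⟩))) (.node 2 (.node 1 (.one ⟨4347, 3, 3⟩) (.one ⟨12714, 2, 5⟩)) (.node 1 (.one ⟨3101, 2, 4⟩) (.one ⟨5639, 2, 2⟩)))) (.node 4 (.node 2 (.node 1 (.one ⟨11164, 3, 4⟩) (.one ⟨13957, 2, 4⟩)) (.node 1 (.one ⟨7929, 2, 5⟩) (.one ⟨16636, 2, 2⟩))) (.node 2 (.node 1 (.one ⟨6788, 2, 2⟩) (.one ⟨8643, 2, 5⟩)) (.node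 1 (.one ⟨14663, 2, 4⟩) (.one ⟨5923, 3, 4⟩))))) (.node 8 (.node 4 (.node 2 (.node 1 (.one ⟨3203, 2, 2⟩) (.one ⟨6335, 3, 5⟩)) (.node 1 (.one ⟨547, 2, 4⟩) (.one ⟨15484, 2, 4⟩))) (.node 2 (.node 1 (.one ⟨6049, 1, 5⟩) (.one ⟨14067, 1, 5⟩)) (.node 1 (.one ⟨7482, 2, 5⟩) (.one ⟨5684, 3, 5⟩)))) (.node 4 (.node 2 (.node 1 (.one ⟨1362, 3, 4⟩) (.one ⟨6424, 3, 4⟩)) (.node 1 (.one ⟨14613, 0, 5⟩) (.one ⟨9029, 2, 5⟩))) (.node 2 (.node 1 (.one ⟨15791, 2, 4⟩) (.one ⟨7861, 2, 4⟩)) (.node 1 (.one ⟨17024, 2, 5⟩) (.one ⟨2429, 3, 3⟩)))))))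
def par4_1_2 : Arr Par :=
  (.node 32 (.node 16 (.node 8 (.node 4 (.node 2 (.node 1 (.one ⟨11932, 2, 4⟩) (.one ⟨11995, 3, 5⟩)) (.node 1 (.one ⟨309, 0, 5⟩) (.one ⟨7608, 2, 4⟩))) (.node 2 (.node 1 (.one ⟨14136, 2, 5⟩) (.one ⟨14230, 3, 6⟩)) (.node 1 (.one ⟨5848, 2, 5⟩) (.one ⟨4803, 3, 5⟩)))) (.node 4 (.node 2 (.node 1 (.one ⟨10051, 3, 6⟩) (.one ⟨7995, 3, 5⟩)) (.node 1 (.one ⟨16062, 1, 6⟩) (.one ⟨6892, 3, 5⟩))) (.node 2 (.node 1 (.one ⟨16219, 2, 5⟩) (.one ⟨4936, 1, 6⟩)) (.node 1 (.one ⟨6969, 1, 6⟩) (.one ⟨14412, 3, 5⟩))))) (.node 8 (.node 4 (.node 2 (.node 1 (.one ⟨4207, 0, 4⟩) (.one ⟨3143, 1, 5⟩)) (.node 1 (.one ⟨10770, 3, 4⟩) (.one ⟨2333, 3, 5⟩))) (.node 2 (.node 1 (.one ⟨15566, 1, 5⟩) (.one ⟨15770, 2, 5⟩)) (.node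 1 (.one ⟨6466, 3, 5⟩) (.one ⟨14058, 3, 5⟩)))) (.node 4 (.node 2 (.node 1 (.one ⟨10361, 3, 4⟩) (.one ⟨7611, 0, 4⟩)) (.node 1 (.one ⟨9389, 3, 5⟩) (.one ⟨11187, 1, 6⟩))) (.node 2 (.node 1 (.one ⟨13697, 3, 3⟩) (.one ⟨16378, 2, 4⟩)) (.node 1 (.one ⟨11202, 1, 3⟩) (.one ⟨15780, 3, 3⟩)))))) (.node 16 (.node 8 (.node 4 (.node 2 (.node 1 (.one ⟨8498, 2, 5⟩) (.one ⟨12910, 3, 4⟩)) (.node 1 (.one ⟨16907, 2, 5⟩) (.one ⟨14569, 2, 5⟩))) (.node 2 (.node 1 (.one ⟨5152, 3, 5⟩) (.one ⟨13178, 1, 5⟩)) (.node 1 (.one ⟨5165, 1, 4⟩) (.one ⟨1644, 1, 0⟩)))) (.node 4 (.node 2 (.node 1 (.one ⟨15293, 0, 5⟩) (.one ⟨9103, 1, 6⟩)) (.node 1 (.one ⟨2968, 2, 6⟩) (.one ⟨1336, 3, 1⟩))) (.node 2 (.node 1 (.one ⟨8208, 3, 6⟩) (.one ⟨15446, 0, 4⟩))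 (.node 1 (.one ⟨15965, 0, 6⟩) (.one ⟨1551, 1, 2⟩))))) (.node 8 (.node 4 (.node 2 (.node 1 (.one ⟨9143, 0, 4⟩) (.one ⟨605, 1, 4⟩)) (.node 1 (.one ⟨74, 1, 4⟩) (.one ⟨2799, 0, 4⟩))) (.node 2 (.node 1 (.one ⟨10120, 0, 4⟩) (.one ⟨5926, 0, 5⟩)) (.node 1 (.one ⟨36, 1, 4⟩) (.one ⟨66, 1, 4⟩)))) (.node 4 (.node 2 (.node 1 (.one ⟨593, 1, 3⟩) (.one ⟨5311, 0, 4⟩)) (.node 1 (.one ⟨11984, 0, 4⟩) (.one ⟨13593, 2, 4⟩))) (.node 2 (.node 1 (.one ⟨13694, 0, 5⟩) (.one ⟨5231, 0, 4⟩)) (.node 1 (.one ⟨12471, 0, 4⟩) (.one ⟨2047, 3, 3⟩)))))))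
def par4_1_3 : Arr Par :=
  (.node 32 (.node 16 (.node 8 (.node 4 (.node 2 (.node 1 (.one ⟨5923, 1, 4⟩) (.one ⟨2837, 3, 5⟩)) (.node 1 (.one ⟨9482, 3, 3⟩) (.one ⟨6996, 2, 5⟩))) (.node 2 (.node 1 (.one ⟨10861, 3, 6⟩) (.one ⟨10949, 0, 4⟩)) (.node 1 (.one ⟨2184, 1, 5⟩) (.one ⟨5813, 1, 4⟩)))) (.node 4 (.node 2 (.node 1 (.one ⟨9132, 2, 6⟩) (.one ⟨550, 3, 5⟩)) (.node 1 (.one ⟨261, 0, 5⟩) (.one ⟨16468, 2, 5⟩))) (.node 2 (.node 1 (.one ⟨8725, 2, 6⟩) (.one ⟨2129, 3, 5⟩)) (.node 1 (.one ⟨10949, 3, 4⟩) (.one ⟨785, 3, 5⟩))))) (.node 8 (.node 4 (.node 2 (.node 1 (.one ⟨12470, 2, 5⟩) (.one ⟨14308, 0, 4⟩)) (.node 1 (.one ⟨10637, 2, 4⟩) (.one ⟨1328, 0, 1⟩))) (.node 2 (.node 1 (.one ⟨16177, 1, 2⟩) (.one ⟨12484, 1, 1⟩)) (.node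 1 (.one ⟨15675, 3, 4⟩) (.one ⟨8040, 0, 5⟩)))) (.node 4 (.node 2 (.node 1 (.one ⟨4546, 3, 4⟩) (.one ⟨13242, 3, 3⟩)) (.node 1 (.one ⟨5822, 3, 4⟩) (.one ⟨14506, 0, 6⟩))) (.node 2 (.node 1 (.one ⟨14681, 3, 3⟩) (.one ⟨7446, 3, 6⟩)) (.node 1 (.one ⟨4410, 1, 3⟩) (.one ⟨1323, 0, 5⟩)))))) (.node 16 (.node 8 (.node 4 (.node 2 (.node 1 (.one ⟨4923, 2, 5⟩) (.one ⟨3195, 1, 5⟩)) (.node 1 (.one ⟨4332, 2, 5⟩) (.one ⟨13433, 2, 3⟩))) (.node 2 (.node 1 (.one ⟨10563, 3, 3⟩) (.one ⟨10476, 3, 6⟩)) (.node 1 (.one ⟨9937, 3, 6⟩) (.one ⟨10109, 3, 5⟩)))) (.node 4 (.node 2 (.node 1 (.one ⟨10316, 3, 4⟩) (.one ⟨10749, 3, 5⟩)) (.node 1 (.one ⟨15200, 0, 3⟩) (.one ⟨15661, 1, 5⟩))) (.node 2 (.node 1 (.one ⟨7590, 1, 5⟩) (.one ⟨11967, 2, 4⟩))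 (.node 1 (.one ⟨1818, 2, 5⟩) (.one ⟨354, 2, 5⟩))))) (.node 8 (.node 4 (.node 2 (.node 1 (.one ⟨6604, 3, 5⟩) (.one ⟨13477, 3, 3⟩)) (.node 1 (.one ⟨1569, 2, 5⟩) (.one ⟨5855, 1, 4⟩))) (.node 2 (.node 1 (.one ⟨16402, 3, 5⟩) (.one ⟨10580, 2, 4⟩)) (.node 1 (.one ⟨2158, 2, 5⟩) (.one ⟨2079, 3, 4⟩)))) (.node 4 (.node 2 (.node 1 (.one ⟨7442, 3, 6⟩) (.one ⟨5359, 3, 4⟩)) (.node 1 (.one ⟨10168, 1, 5⟩) (.one ⟨13240, 3, 3⟩))) (.node 2 (.node 1 (.one ⟨17183, 2, 5⟩) (.one ⟨9343, 3, 6⟩)) (.node 1 (.one ⟨1907, 0, 4⟩) (.one ⟨17034, 0, 4⟩)))))))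
def par4_1_4 : Arr Par :=
  (.node 32 (.node 16 (.node 8 (.node 4 (.node 2 (.node 1 (.one ⟨4101, 3, 4⟩) (.one ⟨13151, 2, 4⟩)) (.node 1 (.one ⟨15010, 3, 2⟩) (.one ⟨3316, 3, 5⟩))) (.node 2 (.node 1 (.one ⟨13766, 0, 5⟩) (.one ⟨16043, 3, 4⟩)) (.node 1 (.one ⟨15001, 3, 5⟩) (.one ⟨9390, 0, 4⟩)))) (.node 4 (.node 2 (.node 1 (.one ⟨15667, 2, 4⟩) (.one ⟨11004, 2, 5⟩)) (.node 1 (.one ⟨7141, 0, 2⟩) (.one ⟨6042, 3, 2⟩))) (.node 2 (.node 1 (.one ⟨13209, 1, 3⟩) (.one ⟨4370, 2, 4⟩)) (.node 1 (.one ⟨4707, 3, 5⟩) (.one ⟨875, 0, 5⟩))))) (.node 8 (.node 4 (.node 2 (.node 1 (.one ⟨864, 0, 3⟩) (.one ⟨4179, 3, 5⟩)) (.node 1 (.one ⟨16467, 2, 5⟩) (.one ⟨5130, 3, 3⟩))) (.node 2 (.node 1 (.one ⟨2317, 2, 4⟩) (.one ⟨9374, 3, 4⟩)) (.node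 1 (.one ⟨6278, 2, 6⟩) (.one ⟨4810, 3, 4⟩)))) (.node 4 (.node 2 (.node 1 (.one ⟨2317, 1, 4⟩) (.one ⟨668, 3, 3⟩)) (.node 1 (.one ⟨1039, 0, 5⟩) (.one ⟨11482, 3, 6⟩))) (.node 2 (.node 1 (.one ⟨10861, 0, 6⟩) (.one ⟨90, 0, 4⟩)) (.node 1 (.one ⟨53, 0, 5⟩) (.one ⟨17051, 0, 4⟩)))))) (.node 16 (.node 8 (.node 4 (.node 2 (.node 1 (.one ⟨3885, 1, 4⟩) (.one ⟨14173, 3, 5⟩)) (.node 1 (.one ⟨4068, 2, 4⟩) (.one ⟨17132, 0, 5⟩))) (.node 2 (.node 1 (.one ⟨11933, 1, 5⟩) (.one ⟨4449, 2, 5⟩)) (.node 1 (.one ⟨15092, 3, 4⟩) (.one ⟨16891, 3, 5⟩)))) (.node 4 (.node 2 (.node 1 (.one ⟨16828, 3, 5⟩) (.one ⟨11392, 3, 5⟩)) (.node 1 (.one ⟨11330, 3, 4⟩) (.one ⟨15894, 1, 4⟩))) (.node 2 (.node 1 (.one ⟨11851, 1, 4⟩) (.one ⟨7820, 3, 5⟩)) (.node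 1 (.one ⟨15860, 1, 6⟩) (.one ⟨2299, 1, 5⟩))))) (.node 8 (.node 4 (.node 2 (.node 1 (.one ⟨516, 1, 0⟩) (.one ⟨15157, 3, 4⟩)) (.node 1 (.one ⟨6306, 2, 3⟩) (.one ⟨3622, 3, 5⟩))) (.node 2 (.node 1 (.one ⟨9510, 0, 5⟩) (.one ⟨16439, 2, 5⟩)) (.node 1 (.one ⟨2343, 1, 5⟩) (.one ⟨6517, 1, 5⟩)))) (.node 4 (.node 2 (.node 1 (.one ⟨1327, 1, 0⟩) (.one ⟨14592, 1, 5⟩)) (.node 1 (.one ⟨6542, 1, 3⟩) (.one ⟨8470, 3, 6⟩))) (.node 2 (.node 1 (.one ⟨15325, 0, 5⟩) (.one ⟨14635, 1, 5⟩)) (.node 1 (.one ⟨15385, 3, 5⟩) (.one ⟨9584, 3, 5⟩)))))))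
def par4_1_5 : Arr Par :=
  (.node 32 (.node 16 (.node 8 (.node 4 (.node 2 (.node 1 (.one ⟨13852, 2, 5⟩) (.one ⟨16370, 0, 4⟩)) (.node 1 (.one ⟨16284, 0, 4⟩) (.one ⟨13244, 3, 3⟩))) (.node 2 (.node 1 (.one ⟨11989, 1, 5⟩) (.one ⟨3894, 1, 6⟩)) (.node 1 (.one ⟨3941, 2, 4⟩) (.one ⟨9036, 0, 5⟩)))) (.node 4 (.node 2 (.node 1 (.one ⟨16371, 3, 5⟩) (.one ⟨12010, 1, 1⟩)) (.node 1 (.one ⟨3941, 1, 4⟩) (.one ⟨526, 3, 5⟩))) (.node 2 (.node 1 (.one ⟨5670, 2, 5⟩) (.one ⟨16821, 3, 6⟩)) (.node 1 (.one ⟨11790, 3, 5⟩) (.one ⟨1199, 1, 3⟩))))) (.node 8 (.node 4 (.node 2 (.node 1 (.one ⟨10921, 0, 4⟩) (.one ⟨15994, 0, 3⟩)) (.node 1 (.one ⟨6282, 0, 3⟩) (.one ⟨1200, 1, 5⟩))) (.node 2 (.node 1 (.one ⟨11702, 3, 3⟩) (.one ⟨606, 1, 4⟩)) (.node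 1 (.one ⟨8658, 0, 3⟩) (.one ⟨1210, 1, 5⟩)))) (.node 4 (.node 2 (.node 1 (.one ⟨1214, 1, 5⟩) (.one ⟨12303, 2, 3⟩)) (.node 1 (.one ⟨582, 1, 4⟩) (.one ⟨1209, 1, 5⟩))) (.node 2 (.node 1 (.one ⟨9991, 0, 4⟩) (.one ⟨16617, 0, 3⟩)) (.node 1 (.one ⟨595, 1, 3⟩) (.one ⟨17043, 1, 4⟩)))))) (.node 16 (.node 8 (.node 4 (.node 2 (.node 1 (.one ⟨17034, 1, 4⟩) (.one ⟨15009, 3, 5⟩)) (.node 1 (.one ⟨12781, 3, 3⟩) (.one ⟨15439, 3, 5⟩))) (.node 2 (.node 1 (.one ⟨3077, 2, 5⟩) (.one ⟨4095, 2, 5⟩)) (.node 1 (.one ⟨8308, 0, 4⟩) (.one ⟨9910, 0, 4⟩)))) (.node 4 (.node 2 (.node 1 (.one ⟨10844, 2, 4⟩) (.one ⟨4696, 2, 2⟩)) (.node 1 (.one ⟨15667, 3, 4⟩) (.one ⟨7960, 3, 3⟩))) (.node 2 (.node 1 (.one ⟨762, 3, 5⟩) (.one ⟨13209, 0, 3⟩)) (.node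 1 (.one ⟨13614, 1, 3⟩) (.one ⟨13565, 1, 2⟩))))) (.node 8 (.node 4 (.node 2 (.node 1 (.one ⟨3663, 3, 4⟩) (.one ⟨15931, 0, 4⟩)) (.node 1 (.one ⟨5520, 1, 5⟩) (.one ⟨13930, 3, 3⟩))) (.node 2 (.node 1 (.one ⟨13606, 1, 3⟩) (.one ⟨16827, 3, 5⟩)) (.node 1 (.one ⟨11149, 2, 3⟩) (.one ⟨3284, 2, 6⟩)))) (.node 4 (.node 2 (.node 1 (.one ⟨8103, 3, 6⟩) (.one ⟨5494, 2, 5⟩)) (.node 1 (.one ⟨17023, 1, 4⟩) (.one ⟨9199, 3, 4⟩))) (.node 2 (.node 1 (.one ⟨11564, 3, 5⟩) (.one ⟨15114, 0, 5⟩)) (.node 1 (.one ⟨6006, 0, 5⟩) (.one ⟨1687, 1, 5⟩)))))))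
def par4_1_6 : Arr Par :=
  (.node 32 (.node 16 (.node 8 (.node 4 (.node 2 (.node 1 (.one ⟨3320, 0, 4⟩) (.one ⟨9739, 2, 4⟩)) (.node 1 (.one ⟨9911, 0, 3⟩) (.one ⟨9739, 1, 4⟩))) (.node 2 (.node 1 (.one ⟨11052, 3, 6⟩) (.one ⟨3105, 0, 5⟩)) (.node 1 (.one ⟨11665, 3, 5⟩) (.one ⟨273, 3, 4⟩)))) (.node 4 (.node 2 (.node 1 (.one ⟨9606, 0, 4⟩) (.one ⟨13461, 3, 5⟩)) (.node 1 (.one ⟨5986, 1, 5⟩) (.one ⟨13473, 3, 5⟩))) (.node 2 (.node 1 (.one ⟨14021, 1, 5⟩) (.one ⟨6003, 1, 6⟩)) (.node 1 (.one ⟨1019, 2, 4⟩) (.one ⟨16575, 1, 5⟩))))) (.node 8 (.node 4 (.node 2 (.node 1 (.one ⟨9453, 3, 5⟩) (.one ⟨4654, 1, 4⟩)) (.node 1 (.one ⟨4539, 1, 5⟩) (.one ⟨7170, 3, 5⟩))) (.node 2 (.node 1 (.one ⟨8577, 1, 5⟩) (.one ⟨12668, 1, 5⟩)) (.node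 1 (.one ⟨12651, 1, 4⟩) (.one ⟨16203, 2, 6⟩)))) (.node 4 (.node 2 (.node 1 (.one ⟨3590, 3, 3⟩) (.one ⟨5760, 3, 4⟩)) (.node 1 (.one ⟨16674, 1, 5⟩) (.one ⟨17025, 3, 4⟩))) (.node 2 (.node 1 (.one ⟨12684, 1, 2⟩) (.one ⟨8993, 2, 4⟩)) (.node 1 (.one ⟨16009, 2, 4⟩) (.one ⟨2096, 0, 5⟩)))))) (.node 16 (.node 8 (.node 4 (.node 2 (.node 1 (.one ⟨5726, 2, 4⟩) (.one ⟨2175, 2, 5⟩)) (.node 1 (.one ⟨186, 3, 5⟩) (.one ⟨5451, 0, 5⟩))) (.node 2 (.node 1 (.one ⟨10975, 3, 5⟩) (.one ⟨10879, 2, 5⟩)) (.node 1 (.one ⟨4695, 3, 2⟩) (.one ⟨13823, 1, 5⟩)))) (.node 4 (.node 2 (.node 1 (.one ⟨16509, 2, 5⟩) (.one ⟨2591, 0, 4⟩)) (.node 1 (.one ⟨9153, 3, 3⟩) (.one ⟨5733, 1, 4⟩))) (.node 2 (.node 1 (.one ⟨7969, 2, 2⟩) (.one ⟨1682, 2, 5⟩)) (.node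 1 (.one ⟨12778, 3, 2⟩) (.one ⟨7439, 3, 5⟩))))) (.node 8 (.node 4 (.node 2 (.node 1 (.one ⟨11668, 3, 4⟩) (.one ⟨13793, 1, 6⟩)) (.node 1 (.one ⟨9245, 3, 5⟩) (.one ⟨5735, 1, 4⟩))) (.node 2 (.node 1 (.one ⟨2947, 2, 5⟩) (.one ⟨5699, 1, 3⟩)) (.node 1 (.one ⟨5381, 3, 3⟩) (.one ⟨2963, 3, 3⟩)))) (.node 4 (.node 2 (.node 1 (.one ⟨13475, 3, 4⟩) (.one ⟨16408, 3, 4⟩)) (.node 1 (.one ⟨10118, 1, 2⟩) (.one ⟨11972, 3, 4⟩))) (.node 2 (.node 1 (.one ⟨11115, 0, 6⟩) (.one ⟨6592, 3, 5⟩)) (.node 1 (.one ⟨7976, 2, 6⟩) (.one ⟨16281, 1, 4⟩)))))))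
def par4_1_7 : Arr Par :=
  (.node 32 (.node 16 (.node 8 (.node 4 (.node 2 (.node 1 (.one ⟨3985, 0, 5⟩) (.one ⟨12554, 1, 4⟩)) (.node 1 (.one ⟨14676, 3, 5⟩) (.one ⟨13303, 2, 5⟩))) (.node 2 (.node 1 (.one ⟨4776, 2, 5⟩) (.one ⟨15585, 2, 3⟩)) (.node 1 (.one ⟨11010, 3, 5⟩) (.one ⟨2873, 0, 3⟩)))) (.node 4 (.node 2 (.node 1 (.one ⟨7564, 3, 6⟩) (.one ⟨8234, 1, 5⟩)) (.node 1 (.one ⟨3126, 3, 4⟩) (.one ⟨6048, 3, 6⟩))) (.node 2 (.node 1 (.one ⟨3151, 3, 5⟩) (.one ⟨16253, 1, 3⟩)) (.node 1 (.one ⟨7594, 3, 5⟩) (.one ⟨14923, 2, 4⟩))))) (.node 8 (.node 4 (.node 2 (.node 1 (.one ⟨11212, 1, 4⟩) (.one ⟨5212, 3, 3⟩)) (.node 1 (.one ⟨410, 2, 2⟩) (.one ⟨7724, 2, 4⟩))) (.node 2 (.node 1 (.one ⟨8825, 2, 5⟩) (.one ⟨4299, 3, 3⟩)) (.node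 1 (.one ⟨17108, 3, 3⟩) (.one ⟨12457, 2, 5⟩)))) (.node 4 (.node 2 (.node 1 (.one ⟨13019, 2, 5⟩) (.one ⟨11091, 3, 3⟩)) (.node 1 (.one ⟨5646, 2, 2⟩) (.one ⟨15591, 1, 4⟩))) (.node 2 (.node 1 (.one ⟨1645, 2, 4⟩) (.one ⟨7509, 1, 4⟩)) (.node 1 (.one ⟨16633, 2, 2⟩) (.one ⟨280, 0, 3⟩)))))) (.node 16 (.node 8 (.node 4 (.node 2 (.node 1 (.one ⟨14806, 3, 5⟩) (.one ⟨6508, 3, 5⟩)) (.node 1 (.one ⟨12616, 3, 4⟩) (.one ⟨11690, 0, 3⟩))) (.node 2 (.node 1 (.one ⟨2525, 2, 5⟩) (.one ⟨10029, 1, 4⟩)) (.node 1 (.one ⟨4731, 0, 4⟩) (.one ⟨13621, 0, 2⟩)))) (.node 4 (.node 2 (.node 1 (.one ⟨8475, 1, 4⟩) (.one ⟨13499, 3, 4⟩)) (.node 1 (.one ⟨11834, 2, 6⟩) (.one ⟨11638, 1, 4⟩))) (.node 2 (.node 1 (.one ⟨10909, 1, 5⟩) (.one ⟨932, 2, 4⟩))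 (.node 1 (.one ⟨823, 2, 5⟩) (.one ⟨13400, 3, 4⟩))))) (.node 8 (.node 4 (.node 2 (.node 1 (.one ⟨13569, 2, 5⟩) (.one ⟨8697, 2, 5⟩)) (.node 1 (.one ⟨13068, 0, 4⟩) (.one ⟨3087, 3, 4⟩))) (.node 2 (.node 1 (.one ⟨13097, 2, 2⟩) (.one ⟨9105, 2, 5⟩)) (.node 1 (.one ⟨13863, 2, 4⟩) (.one ⟨7097, 2, 2⟩)))) (.node 4 (.node 2 (.node 1 (.one ⟨16131, 2, 2⟩) (.one ⟨2661, 2, 4⟩)) (.node 1 (.one ⟨12819, 2, 4⟩) (.one ⟨6783, 2, 2⟩))) (.node 2 (.node 1 (.one ⟨15119, 3, 4⟩) (.one ⟨1869, 2, 4⟩)) (.node 1 (.one ⟨13259, 2, 5⟩) (.one ⟨1038, 3, 5⟩)))))))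
def par4_1_8 : Arr Par :=
  (.node 32 (.node 16 (.node 8 (.node 4 (.node 2 (.node 1 (.one ⟨16406, 2, 5⟩) (.one ⟨9133, 2, 5⟩)) (.node 1 (.one ⟨5545, 3, 6⟩) (.one ⟨6335, 1, 5⟩))) (.node 2 (.node 1 (.one ⟨16169, 2, 4⟩) (.one ⟨1123, 3, 3⟩)) (.node 1 (.one ⟨5086, 3, 4⟩) (.one ⟨12896, 3, 4⟩)))) (.node 4 (.node 2 (.node 1 (.one ⟨2050, 0, 3⟩) (.one ⟨2051, 3, 4⟩)) (.node 1 (.one ⟨5431, 3, 4⟩) (.one ⟨2047, 0, 3⟩))) (.node 2 (.node 1 (.one ⟨2051, 0, 4⟩) (.one ⟨58, 0, 2⟩)) (.node 1 (.one ⟨5127, 3, 5⟩) (.one ⟨4049, 0, 1⟩))))) (.node 8 (.node 4 (.node 2 (.node 1 (.one ⟨1360, 1, 5⟩) (.one ⟨5003, 0, 3⟩)) (.node 1 (.one ⟨10873, 2, 4⟩) (.one ⟨9560, 0, 4⟩))) (.node 2 (.node 1 (.one ⟨1364, 1, 4⟩) (.one ⟨2825, 2, 3⟩)) (.node 1 (.one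 ⟨11884, 0, 5⟩) (.one ⟨3341, 0, 5⟩)))) (.node 4 (.node 2 (.node 1 (.one ⟨3508, 0, 3⟩) (.one ⟨1372, 1, 5⟩)) (.node 1 (.one ⟨11095, 0, 4⟩) (.one ⟨12771, 0, 5⟩))) (.node 2 (.node 1 (.one ⟨10395, 0, 5⟩) (.one ⟨1920, 0, 4⟩)) (.node 1 (.one ⟨5408, 0, 4⟩) (.one ⟨586, 3, 5⟩)))))) (.node 16 (.node 8 (.node 4 (.node 2 (.node 1 (.one ⟨2228, 2, 4⟩) (.one ⟨12983, 3, 4⟩)) (.node 1 (.one ⟨13925, 2, 4⟩) (.one ⟨9837, 0, 6⟩))) (.node 2 (.node 1 (.one ⟨7917, 2, 4⟩) (.one ⟨1477, 3, 4⟩)) (.node 1 (.one ⟨14787, 0, 4⟩) (.one ⟨5758, 3, 4⟩)))) (.node 4 (.node 2 (.node 1 (.one ⟨8749, 1, 5⟩) (.one ⟨10964, 3, 4⟩)) (.node 1 (.one ⟨7675, 1, 5⟩) (.one ⟨4884, 1, 4⟩))) (.node 2 (.node 1 (.one ⟨8187, 0, 5⟩) (.one ⟨7069, 2, 3⟩)) (.node 1 (.one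 ⟨12204, 3, 5⟩) (.one ⟨16368, 0, 4⟩))))) (.node 8 (.node 4 (.node 2 (.node 1 (.one ⟨15716, 3, 4⟩) (.one ⟨14915, 2, 4⟩)) (.node 1 (.one ⟨6310, 2, 3⟩) (.one ⟨3880, 0, 4⟩))) (.node 2 (.node 1 (.one ⟨1939, 2, 2⟩) (.one ⟨7444, 2, 5⟩)) (.node 1 (.one ⟨5882, 3, 4⟩) (.one ⟨11689, 0, 4⟩)))) (.node 4 (.node 2 (.node 1 (.one ⟨4530, 2, 5⟩) (.one ⟨12722, 3, 5⟩)) (.node 1 (.one ⟨7857, 3, 3⟩) (.one ⟨16097, 3, 5⟩))) (.node 2 (.node 1 (.one ⟨11972, 1, 4⟩) (.one ⟨1094, 3, 5⟩)) (.node 1 (.one ⟨4414, 1, 3⟩) (.one ⟨4325, 2, 4⟩)))))))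
def par4_1_9 : Arr Par :=
  (.node 32 (.node 16 (.node 8 (.node 4 (.node 2 (.node 1 (.one ⟨765, 3, 5⟩) (.one ⟨10483, 0, 3⟩)) (.node 1 (.one ⟨13787, 1, 4⟩) (.one ⟨6487, 3, 5⟩))) (.node 2 (.node 1 (.one ⟨5043, 2, 4⟩) (.one ⟨14230, 1, 6⟩)) (.node 1 (.one ⟨15658, 0, 4⟩) (.one ⟨11759, 0, 4⟩)))) (.node 4 (.node 2 (.node 1 (.one ⟨17006, 1, 2⟩) (.one ⟨3853, 2, 5⟩)) (.node 1 (.one ⟨6131, 3, 5⟩) (.one ⟨13824, 0, 3⟩))) (.node 2 (.node 1 (.one ⟨11737, 0, 5⟩) (.one ⟨13438, 1, 4⟩)) (.node 1 (.one ⟨4454, 2, 4⟩) (.one ⟨11526, 3, 3⟩))))) (.node 8 (.node 4 (.node 2 (.node 1 (.one ⟨9975, 3, 4⟩) (.one ⟨2280, 1, 4⟩)) (.node 1 (.one ⟨16129, 3, 4⟩) (.one ⟨2392, 0, 4⟩))) (.node 2 (.node 1 (.one ⟨12166, 1, 5⟩) (.one ⟨3621, 1, 5⟩)) (.node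 1 (.one ⟨173, 2, 5⟩) (.one ⟨8625, 3, 4⟩)))) (.node 4 (.node 2 (.node 1 (.one ⟨14750, 2, 4⟩) (.one ⟨2808, 2, 5⟩)) (.node 1 (.one ⟨7725, 0, 5⟩) (.one ⟨5921, 2, 5⟩))) (.node 2 (.node 1 (.one ⟨11719, 0, 5⟩) (.one ⟨12485, 3, 4⟩)) (.node 1 (.one ⟨16883, 0, 4⟩) (.one ⟨587, 3, 5⟩)))))) (.node 16 (.node 8 (.node 4 (.node 2 (.node 1 (.one ⟨1983, 1, 2⟩) (.one ⟨15425, 1, 6⟩)) (.node 1 (.one ⟨2827, 2, 5⟩) (.one ⟨1299, 3, 4⟩))) (.node 2 (.node 1 (.one ⟨1546, 3, 5⟩) (.one ⟨153, 2, 5⟩)) (.node 1 (.one ⟨13302, 3, 5⟩) (.one ⟨13951, 2, 4⟩)))) (.node 4 (.node 2 (.node 1 (.one ⟨705, 1, 5⟩) (.one ⟨7711, 1, 5⟩)) (.node 1 (.one ⟨10606, 3, 4⟩) (.one ⟨13791, 1, 5⟩))) (.node 2 (.node 1 (.one ⟨1273, 1, 5⟩) (.one ⟨1490, 0, 3⟩)) (.node 1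 (.one ⟨16998, 3, 5⟩) (.one ⟨2032, 1, 2⟩))))) (.node 8 (.node 4 (.node 2 (.node 1 (.one ⟨2826, 2, 5⟩) (.one ⟨7981, 2, 4⟩)) (.node 1 (.one ⟨16687, 2, 4⟩) (.one ⟨6493, 1, 2⟩))) (.node 2 (.node 1 (.one ⟨15863, 2, 5⟩) (.one ⟨4636, 3, 5⟩)) (.node 1 (.one ⟨2191, 2, 4⟩) (.one ⟨2, 3, 5⟩)))) (.node 4 (.node 2 (.node 1 (.one ⟨967, 2, 5⟩) (.one ⟨13831, 1, 5⟩)) (.node 1 (.one ⟨13939, 2, 4⟩) (.one ⟨3181, 0, 4⟩))) (.node 2 (.node 1 (.one ⟨14917, 1, 5⟩) (.one ⟨9512, 3, 5⟩)) (.node 1 (.one ⟨1145, 3, 5⟩) (.one ⟨5203, 3, 3⟩)))))))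
def par4_1_10 : Arr Par :=
  (.node 32 (.node 16 (.node 8 (.node 4 (.node 2 (.node 1 (.one ⟨1260, 2, 6⟩) (.one ⟨14641, 3, 4⟩)) (.node 1 (.one ⟨16693, 2, 5⟩) (.one ⟨3150, 1, 5⟩))) (.node 2 (.node 1 (.one ⟨16371, 0, 5⟩) (.one ⟨3920, 3, 3⟩)) (.node 1 (.one ⟨619, 3, 4⟩) (.one ⟨7289, 0, 2⟩)))) (.node 4 (.node 2 (.node 1 (.one ⟨755, 2, 5⟩) (.one ⟨8308, 2, 4⟩)) (.node 1 (.one ⟨1275, 1, 4⟩) (.one ⟨11774, 1, 4⟩))) (.node 2 (.node 1 (.one ⟨324, 1, 6⟩) (.one ⟨1479, 3, 4⟩)) (.node 1 (.one ⟨8070, 1, 6⟩) (.one ⟨16212, 2, 4⟩))))) (.node 8 (.node 4 (.node 2 (.node 1 (.one ⟨13303, 3, 5⟩) (.one ⟨13983, 3, 5⟩)) (.node 1 (.one ⟨9229, 2, 4⟩) (.one ⟨15250, 0, 4⟩))) (.node 2 (.node 1 (.one ⟨9974, 0, 4⟩) (.one ⟨4264, 0, 4⟩)) (.node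 1 (.one ⟨8446, 0, 5⟩) (.one ⟨10353, 3, 4⟩)))) (.node 4 (.node 2 (.node 1 (.one ⟨14592, 2, 5⟩) (.one ⟨6452, 3, 4⟩)) (.node 1 (.one ⟨292, 3, 4⟩) (.one ⟨4539, 2, 5⟩))) (.node 2 (.node 1 (.one ⟨16271, 2, 2⟩) (.one ⟨2476, 2, 5⟩)) (.node 1 (.one ⟨10772, 3, 5⟩) (.one ⟨4012, 2, 4⟩)))))) (.node 16 (.node 8 (.node 4 (.node 2 (.node 1 (.one ⟨9846, 1, 5⟩) (.one ⟨9144, 1, 4⟩)) (.node 1 (.one ⟨13748, 1, 3⟩) (.one ⟨11284, 2, 5⟩))) (.node 2 (.node 1 (.one ⟨9678, 2, 4⟩) (.one ⟨1784, 1, 3⟩)) (.node 1 (.one ⟨16132, 0, 2⟩) (.one ⟨11677, 3, 6⟩)))) (.node 4 (.node 2 (.node 1 (.one ⟨14822, 2, 3⟩) (.one ⟨5412, 1, 5⟩)) (.node 1 (.one ⟨12313, 0, 5⟩) (.one ⟨2567, 2, 4⟩))) (.node 2 (.node 1 (.one ⟨15160, 0, 5⟩) (.one ⟨14283, 3, 5⟩)) (.node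 1 (.one ⟨14688, 0, 5⟩) (.one ⟨9493, 3, 4⟩))))) (.node 8 (.node 4 (.node 2 (.node 1 (.one ⟨1385, 2, 3⟩) (.one ⟨5542, 3, 5⟩)) (.node 1 (.one ⟨9140, 2, 4⟩) (.one ⟨17128, 2, 4⟩))) (.node 2 (.node 1 (.one ⟨505, 3, 4⟩) (.one ⟨9027, 2, 2⟩)) (.node 1 (.one ⟨17108, 2, 3⟩) (.one ⟨1155, 1, 5⟩)))) (.node 4 (.node 2 (.node 1 (.one ⟨16648, 3, 5⟩) (.one ⟨11080, 3, 4⟩)) (.node 1 (.one ⟨14773, 1, 4⟩) (.one ⟨9161, 3, 3⟩))) (.node 2 (.node 1 (.one ⟨16661, 3, 4⟩) (.one ⟨1014, 2, 5⟩)) (.node 1 (.one ⟨15879, 3, 5⟩) (.one ⟨5951, 1, 3⟩)))))))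
def par4_1_11 : Arr Par :=
  (.node 32 (.node 16 (.node 8 (.node 4 (.node 2 (.node 1 (.one ⟨14427, 2, 2⟩) (.one ⟨4513, 1, 1⟩)) (.node 1 (.one ⟨7465, 1, 1⟩) (.one ⟨15390, 1, 6⟩))) (.node 2 (.node 1 (.one ⟨3992, 3, 6⟩) (.one ⟨4962, 2, 5⟩)) (.node 1 (.one ⟨2541, 3, 3⟩) (.one ⟨2733, 3, 5⟩)))) (.node 4 (.node 2 (.node 1 (.one ⟨5583, 3, 2⟩) (.one ⟨5584, 3, 4⟩)) (.node 1 (.one ⟨13752, 0, 2⟩) (.one ⟨2731, 3, 3⟩))) (.node 2 (.node 1 (.one ⟨5585, 3, 2⟩) (.one ⟨5586, 3, 2⟩)) (.node 1 (.one ⟨2732, 3, 4⟩) (.one ⟨6204, 3, 4⟩))))) (.node 8 (.node 4 (.node 2 (.node 1 (.one ⟨5619, 0, 4⟩) (.one ⟨14852, 2, 5⟩)) (.node 1 (.one ⟨5258, 0, 5⟩) (.one ⟨5904, 1, 5⟩))) (.node 2 (.node 1 (.one ⟨4847, 3, 5⟩) (.one ⟨2077, 2, 4⟩)) (.node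 1 (.one ⟨14806, 2, 5⟩) (.one ⟨3188, 3, 5⟩)))) (.node 4 (.node 2 (.node 1 (.one ⟨873, 3, 5⟩) (.one ⟨16453, 1, 3⟩)) (.node 1 (.one ⟨6575, 1, 4⟩) (.one ⟨5618, 3, 6⟩))) (.node 2 (.node 1 (.one ⟨7097, 3, 2⟩) (.one ⟨12395, 1, 5⟩)) (.node 1 (.one ⟨2359, 3, 4⟩) (.one ⟨16632, 1, 4⟩)))))) (.node 16 (.node 8 (.node 4 (.node 2 (.node 1 (.one ⟨14466, 3, 5⟩) (.one ⟨4443, 3, 4⟩)) (.node 1 (.one ⟨10168, 0, 5⟩) (.one ⟨16038, 3, 3⟩))) (.node 2 (.node 1 (.one ⟨4380, 0, 6⟩) (.one ⟨2108, 3, 5⟩)) (.node 1 (.one ⟨13048, 1, 5⟩) (.one ⟨5535, 3, 5⟩)))) (.node 4 (.node 2 (.node 1 (.one ⟨8931, 3, 4⟩) (.one ⟨9231, 2, 6⟩)) (.node 1 (.one ⟨12762, 3, 5⟩) (.one ⟨10734, 3, 5⟩))) (.node 2 (.node 1 (.one ⟨1677, 2, 5⟩) (.one ⟨5947, 3, 5⟩)) (.node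 1 (.one ⟨7327, 2, 6⟩) (.one ⟨8633, 1, 6⟩))))) (.node 8 (.node 4 (.node 2 (.node 1 (.one ⟨4196, 1, 0⟩) (.one ⟨4273, 1, 4⟩)) (.node 1 (.one ⟨2940, 3, 4⟩) (.one ⟨4264, 1, 4⟩))) (.node 2 (.node 1 (.one ⟨5351, 0, 5⟩) (.one ⟨3347, 3, 5⟩)) (.node 1 (.one ⟨2726, 3, 5⟩) (.one ⟨9929, 1, 4⟩)))) (.node 4 (.node 2 (.node 1 (.one ⟨14092, 2, 2⟩) (.one ⟨11196, 2, 5⟩)) (.node 1 (.one ⟨11538, 3, 5⟩) (.one ⟨16095, 3, 5⟩))) (.node 2 (.node 1 (.one ⟨13451, 2, 6⟩) (.one ⟨10740, 1, 4⟩)) (.node 1 (.one ⟨2587, 1, 4⟩) (.one ⟨4040, 1, 6⟩)))))))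
def par4_1_12 : Arr Par :=
  (.node 32 (.node 16 (.node 8 (.node 4 (.node 2 (.node 1 (.one ⟨8897, 0, 5⟩) (.one ⟨16438, 0, 4⟩)) (.node 1 (.one ⟨11376, 2, 5⟩) (.one ⟨778, 3, 4⟩))) (.node 2 (.node 1 (.one ⟨8995, 3, 6⟩) (.one ⟨8942, 3, 4⟩)) (.node 1 (.one ⟨13855, 2, 7⟩) (.one ⟨3816, 1, 0⟩)))) (.node 4 (.node 2 (.node 1 (.one ⟨14302, 2, 4⟩) (.one ⟨4910, 1, 3⟩)) (.node 1 (.one ⟨8285, 1, 3⟩) (.one ⟨16074, 1, 4⟩))) (.node 2 (.node 1 (.one ⟨3080, 0, 2⟩) (.one ⟨6481, 3, 6⟩)) (.node 1 (.one ⟨10573, 1, 4⟩) (.one ⟨11529, 3, 5⟩))))) (.node 8 (.node 4 (.node 2 (.node 1 (.one ⟨6417, 2, 5⟩) (.one ⟨14960, 1, 6⟩)) (.node 1 (.one ⟨9288, 3, 4⟩) (.one ⟨6419, 2, 3⟩))) (.node 2 (.node 1 (.one ⟨11016, 3, 4⟩) (.one ⟨15666, 1, 4⟩)) (.node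 1 (.one ⟨2353, 3, 5⟩) (.one ⟨1568, 0, 5⟩)))) (.node 4 (.node 2 (.node 1 (.one ⟨1354, 2, 5⟩) (.one ⟨6672, 3, 5⟩)) (.node 1 (.one ⟨12301, 1, 4⟩) (.one ⟨15561, 3, 5⟩))) (.node 2 (.node 1 (.one ⟨13421, 3, 5⟩) (.one ⟨3632, 3, 4⟩)) (.node 1 (.one ⟨5935, 3, 2⟩) (.one ⟨4134, 3, 3⟩)))))) (.node 16 (.node 8 (.node 4 (.node 2 (.node 1 (.one ⟨3854, 3, 6⟩) (.one ⟨2525, 3, 5⟩)) (.node 1 (.one ⟨796, 3, 4⟩) (.one ⟨1584, 1, 5⟩))) (.node 2 (.node 1 (.one ⟨2429, 2, 3⟩) (.one ⟨2690, 3, 3⟩)) (.node 1 (.one ⟨1715, 3, 5⟩) (.one ⟨10268, 2, 3⟩)))) (.node 4 (.node 2 (.node 1 (.one ⟨1783, 2, 5⟩) (.one ⟨8389, 1, 4⟩)) (.node 1 (.one ⟨8814, 0, 4⟩) (.one ⟨244, 1, 5⟩))) (.node 2 (.node 1 (.one ⟨4890, 3, 6⟩) (.one ⟨12266, 3, 5⟩)) (.node 1 (.one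 ⟨6174, 2, 4⟩) (.one ⟨7695, 3, 5⟩))))) (.node 8 (.node 4 (.node 2 (.node 1 (.one ⟨13400, 0, 4⟩) (.one ⟨1960, 0, 5⟩)) (.node 1 (.one ⟨16408, 1, 4⟩) (.one ⟨5696, 1, 1⟩))) (.node 2 (.node 1 (.one ⟨16184, 0, 5⟩) (.one ⟨15779, 3, 5⟩)) (.node 1 (.one ⟨16364, 0, 5⟩) (.one ⟨13789, 3, 4⟩)))) (.node 4 (.node 2 (.node 1 (.one ⟨3774, 2, 3⟩) (.one ⟨14901, 1, 4⟩)) (.node 1 (.one ⟨6550, 3, 3⟩) (.one ⟨7463, 3, 5⟩))) (.node 2 (.node 1 (.one ⟨4181, 1, 4⟩) (.one ⟨12879, 1, 4⟩)) (.node 1 (.one ⟨15356, 2, 7⟩) (.one ⟨15887, 3, 5⟩)))))))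
def par4_1_13 : Arr Par :=
  (.node 32 (.node 16 (.node 8 (.node 4 (.node 2 (.node 1 (.one ⟨1955, 2, 4⟩) (.one ⟨4736, 1, 5⟩)) (.node 1 (.one ⟨5922, 2, 2⟩) (.one ⟨16570, 0, 5⟩))) (.node 2 (.node 1 (.one ⟨12848, 2, 5⟩) (.one ⟨105, 3, 5⟩)) (.node 1 (.one ⟨3975, 3, 3⟩) (.one ⟨9218, 3, 5⟩)))) (.node 4 (.node 2 (.node 1 (.one ⟨16424, 1, 4⟩) (.one ⟨7115, 1, 5⟩)) (.node 1 (.one ⟨527, 1, 6⟩) (.one ⟨2398, 2, 5⟩))) (.node 2 (.node 1 (.one ⟨7215, 1, 5⟩) (.one ⟨1531, 0, 3⟩)) (.node 1 (.one ⟨7577, 3, 5⟩) (.one ⟨13174, 3, 6⟩))))) (.node 8 (.node 4 (.node 2 (.node 1 (.one ⟨5787, 1, 2⟩) (.one ⟨13581, 3, 6⟩)) (.node 1 (.one ⟨494, 2, 4⟩) (.one ⟨14854, 2, 4⟩))) (.node 2 (.node 1 (.one ⟨9854, 2, 4⟩) (.one ⟨14277, 1, 3⟩)) (.node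 1 (.one ⟨11783, 2, 5⟩) (.one ⟨16646, 3, 5⟩)))) (.node 4 (.node 2 (.node 1 (.one ⟨16643, 3, 5⟩) (.one ⟨13340, 3, 6⟩)) (.node 1 (.one ⟨16253, 2, 3⟩) (.one ⟨2520, 2, 4⟩))) (.node 2 (.node 1 (.one ⟨13335, 3, 6⟩) (.one ⟨3366, 1, 4⟩)) (.node 1 (.one ⟨3421, 2, 4⟩) (.one ⟨11709, 2, 5⟩)))))) (.node 16 (.node 8 (.node 4 (.node 2 (.node 1 (.one ⟨11756, 3, 5⟩) (.one ⟨644, 3, 5⟩)) (.node 1 (.one ⟨759, 1, 5⟩) (.one ⟨11269, 2, 4⟩))) (.node 2 (.node 1 (.one ⟨13040, 1, 4⟩) (.one ⟨1034, 1, 3⟩)) (.node 1 (.one ⟨10944, 2, 5⟩) (.one ⟨5942, 0, 4⟩)))) (.node 4 (.node 2 (.node 1 (.one ⟨3547, 2, 5⟩) (.one ⟨4214, 1, 3⟩)) (.node 1 (.one ⟨5163, 1, 5⟩) (.one ⟨9927, 2, 3⟩))) (.node 2 (.node 1 (.one ⟨2442, 2, 3⟩) (.one ⟨7507, 2, 5⟩)) (.node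 1 (.one ⟨14355, 1, 6⟩) (.one ⟨9290, 2, 5⟩))))) (.node 8 (.node 4 (.node 2 (.node 1 (.one ⟨1132, 0, 3⟩) (.one ⟨5945, 1, 5⟩)) (.node 1 (.one ⟨2096, 3, 5⟩) (.one ⟨11091, 2, 3⟩))) (.node 2 (.node 1 (.one ⟨11164, 2, 4⟩) (.one ⟨3087, 2, 4⟩)) (.node 1 (.one ⟨3031, 2, 4⟩) (.one ⟨1707, 3, 5⟩)))) (.node 4 (.node 2 (.node 1 (.one ⟨14452, 1, 5⟩) (.one ⟨1651, 2, 3⟩)) (.node 1 (.one ⟨7200, 0, 3⟩) (.one ⟨10209, 3, 6⟩))) (.node 2 (.node 1 (.one ⟨1990, 2, 4⟩) (.one ⟨12933, 3, 4⟩)) (.node 1 (.one ⟨15132, 0, 6⟩) (.one ⟨7800, 3, 4⟩)))))))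
def par4_1_14 : Arr Par :=
  (.node 32 (.node 16 (.node 8 (.node 4 (.node 2 (.node 1 (.one ⟨16038, 1, 3⟩) (.one ⟨5134, 3, 3⟩)) (.node 1 (.one ⟨7681, 2, 2⟩) (.one ⟨5900, 3, 4⟩))) (.node 2 (.node 1 (.one ⟨5260, 3, 4⟩) (.one ⟨3141, 3, 5⟩)) (.node 1 (.one ⟨7618, 3, 5⟩) (.one ⟨9765, 2, 5⟩)))) (.node 4 (.node 2 (.node 1 (.one ⟨4659, 0, 2⟩) (.one ⟨5039, 2, 6⟩)) (.node 1 (.one ⟨10176, 1, 5⟩) (.one ⟨14077, 1, 5⟩))) (.node 2 (.node 1 (.one ⟨8947, 3, 5⟩) (.one ⟨3422, 3, 3⟩)) (.node 1 (.one ⟨451, 1, 5⟩) (.one ⟨10715, 0, 3⟩))))) (.node 8 (.node 4 (.node 2 (.node 1 (.one ⟨6544, 0, 3⟩) (.one ⟨16733, 2, 4⟩)) (.node 1 (.one ⟨4904, 0, 6⟩) (.one ⟨4232, 1, 1⟩))) (.node 2 (.node 1 (.one ⟨7161, 1, 3⟩) (.one ⟨5256, 0, 5⟩)) (.node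 1 (.one ⟨12780, 2, 3⟩) (.one ⟨16956, 1, 4⟩)))) (.node 4 (.node 2 (.node 1 (.one ⟨1505, 2, 6⟩) (.one ⟨1434, 3, 6⟩)) (.node 1 (.one ⟨5762, 1, 4⟩) (.one ⟨13426, 3, 6⟩))) (.node 2 (.node 1 (.one ⟨9599, 3, 7⟩) (.one ⟨8696, 0, 5⟩)) (.node 1 (.one ⟨12281, 2, 4⟩) (.one ⟨9840, 3, 5⟩)))))) (.node 16 (.node 8 (.node 4 (.node 2 (.node 1 (.one ⟨1257, 0, 6⟩) (.one ⟨7145, 3, 3⟩)) (.node 1 (.one ⟨89, 3, 1⟩) (.one ⟨13748, 3, 3⟩))) (.node 2 (.node 1 (.one ⟨7027, 0, 4⟩) (.one ⟨3208, 3, 3⟩)) (.node 1 (.one ⟨13213, 2, 4⟩) (.one ⟨5032, 2, 3⟩)))) (.node 4 (.node 2 (.node 1 (.one ⟨8702, 0, 4⟩) (.one ⟨7251, 0, 6⟩)) (.node 1 (.one ⟨13951, 3, 4⟩) (.one ⟨16654, 1, 4⟩))) (.node 2 (.node 1 (.one ⟨3472, 3, 5⟩) (.one ⟨6978, 2, 4⟩)) (.node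 1 (.one ⟨16015, 2, 5⟩) (.one ⟨10022, 2, 5⟩))))) (.node 8 (.node 4 (.node 2 (.node 1 (.one ⟨3933, 3, 4⟩) (.one ⟨16682, 2, 5⟩)) (.node 1 (.one ⟨3352, 3, 4⟩) (.one ⟨2384, 2, 4⟩))) (.node 2 (.node 1 (.one ⟨2393, 3, 7⟩) (.one ⟨8973, 2, 3⟩)) (.node 1 (.one ⟨13151, 1, 4⟩) (.one ⟨2138, 2, 4⟩)))) (.node 4 (.node 2 (.node 1 (.one ⟨16406, 3, 5⟩) (.one ⟨11721, 0, 5⟩)) (.node 1 (.one ⟨9340, 2, 5⟩) (.one ⟨7632, 0, 5⟩))) (.node 2 (.node 1 (.one ⟨7625, 0, 5⟩) (.one ⟨10145, 2, 4⟩)) (.node 1 (.one ⟨16139, 2, 5⟩) (.one ⟨7874, 0, 1⟩)))))))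
def par4_1_15 : Arr Par :=
  (.node 32 (.node 16 (.node 8 (.node 4 (.node 2 (.node 1 (.one ⟨3578, 2, 3⟩) (.one ⟨5360, 3, 4⟩)) (.node 1 (.one ⟨6508, 1, 5⟩) (.one ⟨2799, 3, 4⟩))) (.node 2 (.node 1 (.one ⟨5203, 1, 3⟩) (.one ⟨2173, 3, 6⟩)) (.node 1 (.one ⟨13697, 2, 3⟩) (.one ⟨4545, 3, 4⟩)))) (.node 4 (.node 2 (.node 1 (.one ⟨1248, 0, 6⟩) (.one ⟨14072, 2, 5⟩)) (.node 1 (.one ⟨11847, 3, 2⟩) (.one ⟨4797, 3, 4⟩))) (.node 2 (.node 1 (.one ⟨8643, 3, 5⟩) (.one ⟨14429, 0, 4⟩)) (.node 1 (.one ⟨2155, 1, 5⟩) (.one ⟨1812, 1, 5⟩))))) (.node 8 (.node 4 (.node 2 (.node 1 (.one ⟨16724, 3, 6⟩) (.one ⟨2561, 3, 4⟩)) (.node 1 (.one ⟨16527, 0, 5⟩) (.one ⟨1259, 3, 6⟩))) (.node 2 (.node 1 (.one ⟨7782, 1, 5⟩) (.one ⟨11583, 3, 3⟩)) (.node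 1 (.one ⟨17029, 3, 4⟩) (.one ⟨435, 0, 4⟩)))) (.node 4 (.node 2 (.node 1 (.one ⟨1001, 0, 4⟩) (.one ⟨16439, 1, 5⟩)) (.node 1 (.one ⟨267, 0, 4⟩) (.one ⟨10751, 2, 5⟩))) (.node 2 (.node 1 (.one ⟨10839, 3, 6⟩) (.one ⟨3267, 0, 4⟩)) (.node 1 (.one ⟨10746, 2, 4⟩) (.one ⟨6997, 3, 6⟩)))))) (.node 16 (.node 8 (.node 4 (.node 2 (.node 1 (.one ⟨7318, 3, 4⟩) (.one ⟨12992, 3, 5⟩)) (.node 1 (.one ⟨16471, 1, 6⟩) (.one ⟨16266, 2, 3⟩))) (.node 2 (.node 1 (.one ⟨15934, 1, 4⟩) (.one ⟨15893, 3, 4⟩)) (.node 1 (.one ⟨16399, 3, 5⟩) (.one ⟨17099, 0, 2⟩)))) (.node 4 (.node 2 (.node 1 (.one ⟨11931, 2, 3⟩) (.one ⟨2630, 3, 5⟩)) (.node 1 (.one ⟨14802, 2, 5⟩) (.one ⟨11093, 3, 5⟩))) (.node 2 (.node 1 (.one ⟨7389, 2, 5⟩) (.one ⟨8566, 2, 3⟩))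 (.node 1 (.one ⟨4408, 2, 3⟩) (.one ⟨15791, 3, 4⟩))))) (.node 8 (.node 4 (.node 2 (.node 1 (.one ⟨7465, 0, 1⟩) (.one ⟨663, 3, 5⟩)) (.node 1 (.one ⟨16378, 3, 4⟩) (.one ⟨16621, 3, 3⟩))) (.node 2 (.node 1 (.one ⟨13026, 2, 5⟩) (.one ⟨10614, 0, 6⟩)) (.node 1 (.one ⟨8344, 1, 5⟩) (.one ⟨16585, 0, 5⟩)))) (.node 4 (.node 2 (.node 1 (.one ⟨16739, 3, 5⟩) (.one ⟨4713, 0, 5⟩)) (.node 1 (.one ⟨13091, 2, 4⟩) (.one ⟨16735, 3, 3⟩))) (.node 2 (.node 1 (.one ⟨622, 1, 5⟩) (.one ⟨5573, 1, 6⟩)) (.node 1 (.one ⟨14775, 2, 6⟩) (.one ⟨13979, 1, 2⟩)))))))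
def par4_1 : Arr Par :=
  (.node 512 (.node 256 (.node 128 (.node 64 par4_1_0 par4_1_1) (.node 64 par4_1_2 par4_1_3)) (.node 128 (.node 64 par4_1_4 par4_1_5) (.node 64 par4_1_6 par4_1_7))) (.node 256 (.node 128 (.node 64 par4_1_8 par4_1_9) (.node 64 par4_1_10 par4_1_11)) (.node 128 (.node 64 par4_1_12 par4_1_13) (.node 64 par4_1_14 par4_1_15))))
def par4_2_0 : Arr Par :=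
  (.node 32 (.node 16 (.node 8 (.node 4 (.node 2 (.node 1 (.one ⟨7097, 0, 2⟩) (.one ⟨9559, 1, 3⟩)) (.node 1 (.one ⟨4912, 0, 2⟩) (.one ⟨8248, 0, 3⟩))) (.node 2 (.node 1 (.one ⟨11370, 1, 3⟩) (.one ⟨1831, 1, 4⟩)) (.node 1 (.one ⟨15328, 1, 6⟩) (.one ⟨12536, 3, 6⟩)))) (.node 4 (.node 2 (.node 1 (.one ⟨9910, 3, 4⟩) (.one ⟨14536, 2, 4⟩)) (.node 1 (.one ⟨195, 3, 6⟩) (.one ⟨3125, 0, 5⟩))) (.node 2 (.node 1 (.one ⟨10284, 2, 5⟩) (.one ⟨4973, 1, 4⟩)) (.node 1 (.one ⟨2175, 1, 5⟩) (.one ⟨8076, 0, 4⟩))))) (.node 8 (.node 4 (.node 2 (.node 1 (.one ⟨13704, 2, 3⟩) (.one ⟨1583, 0, 5⟩)) (.node 1 (.one ⟨5767, 3, 4⟩) (.one ⟨5770, 3, 4⟩))) (.node 2 (.node 1 (.one ⟨8430, 1, 5⟩) (.one ⟨6962, 0, 5⟩)) (.node 1 (.one ⟨4744, 0, 5⟩) (.one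 ⟨7246, 1, 5⟩)))) (.node 4 (.node 2 (.node 1 (.one ⟨9430, 0, 3⟩) (.one ⟨6347, 0, 5⟩)) (.node 1 (.one ⟨14207, 1, 5⟩) (.one ⟨9647, 3, 2⟩))) (.node 2 (.node 1 (.one ⟨3318, 1, 5⟩) (.one ⟨16105, 3, 3⟩)) (.node 1 (.one ⟨10155, 3, 4⟩) (.one ⟨5405, 2, 3⟩)))))) (.node 16 (.node 8 (.node 4 (.node 2 (.node 1 (.one ⟨4373, 3, 4⟩) (.one ⟨4791, 0, 4⟩)) (.node 1 (.one ⟨7768, 0, 5⟩) (.one ⟨14668, 0, 5⟩))) (.node 2 (.node 1 (.one ⟨1729, 2, 2⟩) (.one ⟨12122, 3, 5⟩)) (.node 1 (.one ⟨14476, 3, 5⟩) (.one ⟨5482, 0, 4⟩)))) (.node 4 (.node 2 (.node 1 (.one ⟨16180, 3, 4⟩) (.one ⟨12386, 3, 3⟩)) (.node 1 (.one ⟨6160, 3, 4⟩) (.one ⟨14177, 3, 4⟩))) (.node 2 (.node 1 (.one ⟨4972, 0, 5⟩) (.one ⟨1136, 1, 3⟩)) (.node 1 (.one ⟨8396, 1, 6⟩) (.one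 ⟨8989, 3, 6⟩))))) (.node 8 (.node 4 (.node 2 (.node 1 (.one ⟨2729, 2, 4⟩) (.one ⟨14505, 0, 4⟩)) (.node 1 (.one ⟨13660, 3, 5⟩) (.one ⟨1776, 1, 1⟩))) (.node 2 (.node 1 (.one ⟨7249, 3, 4⟩) (.one ⟨9831, 1, 4⟩)) (.node 1 (.one ⟨12559, 1, 3⟩) (.one ⟨5998, 3, 4⟩)))) (.node 4 (.node 2 (.node 1 (.one ⟨13209, 3, 3⟩) (.one ⟨2049, 3, 4⟩)) (.node 1 (.one ⟨1452, 2, 3⟩) (.one ⟨8148, 2, 4⟩))) (.node 2 (.node 1 (.one ⟨16099, 3, 4⟩) (.one ⟨7324, 3, 4⟩)) (.node 1 (.one ⟨11762, 3, 4⟩) (.one ⟨7157, 3, 1⟩)))))))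
def par4_2_1 : Arr Par :=
  (.node 32 (.node 16 (.node 8 (.node 4 (.node 2 (.node 1 (.one ⟨1467, 1, 5⟩) (.one ⟨9672, 3, 6⟩)) (.node 1 (.one ⟨15094, 2, 5⟩) (.one ⟨9708, 3, 4⟩))) (.node 2 (.node 1 (.one ⟨14641, 1, 4⟩) (.one ⟨12734, 1, 5⟩)) (.node 1 (.one ⟨2929, 1, 4⟩) (.one ⟨14067, 0, 5⟩)))) (.node 4 (.node 2 (.node 1 (.one ⟨10414, 1, 5⟩) (.one ⟨13609, 3, 5⟩)) (.node 1 (.one ⟨15388, 1, 5⟩) (.one ⟨4910, 2, 3⟩))) (.node 2 (.node 1 (.one ⟨14064, 0, 5⟩) (.one ⟨15330, 2, 4⟩)) (.node 1 (.one ⟨9457, 1, 5⟩) (.one ⟨6788, 0, 2⟩))))) (.node 8 (.node 4 (.node 2 (.node 1 (.one ⟨14877, 2, 5⟩) (.one ⟨15333, 1, 4⟩)) (.node 1 (.one ⟨6432, 0, 2⟩) (.one ⟨11847, 0, 2⟩))) (.node 2 (.node 1 (.one ⟨6341, 3, 5⟩) (.one ⟨7372, 1, 6⟩))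 (.node 1 (.one ⟨7145, 1, 3⟩) (.one ⟨5246, 3, 3⟩)))) (.node 4 (.node 2 (.node 1 (.one ⟨5919, 3, 5⟩) (.one ⟨8893, 0, 4⟩)) (.node 1 (.one ⟨16906, 3, 3⟩) (.one ⟨8565, 2, 5⟩))) (.node 2 (.node 1 (.one ⟨6512, 3, 4⟩) (.one ⟨8653, 1, 2⟩)) (.node 1 (.one ⟨16584, 0, 4⟩) (.one ⟨15480, 3, 5⟩)))))) (.node 16 (.node 8 (.node 4 (.node 2 (.node 1 (.one ⟨15150, 2, 4⟩) (.one ⟨10902, 3, 5⟩)) (.node 1 (.one ⟨11127, 2, 4⟩) (.one ⟨1469, 1, 6⟩))) (.node 2 (.node 1 (.one ⟨149, 2, 5⟩) (.one ⟨8061, 2, 5⟩)) (.node 1 (.one ⟨726, 1, 5⟩) (.one ⟨5639, 3, 2⟩)))) (.node 4 (.node 2 (.node 1 (.one ⟨13537, 2, 6⟩) (.one ⟨14268, 3, 4⟩)) (.node 1 (.one ⟨12725, 2, 5⟩) (.one ⟨15062, 0, 4⟩))) (.node 2 (.node 1 (.one ⟨14863, 2, 4⟩) (.one ⟨14313, 3, 6⟩))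 (.node 1 (.one ⟨10351, 3, 4⟩) (.one ⟨12789, 2, 5⟩))))) (.node 8 (.node 4 (.node 2 (.node 1 (.one ⟨15178, 3, 5⟩) (.one ⟨43, 3, 4⟩)) (.node 1 (.one ⟨1882, 0, 4⟩) (.one ⟨15930, 3, 4⟩))) (.node 2 (.node 1 (.one ⟨16742, 2, 5⟩) (.one ⟨7551, 0, 3⟩)) (.node 1 (.one ⟨4546, 2, 4⟩) (.one ⟨2053, 3, 5⟩)))) (.node 4 (.node 2 (.node 1 (.one ⟨16189, 0, 4⟩) (.one ⟨3628, 0, 5⟩)) (.node 1 (.one ⟨5258, 3, 5⟩) (.one ⟨9036, 3, 5⟩))) (.node 2 (.node 1 (.one ⟨8579, 2, 5⟩) (.one ⟨14130, 2, 5⟩)) (.node 1 (.one ⟨5083, 2, 4⟩) (.one ⟨8167, 3, 4⟩)))))))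
def par4_2_2 : Arr Par :=
  (.node 32 (.node 16 (.node 8 (.node 4 (.node 2 (.node 1 (.one ⟨3874, 2, 3⟩) (.one ⟨16122, 0, 5⟩)) (.node 1 (.one ⟨5670, 3, 5⟩) (.one ⟨16177, 0, 2⟩))) (.node 2 (.node 1 (.one ⟨6099, 1, 5⟩) (.one ⟨16653, 2, 4⟩)) (.node 1 (.one ⟨16052, 2, 3⟩) (.one ⟨6042, 1, 2⟩)))) (.node 4 (.node 2 (.node 1 (.one ⟨4569, 2, 4⟩) (.one ⟨15772, 3, 5⟩)) (.node 1 (.one ⟨8287, 3, 3⟩) (.one ⟨13125, 3, 5⟩))) (.node 2 (.node 1 (.one ⟨887, 1, 5⟩) (.one ⟨12534, 2, 5⟩)) (.node 1 (.one ⟨7332, 3, 3⟩) (.one ⟨15512, 3, 3⟩))))) (.node 8 (.node 4 (.node 2 (.node 1 (.one ⟨673, 1, 5⟩) (.one ⟨3652, 2, 4⟩)) (.node 1 (.one ⟨6667, 1, 3⟩) (.one ⟨1161, 0, 6⟩))) (.node 2 (.node 1 (.one ⟨10959, 1, 4⟩) (.one ⟨9757, 3, 4⟩)) (.node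 1 (.one ⟨14111, 1, 6⟩) (.one ⟨11719, 3, 5⟩)))) (.node 4 (.node 2 (.node 1 (.one ⟨8776, 3, 6⟩) (.one ⟨15204, 3, 2⟩)) (.node 1 (.one ⟨8532, 2, 6⟩) (.one ⟨15916, 3, 5⟩))) (.node 2 (.node 1 (.one ⟨8156, 2, 5⟩) (.one ⟨11497, 3, 2⟩)) (.node 1 (.one ⟨3820, 2, 5⟩) (.one ⟨6156, 0, 3⟩)))))) (.node 16 (.node 8 (.node 4 (.node 2 (.node 1 (.one ⟨14163, 0, 3⟩) (.one ⟨11520, 1, 5⟩)) (.node 1 (.one ⟨4446, 2, 4⟩) (.one ⟨14465, 2, 3⟩))) (.node 2 (.node 1 (.one ⟨1858, 0, 3⟩) (.one ⟨15564, 3, 5⟩)) (.node 1 (.one ⟨16110, 3, 6⟩) (.one ⟨127, 1, 0⟩)))) (.node 4 (.node 2 (.node 1 (.one ⟨1799, 1, 1⟩) (.one ⟨8706, 1, 3⟩)) (.node 1 (.one ⟨4681, 1, 1⟩) (.one ⟨12906, 1, 6⟩))) (.node 2 (.node 1 (.one ⟨7005, 3, 5⟩) (.one ⟨15046, 0, 5⟩)) (.node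 1 (.one ⟨14189, 1, 5⟩) (.one ⟨8834, 1, 3⟩))))) (.node 8 (.node 4 (.node 2 (.node 1 (.one ⟨11401, 3, 2⟩) (.one ⟨6521, 0, 1⟩)) (.node 1 (.one ⟨1252, 1, 4⟩) (.one ⟨17188, 2, 3⟩))) (.node 2 (.node 1 (.one ⟨10268, 0, 3⟩) (.one ⟨12433, 0, 5⟩)) (.node 1 (.one ⟨8010, 1, 3⟩) (.one ⟨13321, 1, 5⟩)))) (.node 4 (.node 2 (.node 1 (.one ⟨2981, 3, 6⟩) (.one ⟨15349, 3, 5⟩)) (.node 1 (.one ⟨11409, 2, 4⟩) (.one ⟨14134, 0, 5⟩))) (.node 2 (.node 1 (.one ⟨16658, 3, 5⟩) (.one ⟨5071, 3, 3⟩)) (.node 1 (.one ⟨13049, 1, 5⟩) (.one ⟨7157, 0, 1⟩)))))))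
def par4_2_3 : Arr Par :=
  (.node 32 (.node 16 (.node 8 (.node 4 (.node 2 (.node 1 (.one ⟨12319, 1, 4⟩) (.one ⟨6342, 1, 3⟩)) (.node 1 (.one ⟨3972, 2, 5⟩) (.one ⟨2457, 0, 5⟩))) (.node 2 (.node 1 (.one ⟨4810, 0, 4⟩) (.one ⟨6206, 3, 4⟩)) (.node 1 (.one ⟨15768, 3, 5⟩) (.one ⟨2853, 2, 5⟩)))) (.node 4 (.node 2 (.node 1 (.one ⟨9917, 2, 5⟩) (.one ⟨8389, 0, 4⟩)) (.node 1 (.one ⟨5979, 2, 4⟩) (.one ⟨8814, 3, 4⟩))) (.node 2 (.node 1 (.one ⟨6752, 0, 5⟩) (.one ⟨2644, 3, 5⟩)) (.node 1 (.one ⟨16823, 3, 6⟩) (.one ⟨370, 2, 6⟩))))) (.node 8 (.node 4 (.node 2 (.node 1 (.one ⟨1875, 1, 5⟩) (.one ⟨4090, 3, 4⟩)) (.node 1 (.one ⟨4837, 2, 4⟩) (.one ⟨16551, 3, 4⟩))) (.node 2 (.node 1 (.one ⟨4836, 2, 4⟩) (.one ⟨8383, 0, 5⟩)) (.node 1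 (.one ⟨371, 2, 6⟩) (.one ⟨3221, 3, 5⟩)))) (.node 4 (.node 2 (.node 1 (.one ⟨6328, 1, 3⟩) (.one ⟨11295, 0, 3⟩)) (.node 1 (.one ⟨3220, 3, 5⟩) (.one ⟨3122, 0, 4⟩))) (.node 2 (.node 1 (.one ⟨10888, 1, 4⟩) (.one ⟨925, 1, 5⟩)) (.node 1 (.one ⟨1241, 2, 4⟩) (.one ⟨1629, 2, 5⟩)))))) (.node 16 (.node 8 (.node 4 (.node 2 (.node 1 (.one ⟨3143, 2, 5⟩) (.one ⟨10185, 0, 3⟩)) (.node 1 (.one ⟨3434, 2, 6⟩) (.one ⟨7353, 3, 5⟩))) (.node 2 (.node 1 (.one ⟨16826, 3, 5⟩) (.one ⟨5078, 3, 4⟩)) (.node 1 (.one ⟨11405, 3, 5⟩) (.one ⟨9643, 0, 5⟩)))) (.node 4 (.node 2 (.node 1 (.one ⟨2179, 0, 3⟩) (.one ⟨90, 3, 4⟩)) (.node 1 (.one ⟨9176, 2, 2⟩) (.one ⟨6363, 1, 4⟩))) (.node 2 (.node 1 (.one ⟨1250, 1, 6⟩) (.one ⟨2415, 0, 4⟩)) (.node 1 (.one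 ⟨14203, 1, 5⟩) (.one ⟨16454, 2, 5⟩))))) (.node 8 (.node 4 (.node 2 (.node 1 (.one ⟨9344, 2, 5⟩) (.one ⟨16490, 2, 5⟩)) (.node 1 (.one ⟨11068, 1, 5⟩) (.one ⟨8349, 3, 3⟩))) (.node 2 (.node 1 (.one ⟨8382, 2, 5⟩) (.one ⟨8859, 0, 4⟩)) (.node 1 (.one ⟨8406, 2, 5⟩) (.one ⟨9244, 3, 5⟩)))) (.node 4 (.node 2 (.node 1 (.one ⟨7113, 0, 4⟩) (.one ⟨6733, 0, 4⟩)) (.node 1 (.one ⟨1398, 3, 4⟩) (.one ⟨8245, 3, 4⟩))) (.node 2 (.node 1 (.one ⟨1103, 3, 4⟩) (.one ⟨4204, 0, 5⟩)) (.node 1 (.one ⟨8539, 2, 5⟩) (.one ⟨9917, 0, 5⟩)))))))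
def par4_2_4 : Arr Par :=
  (.node 32 (.node 16 (.node 8 (.node 4 (.node 2 (.node 1 (.one ⟨12803, 1, 4⟩) (.one ⟨16429, 1, 3⟩)) (.node 1 (.one ⟨5524, 2, 5⟩) (.one ⟨117, 1, 6⟩))) (.node 2 (.node 1 (.one ⟨693, 2, 5⟩) (.one ⟨5140, 1, 3⟩)) (.node 1 (.one ⟨6380, 0, 4⟩) (.one ⟨6509, 1, 2⟩)))) (.node 4 (.node 2 (.node 1 (.one ⟨9560, 3, 4⟩) (.one ⟨12098, 3, 4⟩)) (.node 1 (.one ⟨8835, 2, 5⟩) (.one ⟨9859, 3, 5⟩))) (.node 2 (.node 1 (.one ⟨14116, 2, 3⟩) (.one ⟨13445, 2, 3⟩)) (.node 1 (.one ⟨14667, 2, 4⟩) (.one ⟨12586, 0, 5⟩))))) (.node 8 (.node 4 (.node 2 (.node 1 (.one ⟨14819, 2, 5⟩) (.one ⟨3279, 3, 5⟩)) (.node 1 (.one ⟨11493, 2, 5⟩) (.one ⟨448, 1, 5⟩))) (.node 2 (.node 1 (.one ⟨16010, 2, 6⟩) (.one ⟨139, 3, 6⟩)) (.node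 1 (.one ⟨5459, 3, 4⟩) (.one ⟨6098, 0, 6⟩)))) (.node 4 (.node 2 (.node 1 (.one ⟨5299, 3, 3⟩) (.one ⟨8641, 3, 4⟩)) (.node 1 (.one ⟨16905, 3, 5⟩) (.one ⟨6419, 3, 3⟩))) (.node 2 (.node 1 (.one ⟨17156, 2, 5⟩) (.one ⟨11409, 0, 4⟩)) (.node 1 (.one ⟨7509, 0, 4⟩) (.one ⟨8169, 0, 1⟩)))))) (.node 16 (.node 8 (.node 4 (.node 2 (.node 1 (.one ⟨6490, 2, 4⟩) (.one ⟨13726, 2, 6⟩)) (.node 1 (.one ⟨10655, 2, 3⟩) (.one ⟨6433, 1, 6⟩))) (.node 2 (.node 1 (.one ⟨2035, 1, 4⟩) (.one ⟨9008, 2, 3⟩)) (.node 1 (.one ⟨16800, 3, 5⟩) (.one ⟨2556, 2, 4⟩)))) (.node 4 (.node 2 (.node 1 (.one ⟨10548, 0, 5⟩) (.one ⟨8356, 1, 3⟩)) (.node 1 (.one ⟨14946, 1, 4⟩) (.one ⟨10533, 0, 5⟩))) (.node 2 (.node 1 (.one ⟨7872, 0, 4⟩) (.one ⟨11341, 3, 5⟩)) (.node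 1 (.one ⟨4670, 3, 4⟩) (.one ⟨7625, 1, 5⟩))))) (.node 8 (.node 4 (.node 2 (.node 1 (.one ⟨8169, 3, 1⟩) (.one ⟨11453, 3, 4⟩)) (.node 1 (.one ⟨15403, 3, 5⟩) (.one ⟨10898, 2, 5⟩))) (.node 2 (.node 1 (.one ⟨11659, 2, 5⟩) (.one ⟨14175, 0, 3⟩)) (.node 1 (.one ⟨11211, 1, 4⟩) (.one ⟨14475, 2, 3⟩)))) (.node 4 (.node 2 (.node 1 (.one ⟨8927, 2, 4⟩) (.one ⟨6677, 1, 5⟩)) (.node 1 (.one ⟨13461, 1, 5⟩) (.one ⟨7045, 1, 3⟩))) (.node 2 (.node 1 (.one ⟨5634, 2, 5⟩) (.one ⟨3977, 0, 2⟩)) (.node 1 (.one ⟨16260, 1, 5⟩) (.one ⟨837, 3, 5⟩)))))))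
def par4_2_5 : Arr Par :=
  (.node 32 (.node 16 (.node 8 (.node 4 (.node 2 (.node 1 (.one ⟨14773, 2, 4⟩) (.one ⟨16932, 1, 3⟩)) (.node 1 (.one ⟨11437, 1, 6⟩) (.one ⟨15407, 3, 5⟩))) (.node 2 (.node 1 (.one ⟨14767, 2, 3⟩) (.one ⟨3162, 1, 2⟩)) (.node 1 (.one ⟨15630, 3, 5⟩) (.one ⟨14750, 1, 4⟩)))) (.node 4 (.node 2 (.node 1 (.one ⟨1170, 2, 5⟩) (.one ⟨13012, 3, 6⟩)) (.node 1 (.one ⟨13273, 1, 5⟩) (.one ⟨4212, 2, 4⟩))) (.node 2 (.node 1 (.one ⟨1290, 3, 3⟩) (.one ⟨761, 0, 5⟩)) (.node 1 (.one ⟨8323, 1, 4⟩) (.one ⟨6520, 2, 2⟩))))) (.node 8 (.node 4 (.node 2 (.node 1 (.one ⟨8994, 1, 3⟩) (.one ⟨7857, 1, 3⟩)) (.node 1 (.one ⟨3585, 1, 3⟩) (.one ⟨11798, 2, 2⟩))) (.node 2 (.node 1 (.one ⟨11563, 1, 2⟩) (.one ⟨9678, 1, 4⟩)) (.node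 1 (.one ⟨5565, 0, 5⟩) (.one ⟨2074, 0, 6⟩)))) (.node 4 (.node 2 (.node 1 (.one ⟨2986, 3, 3⟩) (.one ⟨2076, 0, 6⟩)) (.node 1 (.one ⟨5471, 1, 4⟩) (.one ⟨2078, 0, 5⟩))) (.node 2 (.node 1 (.one ⟨12659, 1, 5⟩) (.one ⟨2072, 0, 4⟩)) (.node 1 (.one ⟨3028, 3, 4⟩) (.one ⟨11666, 0, 4⟩)))))) (.node 16 (.node 8 (.node 4 (.node 2 (.node 1 (.one ⟨10852, 0, 6⟩) (.one ⟨14750, 3, 4⟩)) (.node 1 (.one ⟨1924, 3, 5⟩) (.one ⟨2057, 2, 5⟩))) (.node 2 (.node 1 (.one ⟨8142, 2, 3⟩) (.one ⟨8333, 2, 3⟩)) (.node 1 (.one ⟨16528, 1, 6⟩) (.one ⟨3014, 0, 5⟩)))) (.node 4 (.node 2 (.node 1 (.one ⟨3986, 0, 5⟩) (.one ⟨2736, 0, 5⟩)) (.node 1 (.one ⟨4340, 0, 4⟩) (.one ⟨14130, 1, 5⟩))) (.node 2 (.node 1 (.one ⟨15209, 2, 6⟩) (.one ⟨12237, 2, 4⟩)) (.node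 1 (.one ⟨3727, 2, 5⟩) (.one ⟨14176, 0, 3⟩))))) (.node 8 (.node 4 (.node 2 (.node 1 (.one ⟨5858, 2, 4⟩) (.one ⟨11401, 2, 2⟩)) (.node 1 (.one ⟨10680, 0, 4⟩) (.one ⟨6142, 1, 5⟩))) (.node 2 (.node 1 (.one ⟨3632, 0, 4⟩) (.one ⟨12903, 2, 5⟩)) (.node 1 (.one ⟨461, 3, 5⟩) (.one ⟨6002, 2, 5⟩)))) (.node 4 (.node 2 (.node 1 (.one ⟨12571, 2, 6⟩) (.one ⟨14725, 3, 5⟩)) (.node 1 (.one ⟨13604, 0, 6⟩) (.one ⟨8330, 2, 5⟩))) (.node 2 (.node 1 (.one ⟨14724, 3, 4⟩) (.one ⟨4356, 0, 2⟩)) (.node 1 (.one ⟨15815, 1, 4⟩) (.one ⟨12259, 2, 4⟩)))))))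
def par4_2_6 : Arr Par :=
  (.node 32 (.node 16 (.node 8 (.node 4 (.node 2 (.node 1 (.one ⟨10325, 0, 5⟩) (.one ⟨7481, 3, 5⟩)) (.node 1 (.one ⟨14407, 2, 2⟩) (.one ⟨13511, 2, 3⟩))) (.node 2 (.node 1 (.one ⟨13635, 2, 2⟩) (.one ⟨11858, 2, 6⟩)) (.node 1 (.one ⟨11295, 3, 3⟩) (.one ⟨16309, 1, 4⟩)))) (.node 4 (.node 2 (.node 1 (.one ⟨1266, 0, 6⟩) (.one ⟨5962, 2, 2⟩)) (.node 1 (.one ⟨13097, 3, 2⟩) (.one ⟨14190, 1, 5⟩))) (.node 2 (.node 1 (.one ⟨1087, 2, 5⟩) (.one ⟨2911, 1, 5⟩)) (.node 1 (.one ⟨8834, 2, 3⟩) (.one ⟨592, 3, 4⟩))))) (.node 8 (.node 4 (.node 2 (.node 1 (.one ⟨15260, 2, 4⟩) (.one ⟨14326, 1, 4⟩)) (.node 1 (.one ⟨6637, 1, 4⟩) (.one ⟨16883, 1, 4⟩))) (.node 2 (.node 1 (.one ⟨10438, 0, 4⟩) (.one ⟨397, 3, 5⟩)) (.node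 1 (.one ⟨11207, 1, 5⟩) (.one ⟨5413, 1, 4⟩)))) (.node 4 (.node 2 (.node 1 (.one ⟨5102, 3, 4⟩) (.one ⟨294, 0, 4⟩)) (.node 1 (.one ⟨5006, 1, 4⟩) (.one ⟨5310, 3, 5⟩))) (.node 2 (.node 1 (.one ⟨7832, 2, 4⟩) (.one ⟨13324, 3, 6⟩)) (.node 1 (.one ⟨10074, 3, 5⟩) (.one ⟨8057, 2, 4⟩)))))) (.node 16 (.node 8 (.node 4 (.node 2 (.node 1 (.one ⟨270, 1, 5⟩) (.one ⟨14177, 0, 4⟩)) (.node 1 (.one ⟨12522, 3, 4⟩) (.one ⟨14471, 2, 3⟩))) (.node 2 (.node 1 (.one ⟨6746, 3, 5⟩) (.one ⟨16849, 1, 6⟩)) (.node 1 (.one ⟨4647, 3, 3⟩) (.one ⟨13292, 0, 5⟩)))) (.node 4 (.node 2 (.node 1 (.one ⟨2117, 3, 6⟩) (.one ⟨2947, 3, 5⟩)) (.node 1 (.one ⟨15363, 1, 3⟩) (.one ⟨4744, 1, 5⟩))) (.node 2 (.node 1 (.one ⟨6637, 3, 4⟩) (.one ⟨2578, 1, 3⟩)) (.node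 1 (.one ⟨9147, 3, 4⟩) (.one ⟨1084, 3, 6⟩))))) (.node 8 (.node 4 (.node 2 (.node 1 (.one ⟨11759, 1, 4⟩) (.one ⟨11519, 1, 3⟩)) (.node 1 (.one ⟨13824, 1, 3⟩) (.one ⟨15567, 1, 3⟩))) (.node 2 (.node 1 (.one ⟨4694, 2, 5⟩) (.one ⟨14229, 3, 6⟩)) (.node 1 (.one ⟨7611, 2, 4⟩) (.one ⟨6304, 0, 3⟩)))) (.node 4 (.node 2 (.node 1 (.one ⟨13432, 3, 5⟩) (.one ⟨3115, 3, 5⟩)) (.node 1 (.one ⟨2909, 3, 4⟩) (.one ⟨926, 3, 3⟩))) (.node 2 (.node 1 (.one ⟨1739, 3, 4⟩) (.one ⟨12023, 3, 3⟩)) (.node 1 (.one ⟨4359, 1, 4⟩) (.one ⟨4808, 3, 5⟩)))))))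
def par4_2_7 : Arr Par :=
  (.node 32 (.node 16 (.node 8 (.node 4 (.node 2 (.node 1 (.one ⟨6122, 0, 4⟩) (.one ⟨761, 3, 5⟩)) (.node 1 (.one ⟨7113, 2, 4⟩) (.one ⟨16278, 3, 5⟩))) (.node 2 (.node 1 (.one ⟨4246, 0, 5⟩) (.one ⟨14572, 0, 3⟩)) (.node 1 (.one ⟨12626, 1, 4⟩) (.one ⟨16, 3, 3⟩)))) (.node 4 (.node 2 (.node 1 (.one ⟨702, 1, 5⟩) (.one ⟨5125, 2, 5⟩)) (.node 1 (.one ⟨12675, 1, 5⟩) (.one ⟨15858, 3, 3⟩))) (.node 2 (.node 1 (.one ⟨799, 0, 6⟩) (.one ⟨2561, 2, 4⟩)) (.node 1 (.one ⟨11719, 1, 5⟩) (.one ⟨5971, 0, 5⟩))))) (.node 8 (.node 4 (.node 2 (.node 1 (.one ⟨483, 1, 5⟩) (.one ⟨5787, 2, 2⟩)) (.node 1 (.one ⟨1795, 2, 5⟩) (.one ⟨1288, 3, 5⟩))) (.node 2 (.node 1 (.one ⟨626, 3, 5⟩) (.one ⟨7116, 3, 3⟩)) (.node 1 (.one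 ⟨5332, 1, 4⟩) (.one ⟨2291, 0, 4⟩)))) (.node 4 (.node 2 (.node 1 (.one ⟨12037, 1, 3⟩) (.one ⟨4064, 1, 5⟩)) (.node 1 (.one ⟨6914, 3, 5⟩) (.one ⟨1702, 3, 3⟩))) (.node 2 (.node 1 (.one ⟨3011, 1, 3⟩) (.one ⟨10938, 1, 4⟩)) (.node 1 (.one ⟨5321, 0, 5⟩) (.one ⟨3843, 3, 4⟩)))))) (.node 16 (.node 8 (.node 4 (.node 2 (.node 1 (.one ⟨16918, 1, 5⟩) (.one ⟨13906, 0, 5⟩)) (.node 1 (.one ⟨13908, 0, 4⟩) (.one ⟨6292, 2, 4⟩))) (.node 2 (.node 1 (.one ⟨6623, 3, 5⟩) (.one ⟨3274, 2, 5⟩)) (.node 1 (.one ⟨6820, 2, 3⟩) (.one ⟨12349, 2, 4⟩)))) (.node 4 (.node 2 (.node 1 (.one ⟨6805, 3, 4⟩) (.one ⟨8864, 1, 4⟩)) (.node 1 (.one ⟨936, 2, 4⟩) (.one ⟨8045, 3, 4⟩))) (.node 2 (.node 1 (.one ⟨1623, 2, 5⟩) (.one ⟨8341, 0, 2⟩)) (.node 1 (.one ⟨8523,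 0, 4⟩) (.one ⟨8547, 3, 5⟩))))) (.node 8 (.node 4 (.node 2 (.node 1 (.one ⟨9978, 3, 2⟩) (.one ⟨15139, 3, 2⟩)) (.node 1 (.one ⟨3845, 3, 2⟩) (.one ⟨8447, 3, 4⟩))) (.node 2 (.node 1 (.one ⟨9217, 3, 2⟩) (.one ⟨14885, 3, 4⟩)) (.node 1 (.one ⟨3603, 3, 6⟩) (.one ⟨14868, 2, 6⟩)))) (.node 4 (.node 2 (.node 1 (.one ⟨12814, 3, 4⟩) (.one ⟨4622, 2, 5⟩)) (.node 1 (.one ⟨15885, 2, 4⟩) (.one ⟨6545, 2, 6⟩))) (.node 2 (.node 1 (.one ⟨6306, 0, 3⟩) (.one ⟨11104, 1, 4⟩)) (.node 1 (.one ⟨9128, 2, 5⟩) (.one ⟨12684, 0, 2⟩)))))))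
def par4_2_8 : Arr Par :=
  (.node 32 (.node 16 (.node 8 (.node 4 (.node 2 (.node 1 (.one ⟨4814, 3, 5⟩) (.one ⟨16080, 1, 3⟩)) (.node 1 (.one ⟨13627, 1, 3⟩) (.one ⟨8267, 1, 4⟩))) (.node 2 (.node 1 (.one ⟨16617, 2, 3⟩) (.one ⟨2944, 1, 4⟩)) (.node 1 (.one ⟨8548, 2, 4⟩) (.one ⟨8842, 1, 3⟩)))) (.node 4 (.node 2 (.node 1 (.one ⟨5480, 1, 3⟩) (.one ⟨6949, 0, 5⟩)) (.node 1 (.one ⟨6178, 1, 6⟩) (.one ⟨2751, 1, 3⟩))) (.node 2 (.node 1 (.one ⟨2311, 0, 3⟩) (.one ⟨8201, 1, 6⟩)) (.node 1 (.one ⟨11544, 0, 5⟩) (.one ⟨1546, 2, 5⟩))))) (.node 8 (.node 4 (.node 2 (.node 1 (.one ⟨9408, 0, 3⟩) (.one ⟨2835, 0, 4⟩)) (.node 1 (.one ⟨16633, 3, 2⟩) (.one ⟨8741, 2, 4⟩))) (.node 2 (.node 1 (.one ⟨2877, 0, 4⟩) (.one ⟨6983, 3, 5⟩)) (.node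 1 (.one ⟨2747, 0, 4⟩) (.one ⟨7700, 1, 6⟩)))) (.node 4 (.node 2 (.node 1 (.one ⟨16521, 2, 5⟩) (.one ⟨14145, 2, 5⟩)) (.node 1 (.one ⟨6514, 3, 5⟩) (.one ⟨10677, 1, 3⟩))) (.node 2 (.node 1 (.one ⟨1803, 2, 5⟩) (.one ⟨1698, 3, 4⟩)) (.node 1 (.one ⟨14385, 3, 4⟩) (.one ⟨5388, 3, 3⟩)))))) (.node 16 (.node 8 (.node 4 (.node 2 (.node 1 (.one ⟨1883, 2, 5⟩) (.one ⟨1066, 0, 5⟩)) (.node 1 (.one ⟨390, 0, 4⟩) (.one ⟨315, 1, 5⟩))) (.node 2 (.node 1 (.one ⟨6673, 0, 4⟩) (.one ⟨17047, 1, 5⟩)) (.node 1 (.one ⟨15079, 2, 5⟩) (.one ⟨10408, 3, 6⟩)))) (.node 4 (.node 2 (.node 1 (.one ⟨1079, 3, 4⟩) (.one ⟨2396, 3, 6⟩)) (.node 1 (.one ⟨939, 2, 5⟩) (.one ⟨13699, 0, 4⟩))) (.node 2 (.node 1 (.one ⟨10824, 2, 4⟩) (.one ⟨5715, 3, 4⟩)) (.node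 1 (.one ⟨3457, 2, 4⟩) (.one ⟨17182, 1, 5⟩))))) (.node 8 (.node 4 (.node 2 (.node 1 (.one ⟨6604, 1, 5⟩) (.one ⟨3305, 2, 4⟩)) (.node 1 (.one ⟨1170, 1, 5⟩) (.one ⟨2291, 1, 4⟩))) (.node 2 (.node 1 (.one ⟨2933, 3, 4⟩) (.one ⟨2205, 3, 3⟩)) (.node 1 (.one ⟨11388, 2, 5⟩) (.one ⟨16628, 2, 5⟩)))) (.node 4 (.node 2 (.node 1 (.one ⟨4013, 2, 6⟩) (.one ⟨16710, 1, 4⟩)) (.node 1 (.one ⟨8151, 3, 5⟩) (.one ⟨6295, 2, 4⟩))) (.node 2 (.node 1 (.one ⟨11033, 2, 3⟩) (.one ⟨8158, 3, 6⟩)) (.node 1 (.one ⟨14361, 0, 6⟩) (.one ⟨16020, 0, 4⟩)))))))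
def par4_2_9 : Arr Par :=
  (.node 32 (.node 16 (.node 8 (.node 4 (.node 2 (.node 1 (.one ⟨9781, 2, 5⟩) (.one ⟨14197, 3, 5⟩)) (.node 1 (.one ⟨12325, 2, 4⟩) (.one ⟨7187, 2, 5⟩))) (.node 2 (.node 1 (.one ⟨9929, 3, 4⟩) (.one ⟨11936, 3, 5⟩)) (.node 1 (.one ⟨3548, 3, 4⟩) (.one ⟨2311, 1, 3⟩)))) (.node 4 (.node 2 (.node 1 (.one ⟨8748, 3, 6⟩) (.one ⟨5164, 1, 3⟩)) (.node 1 (.one ⟨13416, 1, 2⟩) (.one ⟨12992, 1, 5⟩))) (.node 2 (.node 1 (.one ⟨8690, 3, 3⟩) (.one ⟨9955, 1, 6⟩)) (.node 1 (.one ⟨1182, 1, 4⟩) (.one ⟨2335, 1, 2⟩))))) (.node 8 (.node 4 (.node 2 (.node 1 (.one ⟨14797, 0, 3⟩) (.one ⟨10110, 3, 4⟩)) (.node 1 (.one ⟨16822, 1, 4⟩) (.one ⟨7725, 3, 5⟩))) (.node 2 (.node 1 (.one ⟨3445, 3, 4⟩) (.one ⟨14803, 0, 4⟩)) (.node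 1 (.one ⟨3552, 2, 5⟩) (.one ⟨3360, 3, 5⟩)))) (.node 4 (.node 2 (.node 1 (.one ⟨14947, 3, 4⟩) (.one ⟨15970, 3, 4⟩)) (.node 1 (.one ⟨15150, 1, 4⟩) (.one ⟨13312, 0, 3⟩))) (.node 2 (.node 1 (.one ⟨15790, 0, 3⟩) (.one ⟨13474, 2, 5⟩)) (.node 1 (.one ⟨6557, 1, 5⟩) (.one ⟨2480, 2, 5⟩)))))) (.node 16 (.node 8 (.node 4 (.node 2 (.node 1 (.one ⟨10421, 1, 3⟩) (.one ⟨6515, 0, 2⟩)) (.node 1 (.one ⟨14245, 1, 3⟩) (.one ⟨14798, 2, 3⟩))) (.node 2 (.node 1 (.one ⟨135, 1, 5⟩) (.one ⟨2048, 2, 3⟩)) (.node 1 (.one ⟨6559, 1, 5⟩) (.one ⟨12284, 1, 4⟩)))) (.node 4 (.node 2 (.node 1 (.one ⟨11998, 0, 4⟩) (.one ⟨11064, 0, 4⟩)) (.node 1 (.one ⟨16439, 3, 5⟩) (.one ⟨10107, 3, 5⟩))) (.node 2 (.node 1 (.one ⟨8370, 3, 4⟩) (.one ⟨3843, 0, 4⟩))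 (.node 1 (.one ⟨2350, 2, 5⟩) (.one ⟨2687, 1, 5⟩))))) (.node 8 (.node 4 (.node 2 (.node 1 (.one ⟨583, 2, 6⟩) (.one ⟨14547, 3, 5⟩)) (.node 1 (.one ⟨3436, 2, 4⟩) (.one ⟨6502, 3, 5⟩))) (.node 2 (.node 1 (.one ⟨9202, 3, 5⟩) (.one ⟨7886, 1, 5⟩)) (.node 1 (.one ⟨5796, 0, 6⟩) (.one ⟨6813, 2, 4⟩)))) (.node 4 (.node 2 (.node 1 (.one ⟨8862, 3, 3⟩) (.one ⟨10800, 1, 5⟩)) (.node 1 (.one ⟨7242, 1, 3⟩) (.one ⟨11898, 2, 2⟩))) (.node 2 (.node 1 (.one ⟨8692, 0, 5⟩) (.one ⟨5433, 3, 4⟩)) (.node 1 (.one ⟨10782, 2, 3⟩) (.one ⟨4666, 0, 4⟩)))))))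
def par4_2_10 : Arr Par :=
  (.node 32 (.node 16 (.node 8 (.node 4 (.node 2 (.node 1 (.one ⟨12853, 1, 4⟩) (.one ⟨12741, 0, 5⟩)) (.node 1 (.one ⟨31, 1, 2⟩) (.one ⟨5432, 3, 3⟩))) (.node 2 (.node 1 (.one ⟨10921, 3, 4⟩) (.one ⟨13111, 3, 4⟩)) (.node 1 (.one ⟨11478, 2, 3⟩) (.one ⟨2196, 3, 5⟩)))) (.node 4 (.node 2 (.node 1 (.one ⟨10327, 3, 4⟩) (.one ⟨9040, 0, 5⟩)) (.node 1 (.one ⟨1743, 3, 5⟩) (.one ⟨1288, 0, 5⟩))) (.node 2 (.node 1 (.one ⟨12960, 1, 5⟩) (.one ⟨15636, 3, 5⟩)) (.node 1 (.one ⟨16442, 2, 6⟩) (.one ⟨10856, 1, 5⟩))))) (.node 8 (.node 4 (.node 2 (.node 1 (.one ⟨14267, 2, 4⟩) (.one ⟨7590, 3, 5⟩)) (.node 1 (.one ⟨12046, 1, 5⟩) (.one ⟨3768, 2, 5⟩))) (.node 2 (.node 1 (.one ⟨15548, 3, 3⟩) (.one ⟨7734, 1, 4⟩))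 (.node 1 (.one ⟨8370, 1, 4⟩) (.one ⟨9184, 3, 4⟩)))) (.node 4 (.node 2 (.node 1 (.one ⟨9517, 1, 4⟩) (.one ⟨9070, 0, 4⟩)) (.node 1 (.one ⟨3417, 3, 6⟩) (.one ⟨3280, 0, 4⟩))) (.node 2 (.node 1 (.one ⟨11478, 3, 3⟩) (.one ⟨4949, 0, 5⟩)) (.node 1 (.one ⟨7034, 1, 5⟩) (.one ⟨2031, 3, 5⟩)))))) (.node 16 (.node 8 (.node 4 (.node 2 (.node 1 (.one ⟨1385, 0, 3⟩) (.one ⟨16464, 1, 5⟩)) (.node 1 (.one ⟨11471, 3, 5⟩) (.one ⟨3240, 3, 5⟩))) (.node 2 (.node 1 (.one ⟨5195, 1, 5⟩) (.one ⟨9600, 1, 5⟩)) (.node 1 (.one ⟨1862, 2, 4⟩) (.one ⟨5368, 1, 3⟩)))) (.node 4 (.node 2 (.node 1 (.one ⟨88, 0, 0⟩) (.one ⟨2183, 0, 3⟩)) (.node 1 (.one ⟨7874, 1, 1⟩) (.one ⟨5530, 2, 2⟩))) (.node 2 (.node 1 (.one ⟨6934, 2, 3⟩) (.one ⟨9515, 1, 4⟩)) (.node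 1 (.one ⟨8754, 2, 5⟩) (.one ⟨593, 3, 3⟩))))) (.node 8 (.node 4 (.node 2 (.node 1 (.one ⟨13388, 0, 4⟩) (.one ⟨17066, 3, 5⟩)) (.node 1 (.one ⟨8077, 1, 4⟩) (.one ⟨12556, 1, 1⟩))) (.node 2 (.node 1 (.one ⟨7150, 2, 5⟩) (.one ⟨11091, 0, 3⟩)) (.node 1 (.one ⟨16338, 0, 4⟩) (.one ⟨1722, 2, 5⟩)))) (.node 4 (.node 2 (.node 1 (.one ⟨7060, 3, 6⟩) (.one ⟨8128, 0, 5⟩)) (.node 1 (.one ⟨5149, 2, 6⟩) (.one ⟨2873, 2, 3⟩))) (.node 2 (.node 1 (.one ⟨11163, 2, 5⟩) (.one ⟨826, 1, 4⟩)) (.node 1 (.one ⟨3320, 1, 4⟩) (.one ⟨6372, 1, 2⟩)))))))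
def par4_2_11 : Arr Par :=
  (.node 32 (.node 16 (.node 8 (.node 4 (.node 2 (.node 1 (.one ⟨14212, 2, 4⟩) (.one ⟨1666, 3, 6⟩)) (.node 1 (.one ⟨5413, 0, 4⟩) (.one ⟨15954, 2, 5⟩))) (.node 2 (.node 1 (.one ⟨7225, 1, 4⟩) (.one ⟨13894, 2, 6⟩)) (.node 1 (.one ⟨2652, 2, 4⟩) (.one ⟨3083, 3, 5⟩)))) (.node 4 (.node 2 (.node 1 (.one ⟨8159, 2, 5⟩) (.one ⟨6442, 3, 5⟩)) (.node 1 (.one ⟨3920, 0, 3⟩) (.one ⟨10490, 2, 5⟩))) (.node 2 (.node 1 (.one ⟨5766, 2, 4⟩) (.one ⟨8670, 3, 6⟩)) (.node 1 (.one ⟨5347, 3, 6⟩) (.one ⟨13089, 0, 4⟩))))) (.node 8 (.node 4 (.node 2 (.node 1 (.one ⟨8490, 3, 4⟩) (.one ⟨1503, 1, 4⟩)) (.node 1 (.one ⟨10437, 3, 5⟩) (.one ⟨16416, 0, 5⟩))) (.node 2 (.node 1 (.one ⟨596, 3, 5⟩) (.one ⟨14855, 3, 5⟩)) (.node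 1 (.one ⟨2153, 2, 5⟩) (.one ⟨6620, 2, 6⟩)))) (.node 4 (.node 2 (.node 1 (.one ⟨10848, 2, 5⟩) (.one ⟨8844, 0, 4⟩)) (.node 1 (.one ⟨5986, 2, 5⟩) (.one ⟨2348, 1, 5⟩))) (.node 2 (.node 1 (.one ⟨15229, 1, 5⟩) (.one ⟨2862, 3, 5⟩)) (.node 1 (.one ⟨5830, 1, 6⟩) (.one ⟨2386, 2, 4⟩)))))) (.node 16 (.node 8 (.node 4 (.node 2 (.node 1 (.one ⟨4860, 2, 6⟩) (.one ⟨14833, 3, 5⟩)) (.node 1 (.one ⟨5130, 2, 3⟩) (.one ⟨8969, 2, 6⟩))) (.node 2 (.node 1 (.one ⟨5699, 2, 3⟩) (.one ⟨15292, 3, 4⟩)) (.node 1 (.one ⟨6232, 2, 5⟩) (.one ⟨14277, 2, 3⟩)))) (.node 4 (.node 2 (.node 1 (.one ⟨16504, 1, 4⟩) (.one ⟨15433, 3, 5⟩)) (.node 1 (.one ⟨11887, 1, 5⟩) (.one ⟨7543, 1, 4⟩))) (.node 2 (.node 1 (.one ⟨1120, 3, 3⟩) (.one ⟨14278, 2, 4⟩)) (.node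 1 (.one ⟨3308, 0, 4⟩) (.one ⟨2916, 1, 3⟩))))) (.node 8 (.node 4 (.node 2 (.node 1 (.one ⟨9541, 2, 1⟩) (.one ⟨4863, 2, 4⟩)) (.node 1 (.one ⟨15555, 1, 2⟩) (.one ⟨2179, 2, 3⟩))) (.node 2 (.node 1 (.one ⟨6990, 2, 4⟩) (.one ⟨3015, 0, 2⟩)) (.node 1 (.one ⟨12977, 2, 5⟩) (.one ⟨11782, 3, 5⟩)))) (.node 4 (.node 2 (.node 1 (.one ⟨13760, 2, 4⟩) (.one ⟨15953, 2, 4⟩)) (.node 1 (.one ⟨16062, 3, 6⟩) (.one ⟨10009, 2, 5⟩))) (.node 2 (.node 1 (.one ⟨6544, 2, 3⟩) (.one ⟨5849, 3, 3⟩)) (.node 1 (.one ⟨11624, 2, 5⟩) (.one ⟨14724, 1, 4⟩)))))))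
def par4_2_12 : Arr Par :=
  (.node 32 (.node 16 (.node 8 (.node 4 (.node 2 (.node 1 (.one ⟨4191, 2, 6⟩) (.one ⟨5605, 3, 6⟩)) (.node 1 (.one ⟨1640, 2, 6⟩) (.one ⟨9605, 0, 1⟩))) (.node 2 (.node 1 (.one ⟨1111, 3, 5⟩) (.one ⟨9521, 3, 4⟩)) (.node 1 (.one ⟨294, 1, 4⟩) (.one ⟨3808, 3, 5⟩)))) (.node 4 (.node 2 (.node 1 (.one ⟨6578, 1, 5⟩) (.one ⟨5501, 0, 2⟩)) (.node 1 (.one ⟨6546, 1, 4⟩) (.one ⟨14214, 3, 4⟩))) (.node 2 (.node 1 (.one ⟨5703, 2, 5⟩) (.one ⟨8501, 3, 5⟩)) (.node 1 (.one ⟨9532, 3, 5⟩) (.one ⟨3843, 2, 4⟩))))) (.node 8 (.node 4 (.node 2 (.node 1 (.one ⟨15139, 1, 2⟩) (.one ⟨11813, 3, 5⟩)) (.node 1 (.one ⟨7677, 1, 4⟩) (.one ⟨10782, 1, 3⟩))) (.node 2 (.node 1 (.one ⟨16602, 1, 6⟩) (.one ⟨17022, 0, 4⟩)) (.node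 1 (.one ⟨13552, 2, 4⟩) (.one ⟨12429, 2, 3⟩)))) (.node 4 (.node 2 (.node 1 (.one ⟨6299, 1, 4⟩) (.one ⟨376, 2, 5⟩)) (.node 1 (.one ⟨875, 2, 5⟩) (.one ⟨7697, 3, 5⟩))) (.node 2 (.node 1 (.one ⟨10917, 1, 5⟩) (.one ⟨2273, 0, 4⟩)) (.node 1 (.one ⟨12427, 2, 5⟩) (.one ⟨9851, 3, 5⟩)))))) (.node 16 (.node 8 (.node 4 (.node 2 (.node 1 (.one ⟨2988, 0, 5⟩) (.one ⟨12177, 3, 6⟩)) (.node 1 (.one ⟨9586, 3, 3⟩) (.one ⟨9848, 1, 4⟩))) (.node 2 (.node 1 (.one ⟨13215, 1, 5⟩) (.one ⟨4249, 1, 4⟩)) (.node 1 (.one ⟨3015, 1, 2⟩) (.one ⟨15551, 1, 5⟩)))) (.node 4 (.node 2 (.node 1 (.one ⟨3112, 2, 5⟩) (.one ⟨1235, 0, 2⟩)) (.node 1 (.one ⟨2728, 2, 1⟩) (.one ⟨4049, 2, 1⟩))) (.node 2 (.node 1 (.one ⟨10985, 1, 3⟩) (.one ⟨4808, 2, 5⟩)) (.node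 1 (.one ⟨11264, 2, 4⟩) (.one ⟨7549, 1, 3⟩))))) (.node 8 (.node 4 (.node 2 (.node 1 (.one ⟨9090, 3, 4⟩) (.one ⟨12076, 3, 4⟩)) (.node 1 (.one ⟨246, 0, 4⟩) (.one ⟨1058, 2, 4⟩))) (.node 2 (.node 1 (.one ⟨10563, 2, 3⟩) (.one ⟨16011, 1, 4⟩)) (.node 1 (.one ⟨17065, 3, 5⟩) (.one ⟨6315, 2, 4⟩)))) (.node 4 (.node 2 (.node 1 (.one ⟨998, 1, 6⟩) (.one ⟨3044, 2, 2⟩)) (.node 1 (.one ⟨4940, 0, 4⟩) (.one ⟨16158, 3, 6⟩))) (.node 2 (.node 1 (.one ⟨10680, 2, 4⟩) (.one ⟨6077, 3, 3⟩)) (.node 1 (.one ⟨5816, 3, 5⟩) (.one ⟨15093, 1, 5⟩)))))))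
def par4_2_13 : Arr Par :=
  (.node 32 (.node 16 (.node 8 (.node 4 (.node 2 (.node 1 (.one ⟨5821, 3, 4⟩) (.one ⟨16399, 2, 5⟩)) (.node 1 (.one ⟨16172, 0, 4⟩) (.one ⟨4467, 1, 5⟩))) (.node 2 (.node 1 (.one ⟨5260, 1, 4⟩) (.one ⟨4646, 0, 3⟩)) (.node 1 (.one ⟨4355, 0, 4⟩) (.one ⟨2576, 2, 4⟩)))) (.node 4 (.node 2 (.node 1 (.one ⟨12782, 1, 4⟩) (.one ⟨821, 2, 4⟩)) (.node 1 (.one ⟨16128, 0, 4⟩) (.one ⟨61, 3, 2⟩))) (.node 2 (.node 1 (.one ⟨4353, 1, 4⟩) (.one ⟨2563, 2, 5⟩)) (.node 1 (.one ⟨8960, 2, 5⟩) (.one ⟨16960, 3, 4⟩))))) (.node 8 (.node 4 (.node 2 (.node 1 (.one ⟨5106, 3, 1⟩) (.one ⟨10041, 3, 5⟩)) (.node 1 (.one ⟨1802, 2, 4⟩) (.one ⟨14101, 1, 5⟩))) (.node 2 (.node 1 (.one ⟨9273, 3, 5⟩) (.one ⟨5505, 3, 5⟩)) (.node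 1 (.one ⟨17074, 3, 4⟩) (.one ⟨14220, 2, 4⟩)))) (.node 4 (.node 2 (.node 1 (.one ⟨6121, 3, 6⟩) (.one ⟨852, 3, 4⟩)) (.node 1 (.one ⟨7298, 0, 2⟩) (.one ⟨15780, 1, 3⟩))) (.node 2 (.node 1 (.one ⟨10427, 3, 5⟩) (.one ⟨6572, 2, 3⟩)) (.node 1 (.one ⟨16004, 1, 6⟩) (.one ⟨16353, 3, 4⟩)))))) (.node 16 (.node 8 (.node 4 (.node 2 (.node 1 (.one ⟨6374, 2, 3⟩) (.one ⟨13743, 0, 5⟩)) (.node 1 (.one ⟨6958, 0, 6⟩) (.one ⟨276, 3, 4⟩))) (.node 2 (.node 1 (.one ⟨365, 2, 2⟩) (.one ⟨6172, 3, 5⟩)) (.node 1 (.one ⟨13657, 3, 6⟩) (.one ⟨5820, 3, 5⟩)))) (.node 4 (.node 2 (.node 1 (.one ⟨13912, 2, 5⟩) (.one ⟨11925, 2, 4⟩)) (.node 1 (.one ⟨11516, 3, 3⟩) (.one ⟨983, 1, 4⟩))) (.node 2 (.node 1 (.one ⟨2736, 1, 5⟩) (.one ⟨3988, 1, 5⟩)) (.node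 1 (.one ⟨5241, 1, 5⟩) (.one ⟨9556, 2, 3⟩))))) (.node 8 (.node 4 (.node 2 (.node 1 (.one ⟨8895, 1, 4⟩) (.one ⟨12429, 0, 3⟩)) (.node 1 (.one ⟨16094, 0, 5⟩) (.one ⟨11130, 0, 5⟩))) (.node 2 (.node 1 (.one ⟨2724, 3, 6⟩) (.one ⟨13704, 0, 3⟩)) (.node 1 (.one ⟨10142, 1, 4⟩) (.one ⟨3754, 0, 4⟩)))) (.node 4 (.node 2 (.node 1 (.one ⟨2410, 1, 5⟩) (.one ⟨8355, 2, 5⟩)) (.node 1 (.one ⟨9010, 2, 5⟩) (.one ⟨6133, 0, 4⟩))) (.node 2 (.node 1 (.one ⟨8767, 0, 3⟩) (.one ⟨13439, 3, 5⟩)) (.node 1 (.one ⟨2088, 1, 5⟩) (.one ⟨16137, 3, 5⟩)))))))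
def par4_2_14 : Arr Par :=
  (.node 32 (.node 16 (.node 8 (.node 4 (.node 2 (.node 1 (.one ⟨13244, 2, 3⟩) (.one ⟨1956, 2, 5⟩)) (.node 1 (.one ⟨3154, 2, 5⟩) (.one ⟨16819, 2, 4⟩))) (.node 2 (.node 1 (.one ⟨12838, 1, 4⟩) (.one ⟨7439, 2, 5⟩)) (.node 1 (.one ⟨6914, 1, 5⟩) (.one ⟨9632, 0, 4⟩)))) (.node 4 (.node 2 (.node 1 (.one ⟨6646, 1, 5⟩) (.one ⟨3580, 3, 6⟩)) (.node 1 (.one ⟨13860, 3, 5⟩) (.one ⟨11711, 3, 5⟩))) (.node 2 (.node 1 (.one ⟨6001, 3, 5⟩) (.one ⟨999, 2, 3⟩)) (.node 1 (.one ⟨16074, 3, 4⟩) (.one ⟨2949, 1, 6⟩))))) (.node 8 (.node 4 (.node 2 (.node 1 (.one ⟨6368, 0, 3⟩) (.one ⟨5348, 0, 5⟩)) (.node 1 (.one ⟨15329, 2, 3⟩) (.one ⟨14427, 1, 2⟩))) (.node 2 (.node 1 (.one ⟨8398, 0, 4⟩) (.one ⟨10644, 2, 3⟩)) (.node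 1 (.one ⟨12680, 0, 5⟩) (.one ⟨17138, 3, 6⟩)))) (.node 4 (.node 2 (.node 1 (.one ⟨2343, 3, 5⟩) (.one ⟨13366, 0, 3⟩)) (.node 1 (.one ⟨8798, 2, 4⟩) (.one ⟨15899, 2, 2⟩))) (.node 2 (.node 1 (.one ⟨1299, 2, 4⟩) (.one ⟨2549, 0, 5⟩)) (.node 1 (.one ⟨4907, 3, 6⟩) (.one ⟨15041, 1, 2⟩)))))) (.node 16 (.node 8 (.node 4 (.node 2 (.node 1 (.one ⟨1258, 2, 4⟩) (.one ⟨6929, 2, 2⟩)) (.node 1 (.one ⟨1547, 3, 4⟩) (.one ⟨904, 1, 4⟩))) (.node 2 (.node 1 (.one ⟨8678, 2, 3⟩) (.one ⟨3531, 2, 5⟩)) (.node 1 (.one ⟨13900, 0, 4⟩) (.one ⟨12833, 0, 5⟩)))) (.node 4 (.node 2 (.node 1 (.one ⟨11511, 3, 4⟩) (.one ⟨14255, 3, 5⟩)) (.node 1 (.one ⟨13416, 3, 2⟩) (.one ⟨15216, 1, 5⟩))) (.node 2 (.node 1 (.one ⟨1936, 2, 4⟩) (.one ⟨9673, 1, 5⟩)) (.node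 1 (.one ⟨8066, 3, 3⟩) (.one ⟨9224, 1, 4⟩))))) (.node 8 (.node 4 (.node 2 (.node 1 (.one ⟨17073, 0, 3⟩) (.one ⟨4313, 2, 3⟩)) (.node 1 (.one ⟨12186, 0, 4⟩) (.one ⟨1910, 1, 0⟩))) (.node 2 (.node 1 (.one ⟨12108, 2, 5⟩) (.one ⟨12295, 3, 4⟩)) (.node 1 (.one ⟨16899, 3, 6⟩) (.one ⟨7805, 1, 5⟩)))) (.node 4 (.node 2 (.node 1 (.one ⟨16675, 1, 3⟩) (.one ⟨5015, 3, 3⟩)) (.node 1 (.one ⟨11645, 3, 6⟩) (.one ⟨1749, 0, 5⟩))) (.node 2 (.node 1 (.one ⟨15716, 1, 4⟩) (.one ⟨10776, 0, 5⟩)) (.node 1 (.one ⟨14309, 0, 4⟩) (.one ⟨3356, 3, 6⟩)))))))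
def par4_2_15 : Arr Par :=
  (.node 32 (.node 16 (.node 8 (.node 4 (.node 2 (.node 1 (.one ⟨1291, 0, 3⟩) (.one ⟨2341, 2, 4⟩)) (.node 1 (.one ⟨9027, 0, 2⟩) (.one ⟨5530, 1, 2⟩))) (.node 2 (.node 1 (.one ⟨4393, 0, 5⟩) (.one ⟨11390, 3, 5⟩)) (.node 1 (.one ⟨6696, 0, 4⟩) (.one ⟨12484, 2, 1⟩)))) (.node 4 (.node 2 (.node 1 (.one ⟨17188, 3, 3⟩) (.one ⟨823, 1, 5⟩)) (.node 1 (.one ⟨2088, 0, 5⟩) (.one ⟨11831, 1, 5⟩))) (.node 2 (.node 1 (.one ⟨9684, 3, 6⟩) (.one ⟨932, 1, 4⟩)) (.node 1 (.one ⟨11265, 2, 5⟩) (.one ⟨12784, 0, 5⟩))))) (.node 8 (.node 4 (.node 2 (.node 1 (.one ⟨8525, 1, 5⟩) (.one ⟨4864, 2, 3⟩)) (.node 1 (.one ⟨9526, 1, 4⟩) (.one ⟨16122, 1, 5⟩))) (.node 2 (.node 1 (.one ⟨7758, 1, 3⟩) (.one ⟨2850, 1, 4⟩)) (.node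 1 (.one ⟨11158, 1, 6⟩) (.one ⟨9500, 3, 3⟩)))) (.node 4 (.node 2 (.node 1 (.one ⟨275, 1, 4⟩) (.one ⟨1566, 3, 5⟩)) (.node 1 (.one ⟨2477, 1, 4⟩) (.one ⟨2127, 2, 3⟩))) (.node 2 (.node 1 (.one ⟨12295, 1, 4⟩) (.one ⟨9186, 2, 4⟩)) (.node 1 (.one ⟨7545, 3, 4⟩) (.one ⟨5882, 0, 4⟩)))))) (.node 16 (.node 8 (.node 4 (.node 2 (.node 1 (.one ⟨13580, 3, 4⟩) (.one ⟨9224, 0, 4⟩)) (.node 1 (.one ⟨3120, 2, 5⟩) (.one ⟨16934, 3, 4⟩))) (.node 2 (.node 1 (.one ⟨1328, 3, 1⟩) (.one ⟨173, 0, 5⟩)) (.node 1 (.one ⟨9572, 1, 6⟩) (.one ⟨2477, 2, 4⟩)))) (.node 4 (.node 2 (.node 1 (.one ⟨8825, 0, 5⟩) (.one ⟨14854, 3, 4⟩)) (.node 1 (.one ⟨16122, 2, 5⟩) (.one ⟨5892, 3, 4⟩))) (.node 2 (.node 1 (.one ⟨1432, 1, 4⟩) (.one ⟨16193, 2, 5⟩)) (.node 1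 (.one ⟨15716, 2, 4⟩) (.one ⟨11791, 0, 4⟩))))) (.node 8 (.node 4 (.node 2 (.node 1 (.one ⟨15714, 2, 4⟩) (.one ⟨6198, 0, 4⟩)) (.node 1 (.one ⟨9220, 1, 4⟩) (.one ⟨9740, 3, 4⟩))) (.node 2 (.node 1 (.one ⟨132, 3, 5⟩) (.one ⟨15626, 0, 2⟩)) (.node 1 (.one ⟨9883, 3, 5⟩) (.one ⟨11879, 3, 5⟩)))) (.node 4 (.node 2 (.node 1 (.one ⟨4955, 2, 3⟩) (.one ⟨2300, 2, 5⟩)) (.node 1 (.one ⟨4959, 0, 5⟩) (.one ⟨6302, 3, 5⟩))) (.node 2 (.node 1 (.one ⟨14175, 1, 3⟩) (.one ⟨16078, 3, 4⟩)) (.node 1 (.one ⟨308, 2, 5⟩) (.one ⟨1013, 3, 6⟩)))))))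
def par4_2 : Arr Par :=
  (.node 512 (.node 256 (.node 128 (.node 64 par4_2_0 par4_2_1) (.node 64 par4_2_2 par4_2_3)) (.node 128 (.node 64 par4_2_4 par4_2_5) (.node 64 par4_2_6 par4_2_7))) (.node 256 (.node 128 (.node 64 par4_2_8 par4_2_9) (.node 64 par4_2_10 par4_2_11)) (.node 128 (.node 64 par4_2_12 par4_2_13) (.node 64 par4_2_14 par4_2_15))))
def par4_3_0 : Arr Par :=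
  (.node 32 (.node 16 (.node 8 (.node 4 (.node 2 (.node 1 (.one ⟨6223, 3, 4⟩) (.one ⟨1425, 1, 5⟩)) (.node 1 (.one ⟨14655, 3, 4⟩) (.one ⟨15810, 1, 2⟩))) (.node 2 (.node 1 (.one ⟨8475, 2, 4⟩) (.one ⟨12295, 2, 4⟩)) (.node 1 (.one ⟨14665, 2, 5⟩) (.one ⟨137, 1, 4⟩)))) (.node 4 (.node 2 (.node 1 (.one ⟨3281, 3, 1⟩) (.one ⟨6716, 3, 6⟩)) (.node 1 (.one ⟨11870, 1, 5⟩) (.one ⟨806, 3, 4⟩))) (.node 2 (.node 1 (.one ⟨771, 1, 5⟩) (.one ⟨13608, 0, 5⟩)) (.node 1 (.one ⟨11867, 1, 5⟩) (.one ⟨2639, 3, 3⟩))))) (.node 8 (.node 4 (.node 2 (.node 1 (.one ⟨9346, 0, 4⟩) (.one ⟨15092, 0, 4⟩)) (.node 1 (.one ⟨5981, 2, 2⟩) (.one ⟨6753, 0, 3⟩))) (.node 2 (.node 1 (.one ⟨16343, 3, 5⟩) (.one ⟨5036, 3, 5⟩)) (.node 1 (.one ⟨309, 3, 5⟩) (.one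 ⟨3860, 1, 0⟩)))) (.node 4 (.node 2 (.node 1 (.one ⟨4245, 1, 4⟩) (.one ⟨8514, 3, 5⟩)) (.node 1 (.one ⟨1014, 1, 5⟩) (.one ⟨4227, 3, 5⟩))) (.node 2 (.node 1 (.one ⟨6511, 0, 2⟩) (.one ⟨12146, 2, 3⟩)) (.node 1 (.one ⟨11380, 2, 3⟩) (.one ⟨3979, 3, 6⟩)))))) (.node 16 (.node 8 (.node 4 (.node 2 (.node 1 (.one ⟨9580, 1, 6⟩) (.one ⟨12776, 2, 4⟩)) (.node 1 (.one ⟨5878, 2, 5⟩) (.one ⟨1758, 2, 5⟩))) (.node 2 (.node 1 (.one ⟨710, 1, 5⟩) (.one ⟨14227, 2, 5⟩)) (.node 1 (.one ⟨15982, 1, 4⟩) (.one ⟨16192, 1, 4⟩)))) (.node 4 (.node 2 (.node 1 (.one ⟨6257, 0, 4⟩) (.one ⟨2470, 2, 4⟩)) (.node 1 (.one ⟨10623, 2, 5⟩) (.one ⟨6733, 1, 4⟩))) (.node 2 (.node 1 (.one ⟨12647, 1, 6⟩) (.one ⟨133, 3, 6⟩)) (.node 1 (.one ⟨7399, 1, 2⟩) (.one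 ⟨9261, 1, 3⟩))))) (.node 8 (.node 4 (.node 2 (.node 1 (.one ⟨10514, 1, 4⟩) (.one ⟨7602, 3, 5⟩)) (.node 1 (.one ⟨6282, 2, 3⟩) (.one ⟨14321, 2, 3⟩))) (.node 2 (.node 1 (.one ⟨5085, 3, 3⟩) (.one ⟨7151, 3, 4⟩)) (.node 1 (.one ⟨4282, 2, 3⟩) (.one ⟨13761, 2, 4⟩)))) (.node 4 (.node 2 (.node 1 (.one ⟨11292, 3, 4⟩) (.one ⟨11353, 0, 4⟩)) (.node 1 (.one ⟨13565, 2, 2⟩) (.one ⟨1347, 1, 4⟩))) (.node 2 (.node 1 (.one ⟨5383, 1, 3⟩) (.one ⟨12562, 1, 6⟩)) (.node 1 (.one ⟨7212, 2, 5⟩) (.one ⟨13279, 1, 6⟩)))))))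
def par4_3_1 : Arr Par :=
  (.node 32 (.node 16 (.node 8 (.node 4 (.node 2 (.node 1 (.one ⟨4139, 3, 5⟩) (.one ⟨10857, 2, 4⟩)) (.node 1 (.one ⟨2436, 1, 3⟩) (.one ⟨15110, 3, 5⟩))) (.node 2 (.node 1 (.one ⟨14375, 0, 4⟩) (.one ⟨9921, 2, 4⟩)) (.node 1 (.one ⟨6612, 1, 3⟩) (.one ⟨15467, 3, 4⟩)))) (.node 4 (.node 2 (.node 1 (.one ⟨10997, 2, 3⟩) (.one ⟨4319, 3, 4⟩)) (.node 1 (.one ⟨12506, 0, 4⟩) (.one ⟨11311, 2, 5⟩))) (.node 2 (.node 1 (.one ⟨16129, 1, 4⟩) (.one ⟨2674, 2, 5⟩)) (.node 1 (.one ⟨1828, 3, 4⟩) (.one ⟨6155, 2, 4⟩))))) (.node 8 (.node 4 (.node 2 (.node 1 (.one ⟨14663, 0, 4⟩) (.one ⟨15643, 2, 6⟩)) (.node 1 (.one ⟨3365, 2, 4⟩) (.one ⟨3726, 2, 5⟩))) (.node 2 (.node 1 (.one ⟨6326, 3, 4⟩) (.one ⟨9398, 3, 6⟩)) (.node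 1 (.one ⟨12452, 1, 5⟩) (.one ⟨12010, 3, 1⟩)))) (.node 4 (.node 2 (.node 1 (.one ⟨2158, 3, 5⟩) (.one ⟨1687, 3, 5⟩)) (.node 1 (.one ⟨12484, 3, 1⟩) (.one ⟨2242, 2, 6⟩))) (.node 2 (.node 1 (.one ⟨10810, 3, 5⟩) (.one ⟨9654, 0, 6⟩)) (.node 1 (.one ⟨5177, 3, 5⟩) (.one ⟨0, 3, 4⟩)))))) (.node 16 (.node 8 (.node 4 (.node 2 (.node 1 (.one ⟨16759, 1, 5⟩) (.one ⟨3264, 2, 5⟩)) (.node 1 (.one ⟨12586, 1, 5⟩) (.one ⟨1258, 3, 4⟩))) (.node 2 (.node 1 (.one ⟨16676, 1, 5⟩) (.one ⟨3267, 2, 4⟩)) (.node 1 (.one ⟨9000, 3, 6⟩) (.one ⟨4028, 0, 6⟩)))) (.node 4 (.node 2 (.node 1 (.one ⟨3918, 2, 4⟩) (.one ⟨8448, 1, 5⟩)) (.node 1 (.one ⟨1955, 3, 4⟩) (.one ⟨16876, 3, 3⟩))) (.node 2 (.node 1 (.one ⟨13669, 3, 4⟩) (.one ⟨1692, 2, 3⟩)) (.node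 1 (.one ⟨12751, 1, 4⟩) (.one ⟨7710, 0, 4⟩))))) (.node 8 (.node 4 (.node 2 (.node 1 (.one ⟨3985, 1, 5⟩) (.one ⟨15658, 3, 4⟩)) (.node 1 (.one ⟨13454, 2, 3⟩) (.one ⟨9951, 3, 4⟩))) (.node 2 (.node 1 (.one ⟨10147, 2, 4⟩) (.one ⟨314, 3, 5⟩)) (.node 1 (.one ⟨10373, 2, 4⟩) (.one ⟨8577, 3, 5⟩)))) (.node 4 (.node 2 (.node 1 (.one ⟨6151, 0, 4⟩) (.one ⟨15393, 2, 5⟩)) (.node 1 (.one ⟨5631, 0, 5⟩) (.one ⟨14620, 2, 4⟩))) (.node 2 (.node 1 (.one ⟨8575, 3, 5⟩) (.one ⟨8582, 3, 4⟩)) (.node 1 (.one ⟨8579, 3, 5⟩) (.one ⟨1477, 1, 4⟩)))))))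
def par4_3_2 : Arr Par :=
  (.node 32 (.node 16 (.node 8 (.node 4 (.node 2 (.node 1 (.one ⟨16569, 3, 4⟩) (.one ⟨8617, 3, 4⟩)) (.node 1 (.one ⟨964, 2, 5⟩) (.one ⟨643, 2, 1⟩))) (.node 2 (.node 1 (.one ⟨8586, 3, 4⟩) (.one ⟨10777, 1, 4⟩)) (.node 1 (.one ⟨431, 2, 5⟩) (.one ⟨12032, 1, 3⟩)))) (.node 4 (.node 2 (.node 1 (.one ⟨6371, 2, 2⟩) (.one ⟨9922, 1, 5⟩)) (.node 1 (.one ⟨11190, 3, 5⟩) (.one ⟨8706, 2, 3⟩))) (.node 2 (.node 1 (.one ⟨3095, 2, 1⟩) (.one ⟨14327, 1, 5⟩)) (.node 1 (.one ⟨1071, 0, 6⟩) (.one ⟨13729, 2, 6⟩))))) (.node 8 (.node 4 (.node 2 (.node 1 (.one ⟨15280, 2, 5⟩) (.one ⟨11272, 2, 6⟩)) (.node 1 (.one ⟨7790, 3, 4⟩) (.one ⟨3126, 2, 4⟩))) (.node 2 (.node 1 (.one ⟨12193, 0, 4⟩) (.one ⟨16566, 3, 4⟩)) (.node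 1 (.one ⟨2580, 1, 5⟩) (.one ⟨4319, 0, 4⟩)))) (.node 4 (.node 2 (.node 1 (.one ⟨14090, 3, 4⟩) (.one ⟨9831, 0, 4⟩)) (.node 1 (.one ⟨2656, 2, 4⟩) (.one ⟨3610, 3, 5⟩))) (.node 2 (.node 1 (.one ⟨12848, 3, 5⟩) (.one ⟨15248, 1, 4⟩)) (.node 1 (.one ⟨12693, 2, 5⟩) (.one ⟨12183, 2, 4⟩)))))) (.node 16 (.node 8 (.node 4 (.node 2 (.node 1 (.one ⟨9168, 1, 5⟩) (.one ⟨11057, 2, 4⟩)) (.node 1 (.one ⟨656, 0, 4⟩) (.one ⟨7059, 3, 4⟩))) (.node 2 (.node 1 (.one ⟨14439, 3, 6⟩) (.one ⟨5439, 0, 5⟩)) (.node 1 (.one ⟨6203, 0, 5⟩) (.one ⟨3697, 3, 4⟩)))) (.node 4 (.node 2 (.node 1 (.one ⟨13130, 0, 4⟩) (.one ⟨13898, 0, 5⟩)) (.node 1 (.one ⟨12674, 3, 5⟩) (.one ⟨10561, 2, 6⟩))) (.node 2 (.node 1 (.one ⟨17006, 0, 2⟩) (.one ⟨3764, 3, 5⟩)) (.node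 1 (.one ⟨2993, 3, 4⟩) (.one ⟨10255, 3, 5⟩))))) (.node 8 (.node 4 (.node 2 (.node 1 (.one ⟨13261, 1, 3⟩) (.one ⟨13416, 0, 2⟩)) (.node 1 (.one ⟨4393, 1, 5⟩) (.one ⟨357, 2, 7⟩))) (.node 2 (.node 1 (.one ⟨16980, 1, 3⟩) (.one ⟨4910, 3, 3⟩)) (.node 1 (.one ⟨3559, 2, 2⟩) (.one ⟨5712, 3, 5⟩)))) (.node 4 (.node 2 (.node 1 (.one ⟨1490, 3, 3⟩) (.one ⟨15990, 0, 5⟩)) (.node 1 (.one ⟨11375, 3, 5⟩) (.one ⟨11537, 3, 5⟩))) (.node 2 (.node 1 (.one ⟨5844, 2, 4⟩) (.one ⟨10855, 2, 4⟩)) (.node 1 (.one ⟨13969, 0, 6⟩) (.one ⟨15998, 2, 6⟩)))))))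
def par4_3_3 : Arr Par :=
  (.node 32 (.node 16 (.node 8 (.node 4 (.node 2 (.node 1 (.one ⟨391, 3, 4⟩) (.one ⟨2819, 3, 2⟩)) (.node 1 (.one ⟨7769, 3, 5⟩) (.one ⟨959, 2, 3⟩))) (.node 2 (.node 1 (.one ⟨11119, 3, 3⟩) (.one ⟨10022, 3, 5⟩)) (.node 1 (.one ⟨15993, 2, 3⟩) (.one ⟨15939, 1, 5⟩)))) (.node 4 (.node 2 (.node 1 (.one ⟨3353, 1, 5⟩) (.one ⟨1599, 2, 5⟩)) (.node 1 (.one ⟨5546, 3, 4⟩) (.one ⟨9719, 2, 5⟩))) (.node 2 (.node 1 (.one ⟨12440, 0, 4⟩) (.one ⟨4277, 0, 5⟩)) (.node 1 (.one ⟨12811, 0, 5⟩) (.one ⟨4690, 1, 4⟩))))) (.node 8 (.node 4 (.node 2 (.node 1 (.one ⟨1728, 1, 3⟩) (.one ⟨1131, 1, 0⟩)) (.node 1 (.one ⟨2928, 2, 5⟩) (.one ⟨15550, 3, 3⟩))) (.node 2 (.node 1 (.one ⟨7871, 3, 5⟩) (.one ⟨4652, 2, 5⟩)) (.node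 1 (.one ⟨11314, 1, 3⟩) (.one ⟨329, 1, 0⟩)))) (.node 4 (.node 2 (.node 1 (.one ⟨12293, 3, 5⟩) (.one ⟨12207, 3, 6⟩)) (.node 1 (.one ⟨318, 2, 5⟩) (.one ⟨7277, 1, 5⟩))) (.node 2 (.node 1 (.one ⟨14313, 0, 6⟩) (.one ⟨1104, 3, 5⟩)) (.node 1 (.one ⟨10197, 2, 4⟩) (.one ⟨14120, 1, 5⟩)))))) (.node 16 (.node 8 (.node 4 (.node 2 (.node 1 (.one ⟨10579, 3, 5⟩) (.one ⟨8679, 1, 6⟩)) (.node 1 (.one ⟨16128, 2, 4⟩) (.one ⟨5651, 3, 4⟩))) (.node 2 (.node 1 (.one ⟨3067, 2, 6⟩) (.one ⟨12290, 3, 4⟩)) (.node 1 (.one ⟨11767, 2, 5⟩) (.one ⟨17005, 2, 4⟩)))) (.node 4 (.node 2 (.node 1 (.one ⟨2534, 3, 4⟩) (.one ⟨1454, 0, 3⟩)) (.node 1 (.one ⟨9319, 3, 3⟩) (.one ⟨12856, 0, 5⟩))) (.node 2 (.node 1 (.one ⟨7347, 3, 3⟩) (.one ⟨17006, 2, 2⟩)) (.node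 1 (.one ⟨15099, 3, 4⟩) (.one ⟨11449, 0, 4⟩))))) (.node 8 (.node 4 (.node 2 (.node 1 (.one ⟨4700, 1, 5⟩) (.one ⟨12775, 1, 4⟩)) (.node 1 (.one ⟨14880, 2, 4⟩) (.one ⟨2556, 3, 4⟩))) (.node 2 (.node 1 (.one ⟨4086, 2, 4⟩) (.one ⟨11550, 2, 5⟩)) (.node 1 (.one ⟨14297, 2, 4⟩) (.one ⟨8212, 3, 5⟩)))) (.node 4 (.node 2 (.node 1 (.one ⟨15397, 2, 3⟩) (.one ⟨3427, 0, 5⟩)) (.node 1 (.one ⟨15785, 3, 5⟩) (.one ⟨16146, 1, 3⟩))) (.node 2 (.node 1 (.one ⟨8113, 0, 4⟩) (.one ⟨9261, 3, 3⟩)) (.node 1 (.one ⟨6769, 2, 4⟩) (.one ⟨16134, 2, 3⟩)))))))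
def par4_3_4 : Arr Par :=
  (.node 32 (.node 16 (.node 8 (.node 4 (.node 2 (.node 1 (.one ⟨13254, 0, 5⟩) (.one ⟨12256, 1, 3⟩)) (.node 1 (.one ⟨12804, 2, 3⟩) (.one ⟨7612, 1, 3⟩))) (.node 2 (.node 1 (.one ⟨5993, 1, 3⟩) (.one ⟨12620, 2, 5⟩)) (.node 1 (.one ⟨538, 0, 5⟩) (.one ⟨3064, 3, 4⟩)))) (.node 4 (.node 2 (.node 1 (.one ⟨13302, 2, 5⟩) (.one ⟨2633, 2, 4⟩)) (.node 1 (.one ⟨2838, 3, 5⟩) (.one ⟨3917, 3, 2⟩))) (.node 2 (.node 1 (.one ⟨14581, 2, 2⟩) (.one ⟨14315, 0, 4⟩)) (.node 1 (.one ⟨13015, 2, 4⟩) (.one ⟨5615, 1, 4⟩))))) (.node 8 (.node 4 (.node 2 (.node 1 (.one ⟨16991, 1, 4⟩) (.one ⟨7033, 1, 4⟩)) (.node 1 (.one ⟨170, 2, 5⟩) (.one ⟨4569, 0, 4⟩))) (.node 2 (.node 1 (.one ⟨7420, 3, 5⟩) (.one ⟨11388, 3, 5⟩)) (.node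 1 (.one ⟨3125, 1, 5⟩) (.one ⟨6759, 3, 5⟩)))) (.node 4 (.node 2 (.node 1 (.one ⟨6606, 1, 3⟩) (.one ⟨6891, 3, 4⟩)) (.node 1 (.one ⟨5543, 3, 5⟩) (.one ⟨1974, 3, 5⟩))) (.node 2 (.node 1 (.one ⟨15269, 1, 5⟩) (.one ⟨14316, 2, 5⟩)) (.node 1 (.one ⟨8213, 3, 6⟩) (.one ⟨9228, 3, 6⟩)))))) (.node 16 (.node 8 (.node 4 (.node 2 (.node 1 (.one ⟨16902, 2, 4⟩) (.one ⟨3902, 2, 6⟩)) (.node 1 (.one ⟨12254, 2, 4⟩) (.one ⟨14233, 0, 5⟩))) (.node 2 (.node 1 (.one ⟨1877, 2, 4⟩) (.one ⟨13084, 1, 3⟩)) (.node 1 (.one ⟨6606, 2, 3⟩) (.one ⟨11236, 3, 5⟩)))) (.node 4 (.node 2 (.node 1 (.one ⟨12623, 3, 5⟩) (.one ⟨7122, 1, 4⟩)) (.node 1 (.one ⟨16869, 3, 5⟩) (.one ⟨6091, 1, 4⟩))) (.node 2 (.node 1 (.one ⟨1524, 3, 3⟩) (.one ⟨7630, 3, 4⟩)) (.node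 1 (.one ⟨9898, 2, 5⟩) (.one ⟨10347, 3, 6⟩))))) (.node 8 (.node 4 (.node 2 (.node 1 (.one ⟨3611, 3, 5⟩) (.one ⟨3900, 2, 5⟩)) (.node 1 (.one ⟨14433, 0, 4⟩) (.one ⟨4526, 2, 5⟩))) (.node 2 (.node 1 (.one ⟨11390, 1, 5⟩) (.one ⟨1908, 2, 5⟩)) (.node 1 (.one ⟨1075, 1, 5⟩) (.one ⟨9631, 3, 4⟩)))) (.node 4 (.node 2 (.node 1 (.one ⟨14226, 3, 4⟩) (.one ⟨6823, 3, 5⟩)) (.node 1 (.one ⟨2357, 2, 4⟩) (.one ⟨13012, 0, 6⟩))) (.node 2 (.node 1 (.one ⟨5482, 2, 4⟩) (.one ⟨971, 1, 4⟩)) (.node 1 (.one ⟨3706, 3, 5⟩) (.one ⟨16429, 2, 3⟩)))))))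
def par4_3_5 : Arr Par :=
  (.node 32 (.node 16 (.node 8 (.node 4 (.node 2 (.node 1 (.one ⟨8272, 1, 6⟩) (.one ⟨9594, 1, 4⟩)) (.node 1 (.one ⟨15347, 2, 5⟩) (.one ⟨13422, 0, 5⟩))) (.node 2 (.node 1 (.one ⟨7312, 1, 3⟩) (.one ⟨13086, 1, 5⟩)) (.node 1 (.one ⟨10635, 1, 6⟩) (.one ⟨8919, 2, 4⟩)))) (.node 4 (.node 2 (.node 1 (.one ⟨2345, 0, 4⟩) (.one ⟨2649, 2, 5⟩)) (.node 1 (.one ⟨16427, 2, 5⟩) (.one ⟨12370, 3, 4⟩))) (.node 2 (.node 1 (.one ⟨1364, 0, 4⟩) (.one ⟨4191, 3, 6⟩)) (.node 1 (.one ⟨11136, 0, 4⟩) (.one ⟨4476, 3, 4⟩))))) (.node 8 (.node 4 (.node 2 (.node 1 (.one ⟨13382, 2, 4⟩) (.one ⟨4303, 1, 4⟩)) (.node 1 (.one ⟨225, 2, 3⟩) (.one ⟨8872, 3, 4⟩))) (.node 2 (.node 1 (.one ⟨13157, 0, 5⟩) (.one ⟨11808, 2, 4⟩)) (.node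 1 (.one ⟨3028, 2, 4⟩) (.one ⟨33, 2, 5⟩)))) (.node 4 (.node 2 (.node 1 (.one ⟨2641, 3, 5⟩) (.one ⟨2903, 3, 5⟩)) (.node 1 (.one ⟨6546, 3, 4⟩) (.one ⟨2091, 2, 5⟩))) (.node 2 (.node 1 (.one ⟨13084, 0, 3⟩) (.one ⟨225, 3, 3⟩)) (.node 1 (.one ⟨10045, 2, 2⟩) (.one ⟨6027, 3, 4⟩)))))) (.node 16 (.node 8 (.node 4 (.node 2 (.node 1 (.one ⟨5585, 1, 2⟩) (.one ⟨131, 0, 5⟩)) (.node 1 (.one ⟨127, 0, 3⟩) (.one ⟨13317, 2, 4⟩))) (.node 2 (.node 1 (.one ⟨11068, 2, 5⟩) (.one ⟨2909, 1, 4⟩)) (.node 1 (.one ⟨14437, 2, 4⟩) (.one ⟨15444, 3, 5⟩)))) (.node 4 (.node 2 (.node 1 (.one ⟨15537, 2, 4⟩) (.one ⟨15669, 1, 5⟩)) (.node 1 (.one ⟨12746, 2, 5⟩) (.one ⟨16694, 3, 4⟩))) (.node 2 (.node 1 (.one ⟨8119, 1, 3⟩) (.one ⟨6240, 1, 4⟩)) (.node 1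 (.one ⟨11967, 1, 4⟩) (.one ⟨6157, 0, 4⟩))))) (.node 8 (.node 4 (.node 2 (.node 1 (.one ⟨15993, 0, 3⟩) (.one ⟨5791, 1, 5⟩)) (.node 1 (.one ⟨14685, 3, 4⟩) (.one ⟨4443, 2, 4⟩))) (.node 2 (.node 1 (.one ⟨519, 0, 3⟩) (.one ⟨7709, 2, 3⟩)) (.node 1 (.one ⟨3691, 2, 5⟩) (.one ⟨7154, 3, 5⟩)))) (.node 4 (.node 2 (.node 1 (.one ⟨10696, 3, 5⟩) (.one ⟨1653, 3, 6⟩)) (.node 1 (.one ⟨15118, 3, 3⟩) (.one ⟨13693, 0, 4⟩))) (.node 2 (.node 1 (.one ⟨14556, 3, 5⟩) (.one ⟨13683, 0, 4⟩)) (.node 1 (.one ⟨11026, 3, 5⟩) (.one ⟨8123, 1, 4⟩)))))))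
def par4_3_6 : Arr Par :=
  (.node 32 (.node 16 (.node 8 (.node 4 (.node 2 (.node 1 (.one ⟨14949, 2, 5⟩) (.one ⟨9777, 3, 3⟩)) (.node 1 (.one ⟨13762, 1, 5⟩) (.one ⟨14660, 3, 5⟩))) (.node 2 (.node 1 (.one ⟨16375, 1, 5⟩) (.one ⟨15724, 2, 4⟩)) (.node 1 (.one ⟨14652, 3, 4⟩) (.one ⟨172, 1, 4⟩)))) (.node 4 (.node 2 (.node 1 (.one ⟨2305, 3, 4⟩) (.one ⟨16559, 3, 4⟩)) (.node 1 (.one ⟨9795, 2, 4⟩) (.one ⟨491, 1, 4⟩))) (.node 2 (.node 1 (.one ⟨4459, 1, 4⟩) (.one ⟨5677, 2, 5⟩)) (.node 1 (.one ⟨8094, 3, 5⟩) (.one ⟨4562, 2, 5⟩))))) (.node 8 (.node 4 (.node 2 (.node 1 (.one ⟨6256, 2, 4⟩) (.one ⟨650, 1, 4⟩)) (.node 1 (.one ⟨4421, 1, 5⟩) (.one ⟨5908, 0, 4⟩))) (.node 2 (.node 1 (.one ⟨204, 1, 4⟩) (.one ⟨8854, 2, 6⟩)) (.node 1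 (.one ⟨10496, 3, 5⟩) (.one ⟨10531, 2, 5⟩)))) (.node 4 (.node 2 (.node 1 (.one ⟨10045, 1, 2⟩) (.one ⟨2141, 1, 3⟩)) (.node 1 (.one ⟨9792, 3, 5⟩) (.one ⟨8347, 1, 4⟩))) (.node 2 (.node 1 (.one ⟨15992, 0, 3⟩) (.one ⟨9795, 3, 4⟩)) (.node 1 (.one ⟨9797, 3, 5⟩) (.one ⟨8643, 0, 5⟩)))))) (.node 16 (.node 8 (.node 4 (.node 2 (.node 1 (.one ⟨869, 0, 4⟩) (.one ⟨16793, 2, 5⟩)) (.node 1 (.one ⟨1062, 1, 5⟩) (.one ⟨13969, 2, 6⟩))) (.node 2 (.node 1 (.one ⟨13315, 2, 5⟩) (.one ⟨4446, 1, 4⟩)) (.node 1 (.one ⟨42, 1, 5⟩) (.one ⟨8135, 1, 4⟩)))) (.node 4 (.node 2 (.node 1 (.one ⟨16137, 0, 5⟩) (.one ⟨1242, 1, 5⟩)) (.node 1 (.one ⟨12023, 1, 3⟩) (.one ⟨7175, 3, 3⟩))) (.node 2 (.node 1 (.one ⟨8294, 1, 4⟩) (.one ⟨12566, 1, 4⟩)) (.node 1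 (.one ⟨14669, 2, 5⟩) (.one ⟨601, 3, 3⟩))))) (.node 8 (.node 4 (.node 2 (.node 1 (.one ⟨11611, 3, 3⟩) (.one ⟨6622, 2, 6⟩)) (.node 1 (.one ⟨8350, 1, 4⟩) (.one ⟨4206, 1, 5⟩))) (.node 2 (.node 1 (.one ⟨6432, 1, 2⟩) (.one ⟨932, 0, 4⟩)) (.node 1 (.one ⟨8076, 1, 4⟩) (.one ⟨14160, 1, 6⟩)))) (.node 4 (.node 2 (.node 1 (.one ⟨8236, 0, 3⟩) (.one ⟨12883, 2, 5⟩)) (.node 1 (.one ⟨6823, 2, 5⟩) (.one ⟨7645, 3, 5⟩))) (.node 2 (.node 1 (.one ⟨16200, 0, 4⟩) (.one ⟨3975, 0, 3⟩)) (.node 1 (.one ⟨2034, 2, 5⟩) (.one ⟨2034, 3, 5⟩)))))))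
def par4_3_7 : Arr Par :=
  (.node 32 (.node 16 (.node 8 (.node 4 (.node 2 (.node 1 (.one ⟨4053, 3, 4⟩) (.one ⟨6342, 2, 3⟩)) (.node 1 (.one ⟨5731, 0, 5⟩) (.one ⟨13625, 1, 5⟩))) (.node 2 (.node 1 (.one ⟨11651, 3, 6⟩) (.one ⟨5798, 0, 5⟩)) (.node 1 (.one ⟨5766, 0, 4⟩) (.one ⟨5912, 1, 4⟩)))) (.node 4 (.node 2 (.node 1 (.one ⟨1913, 1, 4⟩) (.one ⟨3876, 3, 4⟩)) (.node 1 (.one ⟨3253, 1, 4⟩) (.one ⟨3440, 1, 4⟩))) (.node 2 (.node 1 (.one ⟨15790, 3, 3⟩) (.one ⟨256, 1, 5⟩)) (.node 1 (.one ⟨1410, 3, 4⟩) (.one ⟨8462, 0, 6⟩))))) (.node 8 (.node 4 (.node 2 (.node 1 (.one ⟨5145, 0, 4⟩) (.one ⟨8204, 3, 3⟩)) (.node 1 (.one ⟨2450, 3, 5⟩) (.one ⟨6364, 3, 6⟩))) (.node 2 (.node 1 (.one ⟨2240, 2, 5⟩) (.one ⟨3761, 3, 6⟩)) (.node 1 (.one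 ⟨3462, 1, 5⟩) (.one ⟨8180, 0, 5⟩)))) (.node 4 (.node 2 (.node 1 (.one ⟨16530, 3, 6⟩) (.one ⟨16365, 1, 4⟩)) (.node 1 (.one ⟨12447, 1, 5⟩) (.one ⟨14645, 0, 4⟩))) (.node 2 (.node 1 (.one ⟨2986, 1, 3⟩) (.one ⟨5203, 0, 3⟩)) (.node 1 (.one ⟨9877, 1, 4⟩) (.one ⟨3264, 1, 5⟩)))))) (.node 16 (.node 8 (.node 4 (.node 2 (.node 1 (.one ⟨4688, 3, 4⟩) (.one ⟨2658, 3, 4⟩)) (.node 1 (.one ⟨16112, 3, 3⟩) (.one ⟨14078, 3, 5⟩))) (.node 2 (.node 1 (.one ⟨13184, 2, 5⟩) (.one ⟨2835, 3, 4⟩)) (.node 1 (.one ⟨11522, 2, 3⟩) (.one ⟨1799, 3, 1⟩)))) (.node 4 (.node 2 (.node 1 (.one ⟨16518, 1, 5⟩) (.one ⟨9991, 3, 4⟩)) (.node 1 (.one ⟨5873, 2, 5⟩) (.one ⟨10864, 2, 4⟩))) (.node 2 (.node 1 (.one ⟨4665, 2, 3⟩) (.one ⟨15352, 2, 3⟩)) (.node 1 (.one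 ⟨9143, 3, 4⟩) (.one ⟨8566, 0, 3⟩))))) (.node 8 (.node 4 (.node 2 (.node 1 (.one ⟨15134, 2, 5⟩) (.one ⟨3476, 2, 5⟩)) (.node 1 (.one ⟨11137, 0, 3⟩) (.one ⟨2014, 3, 5⟩))) (.node 2 (.node 1 (.one ⟨16263, 0, 1⟩) (.one ⟨15974, 2, 5⟩)) (.node 1 (.one ⟨4788, 2, 5⟩) (.one ⟨10286, 1, 5⟩)))) (.node 4 (.node 2 (.node 1 (.one ⟨4267, 2, 4⟩) (.one ⟨11035, 3, 4⟩)) (.node 1 (.one ⟨6511, 1, 2⟩) (.one ⟨14211, 3, 5⟩))) (.node 2 (.node 1 (.one ⟨2463, 3, 5⟩) (.one ⟨6573, 3, 6⟩)) (.node 1 (.one ⟨9344, 3, 5⟩) (.one ⟨87, 3, 5⟩)))))))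
def par4_3_8 : Arr Par :=
  (.node 32 (.node 16 (.node 8 (.node 4 (.node 2 (.node 1 (.one ⟨1191, 0, 1⟩) (.one ⟨365, 1, 2⟩)) (.node 1 (.one ⟨2747, 1, 0⟩) (.one ⟨11215, 2, 5⟩))) (.node 2 (.node 1 (.one ⟨9357, 3, 6⟩) (.one ⟨12817, 0, 4⟩)) (.node 1 (.one ⟨3203, 3, 2⟩) (.one ⟨13136, 2, 6⟩)))) (.node 4 (.node 2 (.node 1 (.one ⟨5145, 2, 4⟩) (.one ⟨14963, 3, 5⟩)) (.node 1 (.one ⟨10751, 3, 5⟩) (.one ⟨13535, 2, 3⟩))) (.node 2 (.node 1 (.one ⟨5546, 2, 4⟩) (.one ⟨1804, 0, 3⟩)) (.node 1 (.one ⟨6097, 1, 4⟩) (.one ⟨5696, 2, 1⟩))))) (.node 8 (.node 4 (.node 2 (.node 1 (.one ⟨7486, 3, 5⟩) (.one ⟨8691, 1, 3⟩)) (.node 1 (.one ⟨3631, 2, 3⟩) (.one ⟨6844, 2, 5⟩))) (.node 2 (.node 1 (.one ⟨3022, 2, 6⟩) (.one ⟨8377, 2, 4⟩)) (.node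 1 (.one ⟨4784, 2, 5⟩) (.one ⟨11932, 3, 4⟩)))) (.node 4 (.node 2 (.node 1 (.one ⟨14016, 2, 5⟩) (.one ⟨13623, 0, 3⟩)) (.node 1 (.one ⟨3420, 3, 4⟩) (.one ⟨10418, 1, 4⟩))) (.node 2 (.node 1 (.one ⟨6512, 1, 4⟩) (.one ⟨4668, 2, 5⟩)) (.node 1 (.one ⟨16002, 3, 6⟩) (.one ⟨7650, 3, 3⟩)))))) (.node 16 (.node 8 (.node 4 (.node 2 (.node 1 (.one ⟨8185, 2, 4⟩) (.one ⟨11033, 3, 3⟩)) (.node 1 (.one ⟨8447, 2, 4⟩) (.one ⟨3960, 2, 2⟩))) (.node 2 (.node 1 (.one ⟨3309, 2, 3⟩) (.one ⟨13789, 1, 4⟩)) (.node 1 (.one ⟨819, 2, 4⟩) (.one ⟨4858, 0, 5⟩)))) (.node 4 (.node 2 (.node 1 (.one ⟨9034, 3, 5⟩) (.one ⟨15105, 3, 5⟩)) (.node 1 (.one ⟨12094, 1, 6⟩) (.one ⟨1336, 0, 1⟩))) (.node 2 (.node 1 (.one ⟨1933, 2, 4⟩) (.one ⟨16915, 1, 5⟩)) (.node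 1 (.one ⟨2191, 1, 4⟩) (.one ⟨8503, 1, 2⟩))))) (.node 8 (.node 4 (.node 2 (.node 1 (.one ⟨6184, 2, 3⟩) (.one ⟨16438, 3, 4⟩)) (.node 1 (.one ⟨10729, 3, 4⟩) (.one ⟨12931, 0, 4⟩))) (.node 2 (.node 1 (.one ⟨7089, 3, 5⟩) (.one ⟨11844, 1, 6⟩)) (.node 1 (.one ⟨15717, 1, 5⟩) (.one ⟨479, 2, 4⟩)))) (.node 4 (.node 2 (.node 1 (.one ⟨4052, 3, 1⟩) (.one ⟨3305, 3, 4⟩)) (.node 1 (.one ⟨8919, 1, 4⟩) (.one ⟨4703, 3, 5⟩))) (.node 2 (.node 1 (.one ⟨1736, 1, 3⟩) (.one ⟨10914, 3, 4⟩)) (.node 1 (.one ⟨360, 2, 5⟩) (.one ⟨14042, 1, 4⟩)))))))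
def par4_3_9 : Arr Par :=
  (.node 32 (.node 16 (.node 8 (.node 4 (.node 2 (.node 1 (.one ⟨13421, 2, 5⟩) (.one ⟨3499, 0, 4⟩)) (.node 1 (.one ⟨3521, 0, 4⟩) (.one ⟨5212, 1, 3⟩))) (.node 2 (.node 1 (.one ⟨8940, 1, 3⟩) (.one ⟨10088, 1, 4⟩)) (.node 1 (.one ⟨11769, 2, 2⟩) (.one ⟨12885, 1, 6⟩)))) (.node 4 (.node 2 (.node 1 (.one ⟨4245, 3, 4⟩) (.one ⟨2365, 3, 3⟩)) (.node 1 (.one ⟨12454, 1, 5⟩) (.one ⟨838, 3, 3⟩))) (.node 2 (.node 1 (.one ⟨13683, 3, 4⟩) (.one ⟨16166, 3, 5⟩)) (.node 1 (.one ⟨2404, 0, 4⟩) (.one ⟨15286, 3, 3⟩))))) (.node 8 (.node 4 (.node 2 (.node 1 (.one ⟨6255, 0, 5⟩) (.one ⟨15283, 3, 5⟩)) (.node 1 (.one ⟨10607, 0, 6⟩) (.one ⟨16833, 0, 3⟩))) (.node 2 (.node 1 (.one ⟨14622, 2, 4⟩) (.one ⟨15281, 3, 5⟩))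 (.node 1 (.one ⟨14456, 2, 5⟩) (.one ⟨10874, 3, 5⟩)))) (.node 4 (.node 2 (.node 1 (.one ⟨4134, 1, 3⟩) (.one ⟨16036, 3, 6⟩)) (.node 1 (.one ⟨1894, 2, 6⟩) (.one ⟨2590, 1, 5⟩))) (.node 2 (.node 1 (.one ⟨4381, 0, 5⟩) (.one ⟨13010, 2, 5⟩)) (.node 1 (.one ⟨14986, 3, 4⟩) (.one ⟨17182, 2, 5⟩)))))) (.node 16 (.node 8 (.node 4 (.node 2 (.node 1 (.one ⟨6346, 0, 5⟩) (.one ⟨1704, 0, 4⟩)) (.node 1 (.one ⟨15620, 0, 5⟩) (.one ⟨3128, 2, 5⟩))) (.node 2 (.node 1 (.one ⟨3957, 2, 5⟩) (.one ⟨12297, 0, 5⟩)) (.node 1 (.one ⟨8382, 0, 5⟩) (.one ⟨10871, 3, 3⟩)))) (.node 4 (.node 2 (.node 1 (.one ⟨13454, 1, 3⟩) (.one ⟨50, 1, 5⟩)) (.node 1 (.one ⟨5480, 3, 3⟩) (.one ⟨5231, 3, 4⟩))) (.node 2 (.node 1 (.one ⟨12453, 3, 5⟩) (.one ⟨869, 3, 4⟩))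 (.node 1 (.one ⟨11095, 3, 4⟩) (.one ⟨2123, 2, 4⟩))))) (.node 8 (.node 4 (.node 2 (.node 1 (.one ⟨16227, 0, 5⟩) (.one ⟨1671, 0, 3⟩)) (.node 1 (.one ⟨10485, 1, 3⟩) (.one ⟨10040, 0, 5⟩))) (.node 2 (.node 1 (.one ⟨9854, 1, 4⟩) (.one ⟨5288, 2, 5⟩)) (.node 1 (.one ⟨9689, 2, 4⟩) (.one ⟨3091, 2, 4⟩)))) (.node 4 (.node 2 (.node 1 (.one ⟨10082, 0, 3⟩) (.one ⟨16634, 2, 3⟩)) (.node 1 (.one ⟨2636, 2, 4⟩) (.one ⟨9276, 2, 5⟩))) (.node 2 (.node 1 (.one ⟨8192, 3, 5⟩) (.one ⟨980, 3, 6⟩)) (.node 1 (.one ⟨13621, 1, 2⟩) (.one ⟨154, 0, 5⟩)))))))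
def par4_3_10 : Arr Par :=
  (.node 32 (.node 16 (.node 8 (.node 4 (.node 2 (.node 1 (.one ⟨16474, 3, 6⟩) (.one ⟨12952, 3, 5⟩)) (.node 1 (.one ⟨16827, 0, 5⟩) (.one ⟨4398, 1, 5⟩))) (.node 2 (.node 1 (.one ⟨9098, 0, 5⟩) (.one ⟨12557, 3, 4⟩)) (.node 1 (.one ⟨1398, 0, 4⟩) (.one ⟨6632, 3, 4⟩)))) (.node 4 (.node 2 (.node 1 (.one ⟨954, 2, 5⟩) (.one ⟨9927, 1, 3⟩)) (.node 1 (.one ⟨15758, 1, 3⟩) (.one ⟨1575, 1, 5⟩))) (.node 2 (.node 1 (.one ⟨7399, 3, 2⟩) (.one ⟨3014, 2, 5⟩)) (.node 1 (.one ⟨8755, 0, 4⟩) (.one ⟨13669, 1, 4⟩))))) (.node 8 (.node 4 (.node 2 (.node 1 (.one ⟨384, 1, 5⟩) (.one ⟨12156, 1, 2⟩)) (.node 1 (.one ⟨8034, 0, 3⟩) (.one ⟨10650, 0, 2⟩))) (.node 2 (.node 1 (.one ⟨2201, 1, 3⟩) (.one ⟨3965, 2, 5⟩)) (.node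 1 (.one ⟨8276, 1, 4⟩) (.one ⟨4739, 1, 4⟩)))) (.node 4 (.node 2 (.node 1 (.one ⟨9784, 2, 3⟩) (.one ⟨13194, 1, 4⟩)) (.node 1 (.one ⟨558, 2, 5⟩) (.one ⟨13896, 3, 5⟩))) (.node 2 (.node 1 (.one ⟨5775, 3, 5⟩) (.one ⟨15455, 3, 5⟩)) (.node 1 (.one ⟨7418, 3, 5⟩) (.one ⟨16635, 2, 5⟩)))))) (.node 16 (.node 8 (.node 4 (.node 2 (.node 1 (.one ⟨7964, 1, 4⟩) (.one ⟨16680, 3, 4⟩)) (.node 1 (.one ⟨547, 3, 4⟩) (.one ⟨15191, 2, 5⟩))) (.node 2 (.node 1 (.one ⟨5348, 1, 5⟩) (.one ⟨1955, 1, 4⟩)) (.node 1 (.one ⟨9913, 0, 5⟩) (.one ⟨51, 1, 6⟩)))) (.node 4 (.node 2 (.node 1 (.one ⟨13947, 0, 4⟩) (.one ⟨17037, 3, 5⟩)) (.node 1 (.one ⟨13930, 2, 3⟩) (.one ⟨15818, 2, 4⟩))) (.node 2 (.node 1 (.one ⟨13231, 2, 5⟩) (.one ⟨475, 3, 4⟩)) (.node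 1 (.one ⟨13639, 1, 4⟩) (.one ⟨8891, 2, 5⟩))))) (.node 8 (.node 4 (.node 2 (.node 1 (.one ⟨10317, 0, 4⟩) (.one ⟨13288, 0, 5⟩)) (.node 1 (.one ⟨16660, 1, 5⟩) (.one ⟨9283, 0, 3⟩))) (.node 2 (.node 1 (.one ⟨2241, 1, 4⟩) (.one ⟨16181, 0, 5⟩)) (.node 1 (.one ⟨8347, 2, 4⟩) (.one ⟨3960, 3, 2⟩)))) (.node 4 (.node 2 (.node 1 (.one ⟨8261, 3, 4⟩) (.one ⟨274, 3, 4⟩)) (.node 1 (.one ⟨916, 2, 5⟩) (.one ⟨12772, 3, 3⟩))) (.node 2 (.node 1 (.one ⟨17044, 2, 4⟩) (.one ⟨11188, 3, 5⟩)) (.node 1 (.one ⟨15626, 3, 2⟩) (.one ⟨670, 1, 5⟩)))))))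
def par4_3_11 : Arr Par :=
  (.node 32 (.node 16 (.node 8 (.node 4 (.node 2 (.node 1 (.one ⟨14851, 3, 6⟩) (.one ⟨12601, 1, 4⟩)) (.node 1 (.one ⟨12603, 1, 5⟩) (.one ⟨242, 1, 5⟩))) (.node 2 (.node 1 (.one ⟨7377, 0, 4⟩) (.one ⟨512, 2, 4⟩)) (.node 1 (.one ⟨4202, 0, 4⟩) (.one ⟨14380, 1, 5⟩)))) (.node 4 (.node 2 (.node 1 (.one ⟨3152, 3, 5⟩) (.one ⟨9711, 0, 4⟩)) (.node 1 (.one ⟨2788, 3, 4⟩) (.one ⟨12303, 3, 3⟩))) (.node 2 (.node 1 (.one ⟨5693, 2, 2⟩) (.one ⟨1674, 2, 5⟩)) (.node 1 (.one ⟨7223, 2, 4⟩) (.one ⟨2016, 2, 5⟩))))) (.node 8 (.node 4 (.node 2 (.node 1 (.one ⟨1763, 3, 4⟩) (.one ⟨10140, 3, 4⟩)) (.node 1 (.one ⟨2598, 3, 6⟩) (.one ⟨11847, 1, 2⟩))) (.node 2 (.node 1 (.one ⟨5882, 2, 4⟩) (.one ⟨6218, 3, 6⟩)) (.node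 1 (.one ⟨12418, 0, 4⟩) (.one ⟨11479, 2, 5⟩)))) (.node 4 (.node 2 (.node 1 (.one ⟨10828, 1, 6⟩) (.one ⟨12574, 2, 6⟩)) (.node 1 (.one ⟨6320, 2, 4⟩) (.one ⟨7990, 1, 5⟩))) (.node 2 (.node 1 (.one ⟨17049, 2, 4⟩) (.one ⟨7732, 1, 4⟩)) (.node 1 (.one ⟨8369, 1, 4⟩) (.one ⟨5575, 0, 6⟩)))))) (.node 16 (.node 8 (.node 4 (.node 2 (.node 1 (.one ⟨5599, 0, 4⟩) (.one ⟨11526, 2, 3⟩)) (.node 1 (.one ⟨52, 1, 4⟩) (.one ⟨12718, 1, 6⟩))) (.node 2 (.node 1 (.one ⟨10226, 2, 5⟩) (.one ⟨13819, 2, 3⟩)) (.node 1 (.one ⟨10050, 3, 4⟩) (.one ⟨9087, 3, 4⟩)))) (.node 4 (.node 2 (.node 1 (.one ⟨11429, 2, 6⟩) (.one ⟨565, 0, 5⟩)) (.node 1 (.one ⟨895, 0, 5⟩) (.one ⟨11228, 3, 5⟩))) (.node 2 (.node 1 (.one ⟨11779, 3, 4⟩) (.one ⟨7525, 2, 4⟩)) (.node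 1 (.one ⟨15342, 2, 4⟩) (.one ⟨14437, 3, 4⟩))))) (.node 8 (.node 4 (.node 2 (.node 1 (.one ⟨16182, 0, 5⟩) (.one ⟨9709, 1, 4⟩)) (.node 1 (.one ⟨7335, 2, 5⟩) (.one ⟨6446, 0, 5⟩))) (.node 2 (.node 1 (.one ⟨596, 1, 0⟩) (.one ⟨13242, 2, 3⟩)) (.node 1 (.one ⟨14435, 3, 5⟩) (.one ⟨7451, 2, 5⟩)))) (.node 4 (.node 2 (.node 1 (.one ⟨5089, 0, 6⟩) (.one ⟨3732, 2, 4⟩)) (.node 1 (.one ⟨13703, 3, 4⟩) (.one ⟨10637, 1, 4⟩))) (.node 2 (.node 1 (.one ⟨12677, 1, 5⟩) (.one ⟨13914, 3, 5⟩)) (.node 1 (.one ⟨8753, 2, 4⟩) (.one ⟨1213, 3, 5⟩)))))))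
def par4_3_12 : Arr Par :=
  (.node 32 (.node 16 (.node 8 (.node 4 (.node 2 (.node 1 (.one ⟨7714, 2, 5⟩) (.one ⟨9495, 3, 5⟩)) (.node 1 (.one ⟨9193, 3, 5⟩) (.one ⟨1132, 1, 3⟩))) (.node 2 (.node 1 (.one ⟨13105, 2, 5⟩) (.one ⟨10759, 0, 1⟩)) (.node 1 (.one ⟨5884, 2, 4⟩) (.one ⟨17048, 2, 5⟩)))) (.node 4 (.node 2 (.node 1 (.one ⟨12308, 3, 5⟩) (.one ⟨9402, 2, 5⟩)) (.node 1 (.one ⟨11197, 3, 5⟩) (.one ⟨303, 2, 4⟩))) (.node 2 (.node 1 (.one ⟨4865, 2, 5⟩) (.one ⟨8953, 2, 4⟩)) (.node 1 (.one ⟨6252, 2, 5⟩) (.one ⟨8884, 0, 6⟩))))) (.node 8 (.node 4 (.node 2 (.node 1 (.one ⟨6631, 3, 2⟩) (.one ⟨12867, 0, 4⟩)) (.node 1 (.one ⟨1385, 3, 3⟩) (.one ⟨4751, 1, 6⟩))) (.node 2 (.node 1 (.one ⟨521, 2, 4⟩) (.one ⟨9740, 1, 4⟩)) (.node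 1 (.one ⟨16764, 0, 4⟩) (.one ⟨5313, 1, 6⟩)))) (.node 4 (.node 2 (.node 1 (.one ⟨296, 3, 4⟩) (.one ⟨9244, 1, 5⟩)) (.node 1 (.one ⟨786, 3, 5⟩) (.one ⟨4176, 0, 4⟩))) (.node 2 (.node 1 (.one ⟨2496, 1, 5⟩) (.one ⟨13409, 1, 5⟩)) (.node 1 (.one ⟨12630, 1, 5⟩) (.one ⟨5432, 2, 3⟩)))))) (.node 16 (.node 8 (.node 4 (.node 2 (.node 1 (.one ⟨12683, 0, 4⟩) (.one ⟨178, 3, 3⟩)) (.node 1 (.one ⟨3845, 0, 2⟩) (.one ⟨16671, 1, 5⟩))) (.node 2 (.node 1 (.one ⟨8204, 1, 3⟩) (.one ⟨6569, 1, 4⟩)) (.node 1 (.one ⟨14668, 2, 5⟩) (.one ⟨11014, 0, 5⟩)))) (.node 4 (.node 2 (.node 1 (.one ⟨7069, 1, 3⟩) (.one ⟨3607, 2, 5⟩)) (.node 1 (.one ⟨3595, 3, 4⟩) (.one ⟨11008, 0, 5⟩))) (.node 2 (.node 1 (.one ⟨15883, 1, 4⟩) (.one ⟨7868, 2, 3⟩)) (.node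 1 (.one ⟨2994, 1, 5⟩) (.one ⟨589, 3, 5⟩))))) (.node 8 (.node 4 (.node 2 (.node 1 (.one ⟨2241, 0, 4⟩) (.one ⟨15353, 2, 4⟩)) (.node 1 (.one ⟨650, 0, 4⟩) (.one ⟨4884, 2, 4⟩))) (.node 2 (.node 1 (.one ⟨9138, 3, 5⟩) (.one ⟨201, 0, 3⟩)) (.node 1 (.one ⟨1546, 1, 5⟩) (.one ⟨3427, 3, 5⟩)))) (.node 4 (.node 2 (.node 1 (.one ⟨6520, 1, 2⟩) (.one ⟨5072, 2, 3⟩)) (.node 1 (.one ⟨15054, 0, 4⟩) (.one ⟨2345, 2, 4⟩))) (.node 2 (.node 1 (.one ⟨12289, 1, 4⟩) (.one ⟨12156, 0, 2⟩)) (.node 1 (.one ⟨8517, 3, 5⟩) (.one ⟨13349, 0, 5⟩)))))))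
def par4_3_13 : Arr Par :=
  (.node 32 (.node 16 (.node 8 (.node 4 (.node 2 (.node 1 (.one ⟨7308, 3, 5⟩) (.one ⟨4277, 3, 5⟩)) (.node 1 (.one ⟨9928, 3, 6⟩) (.one ⟨12040, 3, 5⟩))) (.node 2 (.node 1 (.one ⟨1052, 3, 5⟩) (.one ⟨3028, 0, 4⟩)) (.node 1 (.one ⟨3058, 2, 5⟩) (.one ⟨1543, 1, 5⟩)))) (.node 4 (.node 2 (.node 1 (.one ⟨4717, 3, 5⟩) (.one ⟨10724, 3, 6⟩)) (.node 1 (.one ⟨13842, 3, 5⟩) (.one ⟨10989, 3, 6⟩))) (.node 2 (.node 1 (.one ⟨15178, 2, 5⟩) (.one ⟨16263, 2, 1⟩)) (.node 1 (.one ⟨4027, 3, 3⟩) (.one ⟨1528, 1, 3⟩))))) (.node 8 (.node 4 (.node 2 (.node 1 (.one ⟨13752, 3, 2⟩) (.one ⟨9701, 1, 5⟩)) (.node 1 (.one ⟨1503, 0, 4⟩) (.one ⟨14577, 3, 5⟩))) (.node 2 (.node 1 (.one ⟨7083, 2, 5⟩) (.one ⟨12528, 2, 6⟩)) (.node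 1 (.one ⟨4795, 3, 4⟩) (.one ⟨10509, 1, 5⟩)))) (.node 4 (.node 2 (.node 1 (.one ⟨1549, 1, 3⟩) (.one ⟨8673, 3, 4⟩)) (.node 1 (.one ⟨8671, 3, 5⟩) (.one ⟨452, 0, 4⟩))) (.node 2 (.node 1 (.one ⟨17060, 2, 5⟩) (.one ⟨8678, 3, 3⟩)) (.node 1 (.one ⟨8676, 3, 6⟩) (.one ⟨10868, 3, 5⟩)))))) (.node 16 (.node 8 (.node 4 (.node 2 (.node 1 (.one ⟨13691, 3, 5⟩) (.one ⟨9848, 2, 4⟩)) (.node 1 (.one ⟨8545, 2, 5⟩) (.one ⟨3569, 3, 6⟩))) (.node 2 (.node 1 (.one ⟨8432, 3, 4⟩) (.one ⟨14767, 3, 3⟩)) (.node 1 (.one ⟨9144, 3, 4⟩) (.one ⟨5172, 3, 4⟩)))) (.node 4 (.node 2 (.node 1 (.one ⟨13486, 1, 4⟩) (.one ⟨3006, 0, 5⟩)) (.node 1 (.one ⟨4330, 3, 4⟩) (.one ⟨3088, 0, 5⟩))) (.node 2 (.node 1 (.one ⟨3069, 0, 5⟩) (.one ⟨3100, 0, 3⟩)) (.node 1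 (.one ⟨16826, 2, 5⟩) (.one ⟨11132, 3, 4⟩))))) (.node 8 (.node 4 (.node 2 (.node 1 (.one ⟨8040, 3, 5⟩) (.one ⟨13058, 3, 4⟩)) (.node 1 (.one ⟨4847, 0, 5⟩) (.one ⟨7806, 3, 6⟩))) (.node 2 (.node 1 (.one ⟨10858, 3, 4⟩) (.one ⟨9594, 2, 4⟩)) (.node 1 (.one ⟨12747, 3, 6⟩) (.one ⟨2995, 0, 1⟩)))) (.node 4 (.node 2 (.node 1 (.one ⟨11359, 2, 1⟩) (.one ⟨15040, 2, 3⟩)) (.node 1 (.one ⟨11755, 3, 5⟩) (.one ⟨900, 1, 6⟩))) (.node 2 (.node 1 (.one ⟨15274, 1, 6⟩) (.one ⟨14803, 2, 4⟩)) (.node 1 (.one ⟨864, 3, 3⟩) (.one ⟨1963, 3, 5⟩)))))))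
def par4_3_14 : Arr Par :=
  (.node 32 (.node 16 (.node 8 (.node 4 (.node 2 (.node 1 (.one ⟨11011, 3, 5⟩) (.one ⟨1783, 3, 5⟩)) (.node 1 (.one ⟨10896, 3, 3⟩) (.one ⟨7684, 1, 4⟩))) (.node 2 (.node 1 (.one ⟨16960, 0, 4⟩) (.one ⟨8957, 1, 4⟩)) (.node 1 (.one ⟨4427, 3, 6⟩) (.one ⟨12684, 2, 2⟩)))) (.node 4 (.node 2 (.node 1 (.one ⟨11067, 0, 4⟩) (.one ⟨1328, 1, 1⟩)) (.node 1 (.one ⟨13915, 3, 5⟩) (.one ⟨3408, 3, 5⟩))) (.node 2 (.node 1 (.one ⟨512, 3, 4⟩) (.one ⟨14076, 0, 5⟩)) (.node 1 (.one ⟨1119, 3, 4⟩) (.one ⟨12154, 0, 3⟩))))) (.node 8 (.node 4 (.node 2 (.node 1 (.one ⟨14320, 1, 5⟩) (.one ⟨11851, 0, 4⟩)) (.node 1 (.one ⟨15119, 0, 4⟩) (.one ⟨5546, 1, 4⟩))) (.node 2 (.node 1 (.one ⟨17128, 0, 4⟩) (.one ⟨9554, 0, 4⟩))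 (.node 1 (.one ⟨14263, 2, 4⟩) (.one ⟨16575, 3, 5⟩)))) (.node 4 (.node 2 (.node 1 (.one ⟨4179, 0, 5⟩) (.one ⟨15501, 2, 5⟩)) (.node 1 (.one ⟨14923, 0, 4⟩) (.one ⟨15503, 2, 5⟩))) (.node 2 (.node 1 (.one ⟨615, 2, 4⟩) (.one ⟨8966, 1, 4⟩)) (.node 1 (.one ⟨10988, 3, 6⟩) (.one ⟨2768, 1, 5⟩)))))) (.node 16 (.node 8 (.node 4 (.node 2 (.node 1 (.one ⟨1721, 2, 5⟩) (.one ⟨13749, 3, 4⟩)) (.node 1 (.one ⟨1333, 1, 6⟩) (.one ⟨4338, 1, 5⟩))) (.node 2 (.node 1 (.one ⟨207, 1, 4⟩) (.one ⟨2742, 1, 5⟩)) (.node 1 (.one ⟨15642, 2, 5⟩) (.one ⟨380, 2, 6⟩)))) (.node 4 (.node 2 (.node 1 (.one ⟨3668, 0, 5⟩) (.one ⟨2293, 0, 5⟩)) (.node 1 (.one ⟨16808, 3, 6⟩) (.one ⟨10859, 3, 3⟩))) (.node 2 (.node 1 (.one ⟨12875, 0, 3⟩) (.one ⟨9773, 2, 5⟩))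 (.node 1 (.one ⟨7571, 1, 3⟩) (.one ⟨8398, 1, 4⟩))))) (.node 8 (.node 4 (.node 2 (.node 1 (.one ⟨4892, 3, 6⟩) (.one ⟨1590, 1, 5⟩)) (.node 1 (.one ⟨14293, 1, 4⟩) (.one ⟨16840, 1, 4⟩))) (.node 2 (.node 1 (.one ⟨4747, 1, 5⟩) (.one ⟨6125, 0, 5⟩)) (.node 1 (.one ⟨12356, 3, 5⟩) (.one ⟨10687, 3, 7⟩)))) (.node 4 (.node 2 (.node 1 (.one ⟨13534, 1, 5⟩) (.one ⟨11376, 3, 5⟩)) (.node 1 (.one ⟨8297, 3, 6⟩) (.one ⟨9978, 0, 2⟩))) (.node 2 (.node 1 (.one ⟨1467, 2, 5⟩) (.one ⟨12051, 0, 6⟩)) (.node 1 (.one ⟨2896, 3, 2⟩) (.one ⟨11229, 0, 5⟩)))))))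
def par4_3_15 : Arr Par :=
  (.node 32 (.node 16 (.node 8 (.node 4 (.node 2 (.node 1 (.one ⟨16012, 1, 4⟩) (.one ⟨16635, 0, 5⟩)) (.node 1 (.one ⟨5742, 2, 5⟩) (.one ⟨8772, 1, 4⟩))) (.node 2 (.node 1 (.one ⟨2853, 3, 5⟩) (.one ⟨3189, 3, 6⟩)) (.node 1 (.one ⟨4737, 1, 5⟩) (.one ⟨1685, 3, 5⟩)))) (.node 4 (.node 2 (.node 1 (.one ⟨1607, 3, 5⟩) (.one ⟨14647, 0, 5⟩)) (.node 1 (.one ⟨15032, 0, 5⟩) (.one ⟨2933, 1, 4⟩))) (.node 2 (.node 1 (.one ⟨9961, 2, 5⟩) (.one ⟨15312, 3, 5⟩)) (.node 1 (.one ⟨6079, 2, 5⟩) (.one ⟨4126, 0, 3⟩))))) (.node 8 (.node 4 (.node 2 (.node 1 (.one ⟨15756, 0, 3⟩) (.one ⟨98, 1, 0⟩)) (.node 1 (.one ⟨5083, 3, 4⟩) (.one ⟨4813, 3, 5⟩))) (.node 2 (.node 1 (.one ⟨93, 0, 0⟩) (.one ⟨12584, 2, 3⟩)) (.node 1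 (.one ⟨567, 3, 5⟩) (.one ⟨2768, 0, 5⟩)))) (.node 4 (.node 2 (.node 1 (.one ⟨2463, 1, 5⟩) (.one ⟨5783, 0, 3⟩)) (.node 1 (.one ⟨10235, 3, 2⟩) (.one ⟨14533, 2, 4⟩))) (.node 2 (.node 1 (.one ⟨2006, 3, 5⟩) (.one ⟨9149, 0, 3⟩)) (.node 1 (.one ⟨2957, 2, 4⟩) (.one ⟨4549, 2, 5⟩)))))) (.node 16 (.node 8 (.node 4 (.node 2 (.node 1 (.one ⟨10145, 3, 4⟩) (.one ⟨15446, 3, 4⟩)) (.node 1 (.one ⟨4940, 2, 4⟩) (.one ⟨14386, 3, 5⟩))) (.node 2 (.node 1 (.one ⟨16512, 3, 3⟩) (.one ⟨12357, 3, 5⟩)) (.node 1 (.one ⟨8296, 1, 5⟩) (.one ⟨947, 0, 3⟩)))) (.node 4 (.node 2 (.node 1 (.one ⟨8123, 3, 4⟩) (.one ⟨16339, 2, 4⟩)) (.node 1 (.one ⟨5992, 0, 5⟩) (.one ⟨13433, 3, 3⟩))) (.node 2 (.node 1 (.one ⟨15216, 3, 5⟩) (.one ⟨10131, 2, 5⟩)) (.node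 1 (.one ⟨935, 3, 3⟩) (.one ⟨9872, 3, 4⟩))))) (.node 8 (.node 4 (.node 2 (.node 1 (.one ⟨5188, 2, 5⟩) (.one ⟨1093, 0, 4⟩)) (.node 1 (.one ⟨16675, 2, 3⟩) (.one ⟨12352, 3, 4⟩))) (.node 2 (.node 1 (.one ⟨15932, 0, 4⟩) (.one ⟨14390, 1, 3⟩)) (.node 1 (.one ⟨3075, 2, 3⟩) (.one ⟨7, 2, 5⟩)))) (.node 4 (.node 2 (.node 1 (.one ⟨15142, 3, 5⟩) (.one ⟨4659, 3, 2⟩)) (.node 1 (.one ⟨12234, 3, 3⟩) (.one ⟨3606, 3, 6⟩))) (.node 2 (.node 1 (.one ⟨13528, 3, 4⟩) (.one ⟨13430, 0, 5⟩)) (.node 1 (.one ⟨14041, 3, 3⟩) (.one ⟨5079, 3, 4⟩)))))))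
def par4_3 : Arr Par :=
  (.node 512 (.node 256 (.node 128 (.node 64 par4_3_0 par4_3_1) (.node 64 par4_3_2 par4_3_3)) (.node 128 (.node 64 par4_3_4 par4_3_5) (.node 64 par4_3_6 par4_3_7))) (.node 256 (.node 128 (.node 64 par4_3_8 par4_3_9) (.node 64 par4_3_10 par4_3_11)) (.node 128 (.node 64 par4_3_12 par4_3_13) (.node 64 par4_3_14 par4_3_15))))
def par4_4_0 : Arr Par :=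
  (.node 32 (.node 16 (.node 8 (.node 4 (.node 2 (.node 1 (.one ⟨7023, 0, 2⟩) (.one ⟨13089, 3, 4⟩)) (.node 1 (.one ⟨220, 2, 5⟩) (.one ⟨12674, 1, 5⟩))) (.node 2 (.node 1 (.one ⟨5227, 0, 5⟩) (.one ⟨3901, 2, 3⟩)) (.node 1 (.one ⟨7612, 2, 3⟩) (.one ⟨3212, 1, 2⟩)))) (.node 4 (.node 2 (.node 1 (.one ⟨640, 3, 6⟩) (.one ⟨9703, 3, 4⟩)) (.node 1 (.one ⟨2971, 0, 3⟩) (.one ⟨13727, 3, 5⟩))) (.node 2 (.node 1 (.one ⟨6129, 3, 4⟩) (.one ⟨11425, 2, 5⟩)) (.node 1 (.one ⟨5597, 3, 4⟩) (.one ⟨6244, 1, 3⟩))))) (.node 8 (.node 4 (.node 2 (.node 1 (.one ⟨11998, 2, 4⟩) (.one ⟨11180, 3, 5⟩)) (.node 1 (.one ⟨3867, 3, 5⟩) (.one ⟨10082, 2, 3⟩))) (.node 2 (.node 1 (.one ⟨5803, 2, 5⟩) (.one ⟨9717, 1, 4⟩)) (.node 1 (.one ⟨12596, 3, 6⟩) (.one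 ⟨3574, 3, 6⟩)))) (.node 4 (.node 2 (.node 1 (.one ⟨742, 2, 6⟩) (.one ⟨12371, 2, 4⟩)) (.node 1 (.one ⟨2972, 0, 5⟩) (.one ⟨2922, 0, 4⟩))) (.node 2 (.node 1 (.one ⟨1876, 2, 5⟩) (.one ⟨4512, 3, 2⟩)) (.node 1 (.one ⟨2800, 0, 2⟩) (.one ⟨16328, 3, 5⟩)))))) (.node 16 (.node 8 (.node 4 (.node 2 (.node 1 (.one ⟨15281, 2, 5⟩) (.one ⟨13267, 2, 4⟩)) (.node 1 (.one ⟨13242, 0, 3⟩) (.one ⟨12353, 3, 5⟩))) (.node 2 (.node 1 (.one ⟨11510, 1, 4⟩) (.one ⟨1402, 2, 5⟩)) (.node 1 (.one ⟨6493, 2, 2⟩) (.one ⟨16230, 2, 4⟩)))) (.node 4 (.node 2 (.node 1 (.one ⟨2335, 3, 2⟩) (.one ⟨11735, 3, 5⟩)) (.node 1 (.one ⟨8128, 2, 5⟩) (.one ⟨13505, 2, 4⟩))) (.node 2 (.node 1 (.one ⟨10489, 0, 5⟩) (.one ⟨12393, 3, 5⟩)) (.node 1 (.one ⟨6590, 3, 4⟩) (.one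 ⟨10062, 2, 5⟩))))) (.node 8 (.node 4 (.node 2 (.node 1 (.one ⟨5091, 2, 4⟩) (.one ⟨15041, 0, 2⟩)) (.node 1 (.one ⟨15567, 2, 3⟩) (.one ⟨12615, 2, 5⟩))) (.node 2 (.node 1 (.one ⟨2658, 2, 4⟩) (.one ⟨6891, 2, 4⟩)) (.node 1 (.one ⟨10118, 0, 2⟩) (.one ⟨16650, 0, 4⟩)))) (.node 4 (.node 2 (.node 1 (.one ⟨8358, 1, 6⟩) (.one ⟨6290, 1, 5⟩)) (.node 1 (.one ⟨7974, 2, 4⟩) (.one ⟨10802, 0, 5⟩))) (.node 2 (.node 1 (.one ⟨8015, 0, 4⟩) (.one ⟨11634, 0, 3⟩)) (.node 1 (.one ⟨8848, 1, 5⟩) (.one ⟨3730, 3, 4⟩)))))))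
def par4_4_1 : Arr Par :=
  (.node 32 (.node 16 (.node 8 (.node 4 (.node 2 (.node 1 (.one ⟨12972, 1, 6⟩) (.one ⟨1541, 2, 4⟩)) (.node 1 (.one ⟨9546, 2, 2⟩) (.one ⟨17056, 1, 5⟩))) (.node 2 (.node 1 (.one ⟨4428, 2, 6⟩) (.one ⟨1620, 0, 6⟩)) (.node 1 (.one ⟨1615, 0, 4⟩) (.one ⟨6882, 1, 6⟩)))) (.node 4 (.node 2 (.node 1 (.one ⟨13915, 0, 5⟩) (.one ⟨3989, 2, 5⟩)) (.node 1 (.one ⟨3988, 2, 5⟩) (.one ⟨5299, 1, 3⟩))) (.node 2 (.node 1 (.one ⟨3986, 2, 5⟩) (.one ⟨11534, 3, 5⟩)) (.node 1 (.one ⟨960, 2, 4⟩) (.one ⟨3326, 1, 5⟩))))) (.node 8 (.node 4 (.node 2 (.node 1 (.one ⟨676, 1, 3⟩) (.one ⟨12588, 3, 5⟩)) (.node 1 (.one ⟨8999, 1, 4⟩) (.one ⟨11759, 2, 4⟩))) (.node 2 (.node 1 (.one ⟨3960, 1, 2⟩) (.one ⟨12584, 3, 3⟩)) (.node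 1 (.one ⟨6812, 1, 5⟩) (.one ⟨12870, 3, 3⟩)))) (.node 4 (.node 2 (.node 1 (.one ⟨8755, 3, 4⟩) (.one ⟨9711, 1, 4⟩)) (.node 1 (.one ⟨10619, 1, 6⟩) (.one ⟨16315, 1, 4⟩))) (.node 2 (.node 1 (.one ⟨14411, 3, 3⟩) (.one ⟨2708, 3, 4⟩)) (.node 1 (.one ⟨14126, 3, 5⟩) (.one ⟨4174, 3, 5⟩)))))) (.node 16 (.node 8 (.node 4 (.node 2 (.node 1 (.one ⟨9104, 1, 5⟩) (.one ⟨16932, 3, 3⟩)) (.node 1 (.one ⟨4243, 0, 4⟩) (.one ⟨16106, 0, 4⟩))) (.node 2 (.node 1 (.one ⟨4523, 2, 6⟩) (.one ⟨6328, 0, 3⟩)) (.node 1 (.one ⟨2021, 2, 5⟩) (.one ⟨936, 3, 4⟩)))) (.node 4 (.node 2 (.node 1 (.one ⟨12343, 3, 5⟩) (.one ⟨10315, 3, 5⟩)) (.node 1 (.one ⟨10071, 0, 3⟩) (.one ⟨12149, 3, 5⟩))) (.node 2 (.node 1 (.one ⟨12127, 0, 4⟩) (.one ⟨12322, 2, 5⟩)) (.node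 1 (.one ⟨10733, 3, 4⟩) (.one ⟨10138, 0, 3⟩))))) (.node 8 (.node 4 (.node 2 (.node 1 (.one ⟨7606, 3, 5⟩) (.one ⟨6284, 1, 6⟩)) (.node 1 (.one ⟨13401, 2, 5⟩) (.one ⟨5113, 3, 5⟩))) (.node 2 (.node 1 (.one ⟨11628, 2, 3⟩) (.one ⟨9512, 2, 5⟩)) (.node 1 (.one ⟨6283, 1, 2⟩) (.one ⟨10800, 2, 5⟩)))) (.node 4 (.node 2 (.node 1 (.one ⟨14973, 1, 4⟩) (.one ⟨4851, 3, 6⟩)) (.node 1 (.one ⟨4246, 3, 5⟩) (.one ⟨9444, 2, 2⟩))) (.node 2 (.node 1 (.one ⟨2795, 2, 5⟩) (.one ⟨2762, 2, 4⟩)) (.node 1 (.one ⟨16133, 1, 5⟩) (.one ⟨6309, 2, 6⟩)))))))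
def par4_4_2 : Arr Par :=
  (.node 32 (.node 16 (.node 8 (.node 4 (.node 2 (.node 1 (.one ⟨359, 0, 4⟩) (.one ⟨9877, 3, 4⟩)) (.node 1 (.one ⟨13503, 3, 4⟩) (.one ⟨3570, 3, 4⟩))) (.node 2 (.node 1 (.one ⟨11069, 2, 5⟩) (.one ⟨13318, 2, 5⟩)) (.node 1 (.one ⟨12843, 1, 4⟩) (.one ⟨14915, 0, 4⟩)))) (.node 4 (.node 2 (.node 1 (.one ⟨307, 1, 0⟩) (.one ⟨16784, 2, 4⟩)) (.node 1 (.one ⟨6310, 0, 3⟩) (.one ⟨2035, 3, 4⟩))) (.node 2 (.node 1 (.one ⟨14207, 0, 5⟩) (.one ⟨7681, 3, 2⟩)) (.node 1 (.one ⟨14779, 1, 6⟩) (.one ⟨182, 3, 4⟩))))) (.node 8 (.node 4 (.node 2 (.node 1 (.one ⟨2227, 0, 4⟩) (.one ⟨11169, 2, 5⟩)) (.node 1 (.one ⟨11485, 3, 4⟩) (.one ⟨11674, 0, 3⟩))) (.node 2 (.node 1 (.one ⟨13337, 2, 5⟩) (.one ⟨16697, 2, 3⟩)) (.node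 1 (.one ⟨1045, 0, 4⟩) (.one ⟨8680, 3, 6⟩)))) (.node 4 (.node 2 (.node 1 (.one ⟨15858, 0, 3⟩) (.one ⟨14995, 3, 3⟩)) (.node 1 (.one ⟨15811, 0, 5⟩) (.one ⟨4932, 3, 4⟩))) (.node 2 (.node 1 (.one ⟨11173, 2, 3⟩) (.one ⟨2691, 1, 4⟩)) (.node 1 (.one ⟨3760, 0, 5⟩) (.one ⟨2764, 0, 5⟩)))))) (.node 16 (.node 8 (.node 4 (.node 2 (.node 1 (.one ⟨14764, 1, 5⟩) (.one ⟨10767, 2, 4⟩)) (.node 1 (.one ⟨16072, 0, 4⟩) (.one ⟨10768, 2, 5⟩))) (.node 2 (.node 1 (.one ⟨266, 2, 5⟩) (.one ⟨7027, 3, 4⟩)) (.node 1 (.one ⟨834, 2, 5⟩) (.one ⟨2431, 2, 5⟩)))) (.node 4 (.node 2 (.node 1 (.one ⟨825, 3, 3⟩) (.one ⟨4089, 3, 3⟩)) (.node 1 (.one ⟨11901, 2, 4⟩) (.one ⟨12145, 3, 3⟩))) (.node 2 (.node 1 (.one ⟨16295, 0, 5⟩) (.one ⟨10216, 2, 2⟩)) (.node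 1 (.one ⟨4619, 0, 5⟩) (.one ⟨452, 1, 4⟩))))) (.node 8 (.node 4 (.node 2 (.node 1 (.one ⟨4535, 3, 5⟩) (.one ⟨14471, 3, 3⟩)) (.node 1 (.one ⟨5691, 3, 5⟩) (.one ⟨10472, 3, 3⟩))) (.node 2 (.node 1 (.one ⟨1784, 3, 3⟩) (.one ⟨17165, 1, 4⟩)) (.node 1 (.one ⟨8431, 3, 5⟩) (.one ⟨4181, 2, 4⟩)))) (.node 4 (.node 2 (.node 1 (.one ⟨15245, 3, 5⟩) (.one ⟨15757, 2, 5⟩)) (.node 1 (.one ⟨410, 1, 2⟩) (.one ⟨12415, 2, 5⟩))) (.node 2 (.node 1 (.one ⟨10529, 1, 3⟩) (.one ⟨7645, 2, 5⟩)) (.node 1 (.one ⟨11048, 2, 5⟩) (.one ⟨5501, 3, 2⟩)))))))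
def par4_4_3 : Arr Par :=
  (.node 32 (.node 16 (.node 8 (.node 4 (.node 2 (.node 1 (.one ⟨4595, 3, 4⟩) (.one ⟨13119, 2, 4⟩)) (.node 1 (.one ⟨2716, 3, 4⟩) (.one ⟨8771, 3, 4⟩))) (.node 2 (.node 1 (.one ⟨8723, 3, 5⟩) (.one ⟨6132, 3, 4⟩)) (.node 1 (.one ⟨5767, 2, 4⟩) (.one ⟨14596, 2, 5⟩)))) (.node 4 (.node 2 (.node 1 (.one ⟨14057, 0, 5⟩) (.one ⟨4958, 1, 5⟩)) (.node 1 (.one ⟨4464, 0, 5⟩) (.one ⟨10339, 3, 2⟩))) (.node 2 (.node 1 (.one ⟨10437, 2, 5⟩) (.one ⟨3366, 3, 4⟩)) (.node 1 (.one ⟨4463, 3, 6⟩) (.one ⟨1736, 0, 3⟩))))) (.node 8 (.node 4 (.node 2 (.node 1 (.one ⟨11466, 3, 5⟩) (.one ⟨15878, 2, 5⟩)) (.node 1 (.one ⟨12320, 3, 5⟩) (.one ⟨1308, 3, 7⟩))) (.node 2 (.node 1 (.one ⟨16645, 2, 5⟩) (.one ⟨4787, 3, 4⟩)) (.node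 1 (.one ⟨13160, 3, 4⟩) (.one ⟨6851, 3, 4⟩)))) (.node 4 (.node 2 (.node 1 (.one ⟨14581, 3, 2⟩) (.one ⟨2352, 0, 2⟩)) (.node 1 (.one ⟨7754, 2, 4⟩) (.one ⟨16845, 3, 6⟩))) (.node 2 (.node 1 (.one ⟨7677, 3, 4⟩) (.one ⟨15564, 1, 5⟩)) (.node 1 (.one ⟨8897, 2, 5⟩) (.one ⟨5180, 2, 3⟩)))))) (.node 16 (.node 8 (.node 4 (.node 2 (.node 1 (.one ⟨3720, 1, 6⟩) (.one ⟨7330, 2, 6⟩)) (.node 1 (.one ⟨1715, 2, 5⟩) (.one ⟨3619, 3, 3⟩))) (.node 2 (.node 1 (.one ⟨8741, 1, 4⟩) (.one ⟨9213, 3, 3⟩)) (.node 1 (.one ⟨10603, 3, 5⟩) (.one ⟨9417, 3, 5⟩)))) (.node 4 (.node 2 (.node 1 (.one ⟨14430, 0, 5⟩) (.one ⟨6452, 2, 4⟩)) (.node 1 (.one ⟨4864, 1, 3⟩) (.one ⟨6453, 2, 4⟩))) (.node 2 (.node 1 (.one ⟨10204, 0, 4⟩) (.one ⟨466, 2, 5⟩)) (.node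 1 (.one ⟨6515, 1, 2⟩) (.one ⟨9133, 1, 5⟩))))) (.node 8 (.node 4 (.node 2 (.node 1 (.one ⟨8252, 0, 3⟩) (.one ⟨16844, 3, 6⟩)) (.node 1 (.one ⟨3087, 0, 4⟩) (.one ⟨8839, 3, 4⟩))) (.node 2 (.node 1 (.one ⟨5212, 0, 3⟩) (.one ⟨13818, 2, 5⟩)) (.node 1 (.one ⟨5656, 0, 4⟩) (.one ⟨5040, 2, 5⟩)))) (.node 4 (.node 2 (.node 1 (.one ⟨13787, 0, 4⟩) (.one ⟨15470, 2, 5⟩)) (.node 1 (.one ⟨3318, 0, 5⟩) (.one ⟨2032, 3, 2⟩))) (.node 2 (.node 1 (.one ⟨6709, 1, 3⟩) (.one ⟨11337, 0, 3⟩)) (.node 1 (.one ⟨15184, 0, 5⟩) (.one ⟨1114, 0, 5⟩)))))))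
def par4_4_4 : Arr Par :=
  (.node 32 (.node 16 (.node 8 (.node 4 (.node 2 (.node 1 (.one ⟨6581, 0, 5⟩) (.one ⟨6867, 3, 3⟩)) (.node 1 (.one ⟨6540, 3, 6⟩) (.one ⟨16, 2, 3⟩))) (.node 2 (.node 1 (.one ⟨89, 2, 1⟩) (.one ⟨2539, 1, 5⟩)) (.node 1 (.one ⟨3485, 3, 5⟩) (.one ⟨15933, 2, 3⟩)))) (.node 4 (.node 2 (.node 1 (.one ⟨13316, 2, 4⟩) (.one ⟨12565, 2, 3⟩)) (.node 1 (.one ⟨4433, 3, 5⟩) (.one ⟨2822, 2, 5⟩))) (.node 2 (.node 1 (.one ⟨5330, 3, 4⟩) (.one ⟨10036, 3, 5⟩)) (.node 1 (.one ⟨2141, 2, 3⟩) (.one ⟨7247, 0, 5⟩))))) (.node 8 (.node 4 (.node 2 (.node 1 (.one ⟨14799, 2, 4⟩) (.one ⟨12139, 0, 4⟩)) (.node 1 (.one ⟨2906, 2, 3⟩) (.one ⟨6879, 0, 5⟩))) (.node 2 (.node 1 (.one ⟨15126, 3, 5⟩) (.one ⟨14184, 2, 3⟩)) (.node 1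 (.one ⟨13704, 1, 3⟩) (.one ⟨15554, 3, 5⟩)))) (.node 4 (.node 2 (.node 1 (.one ⟨13285, 3, 4⟩) (.one ⟨7304, 2, 3⟩)) (.node 1 (.one ⟨15728, 3, 4⟩) (.one ⟨8058, 3, 5⟩))) (.node 2 (.node 1 (.one ⟨12952, 2, 5⟩) (.one ⟨15250, 2, 4⟩)) (.node 1 (.one ⟨12066, 2, 5⟩) (.one ⟨16278, 2, 5⟩)))))) (.node 16 (.node 8 (.node 4 (.node 2 (.node 1 (.one ⟨7467, 0, 4⟩) (.one ⟨2680, 3, 4⟩)) (.node 1 (.one ⟨10171, 3, 4⟩) (.one ⟨3620, 3, 4⟩))) (.node 2 (.node 1 (.one ⟨13740, 0, 5⟩) (.one ⟨14380, 0, 5⟩)) (.node 1 (.one ⟨11794, 1, 5⟩) (.one ⟨5866, 3, 4⟩)))) (.node 4 (.node 2 (.node 1 (.one ⟨2641, 0, 5⟩) (.one ⟨5844, 3, 4⟩)) (.node 1 (.one ⟨15051, 0, 5⟩) (.one ⟨9209, 0, 5⟩))) (.node 2 (.node 1 (.one ⟨8562, 2, 6⟩) (.one ⟨11435, 3, 6⟩)) (.node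 1 (.one ⟨832, 3, 4⟩) (.one ⟨8085, 3, 5⟩))))) (.node 8 (.node 4 (.node 2 (.node 1 (.one ⟨8550, 0, 5⟩) (.one ⟨8237, 2, 5⟩)) (.node 1 (.one ⟨12409, 2, 4⟩) (.one ⟨14837, 1, 5⟩))) (.node 2 (.node 1 (.one ⟨11137, 2, 3⟩) (.one ⟨4852, 3, 4⟩)) (.node 1 (.one ⟨13643, 2, 5⟩) (.one ⟨4165, 3, 7⟩)))) (.node 4 (.node 2 (.node 1 (.one ⟨7298, 1, 2⟩) (.one ⟨11837, 0, 5⟩)) (.node 1 (.one ⟨9207, 1, 2⟩) (.one ⟨3755, 2, 5⟩))) (.node 2 (.node 1 (.one ⟨16981, 1, 3⟩) (.one ⟨15344, 1, 5⟩)) (.node 1 (.one ⟨3572, 1, 2⟩) (.one ⟨2657, 0, 3⟩)))))))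
def par4_4_5 : Arr Par :=
  (.node 32 (.node 16 (.node 8 (.node 4 (.node 2 (.node 1 (.one ⟨3472, 0, 5⟩) (.one ⟨11410, 1, 5⟩)) (.node 1 (.one ⟨9355, 1, 4⟩) (.one ⟨3632, 1, 4⟩))) (.node 2 (.node 1 (.one ⟨16272, 2, 5⟩) (.one ⟨5419, 3, 4⟩)) (.node 1 (.one ⟨13600, 3, 4⟩) (.one ⟨8953, 3, 4⟩)))) (.node 4 (.node 2 (.node 1 (.one ⟨6575, 0, 4⟩) (.one ⟨4937, 3, 6⟩)) (.node 1 (.one ⟨15801, 0, 5⟩) (.one ⟨13288, 2, 5⟩))) (.node 2 (.node 1 (.one ⟨13425, 2, 5⟩) (.one ⟨12854, 0, 5⟩)) (.node 1 (.one ⟨11804, 2, 5⟩) (.one ⟨10727, 3, 4⟩))))) (.node 8 (.node 4 (.node 2 (.node 1 (.one ⟨3151, 0, 5⟩) (.one ⟨14603, 3, 4⟩)) (.node 1 (.one ⟨149, 3, 5⟩) (.one ⟨4227, 2, 5⟩))) (.node 2 (.node 1 (.one ⟨11779, 2, 4⟩) (.one ⟨10947, 3, 4⟩)) (.node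 1 (.one ⟨4387, 2, 5⟩) (.one ⟨10763, 3, 5⟩)))) (.node 4 (.node 2 (.node 1 (.one ⟨1671, 2, 3⟩) (.one ⟨9631, 0, 4⟩)) (.node 1 (.one ⟨7359, 2, 6⟩) (.one ⟨8136, 2, 3⟩))) (.node 2 (.node 1 (.one ⟨15936, 0, 6⟩) (.one ⟨4758, 2, 6⟩)) (.node 1 (.one ⟨1922, 3, 3⟩) (.one ⟨3073, 3, 6⟩)))))) (.node 16 (.node 8 (.node 4 (.node 2 (.node 1 (.one ⟨13824, 3, 3⟩) (.one ⟨11648, 1, 4⟩)) (.node 1 (.one ⟨6857, 3, 5⟩) (.one ⟨2993, 2, 4⟩))) (.node 2 (.node 1 (.one ⟨3764, 2, 5⟩) (.one ⟨9212, 1, 4⟩)) (.node 1 (.one ⟨1738, 2, 3⟩) (.one ⟨13832, 0, 4⟩)))) (.node 4 (.node 2 (.node 1 (.one ⟨9029, 1, 5⟩) (.one ⟨13863, 0, 4⟩)) (.node 1 (.one ⟨4962, 1, 5⟩) (.one ⟨10950, 3, 3⟩))) (.node 2 (.node 1 (.one ⟨16559, 2, 4⟩) (.one ⟨12763, 2, 4⟩)) (.node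 1 (.one ⟨9787, 3, 5⟩) (.one ⟨651, 1, 5⟩))))) (.node 8 (.node 4 (.node 2 (.node 1 (.one ⟨478, 0, 4⟩) (.one ⟨1659, 2, 5⟩)) (.node 1 (.one ⟨6560, 3, 3⟩) (.one ⟨5043, 1, 4⟩))) (.node 2 (.node 1 (.one ⟨13746, 3, 4⟩) (.one ⟨10361, 2, 4⟩)) (.node 1 (.one ⟨1515, 2, 5⟩) (.one ⟨3928, 3, 4⟩)))) (.node 4 (.node 2 (.node 1 (.one ⟨11449, 1, 4⟩) (.one ⟨4145, 0, 3⟩)) (.node 1 (.one ⟨14339, 2, 4⟩) (.one ⟨1921, 2, 4⟩))) (.node 2 (.node 1 (.one ⟨8863, 3, 3⟩) (.one ⟨13304, 0, 5⟩)) (.node 1 (.one ⟨2420, 3, 5⟩) (.one ⟨4562, 3, 5⟩)))))))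
def par4_4_6 : Arr Par :=
  (.node 32 (.node 16 (.node 8 (.node 4 (.node 2 (.node 1 (.one ⟨14202, 3, 5⟩) (.one ⟨13554, 1, 5⟩)) (.node 1 (.one ⟨2123, 0, 4⟩) (.one ⟨17120, 1, 4⟩))) (.node 2 (.node 1 (.one ⟨16989, 3, 5⟩) (.one ⟨8184, 0, 4⟩)) (.node 1 (.one ⟨13496, 1, 5⟩) (.one ⟨4958, 0, 5⟩)))) (.node 4 (.node 2 (.node 1 (.one ⟨16574, 0, 5⟩) (.one ⟨7587, 1, 5⟩)) (.node 1 (.one ⟨15020, 1, 5⟩) (.one ⟨10354, 1, 4⟩))) (.node 2 (.node 1 (.one ⟨12858, 2, 5⟩) (.one ⟨15861, 2, 3⟩)) (.node 1 (.one ⟨12813, 1, 4⟩) (.one ⟨14339, 3, 4⟩))))) (.node 8 (.node 4 (.node 2 (.node 1 (.one ⟨15614, 1, 4⟩) (.one ⟨5093, 1, 3⟩)) (.node 1 (.one ⟨10045, 0, 2⟩) (.one ⟨842, 2, 4⟩))) (.node 2 (.node 1 (.one ⟨10394, 1, 3⟩) (.one ⟨1452, 3, 3⟩))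 (.node 1 (.one ⟨797, 3, 5⟩) (.one ⟨13193, 3, 6⟩)))) (.node 4 (.node 2 (.node 1 (.one ⟨1585, 1, 5⟩) (.one ⟨4610, 2, 4⟩)) (.node 1 (.one ⟨7407, 3, 5⟩) (.one ⟨13699, 3, 4⟩))) (.node 2 (.node 1 (.one ⟨3260, 3, 5⟩) (.one ⟨1968, 1, 5⟩)) (.node 1 (.one ⟨17102, 1, 5⟩) (.one ⟨6748, 2, 4⟩)))))) (.node 16 (.node 8 (.node 4 (.node 2 (.node 1 (.one ⟨4681, 3, 1⟩) (.one ⟨4441, 1, 0⟩)) (.node 1 (.one ⟨6957, 0, 5⟩) (.one ⟨16450, 3, 5⟩))) (.node 2 (.node 1 (.one ⟨2946, 3, 6⟩) (.one ⟨3760, 2, 5⟩)) (.node 1 (.one ⟨17074, 1, 4⟩) (.one ⟨11087, 0, 5⟩)))) (.node 4 (.node 2 (.node 1 (.one ⟨5556, 3, 5⟩) (.one ⟨8307, 3, 6⟩)) (.node 1 (.one ⟨9975, 2, 4⟩) (.one ⟨17056, 3, 5⟩))) (.node 2 (.node 1 (.one ⟨151, 3, 5⟩) (.one ⟨4282, 3, 3⟩)) (.node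 1 (.one ⟨14263, 0, 4⟩) (.one ⟨8930, 0, 5⟩))))) (.node 8 (.node 4 (.node 2 (.node 1 (.one ⟨6146, 0, 5⟩) (.one ⟨2935, 3, 5⟩)) (.node 1 (.one ⟨1953, 1, 4⟩) (.one ⟨16532, 1, 6⟩))) (.node 2 (.node 1 (.one ⟨3942, 3, 5⟩) (.one ⟨9687, 2, 4⟩)) (.node 1 (.one ⟨16294, 2, 5⟩) (.one ⟨11168, 1, 4⟩)))) (.node 4 (.node 2 (.node 1 (.one ⟨5777, 1, 4⟩) (.one ⟨11334, 2, 5⟩)) (.node 1 (.one ⟨13862, 1, 4⟩) (.one ⟨15818, 0, 4⟩))) (.node 2 (.node 1 (.one ⟨14918, 1, 6⟩) (.one ⟨9161, 1, 3⟩)) (.node 1 (.one ⟨5054, 2, 4⟩) (.one ⟨3429, 3, 5⟩)))))))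
def par4_4_7 : Arr Par :=
  (.node 32 (.node 16 (.node 8 (.node 4 (.node 2 (.node 1 (.one ⟨4230, 3, 5⟩) (.one ⟨9475, 1, 3⟩)) (.node 1 (.one ⟨11841, 1, 3⟩) (.one ⟨3822, 3, 5⟩))) (.node 2 (.node 1 (.one ⟨2867, 3, 5⟩) (.one ⟨7673, 1, 4⟩)) (.node 1 (.one ⟨6160, 1, 4⟩) (.one ⟨63, 3, 5⟩)))) (.node 4 (.node 2 (.node 1 (.one ⟨9592, 3, 4⟩) (.one ⟨1923, 0, 5⟩)) (.node 1 (.one ⟨1405, 3, 6⟩) (.one ⟨514, 1, 6⟩))) (.node 2 (.node 1 (.one ⟨1048, 1, 3⟩) (.one ⟨13024, 2, 5⟩)) (.node 1 (.one ⟨15333, 3, 4⟩) (.one ⟨3299, 2, 5⟩))))) (.node 8 (.node 4 (.node 2 (.node 1 (.one ⟨14905, 3, 6⟩) (.one ⟨13761, 0, 4⟩)) (.node 1 (.one ⟨12425, 1, 4⟩) (.one ⟨16910, 3, 6⟩))) (.node 2 (.node 1 (.one ⟨10970, 2, 5⟩) (.one ⟨9018, 3, 4⟩)) (.node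 1 (.one ⟨2207, 3, 4⟩) (.one ⟨5121, 3, 5⟩)))) (.node 4 (.node 2 (.node 1 (.one ⟨5412, 0, 5⟩) (.one ⟨15914, 2, 3⟩)) (.node 1 (.one ⟨1403, 3, 5⟩) (.one ⟨8344, 0, 5⟩))) (.node 2 (.node 1 (.one ⟨2979, 3, 5⟩) (.one ⟨4163, 3, 6⟩)) (.node 1 (.one ⟨2951, 3, 5⟩) (.one ⟨11343, 3, 5⟩)))))) (.node 16 (.node 8 (.node 4 (.node 2 (.node 1 (.one ⟨12853, 2, 4⟩) (.one ⟨9446, 1, 4⟩)) (.node 1 (.one ⟨752, 1, 5⟩) (.one ⟨13315, 0, 5⟩))) (.node 2 (.node 1 (.one ⟨3009, 1, 5⟩) (.one ⟨13556, 3, 5⟩)) (.node 1 (.one ⟨13089, 2, 4⟩) (.one ⟨15691, 3, 5⟩)))) (.node 4 (.node 2 (.node 1 (.one ⟨3704, 3, 4⟩) (.one ⟨11611, 0, 3⟩)) (.node 1 (.one ⟨6303, 3, 3⟩) (.one ⟨3724, 0, 3⟩))) (.node 2 (.node 1 (.one ⟨7559, 2, 5⟩) (.one ⟨2969, 3, 4⟩)) (.node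 1 (.one ⟨14670, 2, 5⟩) (.one ⟨9385, 3, 5⟩))))) (.node 8 (.node 4 (.node 2 (.node 1 (.one ⟨16626, 2, 5⟩) (.one ⟨14592, 3, 5⟩)) (.node 1 (.one ⟨5146, 3, 6⟩) (.one ⟨1736, 2, 3⟩))) (.node 2 (.node 1 (.one ⟨6411, 0, 5⟩) (.one ⟨9442, 1, 5⟩)) (.node 1 (.one ⟨2950, 3, 6⟩) (.one ⟨3891, 1, 5⟩)))) (.node 4 (.node 2 (.node 1 (.one ⟨6820, 1, 3⟩) (.one ⟨14444, 3, 4⟩)) (.node 1 (.one ⟨2940, 0, 4⟩) (.one ⟨11199, 1, 3⟩))) (.node 2 (.node 1 (.one ⟨1882, 2, 4⟩) (.one ⟨13893, 3, 6⟩)) (.node 1 (.one ⟨5015, 2, 3⟩) (.one ⟨9011, 2, 5⟩)))))))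
def par4_4_8 : Arr Par :=
  (.node 32 (.node 16 (.node 8 (.node 4 (.node 2 (.node 1 (.one ⟨12313, 2, 5⟩) (.one ⟨4275, 1, 4⟩)) (.node 1 (.one ⟨11173, 1, 3⟩) (.one ⟨5227, 1, 5⟩))) (.node 2 (.node 1 (.one ⟨9444, 1, 2⟩) (.one ⟨13724, 3, 5⟩)) (.node 1 (.one ⟨4377, 0, 4⟩) (.one ⟨6587, 2, 5⟩)))) (.node 4 (.node 2 (.node 1 (.one ⟨12564, 0, 4⟩) (.one ⟨9578, 3, 5⟩)) (.node 1 (.one ⟨12566, 0, 4⟩) (.one ⟨6731, 1, 4⟩))) (.node 2 (.node 1 (.one ⟨16838, 3, 5⟩) (.one ⟨11451, 1, 4⟩)) (.node 1 (.one ⟨13871, 3, 4⟩) (.one ⟨16571, 2, 5⟩))))) (.node 8 (.node 4 (.node 2 (.node 1 (.one ⟨9488, 3, 5⟩) (.one ⟨14422, 2, 5⟩)) (.node 1 (.one ⟨588, 3, 4⟩) (.one ⟨2049, 2, 4⟩))) (.node 2 (.node 1 (.one ⟨13964, 2, 5⟩) (.one ⟨5048, 2, 4⟩)) (.node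 1 (.one ⟨16430, 3, 5⟩) (.one ⟨10299, 2, 6⟩)))) (.node 4 (.node 2 (.node 1 (.one ⟨13290, 2, 5⟩) (.one ⟨16882, 3, 4⟩)) (.node 1 (.one ⟨16694, 2, 4⟩) (.one ⟨8872, 2, 4⟩))) (.node 2 (.node 1 (.one ⟨6424, 2, 4⟩) (.one ⟨3070, 1, 6⟩)) (.node 1 (.one ⟨2093, 2, 4⟩) (.one ⟨14522, 3, 6⟩)))))) (.node 16 (.node 8 (.node 4 (.node 2 (.node 1 (.one ⟨14171, 3, 4⟩) (.one ⟨10910, 1, 4⟩)) (.node 1 (.one ⟨7329, 0, 5⟩) (.one ⟨11656, 2, 4⟩))) (.node 2 (.node 1 (.one ⟨2151, 3, 3⟩) (.one ⟨16011, 0, 4⟩)) (.node 1 (.one ⟨8510, 1, 2⟩) (.one ⟨15010, 1, 2⟩)))) (.node 4 (.node 2 (.node 1 (.one ⟨11106, 1, 5⟩) (.one ⟨3329, 2, 4⟩)) (.node 1 (.one ⟨7177, 2, 3⟩) (.one ⟨9153, 1, 3⟩))) (.node 2 (.node 1 (.one ⟨12983, 2, 4⟩) (.one ⟨14567, 0, 4⟩))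 (.node 1 (.one ⟨956, 1, 3⟩) (.one ⟨3755, 0, 5⟩))))) (.node 8 (.node 4 (.node 2 (.node 1 (.one ⟨1152, 3, 5⟩) (.one ⟨13366, 2, 3⟩)) (.node 1 (.one ⟨8417, 1, 4⟩) (.one ⟨12556, 0, 1⟩))) (.node 2 (.node 1 (.one ⟨10519, 0, 4⟩) (.one ⟨11836, 3, 5⟩)) (.node 1 (.one ⟨14427, 3, 2⟩) (.one ⟨15199, 1, 4⟩)))) (.node 4 (.node 2 (.node 1 (.one ⟨15042, 3, 5⟩) (.one ⟨10538, 1, 2⟩)) (.node 1 (.one ⟨1728, 0, 3⟩) (.one ⟨6933, 2, 5⟩))) (.node 2 (.node 1 (.one ⟨7082, 3, 4⟩) (.one ⟨16451, 1, 4⟩)) (.node 1 (.one ⟨10877, 2, 3⟩) (.one ⟨8588, 3, 5⟩)))))))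
def par4_4_9 : Arr Par :=
  (.node 32 (.node 16 (.node 8 (.node 4 (.node 2 (.node 1 (.one ⟨4309, 3, 5⟩) (.one ⟨10338, 0, 5⟩)) (.node 1 (.one ⟨14441, 1, 3⟩) (.one ⟨1886, 3, 5⟩))) (.node 2 (.node 1 (.one ⟨14919, 2, 3⟩) (.one ⟨14555, 1, 5⟩)) (.node 1 (.one ⟨7340, 3, 6⟩) (.one ⟨4402, 3, 5⟩)))) (.node 4 (.node 2 (.node 1 (.one ⟨909, 1, 4⟩) (.one ⟨171, 1, 0⟩)) (.node 1 (.one ⟨13125, 2, 5⟩) (.one ⟨17085, 3, 4⟩))) (.node 2 (.node 1 (.one ⟨1285, 2, 5⟩) (.one ⟨6496, 3, 5⟩)) (.node 1 (.one ⟨9971, 2, 4⟩) (.one ⟨2615, 3, 6⟩))))) (.node 8 (.node 4 (.node 2 (.node 1 (.one ⟨5032, 0, 3⟩) (.one ⟨11458, 3, 6⟩)) (.node 1 (.one ⟨11430, 3, 3⟩) (.one ⟨4633, 2, 5⟩))) (.node 2 (.node 1 (.one ⟨15536, 3, 4⟩) (.one ⟨3526, 2, 5⟩)) (.node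 1 (.one ⟨10480, 1, 4⟩) (.one ⟨15496, 3, 1⟩)))) (.node 4 (.node 2 (.node 1 (.one ⟨14599, 3, 1⟩) (.one ⟨10373, 0, 4⟩)) (.node 1 (.one ⟨16931, 0, 5⟩) (.one ⟨12139, 3, 4⟩))) (.node 2 (.node 1 (.one ⟨13411, 3, 4⟩) (.one ⟨8025, 1, 4⟩)) (.node 1 (.one ⟨13019, 0, 5⟩) (.one ⟨8836, 0, 4⟩)))))) (.node 16 (.node 8 (.node 4 (.node 2 (.node 1 (.one ⟨3722, 2, 4⟩) (.one ⟨7872, 3, 4⟩)) (.node 1 (.one ⟨1869, 0, 4⟩) (.one ⟨10328, 1, 4⟩))) (.node 2 (.node 1 (.one ⟨10072, 1, 5⟩) (.one ⟨3064, 2, 4⟩)) (.node 1 (.one ⟨1776, 3, 1⟩) (.one ⟨12590, 0, 4⟩)))) (.node 4 (.node 2 (.node 1 (.one ⟨14424, 3, 6⟩) (.one ⟨12683, 2, 4⟩)) (.node 1 (.one ⟨14799, 1, 4⟩) (.one ⟨14951, 1, 5⟩))) (.node 2 (.node 1 (.one ⟨1874, 2, 5⟩) (.one ⟨10955, 3, 4⟩))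 (.node 1 (.one ⟨14773, 0, 4⟩) (.one ⟨759, 2, 5⟩))))) (.node 8 (.node 4 (.node 2 (.node 1 (.one ⟨3476, 3, 5⟩) (.one ⟨16709, 3, 5⟩)) (.node 1 (.one ⟨5217, 1, 6⟩) (.one ⟨15729, 1, 4⟩))) (.node 2 (.node 1 (.one ⟨4421, 2, 5⟩) (.one ⟨1034, 2, 3⟩)) (.node 1 (.one ⟨12086, 3, 3⟩) (.one ⟨591, 3, 5⟩)))) (.node 4 (.node 2 (.node 1 (.one ⟨1234, 3, 5⟩) (.one ⟨7743, 3, 5⟩)) (.node 1 (.one ⟨8071, 1, 6⟩) (.one ⟨7842, 3, 3⟩))) (.node 2 (.node 1 (.one ⟨6292, 0, 4⟩) (.one ⟨12050, 2, 6⟩)) (.node 1 (.one ⟨7523, 0, 5⟩) (.one ⟨3951, 3, 5⟩)))))))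
def par4_4_10 : Arr Par :=
  (.node 32 (.node 16 (.node 8 (.node 4 (.node 2 (.node 1 (.one ⟨5261, 3, 4⟩) (.one ⟨6414, 3, 4⟩)) (.node 1 (.one ⟨7320, 3, 3⟩) (.one ⟨13445, 1, 3⟩))) (.node 2 (.node 1 (.one ⟨2026, 0, 6⟩) (.one ⟨11357, 3, 5⟩)) (.node 1 (.one ⟨6730, 0, 5⟩) (.one ⟨9658, 0, 5⟩)))) (.node 4 (.node 2 (.node 1 (.one ⟨4446, 3, 4⟩) (.one ⟨6203, 3, 5⟩)) (.node 1 (.one ⟨16886, 3, 4⟩) (.one ⟨8025, 3, 4⟩))) (.node 2 (.node 1 (.one ⟨4279, 0, 5⟩) (.one ⟨12664, 3, 5⟩)) (.node 1 (.one ⟨434, 3, 6⟩) (.one ⟨4360, 2, 5⟩))))) (.node 8 (.node 4 (.node 2 (.node 1 (.one ⟨11444, 0, 3⟩) (.one ⟨6078, 0, 5⟩)) (.node 1 (.one ⟨8908, 3, 4⟩) (.one ⟨2446, 3, 4⟩))) (.node 2 (.node 1 (.one ⟨7167, 0, 6⟩) (.one ⟨4664, 2, 6⟩)) (.node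 1 (.one ⟨12253, 3, 5⟩) (.one ⟨202, 2, 6⟩)))) (.node 4 (.node 2 (.node 1 (.one ⟨5697, 1, 6⟩) (.one ⟨5475, 1, 4⟩)) (.node 1 (.one ⟨11057, 1, 4⟩) (.one ⟨562, 2, 6⟩))) (.node 2 (.node 1 (.one ⟨3353, 0, 5⟩) (.one ⟨16831, 3, 5⟩)) (.node 1 (.one ⟨380, 3, 6⟩) (.one ⟨2174, 3, 5⟩)))))) (.node 16 (.node 8 (.node 4 (.node 2 (.node 1 (.one ⟨3949, 2, 4⟩) (.one ⟨7978, 3, 6⟩)) (.node 1 (.one ⟨5285, 2, 5⟩) (.one ⟨2972, 2, 5⟩))) (.node 2 (.node 1 (.one ⟨14209, 3, 5⟩) (.one ⟨11122, 1, 4⟩)) (.node 1 (.one ⟨11764, 3, 5⟩) (.one ⟨3025, 1, 4⟩)))) (.node 4 (.node 2 (.node 1 (.one ⟨15675, 2, 4⟩) (.one ⟨13914, 2, 5⟩)) (.node 1 (.one ⟨10730, 0, 5⟩) (.one ⟨1474, 3, 6⟩))) (.node 2 (.node 1 (.one ⟨15074, 3, 6⟩) (.one ⟨13834, 1, 6⟩)) (.node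 1 (.one ⟨15542, 0, 5⟩) (.one ⟨17073, 3, 3⟩))))) (.node 8 (.node 4 (.node 2 (.node 1 (.one ⟨11271, 1, 4⟩) (.one ⟨3607, 3, 5⟩)) (.node 1 (.one ⟨8839, 0, 4⟩) (.one ⟨5303, 1, 3⟩))) (.node 2 (.node 1 (.one ⟨11232, 3, 4⟩) (.one ⟨10346, 0, 6⟩)) (.node 1 (.one ⟨3876, 2, 4⟩) (.one ⟨2436, 0, 3⟩)))) (.node 4 (.node 2 (.node 1 (.one ⟨14928, 1, 5⟩) (.one ⟨1152, 1, 5⟩)) (.node 1 (.one ⟨7356, 0, 5⟩) (.one ⟨15550, 2, 3⟩))) (.node 2 (.node 1 (.one ⟨8669, 0, 5⟩) (.one ⟨13845, 3, 3⟩)) (.node 1 (.one ⟨7016, 2, 4⟩) (.one ⟨5740, 2, 4⟩)))))))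
def par4_4_11 : Arr Par :=
  (.node 32 (.node 16 (.node 8 (.node 4 (.node 2 (.node 1 (.one ⟨8356, 3, 3⟩) (.one ⟨8061, 3, 5⟩)) (.node 1 (.one ⟨11702, 1, 3⟩) (.one ⟨2474, 3, 4⟩))) (.node 2 (.node 1 (.one ⟨13205, 2, 5⟩) (.one ⟨13101, 3, 2⟩)) (.node 1 (.one ⟨275, 3, 4⟩) (.one ⟨130, 0, 4⟩)))) (.node 4 (.node 2 (.node 1 (.one ⟨129, 0, 4⟩) (.one ⟨9093, 3, 4⟩)) (.node 1 (.one ⟨1048, 0, 3⟩) (.one ⟨16664, 2, 4⟩))) (.node 2 (.node 1 (.one ⟨3378, 0, 5⟩) (.one ⟨12409, 1, 4⟩)) (.node 1 (.one ⟨246, 2, 4⟩) (.one ⟨12144, 1, 5⟩))))) (.node 8 (.node 4 (.node 2 (.node 1 (.one ⟨13126, 2, 5⟩) (.one ⟨7445, 3, 5⟩)) (.node 1 (.one ⟨16353, 2, 4⟩) (.one ⟨6415, 1, 5⟩))) (.node 2 (.node 1 (.one ⟨7984, 1, 4⟩) (.one ⟨8509, 1, 4⟩)) (.node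 1 (.one ⟨16163, 2, 5⟩) (.one ⟨13905, 2, 3⟩)))) (.node 4 (.node 2 (.node 1 (.one ⟨8832, 2, 6⟩) (.one ⟨11018, 2, 5⟩)) (.node 1 (.one ⟨6950, 0, 6⟩) (.one ⟨7942, 0, 5⟩))) (.node 2 (.node 1 (.one ⟨4901, 0, 6⟩) (.one ⟨16373, 2, 5⟩)) (.node 1 (.one ⟨8048, 0, 3⟩) (.one ⟨13888, 1, 5⟩)))))) (.node 16 (.node 8 (.node 4 (.node 2 (.node 1 (.one ⟨15342, 1, 4⟩) (.one ⟨12886, 1, 5⟩)) (.node 1 (.one ⟨853, 2, 5⟩) (.one ⟨13200, 0, 4⟩))) (.node 2 (.node 1 (.one ⟨12565, 3, 3⟩) (.one ⟨15615, 2, 3⟩)) (.node 1 (.one ⟨6797, 2, 4⟩) (.one ⟨5168, 1, 5⟩)))) (.node 4 (.node 2 (.node 1 (.one ⟨11554, 1, 4⟩) (.one ⟨5485, 2, 4⟩)) (.node 1 (.one ⟨13489, 2, 5⟩) (.one ⟨16723, 3, 5⟩))) (.node 2 (.node 1 (.one ⟨17056, 2, 5⟩) (.one ⟨13795, 3, 5⟩))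 (.node 1 (.one ⟨5277, 0, 4⟩) (.one ⟨9693, 2, 4⟩))))) (.node 8 (.node 4 (.node 2 (.node 1 (.one ⟨11783, 1, 5⟩) (.one ⟨10244, 1, 6⟩)) (.node 1 (.one ⟨5628, 0, 5⟩) (.one ⟨8881, 0, 5⟩))) (.node 2 (.node 1 (.one ⟨6159, 0, 3⟩) (.one ⟨7341, 1, 5⟩)) (.node 1 (.one ⟨8349, 2, 3⟩) (.one ⟨3509, 0, 5⟩)))) (.node 4 (.node 2 (.node 1 (.one ⟨9078, 3, 5⟩) (.one ⟨12974, 3, 5⟩)) (.node 1 (.one ⟨14567, 2, 4⟩) (.one ⟨4056, 3, 6⟩))) (.node 2 (.node 1 (.one ⟨15876, 2, 5⟩) (.one ⟨5030, 0, 5⟩)) (.node 1 (.one ⟨14109, 0, 5⟩) (.one ⟨14421, 1, 3⟩)))))))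
def par4_4_12 : Arr Par :=
  (.node 32 (.node 16 (.node 8 (.node 4 (.node 2 (.node 1 (.one ⟨13666, 0, 2⟩) (.one ⟨10206, 1, 4⟩)) (.node 1 (.one ⟨739, 1, 5⟩) (.one ⟨4030, 1, 3⟩))) (.node 2 (.node 1 (.one ⟨155, 3, 5⟩) (.one ⟨8036, 1, 3⟩)) (.node 1 (.one ⟨6750, 3, 4⟩) (.one ⟨9660, 3, 4⟩)))) (.node 4 (.node 2 (.node 1 (.one ⟨5203, 2, 3⟩) (.one ⟨2013, 0, 5⟩)) (.node 1 (.one ⟨3225, 1, 5⟩) (.one ⟨4398, 2, 5⟩))) (.node 2 (.node 1 (.one ⟨2716, 2, 4⟩) (.one ⟨61, 2, 2⟩)) (.node 1 (.one ⟨15170, 3, 5⟩) (.one ⟨1937, 0, 5⟩))))) (.node 8 (.node 4 (.node 2 (.node 1 (.one ⟨1494, 3, 4⟩) (.one ⟨13309, 1, 5⟩)) (.node 1 (.one ⟨8624, 3, 5⟩) (.one ⟨12601, 0, 4⟩))) (.node 2 (.node 1 (.one ⟨6754, 0, 3⟩) (.one ⟨9525, 0, 4⟩)) (.node 1 (.one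 ⟨7821, 0, 5⟩) (.one ⟨12203, 2, 5⟩)))) (.node 4 (.node 2 (.node 1 (.one ⟨16523, 2, 5⟩) (.one ⟨6184, 0, 3⟩)) (.node 1 (.one ⟨11093, 2, 5⟩) (.one ⟨8734, 3, 5⟩))) (.node 2 (.node 1 (.one ⟨15407, 2, 5⟩) (.one ⟨16145, 2, 3⟩)) (.node 1 (.one ⟨13369, 2, 6⟩) (.one ⟨5683, 0, 4⟩)))))) (.node 16 (.node 8 (.node 4 (.node 2 (.node 1 (.one ⟨3305, 0, 4⟩) (.one ⟨11462, 3, 6⟩)) (.node 1 (.one ⟨7694, 1, 4⟩) (.one ⟨1318, 2, 5⟩))) (.node 2 (.node 1 (.one ⟨6565, 1, 5⟩) (.one ⟨7515, 2, 5⟩)) (.node 1 (.one ⟨15650, 2, 3⟩) (.one ⟨4353, 3, 4⟩)))) (.node 4 (.node 2 (.node 1 (.one ⟨7395, 2, 5⟩) (.one ⟨10863, 1, 4⟩)) (.node 1 (.one ⟨5822, 2, 4⟩) (.one ⟨3235, 2, 5⟩))) (.node 2 (.node 1 (.one ⟨3451, 2, 5⟩) (.one ⟨16742, 1, 5⟩)) (.node 1 (.one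 ⟨4356, 3, 2⟩) (.one ⟨3249, 0, 3⟩))))) (.node 8 (.node 4 (.node 2 (.node 1 (.one ⟨3281, 2, 1⟩) (.one ⟨5491, 2, 5⟩)) (.node 1 (.one ⟨9090, 0, 4⟩) (.one ⟨443, 1, 0⟩))) (.node 2 (.node 1 (.one ⟨15323, 3, 5⟩) (.one ⟨7114, 2, 4⟩)) (.node 1 (.one ⟨288, 1, 5⟩) (.one ⟨436, 2, 5⟩)))) (.node 4 (.node 2 (.node 1 (.one ⟨12220, 3, 6⟩) (.one ⟨9624, 3, 5⟩)) (.node 1 (.one ⟨12252, 3, 5⟩) (.one ⟨9504, 3, 4⟩))) (.node 2 (.node 1 (.one ⟨11028, 2, 4⟩) (.one ⟨9392, 3, 5⟩)) (.node 1 (.one ⟨11029, 2, 4⟩) (.one ⟨4838, 3, 5⟩)))))))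
def par4_4_13 : Arr Par :=
  (.node 32 (.node 16 (.node 8 (.node 4 (.node 2 (.node 1 (.one ⟨9689, 3, 4⟩) (.one ⟨16155, 1, 4⟩)) (.node 1 (.one ⟨1403, 2, 5⟩) (.one ⟨5883, 0, 6⟩))) (.node 2 (.node 1 (.one ⟨11526, 1, 3⟩) (.one ⟨14284, 1, 3⟩)) (.node 1 (.one ⟨15288, 3, 5⟩) (.one ⟨10607, 3, 6⟩)))) (.node 4 (.node 2 (.node 1 (.one ⟨7862, 2, 5⟩) (.one ⟨13795, 1, 5⟩)) (.node 1 (.one ⟨12777, 3, 5⟩) (.one ⟨5113, 1, 5⟩))) (.node 2 (.node 1 (.one ⟨11696, 2, 3⟩) (.one ⟨2861, 3, 6⟩)) (.node 1 (.one ⟨16998, 1, 5⟩) (.one ⟨7917, 1, 4⟩))))) (.node 8 (.node 4 (.node 2 (.node 1 (.one ⟨13925, 1, 4⟩) (.one ⟨16377, 1, 6⟩)) (.node 1 (.one ⟨6295, 0, 4⟩) (.one ⟨3659, 1, 4⟩))) (.node 2 (.node 1 (.one ⟨399, 1, 0⟩) (.one ⟨10794, 2, 4⟩))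 (.node 1 (.one ⟨1654, 2, 5⟩) (.one ⟨806, 2, 4⟩)))) (.node 4 (.node 2 (.node 1 (.one ⟨7601, 3, 5⟩) (.one ⟨11135, 3, 5⟩)) (.node 1 (.one ⟨3279, 2, 5⟩) (.one ⟨8510, 0, 2⟩))) (.node 2 (.node 1 (.one ⟨5879, 1, 5⟩) (.one ⟨16722, 3, 5⟩)) (.node 1 (.one ⟨9803, 3, 4⟩) (.one ⟨5729, 0, 4⟩)))))) (.node 16 (.node 8 (.node 4 (.node 2 (.node 1 (.one ⟨3364, 0, 5⟩) (.one ⟨17029, 1, 4⟩)) (.node 1 (.one ⟨16200, 3, 4⟩) (.one ⟨16816, 2, 5⟩))) (.node 2 (.node 1 (.one ⟨13943, 2, 5⟩) (.one ⟨7090, 1, 5⟩)) (.node 1 (.one ⟨1635, 1, 5⟩) (.one ⟨10813, 2, 5⟩)))) (.node 4 (.node 2 (.node 1 (.one ⟨12795, 0, 5⟩) (.one ⟨14382, 0, 4⟩)) (.node 1 (.one ⟨6938, 0, 5⟩) (.one ⟨1625, 1, 6⟩))) (.node 2 (.node 1 (.one ⟨12425, 0, 4⟩) (.one ⟨14919, 0, 3⟩))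 (.node 1 (.one ⟨6410, 1, 5⟩) (.one ⟨13552, 0, 4⟩))))) (.node 8 (.node 4 (.node 2 (.node 1 (.one ⟨13503, 0, 4⟩) (.one ⟨7806, 1, 6⟩)) (.node 1 (.one ⟨16096, 0, 4⟩) (.one ⟨11368, 1, 1⟩))) (.node 2 (.node 1 (.one ⟨5996, 1, 5⟩) (.one ⟨9696, 0, 4⟩)) (.node 1 (.one ⟨4948, 2, 1⟩) (.one ⟨16093, 1, 4⟩)))) (.node 4 (.node 2 (.node 1 (.one ⟨161, 2, 4⟩) (.one ⟨3688, 1, 4⟩)) (.node 1 (.one ⟨8303, 2, 5⟩) (.one ⟨15868, 3, 5⟩))) (.node 2 (.node 1 (.one ⟨7212, 3, 5⟩) (.one ⟨14556, 0, 5⟩)) (.node 1 (.one ⟨11684, 1, 4⟩) (.one ⟨7734, 0, 4⟩)))))))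
def par4_4_14 : Arr Par :=
  (.node 32 (.node 16 (.node 8 (.node 4 (.node 2 (.node 1 (.one ⟨4806, 2, 5⟩) (.one ⟨207, 0, 4⟩)) (.node 1 (.one ⟨5523, 0, 4⟩) (.one ⟨3570, 1, 4⟩))) (.node 2 (.node 1 (.one ⟨10172, 1, 4⟩) (.one ⟨3159, 3, 2⟩)) (.node 1 (.one ⟨2659, 2, 4⟩) (.one ⟨5537, 1, 5⟩)))) (.node 4 (.node 2 (.node 1 (.one ⟨10386, 1, 6⟩) (.one ⟨1265, 2, 4⟩)) (.node 1 (.one ⟨9717, 2, 4⟩) (.one ⟨16131, 1, 2⟩))) (.node 2 (.node 1 (.one ⟨1415, 2, 5⟩) (.one ⟨13782, 1, 5⟩)) (.node 1 (.one ⟨10974, 0, 3⟩) (.one ⟨10911, 0, 4⟩))))) (.node 8 (.node 4 (.node 2 (.node 1 (.one ⟨5520, 0, 5⟩) (.one ⟨6155, 0, 4⟩)) (.node 1 (.one ⟨6238, 1, 4⟩) (.one ⟨12725, 3, 5⟩))) (.node 2 (.node 1 (.one ⟨8790, 3, 4⟩) (.one ⟨8184, 1, 4⟩)) (.node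 1 (.one ⟨3966, 1, 4⟩) (.one ⟨3080, 1, 2⟩)))) (.node 4 (.node 2 (.node 1 (.one ⟨8266, 0, 5⟩) (.one ⟨3605, 3, 5⟩)) (.node 1 (.one ⟨4903, 1, 5⟩) (.one ⟨15914, 1, 3⟩))) (.node 2 (.node 1 (.one ⟨9503, 3, 5⟩) (.one ⟨11638, 3, 4⟩)) (.node 1 (.one ⟨463, 2, 4⟩) (.one ⟨9744, 0, 4⟩)))))) (.node 16 (.node 8 (.node 4 (.node 2 (.node 1 (.one ⟨9898, 3, 5⟩) (.one ⟨11781, 3, 5⟩)) (.node 1 (.one ⟨8906, 2, 4⟩) (.one ⟨10166, 1, 6⟩))) (.node 2 (.node 1 (.one ⟨8691, 2, 3⟩) (.one ⟨16472, 2, 6⟩)) (.node 1 (.one ⟨17019, 0, 4⟩) (.one ⟨2790, 0, 6⟩)))) (.node 4 (.node 2 (.node 1 (.one ⟨2739, 0, 2⟩) (.one ⟨2763, 0, 6⟩)) (.node 1 (.one ⟨10633, 1, 6⟩) (.one ⟨15023, 0, 5⟩))) (.node 2 (.node 1 (.one ⟨5102, 2, 4⟩) (.one ⟨3353, 2, 5⟩)) (.node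 1 (.one ⟨10512, 1, 5⟩) (.one ⟨12265, 1, 5⟩))))) (.node 8 (.node 4 (.node 2 (.node 1 (.one ⟨10534, 3, 4⟩) (.one ⟨1396, 1, 4⟩)) (.node 1 (.one ⟨16431, 1, 5⟩) (.one ⟨11634, 3, 3⟩))) (.node 2 (.node 1 (.one ⟨1909, 2, 5⟩) (.one ⟨6804, 2, 5⟩)) (.node 1 (.one ⟨6296, 3, 5⟩) (.one ⟨8524, 2, 4⟩)))) (.node 4 (.node 2 (.node 1 (.one ⟨10488, 3, 3⟩) (.one ⟨7390, 3, 5⟩)) (.node 1 (.one ⟨9521, 2, 4⟩) (.one ⟨10017, 2, 3⟩))) (.node 2 (.node 1 (.one ⟨6041, 2, 5⟩) (.one ⟨10802, 1, 5⟩)) (.node 1 (.one ⟨4180, 3, 3⟩) (.one ⟨13378, 2, 5⟩)))))))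
def par4_4_15 : Arr Par :=
  (.node 32 (.node 16 (.node 8 (.node 4 (.node 2 (.node 1 (.one ⟨15149, 3, 5⟩) (.one ⟨15276, 2, 3⟩)) (.node 1 (.one ⟨11459, 1, 4⟩) (.one ⟨4482, 3, 5⟩))) (.node 2 (.node 1 (.one ⟨5015, 1, 3⟩) (.one ⟨9900, 3, 6⟩)) (.node 1 (.one ⟨6832, 3, 4⟩) (.one ⟨15185, 3, 5⟩)))) (.node 4 (.node 2 (.node 1 (.one ⟨5028, 2, 4⟩) (.one ⟨15298, 3, 5⟩)) (.node 1 (.one ⟨2907, 3, 4⟩) (.one ⟨17067, 0, 5⟩))) (.node 2 (.node 1 (.one ⟨14614, 3, 5⟩) (.one ⟨10674, 2, 4⟩)) (.node 1 (.one ⟨2557, 1, 5⟩) (.one ⟨16130, 0, 2⟩))))) (.node 8 (.node 4 (.node 2 (.node 1 (.one ⟨7097, 1, 2⟩) (.one ⟨5603, 1, 6⟩)) (.node 1 (.one ⟨10389, 3, 5⟩) (.one ⟨13781, 3, 5⟩))) (.node 2 (.node 1 (.one ⟨15224, 3, 6⟩) (.one ⟨6667, 3, 3⟩))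 (.node 1 (.one ⟨5747, 1, 3⟩) (.one ⟨1391, 1, 3⟩)))) (.node 4 (.node 2 (.node 1 (.one ⟨11064, 2, 4⟩) (.one ⟨13880, 3, 5⟩)) (.node 1 (.one ⟨3653, 1, 5⟩) (.one ⟨4269, 1, 3⟩))) (.node 2 (.node 1 (.one ⟨8798, 1, 4⟩) (.one ⟨7838, 2, 2⟩)) (.node 1 (.one ⟨8356, 2, 3⟩) (.one ⟨10893, 2, 5⟩)))))) (.node 16 (.node 8 (.node 4 (.node 2 (.node 1 (.one ⟨6650, 2, 5⟩) (.one ⟨3040, 2, 5⟩)) (.node 1 (.one ⟨1393, 1, 5⟩) (.one ⟨6209, 0, 3⟩))) (.node 2 (.node 1 (.one ⟨15433, 0, 5⟩) (.one ⟨410, 3, 2⟩)) (.node 1 (.one ⟨1663, 2, 4⟩) (.one ⟨12063, 0, 5⟩)))) (.node 4 (.node 2 (.node 1 (.one ⟨16680, 0, 4⟩) (.one ⟨5738, 3, 5⟩)) (.node 1 (.one ⟨6745, 2, 5⟩) (.one ⟨16652, 2, 5⟩))) (.node 2 (.node 1 (.one ⟨10841, 2, 5⟩) (.one ⟨4976, 3, 5⟩))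 (.node 1 (.one ⟨9408, 2, 3⟩) (.one ⟨5600, 0, 3⟩))))) (.node 8 (.node 4 (.node 2 (.node 1 (.one ⟨9243, 3, 5⟩) (.one ⟨12796, 0, 5⟩)) (.node 1 (.one ⟨3818, 1, 0⟩) (.one ⟨11443, 1, 4⟩))) (.node 2 (.node 1 (.one ⟨769, 1, 4⟩) (.one ⟨13057, 3, 5⟩)) (.node 1 (.one ⟨1324, 3, 5⟩) (.one ⟨5898, 1, 3⟩)))) (.node 4 (.node 2 (.node 1 (.one ⟨6258, 3, 4⟩) (.one ⟨6257, 3, 4⟩)) (.node 1 (.one ⟨6260, 3, 6⟩) (.one ⟨5151, 2, 5⟩))) (.node 2 (.node 1 (.one ⟨6256, 3, 4⟩) (.one ⟨6255, 3, 5⟩)) (.node 1 (.one ⟨15350, 2, 4⟩) (.one ⟨7631, 2, 5⟩)))))))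
def par4_4 : Arr Par :=
  (.node 512 (.node 256 (.node 128 (.node 64 par4_4_0 par4_4_1) (.node 64 par4_4_2 par4_4_3)) (.node 128 (.node 64 par4_4_4 par4_4_5) (.node 64 par4_4_6 par4_4_7))) (.node 256 (.node 128 (.node 64 par4_4_8 par4_4_9) (.node 64 par4_4_10 par4_4_11)) (.node 128 (.node 64 par4_4_12 par4_4_13) (.node 64 par4_4_14 par4_4_15))))
def par4_5_0 : Arr Par :=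
  (.node 32 (.node 16 (.node 8 (.node 4 (.node 2 (.node 1 (.one ⟨9735, 0, 5⟩) (.one ⟨390, 1, 4⟩)) (.node 1 (.one ⟨11502, 1, 6⟩) (.one ⟨11497, 1, 2⟩))) (.node 2 (.node 1 (.one ⟨1050, 1, 4⟩) (.one ⟨542, 1, 4⟩)) (.node 1 (.one ⟨9721, 0, 3⟩) (.one ⟨9704, 0, 4⟩)))) (.node 4 (.node 2 (.node 1 (.one ⟨13782, 3, 5⟩) (.one ⟨13274, 2, 4⟩)) (.node 1 (.one ⟨13978, 1, 2⟩) (.one ⟨3207, 0, 4⟩))) (.node 2 (.node 1 (.one ⟨13819, 1, 3⟩) (.one ⟨13101, 0, 2⟩)) (.node 1 (.one ⟨410, 0, 2⟩) (.one ⟨16194, 1, 4⟩))))) (.node 8 (.node 4 (.node 2 (.node 1 (.one ⟨14916, 2, 6⟩) (.one ⟨8791, 3, 4⟩)) (.node 1 (.one ⟨10614, 3, 6⟩) (.one ⟨4647, 1, 3⟩))) (.node 2 (.node 1 (.one ⟨16131, 3, 2⟩) (.one ⟨7111, 0, 4⟩)) (.node 1 (.one ⟨15451, 3, 6⟩)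 (.one ⟨6832, 1, 4⟩)))) (.node 4 (.node 2 (.node 1 (.one ⟨15892, 3, 5⟩) (.one ⟨8065, 2, 3⟩)) (.node 1 (.one ⟨9643, 3, 5⟩) (.one ⟨7752, 3, 5⟩))) (.node 2 (.node 1 (.one ⟨11128, 2, 5⟩) (.one ⟨15012, 2, 5⟩)) (.node 1 (.one ⟨16527, 2, 5⟩) (.one ⟨10239, 3, 4⟩)))))) (.node 16 (.node 8 (.node 4 (.node 2 (.node 1 (.one ⟨816, 2, 4⟩) (.one ⟨14584, 2, 4⟩)) (.node 1 (.one ⟨15889, 1, 4⟩) (.one ⟨8717, 3, 6⟩))) (.node 2 (.node 1 (.one ⟨8797, 2, 6⟩) (.one ⟨9434, 1, 3⟩)) (.node 1 (.one ⟨10377, 0, 5⟩) (.one ⟨17058, 1, 4⟩)))) (.node 4 (.node 2 (.node 1 (.one ⟨6374, 1, 3⟩) (.one ⟨16176, 3, 4⟩)) (.node 1 (.one ⟨7277, 2, 5⟩) (.one ⟨4783, 3, 4⟩))) (.node 2 (.node 1 (.one ⟨3572, 0, 2⟩) (.one ⟨453, 1, 3⟩)) (.node 1 (.one ⟨9669, 2, 6⟩)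 (.one ⟨7424, 3, 4⟩))))) (.node 8 (.node 4 (.node 2 (.node 1 (.one ⟨2877, 3, 4⟩) (.one ⟨2874, 3, 5⟩)) (.node 1 (.one ⟨8351, 2, 6⟩) (.one ⟨9888, 1, 5⟩))) (.node 2 (.node 1 (.one ⟨4313, 1, 3⟩) (.one ⟨2363, 2, 4⟩)) (.node 1 (.one ⟨5981, 1, 2⟩) (.one ⟨16041, 0, 2⟩)))) (.node 4 (.node 2 (.node 1 (.one ⟨14764, 3, 5⟩) (.one ⟨13639, 0, 4⟩)) (.node 1 (.one ⟨2819, 2, 2⟩) (.one ⟨12755, 0, 2⟩))) (.node 2 (.node 1 (.one ⟨8452, 0, 2⟩) (.one ⟨3181, 1, 4⟩)) (.node 1 (.one ⟨9371, 3, 4⟩) (.one ⟨7332, 1, 3⟩)))))))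
def par4_5_1 : Arr Par :=
  (.node 32 (.node 16 (.node 8 (.node 4 (.node 2 (.node 1 (.one ⟨13921, 1, 3⟩) (.one ⟨6254, 3, 5⟩)) (.node 1 (.one ⟨7937, 3, 4⟩) (.one ⟨9835, 2, 5⟩))) (.node 2 (.node 1 (.one ⟨15208, 2, 4⟩) (.one ⟨6781, 0, 5⟩)) (.node 1 (.one ⟨15050, 3, 6⟩) (.one ⟨8548, 3, 4⟩)))) (.node 4 (.node 2 (.node 1 (.one ⟨13863, 3, 4⟩) (.one ⟨6940, 3, 5⟩)) (.node 1 (.one ⟨9401, 0, 5⟩) (.one ⟨11565, 3, 4⟩))) (.node 2 (.node 1 (.one ⟨3971, 3, 5⟩) (.one ⟨13572, 3, 5⟩)) (.node 1 (.one ⟨14312, 0, 5⟩) (.one ⟨14553, 3, 5⟩))))) (.node 8 (.node 4 (.node 2 (.node 1 (.one ⟨9844, 2, 5⟩) (.one ⟨6779, 0, 5⟩)) (.node 1 (.one ⟨5460, 0, 5⟩) (.one ⟨8653, 0, 2⟩))) (.node 2 (.node 1 (.one ⟨8800, 2, 4⟩) (.one ⟨806, 0, 4⟩)) (.node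 1 (.one ⟨445, 1, 4⟩) (.one ⟨2230, 3, 4⟩)))) (.node 4 (.node 2 (.node 1 (.one ⟨5866, 2, 4⟩) (.one ⟨2228, 3, 4⟩)) (.node 1 (.one ⟨7699, 1, 5⟩) (.one ⟨6157, 3, 4⟩))) (.node 2 (.node 1 (.one ⟨2225, 3, 2⟩) (.one ⟨5956, 1, 4⟩)) (.node 1 (.one ⟨2223, 3, 4⟩) (.one ⟨3809, 1, 4⟩)))))) (.node 16 (.node 8 (.node 4 (.node 2 (.node 1 (.one ⟨6977, 3, 5⟩) (.one ⟨12091, 0, 5⟩)) (.node 1 (.one ⟨15034, 3, 5⟩) (.one ⟨6960, 1, 5⟩))) (.node 2 (.node 1 (.one ⟨16482, 2, 4⟩) (.one ⟨16681, 1, 4⟩)) (.node 1 (.one ⟨12435, 2, 4⟩) (.one ⟨13673, 0, 5⟩)))) (.node 4 (.node 2 (.node 1 (.one ⟨7449, 1, 4⟩) (.one ⟨13635, 0, 2⟩)) (.node 1 (.one ⟨1124, 3, 4⟩) (.one ⟨11451, 3, 4⟩))) (.node 2 (.node 1 (.one ⟨5047, 2, 5⟩) (.one ⟨3261, 2, 5⟩)) (.node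 1 (.one ⟨2182, 3, 4⟩) (.one ⟨11614, 1, 3⟩))))) (.node 8 (.node 4 (.node 2 (.node 1 (.one ⟨12089, 0, 6⟩) (.one ⟨15326, 3, 4⟩)) (.node 1 (.one ⟨4174, 1, 5⟩) (.one ⟨7543, 3, 4⟩))) (.node 2 (.node 1 (.one ⟨9801, 2, 6⟩) (.one ⟨1822, 0, 3⟩)) (.node 1 (.one ⟨13582, 2, 6⟩) (.one ⟨8256, 0, 3⟩)))) (.node 4 (.node 2 (.node 1 (.one ⟨14170, 0, 5⟩) (.one ⟨8148, 0, 4⟩)) (.node 1 (.one ⟨12590, 1, 4⟩) (.one ⟨3335, 2, 5⟩))) (.node 2 (.node 1 (.one ⟨5668, 0, 5⟩) (.one ⟨9085, 1, 2⟩)) (.node 1 (.one ⟨6137, 0, 2⟩) (.one ⟨4889, 3, 4⟩)))))))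
def par4_5_2 : Arr Par :=
  (.node 32 (.node 16 (.node 8 (.node 4 (.node 2 (.node 1 (.one ⟨16545, 3, 5⟩) (.one ⟨5890, 3, 5⟩)) (.node 1 (.one ⟨5877, 2, 5⟩) (.one ⟨2208, 3, 4⟩))) (.node 2 (.node 1 (.one ⟨14072, 3, 5⟩) (.one ⟨8744, 3, 6⟩)) (.node 1 (.one ⟨4476, 2, 4⟩) (.one ⟨10648, 2, 5⟩)))) (.node 4 (.node 2 (.node 1 (.one ⟨17042, 1, 4⟩) (.one ⟨7933, 1, 6⟩)) (.node 1 (.one ⟨16661, 0, 4⟩) (.one ⟨10879, 1, 5⟩))) (.node 2 (.node 1 (.one ⟨15641, 1, 3⟩) (.one ⟨5894, 1, 3⟩)) (.node 1 (.one ⟨2531, 1, 5⟩) (.one ⟨11799, 1, 3⟩))))) (.node 8 (.node 4 (.node 2 (.node 1 (.one ⟨12247, 3, 6⟩) (.one ⟨8331, 2, 6⟩)) (.node 1 (.one ⟨1768, 3, 5⟩) (.one ⟨10012, 3, 3⟩))) (.node 2 (.node 1 (.one ⟨16252, 3, 5⟩) (.one ⟨14577, 1, 5⟩))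 (.node 1 (.one ⟨6005, 3, 6⟩) (.one ⟨12201, 0, 5⟩)))) (.node 4 (.node 2 (.node 1 (.one ⟨8188, 3, 6⟩) (.one ⟨14318, 0, 1⟩)) (.node 1 (.one ⟨13152, 3, 6⟩) (.one ⟨6404, 2, 2⟩))) (.node 2 (.node 1 (.one ⟨11900, 2, 3⟩) (.one ⟨665, 1, 3⟩)) (.node 1 (.one ⟨6787, 0, 5⟩) (.one ⟨4692, 1, 5⟩)))))) (.node 16 (.node 8 (.node 4 (.node 2 (.node 1 (.one ⟨2491, 1, 4⟩) (.one ⟨17042, 0, 4⟩)) (.node 1 (.one ⟨4858, 3, 5⟩) (.one ⟨10563, 1, 3⟩))) (.node 2 (.node 1 (.one ⟨12022, 3, 6⟩) (.one ⟨1215, 2, 4⟩)) (.node 1 (.one ⟨15336, 1, 5⟩) (.one ⟨13952, 3, 5⟩)))) (.node 4 (.node 2 (.node 1 (.one ⟨16710, 3, 4⟩) (.one ⟨13710, 2, 6⟩)) (.node 1 (.one ⟨5355, 2, 4⟩) (.one ⟨10067, 3, 4⟩))) (.node 2 (.node 1 (.one ⟨3660, 2, 5⟩) (.one ⟨3187, 2,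 5⟩)) (.node 1 (.one ⟨11196, 1, 5⟩) (.one ⟨12455, 3, 5⟩))))) (.node 8 (.node 4 (.node 2 (.node 1 (.one ⟨472, 3, 6⟩) (.one ⟨9624, 0, 5⟩)) (.node 1 (.one ⟨5283, 3, 4⟩) (.one ⟨3212, 3, 2⟩))) (.node 2 (.node 1 (.one ⟨13019, 3, 5⟩) (.one ⟨3545, 3, 5⟩)) (.node 1 (.one ⟨10762, 3, 5⟩) (.one ⟨10994, 0, 2⟩)))) (.node 4 (.node 2 (.node 1 (.one ⟨13730, 3, 6⟩) (.one ⟨2140, 2, 5⟩)) (.node 1 (.one ⟨2434, 0, 3⟩) (.one ⟨621, 3, 5⟩))) (.node 2 (.node 1 (.one ⟨16762, 2, 4⟩) (.one ⟨5750, 2, 5⟩)) (.node 1 (.one ⟨12843, 0, 4⟩) (.one ⟨16697, 0, 3⟩)))))))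
def par4_5_3 : Arr Par :=
  (.node 32 (.node 16 (.node 8 (.node 4 (.node 2 (.node 1 (.one ⟨16761, 1, 5⟩) (.one ⟨16692, 0, 5⟩)) (.node 1 (.one ⟨5892, 1, 4⟩) (.one ⟨4798, 0, 5⟩))) (.node 2 (.node 1 (.one ⟨15004, 1, 3⟩) (.one ⟨1195, 3, 2⟩)) (.node 1 (.one ⟨7616, 1, 4⟩) (.one ⟨5129, 1, 5⟩)))) (.node 4 (.node 2 (.node 1 (.one ⟨9658, 3, 5⟩) (.one ⟨2990, 2, 4⟩)) (.node 1 (.one ⟨4494, 1, 5⟩) (.one ⟨3656, 2, 5⟩))) (.node 2 (.node 1 (.one ⟨16453, 3, 3⟩) (.one ⟨2958, 2, 5⟩)) (.node 1 (.one ⟨3010, 1, 3⟩) (.one ⟨11424, 3, 5⟩))))) (.node 8 (.node 4 (.node 2 (.node 1 (.one ⟨13478, 2, 5⟩) (.one ⟨9201, 2, 1⟩)) (.node 1 (.one ⟨2513, 0, 3⟩) (.one ⟨3705, 3, 4⟩))) (.node 2 (.node 1 (.one ⟨12081, 0, 3⟩) (.one ⟨6304, 3, 3⟩)) (.node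 1 (.one ⟨6883, 3, 4⟩) (.one ⟨3485, 1, 5⟩)))) (.node 4 (.node 2 (.node 1 (.one ⟨9687, 3, 4⟩) (.one ⟨11992, 2, 5⟩)) (.node 1 (.one ⟨9532, 2, 5⟩) (.one ⟨11169, 1, 5⟩))) (.node 2 (.node 1 (.one ⟨11966, 2, 5⟩) (.one ⟨13718, 3, 5⟩)) (.node 1 (.one ⟨2517, 1, 4⟩) (.one ⟨8011, 2, 5⟩)))))) (.node 16 (.node 8 (.node 4 (.node 2 (.node 1 (.one ⟨4139, 1, 5⟩) (.one ⟨4141, 1, 6⟩)) (.node 1 (.one ⟨5113, 0, 5⟩) (.one ⟨430, 1, 5⟩))) (.node 2 (.node 1 (.one ⟨1598, 3, 4⟩) (.one ⟨5806, 3, 5⟩)) (.node 1 (.one ⟨5009, 3, 5⟩) (.one ⟨4370, 1, 4⟩)))) (.node 4 (.node 2 (.node 1 (.one ⟨1553, 3, 4⟩) (.one ⟨17060, 3, 5⟩)) (.node 1 (.one ⟨6797, 0, 4⟩) (.one ⟨4665, 3, 3⟩))) (.node 2 (.node 1 (.one ⟨5729, 1, 4⟩) (.one ⟨3684, 1, 6⟩)) (.node 1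 (.one ⟨8270, 1, 4⟩) (.one ⟨7998, 1, 3⟩))))) (.node 8 (.node 4 (.node 2 (.node 1 (.one ⟨2383, 0, 3⟩) (.one ⟨5003, 2, 3⟩)) (.node 1 (.one ⟨4125, 1, 3⟩) (.one ⟨10781, 2, 3⟩))) (.node 2 (.node 1 (.one ⟨2863, 3, 4⟩) (.one ⟨3825, 1, 5⟩)) (.node 1 (.one ⟨7418, 2, 5⟩) (.one ⟨4317, 1, 6⟩)))) (.node 4 (.node 2 (.node 1 (.one ⟨5784, 1, 2⟩) (.one ⟨13950, 1, 4⟩)) (.node 1 (.one ⟨12417, 3, 6⟩) (.one ⟨8349, 1, 3⟩))) (.node 2 (.node 1 (.one ⟨7233, 0, 5⟩) (.one ⟨11330, 0, 4⟩)) (.node 1 (.one ⟨16360, 1, 5⟩) (.one ⟨4586, 3, 4⟩)))))))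
def par4_5_4 : Arr Par :=
  (.node 32 (.node 16 (.node 8 (.node 4 (.node 2 (.node 1 (.one ⟨3156, 1, 5⟩) (.one ⟨14684, 2, 6⟩)) (.node 1 (.one ⟨16371, 2, 5⟩) (.one ⟨11080, 2, 4⟩))) (.node 2 (.node 1 (.one ⟨13803, 1, 5⟩) (.one ⟨2800, 3, 2⟩)) (.node 1 (.one ⟨288, 0, 5⟩) (.one ⟨12778, 0, 2⟩)))) (.node 4 (.node 2 (.node 1 (.one ⟨13431, 0, 2⟩) (.one ⟨6929, 0, 2⟩)) (.node 1 (.one ⟨4095, 1, 5⟩) (.one ⟨14766, 3, 5⟩))) (.node 2 (.node 1 (.one ⟨15014, 0, 2⟩) (.one ⟨11904, 1, 5⟩)) (.node 1 (.one ⟨4699, 0, 5⟩) (.one ⟨10270, 2, 4⟩))))) (.node 8 (.node 4 (.node 2 (.node 1 (.one ⟨12237, 0, 4⟩) (.one ⟨10637, 3, 4⟩)) (.node 1 (.one ⟨10247, 2, 5⟩) (.one ⟨13853, 3, 5⟩))) (.node 2 (.node 1 (.one ⟨1079, 2, 4⟩) (.one ⟨16976, 0, 3⟩))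 (.node 1 (.one ⟨5429, 1, 4⟩) (.one ⟨8290, 0, 5⟩)))) (.node 4 (.node 2 (.node 1 (.one ⟨14393, 2, 5⟩) (.one ⟨8294, 0, 4⟩)) (.node 1 (.one ⟨1029, 0, 3⟩) (.one ⟨3445, 1, 4⟩))) (.node 2 (.node 1 (.one ⟨4928, 1, 5⟩) (.one ⟨61, 0, 2⟩)) (.node 1 (.one ⟨11885, 3, 3⟩) (.one ⟨273, 1, 4⟩)))))) (.node 16 (.node 8 (.node 4 (.node 2 (.node 1 (.one ⟨13477, 1, 3⟩) (.one ⟨16440, 3, 5⟩)) (.node 1 (.one ⟨13534, 2, 5⟩) (.one ⟨16492, 3, 4⟩))) (.node 2 (.node 1 (.one ⟨15651, 0, 4⟩) (.one ⟨1608, 3, 3⟩)) (.node 1 (.one ⟨16121, 2, 5⟩) (.one ⟨907, 3, 6⟩)))) (.node 4 (.node 2 (.node 1 (.one ⟨15313, 3, 5⟩) (.one ⟨7903, 1, 6⟩)) (.node 1 (.one ⟨5247, 1, 5⟩) (.one ⟨15395, 0, 3⟩))) (.node 2 (.node 1 (.one ⟨3185, 3, 5⟩) (.one ⟨2864, 2, 5⟩))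 (.node 1 (.one ⟨16443, 2, 6⟩) (.one ⟨375, 2, 5⟩))))) (.node 8 (.node 4 (.node 2 (.node 1 (.one ⟨6159, 2, 3⟩) (.one ⟨12958, 1, 5⟩)) (.node 1 (.one ⟨874, 2, 5⟩) (.one ⟨11482, 1, 6⟩))) (.node 2 (.node 1 (.one ⟨11507, 1, 6⟩) (.one ⟨6342, 3, 3⟩)) (.node 1 (.one ⟨8053, 3, 4⟩) (.one ⟨3339, 1, 3⟩)))) (.node 4 (.node 2 (.node 1 (.one ⟨5639, 1, 2⟩) (.one ⟨11419, 1, 3⟩)) (.node 1 (.one ⟨15307, 3, 6⟩) (.one ⟨15513, 1, 6⟩))) (.node 2 (.node 1 (.one ⟨8138, 3, 3⟩) (.one ⟨6783, 0, 2⟩)) (.node 1 (.one ⟨9352, 0, 4⟩) (.one ⟨16883, 2, 4⟩)))))))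
def par4_5_5 : Arr Par :=
  (.node 32 (.node 16 (.node 8 (.node 4 (.node 2 (.node 1 (.one ⟨14200, 2, 5⟩) (.one ⟨13880, 2, 5⟩)) (.node 1 (.one ⟨6328, 3, 3⟩) (.one ⟨1183, 2, 4⟩))) (.node 2 (.node 1 (.one ⟨5535, 2, 5⟩) (.one ⟨8236, 1, 3⟩)) (.node 1 (.one ⟨7340, 1, 6⟩) (.one ⟨8897, 3, 5⟩)))) (.node 4 (.node 2 (.node 1 (.one ⟨11512, 2, 4⟩) (.one ⟨11606, 0, 4⟩)) (.node 1 (.one ⟨15007, 3, 5⟩) (.one ⟨9711, 2, 4⟩))) (.node 2 (.node 1 (.one ⟨13735, 1, 3⟩) (.one ⟨12154, 1, 3⟩)) (.node 1 (.one ⟨16184, 1, 5⟩) (.one ⟨2458, 3, 5⟩))))) (.node 8 (.node 4 (.node 2 (.node 1 (.one ⟨8203, 0, 6⟩) (.one ⟨12797, 0, 3⟩)) (.node 1 (.one ⟨13596, 0, 4⟩) (.one ⟨13395, 2, 3⟩))) (.node 2 (.node 1 (.one ⟨10959, 2, 4⟩) (.one ⟨487, 1, 5⟩)) (.node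 1 (.one ⟨1511, 3, 3⟩) (.one ⟨15008, 3, 6⟩)))) (.node 4 (.node 2 (.node 1 (.one ⟨6139, 1, 3⟩) (.one ⟨15544, 0, 4⟩)) (.node 1 (.one ⟨9994, 0, 4⟩) (.one ⟨5040, 3, 5⟩))) (.node 2 (.node 1 (.one ⟨6319, 3, 5⟩) (.one ⟨16909, 3, 5⟩)) (.node 1 (.one ⟨15232, 0, 5⟩) (.one ⟨1549, 0, 3⟩)))))) (.node 16 (.node 8 (.node 4 (.node 2 (.node 1 (.one ⟨11130, 2, 5⟩) (.one ⟨9280, 1, 4⟩)) (.node 1 (.one ⟨11326, 1, 4⟩) (.one ⟨15550, 0, 3⟩))) (.node 2 (.node 1 (.one ⟨10526, 0, 5⟩) (.one ⟨8218, 3, 6⟩)) (.node 1 (.one ⟨8081, 0, 5⟩) (.one ⟨15052, 0, 4⟩)))) (.node 4 (.node 2 (.node 1 (.one ⟨6152, 1, 2⟩) (.one ⟨8171, 3, 5⟩)) (.node 1 (.one ⟨3508, 2, 3⟩) (.one ⟨10871, 2, 3⟩))) (.node 2 (.node 1 (.one ⟨8685, 2, 5⟩) (.one ⟨8658, 2, 3⟩)) (.node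 1 (.one ⟨7171, 1, 4⟩) (.one ⟨10955, 0, 4⟩))))) (.node 8 (.node 4 (.node 2 (.node 1 (.one ⟨12327, 1, 3⟩) (.one ⟨8461, 1, 6⟩)) (.node 1 (.one ⟨13950, 3, 4⟩) (.one ⟨16525, 2, 4⟩))) (.node 2 (.node 1 (.one ⟨5361, 2, 4⟩) (.one ⟨16700, 1, 5⟩)) (.node 1 (.one ⟨6414, 2, 4⟩) (.one ⟨1369, 3, 4⟩)))) (.node 4 (.node 2 (.node 1 (.one ⟨4342, 0, 5⟩) (.one ⟨16962, 3, 4⟩)) (.node 1 (.one ⟨1288, 1, 5⟩) (.one ⟨16063, 0, 5⟩))) (.node 2 (.node 1 (.one ⟨4915, 2, 1⟩) (.one ⟨4052, 2, 1⟩)) (.node 1 (.one ⟨11625, 2, 4⟩) (.one ⟨3512, 2, 4⟩)))))))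
def par4_5_6 : Arr Par :=
  (.node 32 (.node 16 (.node 8 (.node 4 (.node 2 (.node 1 (.one ⟨2850, 0, 4⟩) (.one ⟨14761, 1, 4⟩)) (.node 1 (.one ⟨9380, 3, 5⟩) (.one ⟨12735, 3, 3⟩))) (.node 2 (.node 1 (.one ⟨162, 2, 6⟩) (.one ⟨1293, 1, 5⟩)) (.node 1 (.one ⟨13028, 1, 2⟩) (.one ⟨5897, 1, 4⟩)))) (.node 4 (.node 2 (.node 1 (.one ⟨12336, 0, 4⟩) (.one ⟨15160, 2, 5⟩)) (.node 1 (.one ⟨11458, 1, 6⟩) (.one ⟨430, 3, 5⟩))) (.node 2 (.node 1 (.one ⟨493, 2, 5⟩) (.one ⟨11185, 3, 5⟩)) (.node 1 (.one ⟨2401, 3, 5⟩) (.one ⟨3752, 1, 5⟩))))) (.node 8 (.node 4 (.node 2 (.node 1 (.one ⟨13746, 2, 4⟩) (.one ⟨5500, 1, 2⟩)) (.node 1 (.one ⟨1829, 3, 4⟩) (.one ⟨17108, 0, 3⟩))) (.node 2 (.node 1 (.one ⟨10088, 0, 4⟩) (.one ⟨16959, 0, 3⟩)) (.node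 1 (.one ⟨9435, 0, 5⟩) (.one ⟨7885, 3, 6⟩)))) (.node 4 (.node 2 (.node 1 (.one ⟨2860, 2, 4⟩) (.one ⟨11287, 1, 6⟩)) (.node 1 (.one ⟨14318, 1, 1⟩) (.one ⟨12370, 0, 4⟩))) (.node 2 (.node 1 (.one ⟨12830, 3, 5⟩) (.one ⟨12388, 0, 4⟩)) (.node 1 (.one ⟨1294, 1, 6⟩) (.one ⟨15889, 3, 4⟩)))))) (.node 16 (.node 8 (.node 4 (.node 2 (.node 1 (.one ⟨10854, 3, 5⟩) (.one ⟨7185, 2, 4⟩)) (.node 1 (.one ⟨13699, 1, 4⟩) (.one ⟨11299, 1, 4⟩))) (.node 2 (.node 1 (.one ⟨6443, 3, 4⟩) (.one ⟨16441, 2, 5⟩)) (.node 1 (.one ⟨12025, 3, 4⟩) (.one ⟨11901, 1, 4⟩)))) (.node 4 (.node 2 (.node 1 (.one ⟨13151, 0, 4⟩) (.one ⟨13554, 2, 5⟩)) (.node 1 (.one ⟨3249, 2, 3⟩) (.one ⟨4373, 0, 4⟩))) (.node 2 (.node 1 (.one ⟨3035, 2, 4⟩) (.one ⟨2379, 3, 5⟩))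 (.node 1 (.one ⟨8983, 1, 4⟩) (.one ⟨17034, 3, 4⟩))))) (.node 8 (.node 4 (.node 2 (.node 1 (.one ⟨1386, 2, 5⟩) (.one ⟨9428, 2, 4⟩)) (.node 1 (.one ⟨10464, 1, 4⟩) (.one ⟨15119, 2, 4⟩))) (.node 2 (.node 1 (.one ⟨7048, 2, 4⟩) (.one ⟨15109, 2, 4⟩)) (.node 1 (.one ⟨7067, 2, 3⟩) (.one ⟨4893, 1, 4⟩)))) (.node 4 (.node 2 (.node 1 (.one ⟨4248, 0, 4⟩) (.one ⟨15247, 1, 4⟩)) (.node 1 (.one ⟨8981, 3, 5⟩) (.one ⟨5907, 1, 3⟩))) (.node 2 (.node 1 (.one ⟨7305, 1, 5⟩) (.one ⟨11994, 1, 4⟩)) (.node 1 (.one ⟨10733, 0, 4⟩) (.one ⟨13140, 2, 6⟩)))))))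
def par4_5_7 : Arr Par :=
  (.node 32 (.node 16 (.node 8 (.node 4 (.node 2 (.node 1 (.one ⟨9546, 0, 2⟩) (.one ⟨12868, 1, 5⟩)) (.node 1 (.one ⟨16539, 1, 4⟩) (.one ⟨4530, 3, 5⟩))) (.node 2 (.node 1 (.one ⟨6977, 2, 5⟩) (.one ⟨4906, 2, 5⟩)) (.node 1 (.one ⟨16137, 2, 5⟩) (.one ⟨14695, 2, 5⟩)))) (.node 4 (.node 2 (.node 1 (.one ⟨10360, 0, 4⟩) (.one ⟨10886, 1, 6⟩)) (.node 1 (.one ⟨6100, 3, 5⟩) (.one ⟨2465, 1, 5⟩))) (.node 2 (.node 1 (.one ⟨2089, 0, 4⟩) (.one ⟨4371, 1, 6⟩)) (.node 1 (.one ⟨13577, 1, 6⟩) (.one ⟨3287, 1, 1⟩))))) (.node 8 (.node 4 (.node 2 (.node 1 (.one ⟨3896, 1, 3⟩) (.one ⟨8402, 1, 1⟩)) (.node 1 (.one ⟨5801, 1, 1⟩) (.one ⟨11746, 0, 6⟩))) (.node 2 (.node 1 (.one ⟨11776, 0, 4⟩) (.one ⟨12343, 0, 5⟩)) (.node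 1 (.one ⟨8564, 2, 3⟩) (.one ⟨11668, 1, 4⟩)))) (.node 4 (.node 2 (.node 1 (.one ⟨12386, 1, 3⟩) (.one ⟨6082, 2, 4⟩)) (.node 1 (.one ⟨15127, 0, 6⟩) (.one ⟨2580, 2, 5⟩))) (.node 2 (.node 1 (.one ⟨16735, 1, 3⟩) (.one ⟨7200, 3, 3⟩)) (.node 1 (.one ⟨1137, 2, 6⟩) (.one ⟨2971, 2, 3⟩)))))) (.node 16 (.node 8 (.node 4 (.node 2 (.node 1 (.one ⟨3584, 1, 2⟩) (.one ⟨6502, 2, 5⟩)) (.node 1 (.one ⟨2559, 0, 3⟩) (.one ⟨16379, 0, 5⟩))) (.node 2 (.node 1 (.one ⟨15925, 3, 3⟩) (.one ⟨2769, 3, 5⟩)) (.node 1 (.one ⟨14539, 2, 5⟩) (.one ⟨6139, 3, 3⟩)))) (.node 4 (.node 2 (.node 1 (.one ⟨3433, 3, 6⟩) (.one ⟨16459, 1, 4⟩)) (.node 1 (.one ⟨3461, 3, 5⟩) (.one ⟨11415, 1, 5⟩))) (.node 2 (.node 1 (.one ⟨12985, 2, 4⟩) (.one ⟨386, 2, 3⟩)) (.node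 1 (.one ⟨8220, 1, 5⟩) (.one ⟨4665, 1, 3⟩))))) (.node 8 (.node 4 (.node 2 (.node 1 (.one ⟨5984, 3, 5⟩) (.one ⟨6035, 3, 5⟩)) (.node 1 (.one ⟨12110, 2, 5⟩) (.one ⟨7312, 0, 3⟩))) (.node 2 (.node 1 (.one ⟨2909, 0, 4⟩) (.one ⟨14495, 2, 4⟩)) (.node 1 (.one ⟨6126, 1, 5⟩) (.one ⟨6041, 1, 5⟩)))) (.node 4 (.node 2 (.node 1 (.one ⟨10959, 0, 4⟩) (.one ⟨10964, 0, 4⟩)) (.node 1 (.one ⟨6221, 3, 5⟩) (.one ⟨17022, 1, 4⟩))) (.node 2 (.node 1 (.one ⟨2182, 1, 4⟩) (.one ⟨144, 0, 3⟩)) (.node 1 (.one ⟨10417, 1, 4⟩) (.one ⟨7677, 0, 4⟩)))))))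
def par4_5_8 : Arr Par :=
  (.node 32 (.node 16 (.node 8 (.node 4 (.node 2 (.node 1 (.one ⟨9242, 3, 5⟩) (.one ⟨15107, 3, 6⟩)) (.node 1 (.one ⟨2980, 0, 4⟩) (.one ⟨12702, 3, 5⟩))) (.node 2 (.node 1 (.one ⟨13531, 1, 5⟩) (.one ⟨10548, 1, 5⟩)) (.node 1 (.one ⟨16167, 3, 5⟩) (.one ⟨2215, 2, 1⟩)))) (.node 4 (.node 2 (.node 1 (.one ⟨8010, 2, 3⟩) (.one ⟨8539, 3, 5⟩)) (.node 1 (.one ⟨15268, 1, 3⟩) (.one ⟨11252, 3, 6⟩))) (.node 2 (.node 1 (.one ⟨16421, 3, 5⟩) (.one ⟨3585, 2, 3⟩)) (.node 1 (.one ⟨5801, 2, 1⟩) (.one ⟨611, 3, 5⟩))))) (.node 8 (.node 4 (.node 2 (.node 1 (.one ⟨8615, 3, 6⟩) (.one ⟨4289, 0, 0⟩)) (.node 1 (.one ⟨4902, 1, 4⟩) (.one ⟨127, 1, 3⟩))) (.node 2 (.node 1 (.one ⟨9525, 3, 4⟩) (.one ⟨1311, 3, 5⟩)) (.node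 1 (.one ⟨8558, 3, 6⟩) (.one ⟨6027, 2, 4⟩)))) (.node 4 (.node 2 (.node 1 (.one ⟨13891, 3, 3⟩) (.one ⟨8589, 2, 5⟩)) (.node 1 (.one ⟨10866, 3, 4⟩) (.one ⟨10836, 3, 5⟩))) (.node 2 (.node 1 (.one ⟨6004, 2, 4⟩) (.one ⟨6035, 1, 5⟩)) (.node 1 (.one ⟨14700, 3, 6⟩) (.one ⟨11714, 2, 5⟩)))))) (.node 16 (.node 8 (.node 4 (.node 2 (.node 1 (.one ⟨16114, 3, 6⟩) (.one ⟨7674, 1, 6⟩)) (.node 1 (.one ⟨17114, 2, 5⟩) (.one ⟨11640, 3, 4⟩))) (.node 2 (.node 1 (.one ⟨10147, 3, 4⟩) (.one ⟨11724, 3, 4⟩)) (.node 1 (.one ⟨9727, 3, 4⟩) (.one ⟨5969, 3, 6⟩)))) (.node 4 (.node 2 (.node 1 (.one ⟨9001, 1, 6⟩) (.one ⟨850, 1, 3⟩)) (.node 1 (.one ⟨12644, 0, 4⟩) (.one ⟨8447, 1, 4⟩))) (.node 2 (.node 1 (.one ⟨5973, 3, 5⟩) (.one ⟨454, 2, 4⟩)) (.node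 1 (.one ⟨2435, 1, 4⟩) (.one ⟨9280, 2, 4⟩))))) (.node 8 (.node 4 (.node 2 (.node 1 (.one ⟨2104, 1, 4⟩) (.one ⟨1376, 2, 5⟩)) (.node 1 (.one ⟨1971, 3, 5⟩) (.one ⟨4058, 2, 3⟩))) (.node 2 (.node 1 (.one ⟨17123, 3, 4⟩) (.one ⟨12154, 2, 3⟩)) (.node 1 (.one ⟨4136, 2, 3⟩) (.one ⟨15464, 3, 5⟩)))) (.node 4 (.node 2 (.node 1 (.one ⟨1568, 3, 5⟩) (.one ⟨10955, 2, 4⟩)) (.node 1 (.one ⟨8313, 2, 5⟩) (.one ⟨2631, 2, 4⟩))) (.node 2 (.node 1 (.one ⟨10793, 0, 6⟩) (.one ⟨12486, 2, 1⟩)) (.node 1 (.one ⟨7032, 2, 5⟩) (.one ⟨12210, 2, 5⟩)))))))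
def par4_5_9 : Arr Par :=
  (.node 32 (.node 16 (.node 8 (.node 4 (.node 2 (.node 1 (.one ⟨4221, 1, 0⟩) (.one ⟨3650, 0, 5⟩)) (.node 1 (.one ⟨13264, 0, 5⟩) (.one ⟨9546, 1, 2⟩))) (.node 2 (.node 1 (.one ⟨13965, 1, 4⟩) (.one ⟨11512, 0, 4⟩)) (.node 1 (.one ⟨926, 1, 3⟩) (.one ⟨9517, 0, 4⟩)))) (.node 4 (.node 2 (.node 1 (.one ⟨16112, 2, 3⟩) (.one ⟨10080, 3, 6⟩)) (.node 1 (.one ⟨5471, 3, 4⟩) (.one ⟨4259, 1, 6⟩))) (.node 2 (.node 1 (.one ⟨13366, 3, 3⟩) (.one ⟨11130, 3, 5⟩)) (.node 1 (.one ⟨4035, 1, 5⟩) (.one ⟨16337, 3, 7⟩))))) (.node 8 (.node 4 (.node 2 (.node 1 (.one ⟨10066, 2, 4⟩) (.one ⟨3970, 3, 4⟩)) (.node 1 (.one ⟨3555, 0, 6⟩) (.one ⟨13373, 3, 3⟩))) (.node 2 (.node 1 (.one ⟨16614, 2, 5⟩) (.one ⟨8859, 3, 4⟩)) (.node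 1 (.one ⟨1182, 3, 4⟩) (.one ⟨8995, 0, 6⟩)))) (.node 4 (.node 2 (.node 1 (.one ⟨198, 3, 5⟩) (.one ⟨4159, 2, 5⟩)) (.node 1 (.one ⟨14519, 1, 5⟩) (.one ⟨8997, 0, 5⟩))) (.node 2 (.node 1 (.one ⟨13349, 3, 5⟩) (.one ⟨9575, 2, 5⟩)) (.node 1 (.one ⟨2183, 1, 3⟩) (.one ⟨13777, 0, 6⟩)))))) (.node 16 (.node 8 (.node 4 (.node 2 (.node 1 (.one ⟨14341, 3, 6⟩) (.one ⟨5383, 2, 3⟩)) (.node 1 (.one ⟨14312, 3, 5⟩) (.one ⟨5770, 0, 4⟩))) (.node 2 (.node 1 (.one ⟨2545, 2, 3⟩) (.one ⟨8138, 2, 3⟩)) (.node 1 (.one ⟨12450, 3, 5⟩) (.one ⟨11702, 0, 3⟩)))) (.node 4 (.node 2 (.node 1 (.one ⟨5831, 2, 5⟩) (.one ⟨10021, 1, 4⟩)) (.node 1 (.one ⟨10248, 3, 4⟩) (.one ⟨868, 3, 6⟩))) (.node 2 (.node 1 (.one ⟨9784, 0, 3⟩) (.one ⟨2368, 3, 5⟩)) (.node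 1 (.one ⟨14607, 3, 4⟩) (.one ⟨7574, 3, 4⟩))))) (.node 8 (.node 4 (.node 2 (.node 1 (.one ⟨11941, 2, 5⟩) (.one ⟨5001, 3, 5⟩)) (.node 1 (.one ⟨7525, 0, 4⟩) (.one ⟨9192, 2, 2⟩))) (.node 2 (.node 1 (.one ⟨3857, 2, 5⟩) (.one ⟨12973, 3, 4⟩)) (.node 1 (.one ⟨7616, 3, 4⟩) (.one ⟨4319, 2, 4⟩)))) (.node 4 (.node 2 (.node 1 (.one ⟨14858, 2, 5⟩) (.one ⟨8196, 2, 4⟩)) (.node 1 (.one ⟨5857, 1, 6⟩) (.one ⟨16878, 3, 6⟩))) (.node 2 (.node 1 (.one ⟨15780, 0, 3⟩) (.one ⟨474, 1, 5⟩)) (.node 1 (.one ⟨3590, 2, 3⟩) (.one ⟨11906, 2, 4⟩)))))))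
def par4_5_10 : Arr Par :=
  (.node 32 (.node 16 (.node 8 (.node 4 (.node 2 (.node 1 (.one ⟨3856, 2, 3⟩) (.one ⟨15268, 3, 3⟩)) (.node 1 (.one ⟨6159, 3, 3⟩) (.one ⟨9567, 0, 5⟩))) (.node 2 (.node 1 (.one ⟨275, 2, 4⟩) (.one ⟨7041, 3, 4⟩)) (.node 1 (.one ⟨14277, 3, 3⟩) (.one ⟨12881, 1, 3⟩)))) (.node 4 (.node 2 (.node 1 (.one ⟨13050, 1, 4⟩) (.one ⟨13608, 1, 5⟩)) (.node 1 (.one ⟨2548, 2, 3⟩) (.one ⟨14694, 2, 6⟩))) (.node 2 (.node 1 (.one ⟨7660, 3, 6⟩) (.one ⟨9562, 1, 4⟩)) (.node 1 (.one ⟨1862, 3, 4⟩) (.one ⟨5908, 1, 4⟩))))) (.node 8 (.node 4 (.node 2 (.node 1 (.one ⟨5462, 3, 4⟩) (.one ⟨8678, 1, 3⟩)) (.node 1 (.one ⟨755, 1, 5⟩) (.one ⟨5010, 1, 5⟩))) (.node 2 (.node 1 (.one ⟨5858, 1, 4⟩) (.one ⟨9622, 3, 5⟩)) (.node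 1 (.one ⟨6610, 2, 5⟩) (.one ⟨12156, 2, 2⟩)))) (.node 4 (.node 2 (.node 1 (.one ⟨8305, 1, 1⟩) (.one ⟨15388, 3, 5⟩)) (.node 1 (.one ⟨6285, 0, 4⟩) (.one ⟨5649, 1, 1⟩))) (.node 2 (.node 1 (.one ⟨2215, 1, 1⟩) (.one ⟨1100, 2, 5⟩)) (.node 1 (.one ⟨8162, 1, 6⟩) (.one ⟨744, 0, 4⟩)))))) (.node 16 (.node 8 (.node 4 (.node 2 (.node 1 (.one ⟨4803, 2, 5⟩) (.one ⟨13515, 3, 4⟩)) (.node 1 (.one ⟨5246, 0, 3⟩) (.one ⟨17068, 1, 4⟩))) (.node 2 (.node 1 (.one ⟨6354, 3, 5⟩) (.one ⟨8433, 1, 5⟩)) (.node 1 (.one ⟨12751, 2, 4⟩) (.one ⟨3232, 3, 6⟩)))) (.node 4 (.node 2 (.node 1 (.one ⟨5332, 0, 4⟩) (.one ⟨4276, 1, 0⟩)) (.node 1 (.one ⟨2338, 2, 4⟩) (.one ⟨15675, 1, 4⟩))) (.node 2 (.node 1 (.one ⟨6563, 3, 5⟩) (.one ⟨15934, 3, 4⟩)) (.node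 1 (.one ⟨803, 3, 4⟩) (.one ⟨1647, 1, 3⟩))))) (.node 8 (.node 4 (.node 2 (.node 1 (.one ⟨8061, 1, 5⟩) (.one ⟨7796, 0, 4⟩)) (.node 1 (.one ⟨5885, 2, 5⟩) (.one ⟨13603, 2, 4⟩))) (.node 2 (.node 1 (.one ⟨7782, 0, 5⟩) (.one ⟨13346, 3, 3⟩)) (.node 1 (.one ⟨16052, 1, 3⟩) (.one ⟨16708, 2, 4⟩)))) (.node 4 (.node 2 (.node 1 (.one ⟨11851, 2, 4⟩) (.one ⟨5281, 0, 5⟩)) (.node 1 (.one ⟨12125, 3, 6⟩) (.one ⟨1921, 1, 4⟩))) (.node 2 (.node 1 (.one ⟨1462, 1, 4⟩) (.one ⟨15352, 0, 3⟩)) (.node 1 (.one ⟨6572, 3, 3⟩) (.one ⟨13432, 1, 5⟩)))))))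
def par4_5_11 : Arr Par :=
  (.node 32 (.node 16 (.node 8 (.node 4 (.node 2 (.node 1 (.one ⟨11758, 2, 5⟩) (.one ⟨9466, 1, 5⟩)) (.node 1 (.one ⟨14357, 2, 6⟩) (.one ⟨16092, 2, 5⟩))) (.node 2 (.node 1 (.one ⟨9568, 2, 5⟩) (.one ⟨5994, 1, 4⟩)) (.node 1 (.one ⟨16352, 2, 5⟩) (.one ⟨7882, 3, 4⟩)))) (.node 4 (.node 2 (.node 1 (.one ⟨2656, 3, 4⟩) (.one ⟨7543, 0, 4⟩)) (.node 1 (.one ⟨12805, 3, 6⟩) (.one ⟨5886, 2, 5⟩))) (.node 2 (.node 1 (.one ⟨16251, 3, 5⟩) (.one ⟨16454, 0, 5⟩)) (.node 1 (.one ⟨6905, 3, 3⟩) (.one ⟨15432, 3, 4⟩))))) (.node 8 (.node 4 (.node 2 (.node 1 (.one ⟨5065, 2, 6⟩) (.one ⟨9744, 1, 4⟩)) (.node 1 (.one ⟨13860, 0, 5⟩) (.one ⟨5528, 2, 5⟩))) (.node 2 (.node 1 (.one ⟨1632, 1, 3⟩) (.one ⟨697, 1, 5⟩)) (.node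 1 (.one ⟨1594, 0, 4⟩) (.one ⟨5482, 3, 4⟩)))) (.node 4 (.node 2 (.node 1 (.one ⟨8993, 3, 4⟩) (.one ⟨12618, 1, 2⟩)) (.node 1 (.one ⟨6329, 3, 4⟩) (.one ⟨12732, 3, 5⟩))) (.node 2 (.node 1 (.one ⟨16587, 3, 4⟩) (.one ⟨1461, 1, 4⟩)) (.node 1 (.one ⟨14109, 3, 5⟩) (.one ⟨7412, 3, 3⟩)))))) (.node 16 (.node 8 (.node 4 (.node 2 (.node 1 (.one ⟨15269, 3, 5⟩) (.one ⟨14489, 0, 5⟩)) (.node 1 (.one ⟨9820, 3, 3⟩) (.one ⟨13684, 1, 3⟩))) (.node 2 (.node 1 (.one ⟨7042, 3, 4⟩) (.one ⟨10721, 3, 5⟩)) (.node 1 (.one ⟨13178, 2, 5⟩) (.one ⟨12284, 3, 4⟩)))) (.node 4 (.node 2 (.node 1 (.one ⟨5233, 0, 5⟩) (.one ⟨5591, 2, 5⟩)) (.node 1 (.one ⟨1446, 1, 3⟩) (.one ⟨7490, 3, 4⟩))) (.node 2 (.node 1 (.one ⟨16291, 1, 4⟩) (.one ⟨15061, 1, 4⟩)) (.node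 1 (.one ⟨16484, 3, 5⟩) (.one ⟨4590, 0, 6⟩))))) (.node 8 (.node 4 (.node 2 (.node 1 (.one ⟨11330, 2, 4⟩) (.one ⟨16365, 3, 4⟩)) (.node 1 (.one ⟨1489, 3, 4⟩) (.one ⟨5085, 0, 3⟩))) (.node 2 (.node 1 (.one ⟨3645, 3, 5⟩) (.one ⟨16103, 3, 4⟩)) (.node 1 (.one ⟨2467, 3, 4⟩) (.one ⟨3450, 1, 4⟩)))) (.node 4 (.node 2 (.node 1 (.one ⟨3874, 3, 3⟩) (.one ⟨13195, 2, 5⟩)) (.node 1 (.one ⟨8566, 3, 3⟩) (.one ⟨14801, 3, 5⟩))) (.node 2 (.node 1 (.one ⟨11928, 3, 3⟩) (.one ⟨9229, 3, 4⟩)) (.node 1 (.one ⟨16650, 3, 4⟩) (.one ⟨1615, 1, 4⟩)))))))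
def par4_5_12 : Arr Par :=
  (.node 32 (.node 16 (.node 8 (.node 4 (.node 2 (.node 1 (.one ⟨15030, 0, 4⟩) (.one ⟨9410, 1, 5⟩)) (.node 1 (.one ⟨8372, 0, 4⟩) (.one ⟨15620, 2, 5⟩))) (.node 2 (.node 1 (.one ⟨9347, 2, 3⟩) (.one ⟨1317, 2, 6⟩)) (.node 1 (.one ⟨7581, 2, 2⟩) (.one ⟨15897, 3, 4⟩)))) (.node 4 (.node 2 (.node 1 (.one ⟨5563, 1, 4⟩) (.one ⟨13697, 1, 3⟩)) (.node 1 (.one ⟨15899, 3, 2⟩) (.one ⟨1460, 1, 6⟩))) (.node 2 (.node 1 (.one ⟨158, 0, 3⟩) (.one ⟨943, 1, 6⟩)) (.node 1 (.one ⟨9720, 1, 5⟩) (.one ⟨9460, 1, 4⟩))))) (.node 8 (.node 4 (.node 2 (.node 1 (.one ⟨13624, 1, 4⟩) (.one ⟨16708, 0, 4⟩)) (.node 1 (.one ⟨11324, 3, 5⟩) (.one ⟨1954, 1, 2⟩))) (.node 2 (.node 1 (.one ⟨3249, 3, 3⟩) (.one ⟨7862, 3, 5⟩)) (.node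 1 (.one ⟨2488, 0, 6⟩) (.one ⟨5704, 3, 4⟩)))) (.node 4 (.node 2 (.node 1 (.one ⟨16690, 3, 3⟩) (.one ⟨5850, 2, 5⟩)) (.node 1 (.one ⟨2747, 1, 4⟩) (.one ⟨15119, 1, 4⟩))) (.node 2 (.node 1 (.one ⟨5880, 2, 4⟩) (.one ⟨8148, 1, 4⟩)) (.node 1 (.one ⟨13482, 1, 3⟩) (.one ⟨1663, 1, 4⟩)))))) (.node 16 (.node 8 (.node 4 (.node 2 (.node 1 (.one ⟨10632, 3, 4⟩) (.one ⟨10636, 3, 4⟩)) (.node 1 (.one ⟨4915, 0, 1⟩) (.one ⟨5849, 2, 3⟩))) (.node 2 (.node 1 (.one ⟨1410, 2, 4⟩) (.one ⟨10889, 1, 6⟩)) (.node 1 (.one ⟨6687, 0, 4⟩) (.one ⟨3101, 3, 4⟩)))) (.node 4 (.node 2 (.node 1 (.one ⟨4466, 0, 4⟩) (.one ⟨4662, 0, 3⟩)) (.node 1 (.one ⟨9567, 3, 5⟩) (.one ⟨4791, 3, 4⟩))) (.node 2 (.node 1 (.one ⟨16547, 1, 6⟩) (.one ⟨2347, 3, 6⟩)) (.node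 1 (.one ⟨11710, 3, 5⟩) (.one ⟨14318, 3, 1⟩))))) (.node 8 (.node 4 (.node 2 (.node 1 (.one ⟨16000, 3, 3⟩) (.one ⟨3413, 3, 5⟩)) (.node 1 (.one ⟨4863, 3, 4⟩) (.one ⟨1843, 1, 2⟩))) (.node 2 (.node 1 (.one ⟨13280, 2, 4⟩) (.one ⟨11555, 2, 5⟩)) (.node 1 (.one ⟨11744, 2, 3⟩) (.one ⟨2564, 0, 4⟩)))) (.node 4 (.node 2 (.node 1 (.one ⟨9279, 2, 5⟩) (.one ⟨9147, 2, 4⟩)) (.node 1 (.one ⟨1373, 3, 4⟩) (.one ⟨3248, 3, 4⟩))) (.node 2 (.node 1 (.one ⟨16100, 3, 5⟩) (.one ⟨13735, 2, 3⟩)) (.node 1 (.one ⟨5656, 2, 4⟩) (.one ⟨5586, 1, 2⟩)))))))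
def par4_5_13 : Arr Par :=
  (.node 32 (.node 16 (.node 8 (.node 4 (.node 2 (.node 1 (.one ⟨412, 1, 6⟩) (.one ⟨7423, 3, 6⟩)) (.node 1 (.one ⟨14159, 1, 6⟩) (.one ⟨6897, 0, 3⟩))) (.node 2 (.node 1 (.one ⟨2873, 3, 3⟩) (.one ⟨6769, 0, 4⟩)) (.node 1 (.one ⟨7783, 2, 5⟩) (.one ⟨7473, 1, 1⟩)))) (.node 4 (.node 2 (.node 1 (.one ⟨14199, 2, 4⟩) (.one ⟨1872, 1, 3⟩)) (.node 1 (.one ⟨2215, 0, 1⟩) (.one ⟨10045, 3, 2⟩))) (.node 2 (.node 1 (.one ⟨15158, 1, 6⟩) (.one ⟨9777, 2, 3⟩)) (.node 1 (.one ⟨815, 1, 0⟩) (.one ⟨9555, 3, 5⟩))))) (.node 8 (.node 4 (.node 2 (.node 1 (.one ⟨1384, 3, 5⟩) (.one ⟨4813, 2, 5⟩)) (.node 1 (.one ⟨12917, 2, 4⟩) (.one ⟨9437, 3, 4⟩))) (.node 2 (.node 1 (.one ⟨1441, 3, 6⟩) (.one ⟨3420, 2, 4⟩)) (.node 1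 (.one ⟨2446, 1, 4⟩) (.one ⟨7650, 1, 3⟩)))) (.node 4 (.node 2 (.node 1 (.one ⟨14943, 1, 5⟩) (.one ⟨7754, 0, 4⟩)) (.node 1 (.one ⟨12908, 1, 4⟩) (.one ⟨15933, 3, 3⟩))) (.node 2 (.node 1 (.one ⟨11832, 0, 4⟩) (.one ⟨4948, 1, 1⟩)) (.node 1 (.one ⟨9138, 1, 5⟩) (.one ⟨2566, 2, 5⟩)))))) (.node 16 (.node 8 (.node 4 (.node 2 (.node 1 (.one ⟨13711, 0, 4⟩) (.one ⟨1802, 3, 4⟩)) (.node 1 (.one ⟨16580, 3, 4⟩) (.one ⟨4106, 3, 4⟩))) (.node 2 (.node 1 (.one ⟨15245, 1, 5⟩) (.one ⟨14816, 3, 5⟩)) (.node 1 (.one ⟨16672, 0, 5⟩) (.one ⟨2226, 3, 5⟩)))) (.node 4 (.node 2 (.node 1 (.one ⟨6151, 3, 4⟩) (.one ⟨6152, 3, 2⟩)) (.node 1 (.one ⟨2224, 3, 3⟩) (.one ⟨6155, 3, 4⟩))) (.node 2 (.node 1 (.one ⟨3663, 1, 4⟩) (.one ⟨2227, 3, 4⟩)) (.node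 1 (.one ⟨6156, 3, 3⟩) (.one ⟨13900, 2, 4⟩))))) (.node 8 (.node 4 (.node 2 (.node 1 (.one ⟨13763, 1, 6⟩) (.one ⟨13285, 0, 4⟩)) (.node 1 (.one ⟨10482, 1, 4⟩) (.one ⟨13332, 0, 5⟩))) (.node 2 (.node 1 (.one ⟨12081, 2, 3⟩) (.one ⟨2789, 2, 5⟩)) (.node 1 (.one ⟨13382, 3, 4⟩) (.one ⟨16012, 2, 4⟩)))) (.node 4 (.node 2 (.node 1 (.one ⟨9140, 1, 4⟩) (.one ⟨3558, 1, 4⟩)) (.node 1 (.one ⟨14762, 0, 5⟩) (.one ⟨9461, 0, 4⟩))) (.node 2 (.node 1 (.one ⟨16329, 0, 5⟩) (.one ⟨10158, 2, 5⟩)) (.node 1 (.one ⟨2487, 0, 4⟩) (.one ⟨17088, 0, 5⟩)))))))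
def par4_5_14 : Arr Par :=
  (.node 32 (.node 16 (.node 8 (.node 4 (.node 2 (.node 1 (.one ⟨3549, 1, 4⟩) (.one ⟨14844, 3, 4⟩)) (.node 1 (.one ⟨3102, 3, 4⟩) (.one ⟨8116, 3, 5⟩))) (.node 2 (.node 1 (.one ⟨12480, 3, 6⟩) (.one ⟨470, 2, 5⟩)) (.node 1 (.one ⟨12327, 2, 3⟩) (.one ⟨16196, 3, 6⟩)))) (.node 4 (.node 2 (.node 1 (.one ⟨8012, 1, 6⟩) (.one ⟨785, 1, 5⟩)) (.node 1 (.one ⟨7111, 2, 4⟩) (.one ⟨935, 0, 3⟩))) (.node 2 (.node 1 (.one ⟨1104, 0, 5⟩) (.one ⟨14062, 3, 5⟩)) (.node 1 (.one ⟨7228, 3, 3⟩) (.one ⟨3871, 3, 4⟩))))) (.node 8 (.node 4 (.node 2 (.node 1 (.one ⟨12382, 0, 4⟩) (.one ⟨17049, 0, 4⟩)) (.node 1 (.one ⟨16005, 0, 4⟩) (.one ⟨960, 3, 4⟩))) (.node 2 (.node 1 (.one ⟨12519, 0, 5⟩) (.one ⟨16274, 3, 6⟩)) (.node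 1 (.one ⟨9107, 3, 6⟩) (.one ⟨11888, 2, 5⟩)))) (.node 4 (.node 2 (.node 1 (.one ⟨11121, 2, 5⟩) (.one ⟨391, 0, 4⟩)) (.node 1 (.one ⟨4232, 0, 1⟩) (.one ⟨4234, 0, 4⟩))) (.node 2 (.node 1 (.one ⟨15798, 3, 5⟩) (.one ⟨905, 0, 5⟩)) (.node 1 (.one ⟨15939, 3, 5⟩) (.one ⟨1652, 3, 6⟩)))))) (.node 16 (.node 8 (.node 4 (.node 2 (.node 1 (.one ⟨570, 1, 5⟩) (.one ⟨9411, 3, 4⟩)) (.node 1 (.one ⟨15802, 2, 4⟩) (.one ⟨11077, 0, 4⟩))) (.node 2 (.node 1 (.one ⟨16565, 2, 5⟩) (.one ⟨16125, 3, 5⟩)) (.node 1 (.one ⟨9966, 1, 5⟩) (.one ⟨7984, 3, 4⟩)))) (.node 4 (.node 2 (.node 1 (.one ⟨11081, 3, 4⟩) (.one ⟨6320, 0, 4⟩)) (.node 1 (.one ⟨4303, 3, 4⟩) (.one ⟨11724, 0, 4⟩))) (.node 2 (.node 1 (.one ⟨6404, 3, 2⟩) (.one ⟨15448, 1, 5⟩)) (.node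 1 (.one ⟨6793, 2, 5⟩) (.one ⟨15517, 3, 4⟩))))) (.node 8 (.node 4 (.node 2 (.node 1 (.one ⟨13300, 0, 4⟩) (.one ⟨7849, 3, 5⟩)) (.node 1 (.one ⟨12845, 2, 5⟩) (.one ⟨5939, 1, 3⟩))) (.node 2 (.node 1 (.one ⟨16767, 1, 3⟩) (.one ⟨11666, 3, 4⟩)) (.node 1 (.one ⟨10441, 2, 5⟩) (.one ⟨3337, 0, 5⟩)))) (.node 4 (.node 2 (.node 1 (.one ⟨12249, 2, 4⟩) (.one ⟨4522, 2, 5⟩)) (.node 1 (.one ⟨16758, 2, 4⟩) (.one ⟨538, 1, 5⟩))) (.node 2 (.node 1 (.one ⟨9875, 2, 5⟩) (.one ⟨13979, 0, 2⟩)) (.node 1 (.one ⟨15272, 2, 4⟩) (.one ⟨13265, 3, 4⟩)))))))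
def par4_5_15 : Arr Par :=
  (.node 32 (.node 16 (.node 8 (.node 4 (.node 2 (.node 1 (.one ⟨5596, 3, 4⟩) (.one ⟨111, 0, 4⟩)) (.node 1 (.one ⟨4997, 1, 3⟩) (.one ⟨3534, 3, 5⟩))) (.node 2 (.node 1 (.one ⟨11957, 2, 6⟩) (.one ⟨7524, 2, 5⟩)) (.node 1 (.one ⟨16668, 2, 5⟩) (.one ⟨11667, 3, 5⟩)))) (.node 4 (.node 2 (.node 1 (.one ⟨12021, 3, 5⟩) (.one ⟨5786, 0, 5⟩)) (.node 1 (.one ⟨9891, 1, 5⟩) (.one ⟨1549, 2, 3⟩))) (.node 2 (.node 1 (.one ⟨12797, 2, 3⟩) (.one ⟨9485, 0, 3⟩)) (.node 1 (.one ⟨6238, 3, 4⟩) (.one ⟨8541, 3, 5⟩))))) (.node 8 (.node 4 (.node 2 (.node 1 (.one ⟨5786, 2, 5⟩) (.one ⟨2387, 2, 3⟩)) (.node 1 (.one ⟨6233, 2, 5⟩) (.one ⟨4197, 3, 4⟩))) (.node 2 (.node 1 (.one ⟨111, 2, 4⟩) (.one ⟨2822, 3, 5⟩)) (.node 1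 (.one ⟨2803, 0, 4⟩) (.one ⟨4418, 3, 5⟩)))) (.node 4 (.node 2 (.node 1 (.one ⟨11663, 3, 6⟩) (.one ⟨13986, 0, 6⟩)) (.node 1 (.one ⟨9994, 3, 4⟩) (.one ⟨11832, 3, 4⟩))) (.node 2 (.node 1 (.one ⟨13990, 0, 5⟩) (.one ⟨14613, 1, 5⟩)) (.node 1 (.one ⟨2503, 3, 4⟩) (.one ⟨14232, 0, 4⟩)))))) (.node 16 (.node 8 (.node 4 (.node 2 (.node 1 (.one ⟨3564, 2, 4⟩) (.one ⟨15974, 3, 5⟩)) (.node 1 (.one ⟨5987, 2, 5⟩) (.one ⟨300, 1, 5⟩))) (.node 2 (.node 1 (.one ⟨2606, 0, 5⟩) (.one ⟨11670, 3, 4⟩)) (.node 1 (.one ⟨6555, 1, 5⟩) (.one ⟨11896, 3, 5⟩)))) (.node 4 (.node 2 (.node 1 (.one ⟨2077, 1, 4⟩) (.one ⟨10776, 3, 5⟩)) (.node 1 (.one ⟨15993, 3, 3⟩) (.one ⟨819, 3, 4⟩))) (.node 2 (.node 1 (.one ⟨8125, 3, 5⟩) (.one ⟨14008, 2, 4⟩)) (.node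 1 (.one ⟨5814, 3, 4⟩) (.one ⟨9287, 2, 4⟩))))) (.node 8 (.node 4 (.node 2 (.node 1 (.one ⟨9559, 2, 3⟩) (.one ⟨1588, 3, 3⟩)) (.node 1 (.one ⟨9306, 3, 4⟩) (.one ⟨13388, 2, 4⟩))) (.node 2 (.node 1 (.one ⟨13436, 2, 3⟩) (.one ⟨13482, 2, 3⟩)) (.node 1 (.one ⟨13400, 2, 4⟩) (.one ⟨962, 1, 5⟩)))) (.node 4 (.node 2 (.node 1 (.one ⟨2216, 3, 2⟩) (.one ⟨2215, 3, 1⟩)) (.node 1 (.one ⟨13921, 0, 3⟩) (.one ⟨2218, 3, 2⟩))) (.node 2 (.node 1 (.one ⟨9732, 2, 4⟩) (.one ⟨7722, 2, 5⟩)) (.node 1 (.one ⟨2217, 3, 4⟩) (.one ⟨14933, 1, 5⟩)))))))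
def par4_5 : Arr Par :=
  (.node 512 (.node 256 (.node 128 (.node 64 par4_5_0 par4_5_1) (.node 64 par4_5_2 par4_5_3)) (.node 128 (.node 64 par4_5_4 par4_5_5) (.node 64 par4_5_6 par4_5_7))) (.node 256 (.node 128 (.node 64 par4_5_8 par4_5_9) (.node 64 par4_5_10 par4_5_11)) (.node 128 (.node 64 par4_5_12 par4_5_13) (.node 64 par4_5_14 par4_5_15))))
def par4_6_0 : Arr Par :=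
  (.node 32 (.node 16 (.node 8 (.node 4 (.node 2 (.node 1 (.one ⟨2042, 2, 5⟩) (.one ⟨10781, 3, 3⟩)) (.node 1 (.one ⟨2029, 1, 4⟩) (.one ⟨1044, 2, 5⟩))) (.node 2 (.node 1 (.one ⟨739, 2, 5⟩) (.one ⟨16238, 3, 6⟩)) (.node 1 (.one ⟨8666, 1, 5⟩) (.one ⟨1632, 0, 3⟩)))) (.node 4 (.node 2 (.node 1 (.one ⟨4049, 1, 1⟩) (.one ⟨1688, 1, 6⟩)) (.node 1 (.one ⟨8965, 0, 5⟩) (.one ⟨14387, 0, 3⟩))) (.node 2 (.node 1 (.one ⟨3845, 2, 2⟩) (.one ⟨16512, 2, 3⟩)) (.node 1 (.one ⟨12609, 0, 5⟩) (.one ⟨3960, 0, 2⟩))))) (.node 8 (.node 4 (.node 2 (.node 1 (.one ⟨2916, 2, 3⟩) (.one ⟨16699, 3, 5⟩)) (.node 1 (.one ⟨10507, 3, 7⟩) (.one ⟨10364, 0, 5⟩))) (.node 2 (.node 1 (.one ⟨11721, 3, 5⟩) (.one ⟨14519, 3, 5⟩)) (.node 1 (.one ⟨15877, 2, 5⟩)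 (.one ⟨9099, 0, 6⟩)))) (.node 4 (.node 2 (.node 1 (.one ⟨12957, 2, 3⟩) (.one ⟨3526, 1, 5⟩)) (.node 1 (.one ⟨8984, 0, 6⟩) (.one ⟨7790, 1, 4⟩))) (.node 2 (.node 1 (.one ⟨4650, 3, 4⟩) (.one ⟨12293, 2, 5⟩)) (.node 1 (.one ⟨11614, 3, 3⟩) (.one ⟨12275, 2, 5⟩)))))) (.node 16 (.node 8 (.node 4 (.node 2 (.node 1 (.one ⟨7231, 0, 4⟩) (.one ⟨2952, 2, 6⟩)) (.node 1 (.one ⟨11939, 2, 5⟩) (.one ⟨4950, 1, 6⟩))) (.node 2 (.node 1 (.one ⟨7721, 2, 5⟩) (.one ⟨8208, 2, 6⟩)) (.node 1 (.one ⟨4993, 1, 5⟩) (.one ⟨10255, 2, 5⟩)))) (.node 4 (.node 2 (.node 1 (.one ⟨13979, 2, 2⟩) (.one ⟨16928, 3, 4⟩)) (.node 1 (.one ⟨13254, 1, 5⟩) (.one ⟨4115, 3, 4⟩))) (.node 2 (.node 1 (.one ⟨14541, 3, 4⟩) (.one ⟨14453, 1, 5⟩)) (.node 1 (.one ⟨15831, 1,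 4⟩) (.one ⟨15226, 2, 4⟩))))) (.node 8 (.node 4 (.node 2 (.node 1 (.one ⟨476, 2, 5⟩) (.one ⟨8047, 0, 4⟩)) (.node 1 (.one ⟨14669, 1, 5⟩) (.one ⟨11612, 0, 4⟩))) (.node 2 (.node 1 (.one ⟨12567, 0, 5⟩) (.one ⟨10851, 2, 4⟩)) (.node 1 (.one ⟨2442, 3, 3⟩) (.one ⟨12435, 1, 4⟩)))) (.node 4 (.node 2 (.node 1 (.one ⟨7651, 1, 4⟩) (.one ⟨6854, 0, 6⟩)) (.node 1 (.one ⟨12797, 3, 3⟩) (.one ⟨7467, 2, 4⟩))) (.node 2 (.node 1 (.one ⟨14919, 3, 3⟩) (.one ⟨9043, 3, 6⟩)) (.node 1 (.one ⟨5179, 2, 3⟩) (.one ⟨6215, 0, 5⟩)))))))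
def par4_6_1 : Arr Par :=
  (.node 32 (.node 16 (.node 8 (.node 4 (.node 2 (.node 1 (.one ⟨5708, 3, 4⟩) (.one ⟨10538, 0, 2⟩)) (.node 1 (.one ⟨8817, 2, 5⟩) (.one ⟨12241, 2, 5⟩))) (.node 2 (.node 1 (.one ⟨15006, 1, 5⟩) (.one ⟨7651, 2, 4⟩)) (.node 1 (.one ⟨3145, 2, 5⟩) (.one ⟨5103, 3, 4⟩)))) (.node 4 (.node 2 (.node 1 (.one ⟨2990, 3, 4⟩) (.one ⟨9074, 0, 4⟩)) (.node 1 (.one ⟨5479, 1, 5⟩) (.one ⟨9078, 0, 5⟩))) (.node 2 (.node 1 (.one ⟨1050, 0, 4⟩) (.one ⟨9071, 0, 4⟩)) (.node 1 (.one ⟨8955, 1, 5⟩) (.one ⟨9153, 2, 3⟩))))) (.node 8 (.node 4 (.node 2 (.node 1 (.one ⟨16319, 0, 4⟩) (.one ⟨4261, 2, 5⟩)) (.node 1 (.one ⟨8547, 2, 5⟩) (.one ⟨16211, 0, 4⟩))) (.node 2 (.node 1 (.one ⟨5385, 1, 3⟩) (.one ⟨14202, 0, 5⟩)) (.node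 1 (.one ⟨8287, 1, 3⟩) (.one ⟨13047, 1, 4⟩)))) (.node 4 (.node 2 (.node 1 (.one ⟨9074, 3, 4⟩) (.one ⟨2264, 3, 4⟩)) (.node 1 (.one ⟨2322, 3, 6⟩) (.one ⟨6614, 3, 4⟩))) (.node 2 (.node 1 (.one ⟨6676, 3, 4⟩) (.one ⟨10538, 2, 2⟩)) (.node 1 (.one ⟨3710, 3, 3⟩) (.one ⟨15859, 3, 4⟩)))))) (.node 16 (.node 8 (.node 4 (.node 2 (.node 1 (.one ⟨8349, 0, 3⟩) (.one ⟨14184, 1, 3⟩)) (.node 1 (.one ⟨8214, 2, 5⟩) (.one ⟨13264, 1, 5⟩))) (.node 2 (.node 1 (.one ⟨8341, 2, 2⟩) (.one ⟨9404, 0, 4⟩)) (.node 1 (.one ⟨13676, 2, 5⟩) (.one ⟨2241, 3, 4⟩)))) (.node 4 (.node 2 (.node 1 (.one ⟨11915, 2, 5⟩) (.one ⟨634, 3, 5⟩)) (.node 1 (.one ⟨4643, 0, 5⟩) (.one ⟨7485, 3, 5⟩))) (.node 2 (.node 1 (.one ⟨4674, 3, 4⟩) (.one ⟨13389, 0, 4⟩)) (.node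 1 (.one ⟨5126, 3, 4⟩) (.one ⟨10651, 2, 4⟩))))) (.node 8 (.node 4 (.node 2 (.node 1 (.one ⟨14621, 0, 3⟩) (.one ⟨2639, 0, 3⟩)) (.node 1 (.one ⟨15756, 2, 3⟩) (.one ⟨15819, 2, 5⟩))) (.node 2 (.node 1 (.one ⟨16021, 2, 5⟩) (.one ⟨10370, 2, 5⟩)) (.node 1 (.one ⟨15358, 1, 6⟩) (.one ⟨12364, 0, 5⟩)))) (.node 4 (.node 2 (.node 1 (.one ⟨10498, 2, 5⟩) (.one ⟨3171, 3, 5⟩)) (.node 1 (.one ⟨13341, 1, 5⟩) (.one ⟨9346, 3, 4⟩))) (.node 2 (.node 1 (.one ⟨3139, 3, 6⟩) (.one ⟨3895, 1, 0⟩)) (.node 1 (.one ⟨17190, 0, 5⟩) (.one ⟨8367, 0, 4⟩)))))))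
def par4_6_2 : Arr Par :=
  (.node 32 (.node 16 (.node 8 (.node 4 (.node 2 (.node 1 (.one ⟨3010, 0, 3⟩) (.one ⟨4338, 0, 5⟩)) (.node 1 (.one ⟨6417, 0, 5⟩) (.one ⟨5414, 1, 6⟩))) (.node 2 (.node 1 (.one ⟨1741, 2, 3⟩) (.one ⟨11320, 3, 4⟩)) (.node 1 (.one ⟨15723, 2, 5⟩) (.one ⟨8003, 1, 4⟩)))) (.node 4 (.node 2 (.node 1 (.one ⟨2903, 0, 5⟩) (.one ⟨7490, 0, 4⟩)) (.node 1 (.one ⟨13097, 1, 2⟩) (.one ⟨6269, 3, 1⟩))) (.node 2 (.node 1 (.one ⟨12363, 3, 5⟩) (.one ⟨4269, 2, 3⟩)) (.node 1 (.one ⟨15992, 3, 3⟩) (.one ⟨13753, 0, 6⟩))))) (.node 8 (.node 4 (.node 2 (.node 1 (.one ⟨6986, 3, 6⟩) (.one ⟨11351, 1, 5⟩)) (.node 1 (.one ⟨13820, 2, 4⟩) (.one ⟨13555, 1, 5⟩))) (.node 2 (.node 1 (.one ⟨959, 0, 3⟩) (.one ⟨3422, 2, 3⟩)) (.node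 1 (.one ⟨10210, 3, 5⟩) (.one ⟨3619, 1, 3⟩)))) (.node 4 (.node 2 (.node 1 (.one ⟨15583, 1, 4⟩) (.one ⟨7241, 3, 5⟩)) (.node 1 (.one ⟨8372, 1, 4⟩) (.one ⟨3710, 2, 3⟩))) (.node 2 (.node 1 (.one ⟨5336, 0, 5⟩) (.one ⟨10622, 3, 6⟩)) (.node 1 (.one ⟨8859, 1, 4⟩) (.one ⟨12778, 2, 2⟩)))))) (.node 16 (.node 8 (.node 4 (.node 2 (.node 1 (.one ⟨12053, 2, 2⟩) (.one ⟨9494, 3, 5⟩)) (.node 1 (.one ⟨16271, 3, 2⟩) (.one ⟨13301, 1, 2⟩))) (.node 2 (.node 1 (.one ⟨13962, 2, 5⟩) (.one ⟨384, 3, 5⟩)) (.node 1 (.one ⟨7298, 2, 2⟩) (.one ⟨5137, 1, 5⟩)))) (.node 4 (.node 2 (.node 1 (.one ⟨6131, 2, 5⟩) (.one ⟨12610, 3, 5⟩)) (.node 1 (.one ⟨16846, 3, 4⟩) (.one ⟨11149, 1, 3⟩))) (.node 2 (.node 1 (.one ⟨13317, 0, 4⟩) (.one ⟨9087, 0, 4⟩)) (.node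 1 (.one ⟨16272, 0, 5⟩) (.one ⟨12843, 3, 4⟩))))) (.node 8 (.node 4 (.node 2 (.node 1 (.one ⟨1498, 1, 3⟩) (.one ⟨6949, 3, 5⟩)) (.node 1 (.one ⟨10042, 2, 6⟩) (.one ⟨2350, 1, 5⟩))) (.node 2 (.node 1 (.one ⟨10915, 2, 3⟩) (.one ⟨5858, 3, 4⟩)) (.node 1 (.one ⟨3856, 3, 3⟩) (.one ⟨6544, 1, 3⟩)))) (.node 4 (.node 2 (.node 1 (.one ⟨11563, 2, 2⟩) (.one ⟨16512, 0, 3⟩)) (.node 1 (.one ⟨7655, 1, 5⟩) (.one ⟨13700, 0, 4⟩))) (.node 2 (.node 1 (.one ⟨736, 3, 3⟩) (.one ⟨2819, 0, 2⟩)) (.node 1 (.one ⟨10029, 2, 4⟩) (.one ⟨11450, 0, 4⟩)))))))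
def par4_6_3 : Arr Par :=
  (.node 32 (.node 16 (.node 8 (.node 4 (.node 2 (.node 1 (.one ⟨8410, 1, 4⟩) (.one ⟨5602, 1, 4⟩)) (.node 1 (.one ⟨9831, 3, 4⟩) (.one ⟨5471, 2, 4⟩))) (.node 2 (.node 1 (.one ⟨6571, 1, 4⟩) (.one ⟨5859, 3, 4⟩)) (.node 1 (.one ⟨3627, 0, 2⟩) (.one ⟨15620, 3, 5⟩)))) (.node 4 (.node 2 (.node 1 (.one ⟨12085, 1, 3⟩) (.one ⟨10145, 0, 4⟩)) (.node 1 (.one ⟨904, 3, 4⟩) (.one ⟨8493, 3, 4⟩))) (.node 2 (.node 1 (.one ⟨15789, 2, 4⟩) (.one ⟨14435, 0, 5⟩)) (.node 1 (.one ⟨3314, 2, 5⟩) (.one ⟨11568, 2, 5⟩))))) (.node 8 (.node 4 (.node 2 (.node 1 (.one ⟨9197, 3, 5⟩) (.one ⟨16363, 3, 5⟩)) (.node 1 (.one ⟨11779, 0, 4⟩) (.one ⟨1740, 2, 3⟩))) (.node 2 (.node 1 (.one ⟨10618, 2, 6⟩) (.one ⟨5181, 3, 5⟩)) (.node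 1 (.one ⟨4227, 0, 5⟩) (.one ⟨2640, 3, 4⟩)))) (.node 4 (.node 2 (.node 1 (.one ⟨17154, 1, 5⟩) (.one ⟨3618, 3, 5⟩)) (.node 1 (.one ⟨1106, 2, 6⟩) (.one ⟨4313, 3, 3⟩))) (.node 2 (.node 1 (.one ⟨3429, 0, 5⟩) (.one ⟨185, 3, 4⟩)) (.node 1 (.one ⟨12388, 2, 4⟩) (.one ⟨13924, 0, 3⟩)))))) (.node 16 (.node 8 (.node 4 (.node 2 (.node 1 (.one ⟨6152, 2, 2⟩) (.one ⟨16948, 2, 5⟩)) (.node 1 (.one ⟨6457, 3, 5⟩) (.one ⟨6521, 1, 1⟩))) (.node 2 (.node 1 (.one ⟨5106, 1, 1⟩) (.one ⟨7185, 1, 4⟩)) (.node 1 (.one ⟨5981, 3, 2⟩) (.one ⟨788, 1, 4⟩)))) (.node 4 (.node 2 (.node 1 (.one ⟨4161, 2, 5⟩) (.one ⟨1556, 3, 5⟩)) (.node 1 (.one ⟨71, 3, 4⟩) (.one ⟨2104, 0, 4⟩))) (.node 2 (.node 1 (.one ⟨13614, 2, 3⟩) (.one ⟨17030, 3, 5⟩)) (.node 1 (.one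 ⟨5077, 2, 4⟩) (.one ⟨15482, 2, 4⟩))))) (.node 8 (.node 4 (.node 2 (.node 1 (.one ⟨15510, 2, 5⟩) (.one ⟨15885, 0, 4⟩)) (.node 1 (.one ⟨15537, 0, 4⟩) (.one ⟨3010, 3, 3⟩))) (.node 2 (.node 1 (.one ⟨16057, 3, 3⟩) (.one ⟨8635, 1, 6⟩)) (.node 1 (.one ⟨12477, 1, 4⟩) (.one ⟨2895, 3, 5⟩)))) (.node 4 (.node 2 (.node 1 (.one ⟨10193, 2, 5⟩) (.one ⟨6000, 2, 7⟩)) (.node 1 (.one ⟨10255, 0, 5⟩) (.one ⟨5920, 3, 5⟩))) (.node 2 (.node 1 (.one ⟨4838, 0, 5⟩) (.one ⟨2076, 3, 6⟩)) (.node 1 (.one ⟨11485, 2, 4⟩) (.one ⟨14461, 1, 6⟩)))))))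
def par4_6_4 : Arr Par :=
  (.node 32 (.node 16 (.node 8 (.node 4 (.node 2 (.node 1 (.one ⟨1350, 2, 5⟩) (.one ⟨1466, 2, 3⟩)) (.node 1 (.one ⟨10939, 3, 5⟩) (.one ⟨10938, 3, 4⟩))) (.node 2 (.node 1 (.one ⟨4052, 0, 1⟩) (.one ⟨1246, 2, 4⟩)) (.node 1 (.one ⟨2365, 0, 3⟩) (.one ⟨8452, 3, 2⟩)))) (.node 4 (.node 2 (.node 1 (.one ⟨9612, 1, 5⟩) (.one ⟨2434, 3, 3⟩)) (.node 1 (.one ⟨13151, 3, 4⟩) (.one ⟨3396, 3, 4⟩))) (.node 2 (.node 1 (.one ⟨12238, 3, 6⟩) (.one ⟨7946, 3, 6⟩)) (.node 1 (.one ⟨15380, 1, 3⟩) (.one ⟨581, 3, 4⟩))))) (.node 8 (.node 4 (.node 2 (.node 1 (.one ⟨6005, 0, 6⟩) (.one ⟨15109, 0, 4⟩)) (.node 1 (.one ⟨9608, 1, 5⟩) (.one ⟨10128, 0, 2⟩))) (.node 2 (.node 1 (.one ⟨8322, 1, 4⟩) (.one ⟨9255, 3, 4⟩)) (.node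 1 (.one ⟨2874, 0, 5⟩) (.one ⟨15042, 2, 5⟩)))) (.node 4 (.node 2 (.node 1 (.one ⟨10985, 0, 3⟩) (.one ⟨1804, 3, 3⟩)) (.node 1 (.one ⟨625, 0, 5⟩) (.one ⟨6404, 1, 2⟩))) (.node 2 (.node 1 (.one ⟨9210, 2, 4⟩) (.one ⟨4143, 3, 6⟩)) (.node 1 (.one ⟨16707, 1, 4⟩) (.one ⟨2536, 2, 5⟩)))))) (.node 16 (.node 8 (.node 4 (.node 2 (.node 1 (.one ⟨7465, 2, 1⟩) (.one ⟨1416, 0, 5⟩)) (.node 1 (.one ⟨5788, 2, 2⟩) (.one ⟨2683, 1, 3⟩))) (.node 2 (.node 1 (.one ⟨11230, 3, 5⟩) (.one ⟨3424, 2, 3⟩)) (.node 1 (.one ⟨7118, 3, 5⟩) (.one ⟨6818, 3, 4⟩)))) (.node 4 (.node 2 (.node 1 (.one ⟨14676, 0, 5⟩) (.one ⟨1180, 2, 4⟩)) (.node 1 (.one ⟨13424, 1, 4⟩) (.one ⟨6427, 1, 3⟩))) (.node 2 (.node 1 (.one ⟨9835, 3, 5⟩) (.one ⟨5756, 0, 4⟩)) (.node 1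 (.one ⟨9404, 2, 4⟩) (.one ⟨5361, 0, 4⟩))))) (.node 8 (.node 4 (.node 2 (.node 1 (.one ⟨12732, 2, 5⟩) (.one ⟨1416, 3, 5⟩)) (.node 1 (.one ⟨3311, 3, 5⟩) (.one ⟨12727, 2, 5⟩))) (.node 2 (.node 1 (.one ⟨8855, 3, 3⟩) (.one ⟨497, 2, 3⟩)) (.node 1 (.one ⟨1257, 1, 6⟩) (.one ⟨1104, 1, 5⟩)))) (.node 4 (.node 2 (.node 1 (.one ⟨15573, 1, 5⟩) (.one ⟨13040, 3, 4⟩)) (.node 1 (.one ⟨15858, 2, 3⟩) (.one ⟨16123, 1, 5⟩))) (.node 2 (.node 1 (.one ⟨5233, 1, 5⟩) (.one ⟨5961, 2, 4⟩)) (.node 1 (.one ⟨6347, 1, 5⟩) (.one ⟨4497, 2, 4⟩)))))))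
def par4_6_5 : Arr Par :=
  (.node 32 (.node 16 (.node 8 (.node 4 (.node 2 (.node 1 (.one ⟨11220, 0, 4⟩) (.one ⟨14437, 0, 4⟩)) (.node 1 (.one ⟨182, 0, 4⟩) (.one ⟨2268, 3, 5⟩))) (.node 2 (.node 1 (.one ⟨4340, 3, 4⟩) (.one ⟨8906, 0, 4⟩)) (.node 1 (.one ⟨4493, 2, 4⟩) (.one ⟨7071, 0, 3⟩)))) (.node 4 (.node 2 (.node 1 (.one ⟨10110, 1, 4⟩) (.one ⟨17026, 3, 3⟩)) (.node 1 (.one ⟨1031, 0, 6⟩) (.one ⟨5251, 1, 5⟩))) (.node 2 (.node 1 (.one ⟨7078, 0, 5⟩) (.one ⟨31, 0, 2⟩)) (.node 1 (.one ⟨2245, 2, 5⟩) (.one ⟨13505, 3, 4⟩))))) (.node 8 (.node 4 (.node 2 (.node 1 (.one ⟨3455, 3, 5⟩) (.one ⟨14438, 2, 5⟩)) (.node 1 (.one ⟨303, 0, 4⟩) (.one ⟨908, 0, 5⟩))) (.node 2 (.node 1 (.one ⟨10484, 1, 4⟩) (.one ⟨6661, 0, 5⟩)) (.node 1 (.one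 ⟨2265, 1, 4⟩) (.one ⟨17023, 3, 4⟩)))) (.node 4 (.node 2 (.node 1 (.one ⟨4483, 3, 5⟩) (.one ⟨4692, 2, 5⟩)) (.node 1 (.one ⟨2639, 1, 3⟩) (.one ⟨14900, 3, 6⟩))) (.node 2 (.node 1 (.one ⟨216, 3, 5⟩) (.one ⟨6269, 0, 1⟩)) (.node 1 (.one ⟨1818, 3, 5⟩) (.one ⟨4713, 3, 5⟩)))))) (.node 16 (.node 8 (.node 4 (.node 2 (.node 1 (.one ⟨14736, 0, 4⟩) (.one ⟨11230, 1, 5⟩)) (.node 1 (.one ⟨5973, 0, 5⟩) (.one ⟨2749, 1, 5⟩))) (.node 2 (.node 1 (.one ⟨10497, 1, 4⟩) (.one ⟨11698, 3, 5⟩)) (.node 1 (.one ⟨2929, 3, 4⟩) (.one ⟨14568, 3, 5⟩)))) (.node 4 (.node 2 (.node 1 (.one ⟨14794, 0, 4⟩) (.one ⟨7047, 1, 5⟩)) (.node 1 (.one ⟨2613, 1, 4⟩) (.one ⟨164, 3, 6⟩))) (.node 2 (.node 1 (.one ⟨13600, 2, 4⟩) (.one ⟨8305, 0, 1⟩)) (.node 1 (.one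 ⟨5065, 3, 6⟩) (.one ⟨8305, 3, 1⟩))))) (.node 8 (.node 4 (.node 2 (.node 1 (.one ⟨1740, 0, 3⟩) (.one ⟨10219, 0, 4⟩)) (.node 1 (.one ⟨14513, 1, 4⟩) (.one ⟨4948, 3, 1⟩))) (.node 2 (.node 1 (.one ⟨14511, 1, 5⟩) (.one ⟨161, 3, 4⟩)) (.node 1 (.one ⟨8584, 3, 5⟩) (.one ⟨7842, 1, 3⟩)))) (.node 4 (.node 2 (.node 1 (.one ⟨3095, 1, 1⟩) (.one ⟨104, 0, 0⟩)) (.node 1 (.one ⟨8261, 2, 4⟩) (.one ⟨16182, 1, 5⟩))) (.node 2 (.node 1 (.one ⟨11452, 1, 5⟩) (.one ⟨16852, 0, 4⟩)) (.node 1 (.one ⟨6954, 2, 5⟩) (.one ⟨10190, 1, 4⟩)))))))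
def par4_6_6 : Arr Par :=
  (.node 32 (.node 16 (.node 8 (.node 4 (.node 2 (.node 1 (.one ⟨1602, 1, 5⟩) (.one ⟨1235, 3, 2⟩)) (.node 1 (.one ⟨859, 2, 3⟩) (.one ⟨14972, 2, 6⟩))) (.node 2 (.node 1 (.one ⟨5485, 0, 4⟩) (.one ⟨13392, 0, 4⟩)) (.node 1 (.one ⟨6807, 3, 5⟩) (.one ⟨7276, 2, 5⟩)))) (.node 4 (.node 2 (.node 1 (.one ⟨16932, 0, 3⟩) (.one ⟨15693, 3, 5⟩)) (.node 1 (.one ⟨7421, 0, 2⟩) (.one ⟨14182, 3, 5⟩))) (.node 2 (.node 1 (.one ⟨8502, 3, 5⟩) (.one ⟨4902, 2, 4⟩)) (.node 1 (.one ⟨9207, 0, 2⟩) (.one ⟨8622, 0, 5⟩))))) (.node 8 (.node 4 (.node 2 (.node 1 (.one ⟨2239, 1, 2⟩) (.one ⟨13145, 1, 5⟩)) (.node 1 (.one ⟨16791, 3, 3⟩) (.one ⟨14587, 2, 3⟩))) (.node 2 (.node 1 (.one ⟨4536, 1, 5⟩) (.one ⟨12716, 0, 6⟩)) (.node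 1 (.one ⟨12618, 0, 2⟩) (.one ⟨149, 1, 5⟩)))) (.node 4 (.node 2 (.node 1 (.one ⟨8796, 3, 6⟩) (.one ⟨6937, 3, 6⟩)) (.node 1 (.one ⟨8652, 3, 5⟩) (.one ⟨5424, 2, 4⟩))) (.node 2 (.node 1 (.one ⟨12818, 2, 4⟩) (.one ⟨929, 0, 4⟩)) (.node 1 (.one ⟨12690, 2, 4⟩) (.one ⟨7832, 3, 4⟩)))))) (.node 16 (.node 8 (.node 4 (.node 2 (.node 1 (.one ⟨7838, 3, 2⟩) (.one ⟨14105, 2, 5⟩)) (.node 1 (.one ⟨13890, 2, 5⟩) (.one ⟨7837, 3, 4⟩))) (.node 2 (.node 1 (.one ⟨9127, 1, 5⟩) (.one ⟨7975, 1, 4⟩)) (.node 1 (.one ⟨10136, 2, 5⟩) (.one ⟨771, 0, 5⟩)))) (.node 4 (.node 2 (.node 1 (.one ⟨10108, 1, 4⟩) (.one ⟨7332, 2, 3⟩)) (.node 1 (.one ⟨13527, 3, 6⟩) (.one ⟨3100, 3, 3⟩))) (.node 2 (.node 1 (.one ⟨5922, 1, 2⟩) (.one ⟨14493, 1, 5⟩)) (.node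 1 (.one ⟨10726, 0, 4⟩) (.one ⟨1858, 2, 3⟩))))) (.node 8 (.node 4 (.node 2 (.node 1 (.one ⟨8983, 3, 4⟩) (.one ⟨14163, 2, 3⟩)) (.node 1 (.one ⟨16953, 3, 4⟩) (.one ⟨11980, 1, 3⟩))) (.node 2 (.node 1 (.one ⟨3403, 2, 5⟩) (.one ⟨13787, 2, 4⟩)) (.node 1 (.one ⟨10197, 3, 4⟩) (.one ⟨3767, 2, 3⟩)))) (.node 4 (.node 2 (.node 1 (.one ⟨16634, 1, 3⟩) (.one ⟨5490, 3, 5⟩)) (.node 1 (.one ⟨4440, 0, 4⟩) (.one ⟨5729, 3, 4⟩))) (.node 2 (.node 1 (.one ⟨12056, 3, 5⟩) (.one ⟨15341, 1, 4⟩)) (.node 1 (.one ⟨6612, 2, 3⟩) (.one ⟨8954, 3, 4⟩)))))))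
def par4_6_7 : Arr Par :=
  (.node 32 (.node 16 (.node 8 (.node 4 (.node 2 (.node 1 (.one ⟨14292, 1, 4⟩) (.one ⟨4940, 3, 4⟩)) (.node 1 (.one ⟨17037, 0, 5⟩) (.one ⟨2282, 2, 3⟩))) (.node 2 (.node 1 (.one ⟨13587, 1, 4⟩) (.one ⟨15550, 1, 3⟩)) (.node 1 (.one ⟨12268, 0, 5⟩) (.one ⟨10876, 1, 5⟩)))) (.node 4 (.node 2 (.node 1 (.one ⟨16257, 3, 5⟩) (.one ⟨17196, 0, 5⟩)) (.node 1 (.one ⟨3341, 3, 5⟩) (.one ⟨16557, 3, 5⟩))) (.node 2 (.node 1 (.one ⟨5602, 3, 4⟩) (.one ⟨6672, 2, 5⟩)) (.node 1 (.one ⟨14449, 2, 2⟩) (.one ⟨381, 3, 5⟩))))) (.node 8 (.node 4 (.node 2 (.node 1 (.one ⟨1959, 0, 4⟩) (.one ⟨6258, 0, 4⟩)) (.node 1 (.one ⟨4323, 2, 4⟩) (.one ⟨11755, 2, 5⟩))) (.node 2 (.node 1 (.one ⟨6493, 3, 2⟩) (.one ⟨4073, 3, 5⟩)) (.node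 1 (.one ⟨6310, 1, 3⟩) (.one ⟨3949, 1, 4⟩)))) (.node 4 (.node 2 (.node 1 (.one ⟨14644, 3, 5⟩) (.one ⟨4823, 3, 4⟩)) (.node 1 (.one ⟨8180, 3, 5⟩) (.one ⟨5398, 2, 5⟩))) (.node 2 (.node 1 (.one ⟨7309, 3, 5⟩) (.one ⟨13234, 3, 5⟩)) (.node 1 (.one ⟨13391, 2, 5⟩) (.one ⟨12626, 2, 4⟩)))))) (.node 16 (.node 8 (.node 4 (.node 2 (.node 1 (.one ⟨11073, 3, 4⟩) (.one ⟨2842, 1, 6⟩)) (.node 1 (.one ⟨10652, 2, 4⟩) (.one ⟨3820, 0, 5⟩))) (.node 2 (.node 1 (.one ⟨3851, 0, 5⟩) (.one ⟨9171, 2, 5⟩)) (.node 1 (.one ⟨8318, 1, 5⟩) (.one ⟨6806, 1, 1⟩)))) (.node 4 (.node 2 (.node 1 (.one ⟨13084, 2, 3⟩) (.one ⟨12787, 2, 5⟩)) (.node 1 (.one ⟨9712, 2, 5⟩) (.one ⟨4830, 1, 4⟩))) (.node 2 (.node 1 (.one ⟨17129, 2, 5⟩) (.one ⟨2548, 0, 3⟩)) (.node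 1 (.one ⟨249, 3, 5⟩) (.one ⟨12275, 1, 5⟩))))) (.node 8 (.node 4 (.node 2 (.node 1 (.one ⟨10176, 2, 5⟩) (.one ⟨6053, 2, 6⟩)) (.node 1 (.one ⟨14520, 3, 6⟩) (.one ⟨16600, 0, 2⟩))) (.node 2 (.node 1 (.one ⟨13207, 3, 4⟩) (.one ⟨15658, 2, 4⟩)) (.node 1 (.one ⟨7694, 3, 4⟩) (.one ⟨14396, 3, 4⟩)))) (.node 4 (.node 2 (.node 1 (.one ⟨11367, 3, 6⟩) (.one ⟨6403, 2, 5⟩)) (.node 1 (.one ⟨6595, 3, 4⟩) (.one ⟨6344, 3, 4⟩))) (.node 2 (.node 1 (.one ⟨6411, 2, 5⟩) (.one ⟨9257, 3, 4⟩)) (.node 1 (.one ⟨15479, 1, 6⟩) (.one ⟨2704, 3, 5⟩)))))))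
def par4_6_8 : Arr Par :=
  (.node 32 (.node 16 (.node 8 (.node 4 (.node 2 (.node 1 (.one ⟨2005, 2, 4⟩) (.one ⟨9804, 1, 5⟩)) (.node 1 (.one ⟨10100, 0, 4⟩) (.one ⟨5457, 3, 4⟩))) (.node 2 (.node 1 (.one ⟨6027, 0, 4⟩) (.one ⟨1990, 1, 4⟩)) (.node 1 (.one ⟨8790, 0, 4⟩) (.one ⟨14985, 2, 5⟩)))) (.node 4 (.node 2 (.node 1 (.one ⟨4162, 0, 3⟩) (.one ⟨12781, 0, 3⟩)) (.node 1 (.one ⟨12223, 1, 5⟩) (.one ⟨4696, 0, 2⟩))) (.node 2 (.node 1 (.one ⟨7194, 3, 4⟩) (.one ⟨16017, 0, 4⟩)) (.node 1 (.one ⟨12235, 0, 5⟩) (.one ⟨10756, 1, 6⟩))))) (.node 8 (.node 4 (.node 2 (.node 1 (.one ⟨15907, 2, 4⟩) (.one ⟨7046, 1, 3⟩)) (.node 1 (.one ⟨369, 2, 4⟩) (.one ⟨6490, 3, 4⟩))) (.node 2 (.node 1 (.one ⟨10483, 1, 3⟩) (.one ⟨7679, 3, 4⟩)) (.node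 1 (.one ⟨15921, 2, 5⟩) (.one ⟨12325, 1, 4⟩)))) (.node 4 (.node 2 (.node 1 (.one ⟨14621, 2, 3⟩) (.one ⟨2857, 1, 3⟩)) (.node 1 (.one ⟨7158, 0, 5⟩) (.one ⟨4842, 3, 6⟩))) (.node 2 (.node 1 (.one ⟨10850, 1, 5⟩) (.one ⟨6849, 3, 6⟩)) (.node 1 (.one ⟨4384, 1, 5⟩) (.one ⟨1647, 2, 3⟩)))))) (.node 16 (.node 8 (.node 4 (.node 2 (.node 1 (.one ⟨10902, 1, 5⟩) (.one ⟨13429, 3, 5⟩)) (.node 1 (.one ⟨8931, 2, 4⟩) (.one ⟨3885, 0, 4⟩))) (.node 2 (.node 1 (.one ⟨2066, 1, 5⟩) (.one ⟨12075, 0, 4⟩)) (.node 1 (.one ⟨11010, 1, 5⟩) (.one ⟨6647, 1, 5⟩)))) (.node 4 (.node 2 (.node 1 (.one ⟨2311, 3, 3⟩) (.one ⟨13235, 3, 4⟩)) (.node 1 (.one ⟨15818, 3, 4⟩) (.one ⟨10739, 1, 6⟩))) (.node 2 (.node 1 (.one ⟨726, 3, 5⟩) (.one ⟨10236, 1, 4⟩)) (.node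 1 (.one ⟨16261, 3, 5⟩) (.one ⟨12509, 1, 5⟩))))) (.node 8 (.node 4 (.node 2 (.node 1 (.one ⟨14631, 3, 3⟩) (.one ⟨676, 2, 3⟩)) (.node 1 (.one ⟨6690, 2, 5⟩) (.one ⟨11849, 1, 4⟩))) (.node 2 (.node 1 (.one ⟨14811, 1, 6⟩) (.one ⟨3959, 2, 2⟩)) (.node 1 (.one ⟨2240, 1, 5⟩) (.one ⟨10067, 2, 4⟩)))) (.node 4 (.node 2 (.node 1 (.one ⟨14947, 2, 4⟩) (.one ⟨1582, 1, 0⟩)) (.node 1 (.one ⟨1071, 3, 6⟩) (.one ⟨13355, 0, 5⟩))) (.node 2 (.node 1 (.one ⟨15203, 2, 5⟩) (.one ⟨13178, 0, 5⟩)) (.node 1 (.one ⟨3039, 0, 5⟩) (.one ⟨72, 3, 4⟩)))))))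
def par4_6_9 : Arr Par :=
  (.node 32 (.node 16 (.node 8 (.node 4 (.node 2 (.node 1 (.one ⟨10283, 2, 6⟩) (.one ⟨355, 3, 5⟩)) (.node 1 (.one ⟨11810, 1, 4⟩) (.one ⟨3509, 2, 5⟩))) (.node 2 (.node 1 (.one ⟨2641, 2, 5⟩) (.one ⟨889, 3, 5⟩)) (.node 1 (.one ⟨643, 3, 1⟩) (.one ⟨127, 2, 3⟩)))) (.node 4 (.node 2 (.node 1 (.one ⟨10172, 0, 4⟩) (.one ⟨5251, 2, 5⟩)) (.node 1 (.one ⟨3941, 3, 4⟩) (.one ⟨2373, 2, 3⟩))) (.node 2 (.node 1 (.one ⟨8136, 3, 3⟩) (.one ⟨12559, 3, 3⟩)) (.node 1 (.one ⟨13517, 2, 5⟩) (.one ⟨11220, 3, 4⟩))))) (.node 8 (.node 4 (.node 2 (.node 1 (.one ⟨394, 2, 4⟩) (.one ⟨6927, 3, 5⟩)) (.node 1 (.one ⟨5133, 2, 3⟩) (.one ⟨9792, 0, 5⟩))) (.node 2 (.node 1 (.one ⟨8835, 3, 5⟩) (.one ⟨14534, 3, 5⟩)) (.node 1 (.one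 ⟨5209, 1, 5⟩) (.one ⟨17070, 3, 4⟩)))) (.node 4 (.node 2 (.node 1 (.one ⟨880, 0, 4⟩) (.one ⟨284, 3, 4⟩)) (.node 1 (.one ⟨2019, 2, 4⟩) (.one ⟨131, 2, 5⟩))) (.node 2 (.node 1 (.one ⟨15585, 0, 3⟩) (.one ⟨15586, 0, 5⟩)) (.node 1 (.one ⟨11137, 1, 3⟩) (.one ⟨11804, 3, 5⟩)))))) (.node 16 (.node 8 (.node 4 (.node 2 (.node 1 (.one ⟨6145, 2, 4⟩) (.one ⟨15908, 1, 2⟩)) (.node 1 (.one ⟨10184, 3, 2⟩) (.one ⟨6060, 2, 3⟩))) (.node 2 (.node 1 (.one ⟨5803, 3, 5⟩) (.one ⟨7626, 3, 4⟩)) (.node 1 (.one ⟨14412, 2, 5⟩) (.one ⟨13575, 0, 4⟩)))) (.node 4 (.node 2 (.node 1 (.one ⟨13528, 0, 4⟩) (.one ⟨15402, 0, 4⟩)) (.node 1 (.one ⟨15707, 3, 6⟩) (.one ⟨4146, 0, 4⟩))) (.node 2 (.node 1 (.one ⟨4370, 0, 4⟩) (.one ⟨15706, 3, 6⟩)) (.node 1 (.one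 ⟨9118, 2, 3⟩) (.one ⟨6697, 1, 5⟩))))) (.node 8 (.node 4 (.node 2 (.node 1 (.one ⟨7695, 0, 5⟩) (.one ⟨4126, 2, 3⟩)) (.node 1 (.one ⟨34, 3, 5⟩) (.one ⟨15882, 3, 5⟩))) (.node 2 (.node 1 (.one ⟨13288, 3, 5⟩) (.one ⟨7465, 3, 1⟩)) (.node 1 (.one ⟨15019, 2, 5⟩) (.one ⟨15958, 3, 4⟩)))) (.node 4 (.node 2 (.node 1 (.one ⟨6684, 3, 6⟩) (.one ⟨7821, 1, 5⟩)) (.node 1 (.one ⟨1953, 3, 4⟩) (.one ⟨1330, 0, 4⟩))) (.node 2 (.node 1 (.one ⟨16774, 0, 5⟩) (.one ⟨6889, 3, 4⟩)) (.node 1 (.one ⟨14402, 0, 6⟩) (.one ⟨8402, 2, 1⟩)))))))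
def par4_6_10 : Arr Par :=
  (.node 32 (.node 16 (.node 8 (.node 4 (.node 2 (.node 1 (.one ⟨16424, 3, 4⟩) (.one ⟨2225, 2, 2⟩)) (.node 1 (.one ⟨7511, 2, 5⟩) (.one ⟨8760, 2, 4⟩))) (.node 2 (.node 1 (.one ⟨4232, 2, 1⟩) (.one ⟨1356, 0, 6⟩)) (.node 1 (.one ⟨6842, 2, 5⟩) (.one ⟨488, 1, 3⟩)))) (.node 4 (.node 2 (.node 1 (.one ⟨7189, 0, 5⟩) (.one ⟨2912, 0, 4⟩)) (.node 1 (.one ⟨4907, 2, 6⟩) (.one ⟨12859, 3, 5⟩))) (.node 2 (.node 1 (.one ⟨16017, 1, 4⟩) (.one ⟨9347, 3, 3⟩)) (.node 1 (.one ⟨14519, 0, 5⟩) (.one ⟨582, 3, 4⟩))))) (.node 8 (.node 4 (.node 2 (.node 1 (.one ⟨4925, 3, 6⟩) (.one ⟨10496, 2, 5⟩)) (.node 1 (.one ⟨15878, 1, 5⟩) (.one ⟨393, 1, 6⟩))) (.node 2 (.node 1 (.one ⟨9526, 3, 4⟩) (.one ⟨15871, 1, 3⟩)) (.node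 1 (.one ⟨2858, 1, 0⟩) (.one ⟨1461, 2, 4⟩)))) (.node 4 (.node 2 (.node 1 (.one ⟨15199, 2, 4⟩) (.one ⟨11980, 2, 3⟩)) (.node 1 (.one ⟨5391, 0, 5⟩) (.one ⟨16705, 3, 5⟩))) (.node 2 (.node 1 (.one ⟨15563, 2, 4⟩) (.one ⟨11931, 1, 3⟩)) (.node 1 (.one ⟨6112, 3, 5⟩) (.one ⟨7595, 2, 6⟩)))))) (.node 16 (.node 8 (.node 4 (.node 2 (.node 1 (.one ⟨7054, 2, 5⟩) (.one ⟨7904, 0, 3⟩)) (.node 1 (.one ⟨11038, 2, 3⟩) (.one ⟨13340, 0, 6⟩))) (.node 2 (.node 1 (.one ⟨7737, 1, 2⟩) (.one ⟨7268, 3, 5⟩)) (.node 1 (.one ⟨9633, 1, 5⟩) (.one ⟨15531, 2, 4⟩)))) (.node 4 (.node 2 (.node 1 (.one ⟨13854, 2, 5⟩) (.one ⟨9519, 1, 5⟩)) (.node 1 (.one ⟨9949, 1, 5⟩) (.one ⟨6932, 3, 5⟩))) (.node 2 (.node 1 (.one ⟨16748, 3, 5⟩) (.one ⟨15700, 3, 5⟩)) (.node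 1 (.one ⟨16587, 2, 4⟩) (.one ⟨854, 0, 4⟩))))) (.node 8 (.node 4 (.node 2 (.node 1 (.one ⟨13454, 3, 3⟩) (.one ⟨10219, 2, 4⟩)) (.node 1 (.one ⟨6191, 3, 5⟩) (.one ⟨9678, 0, 4⟩))) (.node 2 (.node 1 (.one ⟨16842, 3, 6⟩) (.one ⟨3450, 3, 4⟩)) (.node 1 (.one ⟨2493, 2, 4⟩) (.one ⟨4157, 0, 4⟩)))) (.node 4 (.node 2 (.node 1 (.one ⟨2476, 3, 5⟩) (.one ⟨15582, 3, 7⟩)) (.node 1 (.one ⟨2228, 0, 4⟩) (.one ⟨1096, 2, 5⟩))) (.node 2 (.node 1 (.one ⟨12259, 1, 4⟩) (.one ⟨2643, 3, 6⟩)) (.node 1 (.one ⟨15046, 3, 5⟩) (.one ⟨825, 2, 3⟩)))))))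
def par4_6_11 : Arr Par :=
  (.node 32 (.node 16 (.node 8 (.node 4 (.node 2 (.node 1 (.one ⟨222, 3, 6⟩) (.one ⟨12074, 1, 5⟩)) (.node 1 (.one ⟨7691, 0, 6⟩) (.one ⟨11897, 3, 3⟩))) (.node 2 (.node 1 (.one ⟨12659, 3, 5⟩) (.one ⟨649, 2, 5⟩)) (.node 1 (.one ⟨11856, 3, 5⟩) (.one ⟨9565, 2, 5⟩)))) (.node 4 (.node 2 (.node 1 (.one ⟨11380, 3, 3⟩) (.one ⟨2572, 0, 4⟩)) (.node 1 (.one ⟨10920, 2, 4⟩) (.one ⟨3975, 1, 3⟩))) (.node 2 (.node 1 (.one ⟨1812, 3, 5⟩) (.one ⟨14567, 1, 4⟩)) (.node 1 (.one ⟨11495, 3, 3⟩) (.one ⟨6238, 2, 4⟩))))) (.node 8 (.node 4 (.node 2 (.node 1 (.one ⟨8184, 2, 4⟩) (.one ⟨16886, 0, 4⟩)) (.node 1 (.one ⟨14879, 3, 5⟩) (.one ⟨1353, 3, 2⟩))) (.node 2 (.node 1 (.one ⟨2385, 2, 4⟩) (.one ⟨11997, 0, 5⟩)) (.node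 1 (.one ⟨3646, 2, 6⟩) (.one ⟨15090, 2, 5⟩)))) (.node 4 (.node 2 (.node 1 (.one ⟨8723, 1, 5⟩) (.one ⟨1709, 2, 6⟩)) (.node 1 (.one ⟨15057, 3, 5⟩) (.one ⟨4333, 3, 6⟩))) (.node 2 (.node 1 (.one ⟨11575, 3, 6⟩) (.one ⟨12989, 1, 4⟩)) (.node 1 (.one ⟨10756, 3, 6⟩) (.one ⟨3444, 3, 4⟩)))))) (.node 16 (.node 8 (.node 4 (.node 2 (.node 1 (.one ⟨12566, 3, 4⟩) (.one ⟨2314, 3, 6⟩)) (.node 1 (.one ⟨12350, 2, 5⟩) (.one ⟨3422, 1, 3⟩))) (.node 2 (.node 1 (.one ⟨12670, 3, 5⟩) (.one ⟨3040, 3, 5⟩)) (.node 1 (.one ⟨2190, 2, 4⟩) (.one ⟨11998, 3, 4⟩)))) (.node 4 (.node 2 (.node 1 (.one ⟨2427, 3, 6⟩) (.one ⟨6310, 3, 3⟩)) (.node 1 (.one ⟨17025, 1, 4⟩) (.one ⟨14041, 0, 3⟩))) (.node 2 (.node 1 (.one ⟨16654, 2, 4⟩) (.one ⟨5749, 2, 5⟩)) (.node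 1 (.one ⟨11417, 3, 5⟩) (.one ⟨8077, 0, 4⟩))))) (.node 8 (.node 4 (.node 2 (.node 1 (.one ⟨5530, 0, 2⟩) (.one ⟨6511, 2, 2⟩)) (.node 1 (.one ⟨12966, 1, 6⟩) (.one ⟨11841, 3, 3⟩))) (.node 2 (.node 1 (.one ⟨2762, 3, 4⟩) (.one ⟨13070, 0, 5⟩)) (.node 1 (.one ⟨3469, 3, 6⟩) (.one ⟨11773, 2, 5⟩)))) (.node 4 (.node 2 (.node 1 (.one ⟨17015, 2, 5⟩) (.one ⟨6432, 3, 2⟩)) (.node 1 (.one ⟨12199, 3, 6⟩) (.one ⟨4880, 1, 5⟩))) (.node 2 (.node 1 (.one ⟨5178, 3, 3⟩) (.one ⟨14591, 3, 5⟩)) (.node 1 (.one ⟨4324, 3, 5⟩) (.one ⟨12040, 2, 5⟩)))))))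
def par4_6_12 : Arr Par :=
  (.node 32 (.node 16 (.node 8 (.node 4 (.node 2 (.node 1 (.one ⟨16020, 1, 4⟩) (.one ⟨1239, 3, 6⟩)) (.node 1 (.one ⟨11972, 2, 4⟩) (.one ⟨12624, 0, 6⟩))) (.node 2 (.node 1 (.one ⟨4157, 2, 4⟩) (.one ⟨8010, 3, 3⟩)) (.node 1 (.one ⟨1728, 2, 3⟩) (.one ⟨16380, 3, 5⟩)))) (.node 4 (.node 2 (.node 1 (.one ⟨14109, 2, 5⟩) (.one ⟨5500, 0, 2⟩)) (.node 1 (.one ⟨6546, 2, 4⟩) (.one ⟨15611, 1, 6⟩))) (.node 2 (.node 1 (.one ⟨5696, 0, 1⟩) (.one ⟨8556, 3, 5⟩)) (.node 1 (.one ⟨5091, 1, 4⟩) (.one ⟨8372, 3, 4⟩))))) (.node 8 (.node 4 (.node 2 (.node 1 (.one ⟨16875, 3, 3⟩) (.one ⟨11368, 3, 1⟩)) (.node 1 (.one ⟨14376, 0, 6⟩) (.one ⟨10311, 3, 3⟩))) (.node 2 (.node 1 (.one ⟨207, 3, 4⟩) (.one ⟨11440, 2, 4⟩)) (.node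 1 (.one ⟨15437, 0, 2⟩) (.one ⟨12576, 3, 6⟩)))) (.node 4 (.node 2 (.node 1 (.one ⟨3517, 0, 4⟩) (.one ⟨14676, 1, 5⟩)) (.node 1 (.one ⟨760, 2, 4⟩) (.one ⟨12183, 1, 4⟩))) (.node 2 (.node 1 (.one ⟨2467, 1, 4⟩) (.one ⟨7302, 0, 5⟩)) (.node 1 (.one ⟨15096, 1, 4⟩) (.one ⟨4558, 2, 5⟩)))))) (.node 16 (.node 8 (.node 4 (.node 2 (.node 1 (.one ⟨1573, 2, 5⟩) (.one ⟨6425, 1, 4⟩)) (.node 1 (.one ⟨153, 1, 5⟩) (.one ⟨11946, 1, 4⟩))) (.node 2 (.node 1 (.one ⟨2541, 2, 3⟩) (.one ⟨12511, 1, 4⟩)) (.node 1 (.one ⟨5298, 2, 5⟩) (.one ⟨4402, 2, 5⟩)))) (.node 4 (.node 2 (.node 1 (.one ⟨6279, 0, 5⟩) (.one ⟨6579, 3, 4⟩)) (.node 1 (.one ⟨6067, 3, 4⟩) (.one ⟨1742, 2, 5⟩))) (.node 2 (.node 1 (.one ⟨5680, 3, 5⟩) (.one ⟨11865, 2, 4⟩)) (.node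 1 (.one ⟨10289, 2, 5⟩) (.one ⟨15714, 3, 4⟩))))) (.node 8 (.node 4 (.node 2 (.node 1 (.one ⟨13213, 3, 4⟩) (.one ⟨12707, 0, 4⟩)) (.node 1 (.one ⟨4361, 1, 4⟩) (.one ⟨8702, 3, 4⟩))) (.node 2 (.node 1 (.one ⟨13472, 2, 5⟩) (.one ⟨6168, 2, 4⟩)) (.node 1 (.one ⟨3353, 3, 5⟩) (.one ⟨6896, 2, 3⟩)))) (.node 4 (.node 2 (.node 1 (.one ⟨17140, 3, 5⟩) (.one ⟨9417, 0, 5⟩)) (.node 1 (.one ⟨2187, 0, 6⟩) (.one ⟨6895, 2, 5⟩))) (.node 2 (.node 1 (.one ⟨238, 2, 5⟩) (.one ⟨854, 2, 4⟩)) (.node 1 (.one ⟨2856, 3, 6⟩) (.one ⟨15908, 2, 2⟩)))))))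
def par4_6_13 : Arr Par :=
  (.node 32 (.node 16 (.node 8 (.node 4 (.node 2 (.node 1 (.one ⟨6168, 0, 4⟩) (.one ⟨5267, 2, 4⟩)) (.node 1 (.one ⟨10773, 1, 3⟩) (.one ⟨11520, 0, 5⟩))) (.node 2 (.node 1 (.one ⟨16104, 3, 4⟩) (.one ⟨2463, 0, 5⟩)) (.node 1 (.one ⟨12325, 3, 4⟩) (.one ⟨15525, 1, 4⟩)))) (.node 4 (.node 2 (.node 1 (.one ⟨16856, 1, 5⟩) (.one ⟨13464, 0, 5⟩)) (.node 1 (.one ⟨14356, 1, 5⟩) (.one ⟨9205, 3, 5⟩))) (.node 2 (.node 1 (.one ⟨13919, 3, 2⟩) (.one ⟨1540, 3, 5⟩)) (.node 1 (.one ⟨5894, 3, 3⟩) (.one ⟨16220, 0, 6⟩))))) (.node 8 (.node 4 (.node 2 (.node 1 (.one ⟨5140, 3, 3⟩) (.one ⟨4731, 2, 4⟩)) (.node 1 (.one ⟨17102, 0, 5⟩) (.one ⟨4219, 2, 3⟩))) (.node 2 (.node 1 (.one ⟨12376, 2, 4⟩) (.one ⟨10802, 2, 5⟩))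 (.node 1 (.one ⟨15485, 1, 5⟩) (.one ⟨6996, 1, 5⟩)))) (.node 4 (.node 2 (.node 1 (.one ⟨3854, 0, 6⟩) (.one ⟨14494, 0, 5⟩)) (.node 1 (.one ⟨8030, 3, 5⟩) (.one ⟨5258, 2, 5⟩))) (.node 2 (.node 1 (.one ⟨4552, 3, 5⟩) (.one ⟨5332, 3, 4⟩)) (.node 1 (.one ⟨6995, 3, 4⟩) (.one ⟨13233, 3, 5⟩)))))) (.node 16 (.node 8 (.node 4 (.node 2 (.node 1 (.one ⟨5776, 1, 5⟩) (.one ⟨14641, 2, 4⟩)) (.node 1 (.one ⟨12830, 2, 5⟩) (.one ⟨7396, 2, 4⟩))) (.node 2 (.node 1 (.one ⟨9824, 0, 5⟩) (.one ⟨9817, 0, 6⟩)) (.node 1 (.one ⟨10746, 1, 4⟩) (.one ⟨11103, 3, 6⟩)))) (.node 4 (.node 2 (.node 1 (.one ⟨14778, 0, 3⟩) (.one ⟨8485, 2, 5⟩)) (.node 1 (.one ⟨6298, 0, 5⟩) (.one ⟨14896, 3, 4⟩))) (.node 2 (.node 1 (.one ⟨16465, 2, 5⟩) (.one ⟨16080, 3,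 3⟩)) (.node 1 (.one ⟨8460, 0, 4⟩) (.one ⟨12128, 1, 1⟩))))) (.node 8 (.node 4 (.node 2 (.node 1 (.one ⟨6947, 1, 5⟩) (.one ⟨10780, 0, 2⟩)) (.node 1 (.one ⟨16065, 2, 5⟩) (.one ⟨11430, 2, 3⟩))) (.node 2 (.node 1 (.one ⟨8903, 1, 5⟩) (.one ⟨11656, 3, 4⟩)) (.node 1 (.one ⟨14153, 3, 6⟩) (.one ⟨16853, 3, 5⟩)))) (.node 4 (.node 2 (.node 1 (.one ⟨11264, 0, 4⟩) (.one ⟨14116, 1, 3⟩)) (.node 1 (.one ⟨1215, 3, 4⟩) (.one ⟨16915, 3, 5⟩))) (.node 2 (.node 1 (.one ⟨9275, 3, 6⟩) (.one ⟨11119, 2, 3⟩)) (.node 1 (.one ⟨6593, 1, 5⟩) (.one ⟨15112, 3, 5⟩)))))))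
def par4_6_14 : Arr Par :=
  (.node 32 (.node 16 (.node 8 (.node 4 (.node 2 (.node 1 (.one ⟨635, 2, 4⟩) (.one ⟨488, 2, 3⟩)) (.node 1 (.one ⟨280, 2, 3⟩) (.one ⟨16632, 3, 4⟩))) (.node 2 (.node 1 (.one ⟨10690, 0, 6⟩) (.one ⟨3627, 3, 2⟩)) (.node 1 (.one ⟨4659, 2, 2⟩) (.one ⟨10231, 3, 4⟩)))) (.node 4 (.node 2 (.node 1 (.one ⟨14621, 3, 3⟩) (.one ⟨2729, 0, 4⟩)) (.node 1 (.one ⟨6863, 2, 5⟩) (.one ⟨11050, 1, 6⟩))) (.node 2 (.node 1 (.one ⟨15130, 1, 3⟩) (.one ⟨16822, 0, 4⟩)) (.node 1 (.one ⟨8350, 0, 4⟩) (.one ⟨9761, 2, 5⟩))))) (.node 8 (.node 4 (.node 2 (.node 1 (.one ⟨14019, 3, 5⟩) (.one ⟨17125, 2, 4⟩)) (.node 1 (.one ⟨5551, 2, 5⟩) (.one ⟨7071, 1, 3⟩))) (.node 2 (.node 1 (.one ⟨11707, 2, 5⟩) (.one ⟨11522, 3, 3⟩)) (.node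 1 (.one ⟨8625, 0, 4⟩) (.one ⟨12933, 1, 4⟩)))) (.node 4 (.node 2 (.node 1 (.one ⟨10577, 0, 5⟩) (.one ⟨8863, 1, 3⟩)) (.node 1 (.one ⟨7802, 1, 4⟩) (.one ⟨1983, 3, 2⟩))) (.node 2 (.node 1 (.one ⟨1579, 3, 5⟩) (.one ⟨6631, 2, 2⟩)) (.node 1 (.one ⟨13456, 3, 5⟩) (.one ⟨3584, 2, 2⟩)))))) (.node 16 (.node 8 (.node 4 (.node 2 (.node 1 (.one ⟨9976, 0, 5⟩) (.one ⟨2591, 3, 4⟩)) (.node 1 (.one ⟨14762, 3, 5⟩) (.one ⟨3120, 1, 5⟩))) (.node 2 (.node 1 (.one ⟨7961, 0, 5⟩) (.one ⟨14768, 3, 5⟩)) (.node 1 (.one ⟨12753, 0, 4⟩) (.one ⟨4852, 1, 4⟩)))) (.node 4 (.node 2 (.node 1 (.one ⟨3446, 3, 6⟩) (.one ⟨3931, 2, 5⟩)) (.node 1 (.one ⟨6244, 0, 3⟩) (.one ⟨11450, 3, 4⟩))) (.node 2 (.node 1 (.one ⟨9673, 3, 5⟩) (.one ⟨12892, 3, 5⟩)) (.node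 1 (.one ⟨7632, 1, 5⟩) (.one ⟨79, 3, 4⟩))))) (.node 8 (.node 4 (.node 2 (.node 1 (.one ⟨4991, 1, 5⟩) (.one ⟨8760, 0, 4⟩)) (.node 1 (.one ⟨15818, 1, 4⟩) (.one ⟨13036, 3, 6⟩))) (.node 2 (.node 1 (.one ⟨13015, 3, 4⟩) (.one ⟨3499, 1, 4⟩)) (.node 1 (.one ⟨4917, 3, 5⟩) (.one ⟨4224, 2, 5⟩)))) (.node 4 (.node 2 (.node 1 (.one ⟨1479, 0, 4⟩) (.one ⟨6521, 2, 1⟩)) (.node 1 (.one ⟨12656, 2, 4⟩) (.one ⟨6857, 2, 5⟩))) (.node 2 (.node 1 (.one ⟨12056, 2, 5⟩) (.one ⟨5009, 2, 5⟩)) (.node 1 (.one ⟨7101, 3, 6⟩) (.one ⟨1629, 3, 5⟩)))))))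
def par4_6_15 : Arr Par :=
  (.node 32 (.node 16 (.node 8 (.node 4 (.node 2 (.node 1 (.one ⟨12433, 3, 5⟩) (.one ⟨10392, 0, 5⟩)) (.node 1 (.one ⟨6339, 0, 5⟩) (.one ⟨16527, 3, 5⟩))) (.node 2 (.node 1 (.one ⟨10119, 1, 6⟩) (.one ⟨8395, 3, 5⟩)) (.node 1 (.one ⟨15242, 1, 5⟩) (.one ⟨16833, 1, 3⟩)))) (.node 4 (.node 2 (.node 1 (.one ⟨15019, 3, 5⟩) (.one ⟨9911, 2, 3⟩)) (.node 1 (.one ⟨730, 3, 3⟩) (.one ⟨16539, 3, 4⟩))) (.node 2 (.node 1 (.one ⟨13621, 3, 2⟩) (.one ⟨3724, 3, 3⟩)) (.node 1 (.one ⟨1598, 2, 4⟩) (.one ⟨4903, 0, 5⟩))))) (.node 8 (.node 4 (.node 2 (.node 1 (.one ⟨14572, 3, 3⟩) (.one ⟨4885, 0, 5⟩)) (.node 1 (.one ⟨4864, 0, 3⟩) (.one ⟨1988, 3, 4⟩))) (.node 2 (.node 1 (.one ⟨12876, 3, 4⟩) (.one ⟨5371, 3, 4⟩)) (.node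 1 (.one ⟨4895, 0, 5⟩) (.one ⟨3335, 1, 5⟩)))) (.node 4 (.node 2 (.node 1 (.one ⟨16030, 3, 5⟩) (.one ⟨9985, 3, 5⟩)) (.node 1 (.one ⟨7458, 1, 5⟩) (.one ⟨12454, 2, 5⟩))) (.node 2 (.node 1 (.one ⟨14342, 2, 4⟩) (.one ⟨14955, 3, 6⟩)) (.node 1 (.one ⟨14328, 2, 6⟩) (.one ⟨13061, 0, 5⟩)))))) (.node 16 (.node 8 (.node 4 (.node 2 (.node 1 (.one ⟨733, 1, 6⟩) (.one ⟨2649, 3, 5⟩)) (.node 1 (.one ⟨8499, 2, 5⟩) (.one ⟨1091, 2, 5⟩))) (.node 2 (.node 1 (.one ⟨3362, 3, 5⟩) (.one ⟨2995, 2, 1⟩)) (.node 1 (.one ⟨16706, 3, 5⟩) (.one ⟨3851, 3, 5⟩)))) (.node 4 (.node 2 (.node 1 (.one ⟨15293, 1, 5⟩) (.one ⟨9647, 2, 2⟩)) (.node 1 (.one ⟨2866, 0, 5⟩) (.one ⟨10231, 1, 4⟩))) (.node 2 (.node 1 (.one ⟨4249, 3, 4⟩) (.one ⟨9983, 3, 5⟩)) (.node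 1 (.one ⟨7679, 1, 4⟩) (.one ⟨6529, 3, 3⟩))))) (.node 8 (.node 4 (.node 2 (.node 1 (.one ⟨13312, 2, 3⟩) (.one ⟨821, 0, 4⟩)) (.node 1 (.one ⟨9093, 1, 4⟩) (.one ⟨15127, 1, 6⟩))) (.node 2 (.node 1 (.one ⟨6316, 0, 5⟩) (.one ⟨312, 1, 0⟩)) (.node 1 (.one ⟨1058, 0, 4⟩) (.one ⟨6889, 1, 4⟩)))) (.node 4 (.node 2 (.node 1 (.one ⟨4854, 2, 4⟩) (.one ⟨2218, 1, 2⟩)) (.node 1 (.one ⟨12742, 3, 5⟩) (.one ⟨14707, 1, 4⟩))) (.node 2 (.node 1 (.one ⟨13516, 2, 5⟩) (.one ⟨4666, 3, 4⟩)) (.node 1 (.one ⟨239, 3, 5⟩) (.one ⟨13620, 2, 5⟩)))))))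
def par4_6 : Arr Par :=
  (.node 512 (.node 256 (.node 128 (.node 64 par4_6_0 par4_6_1) (.node 64 par4_6_2 par4_6_3)) (.node 128 (.node 64 par4_6_4 par4_6_5) (.node 64 par4_6_6 par4_6_7))) (.node 256 (.node 128 (.node 64 par4_6_8 par4_6_9) (.node 64 par4_6_10 par4_6_11)) (.node 128 (.node 64 par4_6_12 par4_6_13) (.node 64 par4_6_14 par4_6_15))))
def par4_7_0 : Arr Par :=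
  (.node 32 (.node 16 (.node 8 (.node 4 (.node 2 (.node 1 (.one ⟨9999, 3, 5⟩) (.one ⟨10002, 3, 5⟩)) (.node 1 (.one ⟨273, 2, 4⟩) (.one ⟨13252, 1, 3⟩))) (.node 2 (.node 1 (.one ⟨9851, 2, 5⟩) (.one ⟨5815, 2, 5⟩)) (.node 1 (.one ⟨3808, 2, 5⟩) (.one ⟨3627, 1, 2⟩)))) (.node 4 (.node 2 (.node 1 (.one ⟨13924, 2, 3⟩) (.one ⟨2819, 1, 2⟩)) (.node 1 (.one ⟨4485, 0, 5⟩) (.one ⟨445, 2, 4⟩))) (.node 2 (.node 1 (.one ⟨6807, 1, 5⟩) (.one ⟨10991, 2, 4⟩)) (.node 1 (.one ⟨798, 3, 5⟩) (.one ⟨7920, 0, 5⟩))))) (.node 8 (.node 4 (.node 2 (.node 1 (.one ⟨11466, 0, 5⟩) (.one ⟨6374, 0, 3⟩)) (.node 1 (.one ⟨6948, 3, 4⟩) (.one ⟨16713, 3, 4⟩))) (.node 2 (.node 1 (.one ⟨11515, 3, 5⟩) (.one ⟨17058, 2, 4⟩)) (.node 1 (.one ⟨5268, 2, 6⟩) (.one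 ⟨5929, 3, 4⟩)))) (.node 4 (.node 2 (.node 1 (.one ⟨14862, 2, 5⟩) (.one ⟨452, 3, 4⟩)) (.node 1 (.one ⟨3309, 1, 3⟩) (.one ⟨2420, 2, 5⟩))) (.node 2 (.node 1 (.one ⟨3, 1, 5⟩) (.one ⟨3308, 1, 4⟩)) (.node 1 (.one ⟨5715, 2, 4⟩) (.one ⟨9091, 1, 5⟩)))))) (.node 16 (.node 8 (.node 4 (.node 2 (.node 1 (.one ⟨5959, 2, 2⟩) (.one ⟨8794, 1, 6⟩)) (.node 1 (.one ⟨13999, 2, 5⟩) (.one ⟨15166, 0, 5⟩))) (.node 2 (.node 1 (.one ⟨11338, 2, 3⟩) (.one ⟨12086, 2, 3⟩)) (.node 1 (.one ⟨3795, 3, 3⟩) (.one ⟨4854, 1, 4⟩)))) (.node 4 (.node 2 (.node 1 (.one ⟨3890, 2, 5⟩) (.one ⟨6674, 2, 5⟩)) (.node 1 (.one ⟨10799, 0, 5⟩) (.one ⟨15667, 1, 4⟩))) (.node 2 (.node 1 (.one ⟨390, 3, 4⟩) (.one ⟨7558, 1, 6⟩)) (.node 1 (.one ⟨856, 3, 7⟩) (.one ⟨10674,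 3, 4⟩))))) (.node 8 (.node 4 (.node 2 (.node 1 (.one ⟨1599, 3, 5⟩) (.one ⟨14105, 0, 5⟩)) (.node 1 (.one ⟨2079, 0, 4⟩) (.one ⟨2651, 0, 4⟩))) (.node 2 (.node 1 (.one ⟨10342, 2, 6⟩) (.one ⟨10169, 3, 5⟩)) (.node 1 (.one ⟨14098, 2, 5⟩) (.one ⟨4287, 2, 3⟩)))) (.node 4 (.node 2 (.node 1 (.one ⟨493, 0, 5⟩) (.one ⟨12436, 2, 3⟩)) (.node 1 (.one ⟨12344, 2, 5⟩) (.one ⟨6237, 2, 3⟩))) (.node 2 (.node 1 (.one ⟨3640, 3, 2⟩) (.one ⟨9878, 1, 4⟩)) (.node 1 (.one ⟨9372, 3, 4⟩) (.one ⟨8454, 1, 3⟩)))))))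
def par4_7_1 : Arr Par :=
  (.node 32 (.node 16 (.node 8 (.node 4 (.node 2 (.node 1 (.one ⟨14008, 3, 4⟩) (.one ⟨13385, 3, 4⟩)) (.node 1 (.one ⟨12069, 0, 4⟩) (.one ⟨15631, 1, 6⟩))) (.node 2 (.node 1 (.one ⟨12989, 3, 4⟩) (.one ⟨6512, 2, 4⟩)) (.node 1 (.one ⟨10747, 1, 6⟩) (.one ⟨16496, 0, 6⟩)))) (.node 4 (.node 2 (.node 1 (.one ⟨8682, 2, 3⟩) (.one ⟨12994, 2, 4⟩)) (.node 1 (.one ⟨15437, 3, 2⟩) (.one ⟨13832, 2, 4⟩))) (.node 2 (.node 1 (.one ⟨8436, 2, 5⟩) (.one ⟨12956, 2, 3⟩)) (.node 1 (.one ⟨109, 2, 4⟩) (.one ⟨3440, 3, 4⟩))))) (.node 8 (.node 4 (.node 2 (.node 1 (.one ⟨8432, 2, 4⟩) (.one ⟨6538, 3, 3⟩)) (.node 1 (.one ⟨6704, 1, 4⟩) (.one ⟨10062, 3, 5⟩))) (.node 2 (.node 1 (.one ⟨9587, 2, 4⟩) (.one ⟨15324, 2, 4⟩))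 (.node 1 (.one ⟨17072, 2, 5⟩) (.one ⟨6856, 2, 4⟩)))) (.node 4 (.node 2 (.node 1 (.one ⟨160, 1, 4⟩) (.one ⟨11262, 2, 5⟩)) (.node 1 (.one ⟨13570, 3, 5⟩) (.one ⟨5275, 2, 3⟩))) (.node 2 (.node 1 (.one ⟨2691, 2, 4⟩) (.one ⟨5703, 3, 5⟩)) (.node 1 (.one ⟨13784, 2, 5⟩) (.one ⟨4872, 1, 4⟩)))))) (.node 16 (.node 8 (.node 4 (.node 2 (.node 1 (.one ⟨14965, 1, 3⟩) (.one ⟨2231, 2, 6⟩)) (.node 1 (.one ⟨2695, 3, 6⟩) (.one ⟨4212, 0, 4⟩))) (.node 2 (.node 1 (.one ⟨3521, 1, 4⟩) (.one ⟨9208, 3, 5⟩)) (.node 1 (.one ⟨7244, 1, 6⟩) (.one ⟨15555, 0, 2⟩)))) (.node 4 (.node 2 (.node 1 (.one ⟨14397, 0, 4⟩) (.one ⟨1437, 0, 5⟩)) (.node 1 (.one ⟨15365, 1, 4⟩) (.one ⟨13205, 1, 5⟩))) (.node 2 (.node 1 (.one ⟨12371, 3, 4⟩) (.one ⟨2992, 2, 4⟩))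 (.node 1 (.one ⟨14622, 1, 4⟩) (.one ⟨7037, 1, 4⟩))))) (.node 8 (.node 4 (.node 2 (.node 1 (.one ⟨1777, 2, 5⟩) (.one ⟨12298, 1, 5⟩)) (.node 1 (.one ⟨1093, 3, 4⟩) (.one ⟨2520, 0, 4⟩))) (.node 2 (.node 1 (.one ⟨8696, 3, 5⟩) (.one ⟨6842, 3, 5⟩)) (.node 1 (.one ⟨2649, 0, 5⟩) (.one ⟨80, 3, 3⟩)))) (.node 4 (.node 2 (.node 1 (.one ⟨16149, 1, 5⟩) (.one ⟨14318, 2, 1⟩)) (.node 1 (.one ⟨8127, 0, 5⟩) (.one ⟨8582, 0, 4⟩))) (.node 2 (.node 1 (.one ⟨5291, 0, 5⟩) (.one ⟨6188, 0, 5⟩)) (.node 1 (.one ⟨13300, 3, 4⟩) (.one ⟨16702, 3, 6⟩)))))))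
def par4_7_2 : Arr Par :=
  (.node 32 (.node 16 (.node 8 (.node 4 (.node 2 (.node 1 (.one ⟨15732, 2, 4⟩) (.one ⟨14125, 1, 5⟩)) (.node 1 (.one ⟨11368, 0, 1⟩) (.one ⟨832, 0, 4⟩))) (.node 2 (.node 1 (.one ⟨10740, 2, 4⟩) (.one ⟨15343, 0, 4⟩)) (.node 1 (.one ⟨5429, 2, 4⟩) (.one ⟨1754, 3, 5⟩)))) (.node 4 (.node 2 (.node 1 (.one ⟨7581, 3, 2⟩) (.one ⟨9848, 3, 4⟩)) (.node 1 (.one ⟨15540, 3, 5⟩) (.one ⟨16499, 3, 5⟩))) (.node 2 (.node 1 (.one ⟨3730, 1, 4⟩) (.one ⟨2786, 1, 4⟩)) (.node 1 (.one ⟨14522, 2, 6⟩) (.one ⟨15875, 2, 5⟩))))) (.node 8 (.node 4 (.node 2 (.node 1 (.one ⟨6924, 1, 2⟩) (.one ⟨4901, 2, 6⟩)) (.node 1 (.one ⟨4786, 3, 5⟩) (.one ⟨3745, 2, 5⟩))) (.node 2 (.node 1 (.one ⟨5781, 2, 6⟩) (.one ⟨8128, 3, 5⟩)) (.node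 1 (.one ⟨10900, 2, 3⟩) (.one ⟨6547, 1, 4⟩)))) (.node 4 (.node 2 (.node 1 (.one ⟨5935, 2, 2⟩) (.one ⟨8005, 1, 5⟩)) (.node 1 (.one ⟨2318, 3, 5⟩) (.one ⟨16959, 1, 3⟩))) (.node 2 (.node 1 (.one ⟨4299, 1, 3⟩) (.one ⟨12987, 3, 4⟩)) (.node 1 (.one ⟨2075, 1, 3⟩) (.one ⟨12035, 1, 5⟩)))))) (.node 16 (.node 8 (.node 4 (.node 2 (.node 1 (.one ⟨1411, 2, 5⟩) (.one ⟨5442, 3, 4⟩)) (.node 1 (.one ⟨3718, 2, 5⟩) (.one ⟨686, 1, 6⟩))) (.node 2 (.node 1 (.one ⟨5585, 2, 2⟩) (.one ⟨5853, 2, 5⟩)) (.node 1 (.one ⟨11512, 3, 4⟩) (.one ⟨15102, 2, 4⟩)))) (.node 4 (.node 2 (.node 1 (.one ⟨13568, 1, 3⟩) (.one ⟨10505, 3, 5⟩)) (.node 1 (.one ⟨7347, 2, 3⟩) (.one ⟨15628, 2, 5⟩))) (.node 2 (.node 1 (.one ⟨11190, 2, 5⟩) (.one ⟨2940, 2, 4⟩)) (.node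 1 (.one ⟨6744, 0, 5⟩) (.one ⟨2372, 1, 4⟩))))) (.node 8 (.node 4 (.node 2 (.node 1 (.one ⟨5949, 3, 4⟩) (.one ⟨13603, 3, 4⟩)) (.node 1 (.one ⟨14283, 1, 5⟩) (.one ⟨5500, 3, 2⟩))) (.node 2 (.node 1 (.one ⟨8892, 3, 4⟩) (.one ⟨1073, 1, 5⟩)) (.node 1 (.one ⟨4471, 2, 5⟩) (.one ⟨15154, 3, 5⟩)))) (.node 4 (.node 2 (.node 1 (.one ⟨11939, 3, 5⟩) (.one ⟨8369, 3, 4⟩)) (.node 1 (.one ⟨1811, 2, 4⟩) (.one ⟨8891, 3, 5⟩))) (.node 2 (.node 1 (.one ⟨13947, 2, 4⟩) (.one ⟨9585, 1, 6⟩)) (.node 1 (.one ⟨12316, 3, 5⟩) (.one ⟨14752, 2, 5⟩)))))))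
def par4_7_3 : Arr Par :=
  (.node 32 (.node 16 (.node 8 (.node 4 (.node 2 (.node 1 (.one ⟨15415, 3, 6⟩) (.one ⟨16871, 3, 4⟩)) (.node 1 (.one ⟨1086, 2, 5⟩) (.one ⟨1828, 2, 4⟩))) (.node 2 (.node 1 (.one ⟨5096, 0, 5⟩) (.one ⟨8489, 1, 6⟩)) (.node 1 (.one ⟨15323, 1, 5⟩) (.one ⟨7761, 2, 5⟩)))) (.node 4 (.node 2 (.node 1 (.one ⟨15111, 1, 5⟩) (.one ⟨7089, 2, 5⟩)) (.node 1 (.one ⟨14605, 3, 5⟩) (.one ⟨2880, 3, 5⟩))) (.node 2 (.node 1 (.one ⟨1604, 3, 5⟩) (.one ⟨4917, 2, 5⟩)) (.node 1 (.one ⟨16853, 2, 5⟩) (.one ⟨6623, 0, 5⟩))))) (.node 8 (.node 4 (.node 2 (.node 1 (.one ⟨15285, 3, 5⟩) (.one ⟨12729, 0, 3⟩)) (.node 1 (.one ⟨10752, 2, 6⟩) (.one ⟨16359, 1, 5⟩))) (.node 2 (.node 1 (.one ⟨13724, 1, 5⟩) (.one ⟨10082, 1, 3⟩))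 (.node 1 (.one ⟨12108, 1, 5⟩) (.one ⟨10849, 2, 5⟩)))) (.node 4 (.node 2 (.node 1 (.one ⟨12275, 3, 5⟩) (.one ⟨3485, 0, 5⟩)) (.node 1 (.one ⟨9589, 1, 5⟩) (.one ⟨2498, 1, 5⟩))) (.node 2 (.node 1 (.one ⟨214, 3, 4⟩) (.one ⟨5111, 2, 4⟩)) (.node 1 (.one ⟨6241, 0, 4⟩) (.one ⟨4115, 2, 4⟩)))))) (.node 16 (.node 8 (.node 4 (.node 2 (.node 1 (.one ⟨12375, 3, 3⟩) (.one ⟨11426, 2, 4⟩)) (.node 1 (.one ⟨16112, 0, 3⟩) (.one ⟨17130, 3, 4⟩))) (.node 2 (.node 1 (.one ⟨1651, 3, 3⟩) (.one ⟨6679, 3, 5⟩)) (.node 1 (.one ⟨3922, 1, 5⟩) (.one ⟨6269, 1, 1⟩)))) (.node 4 (.node 2 (.node 1 (.one ⟨3301, 1, 5⟩) (.one ⟨13513, 1, 5⟩)) (.node 1 (.one ⟨6466, 0, 5⟩) (.one ⟨2594, 2, 5⟩))) (.node 2 (.node 1 (.one ⟨9515, 3, 4⟩) (.one ⟨918, 0, 5⟩))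 (.node 1 (.one ⟨10171, 0, 4⟩) (.one ⟨10323, 2, 4⟩))))) (.node 8 (.node 4 (.node 2 (.node 1 (.one ⟨14742, 2, 5⟩) (.one ⟨8112, 1, 5⟩)) (.node 1 (.one ⟨7028, 3, 6⟩) (.one ⟨10584, 2, 5⟩))) (.node 2 (.node 1 (.one ⟨5693, 0, 2⟩) (.one ⟨11424, 0, 5⟩)) (.node 1 (.one ⟨8113, 1, 4⟩) (.one ⟨16125, 2, 5⟩)))) (.node 4 (.node 2 (.node 1 (.one ⟨4893, 2, 4⟩) (.one ⟨4448, 1, 4⟩)) (.node 1 (.one ⟨11982, 3, 4⟩) (.one ⟨2928, 3, 5⟩))) (.node 2 (.node 1 (.one ⟨8245, 1, 4⟩) (.one ⟨15496, 0, 1⟩)) (.node 1 (.one ⟨11185, 0, 5⟩) (.one ⟨3466, 3, 5⟩)))))))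
def par4_7_4 : Arr Par :=
  (.node 32 (.node 16 (.node 8 (.node 4 (.node 2 (.node 1 (.one ⟨144, 1, 3⟩) (.one ⟨10469, 3, 5⟩)) (.node 1 (.one ⟨8496, 0, 6⟩) (.one ⟨11004, 3, 5⟩))) (.node 2 (.node 1 (.one ⟨7323, 2, 4⟩) (.one ⟨937, 3, 6⟩)) (.node 1 (.one ⟨479, 1, 4⟩) (.one ⟨9944, 0, 5⟩)))) (.node 4 (.node 2 (.node 1 (.one ⟨10266, 1, 4⟩) (.one ⟨14310, 3, 4⟩)) (.node 1 (.one ⟨4409, 1, 6⟩) (.one ⟨8209, 1, 4⟩))) (.node 2 (.node 1 (.one ⟨1240, 1, 5⟩) (.one ⟨8883, 3, 4⟩)) (.node 1 (.one ⟨16997, 3, 5⟩) (.one ⟨12782, 2, 4⟩))))) (.node 8 (.node 4 (.node 2 (.node 1 (.one ⟨3773, 2, 6⟩) (.one ⟨16276, 0, 4⟩)) (.node 1 (.one ⟨4436, 1, 5⟩) (.one ⟨14020, 2, 5⟩))) (.node 2 (.node 1 (.one ⟨960, 0, 4⟩) (.one ⟨1244, 1, 4⟩)) (.node 1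 (.one ⟨6428, 3, 5⟩) (.one ⟨12077, 2, 5⟩)))) (.node 4 (.node 2 (.node 1 (.one ⟨11292, 0, 4⟩) (.one ⟨5907, 3, 3⟩)) (.node 1 (.one ⟨15319, 2, 5⟩) (.one ⟨4454, 3, 4⟩))) (.node 2 (.node 1 (.one ⟨654, 2, 5⟩) (.one ⟨8401, 2, 5⟩)) (.node 1 (.one ⟨8310, 3, 4⟩) (.one ⟨2804, 3, 5⟩)))))) (.node 16 (.node 8 (.node 4 (.node 2 (.node 1 (.one ⟨14445, 2, 4⟩) (.one ⟨16329, 2, 5⟩)) (.node 1 (.one ⟨8466, 3, 4⟩) (.one ⟨7853, 3, 5⟩))) (.node 2 (.node 1 (.one ⟨2298, 3, 5⟩) (.one ⟨8220, 3, 5⟩)) (.node 1 (.one ⟨12609, 2, 5⟩) (.one ⟨5442, 2, 4⟩)))) (.node 4 (.node 2 (.node 1 (.one ⟨1393, 3, 5⟩) (.one ⟨270, 1, 0⟩)) (.node 1 (.one ⟨5833, 0, 5⟩) (.one ⟨7177, 0, 3⟩))) (.node 2 (.node 1 (.one ⟨3233, 0, 5⟩) (.one ⟨8540, 2, 5⟩)) (.node 1 (.one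 ⟨8155, 1, 6⟩) (.one ⟨9216, 0, 5⟩))))) (.node 8 (.node 4 (.node 2 (.node 1 (.one ⟨14616, 2, 5⟩) (.one ⟨118, 1, 0⟩)) (.node 1 (.one ⟨4522, 3, 5⟩) (.one ⟨7641, 3, 5⟩))) (.node 2 (.node 1 (.one ⟨7646, 3, 3⟩) (.one ⟨16287, 1, 6⟩)) (.node 1 (.one ⟨4314, 1, 5⟩) (.one ⟨16767, 0, 3⟩)))) (.node 4 (.node 2 (.node 1 (.one ⟨7900, 3, 5⟩) (.one ⟨10713, 2, 4⟩)) (.node 1 (.one ⟨8895, 3, 4⟩) (.one ⟨14945, 3, 5⟩))) (.node 2 (.node 1 (.one ⟨12469, 3, 5⟩) (.one ⟨15597, 0, 4⟩)) (.node 1 (.one ⟨11059, 2, 4⟩) (.one ⟨12481, 3, 5⟩)))))))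
def par4_7_5 : Arr Par :=
  (.node 32 (.node 16 (.node 8 (.node 4 (.node 2 (.node 1 (.one ⟨3953, 2, 5⟩) (.one ⟨7550, 3, 5⟩)) (.node 1 (.one ⟨11199, 2, 3⟩) (.one ⟨13273, 2, 5⟩))) (.node 2 (.node 1 (.one ⟨14973, 0, 4⟩) (.one ⟨15374, 0, 5⟩)) (.node 1 (.one ⟨7476, 3, 4⟩) (.one ⟨16991, 2, 4⟩)))) (.node 4 (.node 2 (.node 1 (.one ⟨13065, 1, 4⟩) (.one ⟨4525, 1, 4⟩)) (.node 1 (.one ⟨12724, 1, 4⟩) (.one ⟨14201, 0, 5⟩))) (.node 2 (.node 1 (.one ⟨12301, 3, 4⟩) (.one ⟨9967, 2, 5⟩)) (.node 1 (.one ⟨14170, 2, 5⟩) (.one ⟨1565, 3, 5⟩))))) (.node 8 (.node 4 (.node 2 (.node 1 (.one ⟨615, 1, 4⟩) (.one ⟨4497, 1, 4⟩)) (.node 1 (.one ⟨2474, 1, 4⟩) (.one ⟨11849, 3, 4⟩))) (.node 2 (.node 1 (.one ⟨11884, 3, 5⟩) (.one ⟨3774, 3, 3⟩)) (.node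 1 (.one ⟨3804, 3, 5⟩) (.one ⟨11132, 2, 4⟩)))) (.node 4 (.node 2 (.node 1 (.one ⟨11689, 3, 4⟩) (.one ⟨5260, 2, 4⟩)) (.node 1 (.one ⟨9412, 3, 5⟩) (.one ⟨10911, 3, 4⟩))) (.node 2 (.node 1 (.one ⟨308, 3, 5⟩) (.one ⟨12433, 2, 5⟩)) (.node 1 (.one ⟨713, 2, 5⟩) (.one ⟨827, 2, 5⟩)))))) (.node 16 (.node 8 (.node 4 (.node 2 (.node 1 (.one ⟨16732, 3, 6⟩) (.one ⟨5226, 1, 5⟩)) (.node 1 (.one ⟨10493, 1, 4⟩) (.one ⟨4493, 1, 4⟩))) (.node 2 (.node 1 (.one ⟨3517, 3, 4⟩) (.one ⟨681, 2, 3⟩)) (.node 1 (.one ⟨4771, 1, 6⟩) (.one ⟨9639, 0, 5⟩)))) (.node 4 (.node 2 (.node 1 (.one ⟨13255, 3, 4⟩) (.one ⟨16477, 2, 4⟩)) (.node 1 (.one ⟨5813, 2, 4⟩) (.one ⟨15797, 2, 5⟩))) (.node 2 (.node 1 (.one ⟨6673, 2, 4⟩) (.one ⟨1141, 3, 6⟩)) (.node 1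 (.one ⟨2834, 1, 5⟩) (.one ⟨14326, 0, 4⟩))))) (.node 8 (.node 4 (.node 2 (.node 1 (.one ⟨4009, 1, 6⟩) (.one ⟨15997, 0, 4⟩)) (.node 1 (.one ⟨9125, 0, 5⟩) (.one ⟨1111, 0, 5⟩))) (.node 2 (.node 1 (.one ⟨4542, 2, 5⟩) (.one ⟨4981, 3, 5⟩)) (.node 1 (.one ⟨13063, 0, 5⟩) (.one ⟨8334, 3, 3⟩)))) (.node 4 (.node 2 (.node 1 (.one ⟨9178, 1, 3⟩) (.one ⟨14648, 3, 3⟩)) (.node 1 (.one ⟨13431, 2, 2⟩) (.one ⟨13993, 0, 5⟩))) (.node 2 (.node 1 (.one ⟨11255, 0, 3⟩) (.one ⟨3159, 0, 2⟩)) (.node 1 (.one ⟨9005, 2, 4⟩) (.one ⟨12755, 2, 2⟩)))))))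
def par4_7_6 : Arr Par :=
  (.node 32 (.node 16 (.node 8 (.node 4 (.node 2 (.node 1 (.one ⟨4539, 3, 5⟩) (.one ⟨15847, 3, 5⟩)) (.node 1 (.one ⟨9122, 3, 5⟩) (.one ⟨14200, 3, 5⟩))) (.node 2 (.node 1 (.one ⟨7167, 3, 6⟩) (.one ⟨10517, 3, 7⟩)) (.node 1 (.one ⟨12691, 0, 5⟩) (.one ⟨4146, 3, 4⟩)))) (.node 4 (.node 2 (.node 1 (.one ⟨14728, 2, 4⟩) (.one ⟨6793, 0, 5⟩)) (.node 1 (.one ⟨1721, 1, 5⟩) (.one ⟨6093, 0, 4⟩))) (.node 2 (.node 1 (.one ⟨12940, 2, 5⟩) (.one ⟨12123, 3, 5⟩)) (.node 1 (.one ⟨1142, 3, 6⟩) (.one ⟨14755, 0, 5⟩))))) (.node 8 (.node 4 (.node 2 (.node 1 (.one ⟨12103, 0, 5⟩) (.one ⟨6208, 1, 5⟩)) (.node 1 (.one ⟨8338, 1, 5⟩) (.one ⟨11798, 1, 2⟩))) (.node 2 (.node 1 (.one ⟨9176, 1, 2⟩) (.one ⟨1522, 3, 5⟩)) (.node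 1 (.one ⟨16980, 0, 3⟩) (.one ⟨3997, 1, 5⟩)))) (.node 4 (.node 2 (.node 1 (.one ⟨6436, 2, 6⟩) (.one ⟨12961, 1, 4⟩)) (.node 1 (.one ⟨9719, 3, 5⟩) (.one ⟨1827, 2, 6⟩))) (.node 2 (.node 1 (.one ⟨12623, 2, 5⟩) (.one ⟨1336, 2, 1⟩)) (.node 1 (.one ⟨15565, 3, 6⟩) (.one ⟨13698, 0, 3⟩)))))) (.node 16 (.node 8 (.node 4 (.node 2 (.node 1 (.one ⟨3882, 1, 5⟩) (.one ⟨14157, 2, 4⟩)) (.node 1 (.one ⟨14185, 3, 5⟩) (.one ⟨13235, 2, 4⟩))) (.node 2 (.node 1 (.one ⟨12130, 1, 5⟩) (.one ⟨9990, 2, 5⟩)) (.node 1 (.one ⟨9404, 3, 4⟩) (.one ⟨14645, 1, 4⟩)))) (.node 4 (.node 2 (.node 1 (.one ⟨10309, 3, 5⟩) (.one ⟨7132, 1, 5⟩)) (.node 1 (.one ⟨3597, 3, 4⟩) (.one ⟨12350, 3, 5⟩))) (.node 2 (.node 1 (.one ⟨733, 0, 6⟩) (.one ⟨7876, 1, 3⟩)) (.node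 1 (.one ⟨815, 0, 5⟩) (.one ⟨5620, 3, 5⟩))))) (.node 8 (.node 4 (.node 2 (.node 1 (.one ⟨13425, 1, 5⟩) (.one ⟨403, 3, 4⟩)) (.node 1 (.one ⟨294, 2, 4⟩) (.one ⟨661, 0, 5⟩))) (.node 2 (.node 1 (.one ⟨9881, 1, 5⟩) (.one ⟨5917, 1, 5⟩)) (.node 1 (.one ⟨5592, 3, 4⟩) (.one ⟨16058, 0, 5⟩)))) (.node 4 (.node 2 (.node 1 (.one ⟨16981, 0, 3⟩) (.one ⟨13340, 2, 6⟩)) (.node 1 (.one ⟨13193, 0, 6⟩) (.one ⟨4877, 1, 3⟩))) (.node 2 (.node 1 (.one ⟨4659, 1, 2⟩) (.one ⟨8126, 3, 6⟩)) (.node 1 (.one ⟨145, 3, 5⟩) (.one ⟨4474, 1, 5⟩)))))))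
def par4_7_7 : Arr Par :=
  (.node 32 (.node 16 (.node 8 (.node 4 (.node 2 (.node 1 (.one ⟨616, 0, 3⟩) (.one ⟨11773, 3, 5⟩)) (.node 1 (.one ⟨2803, 3, 4⟩) (.one ⟨6993, 0, 5⟩))) (.node 2 (.node 1 (.one ⟨4589, 3, 5⟩) (.one ⟨6997, 0, 6⟩)) (.node 1 (.one ⟨4419, 3, 5⟩) (.one ⟨13070, 3, 5⟩)))) (.node 4 (.node 2 (.node 1 (.one ⟨10954, 3, 6⟩) (.one ⟨13925, 3, 4⟩)) (.node 1 (.one ⟨5381, 1, 3⟩) (.one ⟨5885, 1, 5⟩))) (.node 2 (.node 1 (.one ⟨1510, 0, 5⟩) (.one ⟨12703, 2, 5⟩)) (.node 1 (.one ⟨8334, 0, 3⟩) (.one ⟨14346, 1, 4⟩))))) (.node 8 (.node 4 (.node 2 (.node 1 (.one ⟨10938, 2, 4⟩) (.one ⟨8905, 3, 5⟩)) (.node 1 (.one ⟨17072, 3, 5⟩) (.one ⟨15519, 2, 4⟩))) (.node 2 (.node 1 (.one ⟨6146, 3, 5⟩) (.one ⟨13241, 3, 4⟩)) (.node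 1 (.one ⟨9790, 2, 5⟩) (.one ⟨15036, 0, 5⟩)))) (.node 4 (.node 2 (.node 1 (.one ⟨5744, 0, 6⟩) (.one ⟨11057, 3, 4⟩)) (.node 1 (.one ⟨2901, 0, 6⟩) (.one ⟨1508, 3, 6⟩))) (.node 2 (.node 1 (.one ⟨10228, 0, 5⟩) (.one ⟨8184, 3, 4⟩)) (.node 1 (.one ⟨13621, 2, 2⟩) (.one ⟨9109, 3, 5⟩)))))) (.node 16 (.node 8 (.node 4 (.node 2 (.node 1 (.one ⟨6809, 3, 4⟩) (.one ⟨5457, 2, 4⟩)) (.node 1 (.one ⟨6924, 3, 2⟩) (.one ⟨2023, 3, 3⟩))) (.node 2 (.node 1 (.one ⟨8026, 0, 5⟩) (.one ⟨676, 3, 3⟩)) (.node 1 (.one ⟨687, 2, 5⟩) (.one ⟨12506, 3, 4⟩)))) (.node 4 (.node 2 (.node 1 (.one ⟨5891, 1, 6⟩) (.one ⟨10122, 0, 4⟩)) (.node 1 (.one ⟨6627, 1, 6⟩) (.one ⟨15118, 2, 3⟩))) (.node 2 (.node 1 (.one ⟨7154, 2, 5⟩) (.one ⟨6267, 1, 5⟩)) (.node 1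 (.one ⟨10696, 2, 5⟩) (.one ⟨2965, 3, 4⟩))))) (.node 8 (.node 4 (.node 2 (.node 1 (.one ⟨12858, 0, 5⟩) (.one ⟨12889, 0, 5⟩)) (.node 1 (.one ⟨12848, 0, 5⟩) (.one ⟨9425, 2, 4⟩))) (.node 2 (.node 1 (.one ⟨15222, 3, 4⟩) (.one ⟨13673, 1, 5⟩)) (.node 1 (.one ⟨7047, 3, 5⟩) (.one ⟨11542, 3, 5⟩)))) (.node 4 (.node 2 (.node 1 (.one ⟨3016, 2, 4⟩) (.one ⟨12582, 2, 3⟩)) (.node 1 (.one ⟨13277, 2, 5⟩) (.one ⟨15924, 3, 4⟩))) (.node 2 (.node 1 (.one ⟨1922, 1, 3⟩) (.one ⟨4414, 3, 3⟩)) (.node 1 (.one ⟨711, 2, 6⟩) (.one ⟨4269, 3, 3⟩)))))))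
def par4_7_8 : Arr Par :=
  (.node 32 (.node 16 (.node 8 (.node 4 (.node 2 (.node 1 (.one ⟨8427, 3, 5⟩) (.one ⟨6806, 0, 1⟩)) (.node 1 (.one ⟨11967, 3, 4⟩) (.one ⟨15219, 3, 7⟩))) (.node 2 (.node 1 (.one ⟨1784, 2, 3⟩) (.one ⟨510, 3, 5⟩)) (.node 1 (.one ⟨6892, 2, 5⟩) (.one ⟨3901, 3, 3⟩)))) (.node 4 (.node 2 (.node 1 (.one ⟨14209, 1, 5⟩) (.one ⟨13217, 2, 4⟩)) (.node 1 (.one ⟨6019, 3, 6⟩) (.one ⟨12743, 3, 5⟩))) (.node 2 (.node 1 (.one ⟨4176, 3, 4⟩) (.one ⟨6220, 2, 5⟩)) (.node 1 (.one ⟨15567, 3, 3⟩) (.one ⟨14584, 3, 4⟩))))) (.node 8 (.node 4 (.node 2 (.node 1 (.one ⟨9964, 1, 5⟩) (.one ⟨6367, 0, 4⟩)) (.node 1 (.one ⟨14587, 3, 3⟩) (.one ⟨14590, 3, 4⟩))) (.node 2 (.node 1 (.one ⟨12320, 2, 5⟩) (.one ⟨6328, 2, 3⟩)) (.node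 1 (.one ⟨717, 1, 6⟩) (.one ⟨11733, 0, 6⟩)))) (.node 4 (.node 2 (.node 1 (.one ⟨5362, 3, 4⟩) (.one ⟨17193, 3, 5⟩)) (.node 1 (.one ⟨16582, 0, 6⟩) (.one ⟨5995, 3, 5⟩))) (.node 2 (.node 1 (.one ⟨8388, 3, 5⟩) (.one ⟨5273, 1, 2⟩)) (.node 1 (.one ⟨7412, 2, 3⟩) (.one ⟨463, 3, 4⟩)))))) (.node 16 (.node 8 (.node 4 (.node 2 (.node 1 (.one ⟨10768, 0, 5⟩) (.one ⟨16761, 2, 5⟩)) (.node 1 (.one ⟨1218, 2, 4⟩) (.one ⟨4870, 3, 5⟩))) (.node 2 (.node 1 (.one ⟨10772, 0, 5⟩) (.one ⟨10767, 0, 4⟩)) (.node 1 (.one ⟨644, 0, 5⟩) (.one ⟨10157, 3, 5⟩)))) (.node 4 (.node 2 (.node 1 (.one ⟨3982, 1, 5⟩) (.one ⟨403, 2, 4⟩)) (.node 1 (.one ⟨15897, 2, 4⟩) (.one ⟨9855, 1, 5⟩))) (.node 2 (.node 1 (.one ⟨1498, 0, 3⟩) (.one ⟨8791, 2, 4⟩)) (.node 1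 (.one ⟨11375, 2, 5⟩) (.one ⟨68, 3, 4⟩))))) (.node 8 (.node 4 (.node 2 (.node 1 (.one ⟨8687, 1, 2⟩) (.one ⟨9321, 3, 4⟩)) (.node 1 (.one ⟨15302, 3, 4⟩) (.one ⟨7297, 3, 6⟩))) (.node 2 (.node 1 (.one ⟨4312, 0, 3⟩) (.one ⟨11811, 1, 5⟩)) (.node 1 (.one ⟨7067, 0, 3⟩) (.one ⟨7318, 0, 4⟩)))) (.node 4 (.node 2 (.node 1 (.one ⟨15611, 3, 6⟩) (.one ⟨3828, 0, 1⟩)) (.node 1 (.one ⟨5940, 3, 5⟩) (.one ⟨4310, 0, 5⟩))) (.node 2 (.node 1 (.one ⟨6006, 1, 5⟩) (.one ⟨8854, 3, 6⟩)) (.node 1 (.one ⟨9779, 0, 5⟩) (.one ⟨11638, 2, 4⟩)))))))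
def par4_7_9 : Arr Par :=
  (.node 32 (.node 16 (.node 8 (.node 4 (.node 2 (.node 1 (.one ⟨15822, 3, 5⟩) (.one ⟨9222, 1, 6⟩)) (.node 1 (.one ⟨9638, 2, 3⟩) (.one ⟨8556, 1, 5⟩))) (.node 2 (.node 1 (.one ⟨9740, 2, 4⟩) (.one ⟨11595, 2, 5⟩)) (.node 1 (.one ⟨8921, 2, 5⟩) (.one ⟨12588, 1, 5⟩)))) (.node 4 (.node 2 (.node 1 (.one ⟨13313, 0, 4⟩) (.one ⟨15596, 2, 5⟩)) (.node 1 (.one ⟨4646, 2, 3⟩) (.one ⟨7962, 2, 5⟩))) (.node 2 (.node 1 (.one ⟨12046, 3, 5⟩) (.one ⟨9677, 3, 5⟩)) (.node 1 (.one ⟨15784, 2, 2⟩) (.one ⟨16904, 2, 6⟩))))) (.node 8 (.node 4 (.node 2 (.node 1 (.one ⟨15431, 2, 4⟩) (.one ⟨3132, 3, 4⟩)) (.node 1 (.one ⟨9342, 1, 5⟩) (.one ⟨15814, 1, 5⟩))) (.node 2 (.node 1 (.one ⟨12934, 1, 4⟩) (.one ⟨13645, 3, 5⟩))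 (.node 1 (.one ⟨805, 3, 6⟩) (.one ⟨1432, 0, 4⟩)))) (.node 4 (.node 2 (.node 1 (.one ⟨10675, 0, 4⟩) (.one ⟨13745, 0, 4⟩)) (.node 1 (.one ⟨14043, 1, 5⟩) (.one ⟨9152, 1, 5⟩))) (.node 2 (.node 1 (.one ⟨2312, 2, 5⟩) (.one ⟨12755, 1, 2⟩)) (.node 1 (.one ⟨782, 1, 4⟩) (.one ⟨16427, 3, 5⟩)))))) (.node 16 (.node 8 (.node 4 (.node 2 (.node 1 (.one ⟨6030, 0, 4⟩) (.one ⟨13432, 2, 5⟩)) (.node 1 (.one ⟨5161, 3, 5⟩) (.one ⟨15304, 1, 6⟩))) (.node 2 (.node 1 (.one ⟨14102, 0, 4⟩) (.one ⟨12271, 3, 4⟩)) (.node 1 (.one ⟨5642, 3, 4⟩) (.one ⟨12437, 2, 4⟩)))) (.node 4 (.node 2 (.node 1 (.one ⟨5676, 3, 6⟩) (.one ⟨7797, 2, 4⟩)) (.node 1 (.one ⟨7679, 2, 4⟩) (.one ⟨11010, 2, 5⟩))) (.node 2 (.node 1 (.one ⟨11131, 2, 5⟩) (.one ⟨7353, 2, 5⟩))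 (.node 1 (.one ⟨11199, 3, 3⟩) (.one ⟨4062, 3, 5⟩))))) (.node 8 (.node 4 (.node 2 (.node 1 (.one ⟨16230, 3, 4⟩) (.one ⟨106, 2, 6⟩)) (.node 1 (.one ⟨8790, 2, 4⟩) (.one ⟨4183, 1, 4⟩))) (.node 2 (.node 1 (.one ⟨10655, 3, 3⟩) (.one ⟨9373, 3, 3⟩)) (.node 1 (.one ⟨7204, 1, 4⟩) (.one ⟨14547, 1, 5⟩)))) (.node 4 (.node 2 (.node 1 (.one ⟨1120, 1, 3⟩) (.one ⟨11134, 1, 6⟩)) (.node 1 (.one ⟨7347, 1, 3⟩) (.one ⟨16215, 1, 4⟩))) (.node 2 (.node 1 (.one ⟨3767, 1, 3⟩) (.one ⟨10447, 0, 4⟩)) (.node 1 (.one ⟨13795, 2, 5⟩) (.one ⟨15877, 0, 5⟩)))))))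
def par4_7_10 : Arr Par :=
  (.node 32 (.node 16 (.node 8 (.node 4 (.node 2 (.node 1 (.one ⟨13277, 0, 5⟩) (.one ⟨1956, 0, 5⟩)) (.node 1 (.one ⟨3660, 1, 5⟩) (.one ⟨15506, 2, 5⟩))) (.node 2 (.node 1 (.one ⟨12713, 2, 5⟩) (.one ⟨2071, 3, 6⟩)) (.node 1 (.one ⟨16233, 0, 4⟩) (.one ⟨11162, 3, 5⟩)))) (.node 4 (.node 2 (.node 1 (.one ⟨5012, 3, 5⟩) (.one ⟨11233, 3, 4⟩)) (.node 1 (.one ⟨7343, 0, 5⟩) (.one ⟨17151, 2, 5⟩))) (.node 2 (.node 1 (.one ⟨12606, 2, 4⟩) (.one ⟨2280, 3, 4⟩)) (.node 1 (.one ⟨12166, 3, 5⟩) (.one ⟨7116, 1, 3⟩))))) (.node 8 (.node 4 (.node 2 (.node 1 (.one ⟨4657, 3, 4⟩) (.one ⟨15208, 1, 4⟩)) (.node 1 (.one ⟨13956, 3, 6⟩) (.one ⟨16831, 2, 5⟩))) (.node 2 (.node 1 (.one ⟨12602, 2, 6⟩) (.one ⟨16099, 2, 4⟩))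 (.node 1 (.one ⟨4194, 1, 5⟩) (.one ⟨7377, 3, 4⟩)))) (.node 4 (.node 2 (.node 1 (.one ⟨1123, 1, 3⟩) (.one ⟨10337, 1, 5⟩)) (.node 1 (.one ⟨12650, 1, 6⟩) (.one ⟨12504, 1, 6⟩))) (.node 2 (.node 1 (.one ⟨11065, 1, 6⟩) (.one ⟨1738, 0, 3⟩)) (.node 1 (.one ⟨7473, 3, 1⟩) (.one ⟨213, 2, 5⟩)))))) (.node 16 (.node 8 (.node 4 (.node 2 (.node 1 (.one ⟨4145, 3, 3⟩) (.one ⟨7394, 2, 4⟩)) (.node 1 (.one ⟨1730, 1, 2⟩) (.one ⟨13157, 3, 5⟩))) (.node 2 (.node 1 (.one ⟨6617, 1, 5⟩) (.one ⟨3450, 2, 4⟩)) (.node 1 (.one ⟨12469, 2, 5⟩) (.one ⟨578, 3, 5⟩)))) (.node 4 (.node 2 (.node 1 (.one ⟨8315, 3, 6⟩) (.one ⟨6256, 0, 4⟩)) (.node 1 (.one ⟨1402, 3, 5⟩) (.one ⟨8308, 3, 4⟩))) (.node 2 (.node 1 (.one ⟨11987, 0, 5⟩) (.one ⟨16644, 1, 4⟩))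 (.node 1 (.one ⟨246, 1, 4⟩) (.one ⟨5232, 3, 7⟩))))) (.node 8 (.node 4 (.node 2 (.node 1 (.one ⟨4419, 0, 5⟩) (.one ⟨5959, 1, 2⟩)) (.node 1 (.one ⟨852, 1, 4⟩) (.one ⟨13826, 2, 4⟩))) (.node 2 (.node 1 (.one ⟨4408, 0, 3⟩) (.one ⟨14572, 1, 3⟩)) (.node 1 (.one ⟨3659, 0, 4⟩) (.one ⟨9460, 2, 4⟩)))) (.node 4 (.node 2 (.node 1 (.one ⟨4709, 1, 5⟩) (.one ⟨6239, 2, 5⟩)) (.node 1 (.one ⟨10622, 2, 6⟩) (.one ⟨13624, 2, 4⟩))) (.node 2 (.node 1 (.one ⟨1954, 2, 2⟩) (.one ⟨2281, 2, 5⟩)) (.node 1 (.one ⟨11232, 0, 4⟩) (.one ⟨9803, 0, 4⟩)))))))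
def par4_7_11 : Arr Par :=
  (.node 32 (.node 16 (.node 8 (.node 4 (.node 2 (.node 1 (.one ⟨16052, 0, 3⟩) (.one ⟨15200, 1, 3⟩)) (.node 1 (.one ⟨221, 1, 0⟩) (.one ⟨5364, 2, 5⟩))) (.node 2 (.node 1 (.one ⟨1954, 0, 2⟩) (.one ⟨15061, 2, 4⟩)) (.node 1 (.one ⟨6886, 3, 5⟩) (.one ⟨10325, 2, 5⟩)))) (.node 4 (.node 2 (.node 1 (.one ⟨12667, 3, 5⟩) (.one ⟨4886, 1, 6⟩)) (.node 1 (.one ⟨1436, 2, 3⟩) (.one ⟨15372, 1, 5⟩))) (.node 2 (.node 1 (.one ⟨5645, 3, 4⟩) (.one ⟨16556, 3, 5⟩)) (.node 1 (.one ⟨14394, 2, 4⟩) (.one ⟨5624, 1, 5⟩))))) (.node 8 (.node 4 (.node 2 (.node 1 (.one ⟨5689, 3, 5⟩) (.one ⟨8478, 1, 4⟩)) (.node 1 (.one ⟨5102, 0, 4⟩) (.one ⟨4911, 1, 4⟩))) (.node 2 (.node 1 (.one ⟨824, 2, 5⟩) (.one ⟨3598, 2, 5⟩)) (.node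 1 (.one ⟨2530, 1, 5⟩) (.one ⟨16114, 2, 6⟩)))) (.node 4 (.node 2 (.node 1 (.one ⟨8818, 1, 4⟩) (.one ⟨14779, 3, 6⟩)) (.node 1 (.one ⟨8562, 3, 6⟩) (.one ⟨16484, 0, 5⟩))) (.node 2 (.node 1 (.one ⟨6614, 2, 4⟩) (.one ⟨225, 0, 3⟩)) (.node 1 (.one ⟨14788, 3, 6⟩) (.one ⟨7463, 2, 5⟩)))))) (.node 16 (.node 8 (.node 4 (.node 2 (.node 1 (.one ⟨9640, 0, 2⟩) (.one ⟨2781, 3, 6⟩)) (.node 1 (.one ⟨3150, 2, 5⟩) (.one ⟨4770, 1, 6⟩))) (.node 2 (.node 1 (.one ⟨8024, 2, 5⟩) (.one ⟨13671, 3, 5⟩)) (.node 1 (.one ⟨15832, 0, 5⟩) (.one ⟨15537, 3, 4⟩)))) (.node 4 (.node 2 (.node 1 (.one ⟨8911, 3, 5⟩) (.one ⟨12436, 0, 3⟩)) (.node 1 (.one ⟨4613, 2, 6⟩) (.one ⟨12215, 3, 6⟩))) (.node 2 (.node 1 (.one ⟨5676, 2, 6⟩) (.one ⟨1511, 2, 3⟩)) (.node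 1 (.one ⟨15484, 0, 4⟩) (.one ⟨16438, 2, 4⟩))))) (.node 8 (.node 4 (.node 2 (.node 1 (.one ⟨5546, 0, 4⟩) (.one ⟨8276, 3, 4⟩)) (.node 1 (.one ⟨14578, 3, 5⟩) (.one ⟨16212, 1, 4⟩))) (.node 2 (.node 1 (.one ⟨14426, 3, 5⟩) (.one ⟨12089, 3, 6⟩)) (.node 1 (.one ⟨17149, 2, 5⟩) (.one ⟨12633, 3, 4⟩)))) (.node 4 (.node 2 (.node 1 (.one ⟨15431, 1, 4⟩) (.one ⟨16299, 1, 4⟩)) (.node 1 (.one ⟨7775, 0, 6⟩) (.one ⟨1611, 1, 4⟩))) (.node 2 (.node 1 (.one ⟨8990, 0, 6⟩) (.one ⟨761, 2, 5⟩)) (.node 1 (.one ⟨4616, 1, 5⟩) (.one ⟨11989, 3, 5⟩)))))))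
def par4_7_12 : Arr Par :=
  (.node 32 (.node 16 (.node 8 (.node 4 (.node 2 (.node 1 (.one ⟨11606, 3, 4⟩) (.one ⟨15189, 3, 3⟩)) (.node 1 (.one ⟨11564, 2, 5⟩) (.one ⟨8416, 3, 5⟩))) (.node 2 (.node 1 (.one ⟨7005, 2, 5⟩) (.one ⟨13446, 1, 5⟩)) (.node 1 (.one ⟨12838, 0, 4⟩) (.one ⟨14320, 0, 5⟩)))) (.node 4 (.node 2 (.node 1 (.one ⟨17179, 2, 5⟩) (.one ⟨13101, 1, 2⟩)) (.node 1 (.one ⟨1970, 2, 5⟩) (.one ⟨6007, 2, 5⟩))) (.node 2 (.node 1 (.one ⟨7257, 3, 6⟩) (.one ⟨3311, 0, 5⟩)) (.node 1 (.one ⟨8858, 2, 5⟩) (.one ⟨13947, 3, 4⟩))))) (.node 8 (.node 4 (.node 2 (.node 1 (.one ⟨14072, 1, 5⟩) (.one ⟨15173, 0, 5⟩)) (.node 1 (.one ⟨1823, 3, 4⟩) (.one ⟨4907, 0, 6⟩))) (.node 2 (.node 1 (.one ⟨14594, 3, 3⟩) (.one ⟨8530, 0, 5⟩))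 (.node 1 (.one ⟨12258, 0, 5⟩) (.one ⟨5652, 0, 5⟩)))) (.node 4 (.node 2 (.node 1 (.one ⟨4979, 3, 2⟩) (.one ⟨5619, 3, 4⟩)) (.node 1 (.one ⟨361, 3, 4⟩) (.one ⟨2310, 2, 5⟩))) (.node 2 (.node 1 (.one ⟨14594, 1, 3⟩) (.one ⟨5079, 2, 4⟩)) (.node 1 (.one ⟨4663, 3, 5⟩) (.one ⟨16762, 1, 4⟩)))))) (.node 16 (.node 8 (.node 4 (.node 2 (.node 1 (.one ⟨7249, 1, 4⟩) (.one ⟨10759, 3, 1⟩)) (.node 1 (.one ⟨11271, 3, 4⟩) (.one ⟨17031, 3, 4⟩))) (.node 2 (.node 1 (.one ⟨4772, 2, 6⟩) (.one ⟨744, 3, 4⟩)) (.node 1 (.one ⟨3011, 3, 3⟩) (.one ⟨1872, 3, 3⟩)))) (.node 4 (.node 2 (.node 1 (.one ⟨11780, 2, 5⟩) (.one ⟨11063, 0, 4⟩)) (.node 1 (.one ⟨7329, 1, 5⟩) (.one ⟨1354, 3, 5⟩))) (.node 2 (.node 1 (.one ⟨12401, 1, 4⟩) (.one ⟨2634, 2, 3⟩))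 (.node 1 (.one ⟨15260, 1, 4⟩) (.one ⟨5092, 3, 6⟩))))) (.node 8 (.node 4 (.node 2 (.node 1 (.one ⟨13436, 0, 3⟩) (.one ⟨5043, 3, 4⟩)) (.node 1 (.one ⟨9318, 3, 5⟩) (.one ⟨4979, 1, 2⟩))) (.node 2 (.node 1 (.one ⟨16235, 0, 5⟩) (.one ⟨14586, 0, 6⟩)) (.node 1 (.one ⟨11164, 0, 4⟩) (.one ⟨1741, 1, 3⟩)))) (.node 4 (.node 2 (.node 1 (.one ⟨5759, 2, 5⟩) (.one ⟨5859, 2, 4⟩)) (.node 1 (.one ⟨11259, 2, 6⟩) (.one ⟨13750, 1, 4⟩))) (.node 2 (.node 1 (.one ⟨3140, 3, 5⟩) (.one ⟨1395, 0, 4⟩)) (.node 1 (.one ⟨6511, 3, 2⟩) (.one ⟨10436, 3, 6⟩)))))))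
def par4_7_13 : Arr Par :=
  (.node 32 (.node 16 (.node 8 (.node 4 (.node 2 (.node 1 (.one ⟨9929, 2, 4⟩) (.one ⟨334, 3, 3⟩)) (.node 1 (.one ⟨13301, 3, 2⟩) (.one ⟨13748, 2, 3⟩))) (.node 2 (.node 1 (.one ⟨8784, 1, 5⟩) (.one ⟨14622, 0, 4⟩)) (.node 1 (.one ⟨2475, 3, 6⟩) (.one ⟨332, 2, 5⟩)))) (.node 4 (.node 2 (.node 1 (.one ⟨4273, 2, 4⟩) (.one ⟨15393, 1, 5⟩)) (.node 1 (.one ⟨5583, 1, 2⟩) (.one ⟨2885, 2, 4⟩))) (.node 2 (.node 1 (.one ⟨13425, 0, 5⟩) (.one ⟨6652, 3, 6⟩)) (.node 1 (.one ⟨9897, 1, 6⟩) (.one ⟨158, 2, 3⟩))))) (.node 8 (.node 4 (.node 2 (.node 1 (.one ⟨16339, 0, 4⟩) (.one ⟨7117, 1, 4⟩)) (.node 1 (.one ⟨8980, 3, 6⟩) (.one ⟨12731, 3, 4⟩))) (.node 2 (.node 1 (.one ⟨453, 3, 3⟩) (.one ⟨11949, 0, 5⟩)) (.node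 1 (.one ⟨15999, 3, 5⟩) (.one ⟨12454, 3, 5⟩)))) (.node 4 (.node 2 (.node 1 (.one ⟨12564, 3, 4⟩) (.one ⟨11137, 3, 3⟩)) (.node 1 (.one ⟨4676, 0, 4⟩) (.one ⟨387, 3, 5⟩))) (.node 2 (.node 1 (.one ⟨8025, 0, 4⟩) (.one ⟨7065, 0, 4⟩)) (.node 1 (.one ⟨5111, 3, 4⟩) (.one ⟨12301, 2, 4⟩)))))) (.node 16 (.node 8 (.node 4 (.node 2 (.node 1 (.one ⟨7841, 2, 5⟩) (.one ⟨13594, 0, 4⟩)) (.node 1 (.one ⟨5329, 0, 2⟩) (.one ⟨8008, 2, 5⟩))) (.node 2 (.node 1 (.one ⟨8653, 3, 2⟩) (.one ⟨5285, 0, 5⟩)) (.node 1 (.one ⟨5660, 1, 5⟩) (.one ⟨15566, 0, 5⟩)))) (.node 4 (.node 2 (.node 1 (.one ⟨9727, 1, 4⟩) (.one ⟨6784, 2, 5⟩)) (.node 1 (.one ⟨6312, 1, 6⟩) (.one ⟨15614, 2, 4⟩))) (.node 2 (.node 1 (.one ⟨1957, 2, 4⟩) (.one ⟨6572, 1, 3⟩)) (.node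 1 (.one ⟨8070, 0, 6⟩) (.one ⟨13161, 0, 3⟩))))) (.node 8 (.node 4 (.node 2 (.node 1 (.one ⟨5273, 3, 2⟩) (.one ⟨5277, 3, 4⟩)) (.node 1 (.one ⟨5276, 3, 4⟩) (.one ⟨13717, 1, 5⟩))) (.node 2 (.node 1 (.one ⟨7682, 2, 5⟩) (.one ⟨5275, 3, 3⟩)) (.node 1 (.one ⟨5278, 3, 6⟩) (.one ⟨3732, 3, 4⟩)))) (.node 4 (.node 2 (.node 1 (.one ⟨6022, 2, 4⟩) (.one ⟨1928, 1, 3⟩)) (.node 1 (.one ⟨2907, 2, 4⟩) (.one ⟨8855, 1, 3⟩))) (.node 2 (.node 1 (.one ⟨16986, 3, 5⟩) (.one ⟨2944, 3, 4⟩)) (.node 1 (.one ⟨11764, 1, 5⟩) (.one ⟨3615, 3, 4⟩)))))))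
def par4_7_14 : Arr Par :=
  (.node 32 (.node 16 (.node 8 (.node 4 (.node 2 (.node 1 (.one ⟨3123, 3, 4⟩) (.one ⟨13635, 1, 2⟩)) (.node 1 (.one ⟨5922, 0, 2⟩) (.one ⟨2116, 1, 5⟩))) (.node 2 (.node 1 (.one ⟨8934, 3, 4⟩) (.one ⟨5839, 0, 5⟩)) (.node 1 (.one ⟨7032, 3, 5⟩) (.one ⟨9961, 1, 5⟩)))) (.node 4 (.node 2 (.node 1 (.one ⟨10864, 0, 4⟩) (.one ⟨5645, 1, 4⟩)) (.node 1 (.one ⟨9284, 3, 5⟩) (.one ⟨2594, 1, 5⟩))) (.node 2 (.node 1 (.one ⟨1446, 3, 3⟩) (.one ⟨1282, 3, 3⟩)) (.node 1 (.one ⟨10863, 0, 4⟩) (.one ⟨6113, 1, 6⟩))))) (.node 8 (.node 4 (.node 2 (.node 1 (.one ⟨9274, 2, 5⟩) (.one ⟨11028, 0, 4⟩)) (.node 1 (.one ⟨435, 3, 4⟩) (.one ⟨9883, 1, 5⟩))) (.node 2 (.node 1 (.one ⟨5486, 3, 5⟩) (.one ⟨11029, 0, 4⟩)) (.node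 1 (.one ⟨6401, 1, 4⟩) (.one ⟨13589, 3, 5⟩)))) (.node 4 (.node 2 (.node 1 (.one ⟨9032, 3, 4⟩) (.one ⟨15646, 3, 6⟩)) (.node 1 (.one ⟨16364, 1, 5⟩) (.one ⟨14196, 1, 5⟩))) (.node 2 (.node 1 (.one ⟨15562, 2, 5⟩) (.one ⟨6696, 1, 4⟩)) (.node 1 (.one ⟨14204, 3, 4⟩) (.one ⟨4693, 1, 6⟩)))))) (.node 16 (.node 8 (.node 4 (.node 2 (.node 1 (.one ⟨15178, 1, 5⟩) (.one ⟨8550, 2, 5⟩)) (.node 1 (.one ⟨8835, 0, 5⟩) (.one ⟨4199, 1, 5⟩))) (.node 2 (.node 1 (.one ⟨14047, 1, 5⟩) (.one ⟨5103, 0, 4⟩)) (.node 1 (.one ⟨5627, 0, 5⟩) (.one ⟨7454, 2, 5⟩)))) (.node 4 (.node 2 (.node 1 (.one ⟨5361, 3, 4⟩) (.one ⟨9348, 0, 4⟩)) (.node 1 (.one ⟨13744, 1, 2⟩) (.one ⟨6880, 3, 5⟩))) (.node 2 (.node 1 (.one ⟨15203, 3, 5⟩) (.one ⟨2712, 2, 5⟩)) (.node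 1 (.one ⟨12804, 3, 3⟩) (.one ⟨9348, 1, 4⟩))))) (.node 8 (.node 4 (.node 2 (.node 1 (.one ⟨1493, 3, 4⟩) (.one ⟨9008, 3, 3⟩)) (.node 1 (.one ⟨16454, 1, 5⟩) (.one ⟨11579, 1, 5⟩))) (.node 2 (.node 1 (.one ⟨391, 2, 4⟩) (.one ⟨390, 2, 4⟩)) (.node 1 (.one ⟨12094, 3, 6⟩) (.one ⟨15784, 3, 2⟩)))) (.node 4 (.node 2 (.node 1 (.one ⟨10349, 2, 4⟩) (.one ⟨13503, 1, 4⟩)) (.node 1 (.one ⟨9199, 1, 4⟩) (.one ⟨16767, 3, 3⟩))) (.node 2 (.node 1 (.one ⟨4313, 0, 3⟩) (.one ⟨15400, 1, 4⟩)) (.node 1 (.one ⟨3408, 0, 5⟩) (.one ⟨14445, 3, 4⟩)))))))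
def par4_7_15 : Arr Par :=
  (.node 32 (.node 16 (.node 8 (.node 4 (.node 2 (.node 1 (.one ⟨8966, 2, 4⟩) (.one ⟨8078, 0, 5⟩)) (.node 1 (.one ⟨13818, 3, 5⟩) (.one ⟨17070, 2, 4⟩))) (.node 2 (.node 1 (.one ⟨8533, 3, 6⟩) (.one ⟨14444, 2, 4⟩)) (.node 1 (.one ⟨11457, 2, 4⟩) (.one ⟨6934, 0, 3⟩)))) (.node 4 (.node 2 (.node 1 (.one ⟨15624, 0, 2⟩) (.one ⟨1838, 3, 5⟩)) (.node 1 (.one ⟨7969, 0, 2⟩) (.one ⟨1098, 0, 4⟩))) (.node 2 (.node 1 (.one ⟨12954, 2, 6⟩) (.one ⟨13142, 0, 4⟩)) (.node 1 (.one ⟨4695, 0, 2⟩) (.one ⟨1674, 3, 5⟩))))) (.node 8 (.node 4 (.node 2 (.node 1 (.one ⟨12974, 1, 5⟩) (.one ⟨16040, 2, 5⟩)) (.node 1 (.one ⟨9203, 1, 5⟩) (.one ⟨8063, 1, 5⟩))) (.node 2 (.node 1 (.one ⟨1632, 3, 3⟩) (.one ⟨12229, 3, 5⟩)) (.node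 1 (.one ⟨1515, 3, 5⟩) (.one ⟨14659, 0, 4⟩)))) (.node 4 (.node 2 (.node 1 (.one ⟨15142, 0, 5⟩) (.one ⟨9344, 1, 5⟩)) (.node 1 (.one ⟨6217, 3, 5⟩) (.one ⟨7896, 3, 5⟩))) (.node 2 (.node 1 (.one ⟨5019, 3, 4⟩) (.one ⟨1659, 3, 5⟩)) (.node 1 (.one ⟨3373, 1, 5⟩) (.one ⟨11504, 2, 4⟩)))))) (.node 16 (.node 8 (.node 4 (.node 2 (.node 1 (.one ⟨3267, 3, 4⟩) (.one ⟨16797, 2, 5⟩)) (.node 1 (.one ⟨12668, 2, 5⟩) (.one ⟨3724, 2, 3⟩))) (.node 2 (.node 1 (.one ⟨8279, 3, 4⟩) (.one ⟨2837, 0, 5⟩)) (.node 1 (.one ⟨5876, 0, 6⟩) (.one ⟨9347, 1, 3⟩)))) (.node 4 (.node 2 (.node 1 (.one ⟨102, 0, 5⟩) (.one ⟨273, 1, 0⟩)) (.node 1 (.one ⟨1043, 0, 5⟩) (.one ⟨14433, 2, 4⟩))) (.node 2 (.node 1 (.one ⟨7837, 2, 4⟩) (.one ⟨2841, 2, 6⟩)) (.node 1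 (.one ⟨7022, 0, 5⟩) (.one ⟨9266, 1, 5⟩))))) (.node 8 (.node 4 (.node 2 (.node 1 (.one ⟨788, 2, 4⟩) (.one ⟨1942, 0, 4⟩)) (.node 1 (.one ⟨16566, 2, 4⟩) (.one ⟨17154, 2, 5⟩))) (.node 2 (.node 1 (.one ⟨16176, 1, 4⟩) (.one ⟨15891, 0, 6⟩)) (.node 1 (.one ⟨6940, 0, 5⟩) (.one ⟨9007, 1, 5⟩)))) (.node 4 (.node 2 (.node 1 (.one ⟨16735, 2, 3⟩) (.one ⟨812, 0, 3⟩)) (.node 1 (.one ⟨9165, 2, 5⟩) (.one ⟨16651, 2, 4⟩))) (.node 2 (.node 1 (.one ⟨2871, 2, 5⟩) (.one ⟨2444, 3, 6⟩)) (.node 1 (.one ⟨7829, 2, 5⟩) (.one ⟨11958, 3, 5⟩)))))))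
def par4_7 : Arr Par :=
  (.node 512 (.node 256 (.node 128 (.node 64 par4_7_0 par4_7_1) (.node 64 par4_7_2 par4_7_3)) (.node 128 (.node 64 par4_7_4 par4_7_5) (.node 64 par4_7_6 par4_7_7))) (.node 256 (.node 128 (.node 64 par4_7_8 par4_7_9) (.node 64 par4_7_10 par4_7_11)) (.node 128 (.node 64 par4_7_12 par4_7_13) (.node 64 par4_7_14 par4_7_15))))
def par4_8_0 : Arr Par :=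
  (.node 32 (.node 16 (.node 8 (.node 4 (.node 2 (.node 1 (.one ⟨11955, 3, 4⟩) (.one ⟨11951, 3, 6⟩)) (.node 1 (.one ⟨11954, 3, 5⟩) (.one ⟨11956, 3, 5⟩))) (.node 2 (.node 1 (.one ⟨745, 0, 3⟩) (.one ⟨280, 1, 3⟩)) (.node 1 (.one ⟨1663, 0, 4⟩) (.one ⟨12376, 0, 4⟩)))) (.node 4 (.node 2 (.node 1 (.one ⟨15569, 3, 4⟩) (.one ⟨8220, 2, 5⟩)) (.node 1 (.one ⟨7278, 2, 5⟩) (.one ⟨14654, 2, 5⟩))) (.node 2 (.node 1 (.one ⟨6773, 3, 2⟩) (.one ⟨1683, 1, 5⟩)) (.node 1 (.one ⟨13154, 1, 4⟩) (.one ⟨10353, 2, 4⟩))))) (.node 8 (.node 4 (.node 2 (.node 1 (.one ⟨8117, 3, 5⟩) (.one ⟨16976, 3, 3⟩)) (.node 1 (.one ⟨14371, 3, 5⟩) (.one ⟨9276, 1, 5⟩))) (.node 2 (.node 1 (.one ⟨10354, 2, 4⟩) (.one ⟨14841, 3, 5⟩)) (.node 1 (.one ⟨10352, 2, 4⟩)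 (.one ⟨616, 3, 3⟩)))) (.node 4 (.node 2 (.node 1 (.one ⟨14614, 1, 5⟩) (.one ⟨15958, 0, 4⟩)) (.node 1 (.one ⟨4384, 2, 5⟩) (.one ⟨1894, 3, 6⟩))) (.node 2 (.node 1 (.one ⟨3457, 0, 4⟩) (.one ⟨16953, 0, 4⟩)) (.node 1 (.one ⟨2057, 3, 5⟩) (.one ⟨1058, 1, 4⟩)))))) (.node 16 (.node 8 (.node 4 (.node 2 (.node 1 (.one ⟨16447, 2, 6⟩) (.one ⟨14833, 2, 5⟩)) (.node 1 (.one ⟨9589, 3, 5⟩) (.one ⟨4638, 2, 5⟩))) (.node 2 (.node 1 (.one ⟨276, 2, 4⟩) (.one ⟨3076, 0, 5⟩)) (.node 1 (.one ⟨1019, 1, 4⟩) (.one ⟨8580, 0, 5⟩)))) (.node 4 (.node 2 (.node 1 (.one ⟨4830, 2, 4⟩) (.one ⟨12812, 3, 4⟩)) (.node 1 (.one ⟨13313, 2, 4⟩) (.one ⟨2680, 2, 4⟩))) (.node 2 (.node 1 (.one ⟨4912, 2, 2⟩) (.one ⟨7479, 3, 4⟩)) (.node 1 (.one ⟨8561, 0, 4⟩) (.one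 ⟨4676, 1, 4⟩))))) (.node 8 (.node 4 (.node 2 (.node 1 (.one ⟨4669, 3, 5⟩) (.one ⟨502, 3, 5⟩)) (.node 1 (.one ⟨1778, 2, 5⟩) (.one ⟨3601, 1, 4⟩))) (.node 2 (.node 1 (.one ⟨14267, 0, 4⟩) (.one ⟨8142, 3, 3⟩)) (.node 1 (.one ⟨6862, 3, 4⟩) (.one ⟨9732, 3, 4⟩)))) (.node 4 (.node 2 (.node 1 (.one ⟨4512, 2, 2⟩) (.one ⟨10135, 3, 5⟩)) (.node 1 (.one ⟨17175, 1, 6⟩) (.one ⟨8922, 3, 6⟩))) (.node 2 (.node 1 (.one ⟨14092, 3, 2⟩) (.one ⟨13630, 1, 6⟩)) (.node 1 (.one ⟨7803, 2, 5⟩) (.one ⟨9384, 3, 5⟩)))))))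
def par4_8_1 : Arr Par :=
  (.node 32 (.node 16 (.node 8 (.node 4 (.node 2 (.node 1 (.one ⟨9308, 3, 2⟩) (.one ⟨14728, 1, 4⟩)) (.node 1 (.one ⟨10350, 2, 5⟩) (.one ⟨9390, 2, 4⟩))) (.node 2 (.node 1 (.one ⟨6409, 3, 4⟩) (.one ⟨3729, 1, 3⟩)) (.node 1 (.one ⟨6435, 3, 4⟩) (.one ⟨8975, 3, 5⟩)))) (.node 4 (.node 2 (.node 1 (.one ⟨13012, 2, 6⟩) (.one ⟨14985, 3, 5⟩)) (.node 1 (.one ⟨11104, 0, 4⟩) (.one ⟨13373, 2, 3⟩))) (.node 2 (.node 1 (.one ⟨6950, 2, 6⟩) (.one ⟨3411, 3, 5⟩)) (.node 1 (.one ⟨12085, 2, 3⟩) (.one ⟨15154, 2, 5⟩))))) (.node 8 (.node 4 (.node 2 (.node 1 (.one ⟨14605, 2, 5⟩) (.one ⟨7451, 3, 5⟩)) (.node 1 (.one ⟨13419, 3, 5⟩) (.one ⟨16459, 2, 4⟩))) (.node 2 (.node 1 (.one ⟨15925, 2, 3⟩) (.one ⟨5995, 1, 5⟩))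 (.node 1 (.one ⟨16871, 0, 4⟩) (.one ⟨12234, 0, 3⟩)))) (.node 4 (.node 2 (.node 1 (.one ⟨11145, 2, 6⟩) (.one ⟨11449, 3, 4⟩)) (.node 1 (.one ⟨15552, 3, 6⟩) (.one ⟨382, 3, 6⟩))) (.node 2 (.node 1 (.one ⟨5719, 3, 7⟩) (.one ⟨10538, 3, 2⟩)) (.node 1 (.one ⟨9879, 2, 5⟩) (.one ⟨4710, 0, 2⟩)))))) (.node 16 (.node 8 (.node 4 (.node 2 (.node 1 (.one ⟨3304, 2, 5⟩) (.one ⟨8811, 2, 5⟩)) (.node 1 (.one ⟨782, 0, 4⟩) (.one ⟨3527, 3, 5⟩))) (.node 2 (.node 1 (.one ⟨10526, 3, 5⟩) (.one ⟨16606, 0, 5⟩)) (.node 1 (.one ⟨9153, 0, 3⟩) (.one ⟨1937, 2, 5⟩)))) (.node 4 (.node 2 (.node 1 (.one ⟨5445, 3, 4⟩) (.one ⟨16597, 3, 5⟩)) (.node 1 (.one ⟨11560, 2, 5⟩) (.one ⟨15172, 3, 6⟩))) (.node 2 (.node 1 (.one ⟨11035, 2, 4⟩) (.one ⟨2732, 2, 4⟩))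 (.node 1 (.one ⟨9023, 1, 3⟩) (.one ⟨4800, 1, 4⟩))))) (.node 8 (.node 4 (.node 2 (.node 1 (.one ⟨10952, 1, 5⟩) (.one ⟨233, 1, 0⟩)) (.node 1 (.one ⟨6839, 3, 5⟩) (.one ⟨10697, 2, 5⟩))) (.node 2 (.node 1 (.one ⟨5385, 3, 3⟩) (.one ⟨1305, 1, 4⟩)) (.node 1 (.one ⟨11897, 1, 3⟩) (.one ⟨11481, 2, 5⟩)))) (.node 4 (.node 2 (.node 1 (.one ⟨10831, 3, 5⟩) (.one ⟨3498, 3, 4⟩)) (.node 1 (.one ⟨11060, 2, 4⟩) (.one ⟨14085, 3, 5⟩))) (.node 2 (.node 1 (.one ⟨10657, 3, 5⟩) (.one ⟨8546, 2, 6⟩)) (.node 1 (.one ⟨2265, 2, 4⟩) (.one ⟨2392, 1, 4⟩)))))))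
def par4_8_2 : Arr Par :=
  (.node 32 (.node 16 (.node 8 (.node 4 (.node 2 (.node 1 (.one ⟨2617, 2, 5⟩) (.one ⟨4297, 2, 6⟩)) (.node 1 (.one ⟨9286, 3, 3⟩) (.one ⟨9434, 3, 3⟩))) (.node 2 (.node 1 (.one ⟨4844, 3, 6⟩) (.one ⟨1281, 3, 5⟩)) (.node 1 (.one ⟨4162, 1, 3⟩) (.one ⟨14974, 3, 6⟩)))) (.node 4 (.node 2 (.node 1 (.one ⟨2431, 3, 5⟩) (.one ⟨7139, 3, 6⟩)) (.node 1 (.one ⟨10066, 3, 4⟩) (.one ⟨2348, 3, 5⟩))) (.node 2 (.node 1 (.one ⟨8978, 1, 5⟩) (.one ⟨9981, 3, 2⟩)) (.node 1 (.one ⟨7421, 3, 2⟩) (.one ⟨16218, 3, 5⟩))))) (.node 8 (.node 4 (.node 2 (.node 1 (.one ⟨2023, 0, 3⟩) (.one ⟨16834, 2, 5⟩)) (.node 1 (.one ⟨16215, 3, 4⟩) (.one ⟨3435, 2, 5⟩))) (.node 2 (.node 1 (.one ⟨16222, 3, 5⟩) (.one ⟨1336, 1, 1⟩)) (.node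 1 (.one ⟨3602, 1, 4⟩) (.one ⟨5536, 1, 6⟩)))) (.node 4 (.node 2 (.node 1 (.one ⟨10419, 3, 4⟩) (.one ⟨15004, 2, 3⟩)) (.node 1 (.one ⟨15807, 1, 5⟩) (.one ⟨4955, 3, 3⟩))) (.node 2 (.node 1 (.one ⟨1301, 1, 5⟩) (.one ⟨2111, 0, 2⟩)) (.node 1 (.one ⟨13521, 3, 3⟩) (.one ⟨12668, 3, 5⟩)))))) (.node 16 (.node 8 (.node 4 (.node 2 (.node 1 (.one ⟨5379, 1, 5⟩) (.one ⟨5413, 2, 4⟩)) (.node 1 (.one ⟨3717, 2, 5⟩) (.one ⟨5261, 2, 4⟩))) (.node 2 (.node 1 (.one ⟨3572, 2, 2⟩) (.one ⟨5317, 1, 3⟩)) (.node 1 (.one ⟨17047, 0, 5⟩) (.one ⟨5591, 3, 5⟩)))) (.node 4 (.node 2 (.node 1 (.one ⟨1435, 2, 5⟩) (.one ⟨6880, 2, 5⟩)) (.node 1 (.one ⟨14654, 0, 5⟩) (.one ⟨12462, 3, 4⟩))) (.node 2 (.node 1 (.one ⟨2235, 3, 6⟩) (.one ⟨14211, 1, 5⟩)) (.node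 1 (.one ⟨14695, 0, 5⟩) (.one ⟨13482, 0, 3⟩))))) (.node 8 (.node 4 (.node 2 (.node 1 (.one ⟨14196, 0, 5⟩) (.one ⟨13261, 0, 3⟩)) (.node 1 (.one ⟨13735, 0, 3⟩) (.one ⟨3551, 3, 6⟩))) (.node 2 (.node 1 (.one ⟨7175, 2, 3⟩) (.one ⟨11593, 3, 4⟩)) (.node 1 (.one ⟨16116, 1, 6⟩) (.one ⟨5335, 2, 6⟩)))) (.node 4 (.node 2 (.node 1 (.one ⟨3749, 3, 5⟩) (.one ⟨3244, 2, 3⟩)) (.node 1 (.one ⟨3745, 3, 5⟩) (.one ⟨8156, 3, 5⟩))) (.node 2 (.node 1 (.one ⟨3744, 3, 5⟩) (.one ⟨8862, 2, 3⟩)) (.node 1 (.one ⟨7677, 2, 4⟩) (.one ⟨12644, 2, 4⟩)))))))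
def par4_8_3 : Arr Par :=
  (.node 32 (.node 16 (.node 8 (.node 4 (.node 2 (.node 1 (.one ⟨9485, 3, 3⟩) (.one ⟨4622, 3, 5⟩)) (.node 1 (.one ⟨5628, 3, 5⟩) (.one ⟨904, 2, 4⟩))) (.node 2 (.node 1 (.one ⟨11059, 3, 4⟩) (.one ⟨3767, 3, 3⟩)) (.node 1 (.one ⟨2430, 1, 5⟩) (.one ⟨5805, 3, 5⟩)))) (.node 4 (.node 2 (.node 1 (.one ⟨3499, 3, 4⟩) (.one ⟨8583, 2, 5⟩)) (.node 1 (.one ⟨8526, 2, 5⟩) (.one ⟨16169, 1, 4⟩))) (.node 2 (.node 1 (.one ⟨8243, 3, 5⟩) (.one ⟨16172, 1, 4⟩)) (.node 1 (.one ⟨7161, 3, 3⟩) (.one ⟨2468, 2, 6⟩))))) (.node 8 (.node 4 (.node 2 (.node 1 (.one ⟨5218, 1, 6⟩) (.one ⟨10142, 2, 4⟩)) (.node 1 (.one ⟨262, 1, 0⟩) (.one ⟨1347, 3, 4⟩))) (.node 2 (.node 1 (.one ⟨7680, 1, 6⟩) (.one ⟨12827, 1, 6⟩)) (.node 1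 (.one ⟨15188, 2, 4⟩) (.one ⟨5740, 1, 4⟩)))) (.node 4 (.node 2 (.node 1 (.one ⟨15428, 3, 4⟩) (.one ⟨13509, 1, 4⟩)) (.node 1 (.one ⟨3731, 0, 3⟩) (.one ⟨3687, 1, 4⟩))) (.node 2 (.node 1 (.one ⟨11536, 2, 5⟩) (.one ⟨15272, 1, 4⟩)) (.node 1 (.one ⟨3718, 0, 5⟩) (.one ⟨16133, 3, 5⟩)))))) (.node 16 (.node 8 (.node 4 (.node 2 (.node 1 (.one ⟨6443, 2, 4⟩) (.one ⟨16145, 0, 3⟩)) (.node 1 (.one ⟨15796, 2, 4⟩) (.one ⟨4472, 0, 5⟩))) (.node 2 (.node 1 (.one ⟨8426, 2, 5⟩) (.one ⟨13885, 1, 6⟩)) (.node 1 (.one ⟨15306, 2, 4⟩) (.one ⟨12763, 0, 4⟩)))) (.node 4 (.node 2 (.node 1 (.one ⟨13960, 3, 6⟩) (.one ⟨8456, 0, 5⟩)) (.node 1 (.one ⟨4102, 3, 4⟩) (.one ⟨3873, 2, 4⟩))) (.node 2 (.node 1 (.one ⟨12337, 2, 5⟩) (.one ⟨6269, 2, 1⟩)) (.node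 1 (.one ⟨3704, 0, 4⟩) (.one ⟨1850, 1, 4⟩))))) (.node 8 (.node 4 (.node 2 (.node 1 (.one ⟨11295, 2, 3⟩) (.one ⟨1275, 3, 4⟩)) (.node 1 (.one ⟨11671, 3, 6⟩) (.one ⟨12735, 1, 3⟩))) (.node 2 (.node 1 (.one ⟨5761, 2, 4⟩) (.one ⟨8221, 0, 5⟩)) (.node 1 (.one ⟨4674, 2, 4⟩) (.one ⟨6581, 3, 5⟩)))) (.node 4 (.node 2 (.node 1 (.one ⟨5973, 1, 5⟩) (.one ⟨6583, 3, 4⟩)) (.node 1 (.one ⟨5629, 2, 4⟩) (.one ⟨7143, 3, 6⟩))) (.node 2 (.node 1 (.one ⟨1114, 3, 5⟩) (.one ⟨7130, 3, 6⟩)) (.node 1 (.one ⟨204, 3, 4⟩) (.one ⟨16875, 2, 3⟩)))))))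
def par4_8_4 : Arr Par :=
  (.node 32 (.node 16 (.node 8 (.node 4 (.node 2 (.node 1 (.one ⟨16708, 3, 4⟩) (.one ⟨2790, 2, 6⟩)) (.node 1 (.one ⟨10311, 2, 3⟩) (.one ⟨2651, 3, 4⟩))) (.node 2 (.node 1 (.one ⟨11368, 2, 1⟩) (.one ⟨8337, 1, 6⟩)) (.node 1 (.one ⟨8429, 2, 2⟩) (.one ⟨16076, 1, 4⟩)))) (.node 4 (.node 2 (.node 1 (.one ⟨16902, 1, 4⟩) (.one ⟨2043, 3, 4⟩)) (.node 1 (.one ⟨11256, 1, 5⟩) (.one ⟨13074, 1, 5⟩))) (.node 2 (.node 1 (.one ⟨5368, 3, 3⟩) (.one ⟨9645, 3, 5⟩)) (.node 1 (.one ⟨16421, 2, 5⟩) (.one ⟨605, 3, 4⟩))))) (.node 8 (.node 4 (.node 2 (.node 1 (.one ⟨12344, 3, 5⟩) (.one ⟨7118, 2, 5⟩)) (.node 1 (.one ⟨14995, 0, 3⟩) (.one ⟨12359, 3, 6⟩))) (.node 2 (.node 1 (.one ⟨10683, 0, 5⟩) (.one ⟨8702, 2, 4⟩)) (.node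 1 (.one ⟨4332, 3, 5⟩) (.one ⟨4627, 3, 5⟩)))) (.node 4 (.node 2 (.node 1 (.one ⟨5318, 3, 5⟩) (.one ⟨44, 0, 5⟩)) (.node 1 (.one ⟨5178, 0, 3⟩) (.one ⟨5179, 0, 3⟩))) (.node 2 (.node 1 (.one ⟨8908, 2, 4⟩) (.one ⟨6626, 3, 5⟩)) (.node 1 (.one ⟨5175, 0, 3⟩) (.one ⟨12749, 1, 6⟩)))))) (.node 16 (.node 8 (.node 4 (.node 2 (.node 1 (.one ⟨3421, 3, 4⟩) (.one ⟨13815, 1, 6⟩)) (.node 1 (.one ⟨274, 2, 4⟩) (.one ⟨201, 3, 3⟩))) (.node 2 (.node 1 (.one ⟨15931, 3, 4⟩) (.one ⟨11175, 2, 4⟩)) (.node 1 (.one ⟨16604, 2, 4⟩) (.one ⟨12388, 3, 4⟩)))) (.node 4 (.node 2 (.node 1 (.one ⟨3724, 1, 3⟩) (.one ⟨3796, 2, 5⟩)) (.node 1 (.one ⟨10138, 3, 3⟩) (.one ⟨12176, 3, 5⟩))) (.node 2 (.node 1 (.one ⟨11992, 3, 5⟩) (.one ⟨9853, 3, 3⟩)) (.node 1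 (.one ⟨11611, 1, 3⟩) (.one ⟨8420, 0, 6⟩))))) (.node 8 (.node 4 (.node 2 (.node 1 (.one ⟨1722, 3, 5⟩) (.one ⟨9778, 3, 5⟩)) (.node 1 (.one ⟨1829, 0, 4⟩) (.one ⟨15563, 1, 4⟩))) (.node 2 (.node 1 (.one ⟨17066, 0, 5⟩) (.one ⟨9210, 3, 4⟩)) (.node 1 (.one ⟨15583, 2, 4⟩) (.one ⟨11359, 1, 1⟩)))) (.node 4 (.node 2 (.node 1 (.one ⟨14863, 1, 4⟩) (.one ⟨9448, 1, 5⟩)) (.node 1 (.one ⟨9314, 3, 4⟩) (.one ⟨4299, 0, 3⟩))) (.node 2 (.node 1 (.one ⟨6277, 1, 5⟩) (.one ⟨4136, 0, 3⟩)) (.node 1 (.one ⟨6713, 2, 1⟩) (.one ⟨10126, 3, 4⟩)))))))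
def par4_8_5 : Arr Par :=
  (.node 32 (.node 16 (.node 8 (.node 4 (.node 2 (.node 1 (.one ⟨2814, 3, 6⟩) (.one ⟨13264, 3, 5⟩)) (.node 1 (.one ⟨8460, 2, 4⟩) (.one ⟨15493, 0, 5⟩))) (.node 2 (.node 1 (.one ⟨816, 3, 4⟩) (.one ⟨880, 2, 4⟩)) (.node 1 (.one ⟨148, 0, 4⟩) (.one ⟨13534, 3, 5⟩)))) (.node 4 (.node 2 (.node 1 (.one ⟨11119, 0, 3⟩) (.one ⟨13753, 3, 6⟩)) (.node 1 (.one ⟨1936, 0, 4⟩) (.one ⟨2977, 2, 3⟩))) (.node 2 (.node 1 (.one ⟨7177, 1, 3⟩) (.one ⟨14287, 2, 4⟩)) (.node 1 (.one ⟨1953, 2, 4⟩) (.one ⟨8303, 3, 5⟩))))) (.node 8 (.node 4 (.node 2 (.node 1 (.one ⟨214, 1, 4⟩) (.one ⟨8795, 2, 4⟩)) (.node 1 (.one ⟨13065, 2, 4⟩) (.one ⟨14583, 2, 5⟩))) (.node 2 (.node 1 (.one ⟨6245, 3, 5⟩) (.one ⟨7057, 2, 5⟩)) (.node 1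 (.one ⟨11379, 2, 4⟩) (.one ⟨15633, 3, 4⟩)))) (.node 4 (.node 2 (.node 1 (.one ⟨8192, 2, 5⟩) (.one ⟨9798, 2, 6⟩)) (.node 1 (.one ⟨13469, 2, 5⟩) (.one ⟨8548, 1, 4⟩))) (.node 2 (.node 1 (.one ⟨9090, 2, 4⟩) (.one ⟨10947, 2, 4⟩)) (.node 1 (.one ⟨14904, 3, 6⟩) (.one ⟨15812, 3, 5⟩)))))) (.node 16 (.node 8 (.node 4 (.node 2 (.node 1 (.one ⟨5213, 2, 5⟩) (.one ⟨2019, 1, 4⟩)) (.node 1 (.one ⟨15584, 2, 5⟩) (.one ⟨9229, 1, 4⟩))) (.node 2 (.node 1 (.one ⟨7758, 3, 3⟩) (.one ⟨3270, 3, 4⟩)) (.node 1 (.one ⟨2487, 2, 4⟩) (.one ⟨15800, 2, 5⟩)))) (.node 4 (.node 2 (.node 1 (.one ⟨12463, 3, 5⟩) (.one ⟨8806, 3, 6⟩)) (.node 1 (.one ⟨8034, 3, 3⟩) (.one ⟨10891, 3, 5⟩))) (.node 2 (.node 1 (.one ⟨10651, 3, 4⟩) (.one ⟨4915, 1, 1⟩)) (.node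 1 (.one ⟨15808, 1, 5⟩) (.one ⟨9465, 3, 5⟩))))) (.node 8 (.node 4 (.node 2 (.node 1 (.one ⟨5024, 2, 6⟩) (.one ⟨15674, 3, 3⟩)) (.node 1 (.one ⟨12258, 3, 5⟩) (.one ⟨3006, 2, 5⟩))) (.node 2 (.node 1 (.one ⟨5273, 0, 2⟩) (.one ⟨4243, 3, 4⟩)) (.node 1 (.one ⟨9217, 1, 2⟩) (.one ⟨5465, 2, 5⟩)))) (.node 4 (.node 2 (.node 1 (.one ⟨14764, 0, 5⟩) (.one ⟨6319, 2, 5⟩)) (.node 1 (.one ⟨16651, 1, 4⟩) (.one ⟨14752, 0, 5⟩))) (.node 2 (.node 1 (.one ⟨9741, 3, 5⟩) (.one ⟨4275, 2, 4⟩)) (.node 1 (.one ⟨10806, 1, 4⟩) (.one ⟨14414, 3, 4⟩)))))))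
def par4_8_6 : Arr Par :=
  (.node 32 (.node 16 (.node 8 (.node 4 (.node 2 (.node 1 (.one ⟨10395, 3, 5⟩) (.one ⟨5908, 3, 4⟩)) (.node 1 (.one ⟨6748, 1, 4⟩) (.one ⟨8475, 3, 4⟩))) (.node 2 (.node 1 (.one ⟨4800, 3, 4⟩) (.one ⟨16816, 3, 5⟩)) (.node 1 (.one ⟨13330, 3, 3⟩) (.one ⟨11440, 3, 4⟩)))) (.node 4 (.node 2 (.node 1 (.one ⟨11136, 1, 4⟩) (.one ⟨11444, 3, 3⟩)) (.node 1 (.one ⟨10827, 0, 3⟩) (.one ⟨11446, 3, 5⟩))) (.node 2 (.node 1 (.one ⟨2134, 2, 4⟩) (.one ⟨12506, 2, 4⟩)) (.node 1 (.one ⟨9166, 2, 6⟩) (.one ⟨3512, 0, 4⟩))))) (.node 8 (.node 4 (.node 2 (.node 1 (.one ⟨1882, 3, 4⟩) (.one ⟨12713, 3, 5⟩)) (.node 1 (.one ⟨3545, 0, 5⟩) (.one ⟨16798, 2, 5⟩))) (.node 2 (.node 1 (.one ⟨11396, 3, 5⟩) (.one ⟨4457, 3, 5⟩))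 (.node 1 (.one ⟨16820, 3, 5⟩) (.one ⟨6738, 3, 4⟩)))) (.node 4 (.node 2 (.node 1 (.one ⟨16218, 2, 5⟩) (.one ⟨10437, 1, 5⟩)) (.node 1 (.one ⟨11668, 0, 4⟩) (.one ⟨12176, 0, 5⟩))) (.node 2 (.node 1 (.one ⟨10059, 3, 5⟩) (.one ⟨1374, 2, 4⟩)) (.node 1 (.one ⟨2264, 0, 4⟩) (.one ⟨17, 3, 5⟩)))))) (.node 16 (.node 8 (.node 4 (.node 2 (.node 1 (.one ⟨8431, 2, 5⟩) (.one ⟨1311, 1, 5⟩)) (.node 1 (.one ⟨3026, 2, 5⟩) (.one ⟨777, 3, 5⟩))) (.node 2 (.node 1 (.one ⟨918, 3, 5⟩) (.one ⟨13518, 1, 5⟩)) (.node 1 (.one ⟨8074, 2, 6⟩) (.one ⟨10804, 3, 5⟩)))) (.node 4 (.node 2 (.node 1 (.one ⟨13743, 2, 5⟩) (.one ⟨3130, 3, 3⟩)) (.node 1 (.one ⟨3323, 1, 4⟩) (.one ⟨7144, 3, 6⟩))) (.node 2 (.node 1 (.one ⟨14819, 1, 5⟩) (.one ⟨14379, 1, 4⟩))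 (.node 1 (.one ⟨11062, 2, 4⟩) (.one ⟨1044, 1, 5⟩))))) (.node 8 (.node 4 (.node 2 (.node 1 (.one ⟨14512, 3, 4⟩) (.one ⟨9118, 0, 3⟩)) (.node 1 (.one ⟨14794, 2, 4⟩) (.one ⟨5211, 1, 5⟩))) (.node 2 (.node 1 (.one ⟨12519, 3, 5⟩) (.one ⟨12074, 3, 5⟩)) (.node 1 (.one ⟨2109, 3, 5⟩) (.one ⟨2024, 3, 4⟩)))) (.node 4 (.node 2 (.node 1 (.one ⟨12206, 0, 5⟩) (.one ⟨11934, 0, 5⟩)) (.node 1 (.one ⟨4225, 2, 5⟩) (.one ⟨17007, 0, 5⟩))) (.node 2 (.node 1 (.one ⟨15609, 0, 4⟩) (.one ⟨12777, 1, 5⟩)) (.node 1 (.one ⟨1611, 3, 4⟩) (.one ⟨5880, 1, 4⟩)))))))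
def par4_8_7 : Arr Par :=
  (.node 32 (.node 16 (.node 8 (.node 4 (.node 2 (.node 1 (.one ⟨11674, 1, 3⟩) (.one ⟨9023, 0, 3⟩)) (.node 1 (.one ⟨1723, 3, 4⟩) (.one ⟨16051, 1, 4⟩))) (.node 2 (.node 1 (.one ⟨10766, 3, 3⟩) (.one ⟨6355, 3, 4⟩)) (.node 1 (.one ⟨14125, 3, 5⟩) (.one ⟨7762, 3, 6⟩)))) (.node 4 (.node 2 (.node 1 (.one ⟨5211, 2, 5⟩) (.one ⟨10192, 3, 5⟩)) (.node 1 (.one ⟨15932, 3, 4⟩) (.one ⟨9162, 3, 5⟩))) (.node 2 (.node 1 (.one ⟨12127, 2, 4⟩) (.one ⟨7874, 3, 1⟩)) (.node 1 (.one ⟨3700, 2, 5⟩) (.one ⟨7019, 3, 5⟩))))) (.node 8 (.node 4 (.node 2 (.node 1 (.one ⟨7016, 3, 4⟩) (.one ⟨7018, 3, 6⟩)) (.node 1 (.one ⟨16633, 1, 2⟩) (.one ⟨10389, 1, 5⟩))) (.node 2 (.node 1 (.one ⟨5701, 0, 5⟩) (.one ⟨5995, 0, 5⟩)) (.node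 1 (.one ⟨1456, 2, 5⟩) (.one ⟨10464, 2, 4⟩)))) (.node 4 (.node 2 (.node 1 (.one ⟨2808, 3, 5⟩) (.one ⟨2427, 0, 6⟩)) (.node 1 (.one ⟨12564, 2, 4⟩) (.one ⟨764, 1, 5⟩))) (.node 2 (.node 1 (.one ⟨10155, 1, 4⟩) (.one ⟨13241, 0, 4⟩)) (.node 1 (.one ⟨12793, 3, 5⟩) (.one ⟨6122, 2, 4⟩)))))) (.node 16 (.node 8 (.node 4 (.node 2 (.node 1 (.one ⟨16317, 1, 5⟩) (.one ⟨8119, 2, 3⟩)) (.node 1 (.one ⟨13517, 1, 5⟩) (.one ⟨11508, 3, 6⟩))) (.node 2 (.node 1 (.one ⟨9205, 2, 5⟩) (.one ⟨10132, 1, 5⟩)) (.node 1 (.one ⟨17006, 3, 2⟩) (.one ⟨6581, 2, 5⟩)))) (.node 4 (.node 2 (.node 1 (.one ⟨3337, 3, 5⟩) (.one ⟨8377, 0, 4⟩)) (.node 1 (.one ⟨8429, 0, 2⟩) (.one ⟨12981, 0, 5⟩))) (.node 2 (.node 1 (.one ⟨13998, 1, 6⟩) (.one ⟨11776, 1, 4⟩)) (.node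 1 (.one ⟨7253, 2, 5⟩) (.one ⟨15496, 1, 1⟩))))) (.node 8 (.node 4 (.node 2 (.node 1 (.one ⟨17122, 0, 4⟩) (.one ⟨16800, 2, 5⟩)) (.node 1 (.one ⟨13028, 2, 2⟩) (.one ⟨13431, 1, 2⟩))) (.node 2 (.node 1 (.one ⟨1913, 0, 4⟩) (.one ⟨5557, 3, 5⟩)) (.node 1 (.one ⟨8525, 3, 5⟩) (.one ⟨2001, 1, 5⟩)))) (.node 4 (.node 2 (.node 1 (.one ⟨8800, 0, 4⟩) (.one ⟨10254, 1, 4⟩)) (.node 1 (.one ⟨3529, 1, 5⟩) (.one ⟨10588, 3, 4⟩))) (.node 2 (.node 1 (.one ⟨5324, 3, 4⟩) (.one ⟨1717, 3, 3⟩)) (.node 1 (.one ⟨11799, 2, 3⟩) (.one ⟨14677, 3, 5⟩)))))))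
def par4_8_8 : Arr Par :=
  (.node 32 (.node 16 (.node 8 (.node 4 (.node 2 (.node 1 (.one ⟨15763, 3, 6⟩) (.one ⟨3990, 0, 5⟩)) (.node 1 (.one ⟨2730, 1, 2⟩) (.one ⟨2934, 2, 5⟩))) (.node 2 (.node 1 (.one ⟨2634, 1, 3⟩) (.one ⟨1087, 3, 5⟩)) (.node 1 (.one ⟨15937, 2, 5⟩) (.one ⟨7965, 1, 5⟩)))) (.node 4 (.node 2 (.node 1 (.one ⟨12692, 0, 5⟩) (.one ⟨8629, 3, 6⟩)) (.node 1 (.one ⟨5829, 3, 5⟩) (.one ⟨15667, 0, 4⟩))) (.node 2 (.node 1 (.one ⟨12450, 2, 5⟩) (.one ⟨7404, 2, 5⟩)) (.node 1 (.one ⟨306, 2, 5⟩) (.one ⟨1554, 3, 5⟩))))) (.node 8 (.node 4 (.node 2 (.node 1 (.one ⟨16949, 3, 5⟩) (.one ⟨677, 0, 5⟩)) (.node 1 (.one ⟨7990, 0, 5⟩) (.one ⟨3961, 2, 4⟩))) (.node 2 (.node 1 (.one ⟨13611, 2, 5⟩) (.one ⟨5701, 2, 5⟩)) (.node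 1 (.one ⟨14999, 2, 6⟩) (.one ⟨1201, 3, 5⟩)))) (.node 4 (.node 2 (.node 1 (.one ⟨12502, 3, 4⟩) (.one ⟨4265, 1, 4⟩)) (.node 1 (.one ⟨16349, 0, 6⟩) (.one ⟨13961, 2, 5⟩))) (.node 2 (.node 1 (.one ⟨14223, 2, 2⟩) (.one ⟨2633, 1, 4⟩)) (.node 1 (.one ⟨8310, 0, 4⟩) (.one ⟨14477, 3, 6⟩)))))) (.node 16 (.node 8 (.node 4 (.node 2 (.node 1 (.one ⟨3645, 2, 5⟩) (.one ⟨14144, 3, 6⟩)) (.node 1 (.one ⟨8934, 0, 4⟩) (.one ⟨972, 1, 5⟩))) (.node 2 (.node 1 (.one ⟨4905, 3, 5⟩) (.one ⟨8106, 2, 3⟩)) (.node 1 (.one ⟨7240, 2, 4⟩) (.one ⟨14501, 3, 4⟩)))) (.node 4 (.node 2 (.node 1 (.one ⟨9245, 2, 5⟩) (.one ⟨2483, 1, 4⟩)) (.node 1 (.one ⟨13717, 3, 5⟩) (.one ⟨1114, 2, 5⟩))) (.node 2 (.node 1 (.one ⟨2518, 3, 5⟩) (.one ⟨2123, 3, 4⟩)) (.node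 1 (.one ⟨1958, 2, 5⟩) (.one ⟨3089, 3, 5⟩))))) (.node 8 (.node 4 (.node 2 (.node 1 (.one ⟨9296, 3, 4⟩) (.one ⟨11583, 1, 3⟩)) (.node 1 (.one ⟨17019, 1, 4⟩) (.one ⟨9023, 2, 3⟩))) (.node 2 (.node 1 (.one ⟨706, 3, 5⟩) (.one ⟨6985, 1, 6⟩)) (.node 1 (.one ⟨3391, 2, 4⟩) (.one ⟨15578, 3, 5⟩)))) (.node 4 (.node 2 (.node 1 (.one ⟨5405, 1, 3⟩) (.one ⟨4898, 2, 5⟩)) (.node 1 (.one ⟨16247, 2, 7⟩) (.one ⟨5703, 0, 5⟩))) (.node 2 (.node 1 (.one ⟨4072, 1, 5⟩) (.one ⟨8936, 3, 5⟩)) (.node 1 (.one ⟨7965, 2, 5⟩) (.one ⟨8341, 3, 2⟩)))))))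
def par4_8_9 : Arr Par :=
  (.node 32 (.node 16 (.node 8 (.node 4 (.node 2 (.node 1 (.one ⟨12745, 1, 5⟩) (.one ⟨3667, 2, 4⟩)) (.node 1 (.one ⟨4089, 1, 3⟩) (.one ⟨926, 2, 3⟩))) (.node 2 (.node 1 (.one ⟨5123, 3, 3⟩) (.one ⟨4587, 0, 4⟩)) (.node 1 (.one ⟨4472, 3, 5⟩) (.one ⟨11541, 3, 5⟩)))) (.node 4 (.node 2 (.node 1 (.one ⟨2733, 2, 5⟩) (.one ⟨12479, 2, 6⟩)) (.node 1 (.one ⟨13600, 1, 4⟩) (.one ⟨1942, 2, 4⟩))) (.node 2 (.node 1 (.one ⟨13897, 0, 5⟩) (.one ⟨5443, 3, 5⟩)) (.node 1 (.one ⟨10499, 3, 6⟩) (.one ⟨9092, 0, 4⟩))))) (.node 8 (.node 4 (.node 2 (.node 1 (.one ⟨14433, 1, 4⟩) (.one ⟨12554, 3, 4⟩)) (.node 1 (.one ⟨11963, 1, 5⟩) (.one ⟨4809, 2, 5⟩))) (.node 2 (.node 1 (.one ⟨13435, 2, 5⟩) (.one ⟨6563, 0, 5⟩)) (.node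 1 (.one ⟨5384, 3, 3⟩) (.one ⟨13244, 1, 3⟩)))) (.node 4 (.node 2 (.node 1 (.one ⟨9394, 2, 6⟩) (.one ⟨10833, 2, 7⟩)) (.node 1 (.one ⟨1975, 2, 5⟩) (.one ⟨5003, 3, 3⟩))) (.node 2 (.node 1 (.one ⟨4079, 2, 5⟩) (.one ⟨5137, 2, 5⟩)) (.node 1 (.one ⟨3118, 1, 3⟩) (.one ⟨3855, 3, 7⟩)))))) (.node 16 (.node 8 (.node 4 (.node 2 (.node 1 (.one ⟨13568, 2, 3⟩) (.one ⟨11559, 3, 5⟩)) (.node 1 (.one ⟨16369, 1, 5⟩) (.one ⟨16693, 0, 5⟩))) (.node 2 (.node 1 (.one ⟨13737, 2, 3⟩) (.one ⟨4904, 3, 6⟩)) (.node 1 (.one ⟨15036, 1, 5⟩) (.one ⟨8965, 3, 5⟩)))) (.node 4 (.node 2 (.node 1 (.one ⟨10904, 1, 6⟩) (.one ⟨3526, 3, 5⟩)) (.node 1 (.one ⟨9320, 3, 4⟩) (.one ⟨14989, 3, 4⟩))) (.node 2 (.node 1 (.one ⟨11616, 0, 5⟩) (.one ⟨11596, 0, 5⟩)) (.node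 1 (.one ⟨4498, 3, 3⟩) (.one ⟨4755, 2, 5⟩))))) (.node 8 (.node 4 (.node 2 (.node 1 (.one ⟨4662, 1, 3⟩) (.one ⟨10373, 3, 4⟩)) (.node 1 (.one ⟨5123, 1, 3⟩) (.one ⟨7668, 0, 5⟩))) (.node 2 (.node 1 (.one ⟨15202, 1, 4⟩) (.one ⟨13487, 2, 5⟩)) (.node 1 (.one ⟨14648, 1, 3⟩) (.one ⟨4424, 3, 5⟩)))) (.node 4 (.node 2 (.node 1 (.one ⟨16590, 1, 5⟩) (.one ⟨16103, 1, 4⟩)) (.node 1 (.one ⟨13990, 3, 5⟩) (.one ⟨3937, 0, 5⟩))) (.node 2 (.node 1 (.one ⟨12799, 3, 5⟩) (.one ⟨9721, 2, 3⟩)) (.node 1 (.one ⟨11008, 3, 5⟩) (.one ⟨8172, 0, 5⟩)))))))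
def par4_8_10 : Arr Par :=
  (.node 32 (.node 16 (.node 8 (.node 4 (.node 2 (.node 1 (.one ⟨5631, 3, 5⟩) (.one ⟨9587, 3, 4⟩)) (.node 1 (.one ⟨329, 1, 2⟩) (.one ⟨880, 1, 4⟩))) (.node 2 (.node 1 (.one ⟨16906, 0, 3⟩) (.one ⟨794, 1, 5⟩)) (.node 1 (.one ⟨1108, 3, 4⟩) (.one ⟨5317, 0, 3⟩)))) (.node 4 (.node 2 (.node 1 (.one ⟨13205, 3, 5⟩) (.one ⟨13200, 3, 4⟩)) (.node 1 (.one ⟨1729, 1, 2⟩) (.one ⟨16361, 1, 5⟩))) (.node 2 (.node 1 (.one ⟨11465, 0, 3⟩) (.one ⟨12109, 1, 5⟩)) (.node 1 (.one ⟨2031, 2, 5⟩) (.one ⟨14923, 3, 4⟩))))) (.node 8 (.node 4 (.node 2 (.node 1 (.one ⟨1848, 2, 4⟩) (.one ⟨330, 2, 5⟩)) (.node 1 (.one ⟨1869, 3, 4⟩) (.one ⟨826, 3, 4⟩))) (.node 2 (.node 1 (.one ⟨4542, 0, 5⟩) (.one ⟨3218, 1, 5⟩)) (.node 1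 (.one ⟨14668, 3, 5⟩) (.one ⟨11497, 0, 2⟩)))) (.node 4 (.node 2 (.node 1 (.one ⟨10312, 3, 4⟩) (.one ⟨15000, 1, 3⟩)) (.node 1 (.one ⟨14290, 3, 4⟩) (.one ⟨5600, 2, 3⟩))) (.node 2 (.node 1 (.one ⟨1057, 2, 4⟩) (.one ⟨12989, 2, 4⟩)) (.node 1 (.one ⟨4695, 1, 2⟩) (.one ⟨3977, 2, 2⟩)))))) (.node 16 (.node 8 (.node 4 (.node 2 (.node 1 (.one ⟨2578, 3, 3⟩) (.one ⟨2580, 3, 5⟩)) (.node 1 (.one ⟨2576, 3, 4⟩) (.one ⟨2577, 3, 5⟩))) (.node 2 (.node 1 (.one ⟨12160, 2, 2⟩) (.one ⟨5708, 1, 4⟩)) (.node 1 (.one ⟨2579, 3, 5⟩) (.one ⟨9819, 2, 4⟩)))) (.node 4 (.node 2 (.node 1 (.one ⟨9820, 2, 3⟩) (.one ⟨5627, 3, 5⟩)) (.node 1 (.one ⟨4621, 3, 5⟩) (.one ⟨14273, 0, 4⟩))) (.node 2 (.node 1 (.one ⟨5405, 3, 3⟩) (.one ⟨2544, 3, 3⟩)) (.node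 1 (.one ⟨9022, 3, 6⟩) (.one ⟨1366, 3, 4⟩))))) (.node 8 (.node 4 (.node 2 (.node 1 (.one ⟨5173, 2, 5⟩) (.one ⟨4102, 1, 4⟩)) (.node 1 (.one ⟨11511, 1, 4⟩) (.one ⟨616, 2, 3⟩))) (.node 2 (.node 1 (.one ⟨3364, 1, 5⟩) (.one ⟨8455, 0, 5⟩)) (.node 1 (.one ⟨9294, 1, 4⟩) (.one ⟨1359, 3, 4⟩)))) (.node 4 (.node 2 (.node 1 (.one ⟨577, 3, 4⟩) (.one ⟨9301, 3, 5⟩)) (.node 1 (.one ⟨9487, 3, 5⟩) (.one ⟨3008, 3, 4⟩))) (.node 2 (.node 1 (.one ⟨3075, 3, 3⟩) (.one ⟨11173, 3, 3⟩)) (.node 1 (.one ⟨11107, 3, 4⟩) (.one ⟨3480, 1, 3⟩)))))))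
def par4_8_11 : Arr Par :=
  (.node 32 (.node 16 (.node 8 (.node 4 (.node 2 (.node 1 (.one ⟨4926, 1, 5⟩) (.one ⟨3615, 0, 4⟩)) (.node 1 (.one ⟨12193, 1, 4⟩) (.one ⟨14150, 3, 6⟩))) (.node 2 (.node 1 (.one ⟨4082, 1, 4⟩) (.one ⟨13300, 2, 4⟩)) (.node 1 (.one ⟨13051, 2, 6⟩) (.one ⟨7381, 1, 4⟩)))) (.node 4 (.node 2 (.node 1 (.one ⟨12842, 0, 5⟩) (.one ⟨1734, 1, 4⟩)) (.node 1 (.one ⟨1702, 2, 3⟩) (.one ⟨1345, 2, 5⟩))) (.node 2 (.node 1 (.one ⟨730, 0, 3⟩) (.one ⟨7996, 2, 6⟩)) (.node 1 (.one ⟨8432, 0, 4⟩) (.one ⟨4473, 1, 4⟩))))) (.node 8 (.node 4 (.node 2 (.node 1 (.one ⟨10860, 2, 4⟩) (.one ⟨8561, 1, 4⟩)) (.node 1 (.one ⟨16072, 2, 4⟩) (.one ⟨13257, 0, 4⟩))) (.node 2 (.node 1 (.one ⟨11694, 2, 4⟩) (.one ⟨13337, 3, 5⟩)) (.node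 1 (.one ⟨15114, 2, 5⟩) (.one ⟨14390, 0, 3⟩)))) (.node 4 (.node 2 (.node 1 (.one ⟨12478, 1, 5⟩) (.one ⟨15883, 0, 4⟩)) (.node 1 (.one ⟨4043, 3, 5⟩) (.one ⟨8436, 0, 5⟩))) (.node 2 (.node 1 (.one ⟨10012, 0, 3⟩) (.one ⟨7309, 0, 5⟩)) (.node 1 (.one ⟨16194, 2, 4⟩) (.one ⟨9319, 1, 3⟩)))))) (.node 16 (.node 8 (.node 4 (.node 2 (.node 1 (.one ⟨15104, 3, 5⟩) (.one ⟨332, 0, 5⟩)) (.node 1 (.one ⟨4373, 1, 4⟩) (.one ⟨4237, 1, 3⟩))) (.node 2 (.node 1 (.one ⟨15482, 1, 4⟩) (.one ⟨10413, 3, 5⟩)) (.node 1 (.one ⟨6237, 0, 3⟩) (.one ⟨7758, 0, 3⟩)))) (.node 4 (.node 2 (.node 1 (.one ⟨11060, 3, 4⟩) (.one ⟨3502, 1, 6⟩)) (.node 1 (.one ⟨1962, 1, 5⟩) (.one ⟨15130, 0, 3⟩))) (.node 2 (.node 1 (.one ⟨14459, 3, 2⟩) (.one ⟨12319, 3, 4⟩)) (.node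 1 (.one ⟨11430, 0, 3⟩) (.one ⟨13061, 1, 5⟩))))) (.node 8 (.node 4 (.node 2 (.node 1 (.one ⟨5391, 3, 5⟩) (.one ⟨3931, 0, 5⟩)) (.node 1 (.one ⟨12131, 1, 5⟩) (.one ⟨4207, 1, 4⟩))) (.node 2 (.node 1 (.one ⟨3592, 3, 5⟩) (.one ⟨5333, 3, 4⟩)) (.node 1 (.one ⟨3418, 3, 5⟩) (.one ⟨6063, 2, 5⟩)))) (.node 4 (.node 2 (.node 1 (.one ⟨14104, 2, 5⟩) (.one ⟨4180, 0, 3⟩)) (.node 1 (.one ⟨1282, 1, 3⟩) (.one ⟨2633, 3, 4⟩))) (.node 2 (.node 1 (.one ⟨10016, 1, 4⟩) (.one ⟨15615, 1, 3⟩)) (.node 1 (.one ⟨9548, 2, 4⟩) (.one ⟨67, 3, 4⟩)))))))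
def par4_8_12 : Arr Par :=
  (.node 32 (.node 16 (.node 8 (.node 4 (.node 2 (.node 1 (.one ⟨13160, 1, 4⟩) (.one ⟨4281, 3, 6⟩)) (.node 1 (.one ⟨12370, 1, 4⟩) (.one ⟨1338, 3, 4⟩))) (.node 2 (.node 1 (.one ⟨15454, 2, 4⟩) (.one ⟨8381, 1, 4⟩)) (.node 1 (.one ⟨9178, 3, 3⟩) (.one ⟨8939, 3, 4⟩)))) (.node 4 (.node 2 (.node 1 (.one ⟨13277, 3, 5⟩) (.one ⟨7968, 2, 5⟩)) (.node 1 (.one ⟨2364, 2, 6⟩) (.one ⟨8900, 0, 5⟩))) (.node 2 (.node 1 (.one ⟨4344, 3, 5⟩) (.one ⟨11497, 2, 2⟩)) (.node 1 (.one ⟨7049, 3, 5⟩) (.one ⟨11369, 1, 4⟩))))) (.node 8 (.node 4 (.node 2 (.node 1 (.one ⟨11706, 2, 6⟩) (.one ⟨13803, 0, 5⟩)) (.node 1 (.one ⟨11269, 1, 4⟩) (.one ⟨5776, 3, 5⟩))) (.node 2 (.node 1 (.one ⟨8956, 1, 5⟩) (.one ⟨6473, 2, 4⟩)) (.node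 1 (.one ⟨1795, 1, 5⟩) (.one ⟨4408, 3, 3⟩)))) (.node 4 (.node 2 (.node 1 (.one ⟨5888, 3, 5⟩) (.one ⟨5975, 2, 4⟩)) (.node 1 (.one ⟨10491, 3, 5⟩) (.one ⟨5673, 3, 4⟩))) (.node 2 (.node 1 (.one ⟨14295, 2, 4⟩) (.one ⟨6302, 0, 5⟩)) (.node 1 (.one ⟨15971, 3, 5⟩) (.one ⟨15167, 1, 5⟩)))))) (.node 16 (.node 8 (.node 4 (.node 2 (.node 1 (.one ⟨15633, 1, 4⟩) (.one ⟨8973, 0, 3⟩)) (.node 1 (.one ⟨1939, 1, 2⟩) (.one ⟨15184, 1, 5⟩))) (.node 2 (.node 1 (.one ⟨1829, 2, 4⟩) (.one ⟨12435, 3, 4⟩)) (.node 1 (.one ⟨15737, 2, 5⟩) (.one ⟨15758, 3, 3⟩)))) (.node 4 (.node 2 (.node 1 (.one ⟨3364, 3, 5⟩) (.one ⟨13517, 0, 5⟩)) (.node 1 (.one ⟨16707, 3, 4⟩) (.one ⟨6067, 2, 4⟩))) (.node 2 (.node 1 (.one ⟨1184, 1, 6⟩) (.one ⟨11261, 1, 3⟩)) (.node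 1 (.one ⟨12350, 0, 5⟩) (.one ⟨7687, 0, 4⟩))))) (.node 8 (.node 4 (.node 2 (.node 1 (.one ⟨3015, 3, 2⟩) (.one ⟨12976, 1, 6⟩)) (.node 1 (.one ⟨2051, 2, 4⟩) (.one ⟨5875, 2, 4⟩))) (.node 2 (.node 1 (.one ⟨11808, 0, 4⟩) (.one ⟨16929, 1, 5⟩)) (.node 1 (.one ⟨1099, 3, 5⟩) (.one ⟨6327, 3, 4⟩)))) (.node 4 (.node 2 (.node 1 (.one ⟨8478, 3, 4⟩) (.one ⟨664, 3, 5⟩)) (.node 1 (.one ⟨11430, 1, 3⟩) (.one ⟨11255, 2, 3⟩))) (.node 2 (.node 1 (.one ⟨8098, 3, 6⟩) (.one ⟨5783, 1, 3⟩)) (.node 1 (.one ⟨3408, 1, 5⟩) (.one ⟨2730, 3, 2⟩)))))))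
def par4_8_13 : Arr Par :=
  (.node 32 (.node 16 (.node 8 (.node 4 (.node 2 (.node 1 (.one ⟨8048, 1, 3⟩) (.one ⟨2729, 3, 4⟩)) (.node 1 (.one ⟨7698, 1, 4⟩) (.one ⟨2728, 3, 1⟩))) (.node 2 (.node 1 (.one ⟨5588, 3, 5⟩) (.one ⟨2727, 3, 4⟩)) (.node 1 (.one ⟨489, 2, 6⟩) (.one ⟨13099, 2, 5⟩)))) (.node 4 (.node 2 (.node 1 (.one ⟨3654, 0, 3⟩) (.one ⟨11518, 0, 4⟩)) (.node 1 (.one ⟨13253, 0, 4⟩) (.one ⟨3636, 0, 6⟩))) (.node 2 (.node 1 (.one ⟨15343, 1, 4⟩) (.one ⟨15870, 2, 5⟩)) (.node 1 (.one ⟨2546, 1, 3⟩) (.one ⟨485, 3, 3⟩))))) (.node 8 (.node 4 (.node 2 (.node 1 (.one ⟨6637, 2, 4⟩) (.one ⟨11479, 1, 5⟩)) (.node 1 (.one ⟨10204, 3, 4⟩) (.one ⟨7692, 2, 5⟩))) (.node 2 (.node 1 (.one ⟨1384, 1, 5⟩) (.one ⟨6604, 2, 5⟩)) (.node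 1 (.one ⟨7817, 3, 5⟩) (.one ⟨3140, 1, 5⟩)))) (.node 4 (.node 2 (.node 1 (.one ⟨12889, 3, 5⟩) (.one ⟨4334, 3, 3⟩)) (.node 1 (.one ⟨16243, 3, 5⟩) (.one ⟨1089, 0, 6⟩))) (.node 2 (.node 1 (.one ⟨14158, 3, 5⟩) (.one ⟨4468, 2, 5⟩)) (.node 1 (.one ⟨4149, 1, 5⟩) (.one ⟨3035, 3, 4⟩)))))) (.node 16 (.node 8 (.node 4 (.node 2 (.node 1 (.one ⟨16860, 0, 5⟩) (.one ⟨16859, 0, 4⟩)) (.node 1 (.one ⟨16861, 0, 5⟩) (.one ⟨7629, 2, 6⟩))) (.node 2 (.node 1 (.one ⟨7216, 1, 6⟩) (.one ⟨14989, 1, 4⟩)) (.node 1 (.one ⟨15879, 2, 5⟩) (.one ⟨13804, 3, 6⟩)))) (.node 4 (.node 2 (.node 1 (.one ⟨1517, 0, 5⟩) (.one ⟨3036, 3, 5⟩)) (.node 1 (.one ⟨13810, 3, 6⟩) (.one ⟨10964, 2, 4⟩))) (.node 2 (.node 1 (.one ⟨16862, 2, 4⟩) (.one ⟨4092, 1, 5⟩)) (.node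 1 (.one ⟨12023, 2, 3⟩) (.one ⟨6709, 0, 3⟩))))) (.node 8 (.node 4 (.node 2 (.node 1 (.one ⟨4670, 0, 4⟩) (.one ⟨6333, 3, 3⟩)) (.node 1 (.one ⟨13845, 1, 3⟩) (.one ⟨16705, 2, 5⟩))) (.node 2 (.node 1 (.one ⟨1060, 2, 4⟩) (.one ⟨15302, 2, 4⟩)) (.node 1 (.one ⟨15633, 0, 4⟩) (.one ⟨11985, 0, 5⟩)))) (.node 4 (.node 2 (.node 1 (.one ⟨8353, 0, 5⟩) (.one ⟨839, 1, 5⟩)) (.node 1 (.one ⟨4991, 2, 5⟩) (.one ⟨8540, 0, 5⟩))) (.node 2 (.node 1 (.one ⟨262, 3, 5⟩) (.one ⟨89, 1, 1⟩)) (.node 1 (.one ⟨4603, 2, 4⟩) (.one ⟨16113, 2, 3⟩)))))))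
def par4_8_14 : Arr Par :=
  (.node 32 (.node 16 (.node 8 (.node 4 (.node 2 (.node 1 (.one ⟨16283, 3, 6⟩) (.one ⟨4366, 2, 4⟩)) (.node 1 (.one ⟨12036, 0, 3⟩) (.one ⟨12073, 0, 4⟩))) (.node 2 (.node 1 (.one ⟨4269, 0, 3⟩) (.one ⟨15650, 1, 3⟩)) (.node 1 (.one ⟨5822, 1, 4⟩) (.one ⟨2474, 2, 4⟩)))) (.node 4 (.node 2 (.node 1 (.one ⟨2282, 3, 3⟩) (.one ⟨6123, 2, 5⟩)) (.node 1 (.one ⟨11803, 3, 4⟩) (.one ⟨1596, 3, 5⟩))) (.node 2 (.node 1 (.one ⟨9571, 3, 6⟩) (.one ⟨12242, 3, 4⟩)) (.node 1 (.one ⟨4336, 3, 4⟩) (.one ⟨8838, 0, 5⟩))))) (.node 8 (.node 4 (.node 2 (.node 1 (.one ⟨11606, 2, 4⟩) (.one ⟨8215, 1, 4⟩)) (.node 1 (.one ⟨1793, 3, 5⟩) (.one ⟨2638, 2, 5⟩))) (.node 2 (.node 1 (.one ⟨11338, 3, 3⟩) (.one ⟨120, 3, 4⟩)) (.node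 1 (.one ⟨9061, 0, 5⟩) (.one ⟨5057, 3, 4⟩)))) (.node 4 (.node 2 (.node 1 (.one ⟨7369, 3, 6⟩) (.one ⟨9435, 1, 5⟩)) (.node 1 (.one ⟨11632, 2, 2⟩) (.one ⟨9015, 1, 5⟩))) (.node 2 (.node 1 (.one ⟨16235, 1, 5⟩) (.one ⟨16672, 3, 5⟩)) (.node 1 (.one ⟨13416, 2, 2⟩) (.one ⟨13564, 1, 4⟩)))))) (.node 16 (.node 8 (.node 4 (.node 2 (.node 1 (.one ⟨13966, 3, 4⟩) (.one ⟨13215, 3, 5⟩)) (.node 1 (.one ⟨13207, 0, 4⟩) (.one ⟨9606, 3, 4⟩))) (.node 2 (.node 1 (.one ⟨4764, 1, 6⟩) (.one ⟨10713, 1, 4⟩)) (.node 1 (.one ⟨6936, 1, 5⟩) (.one ⟨4336, 0, 4⟩)))) (.node 4 (.node 2 (.node 1 (.one ⟨8509, 0, 4⟩) (.one ⟨15868, 2, 5⟩)) (.node 1 (.one ⟨3989, 0, 5⟩) (.one ⟨8876, 2, 4⟩))) (.node 2 (.node 1 (.one ⟨8783, 3, 5⟩) (.one ⟨14273, 3, 4⟩)) (.node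 1 (.one ⟨14227, 0, 5⟩) (.one ⟨13964, 1, 5⟩))))) (.node 8 (.node 4 (.node 2 (.node 1 (.one ⟨9025, 0, 5⟩) (.one ⟨4705, 3, 5⟩)) (.node 1 (.one ⟨10843, 2, 4⟩) (.one ⟨5884, 1, 4⟩))) (.node 2 (.node 1 (.one ⟨14235, 3, 3⟩) (.one ⟨7277, 0, 5⟩)) (.node 1 (.one ⟨6934, 3, 3⟩) (.one ⟨1588, 0, 3⟩)))) (.node 4 (.node 2 (.node 1 (.one ⟨2183, 2, 3⟩) (.one ⟨9152, 3, 5⟩)) (.node 1 (.one ⟨4146, 2, 4⟩) (.one ⟨1095, 2, 3⟩))) (.node 2 (.node 1 (.one ⟨10208, 1, 5⟩) (.one ⟨15014, 3, 2⟩)) (.node 1 (.one ⟨2181, 1, 5⟩) (.one ⟨5520, 3, 5⟩)))))))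
def par4_8_15 : Arr Par :=
  (.node 32 (.node 16 (.node 8 (.node 4 (.node 2 (.node 1 (.one ⟨3567, 3, 4⟩) (.one ⟨7023, 3, 2⟩)) (.node 1 (.one ⟨14528, 2, 6⟩) (.one ⟨5939, 3, 3⟩))) (.node 2 (.node 1 (.one ⟨7291, 3, 5⟩) (.one ⟨5137, 0, 5⟩)) (.node 1 (.one ⟨13741, 2, 5⟩) (.one ⟨16585, 1, 5⟩)))) (.node 4 (.node 2 (.node 1 (.one ⟨674, 1, 4⟩) (.one ⟨6773, 1, 2⟩)) (.node 1 (.one ⟨11648, 0, 4⟩) (.one ⟨9967, 3, 5⟩))) (.node 2 (.node 1 (.one ⟨12040, 0, 5⟩) (.one ⟨3248, 2, 4⟩)) (.node 1 (.one ⟨8501, 1, 5⟩) (.one ⟨3703, 2, 5⟩))))) (.node 8 (.node 4 (.node 2 (.node 1 (.one ⟨12570, 1, 4⟩) (.one ⟨12905, 3, 6⟩)) (.node 1 (.one ⟨12545, 1, 5⟩) (.one ⟨6705, 3, 4⟩))) (.node 2 (.node 1 (.one ⟨11676, 3, 6⟩) (.one ⟨16127, 0, 5⟩)) (.node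 1 (.one ⟨15341, 0, 4⟩) (.one ⟨8197, 1, 4⟩)))) (.node 4 (.node 2 (.node 1 (.one ⟨16263, 1, 1⟩) (.one ⟨8221, 1, 5⟩)) (.node 1 (.one ⟨16271, 1, 2⟩) (.one ⟨13559, 0, 6⟩))) (.node 2 (.node 1 (.one ⟨15205, 2, 6⟩) (.one ⟨13537, 0, 6⟩)) (.node 1 (.one ⟨8196, 3, 4⟩) (.one ⟨16440, 0, 5⟩)))))) (.node 16 (.node 8 (.node 4 (.node 2 (.node 1 (.one ⟨14321, 0, 3⟩) (.one ⟨7945, 0, 3⟩)) (.node 1 (.one ⟨594, 1, 3⟩) (.one ⟨9255, 2, 4⟩))) (.node 2 (.node 1 (.one ⟨9382, 1, 5⟩) (.one ⟨9378, 1, 5⟩)) (.node 1 (.one ⟨12368, 0, 4⟩) (.one ⟨9388, 1, 5⟩)))) (.node 4 (.node 2 (.node 1 (.one ⟨3095, 0, 1⟩) (.one ⟨13343, 0, 4⟩)) (.node 1 (.one ⟨9856, 0, 4⟩) (.one ⟨5078, 2, 4⟩))) (.node 2 (.node 1 (.one ⟨15329, 0, 3⟩) (.one ⟨82, 1, 4⟩)) (.node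 1 (.one ⟨6496, 0, 5⟩) (.one ⟨10877, 0, 3⟩))))) (.node 8 (.node 4 (.node 2 (.node 1 (.one ⟨14125, 2, 5⟩) (.one ⟨4461, 1, 0⟩)) (.node 1 (.one ⟨2694, 2, 4⟩) (.one ⟨9254, 3, 4⟩))) (.node 2 (.node 1 (.one ⟨10876, 0, 5⟩) (.one ⟨6406, 1, 4⟩)) (.node 1 (.one ⟨6445, 1, 5⟩) (.one ⟨89, 0, 1⟩)))) (.node 4 (.node 2 (.node 1 (.one ⟨7245, 2, 4⟩) (.one ⟨2694, 1, 4⟩)) (.node 1 (.one ⟨5130, 0, 3⟩) (.one ⟨14957, 2, 5⟩))) (.node 2 (.node 1 (.one ⟨681, 3, 3⟩) (.one ⟨5500, 2, 2⟩)) (.node 1 (.one ⟨5128, 0, 6⟩) (.one ⟨17077, 3, 5⟩)))))))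
def par4_8 : Arr Par :=
  (.node 512 (.node 256 (.node 128 (.node 64 par4_8_0 par4_8_1) (.node 64 par4_8_2 par4_8_3)) (.node 128 (.node 64 par4_8_4 par4_8_5) (.node 64 par4_8_6 par4_8_7))) (.node 256 (.node 128 (.node 64 par4_8_8 par4_8_9) (.node 64 par4_8_10 par4_8_11)) (.node 128 (.node 64 par4_8_12 par4_8_13) (.node 64 par4_8_14 par4_8_15))))
def par4_9_0 : Arr Par :=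
  (.node 32 (.node 16 (.node 8 (.node 4 (.node 2 (.node 1 (.one ⟨8398, 2, 4⟩) (.one ⟨11359, 0, 1⟩)) (.node 1 (.one ⟨1831, 0, 4⟩) (.one ⟨220, 1, 5⟩))) (.node 2 (.node 1 (.one ⟨13535, 3, 3⟩) (.one ⟨8338, 0, 5⟩)) (.node 1 (.one ⟨5555, 2, 5⟩) (.one ⟨11890, 3, 5⟩)))) (.node 4 (.node 2 (.node 1 (.one ⟨13240, 0, 3⟩) (.one ⟨8438, 2, 5⟩)) (.node 1 (.one ⟨12543, 3, 6⟩) (.one ⟨6757, 2, 5⟩))) (.node 2 (.node 1 (.one ⟨10502, 2, 5⟩) (.one ⟨12957, 0, 3⟩)) (.node 1 (.one ⟨6705, 1, 4⟩) (.one ⟨9988, 3, 5⟩))))) (.node 8 (.node 4 (.node 2 (.node 1 (.one ⟨4839, 2, 6⟩) (.one ⟨6766, 1, 4⟩)) (.node 1 (.one ⟨14860, 1, 4⟩) (.one ⟨2892, 2, 5⟩))) (.node 2 (.node 1 (.one ⟨3493, 3, 5⟩) (.one ⟨11409, 3, 4⟩)) (.node 1 (.one ⟨9974, 3, 4⟩) (.one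 ⟨6558, 3, 5⟩)))) (.node 4 (.node 2 (.node 1 (.one ⟨6752, 3, 5⟩) (.one ⟨7532, 3, 5⟩)) (.node 1 (.one ⟨14787, 2, 4⟩) (.one ⟨1850, 0, 4⟩))) (.node 2 (.node 1 (.one ⟨11168, 0, 4⟩) (.one ⟨11080, 1, 4⟩)) (.node 1 (.one ⟨14148, 3, 5⟩) (.one ⟨5280, 2, 5⟩)))))) (.node 16 (.node 8 (.node 4 (.node 2 (.node 1 (.one ⟨3545, 2, 5⟩) (.one ⟨3207, 2, 4⟩)) (.node 1 (.one ⟨6696, 3, 4⟩) (.one ⟨4723, 2, 5⟩))) (.node 2 (.node 1 (.one ⟨3897, 2, 4⟩) (.one ⟨4136, 3, 3⟩)) (.node 1 (.one ⟨16959, 3, 3⟩) (.one ⟨10488, 0, 3⟩)))) (.node 4 (.node 2 (.node 1 (.one ⟨7435, 2, 5⟩) (.one ⟨4312, 3, 3⟩)) (.node 1 (.one ⟨17128, 3, 4⟩) (.one ⟨6279, 2, 5⟩))) (.node 2 (.node 1 (.one ⟨6701, 2, 5⟩) (.one ⟨10128, 3, 2⟩)) (.node 1 (.one ⟨7048, 3, 4⟩) (.one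 ⟨14964, 2, 6⟩))))) (.node 8 (.node 4 (.node 2 (.node 1 (.one ⟨837, 0, 5⟩) (.one ⟨6504, 1, 5⟩)) (.node 1 (.one ⟨12228, 3, 4⟩) (.one ⟨1023, 3, 4⟩))) (.node 2 (.node 1 (.one ⟨376, 0, 5⟩) (.one ⟨5064, 3, 5⟩)) (.node 1 (.one ⟨14124, 2, 4⟩) (.one ⟨4606, 2, 4⟩)))) (.node 4 (.node 2 (.node 1 (.one ⟨1962, 2, 5⟩) (.one ⟨10493, 3, 4⟩)) (.node 1 (.one ⟨10588, 2, 4⟩) (.one ⟨10326, 2, 5⟩))) (.node 2 (.node 1 (.one ⟨11031, 3, 4⟩) (.one ⟨42, 2, 5⟩)) (.node 1 (.one ⟨3426, 3, 4⟩) (.one ⟨13155, 3, 4⟩)))))))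
def par4_9_1 : Arr Par :=
  (.node 32 (.node 16 (.node 8 (.node 4 (.node 2 (.node 1 (.one ⟨16146, 2, 3⟩) (.one ⟨10411, 3, 5⟩)) (.node 1 (.one ⟨15609, 3, 4⟩) (.one ⟨15139, 0, 2⟩))) (.node 2 (.node 1 (.one ⟨4373, 2, 4⟩) (.one ⟨15037, 0, 4⟩)) (.node 1 (.one ⟨12755, 3, 2⟩) (.one ⟨14235, 2, 3⟩)))) (.node 4 (.node 2 (.node 1 (.one ⟨16146, 3, 3⟩) (.one ⟨17043, 0, 4⟩)) (.node 1 (.one ⟨16977, 1, 4⟩) (.one ⟨7961, 3, 5⟩))) (.node 2 (.node 1 (.one ⟨4710, 3, 2⟩) (.one ⟨4149, 2, 5⟩)) (.node 1 (.one ⟨859, 3, 3⟩) (.one ⟨9299, 1, 5⟩))))) (.node 8 (.node 4 (.node 2 (.node 1 (.one ⟨10644, 0, 3⟩) (.one ⟨9287, 0, 4⟩)) (.node 1 (.one ⟨70, 1, 4⟩) (.one ⟨4130, 0, 4⟩))) (.node 2 (.node 1 (.one ⟨12971, 0, 5⟩) (.one ⟨13504, 0, 4⟩)) (.node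 1 (.one ⟨2131, 2, 3⟩) (.one ⟨11380, 0, 3⟩)))) (.node 4 (.node 2 (.node 1 (.one ⟨5330, 0, 4⟩) (.one ⟨9304, 1, 5⟩)) (.node 1 (.one ⟨11928, 2, 3⟩) (.one ⟨79, 1, 4⟩))) (.node 2 (.node 1 (.one ⟨1799, 0, 1⟩) (.one ⟨11151, 0, 4⟩)) (.node 1 (.one ⟨4660, 0, 5⟩) (.one ⟨13570, 2, 5⟩)))))) (.node 16 (.node 8 (.node 4 (.node 2 (.node 1 (.one ⟨536, 2, 5⟩) (.one ⟨5483, 2, 4⟩)) (.node 1 (.one ⟨2825, 0, 3⟩) (.one ⟨12277, 2, 4⟩))) (.node 2 (.node 1 (.one ⟨2858, 2, 2⟩) (.one ⟨4230, 0, 5⟩)) (.node 1 (.one ⟨13593, 0, 4⟩) (.one ⟨16132, 2, 2⟩)))) (.node 4 (.node 2 (.node 1 (.one ⟨8940, 3, 3⟩) (.one ⟨11928, 0, 3⟩)) (.node 1 (.one ⟨16847, 2, 5⟩) (.one ⟨13388, 3, 4⟩))) (.node 2 (.node 1 (.one ⟨6435, 2, 4⟩) (.one ⟨6940, 2, 5⟩)) (.node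 1 (.one ⟨16275, 2, 4⟩) (.one ⟨6070, 2, 6⟩))))) (.node 8 (.node 4 (.node 2 (.node 1 (.one ⟨8228, 3, 5⟩) (.one ⟨5924, 2, 5⟩)) (.node 1 (.one ⟨7047, 2, 5⟩) (.one ⟨7636, 2, 6⟩))) (.node 2 (.node 1 (.one ⟨7098, 0, 5⟩) (.one ⟨11139, 1, 6⟩)) (.node 1 (.one ⟨3039, 1, 5⟩) (.one ⟨3083, 1, 5⟩)))) (.node 4 (.node 2 (.node 1 (.one ⟨14284, 3, 3⟩) (.one ⟨3643, 2, 6⟩)) (.node 1 (.one ⟨14871, 1, 4⟩) (.one ⟨15759, 3, 4⟩))) (.node 2 (.node 1 (.one ⟨10480, 3, 4⟩) (.one ⟨1748, 2, 6⟩)) (.node 1 (.one ⟨6791, 1, 4⟩) (.one ⟨4905, 0, 5⟩)))))))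
def par4_9_2 : Arr Par :=
  (.node 32 (.node 16 (.node 8 (.node 4 (.node 2 (.node 1 (.one ⟨14946, 2, 4⟩) (.one ⟨15094, 3, 5⟩)) (.node 1 (.one ⟨13084, 3, 3⟩) (.one ⟨14449, 1, 2⟩))) (.node 2 (.node 1 (.one ⟨8048, 3, 3⟩) (.one ⟨4635, 3, 5⟩)) (.node 1 (.one ⟨10741, 2, 5⟩) (.one ⟨8914, 2, 5⟩)))) (.node 4 (.node 2 (.node 1 (.one ⟨10781, 1, 3⟩) (.one ⟨7821, 3, 5⟩)) (.node 1 (.one ⟨339, 3, 6⟩) (.one ⟨7242, 3, 3⟩))) (.node 2 (.node 1 (.one ⟨5237, 3, 4⟩) (.one ⟨3313, 0, 5⟩)) (.node 1 (.one ⟨16161, 3, 4⟩) (.one ⟨2075, 3, 3⟩))))) (.node 8 (.node 4 (.node 2 (.node 1 (.one ⟨13261, 3, 3⟩) (.one ⟨15109, 3, 4⟩)) (.node 1 (.one ⟨8148, 3, 4⟩) (.one ⟨7343, 2, 5⟩))) (.node 2 (.node 1 (.one ⟨15963, 2, 5⟩) (.one ⟨5868, 2, 5⟩)) (.node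 1 (.one ⟨17083, 2, 5⟩) (.one ⟨3971, 2, 5⟩)))) (.node 4 (.node 2 (.node 1 (.one ⟨11077, 2, 4⟩) (.one ⟨4644, 1, 4⟩)) (.node 1 (.one ⟨10762, 2, 5⟩) (.one ⟨1291, 3, 3⟩))) (.node 2 (.node 1 (.one ⟨13436, 3, 3⟩) (.one ⟨16426, 2, 2⟩)) (.node 1 (.one ⟨8252, 3, 3⟩) (.one ⟨4282, 0, 3⟩)))))) (.node 16 (.node 8 (.node 4 (.node 2 (.node 1 (.one ⟨9218, 0, 5⟩) (.one ⟨9492, 1, 5⟩)) (.node 1 (.one ⟨12098, 0, 4⟩) (.one ⟨10950, 2, 3⟩))) (.node 2 (.node 1 (.one ⟨67, 1, 4⟩) (.one ⟨9007, 3, 5⟩)) (.node 1 (.one ⟨12399, 0, 4⟩) (.one ⟨9499, 1, 5⟩)))) (.node 4 (.node 2 (.node 1 (.one ⟨9872, 0, 4⟩) (.one ⟨72, 1, 4⟩)) (.node 1 (.one ⟨12584, 0, 3⟩) (.one ⟨9500, 1, 3⟩))) (.node 2 (.node 1 (.one ⟨9970, 0, 4⟩) (.one ⟨0, 1, 4⟩)) (.node 1 (.one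 ⟨12032, 0, 3⟩) (.one ⟨1557, 3, 4⟩))))) (.node 8 (.node 4 (.node 2 (.node 1 (.one ⟨13947, 1, 4⟩) (.one ⟨5929, 1, 4⟩)) (.node 1 (.one ⟨6445, 3, 5⟩) (.one ⟨10159, 1, 5⟩))) (.node 2 (.node 1 (.one ⟨6383, 3, 5⟩) (.one ⟨10196, 1, 5⟩)) (.node 1 (.one ⟨13496, 2, 5⟩) (.one ⟨12922, 2, 4⟩)))) (.node 4 (.node 2 (.node 1 (.one ⟨3171, 2, 5⟩) (.one ⟨11554, 2, 4⟩)) (.node 1 (.one ⟨10239, 1, 4⟩) (.one ⟨1089, 2, 6⟩))) (.node 2 (.node 1 (.one ⟨2388, 0, 3⟩) (.one ⟨11560, 0, 5⟩)) (.node 1 (.one ⟨10171, 2, 4⟩) (.one ⟨6574, 3, 5⟩)))))))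
def par4_9_3 : Arr Par :=
  (.node 32 (.node 16 (.node 8 (.node 4 (.node 2 (.node 1 (.one ⟨5693, 1, 2⟩) (.one ⟨2978, 0, 5⟩)) (.node 1 (.one ⟨2093, 3, 4⟩) (.one ⟨15804, 2, 3⟩))) (.node 2 (.node 1 (.one ⟨13701, 3, 4⟩) (.one ⟨6617, 2, 5⟩)) (.node 1 (.one ⟨5718, 1, 5⟩) (.one ⟨16595, 0, 5⟩)))) (.node 4 (.node 2 (.node 1 (.one ⟨1206, 3, 5⟩) (.one ⟨6406, 3, 4⟩)) (.node 1 (.one ⟨2107, 3, 5⟩) (.one ⟨2141, 3, 3⟩))) (.node 2 (.node 1 (.one ⟨8427, 2, 5⟩) (.one ⟨16802, 2, 5⟩)) (.node 1 (.one ⟨6470, 3, 5⟩) (.one ⟨5077, 1, 4⟩))))) (.node 8 (.node 4 (.node 2 (.node 1 (.one ⟨5048, 1, 4⟩) (.one ⟨12780, 3, 3⟩)) (.node 1 (.one ⟨13531, 2, 5⟩) (.one ⟨13105, 1, 5⟩))) (.node 2 (.node 1 (.one ⟨13614, 0, 3⟩) (.one ⟨2493, 0, 4⟩)) (.node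 1 (.one ⟨16041, 3, 2⟩) (.one ⟨3061, 2, 3⟩)))) (.node 4 (.node 2 (.node 1 (.one ⟨3061, 3, 3⟩) (.one ⟨15878, 0, 5⟩)) (.node 1 (.one ⟨6929, 3, 2⟩) (.one ⟨5726, 3, 4⟩))) (.node 2 (.node 1 (.one ⟨9025, 1, 5⟩) (.one ⟨956, 3, 3⟩)) (.node 1 (.one ⟨13156, 1, 5⟩) (.one ⟨11942, 1, 5⟩)))))) (.node 16 (.node 8 (.node 4 (.node 2 (.node 1 (.one ⟨1689, 3, 5⟩) (.one ⟨8482, 3, 5⟩)) (.node 1 (.one ⟨9336, 3, 4⟩) (.one ⟨6401, 2, 4⟩))) (.node 2 (.node 1 (.one ⟨3828, 1, 1⟩) (.one ⟨14426, 0, 5⟩)) (.node 1 (.one ⟨4877, 3, 3⟩) (.one ⟨12912, 3, 6⟩)))) (.node 4 (.node 2 (.node 1 (.one ⟨5761, 3, 4⟩) (.one ⟨12258, 2, 5⟩)) (.node 1 (.one ⟨3838, 2, 5⟩) (.one ⟨8121, 0, 5⟩))) (.node 2 (.node 1 (.one ⟨7774, 1, 5⟩) (.one ⟨674, 2, 4⟩)) (.node 1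 (.one ⟨7851, 1, 5⟩) (.one ⟨10917, 3, 5⟩))))) (.node 8 (.node 4 (.node 2 (.node 1 (.one ⟨10181, 2, 5⟩) (.one ⟨1497, 3, 4⟩)) (.node 1 (.one ⟨1984, 1, 4⟩) (.one ⟨1984, 2, 4⟩))) (.node 2 (.node 1 (.one ⟨92, 3, 3⟩) (.one ⟨16, 0, 3⟩)) (.node 1 (.one ⟨91, 0, 5⟩) (.one ⟨14123, 2, 6⟩)))) (.node 4 (.node 2 (.node 1 (.one ⟨1700, 0, 5⟩) (.one ⟨3436, 3, 4⟩)) (.node 1 (.one ⟨13067, 3, 4⟩) (.one ⟨6596, 2, 5⟩))) (.node 2 (.node 1 (.one ⟨2050, 3, 3⟩) (.one ⟨5438, 3, 5⟩)) (.node 1 (.one ⟨7882, 2, 4⟩) (.one ⟨16338, 3, 4⟩)))))))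
def par4_9_4 : Arr Par :=
  (.node 32 (.node 16 (.node 8 (.node 4 (.node 2 (.node 1 (.one ⟨9554, 3, 4⟩) (.one ⟨16233, 2, 4⟩)) (.node 1 (.one ⟨6500, 2, 5⟩) (.one ⟨6137, 3, 2⟩))) (.node 2 (.node 1 (.one ⟨4058, 3, 3⟩) (.one ⟨15681, 2, 5⟩)) (.node 1 (.one ⟨6093, 2, 4⟩) (.one ⟨4187, 2, 5⟩)))) (.node 4 (.node 2 (.node 1 (.one ⟨10465, 2, 5⟩) (.one ⟨5656, 3, 4⟩)) (.node 1 (.one ⟨16130, 2, 2⟩) (.one ⟨3871, 2, 4⟩))) (.node 2 (.node 1 (.one ⟨9567, 2, 5⟩) (.one ⟨6432, 2, 2⟩)) (.node 1 (.one ⟨10088, 3, 4⟩) (.one ⟨13520, 0, 4⟩))))) (.node 8 (.node 4 (.node 2 (.node 1 (.one ⟨10033, 0, 4⟩) (.one ⟨14062, 0, 5⟩)) (.node 1 (.one ⟨17197, 0, 5⟩) (.one ⟨9431, 0, 4⟩))) (.node 2 (.node 1 (.one ⟨13111, 0, 4⟩) (.one ⟨10488, 2, 3⟩)) (.node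 1 (.one ⟨592, 1, 4⟩) (.one ⟨5183, 0, 4⟩)))) (.node 4 (.node 2 (.node 1 (.one ⟨9194, 1, 5⟩) (.one ⟨16222, 0, 5⟩)) (.node 1 (.one ⟨14798, 0, 3⟩) (.one ⟨1914, 0, 4⟩))) (.node 2 (.node 1 (.one ⟨9192, 1, 2⟩) (.one ⟨73, 1, 4⟩)) (.node 1 (.one ⟨80, 1, 3⟩) (.one ⟨2907, 0, 4⟩)))))) (.node 16 (.node 8 (.node 4 (.node 2 (.node 1 (.one ⟨15512, 1, 3⟩) (.one ⟨15531, 1, 4⟩)) (.node 1 (.one ⟨10764, 3, 5⟩) (.one ⟨8123, 2, 4⟩))) (.node 2 (.node 1 (.one ⟨16609, 2, 4⟩) (.one ⟨7422, 1, 6⟩)) (.node 1 (.one ⟨2138, 3, 4⟩) (.one ⟨14076, 3, 5⟩)))) (.node 4 (.node 2 (.node 1 (.one ⟨3444, 1, 4⟩) (.one ⟨13844, 3, 4⟩)) (.node 1 (.one ⟨9303, 3, 4⟩) (.one ⟨11516, 1, 3⟩))) (.node 2 (.node 1 (.one ⟨16929, 2, 5⟩) (.one ⟨13698, 3, 3⟩)) (.node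 1 (.one ⟨6338, 2, 5⟩) (.one ⟨4197, 0, 4⟩))))) (.node 8 (.node 4 (.node 2 (.node 1 (.one ⟨8306, 2, 6⟩) (.one ⟨12689, 1, 3⟩)) (.node 1 (.one ⟨7676, 0, 4⟩) (.one ⟨8523, 1, 4⟩))) (.node 2 (.node 1 (.one ⟨5898, 3, 3⟩) (.one ⟨6754, 3, 3⟩)) (.node 1 (.one ⟨4612, 1, 3⟩) (.one ⟨11349, 3, 4⟩)))) (.node 4 (.node 2 (.node 1 (.one ⟨16122, 3, 5⟩) (.one ⟨573, 3, 4⟩)) (.node 1 (.one ⟨9098, 3, 5⟩) (.one ⟨12710, 1, 6⟩))) (.node 2 (.node 1 (.one ⟨1544, 3, 4⟩) (.one ⟨16619, 1, 6⟩)) (.node 1 (.one ⟨8330, 0, 5⟩) (.one ⟨5540, 0, 5⟩)))))))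
def par4_9_5 : Arr Par :=
  (.node 32 (.node 16 (.node 8 (.node 4 (.node 2 (.node 1 (.one ⟨5536, 0, 6⟩) (.one ⟨1669, 1, 4⟩)) (.node 1 (.one ⟨10862, 3, 6⟩) (.one ⟨5537, 0, 5⟩))) (.node 2 (.node 1 (.one ⟨9759, 1, 5⟩) (.one ⟨1055, 1, 0⟩)) (.node 1 (.one ⟨1616, 1, 5⟩) (.one ⟨14076, 1, 5⟩)))) (.node 4 (.node 2 (.node 1 (.one ⟨6060, 1, 3⟩) (.one ⟨5030, 3, 5⟩)) (.node 1 (.one ⟨5966, 1, 1⟩) (.one ⟨545, 3, 5⟩))) (.node 2 (.node 1 (.one ⟨10877, 3, 3⟩) (.one ⟨11034, 0, 5⟩)) (.node 1 (.one ⟨2361, 3, 6⟩) (.one ⟨488, 3, 3⟩))))) (.node 8 (.node 4 (.node 2 (.node 1 (.one ⟨13424, 0, 4⟩) (.one ⟨7772, 3, 6⟩)) (.node 1 (.one ⟨2183, 3, 3⟩) (.one ⟨13528, 2, 4⟩))) (.node 2 (.node 1 (.one ⟨9981, 0, 2⟩) (.one ⟨5998, 1, 4⟩)) (.node 1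 (.one ⟨2176, 3, 4⟩) (.one ⟨6042, 2, 2⟩)))) (.node 4 (.node 2 (.node 1 (.one ⟨1588, 1, 3⟩) (.one ⟨8245, 0, 4⟩)) (.node 1 (.one ⟨15003, 3, 3⟩) (.one ⟨5306, 3, 4⟩))) (.node 2 (.node 1 (.one ⟨7211, 3, 5⟩) (.one ⟨12775, 3, 4⟩)) (.node 1 (.one ⟨15013, 3, 5⟩) (.one ⟨3813, 1, 4⟩)))))) (.node 16 (.node 8 (.node 4 (.node 2 (.node 1 (.one ⟨5332, 2, 4⟩) (.one ⟨11861, 3, 6⟩)) (.node 1 (.one ⟨11060, 1, 4⟩) (.one ⟨5334, 2, 5⟩))) (.node 2 (.node 1 (.one ⟨3552, 0, 5⟩) (.one ⟨4618, 1, 5⟩)) (.node 1 (.one ⟨249, 2, 5⟩) (.one ⟨10349, 3, 4⟩)))) (.node 4 (.node 2 (.node 1 (.one ⟨14849, 3, 5⟩) (.one ⟨14415, 2, 4⟩)) (.node 1 (.one ⟨15037, 2, 4⟩) (.one ⟨706, 1, 5⟩))) (.node 2 (.node 1 (.one ⟨9575, 1, 5⟩) (.one ⟨11126, 1, 5⟩)) (.node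 1 (.one ⟨14264, 2, 6⟩) (.one ⟨7304, 3, 3⟩))))) (.node 8 (.node 4 (.node 2 (.node 1 (.one ⟨6091, 3, 4⟩) (.one ⟨15542, 2, 5⟩)) (.node 1 (.one ⟨8341, 1, 2⟩) (.one ⟨8334, 1, 3⟩))) (.node 2 (.node 1 (.one ⟨7822, 3, 6⟩) (.one ⟨14912, 0, 4⟩)) (.node 1 (.one ⟨6126, 0, 5⟩) (.one ⟨336, 2, 4⟩)))) (.node 4 (.node 2 (.node 1 (.one ⟨2891, 2, 3⟩) (.one ⟨3990, 1, 5⟩)) (.node 1 (.one ⟨6753, 3, 3⟩) (.one ⟨15914, 3, 3⟩))) (.node 2 (.node 1 (.one ⟨12075, 1, 4⟩) (.one ⟨11539, 3, 4⟩)) (.node 1 (.one ⟨3977, 1, 2⟩) (.one ⟨12792, 0, 6⟩)))))))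
def par4_9_6 : Arr Par :=
  (.node 32 (.node 16 (.node 8 (.node 4 (.node 2 (.node 1 (.one ⟨12917, 3, 4⟩) (.one ⟨15259, 0, 4⟩)) (.node 1 (.one ⟨7709, 3, 3⟩) (.one ⟨12973, 2, 4⟩))) (.node 2 (.node 1 (.one ⟨4349, 2, 4⟩) (.one ⟨293, 1, 0⟩)) (.node 1 (.one ⟨12256, 2, 3⟩) (.one ⟨8163, 3, 4⟩)))) (.node 4 (.node 2 (.node 1 (.one ⟨16460, 3, 4⟩) (.one ⟨9686, 0, 5⟩)) (.node 1 (.one ⟨9411, 0, 4⟩) (.one ⟨15383, 3, 6⟩))) (.node 2 (.node 1 (.one ⟨14656, 0, 4⟩) (.one ⟨2844, 0, 6⟩)) (.node 1 (.one ⟨9602, 3, 4⟩) (.one ⟨9498, 3, 4⟩))))) (.node 8 (.node 4 (.node 2 (.node 1 (.one ⟨15449, 1, 6⟩) (.one ⟨14544, 3, 5⟩)) (.node 1 (.one ⟨1105, 0, 5⟩) (.one ⟨10475, 3, 5⟩))) (.node 2 (.node 1 (.one ⟨9935, 3, 6⟩) (.one ⟨9949, 2, 5⟩)) (.node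 1 (.one ⟨15536, 0, 4⟩) (.one ⟨8501, 0, 5⟩)))) (.node 4 (.node 2 (.node 1 (.one ⟨9663, 3, 4⟩) (.one ⟨15298, 0, 5⟩)) (.node 1 (.one ⟨14604, 3, 5⟩) (.one ⟨13423, 2, 4⟩))) (.node 2 (.node 1 (.one ⟨3025, 2, 4⟩) (.one ⟨7404, 1, 5⟩)) (.node 1 (.one ⟨3621, 2, 5⟩) (.one ⟨3090, 1, 3⟩)))))) (.node 16 (.node 8 (.node 4 (.node 2 (.node 1 (.one ⟨1136, 0, 3⟩) (.one ⟨15037, 3, 4⟩)) (.node 1 (.one ⟨14164, 0, 5⟩) (.one ⟨4363, 3, 6⟩))) (.node 2 (.node 1 (.one ⟨7769, 1, 5⟩) (.one ⟨11541, 0, 5⟩)) (.node 1 (.one ⟨16426, 3, 2⟩) (.one ⟨3659, 2, 4⟩)))) (.node 4 (.node 2 (.node 1 (.one ⟨8402, 3, 1⟩) (.one ⟨2367, 2, 6⟩)) (.node 1 (.one ⟨8554, 1, 4⟩) (.one ⟨9803, 2, 4⟩))) (.node 2 (.node 1 (.one ⟨17074, 2, 4⟩) (.one ⟨16610, 1, 4⟩)) (.node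 1 (.one ⟨8390, 3, 6⟩) (.one ⟨3287, 0, 1⟩))))) (.node 8 (.node 4 (.node 2 (.node 1 (.one ⟨16521, 0, 5⟩) (.one ⟨13780, 3, 6⟩)) (.node 1 (.one ⟨12110, 1, 5⟩) (.one ⟨7512, 1, 5⟩))) (.node 2 (.node 1 (.one ⟨14597, 3, 6⟩) (.one ⟨11949, 2, 5⟩)) (.node 1 (.one ⟨10009, 3, 5⟩) (.one ⟨14937, 0, 5⟩)))) (.node 4 (.node 2 (.node 1 (.one ⟨5956, 3, 4⟩) (.one ⟨17134, 0, 6⟩)) (.node 1 (.one ⟨2922, 2, 4⟩) (.one ⟨12582, 3, 3⟩))) (.node 2 (.node 1 (.one ⟨5225, 2, 3⟩) (.one ⟨4324, 0, 5⟩)) (.node 1 (.one ⟨14919, 1, 3⟩) (.one ⟨15268, 0, 3⟩)))))))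
def par4_9_7 : Arr Par :=
  (.node 32 (.node 16 (.node 8 (.node 4 (.node 2 (.node 1 (.one ⟨4047, 3, 4⟩) (.one ⟨1227, 3, 6⟩)) (.node 1 (.one ⟨834, 3, 5⟩) (.one ⟨624, 0, 4⟩))) (.node 2 (.node 1 (.one ⟨2980, 3, 4⟩) (.one ⟨5479, 3, 5⟩)) (.node 1 (.one ⟨5892, 2, 4⟩) (.one ⟨8470, 2, 6⟩)))) (.node 4 (.node 2 (.node 1 (.one ⟨9675, 2, 5⟩) (.one ⟨4823, 2, 4⟩)) (.node 1 (.one ⟨13942, 3, 6⟩) (.one ⟨3880, 3, 4⟩))) (.node 2 (.node 1 (.one ⟨5802, 1, 5⟩) (.one ⟨9336, 2, 4⟩)) (.node 1 (.one ⟨5963, 0, 3⟩) (.one ⟨5050, 2, 5⟩))))) (.node 8 (.node 4 (.node 2 (.node 1 (.one ⟨2291, 2, 4⟩) (.one ⟨7227, 0, 4⟩)) (.node 1 (.one ⟨9146, 1, 5⟩) (.one ⟨1670, 3, 5⟩))) (.node 2 (.node 1 (.one ⟨2862, 1, 5⟩) (.one ⟨7951, 3, 5⟩)) (.node 1 (.one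 ⟨6908, 3, 4⟩) (.one ⟨2047, 1, 3⟩)))) (.node 4 (.node 2 (.node 1 (.one ⟨1763, 2, 4⟩) (.one ⟨16690, 2, 3⟩)) (.node 1 (.one ⟨15990, 3, 5⟩) (.one ⟨11205, 0, 4⟩))) (.node 2 (.node 1 (.one ⟨14709, 1, 5⟩) (.one ⟨11199, 0, 3⟩)) (.node 1 (.one ⟨8165, 1, 6⟩) (.one ⟨11172, 3, 6⟩)))))) (.node 16 (.node 8 (.node 4 (.node 2 (.node 1 (.one ⟨2971, 1, 3⟩) (.one ⟨12616, 0, 4⟩)) (.node 1 (.one ⟨3565, 3, 4⟩) (.one ⟨7048, 1, 4⟩))) (.node 2 (.node 1 (.one ⟨4832, 0, 5⟩) (.one ⟨3087, 1, 4⟩)) (.node 1 (.one ⟨11658, 2, 5⟩) (.one ⟨2916, 3, 3⟩)))) (.node 4 (.node 2 (.node 1 (.one ⟨9213, 0, 3⟩) (.one ⟨7189, 3, 5⟩)) (.node 1 (.one ⟨16692, 2, 5⟩) (.one ⟨11410, 3, 5⟩))) (.node 2 (.node 1 (.one ⟨2731, 0, 3⟩) (.one ⟨13535, 1, 3⟩)) (.node 1 (.one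 ⟨13745, 3, 4⟩) (.one ⟨3729, 3, 3⟩))))) (.node 8 (.node 4 (.node 2 (.node 1 (.one ⟨223, 0, 4⟩) (.one ⟨6194, 3, 6⟩)) (.node 1 (.one ⟨16118, 3, 5⟩) (.one ⟨13068, 3, 4⟩))) (.node 2 (.node 1 (.one ⟨11051, 1, 5⟩) (.one ⟨15276, 3, 3⟩)) (.node 1 (.one ⟨8745, 3, 5⟩) (.one ⟨12401, 2, 4⟩)))) (.node 4 (.node 2 (.node 1 (.one ⟨4884, 0, 4⟩) (.one ⟨3917, 1, 2⟩)) (.node 1 (.one ⟨5555, 3, 5⟩) (.one ⟨12990, 3, 5⟩))) (.node 2 (.node 1 (.one ⟨2838, 1, 5⟩) (.one ⟨7232, 3, 5⟩)) (.node 1 (.one ⟨16590, 3, 5⟩) (.one ⟨2690, 2, 3⟩)))))))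
def par4_9_8 : Arr Par :=
  (.node 32 (.node 16 (.node 8 (.node 4 (.node 2 (.node 1 (.one ⟨13807, 1, 6⟩) (.one ⟨1919, 1, 5⟩)) (.node 1 (.one ⟨6933, 1, 5⟩) (.one ⟨14740, 1, 5⟩))) (.node 2 (.node 1 (.one ⟨3619, 0, 3⟩) (.one ⟨10120, 2, 4⟩)) (.node 1 (.one ⟨3029, 1, 5⟩) (.one ⟨6862, 2, 4⟩)))) (.node 4 (.node 2 (.node 1 (.one ⟨1973, 1, 4⟩) (.one ⟨12392, 1, 5⟩)) (.node 1 (.one ⟨13195, 3, 5⟩) (.one ⟨14759, 3, 3⟩))) (.node 2 (.node 1 (.one ⟨2441, 3, 3⟩) (.one ⟨7176, 3, 4⟩)) (.node 1 (.one ⟨9887, 3, 3⟩) (.one ⟨12932, 1, 5⟩))))) (.node 8 (.node 4 (.node 2 (.node 1 (.one ⟨14175, 3, 3⟩) (.one ⟨13098, 1, 5⟩)) (.node 1 (.one ⟨16550, 3, 5⟩) (.one ⟨4053, 0, 4⟩))) (.node 2 (.node 1 (.one ⟨12977, 0, 5⟩) (.one ⟨14644, 2, 5⟩))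 (.node 1 (.one ⟨14659, 2, 4⟩) (.one ⟨8451, 1, 5⟩)))) (.node 4 (.node 2 (.node 1 (.one ⟨15657, 0, 6⟩) (.one ⟨10468, 3, 5⟩)) (.node 1 (.one ⟨11510, 3, 4⟩) (.one ⟨5700, 1, 5⟩))) (.node 2 (.node 1 (.one ⟨12833, 3, 5⟩) (.one ⟨11119, 1, 3⟩)) (.node 1 (.one ⟨1271, 1, 5⟩) (.one ⟨13119, 3, 4⟩)))))) (.node 16 (.node 8 (.node 4 (.node 2 (.node 1 (.one ⟨2960, 3, 4⟩) (.one ⟨929, 3, 4⟩)) (.node 1 (.one ⟨12452, 3, 5⟩) (.one ⟨4681, 0, 1⟩))) (.node 2 (.node 1 (.one ⟨5204, 1, 5⟩) (.one ⟨11151, 3, 4⟩)) (.node 1 (.one ⟨5183, 3, 4⟩) (.one ⟨2991, 3, 5⟩)))) (.node 4 (.node 2 (.node 1 (.one ⟨2934, 3, 5⟩) (.one ⟨5800, 1, 5⟩)) (.node 1 (.one ⟨997, 0, 4⟩) (.one ⟨9507, 3, 5⟩))) (.node 2 (.node 1 (.one ⟨3809, 2, 4⟩) (.one ⟨5766, 1, 4⟩))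 (.node 1 (.one ⟨5907, 2, 3⟩) (.one ⟨5618, 0, 6⟩))))) (.node 8 (.node 4 (.node 2 (.node 1 (.one ⟨2481, 3, 4⟩) (.one ⟨15899, 0, 2⟩)) (.node 1 (.one ⟨12440, 2, 4⟩) (.one ⟨11319, 0, 4⟩))) (.node 2 (.node 1 (.one ⟨14218, 2, 5⟩) (.one ⟨6068, 3, 4⟩)) (.node 1 (.one ⟨4088, 3, 6⟩) (.one ⟨8029, 3, 5⟩)))) (.node 4 (.node 2 (.node 1 (.one ⟨11769, 0, 2⟩) (.one ⟨3721, 2, 4⟩)) (.node 1 (.one ⟨16521, 1, 5⟩) (.one ⟨7724, 0, 4⟩))) (.node 2 (.node 1 (.one ⟨7563, 3, 5⟩) (.one ⟨3994, 3, 5⟩)) (.node 1 (.one ⟨13448, 1, 4⟩) (.one ⟨15016, 3, 4⟩)))))))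
def par4_9_9 : Arr Par :=
  (.node 32 (.node 16 (.node 8 (.node 4 (.node 2 (.node 1 (.one ⟨16368, 2, 4⟩) (.one ⟨233, 3, 6⟩)) (.node 1 (.one ⟨10394, 3, 3⟩) (.one ⟨12256, 0, 3⟩))) (.node 2 (.node 1 (.one ⟨14032, 2, 4⟩) (.one ⟨5683, 3, 4⟩)) (.node 1 (.one ⟨14493, 3, 5⟩) (.one ⟨14342, 1, 4⟩)))) (.node 4 (.node 2 (.node 1 (.one ⟨848, 2, 5⟩) (.one ⟨1062, 3, 5⟩)) (.node 1 (.one ⟨12127, 1, 4⟩) (.one ⟨2690, 0, 3⟩))) (.node 2 (.node 1 (.one ⟨14584, 0, 4⟩) (.one ⟨6033, 1, 5⟩)) (.node 1 (.one ⟨6223, 0, 4⟩) (.one ⟨9185, 3, 4⟩))))) (.node 8 (.node 4 (.node 2 (.node 1 (.one ⟨15419, 3, 5⟩) (.one ⟨4477, 1, 6⟩)) (.node 1 (.one ⟨3311, 2, 5⟩) (.one ⟨16591, 2, 5⟩))) (.node 2 (.node 1 (.one ⟨5993, 2, 3⟩) (.one ⟨378, 3, 3⟩)) (.node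 1 (.one ⟨14038, 2, 5⟩) (.one ⟨9375, 3, 4⟩)))) (.node 4 (.node 2 (.node 1 (.one ⟨4795, 1, 4⟩) (.one ⟨5986, 3, 5⟩)) (.node 1 (.one ⟨5620, 0, 5⟩) (.one ⟨14116, 3, 3⟩))) (.node 2 (.node 1 (.one ⟨6493, 0, 2⟩) (.one ⟨15281, 0, 5⟩)) (.node 1 (.one ⟨8838, 1, 5⟩) (.one ⟨2712, 3, 5⟩)))))) (.node 16 (.node 8 (.node 4 (.node 2 (.node 1 (.one ⟨11453, 0, 4⟩) (.one ⟨1135, 2, 5⟩)) (.node 1 (.one ⟨4923, 1, 5⟩) (.one ⟨5539, 3, 5⟩))) (.node 2 (.node 1 (.one ⟨8753, 3, 4⟩) (.one ⟨10352, 1, 4⟩)) (.node 1 (.one ⟨13501, 2, 5⟩) (.one ⟨10997, 0, 3⟩)))) (.node 4 (.node 2 (.node 1 (.one ⟨2063, 2, 5⟩) (.one ⟨963, 0, 5⟩)) (.node 1 (.one ⟨6761, 3, 5⟩) (.one ⟨7037, 3, 4⟩))) (.node 2 (.node 1 (.one ⟨16470, 0, 5⟩) (.one ⟨7559, 3, 5⟩)) (.node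 1 (.one ⟨2404, 3, 4⟩) (.one ⟨4440, 3, 4⟩))))) (.node 8 (.node 4 (.node 2 (.node 1 (.one ⟨13755, 2, 4⟩) (.one ⟨6868, 3, 5⟩)) (.node 1 (.one ⟨8357, 2, 4⟩) (.one ⟨10605, 3, 4⟩))) (.node 2 (.node 1 (.one ⟨1060, 3, 4⟩) (.one ⟨7823, 2, 4⟩)) (.node 1 (.one ⟨8935, 3, 4⟩) (.one ⟨6785, 3, 3⟩)))) (.node 4 (.node 2 (.node 1 (.one ⟨16266, 3, 3⟩) (.one ⟨1386, 3, 5⟩)) (.node 1 (.one ⟨13191, 3, 5⟩) (.one ⟨749, 1, 4⟩))) (.node 2 (.node 1 (.one ⟨14363, 3, 4⟩) (.one ⟨3572, 3, 2⟩)) (.node 1 (.one ⟨11419, 3, 3⟩) (.one ⟨16584, 3, 4⟩)))))))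
def par4_9_10 : Arr Par :=
  (.node 32 (.node 16 (.node 8 (.node 4 (.node 2 (.node 1 (.one ⟨2084, 0, 3⟩) (.one ⟨4115, 0, 4⟩)) (.node 1 (.one ⟨7641, 2, 5⟩) (.one ⟨1907, 3, 4⟩))) (.node 2 (.node 1 (.one ⟨10794, 1, 4⟩) (.one ⟨3628, 3, 5⟩)) (.node 1 (.one ⟨3141, 0, 5⟩) (.one ⟨8924, 0, 4⟩)))) (.node 4 (.node 2 (.node 1 (.one ⟨16655, 2, 5⟩) (.one ⟨6049, 2, 5⟩)) (.node 1 (.one ⟨16681, 2, 4⟩) (.one ⟨806, 1, 4⟩))) (.node 2 (.node 1 (.one ⟨6062, 2, 6⟩) (.one ⟨8708, 1, 4⟩)) (.node 1 (.one ⟨6107, 3, 5⟩) (.one ⟨8733, 3, 5⟩))))) (.node 8 (.node 4 (.node 2 (.node 1 (.one ⟨2084, 1, 3⟩) (.one ⟨12415, 1, 5⟩)) (.node 1 (.one ⟨526, 1, 5⟩) (.one ⟨7324, 2, 4⟩))) (.node 2 (.node 1 (.one ⟨16506, 3, 5⟩) (.one ⟨16690, 1, 3⟩)) (.node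 1 (.one ⟨12881, 3, 3⟩) (.one ⟨13499, 1, 4⟩)))) (.node 4 (.node 2 (.node 1 (.one ⟨11986, 2, 5⟩) (.one ⟨52, 0, 4⟩)) (.node 1 (.one ⟨8942, 0, 4⟩) (.one ⟨542, 0, 4⟩))) (.node 2 (.node 1 (.one ⟨2545, 3, 3⟩) (.one ⟨16805, 3, 5⟩)) (.node 1 (.one ⟨10591, 2, 4⟩) (.one ⟨9308, 2, 2⟩)))))) (.node 16 (.node 8 (.node 4 (.node 2 (.node 1 (.one ⟨1594, 1, 4⟩) (.one ⟨16273, 2, 5⟩)) (.node 1 (.one ⟨6536, 3, 4⟩) (.one ⟨12437, 1, 4⟩))) (.node 2 (.node 1 (.one ⟨9428, 3, 4⟩) (.one ⟨7800, 0, 4⟩)) (.node 1 (.one ⟨6405, 3, 5⟩) (.one ⟨4059, 3, 5⟩)))) (.node 4 (.node 2 (.node 1 (.one ⟨8246, 1, 5⟩) (.one ⟨12203, 3, 5⟩)) (.node 1 (.one ⟨1215, 0, 4⟩) (.one ⟨15722, 0, 5⟩))) (.node 2 (.node 1 (.one ⟨8930, 2, 5⟩) (.one ⟨15152, 1, 4⟩)) (.node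 1 (.one ⟨1330, 3, 4⟩) (.one ⟨7851, 3, 5⟩))))) (.node 8 (.node 4 (.node 2 (.node 1 (.one ⟨17018, 2, 5⟩) (.one ⟨4344, 0, 5⟩)) (.node 1 (.one ⟨12475, 3, 5⟩) (.one ⟨12691, 1, 5⟩))) (.node 2 (.node 1 (.one ⟨9633, 3, 5⟩) (.one ⟨8963, 1, 5⟩)) (.node 1 (.one ⟨5175, 3, 3⟩) (.one ⟨3977, 3, 2⟩)))) (.node 4 (.node 2 (.node 1 (.one ⟨5859, 1, 4⟩) (.one ⟨13050, 0, 4⟩)) (.node 1 (.one ⟨11895, 3, 6⟩) (.one ⟨13860, 1, 5⟩))) (.node 2 (.node 1 (.one ⟨980, 2, 6⟩) (.one ⟨13045, 0, 4⟩)) (.node 1 (.one ⟨13401, 3, 5⟩) (.one ⟨16000, 0, 3⟩)))))))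
def par4_9_11 : Arr Par :=
  (.node 32 (.node 16 (.node 8 (.node 4 (.node 2 (.node 1 (.one ⟨5860, 1, 5⟩) (.one ⟨3090, 3, 3⟩)) (.node 1 (.one ⟨5761, 1, 4⟩) (.one ⟨4556, 3, 4⟩))) (.node 2 (.node 1 (.one ⟨3138, 0, 4⟩) (.one ⟨13870, 2, 5⟩)) (.node 1 (.one ⟨1690, 1, 5⟩) (.one ⟨2858, 3, 2⟩)))) (.node 4 (.node 2 (.node 1 (.one ⟨1088, 2, 5⟩) (.one ⟨14348, 3, 3⟩)) (.node 1 (.one ⟨16905, 2, 5⟩) (.one ⟨15514, 3, 4⟩))) (.node 2 (.node 1 (.one ⟨16866, 3, 4⟩) (.one ⟨1440, 3, 5⟩)) (.node 1 (.one ⟨15848, 2, 4⟩) (.one ⟨7299, 1, 5⟩))))) (.node 8 (.node 4 (.node 2 (.node 1 (.one ⟨11127, 0, 4⟩) (.one ⟨8778, 0, 5⟩)) (.node 1 (.one ⟨14620, 3, 4⟩) (.one ⟨1280, 3, 5⟩))) (.node 2 (.node 1 (.one ⟨2270, 3, 5⟩) (.one ⟨16451, 3, 4⟩)) (.node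 1 (.one ⟨16907, 3, 5⟩) (.one ⟨942, 2, 4⟩)))) (.node 4 (.node 2 (.node 1 (.one ⟨2572, 3, 4⟩) (.one ⟨8049, 1, 5⟩)) (.node 1 (.one ⟨2571, 3, 4⟩) (.one ⟨2568, 3, 4⟩))) (.node 2 (.node 1 (.one ⟨5895, 1, 5⟩) (.one ⟨2567, 3, 4⟩)) (.node 1 (.one ⟨3548, 2, 4⟩) (.one ⟨1511, 1, 3⟩)))))) (.node 16 (.node 8 (.node 4 (.node 2 (.node 1 (.one ⟨309, 2, 5⟩) (.one ⟨4471, 3, 5⟩)) (.node 1 (.one ⟨14498, 2, 4⟩) (.one ⟨10377, 2, 5⟩))) (.node 2 (.node 1 (.one ⟨11531, 3, 6⟩) (.one ⟨12638, 3, 5⟩)) (.node 1 (.one ⟨2480, 3, 5⟩) (.one ⟨2752, 2, 5⟩)))) (.node 4 (.node 2 (.node 1 (.one ⟨3717, 0, 5⟩) (.one ⟨7804, 3, 4⟩)) (.node 1 (.one ⟨15275, 1, 5⟩) (.one ⟨1691, 1, 6⟩))) (.node 2 (.node 1 (.one ⟨3420, 0, 4⟩) (.one ⟨5256, 3, 5⟩)) (.node 1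 (.one ⟨10122, 2, 4⟩) (.one ⟨2138, 1, 4⟩))))) (.node 8 (.node 4 (.node 2 (.node 1 (.one ⟨2657, 1, 3⟩) (.one ⟨3016, 1, 4⟩)) (.node 1 (.one ⟨7332, 0, 3⟩) (.one ⟨4145, 2, 3⟩))) (.node 2 (.node 1 (.one ⟨11813, 1, 5⟩) (.one ⟨12217, 3, 5⟩)) (.node 1 (.one ⟨2986, 0, 3⟩) (.one ⟨14325, 1, 3⟩)))) (.node 4 (.node 2 (.node 1 (.one ⟨13196, 2, 4⟩) (.one ⟨9128, 1, 5⟩)) (.node 1 (.one ⟨12556, 2, 1⟩) (.one ⟨2992, 0, 4⟩))) (.node 2 (.node 1 (.one ⟨1867, 2, 6⟩) (.one ⟨12128, 2, 1⟩)) (.node 1 (.one ⟨2763, 2, 6⟩) (.one ⟨9663, 2, 4⟩)))))))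
def par4_9_12 : Arr Par :=
  (.node 32 (.node 16 (.node 8 (.node 4 (.node 2 (.node 1 (.one ⟨2839, 2, 4⟩) (.one ⟨5923, 2, 4⟩)) (.node 1 (.one ⟨2283, 3, 5⟩) (.one ⟨5525, 3, 4⟩))) (.node 2 (.node 1 (.one ⟨2791, 2, 4⟩) (.one ⟨13508, 3, 6⟩)) (.node 1 (.one ⟨14652, 2, 4⟩) (.one ⟨11614, 0, 3⟩)))) (.node 4 (.node 2 (.node 1 (.one ⟨4174, 0, 5⟩) (.one ⟨1894, 0, 6⟩)) (.node 1 (.one ⟨4150, 2, 3⟩) (.one ⟨57, 3, 6⟩))) (.node 2 (.node 1 (.one ⟨1070, 0, 6⟩) (.one ⟨14777, 3, 6⟩)) (.node 1 (.one ⟨15278, 2, 4⟩) (.one ⟨863, 2, 4⟩))))) (.node 8 (.node 4 (.node 2 (.node 1 (.one ⟨873, 2, 5⟩) (.one ⟨14257, 1, 6⟩)) (.node 1 (.one ⟨10115, 2, 4⟩) (.one ⟨12393, 0, 5⟩))) (.node 2 (.node 1 (.one ⟨4527, 3, 6⟩) (.one ⟨551, 2, 6⟩)) (.node 1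 (.one ⟨5369, 3, 5⟩) (.one ⟨6808, 2, 5⟩)))) (.node 4 (.node 2 (.node 1 (.one ⟨16248, 1, 5⟩) (.one ⟨1877, 0, 4⟩)) (.node 1 (.one ⟨9802, 1, 5⟩) (.one ⟨15645, 3, 4⟩))) (.node 2 (.node 1 (.one ⟨3599, 2, 2⟩) (.one ⟨5132, 3, 4⟩)) (.node 1 (.one ⟨14148, 0, 5⟩) (.one ⟨5024, 3, 6⟩)))))) (.node 16 (.node 8 (.node 4 (.node 2 (.node 1 (.one ⟨15003, 1, 3⟩) (.one ⟨16041, 1, 2⟩)) (.node 1 (.one ⟨12955, 1, 5⟩) (.one ⟨14879, 2, 5⟩))) (.node 2 (.node 1 (.one ⟨6410, 2, 5⟩) (.one ⟨1095, 1, 3⟩)) (.node 1 (.one ⟨3396, 2, 4⟩) (.one ⟨2379, 1, 5⟩)))) (.node 4 (.node 2 (.node 1 (.one ⟨13397, 0, 5⟩) (.one ⟨15200, 3, 3⟩)) (.node 1 (.one ⟨6098, 2, 6⟩) (.one ⟨2466, 3, 5⟩))) (.node 2 (.node 1 (.one ⟨2100, 1, 5⟩) (.one ⟨5133, 3, 3⟩)) (.node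 1 (.one ⟨1105, 3, 5⟩) (.one ⟨11127, 3, 4⟩))))) (.node 8 (.node 4 (.node 2 (.node 1 (.one ⟨6563, 2, 5⟩) (.one ⟨15925, 1, 3⟩)) (.node 1 (.one ⟨6106, 3, 5⟩) (.one ⟨10172, 2, 4⟩))) (.node 2 (.node 1 (.one ⟨7901, 3, 4⟩) (.one ⟨6484, 2, 5⟩)) (.node 1 (.one ⟨3138, 3, 4⟩) (.one ⟨16686, 0, 5⟩)))) (.node 4 (.node 2 (.node 1 (.one ⟨13580, 1, 4⟩) (.one ⟨15386, 1, 4⟩)) (.node 1 (.one ⟨14494, 3, 5⟩) (.one ⟨9551, 1, 4⟩))) (.node 2 (.node 1 (.one ⟨9070, 1, 4⟩) (.one ⟨3281, 1, 1⟩)) (.node 1 (.one ⟨16078, 1, 4⟩) (.one ⟨5209, 0, 5⟩)))))))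
def par4_9_13 : Arr Par :=
  (.node 32 (.node 16 (.node 8 (.node 4 (.node 2 (.node 1 (.one ⟨9419, 3, 4⟩) (.one ⟨5979, 3, 4⟩)) (.node 1 (.one ⟨7271, 0, 3⟩) (.one ⟨16048, 1, 5⟩))) (.node 2 (.node 1 (.one ⟨4836, 3, 4⟩) (.one ⟨16764, 3, 4⟩)) (.node 1 (.one ⟨5798, 3, 5⟩) (.one ⟨15463, 3, 5⟩)))) (.node 4 (.node 2 (.node 1 (.one ⟨8486, 3, 5⟩) (.one ⟨13714, 0, 4⟩)) (.node 1 (.one ⟨16359, 3, 5⟩) (.one ⟨13939, 1, 4⟩))) (.node 2 (.node 1 (.one ⟨12054, 1, 4⟩) (.one ⟨12071, 2, 5⟩)) (.node 1 (.one ⟨14297, 0, 4⟩) (.one ⟨3309, 3, 3⟩))))) (.node 8 (.node 4 (.node 2 (.node 1 (.one ⟨8022, 0, 6⟩) (.one ⟨15054, 1, 4⟩)) (.node 1 (.one ⟨4408, 1, 3⟩) (.one ⟨13891, 1, 3⟩))) (.node 2 (.node 1 (.one ⟨5216, 1, 6⟩) (.one ⟨16382, 1, 6⟩))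 (.node 1 (.one ⟨13896, 2, 5⟩) (.one ⟨6726, 3, 2⟩)))) (.node 4 (.node 2 (.node 1 (.one ⟨16733, 3, 4⟩) (.one ⟨10247, 1, 5⟩)) (.node 1 (.one ⟨10171, 1, 4⟩) (.one ⟨11736, 3, 5⟩))) (.node 2 (.node 1 (.one ⟨3554, 1, 4⟩) (.one ⟨12501, 0, 5⟩)) (.node 1 (.one ⟨16720, 3, 5⟩) (.one ⟨15732, 1, 4⟩)))))) (.node 16 (.node 8 (.node 4 (.node 2 (.node 1 (.one ⟨15149, 2, 5⟩) (.one ⟨3781, 0, 5⟩)) (.node 1 (.one ⟨9444, 3, 2⟩) (.one ⟨7232, 0, 5⟩))) (.node 2 (.node 1 (.one ⟨2720, 0, 4⟩) (.one ⟨764, 2, 5⟩)) (.node 1 (.one ⟨3509, 1, 5⟩) (.one ⟨7590, 0, 5⟩)))) (.node 4 (.node 2 (.node 1 (.one ⟨13924, 3, 3⟩) (.one ⟨10071, 3, 3⟩)) (.node 1 (.one ⟨742, 0, 6⟩) (.one ⟨12902, 3, 5⟩))) (.node 2 (.node 1 (.one ⟨713, 0, 5⟩) (.one ⟨12938, 3, 5⟩))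 (.node 1 (.one ⟨13689, 2, 5⟩) (.one ⟨36, 3, 4⟩))))) (.node 8 (.node 4 (.node 2 (.node 1 (.one ⟨3563, 3, 5⟩) (.one ⟨644, 2, 5⟩)) (.node 1 (.one ⟨11595, 3, 5⟩) (.one ⟨1256, 3, 5⟩))) (.node 2 (.node 1 (.one ⟨10985, 2, 3⟩) (.one ⟨4123, 0, 5⟩)) (.node 1 (.one ⟨11579, 3, 5⟩) (.one ⟨10855, 1, 4⟩)))) (.node 4 (.node 2 (.node 1 (.one ⟨6437, 1, 4⟩) (.one ⟨6653, 1, 5⟩)) (.node 1 (.one ⟨10442, 3, 6⟩) (.one ⟨13971, 1, 4⟩))) (.node 2 (.node 1 (.one ⟨16933, 0, 3⟩) (.one ⟨14032, 3, 4⟩)) (.node 1 (.one ⟨2541, 0, 3⟩) (.one ⟨6215, 3, 5⟩)))))))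
def par4_9_14 : Arr Par :=
  (.node 32 (.node 16 (.node 8 (.node 4 (.node 2 (.node 1 (.one ⟨2976, 1, 5⟩) (.one ⟨11901, 0, 4⟩)) (.node 1 (.one ⟨10841, 1, 5⟩) (.one ⟨16697, 3, 3⟩))) (.node 2 (.node 1 (.one ⟨2177, 1, 6⟩) (.one ⟨15864, 2, 5⟩)) (.node 1 (.one ⟨9541, 1, 1⟩) (.one ⟨1683, 2, 5⟩)))) (.node 4 (.node 2 (.node 1 (.one ⟨16772, 2, 3⟩) (.one ⟨11788, 1, 6⟩)) (.node 1 (.one ⟨2854, 2, 3⟩) (.one ⟨5445, 2, 4⟩))) (.node 2 (.node 1 (.one ⟨16494, 3, 5⟩) (.one ⟨15460, 2, 5⟩)) (.node 1 (.one ⟨4180, 2, 3⟩) (.one ⟨1734, 3, 4⟩))))) (.node 8 (.node 4 (.node 2 (.node 1 (.one ⟨6521, 3, 1⟩) (.one ⟨6522, 3, 5⟩)) (.node 1 (.one ⟨13127, 2, 5⟩) (.one ⟨5900, 1, 4⟩))) (.node 2 (.node 1 (.one ⟨6519, 3, 4⟩) (.one ⟨6520, 3, 2⟩)) (.node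 1 (.one ⟨8924, 2, 4⟩) (.one ⟨14736, 3, 4⟩)))) (.node 4 (.node 2 (.node 1 (.one ⟨1586, 0, 4⟩) (.one ⟨16408, 2, 4⟩)) (.node 1 (.one ⟨7737, 3, 2⟩) (.one ⟨8438, 3, 5⟩))) (.node 2 (.node 1 (.one ⟨6434, 3, 3⟩) (.one ⟨2268, 2, 5⟩)) (.node 1 (.one ⟨13819, 3, 3⟩) (.one ⟨8666, 0, 5⟩)))))) (.node 16 (.node 8 (.node 4 (.node 2 (.node 1 (.one ⟨4404, 0, 4⟩) (.one ⟨6975, 1, 3⟩)) (.node 1 (.one ⟨2682, 1, 4⟩) (.one ⟨13924, 1, 3⟩))) (.node 2 (.node 1 (.one ⟨11311, 1, 5⟩) (.one ⟨15288, 2, 5⟩)) (.node 1 (.one ⟨10994, 1, 2⟩) (.one ⟨13532, 3, 4⟩)))) (.node 4 (.node 2 (.node 1 (.one ⟨12479, 3, 6⟩) (.one ⟨15796, 1, 4⟩)) (.node 1 (.one ⟨5002, 2, 5⟩) (.one ⟨10483, 3, 3⟩))) (.node 2 (.node 1 (.one ⟨2494, 0, 5⟩) (.one ⟨1410, 1, 4⟩)) (.node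 1 (.one ⟨7630, 0, 4⟩) (.one ⟨37, 3, 4⟩))))) (.node 8 (.node 4 (.node 2 (.node 1 (.one ⟨5971, 1, 5⟩) (.one ⟨7041, 2, 4⟩)) (.node 1 (.one ⟨2969, 1, 4⟩) (.one ⟨7042, 2, 4⟩))) (.node 2 (.node 1 (.one ⟨9401, 3, 5⟩) (.one ⟨290, 2, 5⟩)) (.node 1 (.one ⟨7040, 2, 5⟩) (.one ⟨9230, 2, 5⟩)))) (.node 4 (.node 2 (.node 1 (.one ⟨14761, 3, 4⟩) (.one ⟨185, 0, 4⟩)) (.node 1 (.one ⟨7225, 0, 4⟩) (.one ⟨5303, 3, 3⟩))) (.node 2 (.node 1 (.one ⟨1466, 3, 3⟩) (.one ⟨15597, 3, 4⟩)) (.node 1 (.one ⟨11537, 0, 5⟩) (.one ⟨15866, 2, 5⟩)))))))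
def par4_9_15 : Arr Par :=
  (.node 32 (.node 16 (.node 8 (.node 4 (.node 2 (.node 1 (.one ⟨983, 0, 4⟩) (.one ⟨151, 2, 5⟩)) (.node 1 (.one ⟨11181, 2, 5⟩) (.one ⟨3102, 2, 4⟩))) (.node 2 (.node 1 (.one ⟨9151, 2, 6⟩) (.one ⟨15831, 3, 4⟩)) (.node 1 (.one ⟨1677, 1, 5⟩) (.one ⟨16415, 3, 6⟩)))) (.node 4 (.node 2 (.node 1 (.one ⟨9541, 0, 1⟩) (.one ⟨6726, 2, 2⟩)) (.node 1 (.one ⟨4528, 3, 6⟩) (.one ⟨8498, 1, 5⟩))) (.node 2 (.node 1 (.one ⟨2965, 0, 4⟩) (.one ⟨14844, 2, 4⟩)) (.node 1 (.one ⟨15650, 3, 3⟩) (.one ⟨5985, 1, 5⟩))))) (.node 8 (.node 4 (.node 2 (.node 1 (.one ⟨11535, 2, 4⟩) (.one ⟨7687, 1, 4⟩)) (.node 1 (.one ⟨7063, 2, 5⟩) (.one ⟨3645, 1, 5⟩))) (.node 2 (.node 1 (.one ⟨1463, 1, 4⟩) (.one ⟨12375, 2, 3⟩)) (.node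 1 (.one ⟨3690, 1, 4⟩) (.one ⟨15923, 3, 5⟩)))) (.node 4 (.node 2 (.node 1 (.one ⟨10063, 3, 4⟩) (.one ⟨11738, 0, 5⟩)) (.node 1 (.one ⟨12789, 3, 5⟩) (.one ⟨4776, 3, 5⟩))) (.node 2 (.node 1 (.one ⟨6820, 3, 3⟩) (.one ⟨2052, 3, 4⟩)) (.node 1 (.one ⟨2513, 2, 3⟩) (.one ⟨8715, 1, 5⟩)))))) (.node 16 (.node 8 (.node 4 (.node 2 (.node 1 (.one ⟨12025, 2, 4⟩) (.one ⟨12793, 0, 5⟩)) (.node 1 (.one ⟨16180, 0, 4⟩) (.one ⟨6079, 3, 5⟩))) (.node 2 (.node 1 (.one ⟨15483, 1, 5⟩) (.one ⟨10815, 3, 6⟩)) (.node 1 (.one ⟨13908, 2, 4⟩) (.one ⟨13846, 0, 5⟩)))) (.node 4 (.node 2 (.node 1 (.one ⟨643, 0, 1⟩) (.one ⟨624, 3, 4⟩)) (.node 1 (.one ⟨12223, 3, 5⟩) (.one ⟨4864, 3, 3⟩))) (.node 2 (.node 1 (.one ⟨13843, 0, 4⟩) (.one ⟨9417, 1, 5⟩)) (.node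 1 (.one ⟨3124, 3, 4⟩) (.one ⟨4885, 3, 5⟩))))) (.node 8 (.node 4 (.node 2 (.node 1 (.one ⟨7336, 1, 4⟩) (.one ⟨15890, 2, 5⟩)) (.node 1 (.one ⟨10231, 2, 4⟩) (.one ⟨1454, 1, 3⟩))) (.node 2 (.node 1 (.one ⟨2273, 2, 4⟩) (.one ⟨15271, 0, 3⟩)) (.node 1 (.one ⟨12273, 3, 6⟩) (.one ⟨999, 0, 3⟩)))) (.node 4 (.node 2 (.node 1 (.one ⟨15484, 3, 4⟩) (.one ⟨2534, 0, 4⟩)) (.node 1 (.one ⟨12034, 3, 5⟩) (.one ⟨5649, 0, 1⟩))) (.node 2 (.node 1 (.one ⟨14491, 2, 3⟩) (.one ⟨2237, 2, 4⟩)) (.node 1 (.one ⟨10484, 3, 4⟩) (.one ⟨1466, 1, 3⟩)))))))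
def par4_9 : Arr Par :=
  (.node 512 (.node 256 (.node 128 (.node 64 par4_9_0 par4_9_1) (.node 64 par4_9_2 par4_9_3)) (.node 128 (.node 64 par4_9_4 par4_9_5) (.node 64 par4_9_6 par4_9_7))) (.node 256 (.node 128 (.node 64 par4_9_8 par4_9_9) (.node 64 par4_9_10 par4_9_11)) (.node 128 (.node 64 par4_9_12 par4_9_13) (.node 64 par4_9_14 par4_9_15))))
def par4_10_0 : Arr Par :=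
  (.node 32 (.node 16 (.node 8 (.node 4 (.node 2 (.node 1 (.one ⟨12046, 0, 5⟩) (.one ⟨1311, 0, 5⟩)) (.node 1 (.one ⟨12754, 1, 5⟩) (.one ⟨6633, 2, 6⟩))) (.node 2 (.node 1 (.one ⟨16647, 0, 5⟩) (.one ⟨4206, 2, 5⟩)) (.node 1 (.one ⟨8656, 2, 5⟩) (.one ⟨15408, 3, 4⟩)))) (.node 4 (.node 2 (.node 1 (.one ⟨2802, 0, 3⟩) (.one ⟨3304, 3, 5⟩)) (.node 1 (.one ⟨3122, 3, 4⟩) (.one ⟨13643, 3, 5⟩))) (.node 2 (.node 1 (.one ⟨13750, 3, 4⟩) (.one ⟨468, 2, 5⟩)) (.node 1 (.one ⟨1741, 3, 3⟩) (.one ⟨15222, 0, 4⟩))))) (.node 8 (.node 4 (.node 2 (.node 1 (.one ⟨16012, 3, 4⟩) (.one ⟨12627, 2, 4⟩)) (.node 1 (.one ⟨5472, 3, 6⟩) (.one ⟨6010, 3, 6⟩))) (.node 2 (.node 1 (.one ⟨2368, 0, 5⟩) (.one ⟨11506, 1, 6⟩)) (.node 1 (.one ⟨16587, 0, 4⟩)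 (.one ⟨12530, 3, 5⟩)))) (.node 4 (.node 2 (.node 1 (.one ⟨12471, 3, 4⟩) (.one ⟨12854, 1, 5⟩)) (.node 1 (.one ⟨3896, 3, 3⟩) (.one ⟨2048, 3, 3⟩))) (.node 2 (.node 1 (.one ⟨14092, 1, 2⟩) (.one ⟨9431, 3, 4⟩)) (.node 1 (.one ⟨9721, 3, 3⟩) (.one ⟨98, 1, 6⟩)))))) (.node 16 (.node 8 (.node 4 (.node 2 (.node 1 (.one ⟨5254, 0, 5⟩) (.one ⟨11791, 1, 4⟩)) (.node 1 (.one ⟨10334, 3, 5⟩) (.one ⟨15958, 2, 4⟩))) (.node 2 (.node 1 (.one ⟨4151, 3, 5⟩) (.one ⟨1596, 2, 5⟩)) (.node 1 (.one ⟨5983, 1, 6⟩) (.one ⟨585, 3, 4⟩)))) (.node 4 (.node 2 (.node 1 (.one ⟨9468, 1, 4⟩) (.one ⟨9565, 3, 5⟩)) (.node 1 (.one ⟨12212, 1, 5⟩) (.one ⟨1293, 3, 5⟩))) (.node 2 (.node 1 (.one ⟨4797, 2, 4⟩) (.one ⟨12450, 1, 5⟩)) (.node 1 (.one ⟨11250, 3, 4⟩)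 (.one ⟨10730, 1, 5⟩))))) (.node 8 (.node 4 (.node 2 (.node 1 (.one ⟨15411, 0, 4⟩) (.one ⟨10100, 3, 4⟩)) (.node 1 (.one ⟨3200, 3, 5⟩) (.one ⟨5865, 3, 6⟩))) (.node 2 (.node 1 (.one ⟨11427, 1, 6⟩) (.one ⟨3246, 2, 5⟩)) (.node 1 (.one ⟨11221, 2, 5⟩) (.one ⟨15885, 3, 4⟩)))) (.node 4 (.node 2 (.node 1 (.one ⟨14415, 1, 4⟩) (.one ⟨11780, 0, 5⟩)) (.node 1 (.one ⟨15930, 0, 4⟩) (.one ⟨12964, 2, 5⟩))) (.node 2 (.node 1 (.one ⟨9419, 2, 4⟩) (.one ⟨10662, 0, 5⟩)) (.node 1 (.one ⟨4870, 2, 5⟩) (.one ⟨7551, 3, 3⟩)))))))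
def par4_10_1 : Arr Par :=
  (.node 32 (.node 16 (.node 8 (.node 4 (.node 2 (.node 1 (.one ⟨13070, 2, 5⟩) (.one ⟨2080, 2, 5⟩)) (.node 1 (.one ⟨9848, 0, 4⟩) (.one ⟨4795, 2, 4⟩))) (.node 2 (.node 1 (.one ⟨53, 3, 5⟩) (.one ⟨4249, 0, 4⟩)) (.node 1 (.one ⟨9720, 2, 5⟩) (.one ⟨14407, 1, 2⟩)))) (.node 4 (.node 2 (.node 1 (.one ⟨12086, 0, 3⟩) (.one ⟨13225, 3, 5⟩)) (.node 1 (.one ⟨5077, 3, 4⟩) (.one ⟨13826, 3, 4⟩))) (.node 2 (.node 1 (.one ⟨4312, 2, 3⟩) (.one ⟨4299, 2, 3⟩)) (.node 1 (.one ⟨4347, 2, 3⟩) (.one ⟨5072, 3, 3⟩))))) (.node 8 (.node 4 (.node 2 (.node 1 (.one ⟨478, 3, 4⟩) (.one ⟨13520, 3, 4⟩)) (.node 1 (.one ⟨10035, 3, 5⟩) (.one ⟨14387, 1, 3⟩))) (.node 2 (.node 1 (.one ⟨5408, 3, 4⟩) (.one ⟨14432, 2, 4⟩)) (.node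 1 (.one ⟨13343, 3, 4⟩) (.one ⟨13395, 1, 3⟩)))) (.node 4 (.node 2 (.node 1 (.one ⟨3710, 1, 3⟩) (.one ⟨1111, 1, 5⟩)) (.node 1 (.one ⟨11200, 1, 5⟩) (.one ⟨10702, 1, 6⟩))) (.node 2 (.node 1 (.one ⟨8554, 2, 4⟩) (.one ⟨4847, 1, 5⟩)) (.node 1 (.one ⟨12129, 1, 4⟩) (.one ⟨3543, 3, 6⟩)))))) (.node 16 (.node 8 (.node 4 (.node 2 (.node 1 (.one ⟨5565, 3, 5⟩) (.one ⟨9476, 3, 4⟩)) (.node 1 (.one ⟨11122, 2, 4⟩) (.one ⟨8402, 0, 1⟩))) (.node 2 (.node 1 (.one ⟨6835, 1, 5⟩) (.one ⟨3719, 3, 5⟩)) (.node 1 (.one ⟨12239, 1, 5⟩) (.one ⟨7500, 0, 5⟩)))) (.node 4 (.node 2 (.node 1 (.one ⟨107, 3, 6⟩) (.one ⟨12722, 2, 5⟩)) (.node 1 (.one ⟨12204, 2, 5⟩) (.one ⟨10298, 1, 5⟩))) (.node 2 (.node 1 (.one ⟨17029, 2, 4⟩) (.one ⟨3590, 1, 3⟩)) (.node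 1 (.one ⟨13973, 2, 4⟩) (.one ⟨2311, 2, 3⟩))))) (.node 8 (.node 4 (.node 2 (.node 1 (.one ⟨2854, 3, 3⟩) (.one ⟨15512, 0, 3⟩)) (.node 1 (.one ⟨2975, 3, 3⟩) (.one ⟨6172, 2, 5⟩))) (.node 2 (.node 1 (.one ⟨8529, 0, 5⟩) (.one ⟨11349, 2, 4⟩)) (.node 1 (.one ⟨6575, 3, 4⟩) (.one ⟨6916, 0, 5⟩)))) (.node 4 (.node 2 (.node 1 (.one ⟨7904, 3, 3⟩) (.one ⟨14176, 3, 3⟩)) (.node 1 (.one ⟨14356, 3, 5⟩) (.one ⟨3435, 1, 5⟩))) (.node 2 (.node 1 (.one ⟨12949, 0, 4⟩) (.one ⟨4030, 3, 3⟩)) (.node 1 (.one ⟨3699, 3, 6⟩) (.one ⟨7386, 3, 6⟩)))))))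
def par4_10_2 : Arr Par :=
  (.node 32 (.node 16 (.node 8 (.node 4 (.node 2 (.node 1 (.one ⟨6281, 0, 5⟩) (.one ⟨17090, 3, 5⟩)) (.node 1 (.one ⟨6769, 3, 4⟩) (.one ⟨5801, 0, 1⟩))) (.node 2 (.node 1 (.one ⟨1900, 2, 4⟩) (.one ⟨7271, 2, 3⟩)) (.node 1 (.one ⟨4018, 3, 5⟩) (.one ⟨8330, 1, 5⟩)))) (.node 4 (.node 2 (.node 1 (.one ⟨14040, 2, 4⟩) (.one ⟨16460, 2, 4⟩)) (.node 1 (.one ⟨635, 1, 4⟩) (.one ⟨2428, 2, 5⟩))) (.node 2 (.node 1 (.one ⟨2905, 0, 5⟩) (.one ⟨16790, 2, 6⟩)) (.node 1 (.one ⟨16674, 0, 5⟩) (.one ⟨3126, 0, 4⟩))))) (.node 8 (.node 4 (.node 2 (.node 1 (.one ⟨16883, 3, 4⟩) (.one ⟨9624, 1, 5⟩)) (.node 1 (.one ⟨10377, 3, 5⟩) (.one ⟨12503, 1, 6⟩))) (.node 2 (.node 1 (.one ⟨13328, 3, 6⟩) (.one ⟨1182, 2, 4⟩)) (.node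 1 (.one ⟨14397, 3, 4⟩) (.one ⟨16198, 2, 4⟩)))) (.node 4 (.node 2 (.node 1 (.one ⟨12724, 2, 4⟩) (.one ⟨15333, 0, 4⟩)) (.node 1 (.one ⟨16130, 3, 2⟩) (.one ⟨15514, 0, 4⟩))) (.node 2 (.node 1 (.one ⟨15285, 2, 5⟩) (.one ⟨2309, 3, 4⟩)) (.node 1 (.one ⟨11499, 2, 4⟩) (.one ⟨7479, 1, 4⟩)))))) (.node 16 (.node 8 (.node 4 (.node 2 (.node 1 (.one ⟨9591, 0, 5⟩) (.one ⟨14344, 3, 5⟩)) (.node 1 (.one ⟨7218, 0, 5⟩) (.one ⟨8729, 2, 5⟩))) (.node 2 (.node 1 (.one ⟨12880, 2, 5⟩) (.one ⟨2623, 0, 5⟩)) (.node 1 (.one ⟨6916, 3, 5⟩) (.one ⟨13395, 3, 3⟩)))) (.node 4 (.node 2 (.node 1 (.one ⟨9622, 1, 5⟩) (.one ⟨3698, 2, 4⟩)) (.node 1 (.one ⟨6411, 1, 5⟩) (.one ⟨9021, 0, 4⟩))) (.node 2 (.node 1 (.one ⟨9664, 2, 5⟩) (.one ⟨9018, 0, 4⟩)) (.node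 1 (.one ⟨4377, 2, 4⟩) (.one ⟨13215, 2, 5⟩))))) (.node 8 (.node 4 (.node 2 (.node 1 (.one ⟨1070, 2, 6⟩) (.one ⟨2130, 3, 3⟩)) (.node 1 (.one ⟨11744, 0, 3⟩) (.one ⟨11634, 1, 3⟩))) (.node 2 (.node 1 (.one ⟨11282, 0, 5⟩) (.one ⟨9640, 3, 2⟩)) (.node 1 (.one ⟨7865, 3, 6⟩) (.one ⟨12266, 2, 5⟩)))) (.node 4 (.node 2 (.node 1 (.one ⟨14756, 3, 6⟩) (.one ⟨197, 1, 5⟩)) (.node 1 (.one ⟨5448, 1, 5⟩) (.one ⟨16784, 3, 4⟩))) (.node 2 (.node 1 (.one ⟨7482, 1, 5⟩) (.one ⟨14718, 3, 5⟩)) (.node 1 (.one ⟨3791, 3, 6⟩) (.one ⟨11034, 1, 5⟩)))))))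
def par4_10_3 : Arr Par :=
  (.node 32 (.node 16 (.node 8 (.node 4 (.node 2 (.node 1 (.one ⟨5175, 1, 3⟩) (.one ⟨12025, 1, 4⟩)) (.node 1 (.one ⟨2159, 1, 6⟩) (.one ⟨12564, 1, 4⟩))) (.node 2 (.node 1 (.one ⟨15354, 2, 5⟩) (.one ⟨5429, 0, 4⟩)) (.node 1 (.one ⟨12781, 2, 3⟩) (.one ⟨17044, 3, 4⟩)))) (.node 4 (.node 2 (.node 1 (.one ⟨2562, 2, 4⟩) (.one ⟨6004, 0, 4⟩)) (.node 1 (.one ⟨14476, 2, 5⟩) (.one ⟨14558, 2, 4⟩))) (.node 2 (.node 1 (.one ⟨10126, 0, 4⟩) (.one ⟨5875, 0, 4⟩)) (.node 1 (.one ⟨16572, 3, 5⟩) (.one ⟨6867, 0, 3⟩))))) (.node 8 (.node 4 (.node 2 (.node 1 (.one ⟨1740, 1, 3⟩) (.one ⟨9468, 2, 4⟩)) (.node 1 (.one ⟨6584, 1, 4⟩) (.one ⟨7965, 3, 5⟩))) (.node 2 (.node 1 (.one ⟨7773, 1, 3⟩) (.one ⟨7095, 3, 6⟩)) (.node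 1 (.one ⟨14470, 0, 4⟩) (.one ⟨15144, 0, 4⟩)))) (.node 4 (.node 2 (.node 1 (.one ⟨13332, 1, 5⟩) (.one ⟨10163, 1, 5⟩)) (.node 1 (.one ⟨15167, 2, 5⟩) (.one ⟨5924, 0, 5⟩))) (.node 2 (.node 1 (.one ⟨6818, 2, 4⟩) (.one ⟨6945, 3, 5⟩)) (.node 1 (.one ⟨9712, 0, 5⟩) (.one ⟨17043, 3, 4⟩)))))) (.node 16 (.node 8 (.node 4 (.node 2 (.node 1 (.one ⟨2127, 3, 3⟩) (.one ⟨14410, 1, 4⟩)) (.node 1 (.one ⟨5112, 3, 5⟩) (.one ⟨5453, 3, 4⟩))) (.node 2 (.node 1 (.one ⟨6696, 2, 4⟩) (.one ⟨454, 3, 4⟩)) (.node 1 (.one ⟨17125, 3, 4⟩) (.one ⟨5430, 0, 5⟩)))) (.node 4 (.node 2 (.node 1 (.one ⟨1551, 2, 2⟩) (.one ⟨6818, 0, 4⟩)) (.node 1 (.one ⟨9279, 3, 5⟩) (.one ⟨971, 0, 4⟩))) (.node 2 (.node 1 (.one ⟨9770, 1, 5⟩) (.one ⟨3109, 2, 6⟩)) (.node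 1 (.one ⟨3041, 2, 5⟩) (.one ⟨2134, 3, 4⟩))))) (.node 8 (.node 4 (.node 2 (.node 1 (.one ⟨1029, 2, 3⟩) (.one ⟨3182, 1, 5⟩)) (.node 1 (.one ⟨12234, 2, 3⟩) (.one ⟨16600, 2, 2⟩))) (.node 2 (.node 1 (.one ⟨4162, 2, 3⟩) (.one ⟨7141, 2, 2⟩)) (.node 1 (.one ⟨15114, 3, 5⟩) (.one ⟨16282, 1, 4⟩)))) (.node 4 (.node 2 (.node 1 (.one ⟨15626, 1, 2⟩) (.one ⟨10844, 0, 4⟩)) (.node 1 (.one ⟨13832, 3, 4⟩) (.one ⟨2024, 0, 4⟩))) (.node 2 (.node 1 (.one ⟨14188, 0, 5⟩) (.one ⟨13648, 0, 3⟩)) (.node 1 (.one ⟨15138, 1, 5⟩) (.one ⟨12911, 3, 5⟩)))))))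
def par4_10_4 : Arr Par :=
  (.node 32 (.node 16 (.node 8 (.node 4 (.node 2 (.node 1 (.one ⟨4797, 1, 4⟩) (.one ⟨1736, 3, 3⟩)) (.node 1 (.one ⟨15849, 1, 4⟩) (.one ⟨5505, 2, 5⟩))) (.node 2 (.node 1 (.one ⟨6365, 1, 5⟩) (.one ⟨12000, 1, 5⟩)) (.node 1 (.one ⟨12808, 3, 4⟩) (.one ⟨2964, 0, 5⟩)))) (.node 4 (.node 2 (.node 1 (.one ⟨1292, 3, 4⟩) (.one ⟨5283, 2, 4⟩)) (.node 1 (.one ⟨12980, 3, 4⟩) (.one ⟨2950, 0, 6⟩))) (.node 2 (.node 1 (.one ⟨10267, 1, 4⟩) (.one ⟨2969, 0, 4⟩)) (.node 1 (.one ⟨15945, 1, 4⟩) (.one ⟨4271, 2, 5⟩))))) (.node 8 (.node 4 (.node 2 (.node 1 (.one ⟨14179, 0, 4⟩) (.one ⟨10586, 1, 5⟩)) (.node 1 (.one ⟨13312, 3, 3⟩) (.one ⟨15280, 1, 5⟩))) (.node 2 (.node 1 (.one ⟨2084, 2, 3⟩) (.one ⟨6849, 0, 6⟩)) (.node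 1 (.one ⟨4732, 1, 5⟩) (.one ⟨10715, 2, 3⟩)))) (.node 4 (.node 2 (.node 1 (.one ⟨5955, 0, 4⟩) (.one ⟨8877, 1, 4⟩)) (.node 1 (.one ⟨2102, 3, 4⟩) (.one ⟨3814, 3, 5⟩))) (.node 2 (.node 1 (.one ⟨5758, 0, 4⟩) (.one ⟨14697, 0, 5⟩)) (.node 1 (.one ⟨8872, 1, 4⟩) (.one ⟨7962, 3, 5⟩)))))) (.node 16 (.node 8 (.node 4 (.node 2 (.node 1 (.one ⟨10729, 2, 4⟩) (.one ⟨3559, 0, 2⟩)) (.node 1 (.one ⟨10312, 2, 4⟩) (.one ⟨10239, 2, 4⟩))) (.node 2 (.node 1 (.one ⟨13433, 1, 3⟩) (.one ⟨2534, 1, 4⟩)) (.node 1 (.one ⟨15512, 2, 3⟩) (.one ⟨10110, 2, 4⟩)))) (.node 4 (.node 2 (.node 1 (.one ⟨5351, 3, 5⟩) (.one ⟨15596, 1, 5⟩)) (.node 1 (.one ⟨3287, 3, 1⟩) (.one ⟨2962, 2, 4⟩))) (.node 2 (.node 1 (.one ⟨13672, 0, 6⟩) (.one ⟨3144, 3, 4⟩)) (.node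 1 (.one ⟨5975, 3, 4⟩) (.one ⟨7540, 1, 6⟩))))) (.node 8 (.node 4 (.node 2 (.node 1 (.one ⟨4725, 3, 4⟩) (.one ⟨8636, 1, 5⟩)) (.node 1 (.one ⟨13478, 1, 5⟩) (.one ⟨809, 1, 5⟩))) (.node 2 (.node 1 (.one ⟨12566, 2, 4⟩) (.one ⟨5835, 3, 6⟩)) (.node 1 (.one ⟨4241, 0, 6⟩) (.one ⟨1361, 3, 4⟩)))) (.node 4 (.node 2 (.node 1 (.one ⟨4923, 0, 5⟩) (.one ⟨10041, 2, 5⟩)) (.node 1 (.one ⟨9794, 1, 4⟩) (.one ⟨10133, 2, 3⟩))) (.node 2 (.node 1 (.one ⟨3014, 1, 5⟩) (.one ⟨2090, 2, 5⟩)) (.node 1 (.one ⟨5524, 1, 5⟩) (.one ⟨12404, 1, 5⟩)))))))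
def par4_10_5 : Arr Par :=
  (.node 32 (.node 16 (.node 8 (.node 4 (.node 2 (.node 1 (.one ⟨3035, 0, 4⟩) (.one ⟨7768, 2, 5⟩)) (.node 1 (.one ⟨13357, 3, 4⟩) (.one ⟨7737, 2, 2⟩))) (.node 2 (.node 1 (.one ⟨11925, 0, 4⟩) (.one ⟨15557, 0, 5⟩)) (.node 1 (.one ⟨14396, 0, 4⟩) (.one ⟨14727, 1, 4⟩)))) (.node 4 (.node 2 (.node 1 (.one ⟨15934, 2, 4⟩) (.one ⟨9190, 3, 5⟩)) (.node 1 (.one ⟨16792, 1, 4⟩) (.one ⟨3207, 3, 4⟩))) (.node 2 (.node 1 (.one ⟨16977, 2, 4⟩) (.one ⟨1588, 2, 3⟩)) (.node 1 (.one ⟨10312, 0, 4⟩) (.one ⟨980, 0, 6⟩))))) (.node 8 (.node 4 (.node 2 (.node 1 (.one ⟨13271, 1, 5⟩) (.one ⟨13045, 3, 4⟩)) (.node 1 (.one ⟨473, 0, 5⟩) (.one ⟨14394, 1, 4⟩))) (.node 2 (.node 1 (.one ⟨14681, 2, 3⟩) (.one ⟨7616, 2, 4⟩))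 (.node 1 (.one ⟨4360, 3, 5⟩) (.one ⟨3988, 0, 5⟩)))) (.node 4 (.node 2 (.node 1 (.one ⟨8369, 0, 4⟩) (.one ⟨9195, 3, 5⟩)) (.node 1 (.one ⟨2741, 0, 4⟩) (.one ⟨6142, 2, 5⟩))) (.node 2 (.node 1 (.one ⟨6529, 1, 3⟩) (.one ⟨15289, 0, 5⟩)) (.node 1 (.one ⟨4869, 2, 4⟩) (.one ⟨17026, 1, 3⟩)))))) (.node 16 (.node 8 (.node 4 (.node 2 (.node 1 (.one ⟨4614, 3, 5⟩) (.one ⟨15149, 0, 5⟩)) (.node 1 (.one ⟨8343, 2, 7⟩) (.one ⟨7542, 1, 6⟩))) (.node 2 (.node 1 (.one ⟨16293, 2, 4⟩) (.one ⟨10113, 0, 5⟩)) (.node 1 (.one ⟨14251, 3, 6⟩) (.one ⟨9390, 3, 4⟩)))) (.node 4 (.node 2 (.node 1 (.one ⟨9025, 3, 5⟩) (.one ⟨1712, 1, 4⟩)) (.node 1 (.one ⟨1697, 3, 5⟩) (.one ⟨7326, 3, 4⟩))) (.node 2 (.node 1 (.one ⟨11765, 3, 3⟩) (.one ⟨13261, 2, 3⟩))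 (.node 1 (.one ⟨5212, 2, 3⟩) (.one ⟨5348, 2, 5⟩))))) (.node 8 (.node 4 (.node 2 (.node 1 (.one ⟨3609, 0, 4⟩) (.one ⟨16876, 2, 3⟩)) (.node 1 (.one ⟨14089, 2, 5⟩) (.one ⟨13306, 0, 5⟩))) (.node 2 (.node 1 (.one ⟨14343, 3, 5⟩) (.one ⟨3660, 3, 5⟩)) (.node 1 (.one ⟨10730, 2, 5⟩) (.one ⟨7191, 2, 5⟩)))) (.node 4 (.node 2 (.node 1 (.one ⟨15411, 3, 4⟩) (.one ⟨3464, 3, 5⟩)) (.node 1 (.one ⟨281, 2, 5⟩) (.one ⟨11922, 0, 5⟩))) (.node 2 (.node 1 (.one ⟨11188, 1, 5⟩) (.one ⟨15519, 0, 4⟩)) (.node 1 (.one ⟨91, 3, 5⟩) (.one ⟨760, 3, 4⟩)))))))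
def par4_10_6 : Arr Par :=
  (.node 32 (.node 16 (.node 8 (.node 4 (.node 2 (.node 1 (.one ⟨16153, 2, 5⟩) (.one ⟨4286, 3, 6⟩)) (.node 1 (.one ⟨7194, 0, 4⟩) (.one ⟨2341, 3, 4⟩))) (.node 2 (.node 1 (.one ⟨3347, 0, 5⟩) (.one ⟨3683, 3, 6⟩)) (.node 1 (.one ⟨1650, 3, 5⟩) (.one ⟨3414, 3, 5⟩)))) (.node 4 (.node 2 (.node 1 (.one ⟨10138, 2, 3⟩) (.one ⟨14670, 0, 5⟩)) (.node 1 (.one ⟨9127, 2, 5⟩) (.one ⟨5557, 2, 5⟩))) (.node 2 (.node 1 (.one ⟨6303, 0, 3⟩) (.one ⟨13252, 2, 3⟩)) (.node 1 (.one ⟨5359, 2, 4⟩) (.one ⟨594, 3, 3⟩))))) (.node 8 (.node 4 (.node 2 (.node 1 (.one ⟨11565, 2, 4⟩) (.one ⟨12408, 3, 5⟩)) (.node 1 (.one ⟨8656, 1, 5⟩) (.one ⟨10894, 2, 6⟩))) (.node 2 (.node 1 (.one ⟨16426, 1, 2⟩) (.one ⟨16625, 2, 6⟩)) (.node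 1 (.one ⟨3074, 1, 5⟩) (.one ⟨13389, 1, 4⟩)))) (.node 4 (.node 2 (.node 1 (.one ⟨13385, 1, 4⟩) (.one ⟨15859, 0, 4⟩)) (.node 1 (.one ⟨5801, 3, 1⟩) (.one ⟨6427, 0, 3⟩))) (.node 2 (.node 1 (.one ⟨16621, 2, 3⟩) (.one ⟨13390, 1, 5⟩)) (.node 1 (.one ⟨15542, 3, 5⟩) (.one ⟨5693, 3, 2⟩)))))) (.node 16 (.node 8 (.node 4 (.node 2 (.node 1 (.one ⟨5179, 1, 3⟩) (.one ⟨6129, 2, 4⟩)) (.node 1 (.one ⟨13817, 1, 6⟩) (.one ⟨6649, 2, 6⟩))) (.node 2 (.node 1 (.one ⟨7845, 2, 5⟩) (.one ⟨12923, 2, 5⟩)) (.node 1 (.one ⟨2944, 0, 4⟩) (.one ⟨12829, 1, 5⟩)))) (.node 4 (.node 2 (.node 1 (.one ⟨14207, 3, 5⟩) (.one ⟨1701, 3, 4⟩)) (.node 1 (.one ⟨6198, 1, 4⟩) (.one ⟨16295, 3, 5⟩))) (.node 2 (.node 1 (.one ⟨3809, 3, 4⟩) (.one ⟨8814, 1, 4⟩)) (.node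 1 (.one ⟨7245, 0, 4⟩) (.one ⟨14831, 3, 5⟩))))) (.node 8 (.node 4 (.node 2 (.node 1 (.one ⟨2731, 2, 3⟩) (.one ⟨11481, 0, 5⟩)) (.node 1 (.one ⟨1490, 1, 3⟩) (.one ⟨5963, 2, 3⟩))) (.node 2 (.node 1 (.one ⟨12552, 2, 7⟩) (.one ⟨14223, 1, 2⟩)) (.node 1 (.one ⟨3065, 3, 6⟩) (.one ⟨1700, 1, 5⟩)))) (.node 4 (.node 2 (.node 1 (.one ⟨15585, 3, 3⟩) (.one ⟨15723, 0, 5⟩)) (.node 1 (.one ⟨3554, 2, 4⟩) (.one ⟨12751, 0, 4⟩))) (.node 2 (.node 1 (.one ⟨15583, 3, 4⟩) (.one ⟨15588, 3, 5⟩)) (.node 1 (.one ⟨8534, 0, 5⟩) (.one ⟨4056, 0, 6⟩)))))))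
def par4_10_7 : Arr Par :=
  (.node 32 (.node 16 (.node 8 (.node 4 (.node 2 (.node 1 (.one ⟨4061, 0, 4⟩) (.one ⟨12882, 2, 5⟩)) (.node 1 (.one ⟨5066, 2, 5⟩) (.one ⟨14783, 3, 5⟩))) (.node 2 (.node 1 (.one ⟨4057, 0, 4⟩) (.one ⟨13126, 3, 5⟩)) (.node 1 (.one ⟨15796, 3, 4⟩) (.one ⟨15600, 3, 6⟩)))) (.node 4 (.node 2 (.node 1 (.one ⟨2265, 3, 4⟩) (.one ⟨14869, 3, 4⟩)) (.node 1 (.one ⟨16304, 0, 5⟩) (.one ⟨15099, 0, 4⟩))) (.node 2 (.node 1 (.one ⟨16070, 1, 4⟩) (.one ⟨9556, 0, 3⟩)) (.node 1 (.one ⟨14609, 1, 5⟩) (.one ⟨17184, 2, 5⟩))))) (.node 8 (.node 4 (.node 2 (.node 1 (.one ⟨6409, 2, 4⟩) (.one ⟨9987, 2, 5⟩)) (.node 1 (.one ⟨13284, 3, 4⟩) (.one ⟨10541, 3, 5⟩))) (.node 2 (.node 1 (.one ⟨15770, 0, 5⟩) (.one ⟨15849, 2, 4⟩))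 (.node 1 (.one ⟨15781, 0, 5⟩) (.one ⟨9966, 3, 5⟩)))) (.node 4 (.node 2 (.node 1 (.one ⟨7876, 0, 3⟩) (.one ⟨12735, 2, 3⟩)) (.node 1 (.one ⟨1914, 3, 4⟩) (.one ⟨10371, 1, 2⟩))) (.node 2 (.node 1 (.one ⟨14917, 0, 5⟩) (.one ⟨1279, 3, 5⟩)) (.node 1 (.one ⟨12399, 3, 4⟩) (.one ⟨10360, 1, 4⟩)))))) (.node 16 (.node 8 (.node 4 (.node 2 (.node 1 (.one ⟨11848, 3, 4⟩) (.one ⟨11803, 1, 4⟩)) (.node 1 (.one ⟨1168, 1, 5⟩) (.one ⟨4711, 2, 5⟩))) (.node 2 (.node 1 (.one ⟨11520, 3, 5⟩) (.one ⟨12349, 1, 4⟩)) (.node 1 (.one ⟨2282, 1, 3⟩) (.one ⟨5437, 2, 3⟩)))) (.node 4 (.node 2 (.node 1 (.one ⟨11197, 2, 5⟩) (.one ⟨11338, 0, 3⟩)) (.node 1 (.one ⟨4600, 3, 4⟩) (.one ⟨13390, 3, 5⟩))) (.node 2 (.node 1 (.one ⟨15051, 2, 5⟩) (.one ⟨15189,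 0, 3⟩)) (.node 1 (.one ⟨13950, 2, 4⟩) (.one ⟨14154, 2, 5⟩))))) (.node 8 (.node 4 (.node 2 (.node 1 (.one ⟨10229, 2, 4⟩) (.one ⟨7769, 0, 5⟩)) (.node 1 (.one ⟨2451, 3, 5⟩) (.one ⟨14493, 2, 5⟩))) (.node 2 (.node 1 (.one ⟨5437, 3, 3⟩) (.one ⟨13392, 2, 4⟩)) (.node 1 (.one ⟨1933, 3, 4⟩) (.one ⟨6983, 0, 5⟩)))) (.node 4 (.node 2 (.node 1 (.one ⟨10767, 1, 4⟩) (.one ⟨6209, 1, 3⟩)) (.node 1 (.one ⟨1391, 2, 3⟩) (.one ⟨6247, 0, 5⟩))) (.node 2 (.node 1 (.one ⟨16361, 3, 5⟩) (.one ⟨1338, 0, 4⟩)) (.node 1 (.one ⟨4332, 1, 5⟩) (.one ⟨9093, 2, 4⟩)))))))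
def par4_10_8 : Arr Par :=
  (.node 32 (.node 16 (.node 8 (.node 4 (.node 2 (.node 1 (.one ⟨8221, 3, 5⟩) (.one ⟨10581, 1, 5⟩)) (.node 1 (.one ⟨11523, 3, 6⟩) (.one ⟨5214, 2, 5⟩))) (.node 2 (.node 1 (.one ⟨13723, 2, 5⟩) (.one ⟨15286, 2, 3⟩)) (.node 1 (.one ⟨10684, 0, 5⟩) (.one ⟨3813, 1, 0⟩)))) (.node 4 (.node 2 (.node 1 (.one ⟨5436, 3, 4⟩) (.one ⟨1207, 3, 5⟩)) (.node 1 (.one ⟨6128, 1, 4⟩) (.one ⟨3652, 3, 4⟩))) (.node 2 (.node 1 (.one ⟨7323, 3, 4⟩) (.one ⟨14242, 2, 4⟩)) (.node 1 (.one ⟨6137, 2, 2⟩) (.one ⟨16145, 3, 3⟩))))) (.node 8 (.node 4 (.node 2 (.node 1 (.one ⟨456, 2, 4⟩) (.one ⟨5640, 3, 4⟩)) (.node 1 (.one ⟨6921, 2, 3⟩) (.one ⟨6252, 0, 5⟩))) (.node 2 (.node 1 (.one ⟨517, 2, 4⟩) (.one ⟨6924, 2, 2⟩)) (.node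 1 (.one ⟨2598, 0, 6⟩) (.one ⟨16938, 3, 5⟩)))) (.node 4 (.node 2 (.node 1 (.one ⟨7860, 2, 4⟩) (.one ⟨8106, 1, 3⟩)) (.node 1 (.one ⟨2927, 2, 4⟩) (.one ⟨13625, 2, 5⟩))) (.node 2 (.node 1 (.one ⟨1776, 0, 1⟩) (.one ⟨12618, 2, 2⟩)) (.node 1 (.one ⟨8687, 2, 2⟩) (.one ⟨3123, 0, 4⟩)))))) (.node 16 (.node 8 (.node 4 (.node 2 (.node 1 (.one ⟨10210, 0, 5⟩) (.one ⟨3453, 0, 5⟩)) (.node 1 (.one ⟨15997, 1, 4⟩) (.one ⟨8285, 3, 3⟩))) (.node 2 (.node 1 (.one ⟨14397, 2, 4⟩) (.one ⟨261, 3, 5⟩)) (.node 1 (.one ⟨14440, 2, 5⟩) (.one ⟨9843, 3, 5⟩)))) (.node 4 (.node 2 (.node 1 (.one ⟨4747, 3, 5⟩) (.one ⟨831, 3, 5⟩)) (.node 1 (.one ⟨12875, 3, 3⟩) (.one ⟨9851, 0, 5⟩))) (.node 2 (.node 1 (.one ⟨2293, 3, 5⟩) (.one ⟨14540, 1, 6⟩)) (.node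 1 (.one ⟨14174, 1, 6⟩) (.one ⟨16956, 2, 4⟩))))) (.node 8 (.node 4 (.node 2 (.node 1 (.one ⟨11600, 0, 4⟩) (.one ⟨5599, 3, 4⟩)) (.node 1 (.one ⟨8524, 3, 4⟩) (.one ⟨6619, 2, 6⟩))) (.node 2 (.node 1 (.one ⟨13908, 1, 4⟩) (.one ⟨912, 1, 5⟩)) (.node 1 (.one ⟨15329, 3, 3⟩) (.one ⟨7198, 3, 5⟩)))) (.node 4 (.node 2 (.node 1 (.one ⟨15009, 0, 5⟩) (.one ⟨15923, 2, 5⟩)) (.node 1 (.one ⟨16492, 2, 4⟩) (.one ⟨3309, 0, 3⟩))) (.node 2 (.node 1 (.one ⟨6931, 0, 4⟩) (.one ⟨10993, 2, 4⟩)) (.node 1 (.one ⟨14774, 3, 5⟩) (.one ⟨16952, 2, 5⟩)))))))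
def par4_10_9 : Arr Par :=
  (.node 32 (.node 16 (.node 8 (.node 4 (.node 2 (.node 1 (.one ⟨16182, 3, 5⟩) (.one ⟨15573, 3, 5⟩)) (.node 1 (.one ⟨3493, 2, 5⟩) (.one ⟨16378, 0, 4⟩))) (.node 2 (.node 1 (.one ⟨8518, 3, 5⟩) (.one ⟨7820, 2, 5⟩)) (.node 1 (.one ⟨9096, 2, 4⟩) (.one ⟨12449, 2, 5⟩)))) (.node 4 (.node 2 (.node 1 (.one ⟨5164, 3, 3⟩) (.one ⟨168, 2, 5⟩)) (.node 1 (.one ⟨14862, 3, 5⟩) (.one ⟨7399, 2, 2⟩))) (.node 2 (.node 1 (.one ⟨3607, 0, 5⟩) (.one ⟨15303, 1, 5⟩)) (.node 1 (.one ⟨257, 3, 5⟩) (.one ⟨11994, 2, 4⟩))))) (.node 8 (.node 4 (.node 2 (.node 1 (.one ⟨4090, 2, 4⟩) (.one ⟨9654, 1, 6⟩)) (.node 1 (.one ⟨1649, 3, 5⟩) (.one ⟨10709, 3, 5⟩))) (.node 2 (.node 1 (.one ⟨15435, 2, 4⟩) (.one ⟨14455, 1, 5⟩)) (.node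 1 (.one ⟨15325, 1, 5⟩) (.one ⟨14078, 2, 5⟩)))) (.node 4 (.node 2 (.node 1 (.one ⟨11007, 3, 5⟩) (.one ⟨15716, 0, 4⟩)) (.node 1 (.one ⟨3110, 1, 5⟩) (.one ⟨6538, 2, 3⟩))) (.node 2 (.node 1 (.one ⟨1928, 2, 3⟩) (.one ⟨12619, 2, 6⟩)) (.node 1 (.one ⟨13309, 3, 5⟩) (.one ⟨8906, 3, 4⟩)))))) (.node 16 (.node 8 (.node 4 (.node 2 (.node 1 (.one ⟨16819, 0, 4⟩) (.one ⟨1252, 2, 4⟩)) (.node 1 (.one ⟨12626, 3, 4⟩) (.one ⟨8868, 3, 3⟩))) (.node 2 (.node 1 (.one ⟨12691, 2, 5⟩) (.one ⟨4543, 2, 6⟩)) (.node 1 (.one ⟨11972, 0, 4⟩) (.one ⟨745, 3, 3⟩)))) (.node 4 (.node 2 (.node 1 (.one ⟨10108, 2, 4⟩) (.one ⟨10915, 1, 3⟩)) (.node 1 (.one ⟨14759, 1, 3⟩) (.one ⟨16426, 0, 2⟩))) (.node 2 (.node 1 (.one ⟨14471, 1, 3⟩) (.one ⟨3337, 1, 5⟩))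 (.node 1 (.one ⟨6446, 3, 5⟩) (.one ⟨13330, 2, 3⟩))))) (.node 8 (.node 4 (.node 2 (.node 1 (.one ⟨5568, 2, 3⟩) (.one ⟨3786, 2, 5⟩)) (.node 1 (.one ⟨15641, 2, 3⟩) (.one ⟨8520, 1, 4⟩))) (.node 2 (.node 1 (.one ⟨6327, 2, 4⟩) (.one ⟨155, 0, 5⟩)) (.node 1 (.one ⟨5081, 0, 6⟩) (.one ⟨2858, 0, 2⟩)))) (.node 4 (.node 2 (.node 1 (.one ⟨6687, 1, 4⟩) (.one ⟨10472, 1, 3⟩)) (.node 1 (.one ⟨14315, 1, 4⟩) (.one ⟨10296, 3, 5⟩))) (.node 2 (.node 1 (.one ⟨10851, 3, 4⟩) (.one ⟨4982, 0, 2⟩)) (.node 1 (.one ⟨9595, 0, 4⟩) (.one ⟨3440, 2, 4⟩)))))))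
def par4_10_10 : Arr Par :=
  (.node 32 (.node 16 (.node 8 (.node 4 (.node 2 (.node 1 (.one ⟨2564, 2, 4⟩) (.one ⟨6019, 2, 6⟩)) (.node 1 (.one ⟨2099, 0, 2⟩) (.one ⟨1008, 3, 5⟩))) (.node 2 (.node 1 (.one ⟨6195, 2, 5⟩) (.one ⟨16574, 3, 5⟩)) (.node 1 (.one ⟨5490, 0, 5⟩) (.one ⟨11131, 0, 5⟩)))) (.node 4 (.node 2 (.node 1 (.one ⟨10900, 3, 3⟩) (.one ⟨8436, 3, 5⟩)) (.node 1 (.one ⟨9836, 3, 6⟩) (.one ⟨15037, 1, 4⟩))) (.node 2 (.node 1 (.one ⟨8186, 3, 6⟩) (.one ⟨9515, 2, 4⟩)) (.node 1 (.one ⟨6120, 2, 5⟩) (.one ⟨10281, 0, 6⟩))))) (.node 8 (.node 4 (.node 2 (.node 1 (.one ⟨9640, 2, 2⟩) (.one ⟨114, 1, 6⟩)) (.node 1 (.one ⟨749, 0, 4⟩) (.one ⟨1613, 2, 5⟩))) (.node 2 (.node 1 (.one ⟨10184, 2, 2⟩) (.one ⟨10454, 3, 5⟩)) (.node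 1 (.one ⟨14027, 3, 4⟩) (.one ⟨14986, 2, 4⟩)))) (.node 4 (.node 2 (.node 1 (.one ⟨15355, 0, 5⟩) (.one ⟨5950, 2, 5⟩)) (.node 1 (.one ⟨13966, 2, 4⟩) (.one ⟨1754, 2, 5⟩))) (.node 2 (.node 1 (.one ⟨13505, 0, 4⟩) (.one ⟨10863, 2, 4⟩)) (.node 1 (.one ⟨2963, 2, 3⟩) (.one ⟨10900, 1, 3⟩)))))) (.node 16 (.node 8 (.node 4 (.node 2 (.node 1 (.one ⟨4904, 2, 6⟩) (.one ⟨3624, 2, 6⟩)) (.node 1 (.one ⟨11495, 2, 3⟩) (.one ⟨2239, 2, 2⟩))) (.node 2 (.node 1 (.one ⟨14016, 1, 5⟩) (.one ⟨11776, 2, 4⟩)) (.node 1 (.one ⟨6992, 1, 4⟩) (.one ⟨14665, 0, 5⟩)))) (.node 4 (.node 2 (.node 1 (.one ⟨1102, 1, 3⟩) (.one ⟨2916, 0, 3⟩)) (.node 1 (.one ⟨10751, 1, 5⟩) (.one ⟨7449, 2, 4⟩))) (.node 2 (.node 1 (.one ⟨7837, 1, 4⟩) (.one ⟨2867, 0, 5⟩)) (.node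 1 (.one ⟨13709, 3, 4⟩) (.one ⟨12817, 2, 4⟩))))) (.node 8 (.node 4 (.node 2 (.node 1 (.one ⟨2171, 2, 6⟩) (.one ⟨179, 3, 5⟩)) (.node 1 (.one ⟨10036, 2, 5⟩) (.one ⟨12537, 1, 4⟩))) (.node 2 (.node 1 (.one ⟨13460, 3, 6⟩) (.one ⟨15662, 3, 5⟩)) (.node 1 (.one ⟨5229, 1, 6⟩) (.one ⟨12608, 3, 5⟩)))) (.node 4 (.node 2 (.node 1 (.one ⟨1407, 2, 6⟩) (.one ⟨3734, 2, 5⟩)) (.node 1 (.one ⟨9777, 1, 3⟩) (.one ⟨16230, 0, 4⟩))) (.node 2 (.node 1 (.one ⟨10553, 3, 6⟩) (.one ⟨15120, 3, 6⟩)) (.node 1 (.one ⟨13593, 3, 4⟩) (.one ⟨2812, 1, 4⟩)))))))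
def par4_10_11 : Arr Par :=
  (.node 32 (.node 16 (.node 8 (.node 4 (.node 2 (.node 1 (.one ⟨15226, 3, 4⟩) (.one ⟨7867, 2, 5⟩)) (.node 1 (.one ⟨14348, 1, 3⟩) (.one ⟨14767, 1, 3⟩))) (.node 2 (.node 1 (.one ⟨4500, 2, 4⟩) (.one ⟨15397, 0, 3⟩)) (.node 1 (.one ⟨3212, 0, 2⟩) (.one ⟨82, 3, 4⟩)))) (.node 4 (.node 2 (.node 1 (.one ⟨8357, 3, 4⟩) (.one ⟨12056, 0, 5⟩)) (.node 1 (.one ⟨4468, 1, 5⟩) (.one ⟨1549, 3, 3⟩))) (.node 2 (.node 1 (.one ⟨8313, 3, 5⟩) (.one ⟨13355, 1, 5⟩)) (.node 1 (.one ⟨13439, 2, 5⟩) (.one ⟨7960, 0, 3⟩))))) (.node 8 (.node 4 (.node 2 (.node 1 (.one ⟨12133, 3, 4⟩) (.one ⟨7414, 3, 5⟩)) (.node 1 (.one ⟨4032, 1, 5⟩) (.one ⟨14008, 1, 4⟩))) (.node 2 (.node 1 (.one ⟨859, 0, 3⟩) (.one ⟨5177, 2, 5⟩)) (.node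 1 (.one ⟨7197, 3, 5⟩) (.one ⟨13462, 3, 5⟩)))) (.node 4 (.node 2 (.node 1 (.one ⟨15024, 3, 5⟩) (.one ⟨16590, 2, 5⟩)) (.node 1 (.one ⟨3138, 2, 4⟩) (.one ⟨10727, 2, 4⟩))) (.node 2 (.node 1 (.one ⟨8838, 3, 5⟩) (.one ⟨14860, 0, 4⟩)) (.node 1 (.one ⟨14449, 0, 2⟩) (.one ⟨4048, 2, 4⟩)))))) (.node 16 (.node 8 (.node 4 (.node 2 (.node 1 (.one ⟨10113, 1, 5⟩) (.one ⟨16846, 2, 4⟩)) (.node 1 (.one ⟨16210, 2, 6⟩) (.one ⟨12743, 2, 5⟩))) (.node 2 (.node 1 (.one ⟨6591, 3, 5⟩) (.one ⟨7780, 2, 5⟩)) (.node 1 (.one ⟨8417, 2, 4⟩) (.one ⟨1271, 3, 5⟩)))) (.node 4 (.node 2 (.node 1 (.one ⟨3318, 3, 5⟩) (.one ⟨12160, 1, 2⟩)) (.node 1 (.one ⟨14525, 0, 4⟩) (.one ⟨8984, 1, 6⟩))) (.node 2 (.node 1 (.one ⟨1005, 2, 5⟩) (.one ⟨804, 2, 5⟩)) (.node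 1 (.one ⟨14980, 2, 3⟩) (.one ⟨595, 3, 3⟩))))) (.node 8 (.node 4 (.node 2 (.node 1 (.one ⟨5502, 0, 5⟩) (.one ⟨15068, 3, 3⟩)) (.node 1 (.one ⟨9541, 3, 1⟩) (.one ⟨12565, 1, 3⟩))) (.node 2 (.node 1 (.one ⟨10584, 1, 5⟩) (.one ⟨9207, 3, 2⟩)) (.node 1 (.one ⟨11124, 2, 6⟩) (.one ⟨16549, 2, 5⟩)))) (.node 4 (.node 2 (.node 1 (.one ⟨17031, 0, 4⟩) (.one ⟨2206, 0, 6⟩)) (.node 1 (.one ⟨7786, 3, 5⟩) (.one ⟨8213, 2, 6⟩))) (.node 2 (.node 1 (.one ⟨4688, 2, 4⟩) (.one ⟨13672, 2, 6⟩)) (.node 1 (.one ⟨4267, 1, 4⟩) (.one ⟨10227, 3, 4⟩)))))))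
def par4_10_12 : Arr Par :=
  (.node 32 (.node 16 (.node 8 (.node 4 (.node 2 (.node 1 (.one ⟨475, 0, 4⟩) (.one ⟨13638, 2, 5⟩)) (.node 1 (.one ⟨11803, 2, 4⟩) (.one ⟨15894, 2, 4⟩))) (.node 2 (.node 1 (.one ⟨12657, 0, 5⟩) (.one ⟨10226, 3, 5⟩)) (.node 1 (.one ⟨7975, 2, 4⟩) (.one ⟨3302, 3, 6⟩)))) (.node 4 (.node 2 (.node 1 (.one ⟨7650, 0, 3⟩) (.one ⟨2205, 0, 3⟩)) (.node 1 (.one ⟨5756, 3, 4⟩) (.one ⟨15803, 1, 5⟩))) (.node 2 (.node 1 (.one ⟨11781, 0, 5⟩) (.one ⟨4224, 3, 5⟩)) (.node 1 (.one ⟨5984, 0, 5⟩) (.one ⟨12772, 2, 3⟩))))) (.node 8 (.node 4 (.node 2 (.node 1 (.one ⟨16143, 3, 6⟩) (.one ⟨12376, 1, 4⟩)) (.node 1 (.one ⟨12767, 2, 4⟩) (.one ⟨15132, 1, 6⟩))) (.node 2 (.node 1 (.one ⟨956, 2, 3⟩) (.one ⟨485, 2, 3⟩)) (.node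 1 (.one ⟨14157, 0, 4⟩) (.one ⟨5568, 0, 3⟩)))) (.node 4 (.node 2 (.node 1 (.one ⟨2441, 1, 3⟩) (.one ⟨16131, 0, 2⟩)) (.node 1 (.one ⟨10888, 3, 4⟩) (.one ⟨14491, 1, 3⟩))) (.node 2 (.node 1 (.one ⟨15225, 3, 5⟩) (.one ⟨6337, 3, 5⟩)) (.node 1 (.one ⟨11850, 0, 2⟩) (.one ⟨16277, 3, 4⟩)))))) (.node 16 (.node 8 (.node 4 (.node 2 (.node 1 (.one ⟨12676, 0, 5⟩) (.one ⟨8772, 3, 4⟩)) (.node 1 (.one ⟨1577, 2, 5⟩) (.one ⟨12518, 3, 6⟩))) (.node 2 (.node 1 (.one ⟨2066, 3, 5⟩) (.one ⟨12626, 0, 4⟩)) (.node 1 (.one ⟨11019, 3, 6⟩) (.one ⟨6665, 1, 4⟩)))) (.node 4 (.node 2 (.node 1 (.one ⟨11762, 2, 4⟩) (.one ⟨16837, 2, 5⟩)) (.node 1 (.one ⟨2348, 2, 5⟩) (.one ⟨15324, 3, 4⟩))) (.node 2 (.node 1 (.one ⟨9589, 2, 5⟩) (.one ⟨15647, 2, 5⟩))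 (.node 1 (.one ⟨13693, 3, 4⟩) (.one ⟨10327, 2, 4⟩))))) (.node 8 (.node 4 (.node 2 (.node 1 (.one ⟨11694, 1, 4⟩) (.one ⟨5383, 0, 3⟩)) (.node 1 (.one ⟨4829, 2, 6⟩) (.one ⟨158, 3, 3⟩))) (.node 2 (.node 1 (.one ⟨5388, 0, 3⟩) (.one ⟨7626, 2, 4⟩)) (.node 1 (.one ⟨5385, 0, 3⟩) (.one ⟨11799, 0, 3⟩)))) (.node 4 (.node 2 (.node 1 (.one ⟨668, 2, 3⟩) (.one ⟨5896, 3, 5⟩)) (.node 1 (.one ⟨17183, 0, 5⟩) (.one ⟨4027, 2, 3⟩))) (.node 2 (.node 1 (.one ⟨8844, 3, 4⟩) (.one ⟨12228, 1, 4⟩)) (.node 1 (.one ⟨2931, 3, 6⟩) (.one ⟨173, 1, 5⟩)))))))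
def par4_10_13 : Arr Par :=
  (.node 32 (.node 16 (.node 8 (.node 4 (.node 2 (.node 1 (.one ⟨3403, 3, 5⟩) (.one ⟨14822, 3, 3⟩)) (.node 1 (.one ⟨10214, 0, 5⟩) (.one ⟨6138, 2, 4⟩))) (.node 2 (.node 1 (.one ⟨10636, 2, 4⟩) (.one ⟨9373, 0, 3⟩)) (.node 1 (.one ⟨7502, 2, 6⟩) (.one ⟨13114, 3, 5⟩)))) (.node 4 (.node 2 (.node 1 (.one ⟨1436, 1, 3⟩) (.one ⟨926, 0, 3⟩)) (.node 1 (.one ⟨11833, 3, 3⟩) (.one ⟨13061, 3, 5⟩))) (.node 2 (.node 1 (.one ⟨4424, 0, 5⟩) (.one ⟨4428, 0, 6⟩)) (.node 1 (.one ⟨9040, 1, 5⟩) (.one ⟨4276, 3, 4⟩))))) (.node 8 (.node 4 (.node 2 (.node 1 (.one ⟨489, 3, 6⟩) (.one ⟨10227, 2, 4⟩)) (.node 1 (.one ⟨11020, 3, 6⟩) (.one ⟨6509, 3, 2⟩))) (.node 2 (.node 1 (.one ⟨8384, 2, 4⟩) (.one ⟨11828, 1, 4⟩)) (.node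 1 (.one ⟨11824, 0, 5⟩) (.one ⟨16697, 1, 3⟩)))) (.node 4 (.node 2 (.node 1 (.one ⟨16761, 3, 5⟩) (.one ⟨11426, 3, 4⟩)) (.node 1 (.one ⟨10232, 3, 5⟩) (.one ⟨2346, 2, 5⟩))) (.node 2 (.node 1 (.one ⟨2968, 3, 6⟩) (.one ⟨8800, 3, 4⟩)) (.node 1 (.one ⟨9964, 2, 5⟩) (.one ⟨1430, 1, 5⟩)))))) (.node 16 (.node 8 (.node 4 (.node 2 (.node 1 (.one ⟨11202, 3, 3⟩) (.one ⟨3400, 3, 5⟩)) (.node 1 (.one ⟨5942, 3, 4⟩) (.one ⟨2546, 2, 3⟩))) (.node 2 (.node 1 (.one ⟨7574, 1, 4⟩) (.one ⟨6417, 1, 5⟩)) (.node 1 (.one ⟨8507, 1, 4⟩) (.one ⟨11904, 2, 5⟩)))) (.node 4 (.node 2 (.node 1 (.one ⟨7009, 2, 5⟩) (.one ⟨4149, 3, 5⟩)) (.node 1 (.one ⟨7259, 3, 4⟩) (.one ⟨9123, 2, 5⟩))) (.node 2 (.node 1 (.one ⟨3820, 1, 5⟩) (.one ⟨11198, 0, 5⟩)) (.node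 1 (.one ⟨3402, 3, 6⟩) (.one ⟨1195, 0, 2⟩))))) (.node 8 (.node 4 (.node 2 (.node 1 (.one ⟨422, 3, 6⟩) (.one ⟨9525, 1, 4⟩)) (.node 1 (.one ⟨9598, 3, 3⟩) (.one ⟨4212, 3, 4⟩))) (.node 2 (.node 1 (.one ⟨7029, 1, 5⟩) (.one ⟨702, 2, 5⟩)) (.node 1 (.one ⟨12683, 1, 4⟩) (.one ⟨9373, 1, 3⟩)))) (.node 4 (.node 2 (.node 1 (.one ⟨12959, 0, 4⟩) (.one ⟨14524, 3, 5⟩)) (.node 1 (.one ⟨4146, 1, 4⟩) (.one ⟨9336, 0, 4⟩))) (.node 2 (.node 1 (.one ⟨2975, 0, 3⟩) (.one ⟨9574, 1, 6⟩)) (.node 1 (.one ⟨16660, 0, 5⟩) (.one ⟨15996, 1, 4⟩)))))))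
def par4_10_14 : Arr Par :=
  (.node 32 (.node 16 (.node 8 (.node 4 (.node 2 (.node 1 (.one ⟨13684, 3, 3⟩) (.one ⟨3162, 0, 2⟩)) (.node 1 (.one ⟨4077, 3, 6⟩) (.one ⟨9276, 0, 5⟩))) (.node 2 (.node 1 (.one ⟨13878, 1, 5⟩) (.one ⟨11905, 2, 5⟩)) (.node 1 (.one ⟨11491, 0, 5⟩) (.one ⟨4443, 0, 4⟩)))) (.node 4 (.node 2 (.node 1 (.one ⟨13091, 0, 4⟩) (.one ⟨8121, 3, 5⟩)) (.node 1 (.one ⟨3283, 0, 4⟩) (.one ⟨2547, 2, 5⟩))) (.node 2 (.node 1 (.one ⟨14024, 2, 4⟩) (.one ⟨31, 3, 2⟩)) (.node 1 (.one ⟨5054, 1, 4⟩) (.one ⟨2513, 1, 3⟩))))) (.node 8 (.node 4 (.node 2 (.node 1 (.one ⟨3856, 1, 3⟩) (.one ⟨12081, 1, 3⟩)) (.node 1 (.one ⟨1099, 2, 5⟩) (.one ⟨4271, 3, 5⟩))) (.node 2 (.node 1 (.one ⟨12374, 3, 4⟩) (.one ⟨12298, 3, 5⟩)) (.node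 1 (.one ⟨3056, 2, 5⟩) (.one ⟨7551, 2, 3⟩)))) (.node 4 (.node 2 (.node 1 (.one ⟨9610, 0, 5⟩) (.one ⟨2935, 0, 5⟩)) (.node 1 (.one ⟨8326, 0, 4⟩) (.one ⟨2273, 3, 4⟩))) (.node 2 (.node 1 (.one ⟨13821, 3, 3⟩) (.one ⟨15844, 0, 5⟩)) (.node 1 (.one ⟨14441, 3, 3⟩) (.one ⟨1029, 3, 3⟩)))))) (.node 16 (.node 8 (.node 4 (.node 2 (.node 1 (.one ⟨5032, 3, 3⟩) (.one ⟨8057, 3, 4⟩)) (.node 1 (.one ⟨6808, 3, 5⟩) (.one ⟨13723, 3, 5⟩))) (.node 2 (.node 1 (.one ⟨16606, 3, 5⟩) (.one ⟨11898, 3, 2⟩)) (.node 1 (.one ⟨10882, 3, 3⟩) (.one ⟨386, 0, 3⟩)))) (.node 4 (.node 2 (.node 1 (.one ⟨494, 1, 4⟩) (.one ⟨10423, 3, 6⟩)) (.node 1 (.one ⟨7179, 0, 5⟩) (.one ⟨3787, 1, 4⟩))) (.node 2 (.node 1 (.one ⟨788, 3, 4⟩) (.one ⟨12155, 2, 4⟩)) (.node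 1 (.one ⟨17155, 3, 5⟩) (.one ⟨1777, 3, 5⟩))))) (.node 8 (.node 4 (.node 2 (.node 1 (.one ⟨4059, 2, 5⟩) (.one ⟨9727, 0, 4⟩)) (.node 1 (.one ⟨4518, 1, 5⟩) (.one ⟨7301, 0, 5⟩))) (.node 2 (.node 1 (.one ⟨3567, 0, 4⟩) (.one ⟨3310, 2, 5⟩)) (.node 1 (.one ⟨9210, 0, 4⟩) (.one ⟨4065, 2, 5⟩)))) (.node 4 (.node 2 (.node 1 (.one ⟨7719, 3, 6⟩) (.one ⟨4277, 2, 5⟩)) (.node 1 (.one ⟨9458, 0, 5⟩) (.one ⟨10238, 2, 5⟩))) (.node 2 (.node 1 (.one ⟨997, 3, 4⟩) (.one ⟨4884, 3, 4⟩)) (.node 1 (.one ⟨12044, 3, 4⟩) (.one ⟨11563, 3, 2⟩)))))))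
def par4_10_15 : Arr Par :=
  (.node 32 (.node 16 (.node 8 (.node 4 (.node 2 (.node 1 (.one ⟨3771, 0, 4⟩) (.one ⟨14142, 0, 6⟩)) (.node 1 (.one ⟨1353, 1, 2⟩) (.one ⟨14455, 0, 5⟩))) (.node 2 (.node 1 (.one ⟨889, 0, 5⟩) (.one ⟨3424, 3, 3⟩)) (.node 1 (.one ⟨16829, 2, 5⟩) (.one ⟨12766, 1, 4⟩)))) (.node 4 (.node 2 (.node 1 (.one ⟨14252, 3, 6⟩) (.one ⟨16301, 1, 5⟩)) (.node 1 (.one ⟨8345, 2, 4⟩) (.one ⟨4027, 0, 3⟩))) (.node 2 (.node 1 (.one ⟨3061, 0, 3⟩) (.one ⟨12171, 1, 6⟩)) (.node 1 (.one ⟨9026, 2, 5⟩) (.one ⟨4600, 2, 4⟩))))) (.node 8 (.node 4 (.node 2 (.node 1 (.one ⟨14668, 1, 5⟩) (.one ⟨16273, 1, 5⟩)) (.node 1 (.one ⟨1692, 3, 3⟩) (.one ⟨8223, 1, 5⟩))) (.node 2 (.node 1 (.one ⟨5134, 2, 3⟩) (.one ⟨13316, 1, 4⟩)) (.node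 1 (.one ⟨16009, 3, 4⟩) (.one ⟨6242, 1, 6⟩)))) (.node 4 (.node 2 (.node 1 (.one ⟨17094, 3, 5⟩) (.one ⟨8124, 1, 4⟩)) (.node 1 (.one ⟨2454, 3, 6⟩) (.one ⟨1348, 1, 6⟩))) (.node 2 (.node 1 (.one ⟨3283, 2, 4⟩) (.one ⟨4157, 3, 4⟩)) (.node 1 (.one ⟨1547, 0, 4⟩) (.one ⟨14015, 2, 5⟩)))))) (.node 16 (.node 8 (.node 4 (.node 2 (.node 1 (.one ⟨2387, 1, 3⟩) (.one ⟨14681, 1, 3⟩)) (.node 1 (.one ⟨10866, 2, 4⟩) (.one ⟨7794, 3, 5⟩))) (.node 2 (.node 1 (.one ⟨2052, 2, 4⟩) (.one ⟨7383, 1, 6⟩)) (.node 1 (.one ⟨4972, 3, 5⟩) (.one ⟨7724, 3, 4⟩)))) (.node 4 (.node 2 (.node 1 (.one ⟨7343, 3, 5⟩) (.one ⟨16689, 0, 4⟩)) (.node 1 (.one ⟨12819, 3, 4⟩) (.one ⟨10577, 1, 5⟩))) (.node 2 (.node 1 (.one ⟨5281, 3, 5⟩) (.one ⟨16276, 3, 4⟩)) (.node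 1 (.one ⟨3315, 2, 5⟩) (.one ⟨10270, 1, 4⟩))))) (.node 8 (.node 4 (.node 2 (.node 1 (.one ⟨8110, 1, 4⟩) (.one ⟨16378, 1, 4⟩)) (.node 1 (.one ⟨8564, 3, 3⟩) (.one ⟨3849, 3, 6⟩))) (.node 2 (.node 1 (.one ⟨724, 2, 5⟩) (.one ⟨5462, 0, 4⟩)) (.node 1 (.one ⟨8610, 3, 6⟩) (.one ⟨7141, 1, 2⟩)))) (.node 4 (.node 2 (.node 1 (.one ⟨15188, 1, 4⟩) (.one ⟨3649, 2, 5⟩)) (.node 1 (.one ⟨819, 1, 4⟩) (.one ⟨16098, 2, 5⟩))) (.node 2 (.node 1 (.one ⟨4101, 0, 4⟩) (.one ⟨3959, 1, 2⟩)) (.node 1 (.one ⟨505, 2, 4⟩) (.one ⟨5057, 0, 4⟩)))))))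
def par4_10 : Arr Par :=
  (.node 512 (.node 256 (.node 128 (.node 64 par4_10_0 par4_10_1) (.node 64 par4_10_2 par4_10_3)) (.node 128 (.node 64 par4_10_4 par4_10_5) (.node 64 par4_10_6 par4_10_7))) (.node 256 (.node 128 (.node 64 par4_10_8 par4_10_9) (.node 64 par4_10_10 par4_10_11)) (.node 128 (.node 64 par4_10_12 par4_10_13) (.node 64 par4_10_14 par4_10_15))))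
def par4_11_0 : Arr Par :=
  (.node 32 (.node 16 (.node 8 (.node 4 (.node 2 (.node 1 (.one ⟨6477, 1, 3⟩) (.one ⟨6978, 3, 4⟩)) (.node 1 (.one ⟨4348, 3, 4⟩) (.one ⟨14269, 2, 5⟩))) (.node 2 (.node 1 (.one ⟨14795, 2, 6⟩) (.one ⟨8994, 3, 3⟩)) (.node 1 (.one ⟨12777, 2, 5⟩) (.one ⟨7728, 1, 3⟩)))) (.node 4 (.node 2 (.node 1 (.one ⟨13332, 2, 5⟩) (.one ⟨1473, 1, 5⟩)) (.node 1 (.one ⟨5858, 0, 4⟩) (.one ⟨7250, 1, 5⟩))) (.node 2 (.node 1 (.one ⟨7243, 3, 5⟩) (.one ⟨4386, 3, 5⟩)) (.node 1 (.one ⟨1164, 3, 6⟩) (.one ⟨8300, 3, 5⟩))))) (.node 8 (.node 4 (.node 2 (.node 1 (.one ⟨15388, 0, 5⟩) (.one ⟨4271, 0, 5⟩)) (.node 1 (.one ⟨7694, 2, 4⟩) (.one ⟨7977, 1, 5⟩))) (.node 2 (.node 1 (.one ⟨8490, 1, 4⟩) (.one ⟨7956, 3, 4⟩)) (.node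 1 (.one ⟨5735, 2, 4⟩) (.one ⟨5041, 3, 5⟩)))) (.node 4 (.node 2 (.node 1 (.one ⟨12653, 3, 6⟩) (.one ⟨5055, 0, 6⟩)) (.node 1 (.one ⟨16396, 1, 6⟩) (.one ⟨1374, 0, 4⟩))) (.node 2 (.node 1 (.one ⟨11900, 1, 3⟩) (.one ⟨6983, 2, 5⟩)) (.node 1 (.one ⟨15311, 2, 5⟩) (.one ⟨13565, 0, 2⟩)))))) (.node 16 (.node 8 (.node 4 (.node 2 (.node 1 (.one ⟨11895, 0, 6⟩) (.one ⟨7232, 2, 5⟩)) (.node 1 (.one ⟨13062, 2, 6⟩) (.one ⟨13891, 2, 3⟩))) (.node 2 (.node 1 (.one ⟨6982, 1, 5⟩) (.one ⟨7800, 2, 4⟩)) (.node 1 (.one ⟨10734, 2, 5⟩) (.one ⟨14052, 2, 5⟩)))) (.node 4 (.node 2 (.node 1 (.one ⟨12418, 1, 4⟩) (.one ⟨11540, 3, 5⟩)) (.node 1 (.one ⟨4332, 0, 5⟩) (.one ⟨11398, 2, 5⟩))) (.node 2 (.node 1 (.one ⟨3989, 1, 5⟩) (.one ⟨4340, 1, 4⟩))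 (.node 1 (.one ⟨677, 1, 5⟩) (.one ⟨9461, 3, 4⟩))))) (.node 8 (.node 4 (.node 2 (.node 1 (.one ⟨9544, 3, 4⟩) (.one ⟨10028, 2, 6⟩)) (.node 1 (.one ⟨5935, 1, 2⟩) (.one ⟨9206, 3, 6⟩))) (.node 2 (.node 1 (.one ⟨9271, 3, 5⟩) (.one ⟨9131, 0, 5⟩)) (.node 1 (.one ⟨11361, 3, 6⟩) (.one ⟨5699, 3, 3⟩)))) (.node 4 (.node 2 (.node 1 (.one ⟨16253, 3, 3⟩) (.one ⟨15355, 1, 5⟩)) (.node 1 (.one ⟨9688, 3, 5⟩) (.one ⟨16857, 3, 6⟩))) (.node 2 (.node 1 (.one ⟨8466, 1, 4⟩) (.one ⟨10811, 3, 4⟩)) (.node 1 (.one ⟨5180, 3, 3⟩) (.one ⟨10535, 3, 5⟩)))))))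
def par4_11_1 : Arr Par :=
  (.node 32 (.node 16 (.node 8 (.node 4 (.node 2 (.node 1 (.one ⟨13298, 3, 5⟩) (.one ⟨16133, 2, 5⟩)) (.node 1 (.one ⟨13521, 0, 3⟩) (.one ⟨328, 3, 6⟩))) (.node 2 (.node 1 (.one ⟨16125, 0, 5⟩) (.one ⟨13292, 3, 5⟩)) (.node 1 (.one ⟨10418, 3, 4⟩) (.one ⟨3890, 0, 5⟩)))) (.node 4 (.node 2 (.node 1 (.one ⟨1051, 3, 4⟩) (.one ⟨6283, 2, 2⟩)) (.node 1 (.one ⟨6773, 2, 2⟩) (.one ⟨4234, 3, 4⟩))) (.node 2 (.node 1 (.one ⟨8116, 0, 5⟩) (.one ⟨6329, 1, 4⟩)) (.node 1 (.one ⟨5704, 0, 4⟩) (.one ⟨13357, 1, 4⟩))))) (.node 8 (.node 4 (.node 2 (.node 1 (.one ⟨3530, 3, 5⟩) (.one ⟨6928, 2, 4⟩)) (.node 1 (.one ⟨2640, 2, 4⟩) (.one ⟨4469, 0, 5⟩))) (.node 2 (.node 1 (.one ⟨7817, 1, 5⟩) (.one ⟨9434, 0, 3⟩)) (.node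 1 (.one ⟨4344, 1, 5⟩) (.one ⟨8466, 0, 4⟩)))) (.node 4 (.node 2 (.node 1 (.one ⟨8057, 0, 4⟩) (.one ⟨13568, 3, 3⟩)) (.node 1 (.one ⟨8117, 0, 5⟩) (.one ⟨10389, 2, 5⟩))) (.node 2 (.node 1 (.one ⟨9024, 2, 4⟩) (.one ⟨14620, 1, 4⟩)) (.node 1 (.one ⟨4653, 0, 5⟩) (.one ⟨2680, 1, 0⟩)))))) (.node 16 (.node 8 (.node 4 (.node 2 (.node 1 (.one ⟨815, 1, 5⟩) (.one ⟨10162, 3, 5⟩)) (.node 1 (.one ⟨3649, 0, 5⟩) (.one ⟨16016, 3, 5⟩))) (.node 2 (.node 1 (.one ⟨8092, 0, 6⟩) (.one ⟨11519, 0, 3⟩)) (.node 1 (.one ⟨5213, 1, 5⟩) (.one ⟨11403, 2, 5⟩)))) (.node 4 (.node 2 (.node 1 (.one ⟨2700, 1, 0⟩) (.one ⟨8862, 1, 3⟩)) (.node 1 (.one ⟨10339, 2, 2⟩) (.one ⟨7735, 0, 5⟩))) (.node 2 (.node 1 (.one ⟨15467, 2, 4⟩) (.one ⟨16733, 0, 4⟩)) (.node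 1 (.one ⟨15946, 1, 6⟩) (.one ⟨16232, 3, 4⟩))))) (.node 8 (.node 4 (.node 2 (.node 1 (.one ⟨11218, 1, 4⟩) (.one ⟨12424, 1, 6⟩)) (.node 1 (.one ⟨5994, 0, 4⟩) (.one ⟨15994, 3, 3⟩))) (.node 2 (.node 1 (.one ⟨5646, 1, 2⟩) (.one ⟨8535, 1, 5⟩)) (.node 1 (.one ⟨16356, 1, 5⟩) (.one ⟨7163, 1, 5⟩)))) (.node 4 (.node 2 (.node 1 (.one ⟨12370, 2, 4⟩) (.one ⟨8972, 3, 6⟩)) (.node 1 (.one ⟨6197, 2, 5⟩) (.one ⟨14374, 2, 5⟩))) (.node 2 (.node 1 (.one ⟨338, 3, 4⟩) (.one ⟨1778, 3, 5⟩)) (.node 1 (.one ⟨9795, 0, 4⟩) (.one ⟨11865, 3, 4⟩)))))))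
def par4_11_2 : Arr Par :=
  (.node 32 (.node 16 (.node 8 (.node 4 (.node 2 (.node 1 (.one ⟨3657, 3, 4⟩) (.one ⟨1916, 3, 5⟩)) (.node 1 (.one ⟨3862, 2, 5⟩) (.one ⟨11956, 2, 5⟩))) (.node 2 (.node 1 (.one ⟨1645, 0, 4⟩) (.one ⟨15298, 1, 5⟩)) (.node 1 (.one ⟨10516, 3, 4⟩) (.one ⟨1617, 3, 5⟩)))) (.node 4 (.node 2 (.node 1 (.one ⟨675, 2, 5⟩) (.one ⟨3828, 2, 1⟩)) (.node 1 (.one ⟨16181, 3, 5⟩) (.one ⟨10726, 3, 4⟩))) (.node 2 (.node 1 (.one ⟨3374, 1, 6⟩) (.one ⟨12819, 0, 4⟩)) (.node 1 (.one ⟨16417, 1, 6⟩) (.one ⟨15889, 0, 4⟩))))) (.node 8 (.node 4 (.node 2 (.node 1 (.one ⟨6645, 3, 5⟩) (.one ⟨13112, 0, 3⟩)) (.node 1 (.one ⟨5965, 2, 4⟩) (.one ⟨8005, 3, 5⟩))) (.node 2 (.node 1 (.one ⟨7442, 0, 6⟩) (.one ⟨13609, 1, 5⟩)) (.node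 1 (.one ⟨1639, 0, 5⟩) (.one ⟨3426, 0, 4⟩)))) (.node 4 (.node 2 (.node 1 (.one ⟨15310, 1, 5⟩) (.one ⟨9774, 2, 4⟩)) (.node 1 (.one ⟨15621, 2, 5⟩) (.one ⟨2032, 2, 2⟩))) (.node 2 (.node 1 (.one ⟨7356, 2, 5⟩) (.one ⟨4237, 2, 3⟩)) (.node 1 (.one ⟨8381, 2, 4⟩) (.one ⟨15501, 3, 5⟩)))))) (.node 16 (.node 8 (.node 4 (.node 2 (.node 1 (.one ⟨8966, 0, 4⟩) (.one ⟨10248, 2, 4⟩)) (.node 1 (.one ⟨7960, 2, 3⟩) (.one ⟨8955, 0, 5⟩))) (.node 2 (.node 1 (.one ⟨5273, 2, 2⟩) (.one ⟨135, 3, 5⟩)) (.node 1 (.one ⟨7421, 2, 2⟩) (.one ⟨8915, 3, 5⟩)))) (.node 4 (.node 2 (.node 1 (.one ⟨13584, 0, 6⟩) (.one ⟨16533, 3, 5⟩)) (.node 1 (.one ⟨8093, 1, 5⟩) (.one ⟨15447, 3, 5⟩))) (.node 2 (.node 1 (.one ⟨3860, 3, 5⟩) (.one ⟨6674, 3, 5⟩)) (.node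 1 (.one ⟨12437, 3, 4⟩) (.one ⟨6825, 3, 6⟩))))) (.node 8 (.node 4 (.node 2 (.node 1 (.one ⟨9598, 1, 3⟩) (.one ⟨13126, 1, 5⟩)) (.node 1 (.one ⟨8033, 3, 5⟩) (.one ⟨3118, 2, 3⟩))) (.node 2 (.node 1 (.one ⟨15908, 0, 2⟩) (.one ⟨12246, 1, 5⟩)) (.node 1 (.one ⟨2762, 0, 4⟩) (.one ⟨16423, 2, 6⟩)))) (.node 4 (.node 2 (.node 1 (.one ⟨2417, 3, 3⟩) (.one ⟨15780, 2, 3⟩)) (.node 1 (.one ⟨4877, 0, 3⟩) (.one ⟨7045, 3, 3⟩))) (.node 2 (.node 1 (.one ⟨10580, 3, 4⟩) (.one ⟨12559, 2, 3⟩)) (.node 1 (.one ⟨4199, 3, 5⟩) (.one ⟨35, 3, 5⟩)))))))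
def par4_11_3 : Arr Par :=
  (.node 32 (.node 16 (.node 8 (.node 4 (.node 2 (.node 1 (.one ⟨15379, 3, 5⟩) (.one ⟨665, 0, 3⟩)) (.node 1 (.one ⟨430, 2, 5⟩) (.one ⟨15363, 3, 3⟩))) (.node 2 (.node 1 (.one ⟨1834, 1, 5⟩) (.one ⟨994, 2, 5⟩)) (.node 1 (.one ⟨10721, 2, 5⟩) (.one ⟨14802, 0, 5⟩)))) (.node 4 (.node 2 (.node 1 (.one ⟨3096, 2, 5⟩) (.one ⟨3080, 2, 2⟩)) (.node 1 (.one ⟨16310, 1, 4⟩) (.one ⟨7248, 3, 5⟩))) (.node 2 (.node 1 (.one ⟨13290, 3, 5⟩) (.one ⟨3585, 3, 3⟩)) (.node 1 (.one ⟨1507, 2, 4⟩) (.one ⟨15732, 3, 4⟩))))) (.node 8 (.node 4 (.node 2 (.node 1 (.one ⟨13897, 2, 5⟩) (.one ⟨7611, 3, 4⟩)) (.node 1 (.one ⟨15917, 2, 4⟩) (.one ⟨9091, 0, 5⟩))) (.node 2 (.node 1 (.one ⟨5125, 3, 5⟩) (.one ⟨5036, 1, 5⟩)) (.node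 1 (.one ⟨10650, 1, 2⟩) (.one ⟨8836, 3, 4⟩)))) (.node 4 (.node 2 (.node 1 (.one ⟨11018, 1, 5⟩) (.one ⟨10733, 2, 4⟩)) (.node 1 (.one ⟨6245, 2, 5⟩) (.one ⟨16584, 2, 4⟩))) (.node 2 (.node 1 (.one ⟨15627, 0, 6⟩) (.one ⟨947, 3, 3⟩)) (.node 1 (.one ⟨6766, 0, 4⟩) (.one ⟨3537, 0, 4⟩)))))) (.node 16 (.node 8 (.node 4 (.node 2 (.node 1 (.one ⟨6701, 3, 5⟩) (.one ⟨12769, 0, 4⟩)) (.node 1 (.one ⟨8556, 0, 5⟩) (.one ⟨15353, 3, 4⟩))) (.node 2 (.node 1 (.one ⟨8545, 3, 5⟩) (.one ⟨2345, 3, 4⟩)) (.node 1 (.one ⟨8214, 0, 5⟩) (.one ⟨11563, 0, 2⟩)))) (.node 4 (.node 2 (.node 1 (.one ⟨9595, 1, 4⟩) (.one ⟨6806, 3, 1⟩)) (.node 1 (.one ⟨276, 1, 4⟩) (.one ⟨7945, 3, 3⟩))) (.node 2 (.node 1 (.one ⟨4662, 3, 3⟩) (.one ⟨16357, 1, 6⟩)) (.node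 1 (.one ⟨12519, 2, 5⟩) (.one ⟨15981, 1, 6⟩))))) (.node 8 (.node 4 (.node 2 (.node 1 (.one ⟨730, 1, 3⟩) (.one ⟨10384, 2, 5⟩)) (.node 1 (.one ⟨6482, 2, 5⟩) (.one ⟨8602, 0, 5⟩))) (.node 2 (.node 1 (.one ⟨13419, 2, 5⟩) (.one ⟨12482, 3, 5⟩)) (.node 1 (.one ⟨10185, 3, 3⟩) (.one ⟨6896, 3, 3⟩)))) (.node 4 (.node 2 (.node 1 (.one ⟨6867, 2, 3⟩) (.one ⟨15502, 3, 6⟩)) (.node 1 (.one ⟨9800, 3, 6⟩) (.one ⟨4082, 2, 4⟩))) (.node 2 (.node 1 (.one ⟨1237, 1, 2⟩) (.one ⟨8652, 0, 5⟩)) (.node 1 (.one ⟨8678, 0, 3⟩) (.one ⟨6283, 0, 2⟩)))))))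
def par4_11_4 : Arr Par :=
  (.node 32 (.node 16 (.node 8 (.node 4 (.node 2 (.node 1 (.one ⟨15030, 2, 4⟩) (.one ⟨7969, 1, 2⟩)) (.node 1 (.one ⟨15014, 1, 2⟩) (.one ⟨186, 1, 5⟩))) (.node 2 (.node 1 (.one ⟨1761, 2, 5⟩) (.one ⟨8820, 2, 5⟩)) (.node 1 (.one ⟨6773, 0, 2⟩) (.one ⟨6781, 1, 5⟩)))) (.node 4 (.node 2 (.node 1 (.one ⟨1238, 1, 5⟩) (.one ⟨16232, 1, 4⟩)) (.node 1 (.one ⟨13103, 1, 5⟩) (.one ⟨8580, 1, 5⟩))) (.node 2 (.node 1 (.one ⟨6081, 3, 5⟩) (.one ⟨14560, 1, 6⟩)) (.node 1 (.one ⟨573, 2, 4⟩) (.one ⟨6550, 2, 3⟩))))) (.node 8 (.node 4 (.node 2 (.node 1 (.one ⟨13257, 3, 4⟩) (.one ⟨10063, 2, 4⟩)) (.node 1 (.one ⟨5814, 2, 4⟩) (.one ⟨1446, 0, 3⟩))) (.node 2 (.node 1 (.one ⟨13594, 2, 4⟩) (.one ⟨12753, 2, 4⟩)) (.node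 1 (.one ⟨2791, 3, 4⟩) (.one ⟨7525, 3, 4⟩)))) (.node 4 (.node 2 (.node 1 (.one ⟨7981, 1, 4⟩) (.one ⟨7522, 3, 5⟩)) (.node 1 (.one ⟨2840, 3, 5⟩) (.one ⟨14476, 1, 5⟩))) (.node 2 (.node 1 (.one ⟨187, 1, 5⟩) (.one ⟨7519, 3, 6⟩)) (.node 1 (.one ⟨2839, 3, 4⟩) (.one ⟨38, 3, 5⟩)))))) (.node 16 (.node 8 (.node 4 (.node 2 (.node 1 (.one ⟨6530, 2, 4⟩) (.one ⟨15070, 3, 4⟩)) (.node 1 (.one ⟨9408, 3, 3⟩) (.one ⟨15062, 3, 4⟩))) (.node 2 (.node 1 (.one ⟨9402, 3, 5⟩) (.one ⟨3100, 1, 3⟩)) (.node 1 (.one ⟨3178, 0, 5⟩) (.one ⟨729, 1, 4⟩)))) (.node 4 (.node 2 (.node 1 (.one ⟨4248, 2, 4⟩) (.one ⟨16934, 2, 4⟩)) (.node 1 (.one ⟨2399, 0, 5⟩) (.one ⟨5966, 0, 1⟩))) (.node 2 (.node 1 (.one ⟨15972, 1, 4⟩) (.one ⟨7046, 3, 3⟩)) (.node 1 (.one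 ⟨8640, 0, 4⟩) (.one ⟨11348, 1, 6⟩))))) (.node 8 (.node 4 (.node 2 (.node 1 (.one ⟨7732, 3, 4⟩) (.one ⟨13022, 2, 5⟩)) (.node 1 (.one ⟨7247, 2, 5⟩) (.one ⟨3808, 0, 5⟩))) (.node 2 (.node 1 (.one ⟨10744, 3, 5⟩) (.one ⟨6982, 3, 5⟩)) (.node 1 (.one ⟨15331, 3, 5⟩) (.one ⟨6126, 2, 5⟩)))) (.node 4 (.node 2 (.node 1 (.one ⟨15931, 2, 4⟩) (.one ⟨7771, 2, 6⟩)) (.node 1 (.one ⟨16323, 1, 5⟩) (.one ⟨14220, 3, 4⟩))) (.node 2 (.node 1 (.one ⟨12509, 2, 5⟩) (.one ⟨4306, 1, 6⟩)) (.node 1 (.one ⟨10417, 2, 4⟩) (.one ⟨15555, 2, 2⟩)))))))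
def par4_11_5 : Arr Par :=
  (.node 32 (.node 16 (.node 8 (.node 4 (.node 2 (.node 1 (.one ⟨1828, 0, 4⟩) (.one ⟨5915, 1, 5⟩)) (.node 1 (.one ⟨1834, 0, 5⟩) (.one ⟨10745, 3, 4⟩))) (.node 2 (.node 1 (.one ⟨14246, 0, 5⟩) (.one ⟨14218, 0, 5⟩)) (.node 1 (.one ⟨9742, 2, 4⟩) (.one ⟨3942, 2, 5⟩)))) (.node 4 (.node 2 (.node 1 (.one ⟨10452, 1, 4⟩) (.one ⟨7116, 0, 3⟩)) (.node 1 (.one ⟨1797, 1, 5⟩) (.one ⟨6228, 3, 4⟩))) (.node 2 (.node 1 (.one ⟨15432, 2, 4⟩) (.one ⟨347, 0, 4⟩)) (.node 1 (.one ⟨3303, 3, 5⟩) (.one ⟨6337, 2, 5⟩))))) (.node 8 (.node 4 (.node 2 (.node 1 (.one ⟨2857, 3, 3⟩) (.one ⟨9699, 1, 5⟩)) (.node 1 (.one ⟨16155, 0, 4⟩) (.one ⟨3659, 3, 4⟩))) (.node 2 (.node 1 (.one ⟨13401, 0, 5⟩) (.one ⟨16393, 1, 6⟩)) (.node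 1 (.one ⟨745, 2, 3⟩) (.one ⟨5833, 3, 5⟩)))) (.node 4 (.node 2 (.node 1 (.one ⟨1797, 2, 5⟩) (.one ⟨4566, 2, 5⟩)) (.node 1 (.one ⟨15289, 3, 5⟩) (.one ⟨5530, 3, 2⟩))) (.node 2 (.node 1 (.one ⟨8002, 3, 3⟩) (.one ⟨484, 1, 5⟩)) (.node 1 (.one ⟨1730, 2, 2⟩) (.one ⟨11751, 1, 4⟩)))))) (.node 16 (.node 8 (.node 4 (.node 2 (.node 1 (.one ⟨1611, 2, 4⟩) (.one ⟨12042, 2, 5⟩)) (.node 1 (.one ⟨5839, 2, 5⟩) (.one ⟨13709, 1, 4⟩))) (.node 2 (.node 1 (.one ⟨12889, 2, 5⟩) (.one ⟨3373, 2, 5⟩)) (.node 1 (.one ⟨16493, 2, 5⟩) (.one ⟨2210, 3, 5⟩)))) (.node 4 (.node 2 (.node 1 (.one ⟨8640, 3, 4⟩) (.one ⟨6477, 3, 3⟩)) (.node 1 (.one ⟨5402, 3, 4⟩) (.one ⟨7227, 1, 4⟩))) (.node 2 (.node 1 (.one ⟨7581, 1, 2⟩) (.one ⟨15631, 3, 6⟩)) (.node 1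 (.one ⟨5760, 0, 4⟩) (.one ⟨4202, 3, 4⟩))))) (.node 8 (.node 4 (.node 2 (.node 1 (.one ⟨3095, 3, 1⟩) (.one ⟨5311, 3, 4⟩)) (.node 1 (.one ⟨61, 1, 2⟩) (.one ⟨13285, 2, 4⟩))) (.node 2 (.node 1 (.one ⟨13504, 3, 4⟩) (.one ⟨11032, 3, 4⟩)) (.node 1 (.one ⟨12532, 3, 3⟩) (.one ⟨11045, 1, 5⟩)))) (.node 4 (.node 2 (.node 1 (.one ⟨12436, 3, 3⟩) (.one ⟨1822, 1, 3⟩)) (.node 1 (.one ⟨6572, 0, 3⟩) (.one ⟨1131, 0, 3⟩))) (.node 2 (.node 1 (.one ⟨13970, 0, 6⟩) (.one ⟨14134, 2, 5⟩)) (.node 1 (.one ⟨11824, 3, 5⟩) (.one ⟨17013, 3, 5⟩)))))))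
def par4_11_6 : Arr Par :=
  (.node 32 (.node 16 (.node 8 (.node 4 (.node 2 (.node 1 (.one ⟨680, 3, 3⟩) (.one ⟨7001, 3, 6⟩)) (.node 1 (.one ⟨12425, 3, 4⟩) (.one ⟨7147, 2, 5⟩))) (.node 2 (.node 1 (.one ⟨3118, 3, 3⟩) (.one ⟨12210, 1, 5⟩)) (.node 1 (.one ⟨2976, 0, 5⟩) (.one ⟨14610, 1, 4⟩)))) (.node 4 (.node 2 (.node 1 (.one ⟨2906, 3, 3⟩) (.one ⟨16866, 2, 4⟩)) (.node 1 (.one ⟨4048, 3, 4⟩) (.one ⟨120, 0, 4⟩))) (.node 2 (.node 1 (.one ⟨10620, 3, 6⟩) (.one ⟨11255, 3, 3⟩)) (.node 1 (.one ⟨693, 1, 5⟩) (.one ⟨8545, 0, 5⟩))))) (.node 8 (.node 4 (.node 2 (.node 1 (.one ⟨1770, 1, 6⟩) (.one ⟨2217, 2, 4⟩)) (.node 1 (.one ⟨12689, 2, 3⟩) (.one ⟨17023, 2, 4⟩))) (.node 2 (.node 1 (.one ⟨6477, 2, 3⟩) (.one ⟨7967, 2, 5⟩)) (.node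 1 (.one ⟨6184, 1, 3⟩) (.one ⟨831, 2, 5⟩)))) (.node 4 (.node 2 (.node 1 (.one ⟨546, 3, 5⟩) (.one ⟨4869, 3, 4⟩)) (.node 1 (.one ⟨9085, 2, 2⟩) (.one ⟨13723, 1, 5⟩))) (.node 2 (.node 1 (.one ⟨786, 2, 5⟩) (.one ⟨9086, 2, 5⟩)) (.node 1 (.one ⟨3961, 3, 4⟩) (.one ⟨2661, 3, 4⟩)))))) (.node 16 (.node 8 (.node 4 (.node 2 (.node 1 (.one ⟨11643, 3, 4⟩) (.one ⟨15963, 3, 5⟩)) (.node 1 (.one ⟨6279, 3, 5⟩) (.one ⟨8549, 3, 5⟩))) (.node 2 (.node 1 (.one ⟨15352, 3, 3⟩) (.one ⟨11566, 3, 5⟩)) (.node 1 (.one ⟨8750, 1, 6⟩) (.one ⟨12982, 0, 6⟩)))) (.node 4 (.node 2 (.node 1 (.one ⟨799, 2, 6⟩) (.one ⟨10012, 1, 3⟩)) (.node 1 (.one ⟨3015, 2, 2⟩) (.one ⟨5613, 1, 4⟩))) (.node 2 (.node 1 (.one ⟨2690, 1, 3⟩) (.one ⟨14940, 3, 6⟩)) (.node 1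 (.one ⟨11038, 3, 3⟩) (.one ⟨13740, 1, 5⟩))))) (.node 8 (.node 4 (.node 2 (.node 1 (.one ⟨15041, 3, 2⟩) (.one ⟨14090, 1, 4⟩)) (.node 1 (.one ⟨3667, 0, 4⟩) (.one ⟨10873, 3, 4⟩))) (.node 2 (.node 1 (.one ⟨6051, 3, 5⟩) (.one ⟨4706, 3, 5⟩)) (.node 1 (.one ⟨3640, 0, 2⟩) (.one ⟨6053, 3, 6⟩)))) (.node 4 (.node 2 (.node 1 (.one ⟨15621, 0, 5⟩) (.one ⟨1151, 1, 4⟩)) (.node 1 (.one ⟨15494, 2, 5⟩) (.one ⟨4688, 1, 4⟩))) (.node 2 (.node 1 (.one ⟨11877, 2, 6⟩) (.one ⟨16551, 0, 4⟩)) (.node 1 (.one ⟨12616, 2, 4⟩) (.one ⟨16707, 2, 4⟩)))))))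
def par4_11_7 : Arr Par :=
  (.node 32 (.node 16 (.node 8 (.node 4 (.node 2 (.node 1 (.one ⟨9417, 2, 5⟩) (.one ⟨12623, 0, 5⟩)) (.node 1 (.one ⟨14656, 3, 4⟩) (.one ⟨10872, 3, 5⟩))) (.node 2 (.node 1 (.one ⟨11968, 3, 5⟩) (.one ⟨5839, 3, 5⟩)) (.node 1 (.one ⟨8754, 3, 5⟩) (.one ⟨5936, 0, 4⟩)))) (.node 4 (.node 2 (.node 1 (.one ⟨5522, 1, 5⟩) (.one ⟨148, 2, 4⟩)) (.node 1 (.one ⟨16352, 3, 5⟩) (.one ⟨15660, 3, 5⟩))) (.node 2 (.node 1 (.one ⟨11765, 0, 3⟩) (.one ⟨13698, 1, 3⟩)) (.node 1 (.one ⟨318, 3, 5⟩) (.one ⟨603, 3, 5⟩))))) (.node 8 (.node 4 (.node 2 (.node 1 (.one ⟨874, 3, 5⟩) (.one ⟨6307, 1, 3⟩)) (.node 1 (.one ⟨8362, 1, 6⟩) (.one ⟨920, 3, 5⟩))) (.node 2 (.node 1 (.one ⟨11051, 0, 5⟩) (.one ⟨6927, 2, 5⟩)) (.node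 1 (.one ⟨851, 3, 3⟩) (.one ⟨2477, 3, 4⟩)))) (.node 4 (.node 2 (.node 1 (.one ⟨615, 3, 4⟩) (.one ⟨3144, 0, 4⟩)) (.node 1 (.one ⟨8582, 2, 4⟩) (.one ⟨356, 1, 6⟩))) (.node 2 (.node 1 (.one ⟨557, 1, 4⟩) (.one ⟨9784, 1, 3⟩)) (.node 1 (.one ⟨3687, 2, 4⟩) (.one ⟨13053, 2, 6⟩)))))) (.node 16 (.node 8 (.node 4 (.node 2 (.node 1 (.one ⟨3203, 0, 2⟩) (.one ⟨9828, 1, 5⟩)) (.node 1 (.one ⟨6049, 3, 5⟩) (.one ⟨1840, 1, 5⟩))) (.node 2 (.node 1 (.one ⟨5246, 1, 3⟩) (.one ⟨361, 1, 4⟩)) (.node 1 (.one ⟨5523, 1, 4⟩) (.one ⟨8863, 2, 3⟩)))) (.node 4 (.node 2 (.node 1 (.one ⟨12763, 3, 4⟩) (.one ⟨11159, 0, 4⟩)) (.node 1 (.one ⟨3121, 2, 6⟩) (.one ⟨4676, 3, 4⟩))) (.node 2 (.node 1 (.one ⟨14714, 0, 4⟩) (.one ⟨10927, 1, 5⟩)) (.node 1 (.one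 ⟨240, 3, 4⟩) (.one ⟨6077, 1, 3⟩))))) (.node 8 (.node 4 (.node 2 (.node 1 (.one ⟨8252, 1, 3⟩) (.one ⟨13394, 3, 6⟩)) (.node 1 (.one ⟨4347, 1, 3⟩) (.one ⟨6188, 1, 5⟩))) (.node 2 (.node 1 (.one ⟨3521, 2, 4⟩) (.one ⟨3640, 2, 2⟩)) (.node 1 (.one ⟨421, 2, 7⟩) (.one ⟨12368, 3, 4⟩)))) (.node 4 (.node 2 (.node 1 (.one ⟨1376, 3, 5⟩) (.one ⟨4049, 3, 1⟩)) (.node 1 (.one ⟨10120, 3, 4⟩) (.one ⟨14895, 0, 5⟩))) (.node 2 (.node 1 (.one ⟨168, 3, 5⟩) (.one ⟨6862, 0, 4⟩)) (.node 1 (.one ⟨10150, 1, 3⟩) (.one ⟨16192, 0, 4⟩)))))))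
def par4_11_8 : Arr Par :=
  (.node 32 (.node 16 (.node 8 (.node 4 (.node 2 (.node 1 (.one ⟨13330, 1, 3⟩) (.one ⟨15598, 3, 5⟩)) (.node 1 (.one ⟨16096, 1, 4⟩) (.one ⟨15804, 1, 3⟩))) (.node 2 (.node 1 (.one ⟨14204, 0, 4⟩) (.one ⟨13552, 1, 4⟩)) (.node 1 (.one ⟨4933, 2, 4⟩) (.one ⟨10863, 3, 4⟩)))) (.node 4 (.node 2 (.node 1 (.one ⟨12457, 0, 5⟩) (.one ⟨12020, 2, 5⟩)) (.node 1 (.one ⟨5283, 0, 4⟩) (.one ⟨14559, 3, 5⟩))) (.node 2 (.node 1 (.one ⟨168, 1, 5⟩) (.one ⟨6568, 3, 5⟩)) (.node 1 (.one ⟨1940, 2, 4⟩) (.one ⟨9638, 3, 3⟩))))) (.node 8 (.node 4 (.node 2 (.node 1 (.one ⟨12826, 3, 5⟩) (.one ⟨15090, 3, 5⟩)) (.node 1 (.one ⟨16072, 3, 4⟩) (.one ⟨7752, 0, 5⟩))) (.node 2 (.node 1 (.one ⟨16631, 2, 5⟩) (.one ⟨7204, 0, 4⟩))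 (.node 1 (.one ⟨6713, 1, 1⟩) (.one ⟨16177, 3, 2⟩)))) (.node 4 (.node 2 (.node 1 (.one ⟨15411, 2, 4⟩) (.one ⟨14164, 1, 5⟩)) (.node 1 (.one ⟨15457, 2, 5⟩) (.one ⟨4150, 0, 3⟩))) (.node 2 (.node 1 (.one ⟨2992, 3, 4⟩) (.one ⟨10038, 1, 5⟩)) (.node 1 (.one ⟨8925, 3, 6⟩) (.one ⟨86, 3, 5⟩)))))) (.node 16 (.node 8 (.node 4 (.node 2 (.node 1 (.one ⟨13252, 3, 3⟩) (.one ⟨12122, 1, 5⟩)) (.node 1 (.one ⟨1034, 0, 3⟩) (.one ⟨9562, 3, 4⟩))) (.node 2 (.node 1 (.one ⟨16370, 1, 4⟩) (.one ⟨6092, 2, 4⟩)) (.node 1 (.one ⟨1381, 3, 6⟩) (.one ⟨5483, 3, 4⟩)))) (.node 4 (.node 2 (.node 1 (.one ⟨1904, 3, 4⟩) (.one ⟨8825, 3, 5⟩)) (.node 1 (.one ⟨11846, 0, 4⟩) (.one ⟨560, 3, 4⟩))) (.node 2 (.node 1 (.one ⟨12875, 2, 3⟩) (.one ⟨6092, 3, 4⟩))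 (.node 1 (.one ⟨9104, 3, 5⟩) (.one ⟨995, 1, 4⟩))))) (.node 8 (.node 4 (.node 2 (.node 1 (.one ⟨4606, 1, 4⟩) (.one ⟨4949, 3, 5⟩)) (.node 1 (.one ⟨4602, 1, 5⟩) (.one ⟨14415, 0, 4⟩))) (.node 2 (.node 1 (.one ⟨12532, 0, 3⟩) (.one ⟨773, 1, 5⟩)) (.node 1 (.one ⟨4604, 1, 5⟩) (.one ⟨13091, 3, 4⟩)))) (.node 4 (.node 2 (.node 1 (.one ⟨3856, 0, 3⟩) (.one ⟨58, 3, 2⟩)) (.node 1 (.one ⟨15355, 2, 5⟩) (.one ⟨14778, 3, 3⟩))) (.node 2 (.node 1 (.one ⟨2363, 3, 4⟩) (.one ⟨2786, 0, 4⟩)) (.node 1 (.one ⟨2965, 2, 4⟩) (.one ⟨6517, 3, 5⟩)))))))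
def par4_11_9 : Arr Par :=
  (.node 32 (.node 16 (.node 8 (.node 4 (.node 2 (.node 1 (.one ⟨4226, 3, 5⟩) (.one ⟨10650, 3, 2⟩)) (.node 1 (.one ⟨12914, 2, 6⟩) (.one ⟨5855, 2, 4⟩))) (.node 2 (.node 1 (.one ⟨5674, 2, 5⟩) (.one ⟨2153, 3, 5⟩)) (.node 1 (.one ⟨8036, 3, 3⟩) (.one ⟨1799, 2, 1⟩)))) (.node 4 (.node 2 (.node 1 (.one ⟨7842, 2, 3⟩) (.one ⟨8994, 2, 3⟩)) (.node 1 (.one ⟨3287, 2, 1⟩) (.one ⟨5568, 3, 3⟩))) (.node 2 (.node 1 (.one ⟨4951, 3, 5⟩) (.one ⟨16568, 3, 5⟩)) (.node 1 (.one ⟨1475, 0, 6⟩) (.one ⟨13831, 0, 5⟩))))) (.node 8 (.node 4 (.node 2 (.node 1 (.one ⟨760, 1, 4⟩) (.one ⟨15294, 3, 6⟩)) (.node 1 (.one ⟨14820, 2, 5⟩) (.one ⟨7159, 3, 5⟩))) (.node 2 (.node 1 (.one ⟨5533, 3, 5⟩) (.one ⟨12018, 2, 5⟩)) (.node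 1 (.one ⟨4585, 1, 4⟩) (.one ⟨10397, 3, 5⟩)))) (.node 4 (.node 2 (.node 1 (.one ⟨14319, 1, 5⟩) (.one ⟨14325, 0, 3⟩)) (.node 1 (.one ⟨14757, 3, 6⟩) (.one ⟨2524, 2, 4⟩))) (.node 2 (.node 1 (.one ⟨7147, 3, 5⟩) (.one ⟨5547, 0, 5⟩)) (.node 1 (.one ⟨7338, 2, 4⟩) (.one ⟨10319, 1, 4⟩)))))) (.node 16 (.node 8 (.node 4 (.node 2 (.node 1 (.one ⟨16198, 1, 4⟩) (.one ⟨16802, 0, 5⟩)) (.node 1 (.one ⟨3038, 1, 5⟩) (.one ⟨9102, 2, 5⟩))) (.node 2 (.node 1 (.one ⟨12817, 3, 4⟩) (.one ⟨1960, 2, 5⟩)) (.node 1 (.one ⟨5475, 2, 4⟩) (.one ⟨2438, 2, 4⟩)))) (.node 4 (.node 2 (.node 1 (.one ⟨2150, 2, 6⟩) (.one ⟨12122, 2, 5⟩)) (.node 1 (.one ⟨11896, 2, 5⟩) (.one ⟨12309, 3, 5⟩))) (.node 2 (.node 1 (.one ⟨9144, 0, 4⟩) (.one ⟨15139, 2, 2⟩)) (.node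 1 (.one ⟨2754, 0, 5⟩) (.one ⟨5160, 1, 4⟩))))) (.node 8 (.node 4 (.node 2 (.node 1 (.one ⟨11689, 2, 4⟩) (.one ⟨12557, 1, 4⟩)) (.node 1 (.one ⟨5132, 2, 4⟩) (.one ⟨13951, 0, 4⟩))) (.node 2 (.node 1 (.one ⟨15519, 1, 4⟩) (.one ⟨17051, 2, 4⟩)) (.node 1 (.one ⟨16766, 0, 6⟩) (.one ⟨7782, 2, 5⟩)))) (.node 4 (.node 2 (.node 1 (.one ⟨11271, 2, 4⟩) (.one ⟨8557, 2, 2⟩)) (.node 1 (.one ⟨10759, 2, 1⟩) (.one ⟨17031, 2, 4⟩))) (.node 2 (.node 1 (.one ⟨1237, 2, 2⟩) (.one ⟨10974, 3, 3⟩)) (.node 1 (.one ⟨3156, 0, 5⟩) (.one ⟨12656, 1, 4⟩)))))))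
def par4_11_10 : Arr Par :=
  (.node 32 (.node 16 (.node 8 (.node 4 (.node 2 (.node 1 (.one ⟨12814, 1, 4⟩) (.one ⟨12302, 2, 4⟩)) (.node 1 (.one ⟨334, 1, 3⟩) (.one ⟨3261, 3, 5⟩))) (.node 2 (.node 1 (.one ⟨2197, 3, 5⟩) (.one ⟨9668, 1, 5⟩)) (.node 1 (.one ⟨16511, 2, 5⟩) (.one ⟨10812, 0, 5⟩)))) (.node 4 (.node 2 (.node 1 (.one ⟨13822, 2, 5⟩) (.one ⟨1673, 3, 5⟩)) (.node 1 (.one ⟨2259, 2, 5⟩) (.one ⟨12644, 1, 4⟩))) (.node 2 (.node 1 (.one ⟨12625, 2, 6⟩) (.one ⟨2523, 1, 4⟩)) (.node 1 (.one ⟨8905, 2, 5⟩) (.one ⟨16981, 3, 3⟩))))) (.node 8 (.node 4 (.node 2 (.node 1 (.one ⟨16109, 0, 6⟩) (.one ⟨15834, 1, 3⟩)) (.node 1 (.one ⟨16176, 0, 4⟩) (.one ⟨8335, 0, 6⟩))) (.node 2 (.node 1 (.one ⟨16284, 1, 4⟩) (.one ⟨1131, 1, 3⟩))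 (.node 1 (.one ⟨3502, 3, 6⟩) (.one ⟨16507, 1, 5⟩)))) (.node 4 (.node 2 (.node 1 (.one ⟨11898, 1, 2⟩) (.one ⟨9979, 1, 5⟩)) (.node 1 (.one ⟨8326, 3, 4⟩) (.one ⟨16600, 1, 2⟩))) (.node 2 (.node 1 (.one ⟨16791, 0, 3⟩) (.one ⟨9336, 1, 4⟩)) (.node 1 (.one ⟨10843, 0, 4⟩) (.one ⟨13103, 2, 5⟩)))))) (.node 16 (.node 8 (.node 4 (.node 2 (.node 1 (.one ⟨16762, 0, 4⟩) (.one ⟨288, 3, 5⟩)) (.node 1 (.one ⟨16341, 2, 6⟩) (.one ⟨10824, 0, 4⟩))) (.node 2 (.node 1 (.one ⟨1608, 1, 3⟩) (.one ⟨2786, 3, 4⟩)) (.node 1 (.one ⟨11656, 0, 4⟩) (.one ⟨12649, 2, 5⟩)))) (.node 4 (.node 2 (.node 1 (.one ⟨494, 3, 4⟩) (.one ⟨9243, 1, 5⟩)) (.node 1 (.one ⟨13366, 1, 3⟩) (.one ⟨4213, 3, 6⟩))) (.node 2 (.node 1 (.one ⟨15184, 3, 5⟩) (.one ⟨11724, 2,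 4⟩)) (.node 1 (.one ⟨12622, 1, 4⟩) (.one ⟨4179, 1, 5⟩))))) (.node 8 (.node 4 (.node 2 (.node 1 (.one ⟨3192, 3, 5⟩) (.one ⟨4355, 1, 4⟩)) (.node 1 (.one ⟨17130, 0, 4⟩) (.one ⟨12375, 0, 3⟩))) (.node 2 (.node 1 (.one ⟨1586, 1, 4⟩) (.one ⟨1039, 2, 5⟩)) (.node 1 (.one ⟨1023, 2, 4⟩) (.one ⟨9010, 0, 5⟩)))) (.node 4 (.node 2 (.node 1 (.one ⟨11615, 2, 5⟩) (.one ⟨4103, 3, 3⟩)) (.node 1 (.one ⟨10923, 2, 5⟩) (.one ⟨8641, 2, 4⟩))) (.node 2 (.node 1 (.one ⟨558, 0, 5⟩) (.one ⟨6151, 2, 4⟩)) (.node 1 (.one ⟨6324, 3, 4⟩) (.one ⟨1804, 2, 3⟩)))))))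
def par4_11_11 : Arr Par :=
  (.node 32 (.node 16 (.node 8 (.node 4 (.node 2 (.node 1 (.one ⟨3091, 3, 4⟩) (.one ⟨3249, 1, 3⟩)) (.node 1 (.one ⟨1236, 3, 3⟩) (.one ⟨6890, 2, 5⟩))) (.node 2 (.node 1 (.one ⟨8066, 1, 3⟩) (.one ⟨166, 1, 5⟩)) (.node 1 (.one ⟨1544, 1, 4⟩) (.one ⟨5306, 0, 4⟩)))) (.node 4 (.node 2 (.node 1 (.one ⟨8483, 1, 4⟩) (.one ⟨14254, 3, 6⟩)) (.node 1 (.one ⟨14867, 3, 6⟩) (.one ⟨10578, 1, 6⟩))) (.node 2 (.node 1 (.one ⟨17099, 1, 2⟩) (.one ⟨6247, 1, 5⟩)) (.node 1 (.one ⟨13346, 0, 3⟩) (.one ⟨3137, 3, 5⟩))))) (.node 8 (.node 4 (.node 2 (.node 1 (.one ⟨13477, 0, 3⟩) (.one ⟨17068, 2, 4⟩)) (.node 1 (.one ⟨13200, 2, 4⟩) (.one ⟨3570, 2, 4⟩))) (.node 2 (.node 1 (.one ⟨16329, 3, 5⟩) (.one ⟨7802, 3, 4⟩)) (.node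 1 (.one ⟨3534, 2, 5⟩) (.one ⟨3001, 3, 4⟩)))) (.node 4 (.node 2 (.node 1 (.one ⟨10419, 2, 4⟩) (.one ⟨2523, 2, 4⟩)) (.node 1 (.one ⟨14631, 2, 3⟩) (.one ⟨4094, 2, 4⟩))) (.node 2 (.node 1 (.one ⟨16248, 2, 5⟩) (.one ⟨13255, 0, 4⟩)) (.node 1 (.one ⟨1531, 1, 3⟩) (.one ⟨12470, 3, 5⟩)))))) (.node 16 (.node 8 (.node 4 (.node 2 (.node 1 (.one ⟨8460, 1, 4⟩) (.one ⟨8790, 1, 4⟩)) (.node 1 (.one ⟨2340, 1, 5⟩) (.one ⟨1639, 2, 5⟩))) (.node 2 (.node 1 (.one ⟨6664, 3, 4⟩) (.one ⟨13050, 2, 4⟩)) (.node 1 (.one ⟨5652, 1, 5⟩) (.one ⟨11751, 3, 4⟩)))) (.node 4 (.node 2 (.node 1 (.one ⟨6100, 0, 5⟩) (.one ⟨11527, 3, 6⟩)) (.node 1 (.one ⟨832, 1, 0⟩) (.one ⟨16141, 1, 6⟩))) (.node 2 (.node 1 (.one ⟨13154, 2, 4⟩) (.one ⟨15827, 2, 4⟩)) (.node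 1 (.one ⟨14134, 3, 5⟩) (.one ⟨9071, 3, 4⟩))))) (.node 8 (.node 4 (.node 2 (.node 1 (.one ⟨16956, 0, 4⟩) (.one ⟨2209, 3, 6⟩)) (.node 1 (.one ⟨9021, 3, 4⟩) (.one ⟨4386, 1, 5⟩))) (.node 2 (.node 1 (.one ⟨13900, 3, 4⟩) (.one ⟨11469, 2, 4⟩)) (.node 1 (.one ⟨9923, 2, 5⟩) (.one ⟨15010, 0, 2⟩)))) (.node 4 (.node 2 (.node 1 (.one ⟨8185, 0, 4⟩) (.one ⟨1095, 0, 3⟩)) (.node 1 (.one ⟨13607, 0, 5⟩) (.one ⟨1834, 3, 5⟩))) (.node 2 (.node 1 (.one ⟨12780, 0, 3⟩) (.one ⟨10522, 3, 5⟩)) (.node 1 (.one ⟨7971, 0, 5⟩) (.one ⟨12689, 3, 3⟩)))))))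
def par4_11_12 : Arr Par :=
  (.node 32 (.node 16 (.node 8 (.node 4 (.node 2 (.node 1 (.one ⟨15626, 2, 2⟩) (.one ⟨10860, 3, 4⟩)) (.node 1 (.one ⟨1850, 3, 4⟩) (.one ⟨14912, 3, 4⟩))) (.node 2 (.node 1 (.one ⟨13744, 2, 2⟩) (.one ⟨9978, 2, 2⟩)) (.node 1 (.one ⟨7654, 3, 6⟩) (.one ⟨11579, 0, 5⟩)))) (.node 4 (.node 2 (.node 1 (.one ⟨6577, 1, 4⟩) (.one ⟨1831, 3, 4⟩)) (.node 1 (.one ⟨6687, 3, 4⟩) (.one ⟨14255, 2, 5⟩))) (.node 2 (.node 1 (.one ⟨14491, 3, 3⟩) (.one ⟨14316, 3, 5⟩)) (.node 1 (.one ⟨16569, 0, 4⟩) (.one ⟨16605, 3, 5⟩))))) (.node 8 (.node 4 (.node 2 (.node 1 (.one ⟨1299, 1, 4⟩) (.one ⟨13131, 1, 4⟩)) (.node 1 (.one ⟨875, 3, 5⟩) (.one ⟨7725, 1, 5⟩))) (.node 2 (.node 1 (.one ⟨13646, 3, 5⟩) (.one ⟨4915, 3, 1⟩))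 (.node 1 (.one ⟨11628, 3, 3⟩) (.one ⟨5393, 2, 5⟩)))) (.node 4 (.node 2 (.node 1 (.one ⟨11828, 3, 4⟩) (.one ⟨10857, 3, 4⟩)) (.node 1 (.one ⟨10682, 0, 5⟩) (.one ⟨14089, 3, 5⟩))) (.node 2 (.node 1 (.one ⟨10228, 2, 5⟩) (.one ⟨15965, 3, 6⟩)) (.node 1 (.one ⟨16514, 3, 5⟩) (.one ⟨6367, 2, 4⟩)))))) (.node 16 (.node 8 (.node 4 (.node 2 (.node 1 (.one ⟨5595, 1, 6⟩) (.one ⟨10530, 0, 5⟩)) (.node 1 (.one ⟨7684, 3, 4⟩) (.one ⟨16743, 0, 5⟩))) (.node 2 (.node 1 (.one ⟨1527, 3, 3⟩) (.one ⟨11465, 2, 3⟩)) (.node 1 (.one ⟨11834, 0, 6⟩) (.one ⟨15728, 2, 4⟩)))) (.node 4 (.node 2 (.node 1 (.one ⟨9820, 1, 3⟩) (.one ⟨4150, 3, 3⟩)) (.node 1 (.one ⟨2241, 2, 4⟩) (.one ⟨15189, 2, 3⟩))) (.node 2 (.node 1 (.one ⟨2975, 2, 3⟩) (.one ⟨17110,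 2, 4⟩)) (.node 1 (.one ⟨8099, 1, 6⟩) (.one ⟨17190, 3, 5⟩))))) (.node 8 (.node 4 (.node 2 (.node 1 (.one ⟨11650, 0, 5⟩) (.one ⟨11798, 3, 2⟩)) (.node 1 (.one ⟨11336, 2, 5⟩) (.one ⟨16167, 2, 5⟩))) (.node 2 (.node 1 (.one ⟨12015, 2, 5⟩) (.one ⟨12053, 0, 2⟩)) (.node 1 (.one ⟨15810, 2, 2⟩) (.one ⟨6380, 3, 4⟩)))) (.node 4 (.node 2 (.node 1 (.one ⟨8031, 2, 5⟩) (.one ⟨2368, 1, 5⟩)) (.node 1 (.one ⟨3559, 1, 2⟩) (.one ⟨13600, 0, 4⟩))) (.node 2 (.node 1 (.one ⟨14228, 3, 4⟩) (.one ⟨5355, 3, 4⟩)) (.node 1 (.one ⟨6831, 2, 5⟩) (.one ⟨9632, 2, 4⟩)))))))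
def par4_11_13 : Arr Par :=
  (.node 32 (.node 16 (.node 8 (.node 4 (.node 2 (.node 1 (.one ⟨8353, 3, 5⟩) (.one ⟨3565, 0, 4⟩)) (.node 1 (.one ⟨13373, 0, 3⟩) (.one ⟨3123, 2, 4⟩))) (.node 2 (.node 1 (.one ⟨15553, 1, 5⟩) (.one ⟨2789, 0, 5⟩)) (.node 1 (.one ⟨7552, 3, 6⟩) (.one ⟨2631, 3, 4⟩)))) (.node 4 (.node 2 (.node 1 (.one ⟨13589, 2, 5⟩) (.one ⟨7086, 0, 6⟩)) (.node 1 (.one ⟨15517, 2, 4⟩) (.one ⟨5209, 3, 5⟩))) (.node 2 (.node 1 (.one ⟨12409, 3, 4⟩) (.one ⟨7082, 0, 4⟩)) (.node 1 (.one ⟨11692, 3, 4⟩) (.one ⟨11220, 2, 4⟩))))) (.node 8 (.node 4 (.node 2 (.node 1 (.one ⟨5853, 3, 5⟩) (.one ⟨11528, 3, 6⟩)) (.node 1 (.one ⟨17140, 2, 5⟩) (.one ⟨14532, 2, 5⟩))) (.node 2 (.node 1 (.one ⟨9101, 2, 5⟩) (.one ⟨3180, 2, 5⟩))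 (.node 1 (.one ⟨6419, 1, 3⟩) (.one ⟨13167, 3, 6⟩)))) (.node 4 (.node 2 (.node 1 (.one ⟨12973, 1, 4⟩) (.one ⟨13939, 0, 4⟩)) (.node 1 (.one ⟨1801, 3, 4⟩) (.one ⟨5397, 1, 4⟩))) (.node 2 (.node 1 (.one ⟨10277, 3, 6⟩) (.one ⟨1542, 2, 5⟩)) (.node 1 (.one ⟨13938, 0, 5⟩) (.one ⟨4612, 3, 3⟩)))))) (.node 16 (.node 8 (.node 4 (.node 2 (.node 1 (.one ⟨2711, 1, 0⟩) (.one ⟨4955, 0, 3⟩)) (.node 1 (.one ⟨8279, 0, 4⟩) (.one ⟨5402, 0, 4⟩))) (.node 2 (.node 1 (.one ⟨622, 2, 5⟩) (.one ⟨1290, 0, 3⟩)) (.node 1 (.one ⟨8145, 2, 6⟩) (.one ⟨13528, 1, 4⟩)))) (.node 4 (.node 2 (.node 1 (.one ⟨12948, 1, 4⟩) (.one ⟨14637, 2, 5⟩)) (.node 1 (.one ⟨11939, 1, 5⟩) (.one ⟨11261, 0, 3⟩))) (.node 2 (.node 1 (.one ⟨2125, 2, 5⟩) (.one ⟨5712, 2, 5⟩))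 (.node 1 (.one ⟨14120, 2, 5⟩) (.one ⟨6340, 3, 5⟩))))) (.node 8 (.node 4 (.node 2 (.node 1 (.one ⟨5397, 2, 4⟩) (.one ⟨16633, 0, 2⟩)) (.node 1 (.one ⟨5639, 0, 2⟩) (.one ⟨1762, 1, 6⟩))) (.node 2 (.node 1 (.one ⟨10893, 3, 5⟩) (.one ⟨10519, 1, 4⟩)) (.node 1 (.one ⟨14363, 1, 4⟩) (.one ⟨16841, 2, 5⟩)))) (.node 4 (.node 2 (.node 1 (.one ⟨1562, 3, 5⟩) (.one ⟨9309, 3, 5⟩)) (.node 1 (.one ⟨9192, 3, 2⟩) (.one ⟨12032, 3, 3⟩))) (.node 2 (.node 1 (.one ⟨14599, 0, 1⟩) (.one ⟨1904, 0, 4⟩)) (.node 1 (.one ⟨4086, 1, 4⟩) (.one ⟨1780, 3, 6⟩)))))))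
def par4_11_14 : Arr Par :=
  (.node 32 (.node 16 (.node 8 (.node 4 (.node 2 (.node 1 (.one ⟨9201, 0, 1⟩) (.one ⟨12258, 1, 5⟩)) (.node 1 (.one ⟨13646, 2, 5⟩) (.one ⟨11550, 1, 5⟩))) (.node 2 (.node 1 (.one ⟨5556, 2, 5⟩) (.one ⟨9799, 3, 5⟩)) (.node 1 (.one ⟨1338, 2, 4⟩) (.one ⟨10303, 3, 4⟩)))) (.node 4 (.node 2 (.node 1 (.one ⟨13304, 2, 5⟩) (.one ⟨14022, 0, 6⟩)) (.node 1 (.one ⟨2251, 3, 5⟩) (.one ⟨480, 0, 5⟩))) (.node 2 (.node 1 (.one ⟨8387, 2, 5⟩) (.one ⟨14017, 0, 5⟩)) (.node 1 (.one ⟨2978, 1, 5⟩) (.one ⟨14057, 2, 5⟩))))) (.node 8 (.node 4 (.node 2 (.node 1 (.one ⟨475, 1, 4⟩) (.one ⟨14426, 2, 5⟩)) (.node 1 (.one ⟨4791, 2, 4⟩) (.one ⟨7456, 3, 5⟩))) (.node 2 (.node 1 (.one ⟨2720, 2, 4⟩) (.one ⟨16897, 2, 5⟩)) (.node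 1 (.one ⟨2336, 3, 5⟩) (.one ⟨6667, 0, 3⟩)))) (.node 4 (.node 2 (.node 1 (.one ⟨12901, 3, 5⟩) (.one ⟨3926, 2, 5⟩)) (.node 1 (.one ⟨676, 0, 3⟩) (.one ⟨8483, 3, 4⟩))) (.node 2 (.node 1 (.one ⟨6665, 0, 4⟩) (.one ⟨16886, 2, 4⟩)) (.node 1 (.one ⟨12012, 3, 5⟩) (.one ⟨437, 2, 5⟩)))))) (.node 16 (.node 8 (.node 4 (.node 2 (.node 1 (.one ⟨624, 2, 4⟩) (.one ⟨15268, 2, 3⟩)) (.node 1 (.one ⟨15557, 1, 5⟩) (.one ⟨15269, 2, 5⟩))) (.node 2 (.node 1 (.one ⟨8913, 3, 5⟩) (.one ⟨14225, 1, 5⟩)) (.node 1 (.one ⟨9393, 3, 5⟩) (.one ⟨8783, 1, 5⟩)))) (.node 4 (.node 2 (.node 1 (.one ⟨10131, 3, 5⟩) (.one ⟨9446, 3, 4⟩)) (.node 1 (.one ⟨13431, 3, 2⟩) (.one ⟨4078, 2, 4⟩))) (.node 2 (.node 1 (.one ⟨2029, 3, 4⟩) (.one ⟨11370, 2, 3⟩)) (.node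 1 (.one ⟨12254, 1, 4⟩) (.one ⟨1009, 0, 5⟩))))) (.node 8 (.node 4 (.node 2 (.node 1 (.one ⟨10819, 0, 5⟩) (.one ⟨15007, 2, 5⟩)) (.node 1 (.one ⟨12818, 3, 4⟩) (.one ⟨7668, 1, 5⟩))) (.node 2 (.node 1 (.one ⟨9971, 3, 4⟩) (.one ⟨9944, 3, 5⟩)) (.node 1 (.one ⟨15026, 2, 4⟩) (.one ⟨12871, 2, 5⟩)))) (.node 4 (.node 2 (.node 1 (.one ⟨16073, 2, 5⟩) (.one ⟨12440, 3, 4⟩)) (.node 1 (.one ⟨11168, 2, 4⟩) (.one ⟨15877, 3, 5⟩))) (.node 2 (.node 1 (.one ⟨12441, 3, 5⟩) (.one ⟨796, 2, 4⟩)) (.node 1 (.one ⟨10563, 0, 3⟩) (.one ⟨6082, 3, 4⟩)))))))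
def par4_11_15 : Arr Par :=
  (.node 32 (.node 16 (.node 8 (.node 4 (.node 2 (.node 1 (.one ⟨2887, 2, 5⟩) (.one ⟨12690, 3, 4⟩)) (.node 1 (.one ⟨2620, 2, 4⟩) (.one ⟨3636, 1, 6⟩))) (.node 2 (.node 1 (.one ⟨2891, 3, 3⟩) (.one ⟨7059, 2, 4⟩)) (.node 1 (.one ⟨684, 2, 6⟩) (.one ⟨2997, 0, 5⟩)))) (.node 4 (.node 2 (.node 1 (.one ⟨840, 3, 5⟩) (.one ⟨16812, 1, 6⟩)) (.node 1 (.one ⟨4979, 2, 2⟩) (.one ⟨5619, 2, 4⟩))) (.node 2 (.node 1 (.one ⟨11758, 3, 5⟩) (.one ⟨14797, 2, 3⟩)) (.node 1 (.one ⟨4663, 2, 5⟩) (.one ⟨5429, 3, 4⟩))))) (.node 8 (.node 4 (.node 2 (.node 1 (.one ⟨8457, 3, 5⟩) (.one ⟨5424, 3, 4⟩)) (.node 1 (.one ⟨13477, 2, 3⟩) (.one ⟨13422, 1, 5⟩))) (.node 2 (.node 1 (.one ⟨10836, 2, 5⟩) (.one ⟨7148, 1, 5⟩)) (.node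 1 (.one ⟨6917, 1, 4⟩) (.one ⟨4436, 3, 5⟩)))) (.node 4 (.node 2 (.node 1 (.one ⟨9287, 3, 4⟩) (.one ⟨12146, 3, 3⟩)) (.node 1 (.one ⟨1923, 3, 5⟩) (.one ⟨9970, 3, 4⟩))) (.node 2 (.node 1 (.one ⟨6859, 0, 4⟩) (.one ⟨803, 0, 4⟩)) (.node 1 (.one ⟨9161, 2, 3⟩) (.one ⟨13304, 3, 5⟩)))))) (.node 16 (.node 8 (.node 4 (.node 2 (.node 1 (.one ⟨15784, 1, 2⟩) (.one ⟨1760, 3, 6⟩)) (.node 1 (.one ⟨5043, 0, 4⟩) (.one ⟨16875, 1, 3⟩))) (.node 2 (.node 1 (.one ⟨11593, 0, 4⟩) (.one ⟨3981, 1, 6⟩)) (.node 1 (.one ⟨4550, 2, 5⟩) (.one ⟨3490, 3, 6⟩)))) (.node 4 (.node 2 (.node 1 (.one ⟨13511, 1, 3⟩) (.one ⟨15250, 3, 4⟩)) (.node 1 (.one ⟨4823, 1, 4⟩) (.one ⟨3552, 3, 5⟩))) (.node 2 (.node 1 (.one ⟨2316, 1, 4⟩) (.one ⟨16037, 3, 6⟩)) (.node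 1 (.one ⟨16958, 3, 6⟩) (.one ⟨8248, 3, 3⟩))))) (.node 8 (.node 4 (.node 2 (.node 1 (.one ⟨5480, 2, 3⟩) (.one ⟨6081, 2, 5⟩)) (.node 1 (.one ⟨15208, 3, 4⟩) (.one ⟨1347, 0, 4⟩))) (.node 2 (.node 1 (.one ⟨7849, 2, 5⟩) (.one ⟨595, 0, 3⟩)) (.node 1 (.one ⟨9704, 3, 4⟩) (.one ⟨16319, 3, 4⟩)))) (.node 4 (.node 2 (.node 1 (.one ⟨6033, 0, 5⟩) (.one ⟨3265, 1, 3⟩)) (.node 1 (.one ⟨16118, 0, 5⟩) (.one ⟨5550, 1, 5⟩))) (.node 2 (.node 1 (.one ⟨11202, 2, 3⟩) (.one ⟨797, 2, 5⟩)) (.node 1 (.one ⟨9244, 0, 5⟩) (.one ⟨6423, 1, 6⟩)))))))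
def par4_11 : Arr Par :=
  (.node 512 (.node 256 (.node 128 (.node 64 par4_11_0 par4_11_1) (.node 64 par4_11_2 par4_11_3)) (.node 128 (.node 64 par4_11_4 par4_11_5) (.node 64 par4_11_6 par4_11_7))) (.node 256 (.node 128 (.node 64 par4_11_8 par4_11_9) (.node 64 par4_11_10 par4_11_11)) (.node 128 (.node 64 par4_11_12 par4_11_13) (.node 64 par4_11_14 par4_11_15))))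
def par4_12_0 : Arr Par :=
  (.node 32 (.node 16 (.node 8 (.node 4 (.node 2 (.node 1 (.one ⟨16539, 2, 4⟩) (.one ⟨16038, 2, 3⟩)) (.node 1 (.one ⟨17016, 1, 3⟩) (.one ⟨10384, 3, 5⟩))) (.node 2 (.node 1 (.one ⟨7449, 3, 4⟩) (.one ⟨11518, 3, 4⟩)) (.node 1 (.one ⟨6515, 3, 2⟩) (.one ⟨9559, 3, 3⟩)))) (.node 4 (.node 2 (.node 1 (.one ⟨15548, 1, 3⟩) (.one ⟨8983, 2, 4⟩)) (.node 1 (.one ⟨11638, 0, 4⟩) (.one ⟨2811, 3, 6⟩))) (.node 2 (.node 1 (.one ⟨6582, 1, 5⟩) (.one ⟨3340, 3, 3⟩)) (.node 1 (.one ⟨10915, 3, 3⟩) (.one ⟨2859, 0, 2⟩))))) (.node 8 (.node 4 (.node 2 (.node 1 (.one ⟨16792, 2, 4⟩) (.one ⟨6651, 3, 5⟩)) (.node 1 (.one ⟨13570, 0, 5⟩) (.one ⟨476, 3, 5⟩))) (.node 2 (.node 1 (.one ⟨14268, 1, 4⟩) (.one ⟨6680, 1, 4⟩)) (.node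 1 (.one ⟨10849, 3, 5⟩) (.one ⟨11632, 0, 2⟩)))) (.node 4 (.node 2 (.node 1 (.one ⟨14727, 2, 4⟩) (.one ⟨10949, 2, 4⟩)) (.node 1 (.one ⟨11658, 0, 5⟩) (.one ⟨10370, 1, 5⟩))) (.node 2 (.node 1 (.one ⟨11643, 0, 4⟩) (.one ⟨14086, 2, 6⟩)) (.node 1 (.one ⟨11670, 0, 4⟩) (.one ⟨12036, 3, 3⟩)))))) (.node 16 (.node 8 (.node 4 (.node 2 (.node 1 (.one ⟨13965, 2, 4⟩) (.one ⟨1152, 2, 5⟩)) (.node 1 (.one ⟨3620, 1, 4⟩) (.one ⟨6338, 3, 5⟩))) (.node 2 (.node 1 (.one ⟨6704, 3, 4⟩) (.one ⟨7549, 3, 3⟩)) (.node 1 (.one ⟨5992, 3, 5⟩) (.one ⟨58, 1, 2⟩)))) (.node 4 (.node 2 (.node 1 (.one ⟨7242, 2, 3⟩) (.one ⟨4872, 2, 4⟩)) (.node 1 (.one ⟨263, 2, 5⟩) (.one ⟨698, 3, 5⟩))) (.node 2 (.node 1 (.one ⟨840, 1, 5⟩) (.one ⟨6577, 3, 4⟩)) (.node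 1 (.one ⟨3484, 0, 4⟩) (.one ⟨15365, 0, 4⟩))))) (.node 8 (.node 4 (.node 2 (.node 1 (.one ⟨2657, 3, 3⟩) (.one ⟨3181, 3, 4⟩)) (.node 1 (.one ⟨5924, 1, 5⟩) (.one ⟨8318, 2, 5⟩))) (.node 2 (.node 1 (.one ⟨1303, 2, 5⟩) (.one ⟨15361, 0, 5⟩)) (.node 1 (.one ⟨5365, 3, 6⟩) (.one ⟨16551, 1, 4⟩)))) (.node 4 (.node 2 (.node 1 (.one ⟨11264, 1, 4⟩) (.one ⟨12021, 0, 5⟩)) (.node 1 (.one ⟨14183, 2, 5⟩) (.one ⟨13576, 1, 6⟩))) (.node 2 (.node 1 (.one ⟨9917, 3, 5⟩) (.one ⟨10655, 1, 3⟩)) (.node 1 (.one ⟨8983, 0, 4⟩) (.one ⟨495, 3, 3⟩)))))))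
def par4_12_1 : Arr Par :=
  (.node 32 (.node 16 (.node 8 (.node 4 (.node 2 (.node 1 (.one ⟨6785, 1, 3⟩) (.one ⟨10351, 1, 4⟩)) (.node 1 (.one ⟨15517, 1, 4⟩) (.one ⟨16568, 0, 5⟩))) (.node 2 (.node 1 (.one ⟨14736, 1, 4⟩) (.one ⟨2359, 1, 4⟩)) (.node 1 (.one ⟨6440, 3, 6⟩) (.one ⟨3501, 3, 5⟩)))) (.node 4 (.node 2 (.node 1 (.one ⟨4798, 2, 5⟩) (.one ⟨13822, 3, 5⟩)) (.node 1 (.one ⟨15634, 3, 4⟩) (.one ⟨5139, 1, 4⟩))) (.node 2 (.node 1 (.one ⟨15096, 2, 4⟩) (.one ⟨7132, 0, 5⟩)) (.node 1 (.one ⟨15251, 1, 4⟩) (.one ⟨16310, 2, 4⟩))))) (.node 8 (.node 4 (.node 2 (.node 1 (.one ⟨12582, 1, 3⟩) (.one ⟨12466, 3, 6⟩)) (.node 1 (.one ⟨8855, 2, 3⟩) (.one ⟨5303, 2, 3⟩))) (.node 2 (.node 1 (.one ⟨14714, 2, 4⟩) (.one ⟨6035, 2, 5⟩))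 (.node 1 (.one ⟨1804, 1, 3⟩) (.one ⟨10118, 3, 2⟩)))) (.node 4 (.node 2 (.node 1 (.one ⟨13535, 0, 3⟩) (.one ⟨11542, 1, 5⟩)) (.node 1 (.one ⟨12492, 3, 5⟩) (.one ⟨4468, 3, 5⟩))) (.node 2 (.node 1 (.one ⟨12241, 1, 5⟩) (.one ⟨11052, 1, 6⟩)) (.node 1 (.one ⟨2201, 3, 3⟩) (.one ⟨3145, 1, 5⟩)))))) (.node 16 (.node 8 (.node 4 (.node 2 (.node 1 (.one ⟨7341, 2, 5⟩) (.one ⟨14963, 1, 5⟩)) (.node 1 (.one ⟨13744, 3, 2⟩) (.one ⟨738, 3, 6⟩))) (.node 2 (.node 1 (.one ⟨4997, 0, 3⟩) (.one ⟨15187, 2, 5⟩)) (.node 1 (.one ⟨1684, 3, 5⟩) (.one ⟨4469, 3, 5⟩)))) (.node 4 (.node 2 (.node 1 (.one ⟨16713, 0, 4⟩) (.one ⟨15633, 2, 4⟩)) (.node 1 (.one ⟨13563, 0, 6⟩) (.one ⟨4670, 2, 4⟩))) (.node 2 (.node 1 (.one ⟨6202, 1, 4⟩) (.one ⟨5885, 3,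 5⟩)) (.node 1 (.one ⟨3959, 0, 2⟩) (.one ⟨15925, 0, 3⟩))))) (.node 8 (.node 4 (.node 2 (.node 1 (.one ⟨1465, 2, 5⟩) (.one ⟨2802, 3, 3⟩)) (.node 1 (.one ⟨3706, 2, 5⟩) (.one ⟨10977, 2, 5⟩))) (.node 2 (.node 1 (.one ⟨5942, 2, 4⟩) (.one ⟨12762, 2, 5⟩)) (.node 1 (.one ⟨7649, 2, 5⟩) (.one ⟨11167, 3, 4⟩)))) (.node 4 (.node 2 (.node 1 (.one ⟨5908, 2, 4⟩) (.one ⟨5849, 1, 3⟩)) (.node 1 (.one ⟨11655, 1, 5⟩) (.one ⟨14659, 3, 4⟩))) (.node 2 (.node 1 (.one ⟨2043, 0, 4⟩) (.one ⟨4806, 3, 5⟩)) (.node 1 (.one ⟨6098, 3, 6⟩) (.one ⟨11175, 3, 4⟩)))))))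
def par4_12_2 : Arr Par :=
  (.node 32 (.node 16 (.node 8 (.node 4 (.node 2 (.node 1 (.one ⟨10979, 3, 6⟩) (.one ⟨2862, 0, 5⟩)) (.node 1 (.one ⟨4805, 3, 3⟩) (.one ⟨11914, 3, 6⟩))) (.node 2 (.node 1 (.one ⟨1151, 2, 4⟩) (.one ⟨16897, 0, 5⟩)) (.node 1 (.one ⟨1716, 3, 5⟩) (.one ⟨2404, 1, 4⟩)))) (.node 4 (.node 2 (.node 1 (.one ⟨4949, 2, 5⟩) (.one ⟨3265, 3, 3⟩)) (.node 1 (.one ⟨2006, 2, 5⟩) (.one ⟨6097, 3, 4⟩))) (.node 2 (.node 1 (.one ⟨9613, 3, 7⟩) (.one ⟨3599, 0, 2⟩)) (.node 1 (.one ⟨4845, 2, 6⟩) (.one ⟨13575, 3, 4⟩))))) (.node 8 (.node 4 (.node 2 (.node 1 (.one ⟨10144, 0, 5⟩) (.one ⟨14869, 1, 4⟩)) (.node 1 (.one ⟨4185, 1, 5⟩) (.one ⟨6709, 3, 3⟩))) (.node 2 (.node 1 (.one ⟨2111, 2, 2⟩) (.one ⟨8691, 3, 3⟩)) (.node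 1 (.one ⟨15273, 1, 5⟩) (.one ⟨3205, 3, 5⟩)))) (.node 4 (.node 2 (.node 1 (.one ⟨2365, 2, 3⟩) (.one ⟨11518, 1, 4⟩)) (.node 1 (.one ⟨15760, 1, 5⟩) (.one ⟨4195, 2, 5⟩))) (.node 2 (.node 1 (.one ⟨9882, 3, 5⟩) (.one ⟨3909, 3, 5⟩)) (.node 1 (.one ⟨13168, 1, 4⟩) (.one ⟨8927, 3, 4⟩)))))) (.node 16 (.node 8 (.node 4 (.node 2 (.node 1 (.one ⟨5674, 1, 5⟩) (.one ⟨6918, 1, 4⟩)) (.node 1 (.one ⟨15150, 3, 4⟩) (.one ⟨6457, 2, 5⟩))) (.node 2 (.node 1 (.one ⟨12076, 2, 4⟩) (.one ⟨14308, 3, 4⟩)) (.node 1 (.one ⟨1108, 2, 4⟩) (.one ⟨11023, 3, 4⟩)))) (.node 4 (.node 2 (.node 1 (.one ⟨223, 3, 4⟩) (.one ⟨12205, 1, 4⟩)) (.node 1 (.one ⟨6892, 1, 5⟩) (.one ⟨11156, 3, 5⟩))) (.node 2 (.node 1 (.one ⟨6525, 0, 5⟩) (.one ⟨9067, 0, 5⟩)) (.node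 1 (.one ⟨15750, 3, 3⟩) (.one ⟨11299, 3, 4⟩))))) (.node 8 (.node 4 (.node 2 (.node 1 (.one ⟨5747, 3, 3⟩) (.one ⟨6963, 1, 5⟩)) (.node 1 (.one ⟨7995, 2, 5⟩) (.one ⟨8586, 0, 4⟩))) (.node 2 (.node 1 (.one ⟨14314, 3, 6⟩) (.one ⟨6680, 3, 4⟩)) (.node 1 (.one ⟨10519, 3, 4⟩) (.one ⟨16038, 0, 3⟩)))) (.node 4 (.node 2 (.node 1 (.one ⟨1233, 2, 5⟩) (.one ⟨15519, 3, 4⟩)) (.node 1 (.one ⟨11215, 3, 5⟩) (.one ⟨6519, 2, 4⟩))) (.node 2 (.node 1 (.one ⟨8178, 2, 5⟩) (.one ⟨11516, 2, 3⟩)) (.node 1 (.one ⟨11153, 1, 4⟩) (.one ⟨14453, 3, 5⟩)))))))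
def par4_12_3 : Arr Par :=
  (.node 32 (.node 16 (.node 8 (.node 4 (.node 2 (.node 1 (.one ⟨6957, 3, 5⟩) (.one ⟨15651, 3, 4⟩)) (.node 1 (.one ⟨5686, 3, 4⟩) (.one ⟨616, 1, 3⟩))) (.node 2 (.node 1 (.one ⟨4484, 1, 0⟩) (.one ⟨1738, 1, 3⟩)) (.node 1 (.one ⟨379, 1, 0⟩) (.one ⟨2993, 1, 4⟩)))) (.node 4 (.node 2 (.node 1 (.one ⟨683, 3, 6⟩) (.one ⟨15424, 0, 4⟩)) (.node 1 (.one ⟨7, 3, 5⟩) (.one ⟨3893, 1, 4⟩))) (.node 2 (.node 1 (.one ⟨11016, 1, 4⟩) (.one ⟨108, 3, 4⟩)) (.node 1 (.one ⟨12473, 2, 5⟩) (.one ⟨10905, 1, 6⟩))))) (.node 8 (.node 4 (.node 2 (.node 1 (.one ⟨10133, 1, 3⟩) (.one ⟨13538, 1, 6⟩)) (.node 1 (.one ⟨12164, 1, 6⟩) (.one ⟨13127, 1, 5⟩))) (.node 2 (.node 1 (.one ⟨9399, 2, 5⟩) (.one ⟨15070, 2, 4⟩)) (.node 1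 (.one ⟨16876, 0, 3⟩) (.one ⟨5890, 0, 5⟩)))) (.node 4 (.node 2 (.node 1 (.one ⟨13615, 3, 5⟩) (.one ⟨2788, 2, 4⟩)) (.node 1 (.one ⟨9213, 1, 3⟩) (.one ⟨10943, 3, 5⟩))) (.node 2 (.node 1 (.one ⟨16545, 0, 5⟩) (.one ⟨8474, 3, 4⟩)) (.node 1 (.one ⟨15019, 1, 5⟩) (.one ⟨10677, 2, 3⟩)))))) (.node 16 (.node 8 (.node 4 (.node 2 (.node 1 (.one ⟨10946, 3, 4⟩) (.one ⟨9346, 1, 4⟩)) (.node 1 (.one ⟨7631, 3, 5⟩) (.one ⟨14611, 3, 6⟩))) (.node 2 (.node 1 (.one ⟨3617, 2, 4⟩) (.one ⟨5124, 3, 5⟩)) (.node 1 (.one ⟨5591, 0, 5⟩) (.one ⟨11166, 2, 4⟩)))) (.node 4 (.node 2 (.node 1 (.one ⟨15916, 0, 5⟩) (.one ⟨14435, 2, 5⟩)) (.node 1 (.one ⟨6988, 1, 3⟩) (.one ⟨15007, 1, 5⟩))) (.node 2 (.node 1 (.one ⟨1743, 1, 5⟩) (.one ⟨15803, 0, 5⟩)) (.node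 1 (.one ⟨5412, 3, 5⟩) (.one ⟨10604, 3, 4⟩))))) (.node 8 (.node 4 (.node 2 (.node 1 (.one ⟨651, 3, 5⟩) (.one ⟨7155, 2, 7⟩)) (.node 1 (.one ⟨11970, 2, 4⟩) (.one ⟨7231, 3, 4⟩))) (.node 2 (.node 1 (.one ⟨9444, 0, 2⟩) (.one ⟨16797, 3, 5⟩)) (.node 1 (.one ⟨14590, 2, 4⟩) (.one ⟨14212, 3, 4⟩)))) (.node 4 (.node 2 (.node 1 (.one ⟨5718, 2, 5⟩) (.one ⟨378, 1, 3⟩)) (.node 1 (.one ⟨11539, 2, 4⟩) (.one ⟨9857, 0, 5⟩))) (.node 2 (.node 1 (.one ⟨260, 1, 5⟩) (.one ⟨13142, 1, 4⟩)) (.node 1 (.one ⟨8244, 3, 5⟩) (.one ⟨8498, 3, 5⟩)))))))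
def par4_12_4 : Arr Par :=
  (.node 32 (.node 16 (.node 8 (.node 4 (.node 2 (.node 1 (.one ⟨4895, 2, 5⟩) (.one ⟨1299, 0, 4⟩)) (.node 1 (.one ⟨4029, 3, 7⟩) (.one ⟨4717, 1, 5⟩))) (.node 2 (.node 1 (.one ⟨5195, 0, 5⟩) (.one ⟨5261, 0, 4⟩)) (.node 1 (.one ⟨16170, 3, 5⟩) (.one ⟨1908, 3, 5⟩)))) (.node 4 (.node 2 (.node 1 (.one ⟨9028, 1, 6⟩) (.one ⟨13612, 1, 4⟩)) (.node 1 (.one ⟨12327, 3, 3⟩) (.one ⟨8520, 3, 4⟩))) (.node 2 (.node 1 (.one ⟨2708, 1, 0⟩) (.one ⟨8855, 0, 3⟩)) (.node 1 (.one ⟨15654, 3, 5⟩) (.one ⟨13744, 0, 2⟩))))) (.node 8 (.node 4 (.node 2 (.node 1 (.one ⟨9152, 0, 5⟩) (.one ⟨5143, 1, 5⟩)) (.node 1 (.one ⟨3889, 2, 5⟩) (.one ⟨11175, 0, 4⟩))) (.node 2 (.node 1 (.one ⟨15003, 0, 3⟩) (.one ⟨2111, 1, 2⟩)) (.node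 1 (.one ⟨956, 0, 3⟩) (.one ⟨11469, 0, 4⟩)))) (.node 4 (.node 2 (.node 1 (.one ⟨4705, 1, 5⟩) (.one ⟨14555, 2, 5⟩)) (.node 1 (.one ⟨859, 1, 3⟩) (.one ⟨15009, 1, 5⟩))) (.node 2 (.node 1 (.one ⟨10260, 3, 6⟩) (.one ⟨16021, 1, 5⟩)) (.node 1 (.one ⟨12856, 3, 5⟩) (.one ⟨5281, 2, 5⟩)))))) (.node 16 (.node 8 (.node 4 (.node 2 (.node 1 (.one ⟨5439, 3, 5⟩) (.one ⟨10035, 0, 5⟩)) (.node 1 (.one ⟨8761, 2, 6⟩) (.one ⟨1035, 1, 5⟩))) (.node 2 (.node 1 (.one ⟨8212, 0, 5⟩) (.one ⟨12158, 0, 5⟩)) (.node 1 (.one ⟨5583, 2, 2⟩) (.one ⟨66, 3, 4⟩)))) (.node 4 (.node 2 (.node 1 (.one ⟨11850, 1, 2⟩) (.one ⟨7148, 0, 5⟩)) (.node 1 (.one ⟨9294, 3, 4⟩) (.one ⟨13968, 2, 6⟩))) (.node 2 (.node 1 (.one ⟨16276, 2, 4⟩) (.one ⟨10739, 3, 6⟩)) (.node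 1 (.one ⟨1454, 3, 3⟩) (.one ⟨6504, 3, 5⟩))))) (.node 8 (.node 4 (.node 2 (.node 1 (.one ⟨8729, 3, 5⟩) (.one ⟨14380, 2, 5⟩)) (.node 1 (.one ⟨13488, 2, 4⟩) (.one ⟨5002, 0, 5⟩))) (.node 2 (.node 1 (.one ⟨9505, 2, 5⟩) (.one ⟨12792, 3, 6⟩)) (.node 1 (.one ⟨5312, 1, 6⟩) (.one ⟨16153, 3, 5⟩)))) (.node 4 (.node 2 (.node 1 (.one ⟨14787, 1, 4⟩) (.one ⟨15641, 3, 3⟩)) (.node 1 (.one ⟨1066, 2, 5⟩) (.one ⟨2191, 3, 4⟩))) (.node 2 (.node 1 (.one ⟨1067, 2, 5⟩) (.one ⟨15570, 1, 4⟩)) (.node 1 (.one ⟨2436, 3, 3⟩) (.one ⟨9501, 3, 5⟩)))))))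
def par4_12_5 : Arr Par :=
  (.node 32 (.node 16 (.node 8 (.node 4 (.node 2 (.node 1 (.one ⟨10911, 2, 4⟩) (.one ⟨13257, 1, 4⟩)) (.node 1 (.one ⟨547, 0, 4⟩) (.one ⟨3008, 1, 4⟩))) (.node 2 (.node 1 (.one ⟨6136, 2, 3⟩) (.one ⟨744, 1, 4⟩)) (.node 1 (.one ⟨4342, 1, 5⟩) (.one ⟨2517, 0, 4⟩)))) (.node 4 (.node 2 (.node 1 (.one ⟨495, 2, 3⟩) (.one ⟨1258, 0, 4⟩)) (.node 1 (.one ⟨12486, 1, 1⟩) (.one ⟨16379, 2, 5⟩))) (.node 2 (.node 1 (.one ⟨423, 3, 4⟩) (.one ⟨5019, 2, 4⟩)) (.node 1 (.one ⟨16429, 3, 3⟩) (.one ⟨7701, 1, 4⟩))))) (.node 8 (.node 4 (.node 2 (.node 1 (.one ⟨2080, 3, 5⟩) (.one ⟨2296, 2, 5⟩)) (.node 1 (.one ⟨5898, 0, 3⟩) (.one ⟨10859, 2, 3⟩))) (.node 2 (.node 1 (.one ⟨2346, 3, 5⟩) (.one ⟨2258, 3, 5⟩)) (.node 1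 (.one ⟨6583, 2, 4⟩) (.one ⟨649, 1, 5⟩)))) (.node 4 (.node 2 (.node 1 (.one ⟨4436, 0, 5⟩) (.one ⟨825, 1, 3⟩)) (.node 1 (.one ⟨996, 3, 6⟩) (.one ⟨16347, 3, 5⟩))) (.node 2 (.node 1 (.one ⟨11334, 3, 5⟩) (.one ⟨13024, 3, 5⟩)) (.node 1 (.one ⟨2223, 2, 4⟩) (.one ⟨16385, 2, 6⟩)))))) (.node 16 (.node 8 (.node 4 (.node 2 (.node 1 (.one ⟨8122, 3, 5⟩) (.one ⟨12041, 3, 5⟩)) (.node 1 (.one ⟨1202, 3, 5⟩) (.one ⟨10132, 2, 5⟩))) (.node 2 (.node 1 (.one ⟨13905, 3, 3⟩) (.one ⟨7641, 0, 5⟩)) (.node 1 (.one ⟨6584, 2, 4⟩) (.one ⟨14596, 3, 5⟩)))) (.node 4 (.node 2 (.node 1 (.one ⟨13813, 1, 5⟩) (.one ⟨15016, 1, 4⟩)) (.node 1 (.one ⟨1790, 3, 5⟩) (.one ⟨959, 1, 3⟩))) (.node 2 (.node 1 (.one ⟨12463, 2, 5⟩) (.one ⟨6831, 1, 5⟩)) (.node 1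 (.one ⟨3049, 1, 5⟩) (.one ⟨6458, 0, 4⟩))))) (.node 8 (.node 4 (.node 2 (.node 1 (.one ⟨5303, 0, 3⟩) (.one ⟨10142, 3, 4⟩)) (.node 1 (.one ⟨5220, 2, 5⟩) (.one ⟨4106, 0, 4⟩))) (.node 2 (.node 1 (.one ⟨9984, 1, 5⟩) (.one ⟨8085, 0, 5⟩)) (.node 1 (.one ⟨5379, 2, 5⟩) (.one ⟨9568, 1, 5⟩)))) (.node 4 (.node 2 (.node 1 (.one ⟨14947, 0, 4⟩) (.one ⟨3957, 3, 5⟩)) (.node 1 (.one ⟨14921, 1, 5⟩) (.one ⟨11059, 1, 4⟩))) (.node 2 (.node 1 (.one ⟨15714, 0, 4⟩) (.one ⟨13736, 3, 6⟩)) (.node 1 (.one ⟨10959, 3, 4⟩) (.one ⟨4441, 3, 5⟩)))))))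
def par4_12_6 : Arr Par :=
  (.node 32 (.node 16 (.node 8 (.node 4 (.node 2 (.node 1 (.one ⟨11345, 3, 5⟩) (.one ⟨6175, 1, 6⟩)) (.node 1 (.one ⟨12222, 0, 4⟩) (.one ⟨2227, 2, 4⟩))) (.node 2 (.node 1 (.one ⟨359, 2, 4⟩) (.one ⟨7113, 3, 4⟩)) (.node 1 (.one ⟨1701, 2, 4⟩) (.one ⟨1001, 1, 4⟩)))) (.node 4 (.node 2 (.node 1 (.one ⟨6091, 0, 4⟩) (.one ⟨11159, 1, 4⟩)) (.node 1 (.one ⟨11163, 1, 5⟩) (.one ⟨8706, 3, 3⟩))) (.node 2 (.node 1 (.one ⟨643, 1, 1⟩) (.one ⟨15425, 3, 6⟩)) (.node 1 (.one ⟨13563, 2, 6⟩) (.one ⟨3075, 1, 3⟩))))) (.node 8 (.node 4 (.node 2 (.node 1 (.one ⟨3531, 3, 5⟩) (.one ⟨7298, 3, 2⟩)) (.node 1 (.one ⟨850, 3, 3⟩) (.one ⟨15030, 3, 4⟩))) (.node 2 (.node 1 (.one ⟨15645, 0, 4⟩) (.one ⟨16604, 3, 4⟩)) (.node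 1 (.one ⟨12456, 3, 5⟩) (.one ⟨15419, 0, 5⟩)))) (.node 4 (.node 2 (.node 1 (.one ⟨14809, 1, 6⟩) (.one ⟨10140, 2, 4⟩)) (.node 1 (.one ⟨1325, 1, 6⟩) (.one ⟨11272, 0, 6⟩))) (.node 2 (.node 1 (.one ⟨3768, 1, 5⟩) (.one ⟨3381, 1, 6⟩)) (.node 1 (.one ⟨16661, 1, 4⟩) (.one ⟨13235, 0, 4⟩)))))) (.node 16 (.node 8 (.node 4 (.node 2 (.node 1 (.one ⟨13231, 0, 5⟩) (.one ⟨4084, 1, 5⟩)) (.node 1 (.one ⟨4587, 3, 4⟩) (.one ⟨5381, 2, 3⟩))) (.node 2 (.node 1 (.one ⟨2081, 3, 5⟩) (.one ⟨2507, 3, 4⟩)) (.node 1 (.one ⟨951, 0, 5⟩) (.one ⟨3891, 0, 5⟩)))) (.node 4 (.node 2 (.node 1 (.one ⟨11190, 1, 5⟩) (.one ⟨5442, 1, 4⟩)) (.node 1 (.one ⟨11919, 1, 4⟩) (.one ⟨9216, 3, 5⟩))) (.node 2 (.node 1 (.one ⟨4718, 3, 5⟩) (.one ⟨6326, 1, 4⟩)) (.node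 1 (.one ⟨14692, 3, 5⟩) (.one ⟨11496, 3, 5⟩))))) (.node 8 (.node 4 (.node 2 (.node 1 (.one ⟨8206, 3, 5⟩) (.one ⟨15503, 3, 5⟩)) (.node 1 (.one ⟨4404, 3, 4⟩) (.one ⟨13381, 3, 5⟩))) (.node 2 (.node 1 (.one ⟨6282, 3, 3⟩) (.one ⟨16852, 3, 4⟩)) (.node 1 (.one ⟨16202, 1, 5⟩) (.one ⟨8322, 0, 4⟩)))) (.node 4 (.node 2 (.node 1 (.one ⟨6909, 1, 6⟩) (.one ⟨13666, 2, 2⟩)) (.node 1 (.one ⟨6277, 0, 5⟩) (.one ⟨10138, 1, 3⟩))) (.node 2 (.node 1 (.one ⟨11969, 3, 4⟩) (.one ⟨14802, 1, 5⟩)) (.node 1 (.one ⟨10353, 0, 4⟩) (.one ⟨15204, 1, 2⟩)))))))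
def par4_12_7 : Arr Par :=
  (.node 32 (.node 16 (.node 8 (.node 4 (.node 2 (.node 1 (.one ⟨1801, 2, 4⟩) (.one ⟨12712, 3, 6⟩)) (.node 1 (.one ⟨779, 3, 5⟩) (.one ⟨13265, 2, 4⟩))) (.node 2 (.node 1 (.one ⟨5431, 2, 4⟩) (.one ⟨7583, 2, 4⟩)) (.node 1 (.one ⟨14794, 3, 4⟩) (.one ⟨14297, 1, 4⟩)))) (.node 4 (.node 2 (.node 1 (.one ⟨12218, 3, 5⟩) (.one ⟨13357, 2, 4⟩)) (.node 1 (.one ⟨2877, 1, 4⟩) (.one ⟨15232, 3, 5⟩))) (.node 2 (.node 1 (.one ⟨7817, 2, 5⟩) (.one ⟨4344, 2, 5⟩)) (.node 1 (.one ⟨2413, 1, 5⟩) (.one ⟨7572, 3, 3⟩))))) (.node 8 (.node 4 (.node 2 (.node 1 (.one ⟨4784, 3, 5⟩) (.one ⟨3631, 3, 3⟩)) (.node 1 (.one ⟨16953, 1, 4⟩) (.one ⟨5696, 3, 1⟩))) (.node 2 (.node 1 (.one ⟨5419, 0, 4⟩) (.one ⟨16646, 2, 5⟩)) (.node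 1 (.one ⟨6844, 3, 5⟩) (.one ⟨14789, 3, 5⟩)))) (.node 4 (.node 2 (.node 1 (.one ⟨9781, 3, 5⟩) (.one ⟨10125, 3, 6⟩)) (.node 1 (.one ⟨109, 0, 4⟩) (.one ⟨15534, 0, 3⟩))) (.node 2 (.node 1 (.one ⟨6547, 0, 4⟩) (.one ⟨9034, 1, 5⟩)) (.node 1 (.one ⟨6867, 1, 3⟩) (.one ⟨6244, 3, 3⟩)))))) (.node 16 (.node 8 (.node 4 (.node 2 (.node 1 (.one ⟨8814, 2, 4⟩) (.one ⟨13627, 3, 3⟩)) (.node 1 (.one ⟨16116, 0, 6⟩) (.one ⟨10351, 0, 4⟩))) (.node 2 (.node 1 (.one ⟨4979, 0, 2⟩) (.one ⟨6208, 0, 5⟩)) (.node 1 (.one ⟨17136, 2, 5⟩) (.one ⟨6333, 2, 3⟩)))) (.node 4 (.node 2 (.node 1 (.one ⟨5245, 3, 3⟩) (.one ⟨8167, 2, 4⟩)) (.node 1 (.one ⟨11359, 3, 1⟩) (.one ⟨10824, 1, 4⟩))) (.node 2 (.node 1 (.one ⟨15097, 0, 2⟩) (.one ⟨17099, 3, 2⟩)) (.node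 1 (.one ⟨5521, 3, 3⟩) (.one ⟨5751, 1, 5⟩))))) (.node 8 (.node 4 (.node 2 (.node 1 (.one ⟨2572, 2, 4⟩) (.one ⟨2641, 1, 5⟩)) (.node 1 (.one ⟨1305, 2, 4⟩) (.one ⟨619, 0, 4⟩))) (.node 2 (.node 1 (.one ⟨1351, 3, 6⟩) (.one ⟨4800, 2, 4⟩)) (.node 1 (.one ⟨11897, 2, 3⟩) (.one ⟨711, 3, 6⟩)))) (.node 4 (.node 2 (.node 1 (.one ⟨6938, 1, 5⟩) (.one ⟨204, 2, 4⟩)) (.node 1 (.one ⟨9871, 0, 6⟩) (.one ⟨650, 2, 4⟩))) (.node 2 (.node 1 (.one ⟨13040, 2, 4⟩) (.one ⟨15437, 1, 2⟩)) (.node 1 (.one ⟨10712, 1, 4⟩) (.one ⟨3420, 1, 4⟩)))))))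
def par4_12_8 : Arr Par :=
  (.node 32 (.node 16 (.node 8 (.node 4 (.node 2 (.node 1 (.one ⟨2493, 3, 4⟩) (.one ⟨7876, 2, 3⟩)) (.node 1 (.one ⟨15483, 3, 5⟩) (.one ⟨7071, 3, 3⟩))) (.node 2 (.node 1 (.one ⟨16132, 3, 2⟩) (.one ⟨6839, 1, 5⟩)) (.node 1 (.one ⟨9958, 0, 6⟩) (.one ⟨16526, 2, 4⟩)))) (.node 4 (.node 2 (.node 1 (.one ⟨14781, 2, 3⟩) (.one ⟨15853, 2, 5⟩)) (.node 1 (.one ⟨978, 3, 6⟩) (.one ⟨7975, 0, 4⟩))) (.node 2 (.node 1 (.one ⟨2977, 3, 3⟩) (.one ⟨7868, 3, 3⟩)) (.node 1 (.one ⟨8732, 3, 3⟩) (.one ⟨13217, 3, 4⟩))))) (.node 8 (.node 4 (.node 2 (.node 1 (.one ⟨13369, 3, 6⟩) (.one ⟨2802, 2, 3⟩)) (.node 1 (.one ⟨2805, 2, 3⟩) (.one ⟨1528, 0, 3⟩))) (.node 2 (.node 1 (.one ⟨2804, 2, 5⟩) (.one ⟨15095, 1, 5⟩)) (.node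 1 (.one ⟨12187, 1, 5⟩) (.one ⟨8498, 0, 5⟩)))) (.node 4 (.node 2 (.node 1 (.one ⟨13061, 2, 5⟩) (.one ⟨8426, 3, 5⟩)) (.node 1 (.one ⟨2957, 3, 4⟩) (.one ⟨967, 3, 5⟩))) (.node 2 (.node 1 (.one ⟨3413, 0, 5⟩) (.one ⟨4207, 2, 4⟩)) (.node 1 (.one ⟨13908, 3, 4⟩) (.one ⟨2794, 3, 6⟩)))))) (.node 16 (.node 8 (.node 4 (.node 2 (.node 1 (.one ⟨7037, 2, 4⟩) (.one ⟨1935, 2, 4⟩)) (.node 1 (.one ⟨13345, 1, 5⟩) (.one ⟨1817, 1, 6⟩))) (.node 2 (.node 1 (.one ⟨1465, 3, 5⟩) (.one ⟨14646, 0, 6⟩)) (.node 1 (.one ⟨2751, 3, 3⟩) (.one ⟨11600, 3, 4⟩)))) (.node 4 (.node 2 (.node 1 (.one ⟨13424, 2, 4⟩) (.one ⟨4015, 1, 5⟩)) (.node 1 (.one ⟨6917, 0, 4⟩) (.one ⟨6427, 2, 3⟩))) (.node 2 (.node 1 (.one ⟨12336, 1, 4⟩) (.one ⟨10025, 1, 4⟩)) (.node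 1 (.one ⟨12787, 0, 5⟩) (.one ⟨1370, 3, 5⟩))))) (.node 8 (.node 4 (.node 2 (.node 1 (.one ⟨11062, 3, 4⟩) (.one ⟨12489, 3, 5⟩)) (.node 1 (.one ⟨8270, 0, 4⟩) (.one ⟨13442, 3, 6⟩))) (.node 2 (.node 1 (.one ⟨6139, 2, 3⟩) (.one ⟨2825, 3, 3⟩)) (.node 1 (.one ⟨10025, 3, 4⟩) (.one ⟨13887, 3, 5⟩)))) (.node 4 (.node 2 (.node 1 (.one ⟨10100, 1, 4⟩) (.one ⟨13280, 1, 4⟩)) (.node 1 (.one ⟨5475, 3, 4⟩) (.one ⟨16009, 0, 4⟩))) (.node 2 (.node 1 (.one ⟨12568, 2, 6⟩) (.one ⟨14396, 2, 4⟩)) (.node 1 (.one ⟨16851, 3, 6⟩) (.one ⟨1840, 0, 5⟩)))))))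
def par4_12_9 : Arr Par :=
  (.node 32 (.node 16 (.node 8 (.node 4 (.node 2 (.node 1 (.one ⟨16102, 1, 3⟩) (.one ⟨9379, 3, 4⟩)) (.node 1 (.one ⟨11735, 2, 5⟩) (.one ⟨16976, 2, 3⟩))) (.node 2 (.node 1 (.one ⟨11970, 1, 4⟩) (.one ⟨3122, 2, 4⟩)) (.node 1 (.one ⟨3162, 3, 2⟩) (.one ⟨2633, 0, 4⟩)))) (.node 4 (.node 2 (.node 1 (.one ⟨5613, 0, 4⟩) (.one ⟨7709, 1, 3⟩)) (.node 1 (.one ⟨7152, 0, 4⟩) (.one ⟨3203, 1, 2⟩))) (.node 2 (.node 1 (.one ⟨16145, 1, 3⟩) (.one ⟨12005, 3, 5⟩)) (.node 1 (.one ⟨13318, 1, 5⟩) (.one ⟨14401, 3, 3⟩))))) (.node 8 (.node 4 (.node 2 (.node 1 (.one ⟨3813, 3, 4⟩) (.one ⟨12053, 3, 2⟩)) (.node 1 (.one ⟨8791, 1, 4⟩) (.one ⟨12205, 3, 4⟩))) (.node 2 (.node 1 (.one ⟨295, 0, 5⟩) (.one ⟨5631, 2, 5⟩)) (.node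 1 (.one ⟨16451, 2, 4⟩) (.one ⟨435, 2, 4⟩)))) (.node 4 (.node 2 (.node 1 (.one ⟨1177, 3, 5⟩) (.one ⟨10712, 3, 4⟩)) (.node 1 (.one ⟨1617, 2, 5⟩) (.one ⟨3731, 1, 3⟩))) (.node 2 (.node 1 (.one ⟨267, 2, 4⟩) (.one ⟨1615, 2, 4⟩)) (.node 1 (.one ⟨5980, 1, 5⟩) (.one ⟨6204, 0, 4⟩)))))) (.node 16 (.node 8 (.node 4 (.node 2 (.node 1 (.one ⟨11149, 3, 3⟩) (.one ⟨5987, 1, 5⟩)) (.node 1 (.one ⟨5838, 1, 4⟩) (.one ⟨6728, 0, 5⟩))) (.node 2 (.node 1 (.one ⟨691, 1, 6⟩) (.one ⟨8245, 2, 4⟩)) (.node 1 (.one ⟨17130, 2, 4⟩) (.one ⟨13681, 3, 4⟩)))) (.node 4 (.node 2 (.node 1 (.one ⟨11028, 3, 4⟩) (.one ⟨15361, 3, 5⟩)) (.node 1 (.one ⟨3039, 2, 5⟩) (.one ⟨429, 3, 4⟩))) (.node 2 (.node 1 (.one ⟨6921, 3, 3⟩) (.one ⟨12702, 0, 5⟩)) (.node 1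 (.one ⟨16791, 2, 3⟩) (.one ⟨6733, 3, 4⟩))))) (.node 8 (.node 4 (.node 2 (.node 1 (.one ⟨6973, 3, 5⟩) (.one ⟨3264, 3, 5⟩)) (.node 1 (.one ⟨3389, 3, 5⟩) (.one ⟨2732, 0, 4⟩))) (.node 2 (.node 1 (.one ⟨142, 2, 5⟩) (.one ⟨10071, 1, 3⟩)) (.node 1 (.one ⟨7929, 0, 5⟩) (.one ⟨9505, 3, 5⟩)))) (.node 4 (.node 2 (.node 1 (.one ⟨13842, 2, 5⟩) (.one ⟨13843, 2, 4⟩)) (.node 1 (.one ⟨1136, 3, 3⟩) (.one ⟨1586, 3, 4⟩))) (.node 2 (.node 1 (.one ⟨1248, 3, 6⟩) (.one ⟨833, 2, 5⟩)) (.node 1 (.one ⟨2420, 0, 5⟩) (.one ⟨14568, 2, 5⟩)))))))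
def par4_12_10 : Arr Par :=
  (.node 32 (.node 16 (.node 8 (.node 4 (.node 2 (.node 1 (.one ⟨9475, 3, 3⟩) (.one ⟨10528, 0, 5⟩)) (.node 1 (.one ⟨14513, 0, 4⟩) (.one ⟨10896, 2, 3⟩))) (.node 2 (.node 1 (.one ⟨7710, 3, 4⟩) (.one ⟨3975, 2, 3⟩)) (.node 1 (.one ⟨11521, 1, 3⟩) (.one ⟨6076, 3, 6⟩)))) (.node 4 (.node 2 (.node 1 (.one ⟨7159, 2, 5⟩) (.one ⟨14274, 0, 5⟩)) (.node 1 (.one ⟨15424, 2, 4⟩) (.one ⟨7653, 3, 4⟩))) (.node 2 (.node 1 (.one ⟨2868, 3, 4⟩) (.one ⟨9896, 2, 6⟩)) (.node 1 (.one ⟨17088, 3, 5⟩) (.one ⟨4225, 3, 5⟩))))) (.node 8 (.node 4 (.node 2 (.node 1 (.one ⟨16867, 3, 6⟩) (.one ⟨4720, 0, 6⟩)) (.node 1 (.one ⟨10158, 1, 5⟩) (.one ⟨11575, 0, 6⟩))) (.node 2 (.node 1 (.one ⟨15989, 3, 3⟩) (.one ⟨5385, 2, 3⟩))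 (.node 1 (.one ⟨14598, 1, 5⟩) (.one ⟨1623, 1, 5⟩)))) (.node 4 (.node 2 (.node 1 (.one ⟨15402, 3, 4⟩) (.one ⟨11351, 2, 5⟩)) (.node 1 (.one ⟨12839, 1, 5⟩) (.one ⟨13253, 3, 4⟩))) (.node 2 (.node 1 (.one ⟨8557, 0, 2⟩) (.one ⟨8503, 0, 2⟩)) (.node 1 (.one ⟨9359, 3, 4⟩) (.one ⟨14572, 2, 3⟩)))))) (.node 16 (.node 8 (.node 4 (.node 2 (.node 1 (.one ⟨6797, 1, 4⟩) (.one ⟨2373, 1, 3⟩)) (.node 1 (.one ⟨14455, 2, 5⟩) (.one ⟨1581, 1, 4⟩))) (.node 2 (.node 1 (.one ⟨11600, 1, 4⟩) (.one ⟨13571, 3, 6⟩)) (.node 1 (.one ⟨9162, 2, 5⟩) (.one ⟨12351, 1, 4⟩)))) (.node 4 (.node 2 (.node 1 (.one ⟨10398, 0, 5⟩) (.one ⟨6656, 3, 5⟩)) (.node 1 (.one ⟨11782, 2, 5⟩) (.one ⟨14268, 0, 4⟩))) (.node 2 (.node 1 (.one ⟨6341, 1, 5⟩) (.one ⟨1236, 2,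 3⟩)) (.node 1 (.one ⟨11820, 2, 4⟩) (.one ⟨6080, 3, 5⟩))))) (.node 8 (.node 4 (.node 2 (.node 1 (.one ⟨3140, 2, 5⟩) (.one ⟨11518, 2, 4⟩)) (.node 1 (.one ⟨13428, 3, 6⟩) (.one ⟨12931, 1, 4⟩))) (.node 2 (.node 1 (.one ⟨7904, 1, 3⟩) (.one ⟨4911, 2, 4⟩)) (.node 1 (.one ⟨4226, 2, 5⟩) (.one ⟨5130, 1, 3⟩)))) (.node 4 (.node 2 (.node 1 (.one ⟨8063, 0, 5⟩) (.one ⟨6905, 2, 3⟩)) (.node 1 (.one ⟨1756, 2, 3⟩) (.one ⟨9114, 0, 3⟩))) (.node 2 (.node 1 (.one ⟨17049, 1, 4⟩) (.one ⟨8106, 3, 3⟩)) (.node 1 (.one ⟨16569, 2, 4⟩) (.one ⟨7448, 3, 5⟩)))))))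
def par4_12_11 : Arr Par :=
  (.node 32 (.node 16 (.node 8 (.node 4 (.node 2 (.node 1 (.one ⟨15386, 2, 4⟩) (.one ⟨10649, 3, 5⟩)) (.node 1 (.one ⟨8065, 3, 3⟩) (.one ⟨6482, 3, 5⟩))) (.node 2 (.node 1 (.one ⟨16976, 1, 3⟩) (.one ⟨8829, 0, 4⟩)) (.node 1 (.one ⟨8393, 3, 6⟩) (.one ⟨12678, 3, 5⟩)))) (.node 4 (.node 2 (.node 1 (.one ⟨15585, 1, 3⟩) (.one ⟨13957, 0, 4⟩)) (.node 1 (.one ⟨13752, 1, 2⟩) (.one ⟨5490, 2, 5⟩))) (.node 2 (.node 1 (.one ⟨13212, 2, 5⟩) (.one ⟨14075, 3, 5⟩)) (.node 1 (.one ⟨6879, 2, 5⟩) (.one ⟨15743, 2, 5⟩))))) (.node 8 (.node 4 (.node 2 (.node 1 (.one ⟨15104, 2, 5⟩) (.one ⟨398, 1, 5⟩)) (.node 1 (.one ⟨12554, 2, 4⟩) (.one ⟨15814, 2, 5⟩))) (.node 2 (.node 1 (.one ⟨14907, 2, 5⟩) (.one ⟨11339, 2, 5⟩))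 (.node 1 (.one ⟨12221, 2, 5⟩) (.one ⟨8002, 1, 3⟩)))) (.node 4 (.node 2 (.node 1 (.one ⟨6897, 3, 3⟩) (.one ⟨9881, 2, 5⟩)) (.node 1 (.one ⟨15377, 3, 6⟩) (.one ⟨6324, 1, 4⟩))) (.node 2 (.node 1 (.one ⟨9028, 0, 6⟩) (.one ⟨4040, 0, 6⟩)) (.node 1 (.one ⟨15404, 3, 4⟩) (.one ⟨9266, 0, 5⟩)))))) (.node 16 (.node 8 (.node 4 (.node 2 (.node 1 (.one ⟨11565, 1, 4⟩) (.one ⟨9579, 3, 6⟩)) (.node 1 (.one ⟨4276, 2, 4⟩) (.one ⟨14432, 1, 4⟩))) (.node 2 (.node 1 (.one ⟨1328, 2, 1⟩) (.one ⟨4383, 3, 6⟩)) (.node 1 (.one ⟨6226, 3, 6⟩) (.one ⟨6225, 3, 6⟩)))) (.node 4 (.node 2 (.node 1 (.one ⟨693, 3, 5⟩) (.one ⟨14059, 2, 6⟩)) (.node 1 (.one ⟨13214, 1, 4⟩) (.one ⟨11339, 1, 5⟩))) (.node 2 (.node 1 (.one ⟨10435, 3, 5⟩) (.one ⟨7205, 1, 4⟩))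 (.node 1 (.one ⟨2245, 3, 5⟩) (.one ⟨3877, 2, 5⟩))))) (.node 8 (.node 4 (.node 2 (.node 1 (.one ⟨12085, 0, 3⟩) (.one ⟨8301, 1, 5⟩)) (.node 1 (.one ⟨11017, 2, 4⟩) (.one ⟨2322, 0, 6⟩))) (.node 2 (.node 1 (.one ⟨16762, 3, 4⟩) (.one ⟨6306, 3, 3⟩)) (.node 1 (.one ⟨12801, 2, 4⟩) (.one ⟨12781, 1, 3⟩)))) (.node 4 (.node 2 (.node 1 (.one ⟨11808, 1, 4⟩) (.one ⟨2922, 1, 4⟩)) (.node 1 (.one ⟨1391, 3, 3⟩) (.one ⟨15001, 1, 5⟩))) (.node 2 (.node 1 (.one ⟨12702, 2, 5⟩) (.one ⟨8898, 3, 5⟩)) (.node 1 (.one ⟨7961, 1, 5⟩) (.one ⟨9602, 0, 4⟩)))))))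
def par4_12_12 : Arr Par :=
  (.node 32 (.node 16 (.node 8 (.node 4 (.node 2 (.node 1 (.one ⟨5753, 2, 5⟩) (.one ⟨8760, 1, 4⟩)) (.node 1 (.one ⟨2977, 0, 3⟩) (.one ⟨10734, 1, 5⟩))) (.node 2 (.node 1 (.one ⟨15628, 1, 5⟩) (.one ⟨13213, 0, 4⟩)) (.node 1 (.one ⟨9519, 3, 5⟩) (.one ⟨4102, 0, 4⟩)))) (.node 4 (.node 2 (.node 1 (.one ⟨14319, 3, 5⟩) (.one ⟨14321, 3, 3⟩)) (.node 1 (.one ⟨274, 1, 4⟩) (.one ⟨14325, 3, 3⟩))) (.node 2 (.node 1 (.one ⟨2434, 1, 3⟩) (.one ⟨3462, 2, 5⟩)) (.node 1 (.one ⟨11451, 0, 4⟩) (.one ⟨15705, 1, 5⟩))))) (.node 8 (.node 4 (.node 2 (.node 1 (.one ⟨16296, 3, 5⟩) (.one ⟨3810, 3, 5⟩)) (.node 1 (.one ⟨7956, 1, 4⟩) (.one ⟨1323, 3, 5⟩))) (.node 2 (.node 1 (.one ⟨11407, 2, 5⟩) (.one ⟨2915, 2, 5⟩)) (.node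 1 (.one ⟨6738, 2, 4⟩) (.one ⟨936, 1, 4⟩)))) (.node 4 (.node 2 (.node 1 (.one ⟨8115, 2, 6⟩) (.one ⟨15990, 2, 5⟩)) (.node 1 (.one ⟨6293, 3, 4⟩) (.one ⟨15985, 3, 6⟩))) (.node 2 (.node 1 (.one ⟨12160, 3, 2⟩) (.one ⟨3769, 2, 5⟩)) (.node 1 (.one ⟨14199, 3, 4⟩) (.one ⟨13130, 3, 4⟩)))))) (.node 16 (.node 8 (.node 4 (.node 2 (.node 1 (.one ⟨3306, 2, 4⟩) (.one ⟨12294, 0, 3⟩)) (.node 1 (.one ⟨11433, 3, 6⟩) (.one ⟨2417, 1, 3⟩))) (.node 2 (.node 1 (.one ⟨16189, 3, 4⟩) (.one ⟨10204, 1, 4⟩)) (.node 1 (.one ⟨1304, 0, 5⟩) (.one ⟨3225, 2, 5⟩)))) (.node 4 (.node 2 (.node 1 (.one ⟨8522, 2, 5⟩) (.one ⟨8305, 2, 1⟩)) (.node 1 (.one ⟨1410, 0, 4⟩) (.one ⟨3211, 3, 4⟩))) (.node 2 (.node 1 (.one ⟨3896, 2, 3⟩) (.one ⟨4681, 2, 1⟩)) (.node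 1 (.one ⟨15397, 3, 3⟩) (.one ⟨8507, 0, 4⟩))))) (.node 8 (.node 4 (.node 2 (.node 1 (.one ⟨2742, 0, 5⟩) (.one ⟨3008, 0, 4⟩)) (.node 1 (.one ⟨15243, 1, 3⟩) (.one ⟨14271, 3, 5⟩))) (.node 2 (.node 1 (.one ⟨5362, 2, 4⟩) (.one ⟨13640, 2, 5⟩)) (.node 1 (.one ⟨7006, 2, 5⟩) (.one ⟨12582, 0, 3⟩)))) (.node 4 (.node 2 (.node 1 (.one ⟨14223, 3, 2⟩) (.one ⟨10531, 3, 5⟩)) (.node 1 (.one ⟨1395, 1, 4⟩) (.one ⟨8779, 1, 5⟩))) (.node 2 (.node 1 (.one ⟨2976, 2, 5⟩) (.one ⟨15123, 3, 5⟩)) (.node 1 (.one ⟨4053, 2, 4⟩) (.one ⟨7228, 1, 3⟩)))))))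
def par4_12_13 : Arr Par :=
  (.node 32 (.node 16 (.node 8 (.node 4 (.node 2 (.node 1 (.one ⟨14201, 2, 5⟩) (.one ⟨15742, 2, 5⟩)) (.node 1 (.one ⟨3088, 2, 5⟩) (.one ⟨13883, 0, 5⟩))) (.node 2 (.node 1 (.one ⟨660, 1, 6⟩) (.one ⟨3521, 3, 4⟩)) (.node 1 (.one ⟨7901, 2, 4⟩) (.one ⟨15531, 3, 4⟩)))) (.node 4 (.node 2 (.node 1 (.one ⟨5706, 0, 5⟩) (.one ⟨5410, 1, 6⟩)) (.node 1 (.one ⟨12037, 0, 3⟩) (.one ⟨16772, 3, 3⟩))) (.node 2 (.node 1 (.one ⟨7458, 3, 5⟩) (.one ⟨7255, 0, 5⟩)) (.node 1 (.one ⟨1917, 2, 5⟩) (.one ⟨6472, 3, 5⟩))))) (.node 8 (.node 4 (.node 2 (.node 1 (.one ⟨10533, 3, 5⟩) (.one ⟨16687, 3, 4⟩)) (.node 1 (.one ⟨4619, 3, 5⟩) (.one ⟨8380, 1, 6⟩))) (.node 2 (.node 1 (.one ⟨16227, 3, 5⟩) (.one ⟨8898, 0, 5⟩)) (.node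 1 (.one ⟨6612, 3, 3⟩) (.one ⟨487, 2, 5⟩)))) (.node 4 (.node 2 (.node 1 (.one ⟨6576, 1, 5⟩) (.one ⟨9073, 3, 4⟩)) (.node 1 (.one ⟨12717, 2, 5⟩) (.one ⟨1185, 3, 5⟩))) (.node 2 (.node 1 (.one ⟨16479, 2, 5⟩) (.one ⟨5564, 2, 6⟩)) (.node 1 (.one ⟨1389, 1, 4⟩) (.one ⟨12398, 1, 3⟩)))))) (.node 16 (.node 8 (.node 4 (.node 2 (.node 1 (.one ⟨15971, 2, 5⟩) (.one ⟨637, 3, 6⟩)) (.node 1 (.one ⟨15395, 3, 3⟩) (.one ⟨3729, 2, 3⟩))) (.node 2 (.node 1 (.one ⟨8336, 2, 4⟩) (.one ⟨5028, 1, 4⟩)) (.node 1 (.one ⟨3617, 1, 4⟩) (.one ⟨2035, 2, 4⟩)))) (.node 4 (.node 2 (.node 1 (.one ⟨13704, 3, 3⟩) (.one ⟨6515, 2, 2⟩)) (.node 1 (.one ⟨4867, 2, 4⟩) (.one ⟨8797, 0, 6⟩))) (.node 2 (.node 1 (.one ⟨12619, 0, 6⟩) (.one ⟨13185, 3, 5⟩)) (.node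 1 (.one ⟨2524, 1, 4⟩) (.one ⟨8745, 2, 5⟩))))) (.node 8 (.node 4 (.node 2 (.node 1 (.one ⟨17073, 1, 3⟩) (.one ⟨16181, 1, 5⟩)) (.node 1 (.one ⟨8483, 0, 4⟩) (.one ⟨15125, 3, 6⟩))) (.node 2 (.node 1 (.one ⟨12649, 1, 5⟩) (.one ⟨3612, 3, 5⟩)) (.node 1 (.one ⟨14563, 1, 5⟩) (.one ⟨11064, 3, 4⟩)))) (.node 4 (.node 2 (.node 1 (.one ⟨11669, 2, 6⟩) (.one ⟨9708, 0, 4⟩)) (.node 1 (.one ⟨5822, 0, 4⟩) (.one ⟨4526, 1, 5⟩))) (.node 2 (.node 1 (.one ⟨11069, 3, 5⟩) (.one ⟨15338, 3, 5⟩)) (.node 1 (.one ⟨9568, 0, 5⟩) (.one ⟨8839, 2, 4⟩)))))))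
def par4_12_14 : Arr Par :=
  (.node 32 (.node 16 (.node 8 (.node 4 (.node 2 (.node 1 (.one ⟨3771, 1, 4⟩) (.one ⟨16580, 1, 4⟩)) (.node 1 (.one ⟨16167, 0, 5⟩) (.one ⟨9039, 1, 4⟩))) (.node 2 (.node 1 (.one ⟨9437, 1, 4⟩) (.one ⟨2982, 3, 5⟩)) (.node 1 (.one ⟨364, 2, 5⟩) (.one ⟨3421, 1, 4⟩)))) (.node 4 (.node 2 (.node 1 (.one ⟨3639, 3, 5⟩) (.one ⟨8344, 2, 5⟩)) (.node 1 (.one ⟨15933, 1, 3⟩) (.one ⟨17051, 1, 4⟩))) (.node 2 (.node 1 (.one ⟨7612, 0, 3⟩) (.one ⟨12668, 0, 5⟩)) (.node 1 (.one ⟨456, 1, 4⟩) (.one ⟨14345, 3, 6⟩))))) (.node 8 (.node 4 (.node 2 (.node 1 (.one ⟨736, 1, 3⟩) (.one ⟨16010, 3, 6⟩)) (.node 1 (.one ⟨910, 1, 5⟩) (.one ⟨11760, 2, 4⟩))) (.node 2 (.node 1 (.one ⟨17191, 3, 6⟩) (.one ⟨15972, 2, 4⟩)) (.node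 1 (.one ⟨2628, 0, 5⟩) (.one ⟨3130, 1, 3⟩)))) (.node 4 (.node 2 (.node 1 (.one ⟨4535, 2, 5⟩) (.one ⟨15810, 0, 2⟩)) (.node 1 (.one ⟨2779, 3, 6⟩) (.one ⟨16647, 3, 5⟩))) (.node 2 (.node 1 (.one ⟨15400, 3, 4⟩) (.one ⟨16052, 3, 3⟩)) (.node 1 (.one ⟨14465, 3, 3⟩) (.one ⟨11031, 2, 4⟩)))))) (.node 16 (.node 8 (.node 4 (.node 2 (.node 1 (.one ⟨15813, 2, 6⟩) (.one ⟨201, 1, 3⟩)) (.node 1 (.one ⟨1003, 3, 5⟩) (.one ⟨16094, 3, 5⟩))) (.node 2 (.node 1 (.one ⟨15745, 2, 6⟩) (.one ⟨14816, 2, 5⟩)) (.node 1 (.one ⟨12530, 0, 5⟩) (.one ⟨1630, 1, 5⟩)))) (.node 4 (.node 2 (.node 1 (.one ⟨17187, 3, 6⟩) (.one ⟨9428, 1, 4⟩)) (.node 1 (.one ⟨9706, 0, 6⟩) (.one ⟨15453, 1, 6⟩))) (.node 2 (.node 1 (.one ⟨6486, 3, 5⟩) (.one ⟨1666, 0, 6⟩)) (.node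 1 (.one ⟨15645, 1, 4⟩) (.one ⟨6577, 0, 4⟩))))) (.node 8 (.node 4 (.node 2 (.node 1 (.one ⟨6961, 0, 5⟩) (.one ⟨12959, 3, 4⟩)) (.node 1 (.one ⟨3657, 2, 4⟩) (.one ⟨17073, 2, 3⟩))) (.node 2 (.node 1 (.one ⟨1973, 0, 4⟩) (.one ⟨12962, 3, 6⟩)) (.node 1 (.one ⟨6778, 0, 5⟩) (.one ⟨3210, 2, 6⟩)))) (.node 4 (.node 2 (.node 1 (.one ⟨10216, 3, 2⟩) (.one ⟨8334, 2, 3⟩)) (.node 1 (.one ⟨5586, 2, 2⟩) (.one ⟨5441, 3, 6⟩))) (.node 2 (.node 1 (.one ⟨7737, 0, 2⟩) (.one ⟨6092, 0, 4⟩)) (.node 1 (.one ⟨3549, 2, 4⟩) (.one ⟨14056, 0, 5⟩)))))))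
def par4_12_15 : Arr Par :=
  (.node 32 (.node 16 (.node 8 (.node 4 (.node 2 (.node 1 (.one ⟨14009, 0, 5⟩) (.one ⟨4072, 3, 5⟩)) (.node 1 (.one ⟨2476, 1, 5⟩) (.one ⟨15144, 3, 4⟩))) (.node 2 (.node 1 (.one ⟨8557, 1, 2⟩) (.one ⟨1692, 0, 3⟩)) (.node 1 (.one ⟨4265, 3, 4⟩) (.one ⟨14995, 2, 3⟩)))) (.node 4 (.node 2 (.node 1 (.one ⟨14742, 3, 5⟩) (.one ⟨16906, 2, 3⟩)) (.node 1 (.one ⟨4132, 2, 5⟩) (.one ⟨4075, 1, 4⟩))) (.node 2 (.node 1 (.one ⟨17190, 2, 5⟩) (.one ⟨9763, 3, 2⟩)) (.node 1 (.one ⟨11014, 3, 5⟩) (.one ⟨11965, 0, 5⟩))))) (.node 8 (.node 4 (.node 2 (.node 1 (.one ⟨17023, 0, 4⟩) (.one ⟨6407, 1, 3⟩)) (.node 1 (.one ⟨5875, 3, 4⟩) (.one ⟨12202, 1, 3⟩))) (.node 2 (.node 1 (.one ⟨14027, 2, 4⟩) (.one ⟨12927, 3, 6⟩))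 (.node 1 (.one ⟨3616, 0, 5⟩) (.one ⟨13749, 0, 4⟩)))) (.node 4 (.node 2 (.node 1 (.one ⟨476, 1, 5⟩) (.one ⟨2165, 3, 4⟩)) (.node 1 (.one ⟨1741, 0, 3⟩) (.one ⟨2163, 3, 5⟩))) (.node 2 (.node 1 (.one ⟨15225, 1, 5⟩) (.one ⟨11684, 2, 4⟩)) (.node 1 (.one ⟨10848, 1, 5⟩) (.one ⟨9677, 2, 5⟩)))))) (.node 16 (.node 8 (.node 4 (.node 2 (.node 1 (.one ⟨9598, 2, 3⟩) (.one ⟨1646, 2, 6⟩)) (.node 1 (.one ⟨12850, 0, 5⟩) (.one ⟨5049, 0, 6⟩))) (.node 2 (.node 1 (.one ⟨15116, 1, 3⟩) (.one ⟨3788, 0, 3⟩)) (.node 1 (.one ⟨16622, 3, 5⟩) (.one ⟨4577, 3, 5⟩)))) (.node 4 (.node 2 (.node 1 (.one ⟨10843, 1, 4⟩) (.one ⟨8048, 2, 3⟩)) (.node 1 (.one ⟨16569, 1, 4⟩) (.one ⟨5460, 1, 5⟩))) (.node 2 (.node 1 (.one ⟨7790, 0, 4⟩) (.one ⟨108, 2, 4⟩))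 (.node 1 (.one ⟨16349, 1, 6⟩) (.one ⟨3495, 3, 5⟩))))) (.node 8 (.node 4 (.node 2 (.node 1 (.one ⟨2797, 3, 5⟩) (.one ⟨16152, 2, 4⟩)) (.node 1 (.one ⟨5006, 2, 4⟩) (.one ⟨11661, 1, 4⟩))) (.node 2 (.node 1 (.one ⟨8002, 0, 3⟩) (.one ⟨9605, 3, 1⟩)) (.node 1 (.one ⟨10656, 3, 4⟩) (.one ⟨15343, 3, 4⟩)))) (.node 4 (.node 2 (.node 1 (.one ⟨16654, 3, 4⟩) (.one ⟨15038, 3, 5⟩)) (.node 1 (.one ⟨7974, 0, 4⟩) (.one ⟨2715, 3, 5⟩))) (.node 2 (.node 1 (.one ⟨5773, 2, 5⟩) (.one ⟨942, 3, 4⟩)) (.node 1 (.one ⟨8395, 0, 5⟩) (.one ⟨5955, 3, 4⟩)))))))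
def par4_12 : Arr Par :=
  (.node 512 (.node 256 (.node 128 (.node 64 par4_12_0 par4_12_1) (.node 64 par4_12_2 par4_12_3)) (.node 128 (.node 64 par4_12_4 par4_12_5) (.node 64 par4_12_6 par4_12_7))) (.node 256 (.node 128 (.node 64 par4_12_8 par4_12_9) (.node 64 par4_12_10 par4_12_11)) (.node 128 (.node 64 par4_12_12 par4_12_13) (.node 64 par4_12_14 par4_12_15))))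
def par4_13_0 : Arr Par :=
  (.node 32 (.node 16 (.node 8 (.node 4 (.node 2 (.node 1 (.one ⟨58, 2, 2⟩) (.one ⟨13684, 2, 3⟩)) (.node 1 (.one ⟨17194, 0, 5⟩) (.one ⟨7027, 1, 4⟩))) (.node 2 (.node 1 (.one ⟨6184, 3, 3⟩) (.one ⟨8842, 3, 3⟩)) (.node 1 (.one ⟨8047, 3, 4⟩) (.one ⟨14608, 2, 5⟩)))) (.node 4 (.node 2 (.node 1 (.one ⟨753, 3, 6⟩) (.one ⟨10824, 3, 4⟩)) (.node 1 (.one ⟨16106, 1, 4⟩) (.one ⟨2086, 2, 6⟩))) (.node 2 (.node 1 (.one ⟨6338, 1, 5⟩) (.one ⟨10842, 3, 6⟩)) (.node 1 (.one ⟨9119, 0, 5⟩) (.one ⟨12311, 1, 3⟩))))) (.node 8 (.node 4 (.node 2 (.node 1 (.one ⟨7859, 2, 5⟩) (.one ⟨9339, 3, 5⟩)) (.node 1 (.one ⟨13978, 0, 2⟩) (.one ⟨6790, 3, 6⟩))) (.node 2 (.node 1 (.one ⟨11759, 3, 4⟩) (.one ⟨10267, 2, 4⟩)) (.node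 1 (.one ⟨3858, 3, 4⟩) (.one ⟨10384, 1, 5⟩)))) (.node 4 (.node 2 (.node 1 (.one ⟨4374, 1, 4⟩) (.one ⟨12228, 0, 4⟩)) (.node 1 (.one ⟨2596, 3, 5⟩) (.one ⟨7334, 1, 5⟩))) (.node 2 (.node 1 (.one ⟨13747, 2, 5⟩) (.one ⟨12776, 1, 4⟩)) (.node 1 (.one ⟨2948, 1, 5⟩) (.one ⟨7200, 1, 3⟩)))))) (.node 16 (.node 8 (.node 4 (.node 2 (.node 1 (.one ⟨10498, 3, 5⟩) (.one ⟨2969, 2, 4⟩)) (.node 1 (.one ⟨3917, 0, 2⟩) (.one ⟨15559, 3, 5⟩))) (.node 2 (.node 1 (.one ⟨15575, 1, 6⟩) (.one ⟨6257, 2, 4⟩)) (.node 1 (.one ⟨16686, 1, 5⟩) (.one ⟨1513, 2, 5⟩)))) (.node 4 (.node 2 (.node 1 (.one ⟨10233, 3, 5⟩) (.one ⟨7922, 1, 6⟩)) (.node 1 (.one ⟨16111, 3, 5⟩) (.one ⟨15202, 3, 4⟩))) (.node 2 (.node 1 (.one ⟨1995, 0, 5⟩) (.one ⟨13737, 0, 3⟩)) (.node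 1 (.one ⟨11443, 2, 4⟩) (.one ⟨14214, 1, 4⟩))))) (.node 8 (.node 4 (.node 2 (.node 1 (.one ⟨3890, 1, 5⟩) (.one ⟨16375, 2, 5⟩)) (.node 1 (.one ⟨1630, 2, 5⟩) (.one ⟨809, 2, 5⟩))) (.node 2 (.node 1 (.one ⟨1198, 3, 7⟩) (.one ⟨7535, 2, 5⟩)) (.node 1 (.one ⟨9176, 3, 2⟩) (.one ⟨4774, 2, 6⟩)))) (.node 4 (.node 2 (.node 1 (.one ⟨8915, 2, 5⟩) (.one ⟨16356, 3, 5⟩)) (.node 1 (.one ⟨396, 1, 5⟩) (.one ⟨974, 1, 4⟩))) (.node 2 (.node 1 (.one ⟨2405, 3, 4⟩) (.one ⟨6372, 2, 2⟩)) (.node 1 (.one ⟨1695, 2, 5⟩) (.one ⟨11878, 0, 5⟩)))))))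
def par4_13_1 : Arr Par :=
  (.node 32 (.node 16 (.node 8 (.node 4 (.node 2 (.node 1 (.one ⟨5394, 3, 6⟩) (.one ⟨14188, 3, 5⟩)) (.node 1 (.one ⟨2030, 3, 4⟩) (.one ⟨11858, 0, 6⟩))) (.node 2 (.node 1 (.one ⟨7444, 1, 5⟩) (.one ⟨10652, 1, 4⟩)) (.node 1 (.one ⟨16266, 1, 3⟩) (.one ⟨4975, 0, 5⟩)))) (.node 4 (.node 2 (.node 1 (.one ⟨13820, 3, 4⟩) (.one ⟨11799, 3, 3⟩)) (.node 1 (.one ⟨17183, 3, 5⟩) (.one ⟨13801, 0, 4⟩))) (.node 2 (.node 1 (.one ⟨14475, 3, 3⟩) (.one ⟨14778, 2, 3⟩)) (.node 1 (.one ⟨10126, 2, 4⟩) (.one ⟨9073, 1, 4⟩))))) (.node 8 (.node 4 (.node 2 (.node 1 (.one ⟨15068, 1, 3⟩) (.one ⟨4369, 3, 5⟩)) (.node 1 (.one ⟨12235, 3, 5⟩) (.one ⟨7141, 3, 2⟩))) (.node 2 (.node 1 (.one ⟨15354, 3, 5⟩) (.one ⟨4973, 2, 4⟩))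 (.node 1 (.one ⟨8218, 1, 6⟩) (.one ⟨10898, 3, 5⟩)))) (.node 4 (.node 2 (.node 1 (.one ⟨10715, 3, 3⟩) (.one ⟨15569, 1, 4⟩)) (.node 1 (.one ⟨8866, 3, 5⟩) (.one ⟨14022, 3, 6⟩))) (.node 2 (.node 1 (.one ⟨15173, 3, 5⟩) (.one ⟨4872, 3, 4⟩)) (.node 1 (.one ⟨4871, 1, 5⟩) (.one ⟨13718, 2, 5⟩)))))) (.node 16 (.node 8 (.node 4 (.node 2 (.node 1 (.one ⟨4301, 2, 5⟩) (.one ⟨185, 2, 4⟩)) (.node 1 (.one ⟨12282, 1, 6⟩) (.one ⟨1290, 2, 3⟩))) (.node 2 (.node 1 (.one ⟨2429, 0, 3⟩) (.one ⟨13739, 2, 5⟩)) (.node 1 (.one ⟨15603, 3, 5⟩) (.one ⟨9142, 2, 4⟩)))) (.node 4 (.node 2 (.node 1 (.one ⟨6713, 3, 1⟩) (.one ⟨4969, 0, 5⟩)) (.node 1 (.one ⟨15131, 3, 5⟩) (.one ⟨11940, 1, 4⟩))) (.node 2 (.node 1 (.one ⟨15659, 3, 6⟩) (.one ⟨12028, 3,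 4⟩)) (.node 1 (.one ⟨7120, 3, 4⟩) (.one ⟨14995, 1, 3⟩))))) (.node 8 (.node 4 (.node 2 (.node 1 (.one ⟨5383, 3, 3⟩) (.one ⟨1877, 3, 4⟩)) (.node 1 (.one ⟨8101, 2, 5⟩) (.one ⟨2466, 1, 5⟩))) (.node 2 (.node 1 (.one ⟨9804, 2, 5⟩) (.one ⟨11250, 0, 4⟩)) (.node 1 (.one ⟨7917, 0, 4⟩) (.one ⟨5966, 3, 1⟩)))) (.node 4 (.node 2 (.node 1 (.one ⟨5965, 3, 4⟩) (.one ⟨5959, 3, 2⟩)) (.node 1 (.one ⟨5960, 3, 5⟩) (.one ⟨5961, 3, 4⟩))) (.node 2 (.node 1 (.one ⟨5962, 3, 2⟩) (.one ⟨5157, 2, 4⟩)) (.node 1 (.one ⟨5963, 3, 3⟩) (.one ⟨4893, 3, 4⟩)))))))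
def par4_13_2 : Arr Par :=
  (.node 32 (.node 16 (.node 8 (.node 4 (.node 2 (.node 1 (.one ⟨12110, 0, 5⟩) (.one ⟨5045, 3, 6⟩)) (.node 1 (.one ⟨8778, 2, 5⟩) (.one ⟨6959, 1, 5⟩))) (.node 2 (.node 1 (.one ⟨17178, 0, 5⟩) (.one ⟨13666, 1, 2⟩)) (.node 1 (.one ⟨182, 2, 4⟩) (.one ⟨9386, 3, 4⟩)))) (.node 4 (.node 2 (.node 1 (.one ⟨13161, 3, 3⟩) (.one ⟨9039, 0, 4⟩)) (.node 1 (.one ⟨6206, 0, 4⟩) (.one ⟨14216, 2, 5⟩))) (.node 2 (.node 1 (.one ⟨16928, 2, 4⟩) (.one ⟨10955, 1, 4⟩)) (.node 1 (.one ⟨13919, 1, 2⟩) (.one ⟨3186, 2, 4⟩))))) (.node 8 (.node 4 (.node 2 (.node 1 (.one ⟨16525, 3, 4⟩) (.one ⟨16519, 3, 6⟩)) (.node 1 (.one ⟨7954, 0, 5⟩) (.one ⟨11936, 1, 5⟩))) (.node 2 (.node 1 (.one ⟨5351, 2, 5⟩) (.one ⟨16526, 3, 4⟩))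 (.node 1 (.one ⟨16522, 3, 4⟩) (.one ⟨14578, 0, 5⟩)))) (.node 4 (.node 2 (.node 1 (.one ⟨4823, 0, 4⟩) (.one ⟨16511, 3, 5⟩)) (.node 1 (.one ⟨9921, 3, 4⟩) (.one ⟨13760, 1, 4⟩))) (.node 2 (.node 1 (.one ⟨6405, 2, 5⟩) (.one ⟨14346, 3, 4⟩)) (.node 1 (.one ⟨13448, 3, 4⟩) (.one ⟨2305, 2, 4⟩)))))) (.node 16 (.node 8 (.node 4 (.node 2 (.node 1 (.one ⟨7544, 2, 4⟩) (.one ⟨542, 3, 4⟩)) (.node 1 (.one ⟨8509, 3, 4⟩) (.one ⟨4162, 3, 3⟩))) (.node 2 (.node 1 (.one ⟨7117, 3, 4⟩) (.one ⟨5784, 2, 2⟩)) (.node 1 (.one ⟨10844, 3, 4⟩) (.one ⟨817, 1, 4⟩)))) (.node 4 (.node 2 (.node 1 (.one ⟨2305, 1, 4⟩) (.one ⟨602, 3, 4⟩)) (.node 1 (.one ⟨1551, 3, 2⟩) (.one ⟨9493, 2, 4⟩))) (.node 2 (.node 1 (.one ⟨10639, 1, 4⟩) (.one ⟨16637, 3, 6⟩))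 (.node 1 (.one ⟨16617, 3, 3⟩) (.one ⟨6437, 3, 4⟩))))) (.node 8 (.node 4 (.node 2 (.node 1 (.one ⟨2854, 0, 3⟩) (.one ⟨6681, 1, 4⟩)) (.node 1 (.one ⟨9286, 1, 3⟩) (.one ⟨16211, 1, 4⟩))) (.node 2 (.node 1 (.one ⟨5207, 1, 5⟩) (.one ⟨4752, 1, 4⟩)) (.node 1 (.one ⟨3771, 2, 4⟩) (.one ⟨3056, 0, 5⟩)))) (.node 4 (.node 2 (.node 1 (.one ⟨14287, 3, 4⟩) (.one ⟨13564, 2, 4⟩)) (.node 1 (.one ⟨7913, 3, 4⟩) (.one ⟨6244, 2, 3⟩))) (.node 2 (.node 1 (.one ⟨4273, 3, 4⟩) (.one ⟨15953, 3, 4⟩)) (.node 1 (.one ⟨3488, 1, 5⟩) (.one ⟨14441, 2, 3⟩)))))))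
def par4_13_3 : Arr Par :=
  (.node 32 (.node 16 (.node 8 (.node 4 (.node 2 (.node 1 (.one ⟨13242, 1, 3⟩) (.one ⟨15271, 2, 3⟩)) (.node 1 (.one ⟨5741, 3, 6⟩) (.one ⟨4970, 3, 6⟩))) (.node 2 (.node 1 (.one ⟨10324, 2, 5⟩) (.one ⟨8658, 3, 3⟩)) (.node 1 (.one ⟨11390, 2, 5⟩) (.one ⟨7023, 1, 2⟩)))) (.node 4 (.node 2 (.node 1 (.one ⟨6190, 2, 5⟩) (.one ⟨13681, 0, 4⟩)) (.node 1 (.one ⟨14785, 0, 6⟩) (.one ⟨14235, 0, 3⟩))) (.node 2 (.node 1 (.one ⟨14287, 1, 4⟩) (.one ⟨5006, 3, 4⟩)) (.node 1 (.one ⟨13711, 2, 4⟩) (.one ⟨5720, 2, 6⟩))))) (.node 8 (.node 4 (.node 2 (.node 1 (.one ⟨13373, 1, 3⟩) (.one ⟨1954, 3, 2⟩)) (.node 1 (.one ⟨2789, 1, 5⟩) (.one ⟨14232, 2, 4⟩))) (.node 2 (.node 1 (.one ⟨3938, 3, 6⟩) (.one ⟨15545, 3, 6⟩))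 (.node 1 (.one ⟨6932, 2, 5⟩) (.one ⟨5888, 2, 5⟩)))) (.node 4 (.node 2 (.node 1 (.one ⟨6643, 1, 3⟩) (.one ⟨2626, 3, 5⟩)) (.node 1 (.one ⟨3609, 3, 4⟩) (.one ⟨15400, 2, 4⟩))) (.node 2 (.node 1 (.one ⟨14467, 2, 3⟩) (.one ⟨5237, 0, 4⟩)) (.node 1 (.one ⟨7694, 0, 4⟩) (.one ⟨12684, 3, 2⟩)))))) (.node 16 (.node 8 (.node 4 (.node 2 (.node 1 (.one ⟨16100, 0, 5⟩) (.one ⟨6117, 2, 5⟩)) (.node 1 (.one ⟨6134, 2, 5⟩) (.one ⟨12908, 2, 4⟩))) (.node 2 (.node 1 (.one ⟨16887, 1, 5⟩) (.one ⟨1758, 3, 5⟩)) (.node 1 (.one ⟨13778, 3, 5⟩) (.one ⟨4745, 3, 6⟩)))) (.node 4 (.node 2 (.node 1 (.one ⟨15578, 0, 5⟩) (.one ⟨15938, 3, 5⟩)) (.node 1 (.one ⟨14957, 3, 5⟩) (.one ⟨9284, 1, 5⟩))) (.node 2 (.node 1 (.one ⟨8318, 3, 5⟩) (.one ⟨10298, 3,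 5⟩)) (.node 1 (.one ⟨13190, 3, 6⟩) (.one ⟨5668, 1, 5⟩))))) (.node 8 (.node 4 (.node 2 (.node 1 (.one ⟨8066, 2, 3⟩) (.one ⟨1291, 1, 3⟩)) (.node 1 (.one ⟨7171, 3, 4⟩) (.one ⟨17128, 1, 4⟩))) (.node 2 (.node 1 (.one ⟨160, 2, 4⟩) (.one ⟨13400, 1, 4⟩)) (.node 1 (.one ⟨5694, 3, 6⟩) (.one ⟨6247, 2, 5⟩)))) (.node 4 (.node 2 (.node 1 (.one ⟨4636, 0, 5⟩) (.one ⟨13777, 3, 6⟩)) (.node 1 (.one ⟨11670, 2, 4⟩) (.one ⟨8446, 2, 5⟩))) (.node 2 (.node 1 (.one ⟨5123, 2, 3⟩) (.one ⟨1191, 1, 1⟩)) (.node 1 (.one ⟨4372, 3, 6⟩) (.one ⟨11407, 1, 5⟩)))))))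
def par4_13_4 : Arr Par :=
  (.node 32 (.node 16 (.node 8 (.node 4 (.node 2 (.node 1 (.one ⟨4982, 3, 2⟩) (.one ⟨7545, 1, 4⟩)) (.node 1 (.one ⟨7259, 1, 4⟩) (.one ⟨8518, 2, 5⟩))) (.node 2 (.node 1 (.one ⟨14237, 1, 4⟩) (.one ⟨12277, 3, 4⟩)) (.node 1 (.one ⟨1190, 1, 5⟩) (.one ⟨11261, 2, 3⟩)))) (.node 4 (.node 2 (.node 1 (.one ⟨10623, 0, 5⟩) (.one ⟨13212, 0, 5⟩)) (.node 1 (.one ⟨11602, 2, 5⟩) (.one ⟨1806, 2, 5⟩))) (.node 2 (.node 1 (.one ⟨7312, 2, 3⟩) (.one ⟨16570, 3, 5⟩)) (.node 1 (.one ⟨549, 3, 5⟩) (.one ⟨14446, 3, 5⟩))))) (.node 8 (.node 4 (.node 2 (.node 1 (.one ⟨10252, 2, 5⟩) (.one ⟨11593, 2, 4⟩)) (.node 1 (.one ⟨12844, 3, 5⟩) (.one ⟨10082, 3, 3⟩))) (.node 2 (.node 1 (.one ⟨10514, 3, 4⟩) (.one ⟨4265, 0, 4⟩))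 (.node 1 (.one ⟨3919, 2, 4⟩) (.one ⟨1211, 3, 5⟩)))) (.node 4 (.node 2 (.node 1 (.one ⟨1186, 1, 6⟩) (.one ⟨5275, 1, 3⟩)) (.node 1 (.one ⟨1858, 1, 3⟩) (.one ⟨7727, 1, 5⟩))) (.node 2 (.node 1 (.one ⟨14648, 2, 3⟩) (.one ⟨13086, 2, 5⟩)) (.node 1 (.one ⟨15741, 2, 5⟩) (.one ⟨11942, 3, 5⟩)))))) (.node 16 (.node 8 (.node 4 (.node 2 (.node 1 (.one ⟨2857, 2, 3⟩) (.one ⟨8212, 2, 5⟩)) (.node 1 (.one ⟨9298, 3, 5⟩) (.one ⟨16675, 3, 3⟩))) (.node 2 (.node 1 (.one ⟨1014, 3, 5⟩) (.one ⟨12201, 1, 5⟩)) (.node 1 (.one ⟨1195, 1, 2⟩) (.one ⟨11642, 2, 4⟩)))) (.node 4 (.node 2 (.node 1 (.one ⟨1936, 3, 4⟩) (.one ⟨1935, 3, 4⟩)) (.node 1 (.one ⟨6369, 3, 6⟩) (.one ⟨1940, 3, 4⟩))) (.node 2 (.node 1 (.one ⟨6374, 3, 3⟩) (.one ⟨6373, 3, 5⟩))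 (.node 1 (.one ⟨1939, 3, 2⟩) (.one ⟨16265, 1, 4⟩))))) (.node 8 (.node 4 (.node 2 (.node 1 (.one ⟨10438, 3, 4⟩) (.one ⟨6587, 3, 5⟩)) (.node 1 (.one ⟨954, 3, 5⟩) (.one ⟨5737, 1, 5⟩))) (.node 2 (.node 1 (.one ⟨15424, 3, 4⟩) (.one ⟨1191, 3, 1⟩)) (.node 1 (.one ⟨11336, 1, 5⟩) (.one ⟨3080, 3, 2⟩)))) (.node 4 (.node 2 (.node 1 (.one ⟨15861, 3, 3⟩) (.one ⟨15052, 3, 4⟩)) (.node 1 (.one ⟨7671, 0, 6⟩) (.one ⟨13666, 3, 2⟩))) (.node 2 (.node 1 (.one ⟨15152, 2, 4⟩) (.one ⟨1604, 2, 5⟩)) (.node 1 (.one ⟨15388, 2, 5⟩) (.one ⟨10127, 3, 5⟩)))))))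
def par4_13_5 : Arr Par :=
  (.node 32 (.node 16 (.node 8 (.node 4 (.node 2 (.node 1 (.one ⟨2017, 2, 6⟩) (.one ⟨6824, 2, 6⟩)) (.node 1 (.one ⟨13613, 3, 6⟩) (.one ⟨6806, 2, 1⟩))) (.node 2 (.node 1 (.one ⟨14996, 1, 6⟩) (.one ⟨516, 3, 5⟩)) (.node 1 (.one ⟨1877, 1, 4⟩) (.one ⟨4237, 3, 3⟩)))) (.node 4 (.node 2 (.node 1 (.one ⟨8493, 1, 4⟩) (.one ⟨1704, 1, 4⟩)) (.node 1 (.one ⟨6599, 3, 6⟩) (.one ⟨15326, 1, 4⟩))) (.node 2 (.node 1 (.one ⟨17050, 3, 5⟩) (.one ⟨7659, 2, 4⟩)) (.node 1 (.one ⟨12031, 1, 4⟩) (.one ⟨15917, 3, 4⟩))))) (.node 8 (.node 4 (.node 2 (.node 1 (.one ⟨11401, 0, 2⟩) (.one ⟨9974, 2, 4⟩)) (.node 1 (.one ⟨5887, 3, 5⟩) (.one ⟨6701, 0, 5⟩))) (.node 2 (.node 1 (.one ⟨14453, 0, 5⟩) (.one ⟨6360, 3, 6⟩)) (.node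 1 (.one ⟨16914, 3, 5⟩) (.one ⟨1543, 0, 5⟩)))) (.node 4 (.node 2 (.node 1 (.one ⟨10135, 2, 5⟩) (.one ⟨13185, 2, 5⟩)) (.node 1 (.one ⟨13737, 3, 3⟩) (.one ⟨13405, 2, 5⟩))) (.node 2 (.node 1 (.one ⟨960, 1, 4⟩) (.one ⟨11050, 3, 6⟩)) (.node 1 (.one ⟨1507, 3, 4⟩) (.one ⟨9741, 2, 5⟩)))))) (.node 16 (.node 8 (.node 4 (.node 2 (.node 1 (.one ⟨7840, 2, 4⟩) (.one ⟨2758, 2, 5⟩)) (.node 1 (.one ⟨4513, 3, 1⟩) (.one ⟨8439, 1, 6⟩))) (.node 2 (.node 1 (.one ⟨267, 1, 4⟩) (.one ⟨7200, 2, 3⟩)) (.node 1 (.one ⟨8444, 1, 6⟩) (.one ⟨11851, 3, 4⟩)))) (.node 4 (.node 2 (.node 1 (.one ⟨10168, 2, 5⟩) (.one ⟨2860, 3, 4⟩)) (.node 1 (.one ⟨5996, 2, 5⟩) (.one ⟨14598, 2, 5⟩))) (.node 2 (.node 1 (.one ⟨16128, 3, 4⟩) (.one ⟨2682, 2, 4⟩)) (.node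 1 (.one ⟨13971, 2, 4⟩) (.one ⟨6736, 3, 5⟩))))) (.node 8 (.node 4 (.node 2 (.node 1 (.one ⟨12977, 1, 5⟩) (.one ⟨10782, 0, 3⟩)) (.node 1 (.one ⟨2500, 1, 6⟩) (.one ⟨6077, 2, 3⟩))) (.node 2 (.node 1 (.one ⟨15555, 3, 2⟩) (.one ⟨12949, 1, 4⟩)) (.node 1 (.one ⟨5014, 2, 5⟩) (.one ⟨14547, 2, 5⟩)))) (.node 4 (.node 2 (.node 1 (.one ⟨15742, 3, 5⟩) (.one ⟨6918, 3, 4⟩)) (.node 1 (.one ⟨5674, 3, 5⟩) (.one ⟨14541, 2, 4⟩))) (.node 2 (.node 1 (.one ⟨697, 2, 5⟩) (.one ⟨11428, 2, 3⟩)) (.node 1 (.one ⟨2812, 0, 4⟩) (.one ⟨12627, 0, 4⟩)))))))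
def par4_13_6 : Arr Par :=
  (.node 32 (.node 16 (.node 8 (.node 4 (.node 2 (.node 1 (.one ⟨10727, 0, 4⟩) (.one ⟨4512, 1, 2⟩)) (.node 1 (.one ⟨5922, 3, 2⟩) (.one ⟨1199, 2, 3⟩))) (.node 2 (.node 1 (.one ⟨4287, 3, 3⟩) (.one ⟨9853, 1, 3⟩)) (.node 1 (.one ⟨14591, 2, 5⟩) (.one ⟨2548, 1, 3⟩)))) (.node 4 (.node 2 (.node 1 (.one ⟨13565, 3, 2⟩) (.one ⟨16537, 1, 6⟩)) (.node 1 (.one ⟨5965, 1, 4⟩) (.one ⟨2840, 0, 5⟩))) (.node 2 (.node 1 (.one ⟨1047, 2, 6⟩) (.one ⟨4214, 3, 3⟩)) (.node 1 (.one ⟨5806, 1, 5⟩) (.one ⟨1102, 2, 3⟩))))) (.node 8 (.node 4 (.node 2 (.node 1 (.one ⟨3330, 2, 4⟩) (.one ⟨3338, 2, 6⟩)) (.node 1 (.one ⟨812, 2, 3⟩) (.one ⟨7181, 2, 5⟩))) (.node 2 (.node 1 (.one ⟨11401, 1, 2⟩) (.one ⟨5704, 2, 4⟩)) (.node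 1 (.one ⟨7171, 2, 4⟩) (.one ⟨2996, 3, 6⟩)))) (.node 4 (.node 2 (.node 1 (.one ⟨12911, 1, 5⟩) (.one ⟨10226, 1, 5⟩)) (.node 1 (.one ⟨3700, 3, 5⟩) (.one ⟨13196, 0, 4⟩))) (.node 2 (.node 1 (.one ⟨2944, 2, 4⟩) (.one ⟨9732, 0, 4⟩)) (.node 1 (.one ⟨14045, 1, 5⟩) (.one ⟨6425, 2, 4⟩)))))) (.node 16 (.node 8 (.node 4 (.node 2 (.node 1 (.one ⟨2619, 2, 5⟩) (.one ⟨6215, 1, 5⟩)) (.node 1 (.one ⟨13706, 2, 5⟩) (.one ⟨1601, 0, 4⟩))) (.node 2 (.node 1 (.one ⟨16693, 1, 5⟩) (.one ⟨6461, 3, 5⟩)) (.node 1 (.one ⟨388, 1, 5⟩) (.one ⟨6371, 3, 2⟩)))) (.node 4 (.node 2 (.node 1 (.one ⟨7268, 0, 5⟩) (.one ⟨6372, 3, 2⟩)) (.node 1 (.one ⟨7695, 1, 5⟩) (.one ⟨7476, 1, 4⟩))) (.node 2 (.node 1 (.one ⟨6367, 3, 4⟩) (.one ⟨1942, 3, 4⟩)) (.node 1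 (.one ⟨6368, 3, 3⟩) (.one ⟨13058, 2, 4⟩))))) (.node 8 (.node 4 (.node 2 (.node 1 (.one ⟨3586, 3, 1⟩) (.one ⟨999, 3, 3⟩)) (.node 1 (.one ⟨11149, 0, 3⟩) (.one ⟨14267, 3, 4⟩))) (.node 2 (.node 1 (.one ⟨2335, 2, 2⟩) (.one ⟨10781, 0, 3⟩)) (.node 1 (.one ⟨13905, 1, 3⟩) (.one ⟨9459, 3, 5⟩)))) (.node 4 (.node 2 (.node 1 (.one ⟨12486, 3, 1⟩) (.one ⟨2539, 2, 5⟩)) (.node 1 (.one ⟨706, 2, 5⟩) (.one ⟨10268, 1, 3⟩))) (.node 2 (.node 1 (.one ⟨10668, 2, 5⟩) (.one ⟨1539, 3, 6⟩)) (.node 1 (.one ⟨4405, 3, 5⟩) (.one ⟨7205, 0, 4⟩)))))))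
def par4_13_7 : Arr Par :=
  (.node 32 (.node 16 (.node 8 (.node 4 (.node 2 (.node 1 (.one ⟨15271, 3, 3⟩) (.one ⟨6643, 3, 3⟩)) (.node 1 (.one ⟨2470, 1, 4⟩) (.one ⟨11352, 3, 5⟩))) (.node 2 (.node 1 (.one ⟨12633, 2, 4⟩) (.one ⟨14282, 3, 6⟩)) (.node 1 (.one ⟨11269, 0, 4⟩) (.one ⟨732, 2, 5⟩)))) (.node 4 (.node 2 (.node 1 (.one ⟨12237, 3, 4⟩) (.one ⟨2659, 3, 4⟩)) (.node 1 (.one ⟨6649, 0, 6⟩) (.one ⟨14999, 3, 6⟩))) (.node 2 (.node 1 (.one ⟨1393, 0, 5⟩) (.one ⟨13962, 1, 5⟩)) (.node 1 (.one ⟨8626, 3, 5⟩) (.one ⟨7594, 0, 5⟩))))) (.node 8 (.node 4 (.node 2 (.node 1 (.one ⟨16264, 3, 5⟩) (.one ⟨2549, 2, 5⟩)) (.node 1 (.one ⟨2493, 1, 4⟩) (.one ⟨1145, 1, 5⟩))) (.node 2 (.node 1 (.one ⟨2565, 2, 5⟩) (.one ⟨10219, 1, 4⟩)) (.node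 1 (.one ⟨15386, 3, 4⟩) (.one ⟨6069, 3, 5⟩)))) (.node 4 (.node 2 (.node 1 (.one ⟨7326, 2, 4⟩) (.one ⟨2067, 3, 5⟩)) (.node 1 (.one ⟨9844, 3, 5⟩) (.one ⟨5600, 3, 3⟩))) (.node 2 (.node 1 (.one ⟨14010, 3, 5⟩) (.one ⟨386, 3, 3⟩)) (.node 1 (.one ⟨10017, 3, 3⟩) (.one ⟨4867, 3, 4⟩)))))) (.node 16 (.node 8 (.node 4 (.node 2 (.node 1 (.one ⟨379, 1, 5⟩) (.one ⟨3755, 3, 5⟩)) (.node 1 (.one ⟨10089, 0, 4⟩) (.one ⟨14220, 0, 4⟩))) (.node 2 (.node 1 (.one ⟨3649, 1, 5⟩) (.one ⟨16677, 3, 5⟩)) (.node 1 (.one ⟨14231, 3, 5⟩) (.one ⟨9566, 1, 6⟩)))) (.node 4 (.node 2 (.node 1 (.one ⟨497, 3, 3⟩) (.one ⟨11444, 2, 3⟩)) (.node 1 (.one ⟨5485, 3, 4⟩) (.one ⟨11016, 2, 4⟩))) (.node 2 (.node 1 (.one ⟨8987, 2, 5⟩) (.one ⟨6363, 2, 4⟩)) (.node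 1 (.one ⟨9677, 0, 5⟩) (.one ⟨10475, 0, 5⟩))))) (.node 8 (.node 4 (.node 2 (.node 1 (.one ⟨1927, 3, 6⟩) (.one ⟨14179, 3, 4⟩)) (.node 1 (.one ⟨8985, 2, 5⟩) (.one ⟨16162, 2, 6⟩))) (.node 2 (.node 1 (.one ⟨15995, 1, 4⟩) (.one ⟨2064, 2, 4⟩)) (.node 1 (.one ⟨1139, 3, 5⟩) (.one ⟨2210, 2, 5⟩)))) (.node 4 (.node 2 (.node 1 (.one ⟨10669, 2, 5⟩) (.one ⟨1570, 2, 5⟩)) (.node 1 (.one ⟨2868, 0, 4⟩) (.one ⟨10235, 2, 2⟩))) (.node 2 (.node 1 (.one ⟨2544, 2, 3⟩) (.one ⟨10235, 1, 2⟩)) (.node 1 (.one ⟨9070, 3, 4⟩) (.one ⟨9554, 1, 4⟩)))))))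
def par4_13_8 : Arr Par :=
  (.node 32 (.node 16 (.node 8 (.node 4 (.node 2 (.node 1 (.one ⟨5935, 0, 2⟩) (.one ⟨15559, 2, 5⟩)) (.node 1 (.one ⟨7067, 1, 3⟩) (.one ⟨12103, 1, 5⟩))) (.node 2 (.node 1 (.one ⟨14695, 1, 5⟩) (.one ⟨3149, 3, 6⟩)) (.node 1 (.one ⟨9027, 1, 2⟩) (.one ⟨9551, 3, 4⟩)))) (.node 4 (.node 2 (.node 1 (.one ⟨14163, 1, 3⟩) (.one ⟨9548, 1, 4⟩)) (.node 1 (.one ⟨1924, 1, 5⟩) (.one ⟨249, 0, 5⟩))) (.node 2 (.node 1 (.one ⟨7341, 0, 5⟩) (.one ⟨13453, 3, 5⟩)) (.node 1 (.one ⟨824, 0, 5⟩) (.one ⟨2285, 1, 5⟩))))) (.node 8 (.node 4 (.node 2 (.node 1 (.one ⟨10793, 1, 6⟩) (.one ⟨3584, 3, 2⟩)) (.node 1 (.one ⟨3657, 1, 4⟩) (.one ⟨15116, 3, 3⟩))) (.node 2 (.node 1 (.one ⟨11900, 3, 3⟩) (.one ⟨9217, 2, 2⟩)) (.node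 1 (.one ⟨782, 2, 4⟩) (.one ⟨15970, 1, 4⟩)))) (.node 4 (.node 2 (.node 1 (.one ⟨14883, 2, 4⟩) (.one ⟨2905, 1, 5⟩)) (.node 1 (.one ⟨5997, 2, 5⟩) (.one ⟨16831, 0, 5⟩))) (.node 2 (.node 1 (.one ⟨13594, 3, 4⟩) (.one ⟨17070, 0, 4⟩)) (.node 1 (.one ⟨4657, 0, 4⟩) (.one ⟨5883, 1, 6⟩)))))) (.node 16 (.node 8 (.node 4 (.node 2 (.node 1 (.one ⟨3054, 0, 5⟩) (.one ⟨2367, 3, 6⟩)) (.node 1 (.one ⟨13714, 1, 4⟩) (.one ⟨10524, 3, 5⟩))) (.node 2 (.node 1 (.one ⟨854, 3, 4⟩) (.one ⟨222, 2, 6⟩)) (.node 1 (.one ⟨5225, 3, 3⟩) (.one ⟨1524, 0, 3⟩)))) (.node 4 (.node 2 (.node 1 (.one ⟨5100, 1, 6⟩) (.one ⟨17066, 2, 5⟩)) (.node 1 (.one ⟨10920, 1, 4⟩) (.one ⟨15534, 3, 3⟩))) (.node 2 (.node 1 (.one ⟨13557, 1, 5⟩) (.one ⟨9565, 1, 5⟩)) (.node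 1 (.one ⟨284, 2, 4⟩) (.one ⟨5384, 1, 3⟩))))) (.node 8 (.node 4 (.node 2 (.node 1 (.one ⟨8457, 1, 5⟩) (.one ⟨12803, 2, 4⟩)) (.node 1 (.one ⟨9091, 3, 5⟩) (.one ⟨4801, 0, 6⟩))) (.node 2 (.node 1 (.one ⟨14538, 1, 5⟩) (.one ⟨4814, 0, 5⟩)) (.node 1 (.one ⟨14385, 2, 4⟩) (.one ⟨12063, 3, 5⟩)))) (.node 4 (.node 2 (.node 1 (.one ⟨13382, 1, 4⟩) (.one ⟨5543, 2, 5⟩)) (.node 1 (.one ⟨15573, 0, 5⟩) (.one ⟨12371, 0, 4⟩))) (.node 2 (.node 1 (.one ⟨8485, 0, 5⟩) (.one ⟨8005, 2, 5⟩)) (.node 1 (.one ⟨16819, 1, 4⟩) (.one ⟨9411, 1, 4⟩)))))))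
def par4_13_9 : Arr Par :=
  (.node 32 (.node 16 (.node 8 (.node 4 (.node 2 (.node 1 (.one ⟨16104, 1, 4⟩) (.one ⟨3064, 0, 4⟩)) (.node 1 (.one ⟨5086, 0, 4⟩) (.one ⟨9647, 1, 2⟩))) (.node 2 (.node 1 (.one ⟨3242, 2, 6⟩) (.one ⟨8101, 1, 5⟩)) (.node 1 (.one ⟨15844, 2, 5⟩) (.one ⟨14202, 2, 5⟩)))) (.node 4 (.node 2 (.node 1 (.one ⟨12129, 3, 4⟩) (.one ⟨8625, 2, 4⟩)) (.node 1 (.one ⟨11600, 2, 4⟩) (.one ⟨4996, 1, 5⟩))) (.node 2 (.node 1 (.one ⟨1692, 1, 3⟩) (.one ⟨4856, 3, 6⟩)) (.node 1 (.one ⟨4001, 2, 5⟩) (.one ⟨8892, 2, 4⟩))))) (.node 8 (.node 4 (.node 2 (.node 1 (.one ⟨3758, 3, 5⟩) (.one ⟨10216, 0, 2⟩)) (.node 1 (.one ⟨9155, 0, 4⟩) (.one ⟨3781, 3, 5⟩))) (.node 2 (.node 1 (.one ⟨488, 0, 3⟩) (.one ⟨11778, 3, 5⟩)) (.node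 1 (.one ⟨707, 3, 6⟩) (.one ⟨11122, 0, 4⟩)))) (.node 4 (.node 2 (.node 1 (.one ⟨5900, 2, 4⟩) (.one ⟨5898, 2, 3⟩)) (.node 1 (.one ⟨5936, 1, 4⟩) (.one ⟨296, 2, 4⟩))) (.node 2 (.node 1 (.one ⟨4454, 1, 4⟩) (.one ⟨15187, 3, 5⟩)) (.node 1 (.one ⟨12281, 3, 4⟩) (.one ⟨9201, 3, 1⟩)))))) (.node 16 (.node 8 (.node 4 (.node 2 (.node 1 (.one ⟨9276, 3, 5⟩) (.one ⟨10994, 3, 2⟩)) (.node 1 (.one ⟨11471, 2, 5⟩) (.one ⟨11930, 2, 5⟩))) (.node 2 (.node 1 (.one ⟨9763, 1, 2⟩) (.one ⟨2971, 3, 3⟩)) (.node 1 (.one ⟨16854, 0, 5⟩) (.one ⟨14098, 3, 5⟩)))) (.node 4 (.node 2 (.node 1 (.one ⟨2783, 3, 5⟩) (.one ⟨172, 2, 4⟩)) (.node 1 (.one ⟨15097, 3, 2⟩) (.one ⟨15253, 0, 6⟩))) (.node 2 (.node 1 (.one ⟨11106, 2, 5⟩) (.one ⟨14501, 2, 4⟩)) (.node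 1 (.one ⟨13093, 1, 5⟩) (.one ⟨3630, 1, 5⟩))))) (.node 8 (.node 4 (.node 2 (.node 1 (.one ⟨14637, 3, 5⟩) (.one ⟨16000, 2, 3⟩)) (.node 1 (.one ⟨1045, 1, 4⟩) (.one ⟨6209, 3, 3⟩))) (.node 2 (.node 1 (.one ⟨16006, 2, 5⟩) (.one ⟨17136, 3, 5⟩)) (.node 1 (.one ⟨11131, 3, 5⟩) (.one ⟨7597, 3, 4⟩)))) (.node 4 (.node 2 (.node 1 (.one ⟨16476, 1, 6⟩) (.one ⟨7996, 3, 6⟩)) (.node 1 (.one ⟨14505, 3, 4⟩) (.one ⟨453, 0, 3⟩))) (.node 2 (.node 1 (.one ⟨5634, 0, 5⟩) (.one ⟨1689, 1, 5⟩)) (.node 1 (.one ⟨14980, 0, 3⟩) (.one ⟨7868, 0, 3⟩)))))))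
def par4_13_10 : Arr Par :=
  (.node 32 (.node 16 (.node 8 (.node 4 (.node 2 (.node 1 (.one ⟨4603, 3, 4⟩) (.one ⟨15525, 3, 4⟩)) (.node 1 (.one ⟨14313, 2, 6⟩) (.one ⟨13455, 3, 5⟩))) (.node 2 (.node 1 (.one ⟨3389, 0, 5⟩) (.one ⟨1123, 0, 3⟩)) (.node 1 (.one ⟨6993, 3, 5⟩) (.one ⟨8841, 1, 5⟩)))) (.node 4 (.node 2 (.node 1 (.one ⟨2389, 3, 5⟩) (.one ⟨2385, 3, 4⟩)) (.node 1 (.one ⟨2386, 3, 4⟩) (.one ⟨2383, 3, 3⟩))) (.node 2 (.node 1 (.one ⟨2384, 3, 4⟩) (.one ⟨2388, 3, 3⟩)) (.node 1 (.one ⟨2387, 3, 3⟩) (.one ⟨12627, 3, 4⟩))))) (.node 8 (.node 4 (.node 2 (.node 1 (.one ⟨17047, 2, 5⟩) (.one ⟨8955, 2, 5⟩)) (.node 1 (.one ⟨8963, 2, 5⟩) (.one ⟨14390, 3, 3⟩))) (.node 2 (.node 1 (.one ⟨15866, 3, 5⟩) (.one ⟨1131, 3, 3⟩)) (.node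 1 (.one ⟨3929, 3, 5⟩) (.one ⟨1456, 1, 5⟩)))) (.node 4 (.node 2 (.node 1 (.one ⟨1687, 0, 5⟩) (.one ⟨15469, 3, 5⟩)) (.node 1 (.one ⟨12484, 0, 1⟩) (.one ⟨12010, 0, 1⟩))) (.node 2 (.node 1 (.one ⟨4405, 2, 5⟩) (.one ⟨12784, 3, 5⟩)) (.node 1 (.one ⟨5640, 1, 4⟩) (.one ⟨13490, 3, 4⟩)))))) (.node 16 (.node 8 (.node 4 (.node 2 (.node 1 (.one ⟨13494, 3, 5⟩) (.one ⟨13493, 3, 5⟩)) (.node 1 (.one ⟨13489, 3, 5⟩) (.one ⟨13491, 3, 5⟩))) (.node 2 (.node 1 (.one ⟨10360, 2, 4⟩) (.one ⟨13488, 3, 4⟩)) (.node 1 (.one ⟨6917, 2, 4⟩) (.one ⟨9451, 3, 6⟩)))) (.node 4 (.node 2 (.node 1 (.one ⟨13058, 0, 4⟩) (.one ⟨14278, 1, 4⟩)) (.node 1 (.one ⟨16125, 1, 5⟩) (.one ⟨14699, 3, 5⟩))) (.node 2 (.node 1 (.one ⟨9600, 3, 5⟩) (.one ⟨16450, 0, 5⟩))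 (.node 1 (.one ⟨6610, 3, 5⟩) (.one ⟨11082, 0, 4⟩))))) (.node 8 (.node 4 (.node 2 (.node 1 (.one ⟨9108, 3, 4⟩) (.one ⟨11076, 0, 5⟩)) (.node 1 (.one ⟨5796, 1, 6⟩) (.one ⟨11169, 0, 5⟩))) (.node 2 (.node 1 (.one ⟨8884, 3, 6⟩) (.one ⟨12332, 3, 6⟩)) (.node 1 (.one ⟨11424, 1, 5⟩) (.one ⟨16270, 3, 6⟩)))) (.node 4 (.node 2 (.node 1 (.one ⟨1511, 0, 3⟩) (.one ⟨17111, 0, 4⟩)) (.node 1 (.one ⟨6847, 3, 4⟩) (.one ⟨10682, 3, 5⟩))) (.node 2 (.node 1 (.one ⟨10154, 1, 6⟩) (.one ⟨2080, 1, 5⟩)) (.node 1 (.one ⟨4726, 3, 4⟩) (.one ⟨8323, 0, 4⟩)))))))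
def par4_13_11 : Arr Par :=
  (.node 32 (.node 16 (.node 8 (.node 4 (.node 2 (.node 1 (.one ⟨2280, 2, 4⟩) (.one ⟨12838, 2, 4⟩)) (.node 1 (.one ⟨4577, 2, 5⟩) (.one ⟨17111, 3, 4⟩))) (.node 2 (.node 1 (.one ⟨14290, 1, 4⟩) (.one ⟨1215, 1, 4⟩)) (.node 1 (.one ⟨11051, 2, 5⟩) (.one ⟨14539, 3, 5⟩)))) (.node 4 (.node 2 (.node 1 (.one ⟨5521, 0, 3⟩) (.one ⟨13002, 1, 3⟩)) (.node 1 (.one ⟨16529, 3, 6⟩) (.one ⟨12870, 1, 3⟩))) (.node 2 (.node 1 (.one ⟨10050, 1, 4⟩) (.one ⟨14953, 1, 4⟩)) (.node 1 (.one ⟨8787, 3, 6⟩) (.one ⟨15924, 2, 4⟩))))) (.node 8 (.node 4 (.node 2 (.node 1 (.one ⟨2891, 1, 3⟩) (.one ⟨3616, 2, 5⟩)) (.node 1 (.one ⟨1269, 1, 5⟩) (.one ⟨4000, 3, 6⟩))) (.node 2 (.node 1 (.one ⟨13738, 2, 6⟩) (.one ⟨12609, 3, 5⟩))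 (.node 1 (.one ⟨6569, 3, 4⟩) (.one ⟨7493, 1, 6⟩)))) (.node 4 (.node 2 (.node 1 (.one ⟨13821, 1, 3⟩) (.one ⟨1843, 0, 2⟩)) (.node 1 (.one ⟨7646, 2, 3⟩) (.one ⟨5760, 2, 4⟩))) (.node 2 (.node 1 (.one ⟨1867, 0, 6⟩) (.one ⟨12644, 3, 4⟩)) (.node 1 (.one ⟨14873, 3, 5⟩) (.one ⟨6295, 3, 4⟩)))))) (.node 16 (.node 8 (.node 4 (.node 2 (.node 1 (.one ⟨7804, 2, 4⟩) (.one ⟨1268, 1, 6⟩)) (.node 1 (.one ⟨6995, 1, 4⟩) (.one ⟨16852, 2, 4⟩))) (.node 2 (.node 1 (.one ⟨6595, 1, 4⟩) (.one ⟨4585, 3, 4⟩)) (.node 1 (.one ⟨3142, 2, 4⟩) (.one ⟨6314, 3, 5⟩)))) (.node 4 (.node 2 (.node 1 (.one ⟨1347, 2, 4⟩) (.one ⟨1479, 2, 4⟩)) (.node 1 (.one ⟨6315, 3, 4⟩) (.one ⟨8081, 2, 5⟩))) (.node 2 (.node 1 (.one ⟨2659, 0, 4⟩) (.one ⟨10301, 1, 6⟩)) (.node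 1 (.one ⟨2359, 0, 4⟩) (.one ⟨4482, 0, 5⟩))))) (.node 8 (.node 4 (.node 2 (.node 1 (.one ⟨11967, 0, 4⟩) (.one ⟨6754, 2, 3⟩)) (.node 1 (.one ⟨13943, 3, 5⟩) (.one ⟨1252, 3, 4⟩))) (.node 2 (.node 1 (.one ⟨9644, 2, 5⟩) (.one ⟨16202, 0, 5⟩)) (.node 1 (.one ⟨4634, 2, 5⟩) (.one ⟨10338, 3, 5⟩)))) (.node 4 (.node 2 (.node 1 (.one ⟨9693, 3, 4⟩) (.one ⟨11796, 3, 6⟩)) (.node 1 (.one ⟨14654, 1, 5⟩) (.one ⟨13843, 1, 4⟩))) (.node 2 (.node 1 (.one ⟨15972, 3, 4⟩) (.one ⟨13711, 3, 4⟩)) (.node 1 (.one ⟨6241, 1, 4⟩) (.one ⟨13694, 3, 5⟩)))))))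
def par4_13_12 : Arr Par :=
  (.node 32 (.node 16 (.node 8 (.node 4 (.node 2 (.node 1 (.one ⟨3113, 2, 5⟩) (.one ⟨8235, 2, 5⟩)) (.node 1 (.one ⟨1324, 2, 5⟩) (.one ⟨12555, 0, 5⟩))) (.node 2 (.node 1 (.one ⟨2060, 1, 6⟩) (.one ⟨10964, 1, 4⟩)) (.node 1 (.one ⟨16641, 2, 5⟩) (.one ⟨1560, 3, 4⟩)))) (.node 4 (.node 2 (.node 1 (.one ⟨12473, 3, 5⟩) (.one ⟨15222, 1, 4⟩)) (.node 1 (.one ⟨11465, 3, 3⟩) (.one ⟨3578, 3, 3⟩))) (.node 2 (.node 1 (.one ⟨4513, 0, 1⟩) (.one ⟨2826, 3, 5⟩)) (.node 1 (.one ⟨10953, 1, 6⟩) (.one ⟨4844, 1, 6⟩))))) (.node 8 (.node 4 (.node 2 (.node 1 (.one ⟨2353, 2, 5⟩) (.one ⟨3952, 2, 6⟩)) (.node 1 (.one ⟨6597, 3, 4⟩) (.one ⟨636, 3, 5⟩))) (.node 2 (.node 1 (.one ⟨4202, 2, 4⟩) (.one ⟨2064, 3, 4⟩)) (.node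 1 (.one ⟨14965, 3, 3⟩) (.one ⟨16412, 2, 6⟩)))) (.node 4 (.node 2 (.node 1 (.one ⟨2613, 0, 4⟩) (.one ⟨12808, 0, 4⟩)) (.node 1 (.one ⟨16048, 0, 5⟩) (.one ⟨4924, 1, 5⟩))) (.node 2 (.node 1 (.one ⟨16123, 0, 5⟩) (.one ⟨7120, 0, 4⟩)) (.node 1 (.one ⟨9142, 1, 4⟩) (.one ⟨10640, 2, 5⟩)))))) (.node 16 (.node 8 (.node 4 (.node 2 (.node 1 (.one ⟨3782, 3, 5⟩) (.one ⟨3466, 0, 5⟩)) (.node 1 (.one ⟨10701, 3, 4⟩) (.one ⟨6928, 0, 4⟩))) (.node 2 (.node 1 (.one ⟨2352, 1, 2⟩) (.one ⟨6428, 0, 5⟩)) (.node 1 (.one ⟨12775, 0, 4⟩) (.one ⟨14699, 2, 5⟩)))) (.node 4 (.node 2 (.node 1 (.one ⟨361, 0, 4⟩) (.one ⟨5239, 0, 4⟩)) (.node 1 (.one ⟨11736, 2, 5⟩) (.one ⟨8403, 1, 5⟩))) (.node 2 (.node 1 (.one ⟨15834, 3, 3⟩) (.one ⟨52, 3, 4⟩)) (.node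 1 (.one ⟨6138, 0, 4⟩) (.one ⟨14002, 2, 7⟩))))) (.node 8 (.node 4 (.node 2 (.node 1 (.one ⟨14583, 1, 5⟩) (.one ⟨11636, 2, 5⟩)) (.node 1 (.one ⟨1246, 3, 4⟩) (.one ⟨5926, 3, 5⟩))) (.node 2 (.node 1 (.one ⟨11965, 3, 5⟩) (.one ⟨14496, 1, 5⟩)) (.node 1 (.one ⟨2079, 1, 4⟩) (.one ⟨7608, 3, 4⟩)))) (.node 4 (.node 2 (.node 1 (.one ⟨6401, 3, 4⟩) (.one ⟨13191, 2, 5⟩)) (.node 1 (.one ⟨16664, 0, 4⟩) (.one ⟨5396, 3, 5⟩))) (.node 2 (.node 1 (.one ⟨3919, 0, 4⟩) (.one ⟨8927, 0, 4⟩)) (.node 1 (.one ⟨5161, 2, 5⟩) (.one ⟨77, 3, 5⟩)))))))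
def par4_13_13 : Arr Par :=
  (.node 32 (.node 16 (.node 8 (.node 4 (.node 2 (.node 1 (.one ⟨13887, 2, 5⟩) (.one ⟨4783, 1, 4⟩)) (.node 1 (.one ⟨3918, 1, 4⟩) (.one ⟨10155, 2, 4⟩))) (.node 2 (.node 1 (.one ⟨17005, 1, 4⟩) (.one ⟨13794, 2, 5⟩)) (.node 1 (.one ⟨4905, 2, 5⟩) (.one ⟨2299, 3, 5⟩)))) (.node 4 (.node 2 (.node 1 (.one ⟨2988, 3, 5⟩) (.one ⟨621, 1, 5⟩)) (.node 1 (.one ⟨12477, 3, 4⟩) (.one ⟨12405, 3, 6⟩))) (.node 2 (.node 1 (.one ⟨12800, 3, 5⟩) (.one ⟨8767, 2, 3⟩)) (.node 1 (.one ⟨6978, 0, 4⟩) (.one ⟨2006, 1, 5⟩))))) (.node 8 (.node 4 (.node 2 (.node 1 (.one ⟨10694, 1, 5⟩) (.one ⟨1671, 3, 3⟩)) (.node 1 (.one ⟨5014, 1, 5⟩) (.one ⟨13978, 2, 2⟩))) (.node 2 (.node 1 (.one ⟨15333, 2, 4⟩) (.one ⟨5862, 1, 6⟩)) (.node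 1 (.one ⟨9846, 2, 5⟩) (.one ⟨5848, 1, 5⟩)))) (.node 4 (.node 2 (.node 1 (.one ⟨9718, 0, 6⟩) (.one ⟨7608, 1, 4⟩)) (.node 1 (.one ⟨10197, 0, 4⟩) (.one ⟨2513, 3, 3⟩))) (.node 2 (.node 1 (.one ⟨2957, 0, 4⟩) (.one ⟨9074, 2, 4⟩)) (.node 1 (.one ⟨6757, 1, 5⟩) (.one ⟨6283, 3, 2⟩)))))) (.node 16 (.node 8 (.node 4 (.node 2 (.node 1 (.one ⟨1353, 2, 2⟩) (.one ⟨4219, 0, 3⟩)) (.node 1 (.one ⟨3662, 0, 5⟩) (.one ⟨2387, 0, 3⟩))) (.node 2 (.node 1 (.one ⟨12676, 3, 5⟩) (.one ⟨4367, 1, 6⟩)) (.node 1 (.one ⟨11725, 3, 4⟩) (.one ⟨15759, 2, 4⟩)))) (.node 4 (.node 2 (.node 1 (.one ⟨6924, 0, 2⟩) (.one ⟨4361, 2, 4⟩)) (.node 1 (.one ⟨11453, 2, 4⟩) (.one ⟨8832, 3, 6⟩))) (.node 2 (.node 1 (.one ⟨12054, 2, 4⟩) (.one ⟨12707, 3, 4⟩)) (.node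 1 (.one ⟨16460, 1, 4⟩) (.one ⟨11365, 3, 4⟩))))) (.node 8 (.node 4 (.node 2 (.node 1 (.one ⟨6080, 2, 5⟩) (.one ⟨16339, 3, 4⟩)) (.node 1 (.one ⟨10185, 2, 3⟩) (.one ⟨10043, 2, 5⟩))) (.node 2 (.node 1 (.one ⟨14495, 3, 4⟩) (.one ⟨10990, 3, 4⟩)) (.node 1 (.one ⟨4392, 1, 6⟩) (.one ⟨2963, 1, 3⟩)))) (.node 4 (.node 2 (.node 1 (.one ⟨11063, 3, 4⟩) (.one ⟨2651, 2, 4⟩)) (.node 1 (.one ⟨13683, 1, 4⟩) (.one ⟨11067, 3, 4⟩))) (.node 2 (.node 1 (.one ⟨13240, 2, 3⟩) (.one ⟨16465, 1, 5⟩)) (.node 1 (.one ⟨12176, 2, 5⟩) (.one ⟨2483, 2, 4⟩)))))))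
def par4_13_14 : Arr Par :=
  (.node 32 (.node 16 (.node 8 (.node 4 (.node 2 (.node 1 (.one ⟨13608, 3, 5⟩) (.one ⟨12775, 2, 4⟩)) (.node 1 (.one ⟨4472, 2, 5⟩) (.one ⟨3268, 3, 4⟩))) (.node 2 (.node 1 (.one ⟨15615, 3, 3⟩) (.one ⟨15034, 2, 5⟩)) (.node 1 (.one ⟨6209, 2, 3⟩) (.one ⟨14644, 0, 5⟩)))) (.node 4 (.node 2 (.node 1 (.one ⟨2990, 1, 4⟩) (.one ⟨7247, 1, 5⟩)) (.node 1 (.one ⟨10318, 0, 4⟩) (.one ⟨6527, 1, 5⟩))) (.node 2 (.node 1 (.one ⟨9178, 0, 3⟩) (.one ⟨15194, 0, 5⟩)) (.node 1 (.one ⟨1682, 1, 5⟩) (.one ⟨16263, 3, 1⟩))))) (.node 8 (.node 4 (.node 2 (.node 1 (.one ⟨9196, 3, 4⟩) (.one ⟨11906, 3, 4⟩)) (.node 1 (.one ⟨15003, 2, 3⟩) (.one ⟨8673, 0, 4⟩))) (.node 2 (.node 1 (.one ⟨16932, 2, 3⟩) (.one ⟨2565, 0, 5⟩))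 (.node 1 (.one ⟨11188, 2, 5⟩) (.one ⟨2043, 1, 4⟩)))) (.node 4 (.node 2 (.node 1 (.one ⟨8690, 0, 3⟩) (.one ⟨7249, 2, 4⟩)) (.node 1 (.one ⟨862, 3, 6⟩) (.one ⟨11898, 0, 2⟩))) (.node 2 (.node 1 (.one ⟨9938, 2, 5⟩) (.one ⟨10472, 2, 3⟩)) (.node 1 (.one ⟨2329, 2, 5⟩) (.one ⟨13088, 2, 5⟩)))))) (.node 16 (.node 8 (.node 4 (.node 2 (.node 1 (.one ⟨8422, 2, 5⟩) (.one ⟨14876, 1, 4⟩)) (.node 1 (.one ⟨1199, 3, 3⟩) (.one ⟨9306, 2, 4⟩))) (.node 2 (.node 1 (.one ⟨5998, 2, 4⟩) (.one ⟨15810, 3, 2⟩)) (.node 1 (.one ⟨25, 0, 4⟩) (.one ⟨3481, 1, 4⟩)))) (.node 4 (.node 2 (.node 1 (.one ⟨2021, 3, 5⟩) (.one ⟨10529, 2, 3⟩)) (.node 1 (.one ⟨12864, 1, 4⟩) (.one ⟨13706, 0, 5⟩))) (.node 2 (.node 1 (.one ⟨1995, 1, 5⟩) (.one ⟨9867, 3, 5⟩))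 (.node 1 (.one ⟨11197, 1, 5⟩) (.one ⟨8053, 1, 4⟩))))) (.node 8 (.node 4 (.node 2 (.node 1 (.one ⟨1573, 3, 5⟩) (.one ⟨9869, 3, 5⟩)) (.node 1 (.one ⟨1748, 3, 6⟩) (.one ⟨15457, 3, 5⟩))) (.node 2 (.node 1 (.one ⟨6425, 0, 4⟩) (.one ⟨8435, 1, 4⟩)) (.node 1 (.one ⟨5794, 1, 4⟩) (.one ⟨2891, 0, 3⟩)))) (.node 4 (.node 2 (.node 1 (.one ⟨2163, 1, 5⟩) (.one ⟨7802, 2, 4⟩)) (.node 1 (.one ⟨7083, 1, 5⟩) (.one ⟨8868, 1, 3⟩))) (.node 2 (.node 1 (.one ⟨13821, 2, 3⟩) (.one ⟨3933, 1, 4⟩)) (.node 1 (.one ⟨2520, 3, 4⟩) (.one ⟨4837, 1, 4⟩)))))))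
def par4_13_15 : Arr Par :=
  (.node 32 (.node 16 (.node 8 (.node 4 (.node 2 (.node 1 (.one ⟨1374, 3, 4⟩) (.one ⟨13648, 2, 3⟩)) (.node 1 (.one ⟨11970, 0, 4⟩) (.one ⟨5207, 2, 5⟩))) (.node 2 (.node 1 (.one ⟨7336, 2, 4⟩) (.one ⟨7681, 0, 2⟩)) (.node 1 (.one ⟨7773, 2, 3⟩) (.one ⟨10355, 0, 6⟩)))) (.node 4 (.node 2 (.node 1 (.one ⟨5152, 1, 5⟩) (.one ⟨8190, 3, 6⟩)) (.node 1 (.one ⟨1744, 1, 5⟩) (.one ⟨16580, 2, 4⟩))) (.node 2 (.node 1 (.one ⟨15899, 1, 2⟩) (.one ⟨5214, 1, 5⟩)) (.node 1 (.one ⟨15347, 1, 5⟩) (.one ⟨5174, 1, 3⟩))))) (.node 8 (.node 4 (.node 2 (.node 1 (.one ⟨10393, 1, 5⟩) (.one ⟨747, 1, 6⟩)) (.node 1 (.one ⟨11674, 2, 3⟩) (.one ⟨11552, 1, 5⟩))) (.node 2 (.node 1 (.one ⟨4334, 1, 3⟩) (.one ⟨14325, 2, 3⟩)) (.node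 1 (.one ⟨8930, 3, 5⟩) (.one ⟨15758, 2, 3⟩)))) (.node 4 (.node 2 (.node 1 (.one ⟨5140, 2, 3⟩) (.one ⟨2906, 1, 3⟩)) (.node 1 (.one ⟨5151, 1, 5⟩) (.one ⟨1168, 2, 5⟩))) (.node 2 (.node 1 (.one ⟨15237, 2, 5⟩) (.one ⟨15666, 2, 4⟩)) (.node 1 (.one ⟨5093, 2, 3⟩) (.one ⟨1389, 2, 4⟩)))))) (.node 16 (.node 8 (.node 4 (.node 2 (.node 1 (.one ⟨9186, 3, 4⟩) (.one ⟨1279, 2, 5⟩)) (.node 1 (.one ⟨1891, 0, 5⟩) (.one ⟨5918, 3, 4⟩))) (.node 2 (.node 1 (.one ⟨16959, 2, 3⟩) (.one ⟨8940, 2, 3⟩)) (.node 1 (.one ⟨16980, 2, 3⟩) (.one ⟨10535, 2, 5⟩)))) (.node 4 (.node 2 (.node 1 (.one ⟨15248, 2, 4⟩) (.one ⟨16616, 2, 5⟩)) (.node 1 (.one ⟨11856, 2, 5⟩) (.one ⟨2639, 2, 3⟩))) (.node 2 (.node 1 (.one ⟨4094, 1, 4⟩) (.one ⟨6861, 1, 5⟩)) (.node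 1 (.one ⟨4187, 1, 0⟩) (.one ⟨16189, 2, 4⟩))))) (.node 8 (.node 4 (.node 2 (.node 1 (.one ⟨1387, 3, 4⟩) (.one ⟨16132, 1, 2⟩)) (.node 1 (.one ⟨9283, 3, 3⟩) (.one ⟨14188, 2, 5⟩))) (.node 2 (.node 1 (.one ⟨10852, 2, 6⟩) (.one ⟨10216, 1, 2⟩)) (.node 1 (.one ⟨825, 0, 3⟩) (.one ⟨11925, 3, 4⟩)))) (.node 4 (.node 2 (.node 1 (.one ⟨12756, 3, 5⟩) (.one ⟨1966, 3, 6⟩)) (.node 1 (.one ⟨16816, 1, 5⟩) (.one ⟨9944, 1, 5⟩))) (.node 2 (.node 1 (.one ⟨5815, 0, 5⟩) (.one ⟨3245, 0, 6⟩)) (.node 1 (.one ⟨7985, 1, 5⟩) (.one ⟨15404, 1, 4⟩)))))))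
def par4_13 : Arr Par :=
  (.node 512 (.node 256 (.node 128 (.node 64 par4_13_0 par4_13_1) (.node 64 par4_13_2 par4_13_3)) (.node 128 (.node 64 par4_13_4 par4_13_5) (.node 64 par4_13_6 par4_13_7))) (.node 256 (.node 128 (.node 64 par4_13_8 par4_13_9) (.node 64 par4_13_10 par4_13_11)) (.node 128 (.node 64 par4_13_12 par4_13_13) (.node 64 par4_13_14 par4_13_15))))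
def par4_14_0 : Arr Par :=
  (.node 32 (.node 16 (.node 8 (.node 4 (.node 2 (.node 1 (.one ⟨11008, 2, 5⟩) (.one ⟨8123, 0, 4⟩)) (.node 1 (.one ⟨15572, 3, 6⟩) (.one ⟨6753, 2, 3⟩))) (.node 2 (.node 1 (.one ⟨11082, 1, 4⟩) (.one ⟨15254, 2, 5⟩)) (.node 1 (.one ⟨4089, 0, 3⟩) (.one ⟨6168, 3, 4⟩)))) (.node 4 (.node 2 (.node 1 (.one ⟨7245, 3, 4⟩) (.one ⟨8733, 2, 5⟩)) (.node 1 (.one ⟨5245, 1, 3⟩) (.one ⟨13293, 3, 5⟩))) (.node 2 (.node 1 (.one ⟨6509, 2, 2⟩) (.one ⟨336, 1, 4⟩)) (.node 1 (.one ⟨3409, 3, 5⟩) (.one ⟨2612, 3, 5⟩))))) (.node 8 (.node 4 (.node 2 (.node 1 (.one ⟨7653, 2, 4⟩) (.one ⟨734, 3, 5⟩)) (.node 1 (.one ⟨7710, 2, 4⟩) (.one ⟨2107, 2, 5⟩))) (.node 2 (.node 1 (.one ⟨14263, 3, 4⟩) (.one ⟨2013, 2, 5⟩)) (.node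 1 (.one ⟨14129, 3, 6⟩) (.one ⟨13272, 3, 6⟩)))) (.node 4 (.node 2 (.node 1 (.one ⟨2620, 0, 4⟩) (.one ⟨364, 3, 5⟩)) (.node 1 (.one ⟨7832, 0, 4⟩) (.one ⟨9500, 2, 3⟩))) (.node 2 (.node 1 (.one ⟨4649, 2, 5⟩) (.one ⟨16353, 0, 4⟩)) (.node 1 (.one ⟨12667, 2, 5⟩) (.one ⟨6732, 2, 4⟩)))))) (.node 16 (.node 8 (.node 4 (.node 2 (.node 1 (.one ⟨540, 2, 6⟩) (.one ⟨2532, 3, 6⟩)) (.node 1 (.one ⟨6733, 2, 4⟩) (.one ⟨542, 2, 4⟩))) (.node 2 (.node 1 (.one ⟨14650, 3, 5⟩) (.one ⟨6731, 2, 4⟩)) (.node 1 (.one ⟨12186, 3, 4⟩) (.one ⟨4410, 3, 3⟩)))) (.node 4 (.node 2 (.node 1 (.one ⟨16470, 1, 5⟩) (.one ⟨5145, 3, 4⟩)) (.node 1 (.one ⟨13435, 1, 5⟩) (.one ⟨15118, 1, 3⟩))) (.node 2 (.node 1 (.one ⟨11955, 2, 4⟩) (.one ⟨11353, 1, 4⟩)) (.node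 1 (.one ⟨7650, 2, 3⟩) (.one ⟨3026, 3, 5⟩))))) (.node 8 (.node 4 (.node 2 (.node 1 (.one ⟨7237, 1, 5⟩) (.one ⟨15674, 2, 3⟩)) (.node 1 (.one ⟨7120, 1, 4⟩) (.one ⟨14581, 1, 2⟩))) (.node 2 (.node 1 (.one ⟨13445, 3, 3⟩) (.one ⟨7552, 2, 6⟩)) (.node 1 (.one ⟨4512, 0, 2⟩) (.one ⟨2638, 3, 5⟩)))) (.node 4 (.node 2 (.node 1 (.one ⟨12800, 1, 5⟩) (.one ⟨12290, 2, 4⟩)) (.node 1 (.one ⟨9853, 0, 3⟩) (.one ⟨14951, 3, 5⟩))) (.node 2 (.node 1 (.one ⟨1502, 1, 3⟩) (.one ⟨12870, 0, 3⟩)) (.node 1 (.one ⟨116, 0, 5⟩) (.one ⟨10690, 3, 6⟩)))))))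
def par4_14_1 : Arr Par :=
  (.node 32 (.node 16 (.node 8 (.node 4 (.node 2 (.node 1 (.one ⟨8110, 0, 4⟩) (.one ⟨2859, 1, 2⟩)) (.node 1 (.one ⟨2490, 2, 5⟩) (.one ⟨9847, 3, 4⟩))) (.node 2 (.node 1 (.one ⟨14484, 3, 5⟩) (.one ⟨6304, 2, 3⟩)) (.node 1 (.one ⟨9941, 2, 5⟩) (.one ⟨14599, 1, 1⟩)))) (.node 4 (.node 2 (.node 1 (.one ⟨5553, 1, 5⟩) (.one ⟨9432, 2, 4⟩)) (.node 1 (.one ⟨13614, 3, 3⟩) (.one ⟨10128, 2, 2⟩))) (.node 2 (.node 1 (.one ⟨10088, 2, 4⟩) (.one ⟨14272, 1, 5⟩)) (.node 1 (.one ⟨2075, 2, 3⟩) (.one ⟨3731, 3, 3⟩))))) (.node 8 (.node 4 (.node 2 (.node 1 (.one ⟨2767, 3, 5⟩) (.one ⟨6452, 0, 4⟩)) (.node 1 (.one ⟨3899, 3, 5⟩) (.one ⟨5363, 3, 4⟩))) (.node 2 (.node 1 (.one ⟨6453, 0, 4⟩) (.one ⟨2111, 3, 2⟩)) (.node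 1 (.one ⟨43, 0, 4⟩) (.one ⟨8164, 2, 5⟩)))) (.node 4 (.node 2 (.node 1 (.one ⟨4703, 1, 5⟩) (.one ⟨9355, 0, 4⟩)) (.node 1 (.one ⟨10914, 1, 4⟩) (.one ⟨4052, 1, 1⟩))) (.node 2 (.node 1 (.one ⟨8932, 3, 5⟩) (.one ⟨4125, 3, 3⟩)) (.node 1 (.one ⟨12302, 3, 4⟩) (.one ⟨9583, 0, 4⟩)))))) (.node 16 (.node 8 (.node 4 (.node 2 (.node 1 (.one ⟨13716, 3, 3⟩) (.one ⟨5951, 3, 3⟩)) (.node 1 (.one ⟨840, 2, 5⟩) (.one ⟨12808, 1, 4⟩))) (.node 2 (.node 1 (.one ⟨10402, 1, 6⟩) (.one ⟨92, 2, 3⟩)) (.node 1 (.one ⟨7701, 3, 4⟩) (.one ⟨9686, 1, 5⟩)))) (.node 4 (.node 2 (.node 1 (.one ⟨336, 3, 4⟩) (.one ⟨7681, 1, 2⟩)) (.node 1 (.one ⟨11737, 2, 5⟩) (.one ⟨9012, 0, 5⟩))) (.node 2 (.node 1 (.one ⟨178, 0, 3⟩) (.one ⟨14621, 1, 3⟩)) (.node 1 (.one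 ⟨12511, 2, 4⟩) (.one ⟨1266, 3, 6⟩))))) (.node 8 (.node 4 (.node 2 (.node 1 (.one ⟨2028, 3, 6⟩) (.one ⟨9605, 1, 1⟩)) (.node 1 (.one ⟨750, 3, 6⟩) (.one ⟨10841, 3, 5⟩))) (.node 2 (.node 1 (.one ⟨2980, 2, 4⟩) (.one ⟨9224, 2, 4⟩)) (.node 1 (.one ⟨1761, 1, 5⟩) (.one ⟨7544, 3, 4⟩)))) (.node 4 (.node 2 (.node 1 (.one ⟨16609, 3, 4⟩) (.one ⟨4262, 3, 6⟩)) (.node 1 (.one ⟨14270, 1, 5⟩) (.one ⟨5106, 0, 1⟩))) (.node 2 (.node 1 (.one ⟨1089, 3, 6⟩) (.one ⟨9844, 1, 5⟩)) (.node 1 (.one ⟨8484, 3, 5⟩) (.one ⟨12069, 1, 4⟩)))))))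
def par4_14_2 : Arr Par :=
  (.node 32 (.node 16 (.node 8 (.node 4 (.node 2 (.node 1 (.one ⟨11896, 1, 5⟩) (.one ⟨9981, 1, 2⟩)) (.node 1 (.one ⟨10447, 1, 4⟩) (.one ⟨10780, 1, 2⟩))) (.node 2 (.node 1 (.one ⟨7320, 2, 3⟩) (.one ⟨10284, 3, 5⟩)) (.node 1 (.one ⟨12234, 1, 3⟩) (.one ⟨14459, 2, 2⟩)))) (.node 4 (.node 2 (.node 1 (.one ⟨2531, 2, 5⟩) (.one ⟨16749, 2, 5⟩)) (.node 1 (.one ⟨10838, 3, 6⟩) (.one ⟨14459, 1, 2⟩))) (.node 2 (.node 1 (.one ⟨11865, 0, 4⟩) (.one ⟨9510, 1, 5⟩)) (.node 1 (.one ⟨9002, 2, 5⟩) (.one ⟨15059, 3, 5⟩))))) (.node 8 (.node 4 (.node 2 (.node 1 (.one ⟨12513, 2, 5⟩) (.one ⟨8333, 3, 3⟩)) (.node 1 (.one ⟨6403, 1, 5⟩) (.one ⟨2209, 0, 6⟩))) (.node 2 (.node 1 (.one ⟨12336, 2, 4⟩) (.one ⟨2207, 0, 4⟩))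 (.node 1 (.one ⟨7333, 3, 6⟩) (.one ⟨2839, 0, 4⟩)))) (.node 4 (.node 2 (.node 1 (.one ⟨8124, 2, 4⟩) (.one ⟨2791, 0, 4⟩)) (.node 1 (.one ⟨14652, 0, 4⟩) (.one ⟨10371, 2, 2⟩))) (.node 2 (.node 1 (.one ⟨14091, 2, 4⟩) (.one ⟨9663, 0, 4⟩)) (.node 1 (.one ⟨9606, 1, 4⟩) (.one ⟨14475, 1, 3⟩)))))) (.node 16 (.node 8 (.node 4 (.node 2 (.node 1 (.one ⟨13639, 3, 4⟩) (.one ⟨15469, 2, 5⟩)) (.node 1 (.one ⟨1528, 3, 3⟩) (.one ⟨8163, 2, 4⟩))) (.node 2 (.node 1 (.one ⟨15979, 1, 5⟩) (.one ⟨15040, 0, 3⟩)) (.node 1 (.one ⟨9895, 1, 6⟩) (.one ⟨10898, 0, 5⟩)))) (.node 4 (.node 2 (.node 1 (.one ⟨9601, 1, 5⟩) (.one ⟨10896, 0, 3⟩)) (.node 1 (.one ⟨4422, 3, 5⟩) (.one ⟨3696, 3, 6⟩))) (.node 2 (.node 1 (.one ⟨516, 0, 5⟩) (.one ⟨7594, 2, 5⟩))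 (.node 1 (.one ⟨503, 0, 5⟩) (.one ⟨14226, 2, 4⟩))))) (.node 8 (.node 4 (.node 2 (.node 1 (.one ⟨6306, 1, 3⟩) (.one ⟨11696, 3, 3⟩)) (.node 1 (.one ⟨1117, 1, 6⟩) (.one ⟨10832, 3, 5⟩))) (.node 2 (.node 1 (.one ⟨3275, 1, 6⟩) (.one ⟨14440, 3, 5⟩)) (.node 1 (.one ⟨6817, 1, 4⟩) (.one ⟨7467, 3, 4⟩)))) (.node 4 (.node 2 (.node 1 (.one ⟨132, 1, 5⟩) (.one ⟨2549, 1, 5⟩)) (.node 1 (.one ⟨11473, 2, 5⟩) (.one ⟨10692, 1, 5⟩))) (.node 2 (.node 1 (.one ⟨6614, 0, 4⟩) (.one ⟨1822, 3, 3⟩)) (.node 1 (.one ⟨9898, 1, 5⟩) (.one ⟨2713, 0, 5⟩)))))))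
def par4_14_3 : Arr Par :=
  (.node 32 (.node 16 (.node 8 (.node 4 (.node 2 (.node 1 (.one ⟨6298, 3, 5⟩) (.one ⟨10664, 3, 6⟩)) (.node 1 (.one ⟨9455, 3, 6⟩) (.one ⟨7675, 3, 5⟩))) (.node 2 (.node 1 (.one ⟨8267, 3, 4⟩) (.one ⟨12037, 3, 3⟩)) (.node 1 (.one ⟨6883, 0, 4⟩) (.one ⟨74, 3, 4⟩)))) (.node 4 (.node 2 (.node 1 (.one ⟨15380, 3, 3⟩) (.one ⟨5030, 2, 5⟩)) (.node 1 (.one ⟨7264, 3, 4⟩) (.one ⟨7318, 1, 4⟩))) (.node 2 (.node 1 (.one ⟨15311, 3, 5⟩) (.one ⟨10715, 1, 3⟩)) (.node 1 (.one ⟨15042, 0, 5⟩) (.one ⟨2962, 0, 4⟩))))) (.node 8 (.node 4 (.node 2 (.node 1 (.one ⟨1258, 1, 4⟩) (.one ⟨11612, 1, 4⟩)) (.node 1 (.one ⟨9584, 2, 5⟩) (.one ⟨9919, 2, 4⟩))) (.node 2 (.node 1 (.one ⟨16360, 3, 5⟩) (.one ⟨16692, 1, 5⟩)) (.node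 1 (.one ⟨5528, 3, 5⟩) (.one ⟨7884, 2, 5⟩)))) (.node 4 (.node 2 (.node 1 (.one ⟨4087, 1, 6⟩) (.one ⟨1108, 1, 4⟩)) (.node 1 (.one ⟨4310, 1, 5⟩) (.one ⟨13801, 3, 4⟩))) (.node 2 (.node 1 (.one ⟨8617, 2, 4⟩) (.one ⟨16209, 2, 5⟩)) (.node 1 (.one ⟨4805, 2, 3⟩) (.one ⟨10680, 1, 4⟩)))))) (.node 16 (.node 8 (.node 4 (.node 2 (.node 1 (.one ⟨11424, 2, 5⟩) (.one ⟨6973, 0, 5⟩)) (.node 1 (.one ⟨2655, 3, 6⟩) (.one ⟨16924, 1, 4⟩))) (.node 2 (.node 1 (.one ⟨5364, 3, 5⟩) (.one ⟨16907, 1, 5⟩)) (.node 1 (.one ⟨10608, 3, 5⟩) (.one ⟨8834, 3, 3⟩)))) (.node 4 (.node 2 (.node 1 (.one ⟨1103, 1, 4⟩) (.one ⟨9878, 0, 4⟩)) (.node 1 (.one ⟨13912, 3, 5⟩) (.one ⟨1297, 3, 6⟩))) (.node 2 (.node 1 (.one ⟨13978, 3, 2⟩) (.one ⟨8770, 3, 4⟩)) (.node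 1 (.one ⟨11697, 2, 5⟩) (.one ⟨15893, 1, 4⟩))))) (.node 8 (.node 4 (.node 2 (.node 1 (.one ⟨164, 2, 6⟩) (.one ⟨7823, 3, 4⟩)) (.node 1 (.one ⟨13067, 2, 4⟩) (.one ⟨13071, 2, 6⟩))) (.node 2 (.node 1 (.one ⟨1300, 3, 5⟩) (.one ⟨7473, 0, 1⟩)) (.node 1 (.one ⟨7761, 3, 5⟩) (.one ⟨8185, 3, 4⟩)))) (.node 4 (.node 2 (.node 1 (.one ⟨7175, 0, 3⟩) (.one ⟨768, 1, 6⟩)) (.node 1 (.one ⟨15863, 3, 5⟩) (.one ⟨13301, 2, 2⟩))) (.node 2 (.node 1 (.one ⟨17197, 3, 5⟩) (.one ⟨6807, 2, 5⟩)) (.node 1 (.one ⟨935, 1, 3⟩) (.one ⟨11448, 2, 4⟩)))))))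
def par4_14_4 : Arr Par :=
  (.node 32 (.node 16 (.node 8 (.node 4 (.node 2 (.node 1 (.one ⟨7249, 0, 4⟩) (.one ⟨815, 3, 5⟩)) (.node 1 (.one ⟨3159, 1, 2⟩) (.one ⟨12072, 1, 4⟩))) (.node 2 (.node 1 (.one ⟨11734, 2, 4⟩) (.one ⟨13607, 3, 5⟩)) (.node 1 (.one ⟨10843, 3, 4⟩) (.one ⟨4376, 1, 0⟩)))) (.node 4 (.node 2 (.node 1 (.one ⟨2106, 1, 4⟩) (.one ⟨9431, 2, 4⟩)) (.node 1 (.one ⟨16977, 3, 4⟩) (.one ⟨8252, 2, 3⟩))) (.node 2 (.node 1 (.one ⟨11760, 3, 4⟩) (.one ⟨16338, 2, 4⟩)) (.node 1 (.one ⟨8256, 2, 3⟩) (.one ⟨7145, 2, 3⟩))))) (.node 8 (.node 4 (.node 2 (.node 1 (.one ⟨1581, 3, 4⟩) (.one ⟨7336, 3, 4⟩)) (.node 1 (.one ⟨7773, 3, 3⟩) (.one ⟨8125, 2, 5⟩))) (.node 2 (.node 1 (.one ⟨4621, 2, 5⟩) (.one ⟨2501, 2, 4⟩)) (.node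 1 (.one ⟨5184, 3, 4⟩) (.one ⟨15318, 2, 6⟩)))) (.node 4 (.node 2 (.node 1 (.one ⟨3025, 3, 4⟩) (.one ⟨9042, 1, 5⟩)) (.node 1 (.one ⟨13740, 3, 5⟩) (.one ⟨8480, 3, 5⟩))) (.node 2 (.node 1 (.one ⟨13433, 0, 3⟩) (.one ⟨10339, 1, 2⟩)) (.node 1 (.one ⟨15804, 3, 3⟩) (.one ⟨3102, 0, 4⟩)))))) (.node 16 (.node 8 (.node 4 (.node 2 (.node 1 (.one ⟨6658, 3, 5⟩) (.one ⟨1271, 2, 5⟩)) (.node 1 (.one ⟨6659, 3, 5⟩) (.one ⟨6657, 3, 6⟩))) (.node 2 (.node 1 (.one ⟨1409, 2, 5⟩) (.one ⟨6660, 3, 5⟩)) (.node 1 (.one ⟨3380, 3, 6⟩) (.one ⟨6929, 1, 2⟩)))) (.node 4 (.node 2 (.node 1 (.one ⟨11485, 0, 4⟩) (.one ⟨5706, 3, 5⟩)) (.node 1 (.one ⟨4092, 2, 5⟩) (.one ⟨517, 1, 4⟩))) (.node 2 (.node 1 (.one ⟨12858, 3, 5⟩) (.one ⟨14885, 2, 4⟩)) (.node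 1 (.one ⟨4710, 1, 2⟩) (.one ⟨12949, 3, 4⟩))))) (.node 8 (.node 4 (.node 2 (.node 1 (.one ⟨7092, 3, 5⟩) (.one ⟨2634, 3, 3⟩)) (.node 1 (.one ⟨4199, 2, 5⟩) (.one ⟨16272, 3, 5⟩))) (.node 2 (.node 1 (.one ⟨445, 3, 4⟩) (.one ⟨6988, 3, 3⟩)) (.node 1 (.one ⟨13478, 3, 5⟩) (.one ⟨7651, 0, 4⟩)))) (.node 4 (.node 2 (.node 1 (.one ⟨12156, 3, 2⟩) (.one ⟨14669, 3, 5⟩)) (.node 1 (.one ⟨11901, 3, 4⟩) (.one ⟨13426, 1, 6⟩))) (.node 2 (.node 1 (.one ⟨14587, 0, 3⟩) (.one ⟨9003, 3, 5⟩)) (.node 1 (.one ⟨2483, 3, 4⟩) (.one ⟨8333, 1, 3⟩)))))))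
def par4_14_5 : Arr Par :=
  (.node 32 (.node 16 (.node 8 (.node 4 (.node 2 (.node 1 (.one ⟨6606, 0, 3⟩) (.one ⟨15897, 0, 4⟩)) (.node 1 (.one ⟨269, 3, 5⟩) (.one ⟨12881, 0, 3⟩))) (.node 2 (.node 1 (.one ⟨969, 1, 4⟩) (.one ⟨14003, 1, 6⟩)) (.node 1 (.one ⟨5968, 2, 6⟩) (.one ⟨1120, 0, 3⟩)))) (.node 4 (.node 2 (.node 1 (.one ⟨13472, 3, 5⟩) (.one ⟨2165, 2, 4⟩)) (.node 1 (.one ⟨6887, 1, 5⟩) (.one ⟨14163, 3, 3⟩))) (.node 2 (.node 1 (.one ⟨2191, 0, 4⟩) (.one ⟨7860, 0, 4⟩)) (.node 1 (.one ⟨8760, 3, 4⟩) (.one ⟨14670, 1, 5⟩))))) (.node 8 (.node 4 (.node 2 (.node 1 (.one ⟨13317, 1, 4⟩) (.one ⟨14130, 0, 5⟩)) (.node 1 (.one ⟨11974, 3, 5⟩) (.one ⟨8579, 0, 5⟩))) (.node 2 (.node 1 (.one ⟨6681, 2, 4⟩) (.one ⟨5083, 0, 4⟩)) (.node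 1 (.one ⟨15692, 0, 5⟩) (.one ⟨12350, 1, 5⟩)))) (.node 4 (.node 2 (.node 1 (.one ⟨12741, 1, 5⟩) (.one ⟨5329, 3, 2⟩)) (.node 1 (.one ⟨9445, 3, 6⟩) (.one ⟨16399, 0, 5⟩))) (.node 2 (.node 1 (.one ⟨2162, 2, 5⟩) (.one ⟨10827, 1, 3⟩)) (.node 1 (.one ⟨10699, 1, 5⟩) (.one ⟨13474, 3, 5⟩)))))) (.node 16 (.node 8 (.node 4 (.node 2 (.node 1 (.one ⟨15144, 2, 4⟩) (.one ⟨9102, 3, 5⟩)) (.node 1 (.one ⟨12157, 3, 5⟩) (.one ⟨7537, 2, 5⟩))) (.node 2 (.node 1 (.one ⟨14025, 1, 4⟩) (.one ⟨5758, 2, 4⟩)) (.node 1 (.one ⟨3131, 2, 5⟩) (.one ⟨11776, 3, 4⟩)))) (.node 4 (.node 2 (.node 1 (.one ⟨7099, 3, 6⟩) (.one ⟨13509, 2, 4⟩)) (.node 1 (.one ⟨15945, 2, 4⟩) (.one ⟨3722, 3, 4⟩))) (.node 2 (.node 1 (.one ⟨2193, 2, 5⟩) (.one ⟨9182, 3, 5⟩))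 (.node 1 (.one ⟨423, 1, 4⟩) (.one ⟨12005, 0, 5⟩))))) (.node 8 (.node 4 (.node 2 (.node 1 (.one ⟨7189, 2, 5⟩) (.one ⟨14841, 0, 5⟩)) (.node 1 (.one ⟨5336, 1, 5⟩) (.one ⟨6307, 3, 3⟩))) (.node 2 (.node 1 (.one ⟨9016, 3, 5⟩) (.one ⟨2912, 2, 4⟩)) (.node 1 (.one ⟨2074, 3, 6⟩) (.one ⟨367, 2, 5⟩)))) (.node 4 (.node 2 (.node 1 (.one ⟨14157, 3, 4⟩) (.one ⟨8999, 0, 4⟩)) (.node 1 (.one ⟨15380, 0, 3⟩) (.one ⟨6056, 2, 5⟩))) (.node 2 (.node 1 (.one ⟨10757, 0, 4⟩) (.one ⟨5604, 3, 4⟩)) (.node 1 (.one ⟨5462, 1, 4⟩) (.one ⟨11004, 1, 5⟩)))))))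
def par4_14_6 : Arr Par :=
  (.node 32 (.node 16 (.node 8 (.node 4 (.node 2 (.node 1 (.one ⟨14356, 2, 5⟩) (.one ⟨6043, 3, 5⟩)) (.node 1 (.one ⟨718, 3, 5⟩) (.one ⟨12890, 3, 6⟩))) (.node 2 (.node 1 (.one ⟨7904, 2, 3⟩) (.one ⟨14844, 0, 4⟩)) (.node 1 (.one ⟨13212, 1, 5⟩) (.one ⟨1756, 1, 3⟩)))) (.node 4 (.node 2 (.node 1 (.one ⟨16134, 1, 3⟩) (.one ⟨6879, 1, 5⟩)) (.node 1 (.one ⟨12824, 1, 6⟩) (.one ⟨4338, 2, 5⟩))) (.node 2 (.node 1 (.one ⟨4342, 2, 5⟩) (.one ⟨10817, 3, 6⟩)) (.node 1 (.one ⟨2496, 3, 5⟩) (.one ⟨263, 3, 5⟩))))) (.node 8 (.node 4 (.node 2 (.node 1 (.one ⟨14387, 2, 3⟩) (.one ⟨16694, 0, 4⟩)) (.node 1 (.one ⟨10374, 2, 6⟩) (.one ⟨5490, 1, 5⟩))) (.node 2 (.node 1 (.one ⟨9360, 3, 4⟩) (.one ⟨8872, 0, 4⟩)) (.node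 1 (.one ⟨4276, 1, 4⟩) (.one ⟨7529, 2, 5⟩)))) (.node 4 (.node 2 (.node 1 (.one ⟨15176, 1, 4⟩) (.one ⟨9387, 3, 4⟩)) (.node 1 (.one ⟨7785, 2, 5⟩) (.one ⟨13596, 3, 4⟩))) (.node 2 (.node 1 (.one ⟨1712, 0, 4⟩) (.one ⟨10762, 0, 5⟩)) (.node 1 (.one ⟨13209, 2, 3⟩) (.one ⟨13188, 2, 5⟩)))))) (.node 16 (.node 8 (.node 4 (.node 2 (.node 1 (.one ⟨9592, 0, 4⟩) (.one ⟨9915, 2, 6⟩)) (.node 1 (.one ⟨8877, 0, 4⟩) (.one ⟨14040, 3, 4⟩))) (.node 2 (.node 1 (.one ⟨1724, 2, 5⟩) (.one ⟨10801, 2, 5⟩)) (.node 1 (.one ⟨5507, 2, 4⟩) (.one ⟨1983, 2, 2⟩)))) (.node 4 (.node 2 (.node 1 (.one ⟨749, 3, 4⟩) (.one ⟨838, 1, 3⟩)) (.node 1 (.one ⟨2791, 1, 4⟩) (.one ⟨863, 1, 4⟩))) (.node 2 (.node 1 (.one ⟨6546, 0, 4⟩) (.one ⟨12367, 3, 5⟩)) (.node 1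 (.one ⟨9659, 2, 4⟩) (.one ⟨9763, 2, 2⟩))))) (.node 8 (.node 4 (.node 2 (.node 1 (.one ⟨14171, 2, 4⟩) (.one ⟨11542, 2, 5⟩)) (.node 1 (.one ⟨14373, 3, 5⟩) (.one ⟨6171, 2, 5⟩))) (.node 2 (.node 1 (.one ⟨5007, 3, 5⟩) (.one ⟨680, 1, 3⟩)) (.node 1 (.one ⟨7796, 1, 4⟩) (.one ⟨3039, 3, 5⟩)))) (.node 4 (.node 2 (.node 1 (.one ⟨10406, 3, 6⟩) (.one ⟨12545, 3, 5⟩)) (.node 1 (.one ⟨15010, 2, 2⟩) (.one ⟨1744, 2, 5⟩))) (.node 2 (.node 1 (.one ⟨11176, 1, 5⟩) (.one ⟨9207, 2, 2⟩)) (.node 1 (.one ⟨16909, 0, 5⟩) (.one ⟨6299, 2, 4⟩)))))))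
def par4_14_7 : Arr Par :=
  (.node 32 (.node 16 (.node 8 (.node 4 (.node 2 (.node 1 (.one ⟨15192, 2, 6⟩) (.one ⟨17132, 2, 5⟩)) (.node 1 (.one ⟨281, 0, 5⟩) (.one ⟨15871, 3, 3⟩))) (.node 2 (.node 1 (.one ⟨3313, 2, 5⟩) (.one ⟨5433, 2, 4⟩)) (.node 1 (.one ⟨15875, 3, 5⟩) (.one ⟨11592, 3, 5⟩)))) (.node 4 (.node 2 (.node 1 (.one ⟨12007, 2, 5⟩) (.one ⟨12227, 2, 7⟩)) (.node 1 (.one ⟨519, 3, 3⟩) (.one ⟨14832, 1, 5⟩))) (.node 2 (.node 1 (.one ⟨6180, 3, 6⟩) (.one ⟨4912, 1, 2⟩)) (.node 1 (.one ⟨16636, 1, 2⟩) (.one ⟨11526, 0, 3⟩))))) (.node 8 (.node 4 (.node 2 (.node 1 (.one ⟨1093, 2, 4⟩) (.one ⟨2483, 0, 4⟩)) (.node 1 (.one ⟨3329, 3, 4⟩) (.one ⟨8690, 1, 3⟩))) (.node 2 (.node 1 (.one ⟨6651, 2, 5⟩) (.one ⟨227, 3, 6⟩)) (.node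 1 (.one ⟨10888, 2, 4⟩) (.one ⟨5762, 2, 4⟩)))) (.node 4 (.node 2 (.node 1 (.one ⟨17182, 3, 5⟩) (.one ⟨10468, 2, 5⟩)) (.node 1 (.one ⟨6930, 3, 7⟩) (.one ⟨8996, 2, 5⟩))) (.node 2 (.node 1 (.one ⟨13605, 3, 6⟩) (.one ⟨12042, 3, 5⟩)) (.node 1 (.one ⟨16933, 1, 3⟩) (.one ⟨4651, 1, 4⟩)))))) (.node 16 (.node 8 (.node 4 (.node 2 (.node 1 (.one ⟨16180, 1, 4⟩) (.one ⟨13589, 0, 5⟩)) (.node 1 (.one ⟨1433, 1, 5⟩) (.one ⟨4057, 3, 4⟩))) (.node 2 (.node 1 (.one ⟨6673, 3, 4⟩) (.one ⟨6950, 3, 6⟩)) (.node 1 (.one ⟨15204, 2, 2⟩) (.one ⟨10848, 0, 5⟩)))) (.node 4 (.node 2 (.node 1 (.one ⟨8456, 3, 5⟩) (.one ⟨5423, 3, 6⟩)) (.node 1 (.one ⟨6248, 2, 6⟩) (.one ⟨8455, 3, 5⟩))) (.node 2 (.node 1 (.one ⟨11664, 2, 7⟩) (.one ⟨1005, 1, 5⟩)) (.node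 1 (.one ⟨5426, 3, 6⟩) (.one ⟨10858, 2, 4⟩))))) (.node 8 (.node 4 (.node 2 (.node 1 (.one ⟨5766, 3, 4⟩) (.one ⟨15353, 1, 4⟩)) (.node 1 (.one ⟨12044, 2, 4⟩) (.one ⟨7854, 1, 5⟩))) (.node 2 (.node 1 (.one ⟨11099, 3, 6⟩) (.one ⟨13787, 3, 4⟩)) (.node 1 (.one ⟨959, 3, 3⟩) (.one ⟨17042, 3, 4⟩)))) (.node 4 (.node 2 (.node 1 (.one ⟨10431, 3, 6⟩) (.one ⟨1050, 2, 4⟩)) (.node 1 (.one ⟨9524, 1, 4⟩) (.one ⟨1052, 2, 5⟩))) (.node 2 (.node 1 (.one ⟨9286, 0, 3⟩) (.one ⟨16749, 3, 5⟩)) (.node 1 (.one ⟨12004, 2, 5⟩) (.one ⟨2532, 2, 6⟩)))))))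
def par4_14_8 : Arr Par :=
  (.node 32 (.node 16 (.node 8 (.node 4 (.node 2 (.node 1 (.one ⟨7149, 3, 6⟩) (.one ⟨16043, 2, 4⟩)) (.node 1 (.one ⟨12501, 3, 5⟩) (.one ⟨10041, 0, 5⟩))) (.node 2 (.node 1 (.one ⟨5686, 0, 4⟩) (.one ⟨539, 1, 5⟩)) (.node 1 (.one ⟨15200, 2, 3⟩) (.one ⟨1959, 3, 4⟩)))) (.node 4 (.node 2 (.node 1 (.one ⟨1557, 0, 4⟩) (.one ⟨12818, 0, 4⟩)) (.node 1 (.one ⟨1669, 0, 4⟩) (.one ⟨5424, 0, 4⟩))) (.node 2 (.node 1 (.one ⟨8732, 2, 3⟩) (.one ⟨3609, 2, 4⟩)) (.node 1 (.one ⟨12044, 1, 4⟩) (.one ⟨3774, 1, 3⟩))))) (.node 8 (.node 4 (.node 2 (.node 1 (.one ⟨12464, 1, 4⟩) (.one ⟨4541, 1, 4⟩)) (.node 1 (.one ⟨13106, 1, 4⟩) (.one ⟨11491, 1, 5⟩))) (.node 2 (.node 1 (.one ⟨7299, 3, 5⟩) (.one ⟨15395, 2, 3⟩)) (.node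 1 (.one ⟨7458, 2, 5⟩) (.one ⟨485, 1, 3⟩)))) (.node 4 (.node 2 (.node 1 (.one ⟨7879, 1, 6⟩) (.one ⟨14065, 3, 4⟩)) (.node 1 (.one ⟨11200, 3, 5⟩) (.one ⟨11312, 3, 5⟩))) (.node 2 (.node 1 (.one ⟨2151, 1, 3⟩) (.one ⟨1251, 0, 4⟩)) (.node 1 (.one ⟨7990, 2, 5⟩) (.one ⟨11031, 1, 4⟩)))))) (.node 16 (.node 8 (.node 4 (.node 2 (.node 1 (.one ⟨8065, 0, 3⟩) (.one ⟨6136, 1, 3⟩)) (.node 1 (.one ⟨6758, 1, 6⟩) (.one ⟨10394, 2, 3⟩))) (.node 2 (.node 1 (.one ⟨2151, 2, 3⟩) (.one ⟨8566, 1, 3⟩)) (.node 1 (.one ⟨6933, 3, 5⟩) (.one ⟨11557, 3, 4⟩)))) (.node 4 (.node 2 (.node 1 (.one ⟨4085, 3, 4⟩) (.one ⟨8795, 1, 4⟩)) (.node 1 (.one ⟨12464, 2, 4⟩) (.one ⟨4558, 3, 5⟩))) (.node 2 (.node 1 (.one ⟨9931, 3, 5⟩) (.one ⟨10800, 3, 5⟩)) (.node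 1 (.one ⟨3872, 0, 5⟩) (.one ⟨3595, 0, 4⟩))))) (.node 8 (.node 4 (.node 2 (.node 1 (.one ⟨7709, 0, 3⟩) (.one ⟨6497, 3, 6⟩)) (.node 1 (.one ⟨11045, 2, 5⟩) (.one ⟨6286, 3, 4⟩))) (.node 2 (.node 1 (.one ⟨5486, 2, 5⟩) (.one ⟨11765, 2, 3⟩)) (.node 1 (.one ⟨11469, 1, 4⟩) (.one ⟨15334, 2, 5⟩)))) (.node 4 (.node 2 (.node 1 (.one ⟨16945, 2, 5⟩) (.one ⟨6914, 0, 5⟩)) (.node 1 (.one ⟨17018, 1, 5⟩) (.one ⟨9696, 3, 4⟩))) (.node 2 (.node 1 (.one ⟨14296, 2, 4⟩) (.one ⟨11478, 1, 3⟩)) (.node 1 (.one ⟨11599, 3, 6⟩) (.one ⟨5631, 1, 5⟩)))))))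
def par4_14_9 : Arr Par :=
  (.node 32 (.node 16 (.node 8 (.node 4 (.node 2 (.node 1 (.one ⟨4410, 0, 3⟩) (.one ⟨10535, 1, 5⟩)) (.node 1 (.one ⟨3256, 2, 4⟩) (.one ⟨2050, 2, 3⟩))) (.node 2 (.node 1 (.one ⟨12779, 2, 5⟩) (.one ⟨8020, 3, 4⟩)) (.node 1 (.one ⟨6063, 1, 5⟩) (.one ⟨13301, 0, 2⟩)))) (.node 4 (.node 2 (.node 1 (.one ⟨10442, 1, 6⟩) (.one ⟨14622, 3, 4⟩)) (.node 1 (.one ⟨248, 2, 5⟩) (.one ⟨1502, 0, 3⟩))) (.node 2 (.node 1 (.one ⟨5625, 1, 5⟩) (.one ⟨2527, 1, 5⟩)) (.node 1 (.one ⟨8237, 3, 5⟩) (.one ⟨2620, 3, 4⟩))))) (.node 8 (.node 4 (.node 2 (.node 1 (.one ⟨12222, 3, 4⟩) (.one ⟨9078, 2, 5⟩)) (.node 1 (.one ⟨5999, 3, 5⟩) (.one ⟨13381, 0, 5⟩))) (.node 2 (.node 1 (.one ⟨8918, 3, 6⟩) (.one ⟨6536, 2, 4⟩)) (.node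 1 (.one ⟨10864, 3, 4⟩) (.one ⟨15791, 1, 4⟩)))) (.node 4 (.node 2 (.node 1 (.one ⟨6458, 1, 4⟩) (.one ⟨11648, 2, 4⟩)) (.node 1 (.one ⟨9212, 2, 4⟩) (.one ⟨7974, 1, 4⟩))) (.node 2 (.node 1 (.one ⟨7268, 2, 5⟩) (.one ⟨10285, 1, 6⟩)) (.node 1 (.one ⟨3112, 3, 5⟩) (.one ⟨4303, 2, 4⟩)))))) (.node 16 (.node 8 (.node 4 (.node 2 (.node 1 (.one ⟨8817, 1, 5⟩) (.one ⟨15724, 0, 4⟩)) (.node 1 (.one ⟨6550, 0, 3⟩) (.one ⟨12386, 0, 3⟩))) (.node 2 (.node 1 (.one ⟨11576, 3, 5⟩) (.one ⟨5276, 1, 4⟩)) (.node 1 (.one ⟨1897, 1, 4⟩) (.one ⟨15482, 3, 4⟩)))) (.node 4 (.node 2 (.node 1 (.one ⟨8217, 3, 5⟩) (.one ⟨10827, 2, 3⟩)) (.node 1 (.one ⟨9123, 3, 5⟩) (.one ⟨3315, 1, 5⟩))) (.node 2 (.node 1 (.one ⟨11850, 3, 2⟩) (.one ⟨1503, 3, 4⟩)) (.node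 1 (.one ⟨16075, 1, 6⟩) (.one ⟨8024, 3, 5⟩))))) (.node 8 (.node 4 (.node 2 (.node 1 (.one ⟨5391, 2, 5⟩) (.one ⟨8428, 3, 6⟩)) (.node 1 (.one ⟨7871, 1, 5⟩) (.one ⟨267, 3, 4⟩))) (.node 2 (.node 1 (.one ⟨6831, 3, 5⟩) (.one ⟨3044, 3, 2⟩)) (.node 1 (.one ⟨11345, 0, 5⟩) (.one ⟨2415, 3, 4⟩)))) (.node 4 (.node 2 (.node 1 (.one ⟨8699, 3, 5⟩) (.one ⟨13537, 3, 6⟩)) (.node 1 (.one ⟨13923, 3, 6⟩) (.one ⟨16428, 1, 4⟩))) (.node 2 (.node 1 (.one ⟨16214, 1, 5⟩) (.one ⟨12294, 3, 3⟩)) (.node 1 (.one ⟨6644, 2, 5⟩) (.one ⟨11811, 0, 5⟩)))))))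
def par4_14_10 : Arr Par :=
  (.node 32 (.node 16 (.node 8 (.node 4 (.node 2 (.node 1 (.one ⟨16580, 0, 4⟩) (.one ⟨17140, 0, 5⟩)) (.node 1 (.one ⟨12289, 3, 4⟩) (.one ⟨14763, 0, 5⟩))) (.node 2 (.node 1 (.one ⟨9176, 0, 2⟩) (.one ⟨15259, 3, 4⟩)) (.node 1 (.one ⟨15278, 0, 4⟩) (.one ⟨73, 3, 4⟩)))) (.node 4 (.node 2 (.node 1 (.one ⟨11128, 0, 5⟩) (.one ⟨4690, 2, 4⟩)) (.node 1 (.one ⟨13623, 1, 3⟩) (.one ⟨11372, 1, 5⟩))) (.node 2 (.node 1 (.one ⟨11314, 2, 3⟩) (.one ⟨4414, 2, 3⟩)) (.node 1 (.one ⟨1411, 3, 5⟩) (.one ⟨396, 2, 5⟩))))) (.node 8 (.node 4 (.node 2 (.node 1 (.one ⟨15438, 1, 5⟩) (.one ⟨4585, 2, 4⟩)) (.node 1 (.one ⟨4590, 2, 6⟩) (.one ⟨13979, 3, 2⟩))) (.node 2 (.node 1 (.one ⟨5885, 0, 5⟩) (.one ⟨1070, 3, 6⟩)) (.node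 1 (.one ⟨974, 2, 4⟩) (.one ⟨3990, 3, 5⟩)))) (.node 4 (.node 2 (.node 1 (.one ⟨2099, 3, 2⟩) (.one ⟨7860, 3, 4⟩)) (.node 1 (.one ⟨13601, 1, 6⟩) (.one ⟨8687, 3, 2⟩))) (.node 2 (.node 1 (.one ⟨7289, 3, 2⟩) (.one ⟨5882, 1, 4⟩)) (.node 1 (.one ⟨2927, 3, 4⟩) (.one ⟨15408, 2, 4⟩)))))) (.node 16 (.node 8 (.node 4 (.node 2 (.node 1 (.one ⟨16593, 2, 5⟩) (.one ⟨13196, 3, 4⟩)) (.node 1 (.one ⟨12556, 3, 1⟩) (.one ⟨11656, 1, 4⟩))) (.node 2 (.node 1 (.one ⟨16522, 0, 4⟩) (.one ⟨11729, 1, 4⟩)) (.node 1 (.one ⟨12128, 3, 1⟩) (.one ⟨13676, 3, 5⟩)))) (.node 4 (.node 2 (.node 1 (.one ⟨9118, 3, 3⟩) (.one ⟨6571, 2, 4⟩)) (.node 1 (.one ⟨15027, 2, 4⟩) (.one ⟨5602, 2, 4⟩))) (.node 2 (.node 1 (.one ⟨13392, 3, 4⟩) (.one ⟨8410, 2, 4⟩)) (.node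 1 (.one ⟨14610, 3, 4⟩) (.one ⟨10712, 2, 4⟩))))) (.node 8 (.node 4 (.node 2 (.node 1 (.one ⟨16516, 3, 4⟩) (.one ⟨7388, 2, 5⟩)) (.node 1 (.one ⟨14956, 2, 3⟩) (.one ⟨2578, 2, 3⟩))) (.node 2 (.node 1 (.one ⟨9847, 2, 4⟩) (.one ⟨15379, 2, 5⟩)) (.node 1 (.one ⟨6538, 1, 3⟩) (.one ⟨17017, 2, 5⟩)))) (.node 4 (.node 2 (.node 1 (.one ⟨3564, 1, 4⟩) (.one ⟨8628, 1, 6⟩)) (.node 1 (.one ⟨6332, 2, 4⟩) (.one ⟨6138, 3, 4⟩))) (.node 2 (.node 1 (.one ⟨1183, 3, 4⟩) (.one ⟨5179, 3, 3⟩)) (.node 1 (.one ⟨3410, 2, 4⟩) (.one ⟨5439, 1, 5⟩)))))))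
def par4_14_11 : Arr Par :=
  (.node 32 (.node 16 (.node 8 (.node 4 (.node 2 (.node 1 (.one ⟨4982, 1, 2⟩) (.one ⟨12010, 2, 1⟩)) (.node 1 (.one ⟨13965, 0, 4⟩) (.one ⟨12126, 3, 6⟩))) (.node 2 (.node 1 (.one ⟨3211, 1, 4⟩) (.one ⟨1981, 2, 5⟩)) (.node 1 (.one ⟨9774, 1, 4⟩) (.one ⟨9931, 2, 5⟩)))) (.node 4 (.node 2 (.node 1 (.one ⟨15104, 1, 5⟩) (.one ⟨625, 1, 5⟩)) (.node 1 (.one ⟨12074, 0, 5⟩) (.one ⟨14946, 3, 4⟩))) (.node 2 (.node 1 (.one ⟨14781, 0, 3⟩) (.one ⟨15105, 1, 5⟩)) (.node 1 (.one ⟨7546, 2, 3⟩) (.one ⟨7272, 3, 5⟩))))) (.node 8 (.node 4 (.node 2 (.node 1 (.one ⟨11365, 1, 4⟩) (.one ⟨1850, 2, 4⟩)) (.node 1 (.one ⟨7276, 3, 5⟩) (.one ⟨16076, 2, 4⟩))) (.node 2 (.node 1 (.one ⟨15825, 2, 6⟩) (.one ⟨7271, 3, 3⟩))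 (.node 1 (.one ⟨7069, 0, 3⟩) (.one ⟨11076, 2, 5⟩)))) (.node 4 (.node 2 (.node 1 (.one ⟨8478, 2, 4⟩) (.one ⟨5679, 3, 5⟩)) (.node 1 (.one ⟨278, 3, 6⟩) (.one ⟨14639, 3, 5⟩))) (.node 2 (.node 1 (.one ⟨15437, 2, 2⟩) (.one ⟨5768, 1, 5⟩)) (.node 1 (.one ⟨6606, 3, 3⟩) (.one ⟨6063, 3, 5⟩)))))) (.node 16 (.node 8 (.node 4 (.node 2 (.node 1 (.one ⟨11346, 2, 5⟩) (.one ⟨14194, 1, 4⟩)) (.node 1 (.one ⟨5191, 1, 5⟩) (.one ⟨11961, 1, 4⟩))) (.node 2 (.node 1 (.one ⟨6856, 1, 4⟩) (.one ⟨12249, 1, 4⟩)) (.node 1 (.one ⟨14852, 0, 5⟩) (.one ⟨4933, 3, 4⟩)))) (.node 4 (.node 2 (.node 1 (.one ⟨2486, 3, 5⟩) (.one ⟨2309, 2, 4⟩)) (.node 1 (.one ⟨13337, 0, 5⟩) (.one ⟨7951, 2, 5⟩))) (.node 2 (.node 1 (.one ⟨3971, 0, 5⟩) (.one ⟨732, 3, 5⟩))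 (.node 1 (.one ⟨5119, 3, 6⟩) (.one ⟨14076, 2, 5⟩))))) (.node 8 (.node 4 (.node 2 (.node 1 (.one ⟨9089, 3, 5⟩) (.one ⟨10385, 2, 6⟩)) (.node 1 (.one ⟨6406, 2, 4⟩) (.one ⟨3957, 0, 5⟩))) (.node 2 (.node 1 (.one ⟨1922, 0, 3⟩) (.one ⟨11067, 2, 4⟩)) (.node 1 (.one ⟨12376, 3, 4⟩) (.one ⟨12025, 0, 4⟩)))) (.node 4 (.node 2 (.node 1 (.one ⟨12023, 0, 3⟩) (.one ⟨1191, 2, 1⟩)) (.node 1 (.one ⟨14655, 2, 4⟩) (.one ⟨850, 0, 3⟩))) (.node 2 (.node 1 (.one ⟨1979, 3, 6⟩) (.one ⟨4011, 1, 4⟩)) (.node 1 (.one ⟨8236, 3, 3⟩) (.one ⟨6763, 0, 5⟩)))))))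
def par4_14_12 : Arr Par :=
  (.node 32 (.node 16 (.node 8 (.node 4 (.node 2 (.node 1 (.one ⟨4014, 2, 4⟩) (.one ⟨9087, 2, 4⟩)) (.node 1 (.one ⟨7150, 3, 5⟩) (.one ⟨6472, 2, 5⟩))) (.node 2 (.node 1 (.one ⟨7335, 3, 5⟩) (.one ⟨1647, 3, 3⟩)) (.node 1 (.one ⟨6292, 1, 4⟩) (.one ⟨13587, 3, 4⟩)))) (.node 4 (.node 2 (.node 1 (.one ⟨3331, 2, 4⟩) (.one ⟨6954, 1, 5⟩)) (.node 1 (.one ⟨16043, 1, 4⟩) (.one ⟨12994, 1, 4⟩))) (.node 2 (.node 1 (.one ⟨15204, 0, 2⟩) (.one ⟨1098, 1, 4⟩)) (.node 1 (.one ⟨12778, 1, 2⟩) (.one ⟨14387, 3, 3⟩))))) (.node 8 (.node 4 (.node 2 (.node 1 (.one ⟨1821, 2, 5⟩) (.one ⟨8954, 2, 4⟩)) (.node 1 (.one ⟨13867, 3, 4⟩) (.one ⟨12284, 2, 4⟩))) (.node 2 (.node 1 (.one ⟨12543, 2, 6⟩) (.one ⟨5153, 3, 5⟩)) (.node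 1 (.one ⟨14896, 2, 4⟩) (.one ⟨16628, 3, 5⟩)))) (.node 4 (.node 2 (.node 1 (.one ⟨14465, 0, 3⟩) (.one ⟨16891, 0, 5⟩)) (.node 1 (.one ⟨10780, 2, 2⟩) (.one ⟨6122, 3, 4⟩))) (.node 2 (.node 1 (.one ⟨12871, 3, 5⟩) (.one ⟨6812, 2, 5⟩)) (.node 1 (.one ⟨12072, 0, 4⟩) (.one ⟨2104, 2, 4⟩)))))) (.node 16 (.node 8 (.node 4 (.node 2 (.node 1 (.one ⟨11809, 1, 6⟩) (.one ⟨11785, 0, 6⟩)) (.node 1 (.one ⟨2933, 0, 4⟩) (.one ⟨1776, 2, 1⟩))) (.node 2 (.node 1 (.one ⟨13497, 3, 5⟩) (.one ⟨15799, 3, 6⟩)) (.node 1 (.one ⟨7872, 2, 4⟩) (.one ⟨15621, 1, 5⟩)))) (.node 4 (.node 2 (.node 1 (.one ⟨15750, 0, 3⟩) (.one ⟨213, 0, 5⟩)) (.node 1 (.one ⟨14323, 1, 6⟩) (.one ⟨16282, 0, 4⟩))) (.node 2 (.node 1 (.one ⟨10214, 1, 5⟩) (.one ⟨10844, 1, 4⟩))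 (.node 1 (.one ⟨2544, 1, 3⟩) (.one ⟨3860, 2, 5⟩))))) (.node 8 (.node 4 (.node 2 (.node 1 (.one ⟨12429, 3, 3⟩) (.one ⟨2304, 2, 5⟩)) (.node 1 (.one ⟨8507, 3, 4⟩) (.one ⟨817, 2, 4⟩))) (.node 2 (.node 1 (.one ⟨3512, 3, 4⟩) (.one ⟨4498, 2, 3⟩)) (.node 1 (.one ⟨11942, 2, 5⟩) (.one ⟨7492, 2, 5⟩)))) (.node 4 (.node 2 (.node 1 (.one ⟨7913, 2, 4⟩) (.one ⟨3861, 2, 5⟩)) (.node 1 (.one ⟨13022, 3, 5⟩) (.one ⟨9987, 3, 5⟩))) (.node 2 (.node 1 (.one ⟨13700, 1, 4⟩) (.one ⟨5929, 2, 4⟩)) (.node 1 (.one ⟨8934, 2, 4⟩) (.one ⟨2019, 3, 4⟩)))))))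
def par4_14_13 : Arr Par :=
  (.node 32 (.node 16 (.node 8 (.node 4 (.node 2 (.node 1 (.one ⟨15090, 1, 5⟩) (.one ⟨14370, 3, 5⟩)) (.node 1 (.one ⟨6536, 1, 4⟩) (.one ⟨10927, 3, 5⟩))) (.node 2 (.node 1 (.one ⟨7970, 2, 5⟩) (.one ⟨2813, 2, 4⟩)) (.node 1 (.one ⟨9078, 1, 5⟩) (.one ⟨13812, 3, 5⟩)))) (.node 4 (.node 2 (.node 1 (.one ⟨2442, 1, 3⟩) (.one ⟨2736, 2, 5⟩)) (.node 1 (.one ⟨652, 3, 4⟩) (.one ⟨14342, 3, 4⟩))) (.node 2 (.node 1 (.one ⟨2735, 2, 4⟩) (.one ⟨2742, 2, 5⟩)) (.node 1 (.one ⟨2358, 3, 5⟩) (.one ⟨2793, 2, 6⟩))))) (.node 8 (.node 4 (.node 2 (.node 1 (.one ⟨6241, 2, 4⟩) (.one ⟨391, 1, 4⟩)) (.node 1 (.one ⟨7084, 2, 6⟩) (.one ⟨4752, 3, 4⟩))) (.node 2 (.node 1 (.one ⟨2373, 3, 3⟩) (.one ⟨4695, 2, 2⟩)) (.node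 1 (.one ⟨13517, 3, 5⟩) (.one ⟨4854, 3, 4⟩)))) (.node 4 (.node 2 (.node 1 (.one ⟨2851, 2, 5⟩) (.one ⟨14214, 2, 4⟩)) (.node 1 (.one ⟨9073, 2, 4⟩) (.one ⟨11626, 2, 5⟩))) (.node 2 (.node 1 (.one ⟨13516, 3, 5⟩) (.one ⟨8308, 1, 4⟩)) (.node 1 (.one ⟨8650, 2, 5⟩) (.one ⟨3631, 1, 3⟩)))))) (.node 16 (.node 8 (.node 4 (.node 2 (.node 1 (.one ⟨9546, 3, 2⟩) (.one ⟨6145, 3, 4⟩)) (.node 1 (.one ⟨9911, 3, 3⟩) (.one ⟨4014, 1, 4⟩))) (.node 2 (.node 1 (.one ⟨5649, 3, 1⟩) (.one ⟨10040, 3, 5⟩)) (.node 1 (.one ⟨14405, 1, 4⟩) (.one ⟨13562, 3, 5⟩)))) (.node 4 (.node 2 (.node 1 (.one ⟨10677, 3, 3⟩) (.one ⟨6281, 2, 5⟩)) (.node 1 (.one ⟨15768, 2, 5⟩) (.one ⟨1388, 2, 6⟩))) (.node 2 (.node 1 (.one ⟨13739, 1, 5⟩) (.one ⟨516, 1, 5⟩)) (.node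 1 (.one ⟨5950, 3, 5⟩) (.one ⟨14929, 1, 6⟩))))) (.node 8 (.node 4 (.node 2 (.node 1 (.one ⟨11059, 0, 4⟩) (.one ⟨7651, 3, 4⟩)) (.node 1 (.one ⟨3313, 3, 5⟩) (.one ⟨6937, 0, 6⟩))) (.node 2 (.node 1 (.one ⟨3770, 3, 6⟩) (.one ⟨8743, 3, 5⟩)) (.node 1 (.one ⟨2548, 3, 3⟩) (.one ⟨15309, 3, 6⟩)))) (.node 4 (.node 2 (.node 1 (.one ⟨1149, 2, 5⟩) (.one ⟨9411, 2, 4⟩)) (.node 1 (.one ⟨14781, 1, 3⟩) (.one ⟨12325, 0, 4⟩))) (.node 2 (.node 1 (.one ⟨7455, 1, 6⟩) (.one ⟨14896, 0, 4⟩)) (.node 1 (.one ⟨8222, 1, 6⟩) (.one ⟨9049, 3, 4⟩)))))))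
def par4_14_14 : Arr Par :=
  (.node 32 (.node 16 (.node 8 (.node 4 (.node 2 (.node 1 (.one ⟨14912, 2, 4⟩) (.one ⟨4011, 2, 4⟩)) (.node 1 (.one ⟨4896, 3, 5⟩) (.one ⟨11391, 1, 5⟩))) (.node 2 (.node 1 (.one ⟨13054, 2, 6⟩) (.one ⟨4902, 3, 4⟩)) (.node 1 (.one ⟨4901, 3, 6⟩) (.one ⟨5291, 1, 5⟩)))) (.node 4 (.node 2 (.node 1 (.one ⟨15561, 2, 5⟩) (.one ⟨10757, 1, 4⟩)) (.node 1 (.one ⟨16338, 1, 4⟩) (.one ⟨10128, 1, 2⟩))) (.node 2 (.node 1 (.one ⟨4081, 3, 5⟩) (.one ⟨16871, 2, 4⟩)) (.node 1 (.one ⟨6675, 1, 5⟩) (.one ⟨7025, 3, 3⟩))))) (.node 8 (.node 4 (.node 2 (.node 1 (.one ⟨16113, 3, 3⟩) (.one ⟨13063, 3, 5⟩)) (.node 1 (.one ⟨1928, 3, 3⟩) (.one ⟨2832, 3, 3⟩))) (.node 2 (.node 1 (.one ⟨11675, 3, 6⟩) (.one ⟨16549, 3, 5⟩))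 (.node 1 (.one ⟨8770, 2, 4⟩) (.one ⟨3373, 3, 5⟩)))) (.node 4 (.node 2 (.node 1 (.one ⟨841, 2, 6⟩) (.one ⟨774, 3, 5⟩)) (.node 1 (.one ⟨13611, 1, 5⟩) (.one ⟨11900, 0, 3⟩))) (.node 2 (.node 1 (.one ⟨4126, 3, 3⟩) (.one ⟨16553, 3, 6⟩)) (.node 1 (.one ⟨4701, 3, 5⟩) (.one ⟨4649, 3, 5⟩)))))) (.node 16 (.node 8 (.node 4 (.node 2 (.node 1 (.one ⟨7251, 1, 6⟩) (.one ⟨8992, 1, 5⟩)) (.node 1 (.one ⟨2089, 1, 4⟩) (.one ⟨13096, 3, 6⟩))) (.node 2 (.node 1 (.one ⟨10184, 1, 2⟩) (.one ⟨1050, 3, 4⟩)) (.node 1 (.one ⟨1456, 3, 5⟩) (.one ⟨3599, 1, 2⟩)))) (.node 4 (.node 2 (.node 1 (.one ⟨3508, 3, 3⟩) (.one ⟨13213, 1, 4⟩)) (.node 1 (.one ⟨13873, 2, 5⟩) (.one ⟨14375, 1, 4⟩))) (.node 2 (.node 1 (.one ⟨8452, 1, 2⟩) (.one ⟨6809, 1, 4⟩))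 (.node 1 (.one ⟨13824, 2, 3⟩) (.one ⟨8451, 2, 5⟩))))) (.node 8 (.node 4 (.node 2 (.node 1 (.one ⟨13746, 0, 4⟩) (.one ⟨15096, 3, 4⟩)) (.node 1 (.one ⟨7152, 1, 4⟩) (.one ⟨14309, 3, 4⟩))) (.node 2 (.node 1 (.one ⟨1059, 3, 6⟩) (.one ⟨7151, 1, 4⟩)) (.node 1 (.one ⟨1195, 2, 2⟩) (.one ⟨16499, 0, 5⟩)))) (.node 4 (.node 2 (.node 1 (.one ⟨5642, 2, 4⟩) (.one ⟨15326, 0, 4⟩)) (.node 1 (.one ⟨7952, 3, 6⟩) (.one ⟨6879, 3, 5⟩))) (.node 2 (.node 1 (.one ⟨7175, 1, 3⟩) (.one ⟨12803, 3, 4⟩)) (.node 1 (.one ⟨6787, 1, 5⟩) (.one ⟨12802, 0, 6⟩)))))))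
def par4_14_15 : Arr Par :=
  (.node 32 (.node 16 (.node 8 (.node 4 (.node 2 (.node 1 (.one ⟨3678, 3, 5⟩) (.one ⟨10421, 3, 3⟩)) (.node 1 (.one ⟨8466, 2, 4⟩) (.one ⟨10470, 3, 5⟩))) (.node 2 (.node 1 (.one ⟨7342, 1, 6⟩) (.one ⟨4300, 1, 6⟩)) (.node 1 (.one ⟨14965, 0, 3⟩) (.one ⟨3919, 3, 4⟩)))) (.node 4 (.node 2 (.node 1 (.one ⟨16909, 2, 5⟩) (.one ⟨6604, 0, 5⟩)) (.node 1 (.one ⟨1498, 3, 3⟩) (.one ⟨9627, 2, 5⟩))) (.node 2 (.node 1 (.one ⟨4802, 3, 4⟩) (.one ⟨16058, 1, 5⟩)) (.node 1 (.one ⟨4830, 3, 4⟩) (.one ⟨8001, 2, 4⟩))))) (.node 8 (.node 4 (.node 2 (.node 1 (.one ⟨12073, 3, 4⟩) (.one ⟨1718, 3, 4⟩)) (.node 1 (.one ⟨13345, 2, 5⟩) (.one ⟨10736, 2, 5⟩))) (.node 2 (.node 1 (.one ⟨11386, 1, 6⟩) (.one ⟨5997, 1, 5⟩)) (.node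 1 (.one ⟨6779, 2, 5⟩) (.one ⟨5821, 2, 4⟩)))) (.node 4 (.node 2 (.node 1 (.one ⟨3814, 2, 5⟩) (.one ⟨4099, 3, 6⟩)) (.node 1 (.one ⟨9983, 0, 5⟩) (.one ⟨8895, 2, 4⟩))) (.node 2 (.node 1 (.one ⟨5600, 1, 3⟩) (.one ⟨13154, 3, 4⟩)) (.node 1 (.one ⟨10997, 3, 3⟩) (.one ⟨16433, 0, 6⟩)))))) (.node 16 (.node 8 (.node 4 (.node 2 (.node 1 (.one ⟨8996, 3, 5⟩) (.one ⟨6783, 1, 2⟩)) (.node 1 (.one ⟨2388, 1, 3⟩) (.one ⟨5558, 3, 4⟩))) (.node 2 (.node 1 (.one ⟨7246, 0, 5⟩) (.one ⟨16253, 0, 3⟩)) (.node 1 (.one ⟨1296, 2, 4⟩) (.one ⟨3484, 3, 4⟩)))) (.node 4 (.node 2 (.node 1 (.one ⟨13067, 1, 4⟩) (.one ⟨9707, 2, 6⟩)) (.node 1 (.one ⟨9703, 2, 4⟩) (.one ⟨9704, 2, 4⟩))) (.node 2 (.node 1 (.one ⟨13693, 1, 4⟩) (.one ⟨864, 2, 3⟩)) (.node 1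 (.one ⟨378, 2, 3⟩) (.one ⟨11634, 2, 3⟩))))) (.node 8 (.node 4 (.node 2 (.node 1 (.one ⟨2212, 3, 4⟩) (.one ⟨7858, 2, 5⟩)) (.node 1 (.one ⟨2292, 1, 6⟩) (.one ⟨14394, 0, 4⟩))) (.node 2 (.node 1 (.one ⟨1626, 3, 6⟩) (.one ⟨5597, 2, 4⟩)) (.node 1 (.one ⟨13521, 1, 3⟩) (.one ⟨15811, 3, 5⟩)))) (.node 4 (.node 2 (.node 1 (.one ⟨4356, 1, 2⟩) (.one ⟨10773, 3, 3⟩)) (.node 1 (.one ⟨6891, 1, 4⟩) (.one ⟨11264, 3, 4⟩))) (.node 2 (.node 1 (.one ⟨14361, 1, 6⟩) (.one ⟨16682, 3, 5⟩)) (.node 1 (.one ⟨11936, 2, 5⟩) (.one ⟨17024, 1, 5⟩)))))))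
def par4_14 : Arr Par :=
  (.node 512 (.node 256 (.node 128 (.node 64 par4_14_0 par4_14_1) (.node 64 par4_14_2 par4_14_3)) (.node 128 (.node 64 par4_14_4 par4_14_5) (.node 64 par4_14_6 par4_14_7))) (.node 256 (.node 128 (.node 64 par4_14_8 par4_14_9) (.node 64 par4_14_10 par4_14_11)) (.node 128 (.node 64 par4_14_12 par4_14_13) (.node 64 par4_14_14 par4_14_15))))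
def par4_15_0 : Arr Par :=
  (.node 32 (.node 16 (.node 8 (.node 4 (.node 2 (.node 1 (.one ⟨3315, 3, 5⟩) (.one ⟨803, 2, 4⟩)) (.node 1 (.one ⟨14522, 0, 6⟩) (.one ⟨6783, 3, 2⟩))) (.node 2 (.node 1 (.one ⟨6414, 0, 4⟩) (.one ⟨11519, 3, 3⟩)) (.node 1 (.one ⟨7093, 1, 5⟩) (.one ⟨13378, 3, 5⟩)))) (.node 4 (.node 2 (.node 1 (.one ⟨2197, 2, 5⟩) (.one ⟨17076, 2, 5⟩)) (.node 1 (.one ⟨339, 0, 6⟩) (.one ⟨10046, 2, 5⟩))) (.node 2 (.node 1 (.one ⟨9253, 3, 4⟩) (.one ⟨549, 1, 5⟩)) (.node 1 (.one ⟨5965, 0, 4⟩) (.one ⟨10661, 3, 6⟩))))) (.node 8 (.node 4 (.node 2 (.node 1 (.one ⟨16356, 0, 5⟩) (.one ⟨16520, 1, 5⟩)) (.node 1 (.one ⟨9838, 3, 5⟩) (.one ⟨15638, 3, 4⟩))) (.node 2 (.node 1 (.one ⟨15097, 2, 2⟩) (.one ⟨11422, 3, 5⟩)) (.node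 1 (.one ⟨16556, 0, 5⟩) (.one ⟨11025, 3, 5⟩)))) (.node 4 (.node 2 (.node 1 (.one ⟨3667, 3, 4⟩) (.one ⟨770, 3, 4⟩)) (.node 1 (.one ⟨6542, 2, 3⟩) (.one ⟨1812, 2, 5⟩))) (.node 2 (.node 1 (.one ⟨13067, 0, 4⟩) (.one ⟨10768, 3, 5⟩)) (.node 1 (.one ⟨8221, 2, 5⟩) (.one ⟨5157, 3, 4⟩)))))) (.node 16 (.node 8 (.node 4 (.node 2 (.node 1 (.one ⟨8915, 0, 5⟩) (.one ⟨2487, 3, 4⟩)) (.node 1 (.one ⟨8392, 1, 5⟩) (.one ⟨3627, 2, 2⟩))) (.node 2 (.node 1 (.one ⟨4309, 2, 5⟩) (.one ⟨8653, 2, 2⟩)) (.node 1 (.one ⟨8869, 2, 5⟩) (.one ⟨5379, 3, 5⟩)))) (.node 4 (.node 2 (.node 1 (.one ⟨12772, 0, 3⟩) (.one ⟨16879, 2, 6⟩)) (.node 1 (.one ⟨14284, 2, 3⟩) (.one ⟨2316, 2, 4⟩))) (.node 2 (.node 1 (.one ⟨6921, 0, 3⟩) (.one ⟨12666, 2, 6⟩)) (.node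 1 (.one ⟨8747, 1, 6⟩) (.one ⟨9919, 1, 4⟩))))) (.node 8 (.node 4 (.node 2 (.node 1 (.one ⟨9586, 1, 3⟩) (.one ⟨15628, 3, 5⟩)) (.node 1 (.one ⟨12318, 3, 5⟩) (.one ⟨1282, 0, 3⟩))) (.node 2 (.node 1 (.one ⟨779, 2, 5⟩) (.one ⟨11326, 2, 4⟩)) (.node 1 (.one ⟨11325, 2, 5⟩) (.one ⟨15179, 1, 5⟩)))) (.node 4 (.node 2 (.node 1 (.one ⟨12962, 0, 6⟩) (.one ⟨6975, 3, 3⟩)) (.node 1 (.one ⟨12767, 3, 4⟩) (.one ⟨11104, 2, 4⟩))) (.node 2 (.node 1 (.one ⟨8096, 3, 6⟩) (.one ⟨10850, 2, 5⟩)) (.node 1 (.one ⟨16620, 3, 5⟩) (.one ⟨3693, 2, 5⟩)))))))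
def par4_15_1 : Arr Par :=
  (.node 32 (.node 16 (.node 8 (.node 4 (.node 2 (.node 1 (.one ⟨5178, 1, 3⟩) (.one ⟨10298, 2, 5⟩)) (.node 1 (.one ⟨8138, 1, 3⟩) (.one ⟨7637, 3, 5⟩))) (.node 2 (.node 1 (.one ⟨812, 3, 3⟩) (.one ⟨5388, 1, 3⟩)) (.node 1 (.one ⟨15332, 3, 6⟩) (.one ⟨8138, 0, 3⟩)))) (.node 4 (.node 2 (.node 1 (.one ⟨8142, 0, 3⟩) (.one ⟨15402, 1, 4⟩)) (.node 1 (.one ⟨11233, 2, 4⟩) (.one ⟨16833, 3, 3⟩))) (.node 2 (.node 1 (.one ⟨284, 0, 4⟩) (.one ⟨9605, 2, 1⟩)) (.node 1 (.one ⟨4264, 3, 4⟩) (.one ⟨25, 3, 4⟩))))) (.node 8 (.node 4 (.node 2 (.node 1 (.one ⟨3892, 2, 6⟩) (.one ⟨3695, 1, 5⟩)) (.node 1 (.one ⟨564, 3, 5⟩) (.one ⟨304, 3, 6⟩))) (.node 2 (.node 1 (.one ⟨11982, 1, 4⟩) (.one ⟨2545, 1, 3⟩)) (.node 1 (.one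 ⟨3130, 0, 3⟩) (.one ⟨2992, 1, 4⟩)))) (.node 4 (.node 2 (.node 1 (.one ⟨14212, 1, 4⟩) (.one ⟨14976, 0, 5⟩)) (.node 1 (.one ⟨6504, 0, 5⟩) (.one ⟨6486, 2, 5⟩))) (.node 2 (.node 1 (.one ⟨3036, 2, 5⟩) (.one ⟨10682, 2, 5⟩)) (.node 1 (.one ⟨15130, 3, 3⟩) (.one ⟨3283, 1, 4⟩)))))) (.node 16 (.node 8 (.node 4 (.node 2 (.node 1 (.one ⟨5153, 0, 5⟩) (.one ⟨969, 3, 4⟩)) (.node 1 (.one ⟨12555, 2, 5⟩) (.one ⟨2979, 2, 5⟩))) (.node 2 (.node 1 (.one ⟨13701, 2, 4⟩) (.one ⟨8386, 2, 6⟩)) (.node 1 (.one ⟨9406, 3, 5⟩) (.one ⟨10317, 3, 4⟩)))) (.node 4 (.node 2 (.node 1 (.one ⟨9583, 1, 4⟩) (.one ⟨7886, 0, 5⟩)) (.node 1 (.one ⟨14649, 2, 6⟩) (.one ⟨13346, 2, 3⟩))) (.node 2 (.node 1 (.one ⟨11955, 1, 4⟩) (.one ⟨15292, 2, 4⟩)) (.node 1 (.one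 ⟨2686, 3, 4⟩) (.one ⟨10621, 0, 5⟩))))) (.node 8 (.node 4 (.node 2 (.node 1 (.one ⟨6899, 0, 4⟩) (.one ⟨15848, 3, 4⟩)) (.node 1 (.one ⟨10787, 0, 4⟩) (.one ⟨15297, 0, 4⟩))) (.node 2 (.node 1 (.one ⟨1145, 0, 5⟩) (.one ⟨2439, 3, 5⟩)) (.node 1 (.one ⟨11709, 3, 5⟩) (.one ⟨10813, 3, 5⟩)))) (.node 4 (.node 2 (.node 1 (.one ⟨4111, 0, 4⟩) (.one ⟨3352, 0, 4⟩)) (.node 1 (.one ⟨12085, 3, 3⟩) (.one ⟨4370, 3, 4⟩))) (.node 2 (.node 1 (.one ⟨2559, 2, 3⟩) (.one ⟨13965, 3, 4⟩)) (.node 1 (.one ⟨7913, 0, 4⟩) (.one ⟨14421, 3, 3⟩)))))))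
def par4_15_2 : Arr Par :=
  (.node 32 (.node 16 (.node 8 (.node 4 (.node 2 (.node 1 (.one ⟨10586, 2, 5⟩) (.one ⟨5722, 2, 6⟩)) (.node 1 (.one ⟨8237, 0, 5⟩) (.one ⟨14442, 2, 6⟩))) (.node 2 (.node 1 (.one ⟨6026, 2, 5⟩) (.one ⟨4795, 0, 4⟩)) (.node 1 (.one ⟨11426, 0, 4⟩) (.one ⟨9670, 3, 5⟩)))) (.node 4 (.node 2 (.node 1 (.one ⟨4832, 1, 0⟩) (.one ⟨15289, 2, 5⟩)) (.node 1 (.one ⟨5807, 2, 4⟩) (.one ⟨7415, 1, 6⟩))) (.node 2 (.node 1 (.one ⟨15501, 0, 5⟩) (.one ⟨15525, 0, 4⟩)) (.node 1 (.one ⟨3888, 2, 5⟩) (.one ⟨6908, 1, 4⟩))))) (.node 8 (.node 4 (.node 2 (.node 1 (.one ⟨13293, 0, 5⟩) (.one ⟨7287, 2, 4⟩)) (.node 1 (.one ⟨6355, 0, 4⟩) (.one ⟨497, 1, 3⟩))) (.node 2 (.node 1 (.one ⟨7882, 1, 4⟩) (.one ⟨4595, 0, 4⟩)) (.node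 1 (.one ⟨6276, 0, 4⟩) (.one ⟨11131, 1, 5⟩)))) (.node 4 (.node 2 (.node 1 (.one ⟨1235, 1, 2⟩) (.one ⟨14578, 2, 5⟩)) (.node 1 (.one ⟨1632, 2, 3⟩) (.one ⟨3410, 0, 4⟩))) (.node 2 (.node 1 (.one ⟨11848, 1, 4⟩) (.one ⟨2224, 1, 3⟩)) (.node 1 (.one ⟨6134, 3, 5⟩) (.one ⟨15871, 2, 3⟩)))))) (.node 16 (.node 8 (.node 4 (.node 2 (.node 1 (.one ⟨5191, 0, 5⟩) (.one ⟨15684, 0, 5⟩)) (.node 1 (.one ⟨13584, 2, 6⟩) (.one ⟨15669, 0, 5⟩))) (.node 2 (.node 1 (.one ⟨3749, 2, 5⟩) (.one ⟨8868, 2, 3⟩)) (.node 1 (.one ⟨1856, 2, 5⟩) (.one ⟨13170, 3, 5⟩)))) (.node 4 (.node 2 (.node 1 (.one ⟨652, 2, 4⟩) (.one ⟨16659, 1, 6⟩)) (.node 1 (.one ⟨12508, 1, 6⟩) (.one ⟨1236, 1, 3⟩))) (.node 2 (.node 1 (.one ⟨14246, 2, 5⟩) (.one ⟨1924, 2, 5⟩)) (.node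 1 (.one ⟨2352, 2, 2⟩) (.one ⟨10289, 3, 5⟩))))) (.node 8 (.node 4 (.node 2 (.node 1 (.one ⟨8356, 0, 3⟩) (.one ⟨12145, 2, 3⟩)) (.node 1 (.one ⟨11951, 0, 6⟩) (.one ⟨3972, 0, 5⟩))) (.node 2 (.node 1 (.one ⟨11692, 2, 4⟩) (.one ⟨10288, 3, 5⟩)) (.node 1 (.one ⟨10204, 2, 4⟩) (.one ⟨14091, 3, 4⟩)))) (.node 4 (.node 2 (.node 1 (.one ⟨4997, 3, 3⟩) (.one ⟨16470, 3, 5⟩)) (.node 1 (.one ⟨1180, 3, 4⟩) (.one ⟨4411, 1, 6⟩))) (.node 2 (.node 1 (.one ⟨11632, 1, 2⟩) (.one ⟨5938, 1, 5⟩)) (.node 1 (.one ⟨14223, 0, 2⟩) (.one ⟨6320, 3, 4⟩)))))))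
def par4_15_3 : Arr Par :=
  (.node 32 (.node 16 (.node 8 (.node 4 (.node 2 (.node 1 (.one ⟨15468, 3, 5⟩) (.one ⟨6157, 2, 4⟩)) (.node 1 (.one ⟨10946, 2, 4⟩) (.one ⟨5966, 2, 1⟩))) (.node 2 (.node 1 (.one ⟨2743, 3, 6⟩) (.one ⟨14838, 3, 4⟩)) (.node 1 (.one ⟨5717, 3, 5⟩) (.one ⟨8135, 3, 4⟩)))) (.node 4 (.node 2 (.node 1 (.one ⟨6171, 3, 5⟩) (.one ⟨15996, 3, 4⟩)) (.node 1 (.one ⟨14293, 3, 4⟩) (.one ⟨7987, 1, 3⟩))) (.node 2 (.node 1 (.one ⟨2682, 3, 4⟩) (.one ⟨1987, 2, 5⟩)) (.node 1 (.one ⟨9517, 3, 4⟩) (.one ⟨9217, 0, 2⟩))))) (.node 8 (.node 4 (.node 2 (.node 1 (.one ⟨5108, 2, 5⟩) (.one ⟨4877, 2, 3⟩)) (.node 1 (.one ⟨6896, 0, 3⟩) (.one ⟨5181, 2, 5⟩))) (.node 2 (.node 1 (.one ⟨10321, 2, 5⟩) (.one ⟨9831, 2, 4⟩)) (.node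 1 (.one ⟨8160, 1, 5⟩) (.one ⟨16774, 2, 5⟩)))) (.node 4 (.node 2 (.node 1 (.one ⟨1067, 3, 5⟩) (.one ⟨15580, 3, 5⟩)) (.node 1 (.one ⟨14385, 0, 4⟩) (.one ⟨7186, 3, 5⟩))) (.node 2 (.node 1 (.one ⟨4047, 1, 4⟩) (.one ⟨8382, 3, 5⟩)) (.node 1 (.one ⟨10051, 0, 6⟩) (.one ⟨8564, 1, 3⟩)))))) (.node 16 (.node 8 (.node 4 (.node 2 (.node 1 (.one ⟨14226, 0, 4⟩) (.one ⟨7838, 0, 2⟩)) (.node 1 (.one ⟨4366, 1, 4⟩) (.one ⟨10123, 2, 5⟩))) (.node 2 (.node 1 (.one ⟨11457, 0, 4⟩) (.one ⟨5277, 2, 4⟩)) (.node 1 (.one ⟨7291, 1, 5⟩) (.one ⟨1756, 3, 3⟩)))) (.node 4 (.node 2 (.node 1 (.one ⟨10115, 3, 4⟩) (.one ⟨9659, 3, 4⟩)) (.node 1 (.one ⟨715, 2, 5⟩) (.one ⟨10689, 3, 6⟩))) (.node 2 (.node 1 (.one ⟨3704, 2, 4⟩) (.one ⟨5894, 0, 3⟩)) (.node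 1 (.one ⟨3268, 1, 4⟩) (.one ⟨10530, 2, 5⟩))))) (.node 8 (.node 4 (.node 2 (.node 1 (.one ⟨9175, 1, 5⟩) (.one ⟨15975, 1, 4⟩)) (.node 1 (.one ⟨17018, 0, 5⟩) (.one ⟨12328, 0, 4⟩))) (.node 2 (.node 1 (.one ⟨6272, 1, 4⟩) (.one ⟨4394, 1, 6⟩)) (.node 1 (.one ⟨13405, 3, 5⟩) (.one ⟨16233, 3, 4⟩)))) (.node 4 (.node 2 (.node 1 (.one ⟨14510, 1, 6⟩) (.one ⟨2546, 0, 3⟩)) (.node 1 (.one ⟨13304, 1, 5⟩) (.one ⟨6839, 2, 5⟩))) (.node 2 (.node 1 (.one ⟨1645, 3, 4⟩) (.one ⟨8861, 2, 5⟩)) (.node 1 (.one ⟨5993, 0, 3⟩) (.one ⟨12053, 1, 2⟩)))))))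
def par4_15_4 : Arr Par :=
  (.node 32 (.node 16 (.node 8 (.node 4 (.node 2 (.node 1 (.one ⟨10572, 3, 5⟩) (.one ⟨12852, 3, 4⟩)) (.node 1 (.one ⟨13609, 0, 5⟩) (.one ⟨5507, 3, 4⟩))) (.node 2 (.node 1 (.one ⟨14375, 2, 4⟩) (.one ⟨1503, 2, 4⟩)) (.node 1 (.one ⟨1251, 3, 4⟩) (.one ⟨13411, 2, 4⟩)))) (.node 4 (.node 2 (.node 1 (.one ⟨15496, 2, 1⟩) (.one ⟨12139, 2, 4⟩)) (.node 1 (.one ⟨14599, 2, 1⟩) (.one ⟨13673, 2, 5⟩))) (.node 2 (.node 1 (.one ⟨11940, 2, 4⟩) (.one ⟨4994, 1, 5⟩)) (.node 1 (.one ⟨15802, 3, 4⟩) (.one ⟨12253, 2, 5⟩))))) (.node 8 (.node 4 (.node 2 (.node 1 (.one ⟨5182, 1, 5⟩) (.one ⟨7177, 3, 3⟩)) (.node 1 (.one ⟨15000, 2, 3⟩) (.one ⟨1476, 1, 6⟩))) (.node 2 (.node 1 (.one ⟨12028, 1, 4⟩) (.one ⟨4906, 0, 5⟩))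 (.node 1 (.one ⟨8142, 1, 3⟩) (.one ⟨2435, 3, 4⟩)))) (.node 4 (.node 2 (.node 1 (.one ⟨11707, 3, 5⟩) (.one ⟨3599, 3, 2⟩)) (.node 1 (.one ⟨10573, 3, 4⟩) (.one ⟨1744, 3, 5⟩))) (.node 2 (.node 1 (.one ⟨2401, 2, 5⟩) (.one ⟨4096, 3, 3⟩)) (.node 1 (.one ⟨9976, 3, 5⟩) (.one ⟨14610, 2, 4⟩)))))) (.node 16 (.node 8 (.node 4 (.node 2 (.node 1 (.one ⟨7065, 3, 4⟩) (.one ⟨10349, 1, 4⟩)) (.node 1 (.one ⟨6631, 1, 2⟩) (.one ⟨2179, 3, 3⟩))) (.node 2 (.node 1 (.one ⟨756, 3, 6⟩) (.one ⟨1683, 3, 5⟩)) (.node 1 (.one ⟨16070, 2, 4⟩) (.one ⟨16237, 3, 7⟩)))) (.node 4 (.node 2 (.node 1 (.one ⟨14194, 0, 4⟩) (.one ⟨297, 2, 5⟩)) (.node 1 (.one ⟨14041, 2, 3⟩) (.one ⟨4018, 0, 5⟩))) (.node 2 (.node 1 (.one ⟨9155, 2, 4⟩) (.one ⟨1485, 1, 4⟩))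 (.node 1 (.one ⟨11932, 1, 4⟩) (.one ⟨3119, 3, 4⟩))))) (.node 8 (.node 4 (.node 2 (.node 1 (.one ⟨2808, 0, 5⟩) (.one ⟨751, 3, 7⟩)) (.node 1 (.one ⟨10133, 0, 3⟩) (.one ⟨14648, 0, 3⟩))) (.node 2 (.node 1 (.one ⟨9110, 3, 6⟩) (.one ⟨14667, 3, 4⟩)) (.node 1 (.one ⟨7929, 3, 5⟩) (.one ⟨4646, 3, 3⟩)))) (.node 4 (.node 2 (.node 1 (.one ⟨14232, 3, 4⟩) (.one ⟨2962, 3, 4⟩)) (.node 1 (.one ⟨15908, 3, 2⟩) (.one ⟨14781, 3, 3⟩))) (.node 2 (.node 1 (.one ⟨3717, 3, 5⟩) (.one ⟨16288, 0, 5⟩)) (.node 1 (.one ⟨9691, 0, 5⟩) (.one ⟨5431, 1, 4⟩)))))))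
def par4_15_5 : Arr Par :=
  (.node 32 (.node 16 (.node 8 (.node 4 (.node 2 (.node 1 (.one ⟨1801, 1, 4⟩) (.one ⟨5607, 1, 4⟩)) (.node 1 (.one ⟨5846, 0, 5⟩) (.one ⟨14698, 0, 5⟩))) (.node 2 (.node 1 (.one ⟨2813, 0, 4⟩) (.one ⟨10031, 1, 5⟩)) (.node 1 (.one ⟨13265, 1, 4⟩) (.one ⟨6706, 3, 6⟩)))) (.node 4 (.node 2 (.node 1 (.one ⟨8000, 2, 5⟩) (.one ⟨4316, 1, 5⟩)) (.node 1 (.one ⟨6111, 3, 5⟩) (.one ⟨13423, 3, 4⟩))) (.node 2 (.node 1 (.one ⟨12557, 2, 4⟩) (.one ⟨7861, 3, 4⟩)) (.node 1 (.one ⟨12035, 3, 5⟩) (.one ⟨5515, 2, 6⟩))))) (.node 8 (.node 4 (.node 2 (.node 1 (.one ⟨15176, 2, 4⟩) (.one ⟨11709, 0, 5⟩)) (.node 1 (.one ⟨1923, 1, 5⟩) (.one ⟨15724, 3, 4⟩))) (.node 2 (.node 1 (.one ⟨5523, 3, 4⟩) (.one ⟨10036, 1, 5⟩)) (.node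 1 (.one ⟨13531, 3, 5⟩) (.one ⟨9556, 3, 3⟩)))) (.node 4 (.node 2 (.node 1 (.one ⟨2696, 1, 5⟩) (.one ⟨3457, 3, 4⟩)) (.node 1 (.one ⟨12907, 2, 5⟩) (.one ⟨13887, 0, 5⟩))) (.node 2 (.node 1 (.one ⟨16153, 1, 5⟩) (.one ⟨3953, 1, 5⟩)) (.node 1 (.one ⟨5921, 1, 5⟩) (.one ⟨473, 3, 5⟩)))))) (.node 16 (.node 8 (.node 4 (.node 2 (.node 1 (.one ⟨14849, 1, 5⟩) (.one ⟨2564, 3, 4⟩)) (.node 1 (.one ⟨7612, 3, 3⟩) (.one ⟨12135, 3, 5⟩))) (.node 2 (.node 1 (.one ⟨14184, 3, 3⟩) (.one ⟨2680, 1, 4⟩)) (.node 1 (.one ⟨14470, 3, 4⟩) (.one ⟨7040, 0, 5⟩)))) (.node 4 (.node 2 (.node 1 (.one ⟨137, 0, 4⟩) (.one ⟨2565, 3, 5⟩)) (.node 1 (.one ⟨7041, 0, 4⟩) (.one ⟨7042, 0, 4⟩))) (.node 2 (.node 1 (.one ⟨16906, 1, 3⟩) (.one ⟨9273, 2, 5⟩)) (.node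 1 (.one ⟨10999, 3, 6⟩) (.one ⟨1870, 1, 6⟩))))) (.node 8 (.node 4 (.node 2 (.node 1 (.one ⟨13716, 0, 3⟩) (.one ⟨1740, 3, 3⟩)) (.node 1 (.one ⟨1865, 1, 6⟩) (.one ⟨12576, 2, 6⟩))) (.node 2 (.node 1 (.one ⟨15116, 2, 3⟩) (.one ⟨10817, 2, 6⟩)) (.node 1 (.one ⟨16238, 2, 6⟩) (.one ⟨16094, 2, 5⟩)))) (.node 4 (.node 2 (.node 1 (.one ⟨13450, 0, 5⟩) (.one ⟨10482, 3, 4⟩)) (.node 1 (.one ⟨7862, 1, 5⟩) (.one ⟨8838, 2, 5⟩))) (.node 2 (.node 1 (.one ⟨3190, 1, 5⟩) (.one ⟨7673, 3, 4⟩)) (.node 1 (.one ⟨8270, 3, 4⟩) (.one ⟨1601, 3, 4⟩)))))))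
def par4_15_6 : Arr Par :=
  (.node 32 (.node 16 (.node 8 (.node 4 (.node 2 (.node 1 (.one ⟨12632, 3, 6⟩) (.one ⟨15011, 2, 5⟩)) (.node 1 (.one ⟨12813, 3, 4⟩) (.one ⟨6979, 3, 6⟩))) (.node 2 (.node 1 (.one ⟨842, 0, 4⟩) (.one ⟨15247, 0, 4⟩)) (.node 1 (.one ⟨2896, 2, 2⟩) (.one ⟨14914, 2, 5⟩)))) (.node 4 (.node 2 (.node 1 (.one ⟨12013, 2, 5⟩) (.one ⟨4500, 1, 4⟩)) (.node 1 (.one ⟨11092, 2, 5⟩) (.one ⟨14863, 3, 4⟩))) (.node 2 (.node 1 (.one ⟨14407, 0, 2⟩) (.one ⟨13553, 2, 4⟩)) (.node 1 (.one ⟨6788, 3, 2⟩) (.one ⟨495, 0, 3⟩))))) (.node 8 (.node 4 (.node 2 (.node 1 (.one ⟨4731, 1, 4⟩) (.one ⟨13971, 0, 4⟩)) (.node 1 (.one ⟨1569, 1, 5⟩) (.one ⟨6050, 2, 5⟩))) (.node 2 (.node 1 (.one ⟨6912, 1, 5⟩) (.one ⟨2844, 3, 6⟩)) (.node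 1 (.one ⟨7523, 3, 5⟩) (.one ⟨11837, 3, 5⟩)))) (.node 4 (.node 2 (.node 1 (.one ⟨12073, 1, 4⟩) (.one ⟨4885, 2, 5⟩)) (.node 1 (.one ⟨10605, 0, 4⟩) (.one ⟨1999, 3, 6⟩))) (.node 2 (.node 1 (.one ⟨5936, 3, 4⟩) (.one ⟨15562, 3, 5⟩)) (.node 1 (.one ⟨3772, 2, 5⟩) (.one ⟨1700, 2, 5⟩)))))) (.node 16 (.node 8 (.node 4 (.node 2 (.node 1 (.one ⟨12056, 1, 5⟩) (.one ⟨13911, 0, 5⟩)) (.node 1 (.one ⟨1659, 0, 5⟩) (.one ⟨8015, 3, 4⟩))) (.node 2 (.node 1 (.one ⟨31, 2, 2⟩) (.one ⟨10316, 0, 4⟩)) (.node 1 (.one ⟨17129, 3, 5⟩) (.one ⟨14777, 2, 6⟩)))) (.node 4 (.node 2 (.node 1 (.one ⟨12486, 0, 1⟩) (.one ⟨14363, 0, 4⟩)) (.node 1 (.one ⟨16093, 0, 4⟩) (.one ⟨11459, 0, 4⟩))) (.node 2 (.node 1 (.one ⟨12622, 0, 4⟩) (.one ⟨15068, 0, 3⟩))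 (.node 1 (.one ⟨7289, 1, 2⟩) (.one ⟨3100, 2, 3⟩))))) (.node 8 (.node 4 (.node 2 (.node 1 (.one ⟨8583, 1, 5⟩) (.one ⟨16703, 0, 6⟩)) (.node 1 (.one ⟨10613, 0, 6⟩) (.one ⟨13250, 3, 6⟩))) (.node 2 (.node 1 (.one ⟨7304, 1, 3⟩) (.one ⟨160, 3, 4⟩)) (.node 1 (.one ⟨2230, 2, 4⟩) (.one ⟨9766, 2, 5⟩)))) (.node 4 (.node 2 (.node 1 (.one ⟨16070, 3, 4⟩) (.one ⟨9854, 3, 4⟩)) (.node 1 (.one ⟨6754, 1, 3⟩) (.one ⟨4690, 3, 4⟩))) (.node 2 (.node 1 (.one ⟨15784, 0, 2⟩) (.one ⟨7804, 1, 4⟩)) (.node 1 (.one ⟨13345, 0, 5⟩) (.one ⟨10675, 2, 4⟩)))))))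
def par4_15_7 : Arr Par :=
  (.node 32 (.node 16 (.node 8 (.node 4 (.node 2 (.node 1 (.one ⟨11152, 1, 4⟩) (.one ⟨4346, 3, 6⟩)) (.node 1 (.one ⟨4232, 3, 1⟩) (.one ⟨14293, 0, 4⟩))) (.node 2 (.node 1 (.one ⟨13745, 2, 4⟩) (.one ⟨3004, 2, 5⟩)) (.node 1 (.one ⟨598, 3, 4⟩) (.one ⟨5963, 1, 3⟩)))) (.node 4 (.node 2 (.node 1 (.one ⟨5661, 3, 6⟩) (.one ⟨6852, 2, 6⟩)) (.node 1 (.one ⟨12256, 3, 3⟩) (.one ⟨674, 3, 4⟩))) (.node 2 (.node 1 (.one ⟨5706, 2, 5⟩) (.one ⟨11820, 0, 4⟩)) (.node 1 (.one ⟨8059, 3, 4⟩) (.one ⟨6541, 3, 5⟩))))) (.node 8 (.node 4 (.node 2 (.node 1 (.one ⟨34, 2, 5⟩) (.one ⟨16574, 1, 5⟩)) (.node 1 (.one ⟨1008, 1, 5⟩) (.one ⟨1531, 3, 3⟩))) (.node 2 (.node 1 (.one ⟨13294, 2, 7⟩) (.one ⟨15888, 2, 5⟩)) (.node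 1 (.one ⟨8811, 3, 5⟩) (.one ⟨1048, 2, 3⟩)))) (.node 4 (.node 2 (.node 1 (.one ⟨9739, 3, 4⟩) (.one ⟨5247, 2, 5⟩)) (.node 1 (.one ⟨7838, 1, 2⟩) (.one ⟨14590, 0, 4⟩))) (.node 2 (.node 1 (.one ⟨4553, 1, 6⟩) (.one ⟨8141, 3, 5⟩)) (.node 1 (.one ⟨6804, 1, 5⟩) (.one ⟨7301, 3, 5⟩)))))) (.node 16 (.node 8 (.node 4 (.node 2 (.node 1 (.one ⟨15197, 3, 5⟩) (.one ⟨11921, 1, 4⟩)) (.node 1 (.one ⟨10995, 1, 4⟩) (.one ⟨7518, 2, 6⟩))) (.node 2 (.node 1 (.one ⟨13913, 0, 4⟩) (.one ⟨12687, 1, 4⟩)) (.node 1 (.one ⟨5685, 0, 4⟩) (.one ⟨240, 1, 4⟩)))) (.node 4 (.node 2 (.node 1 (.one ⟨8454, 0, 3⟩) (.one ⟨1858, 3, 3⟩)) (.node 1 (.one ⟨4559, 3, 6⟩) (.one ⟨2531, 0, 5⟩))) (.node 2 (.node 1 (.one ⟨14707, 3, 4⟩) (.one ⟨9461, 2, 4⟩)) (.node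 1 (.one ⟨2125, 3, 5⟩) (.one ⟨5592, 2, 4⟩))))) (.node 8 (.node 4 (.node 2 (.node 1 (.one ⟨7735, 3, 5⟩) (.one ⟨15481, 3, 5⟩)) (.node 1 (.one ⟨13752, 2, 2⟩) (.one ⟨14176, 1, 3⟩))) (.node 2 (.node 1 (.one ⟨6403, 0, 5⟩) (.one ⟨3044, 1, 2⟩)) (.node 1 (.one ⟨6623, 1, 5⟩) (.one ⟨109, 1, 4⟩)))) (.node 4 (.node 2 (.node 1 (.one ⟨130, 2, 4⟩) (.one ⟨15176, 3, 4⟩)) (.node 1 (.one ⟨4497, 3, 4⟩) (.one ⟨10319, 2, 4⟩))) (.node 2 (.node 1 (.one ⟨817, 3, 4⟩) (.one ⟨3282, 3, 6⟩)) (.node 1 (.one ⟨16428, 3, 4⟩) (.one ⟨6726, 0, 2⟩)))))))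
def par4_15_8 : Arr Par :=
  (.node 32 (.node 16 (.node 8 (.node 4 (.node 2 (.node 1 (.one ⟨11457, 3, 4⟩) (.one ⟨5021, 3, 5⟩)) (.node 1 (.one ⟨9157, 1, 6⟩) (.one ⟨12302, 1, 4⟩))) (.node 2 (.node 1 (.one ⟨15250, 1, 4⟩) (.one ⟨12896, 0, 4⟩)) (.node 1 (.one ⟨2933, 2, 4⟩) (.one ⟨12801, 3, 4⟩)))) (.node 4 (.node 2 (.node 1 (.one ⟨11083, 2, 6⟩) (.one ⟨12600, 3, 5⟩)) (.node 1 (.one ⟨6948, 2, 4⟩) (.one ⟨13921, 3, 3⟩))) (.node 2 (.node 1 (.one ⟨10952, 3, 5⟩) (.one ⟨2130, 2, 3⟩)) (.node 1 (.one ⟨16866, 0, 4⟩) (.one ⟨11535, 3, 4⟩))))) (.node 8 (.node 4 (.node 2 (.node 1 (.one ⟨9662, 3, 4⟩) (.one ⟨6060, 0, 3⟩)) (.node 1 (.one ⟨16516, 2, 4⟩) (.one ⟨15167, 3, 5⟩))) (.node 2 (.node 1 (.one ⟨12351, 2, 4⟩) (.one ⟨14390, 2, 3⟩))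 (.node 1 (.one ⟨10150, 2, 3⟩) (.one ⟨17123, 2, 4⟩)))) (.node 4 (.node 2 (.node 1 (.one ⟨12174, 2, 6⟩) (.one ⟨851, 1, 3⟩)) (.node 1 (.one ⟨8517, 1, 5⟩) (.one ⟨6713, 0, 1⟩))) (.node 2 (.node 1 (.one ⟨12776, 0, 4⟩) (.one ⟨6071, 3, 6⟩)) (.node 1 (.one ⟨8412, 3, 6⟩) (.one ⟨13549, 2, 6⟩)))))) (.node 16 (.node 8 (.node 4 (.node 2 (.node 1 (.one ⟨4215, 1, 6⟩) (.one ⟨10309, 0, 5⟩)) (.node 1 (.one ⟨6004, 3, 4⟩) (.one ⟨3788, 3, 3⟩))) (.node 2 (.node 1 (.one ⟨3586, 2, 1⟩) (.one ⟨7092, 1, 5⟩)) (.node 1 (.one ⟨9162, 1, 5⟩) (.one ⟨6965, 3, 5⟩)))) (.node 4 (.node 2 (.node 1 (.one ⟨11535, 0, 4⟩) (.one ⟨8581, 0, 6⟩)) (.node 1 (.one ⟨13028, 3, 2⟩) (.one ⟨2226, 2, 5⟩))) (.node 2 (.node 1 (.one ⟨129, 2, 4⟩) (.one ⟨5071, 2, 3⟩))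 (.node 1 (.one ⟨12757, 0, 6⟩) (.one ⟨9813, 2, 4⟩))))) (.node 8 (.node 4 (.node 2 (.node 1 (.one ⟨3140, 0, 5⟩) (.one ⟨14707, 2, 4⟩)) (.node 1 (.one ⟨8522, 3, 5⟩) (.one ⟨6889, 2, 4⟩))) (.node 2 (.node 1 (.one ⟨12294, 1, 3⟩) (.one ⟨2218, 2, 2⟩)) (.node 1 (.one ⟨11955, 0, 4⟩) (.one ⟨7233, 1, 5⟩)))) (.node 4 (.node 2 (.node 1 (.one ⟨9877, 2, 4⟩) (.one ⟨12298, 0, 5⟩)) (.node 1 (.one ⟨14284, 0, 3⟩) (.one ⟨12956, 3, 3⟩))) (.node 2 (.node 1 (.one ⟨11897, 0, 3⟩) (.one ⟨2896, 1, 2⟩)) (.node 1 (.one ⟨4287, 1, 3⟩) (.one ⟨9119, 3, 5⟩)))))))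
def par4_15_9 : Arr Par :=
  (.node 32 (.node 16 (.node 8 (.node 4 (.node 2 (.node 1 (.one ⟨14598, 3, 5⟩) (.one ⟨6292, 3, 4⟩)) (.node 1 (.one ⟨11539, 0, 4⟩) (.one ⟨13424, 3, 4⟩))) (.node 2 (.node 1 (.one ⟨2490, 3, 5⟩) (.one ⟨10320, 3, 5⟩)) (.node 1 (.one ⟨11785, 2, 6⟩) (.one ⟨13016, 3, 4⟩)))) (.node 4 (.node 2 (.node 1 (.one ⟨2351, 3, 6⟩) (.one ⟨14798, 3, 3⟩)) (.node 1 (.one ⟨12012, 2, 5⟩) (.one ⟨8019, 3, 5⟩))) (.node 2 (.node 1 (.one ⟨15179, 3, 5⟩) (.one ⟨16045, 2, 5⟩)) (.node 1 (.one ⟨11036, 2, 6⟩) (.one ⟨8912, 3, 5⟩))))) (.node 8 (.node 4 (.node 2 (.node 1 (.one ⟨15538, 3, 7⟩) (.one ⟨1651, 1, 3⟩)) (.node 1 (.one ⟨12790, 1, 4⟩) (.one ⟨13082, 2, 5⟩))) (.node 2 (.node 1 (.one ⟨14042, 0, 4⟩) (.one ⟨13510, 3,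 6⟩)) (.node 1 (.one ⟨12202, 0, 3⟩) (.one ⟨482, 2, 6⟩)))) (.node 4 (.node 2 (.node 1 (.one ⟨1891, 3, 5⟩) (.one ⟨1035, 2, 5⟩)) (.node 1 (.one ⟨799, 3, 6⟩) (.one ⟨14607, 1, 4⟩))) (.node 2 (.node 1 (.one ⟨15892, 0, 5⟩) (.one ⟨12793, 1, 5⟩)) (.node 1 (.one ⟨3966, 3, 4⟩) (.one ⟨700, 3, 5⟩)))))) (.node 16 (.node 8 (.node 4 (.node 2 (.node 1 (.one ⟨11893, 3, 5⟩) (.one ⟨5363, 1, 4⟩)) (.node 1 (.one ⟨16735, 0, 3⟩) (.one ⟨15030, 1, 4⟩))) (.node 2 (.node 1 (.one ⟨12956, 0, 3⟩) (.one ⟨9018, 2, 4⟩)) (.node 1 (.one ⟨15417, 2, 4⟩) (.one ⟨3578, 1, 3⟩)))) (.node 4 (.node 2 (.node 1 (.one ⟨6091, 2, 4⟩) (.one ⟨15079, 1, 5⟩)) (.node 1 (.one ⟨2470, 3, 4⟩) (.one ⟨7185, 0, 4⟩))) (.node 2 (.node 1 (.one ⟨7122, 2, 4⟩) (.one ⟨9401, 2,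 5⟩)) (.node 1 (.one ⟨8767, 1, 3⟩) (.one ⟨975, 2, 6⟩))))) (.node 8 (.node 4 (.node 2 (.node 1 (.one ⟨3261, 0, 5⟩) (.one ⟨3383, 2, 5⟩)) (.node 1 (.one ⟨647, 2, 6⟩) (.one ⟨1825, 0, 6⟩))) (.node 2 (.node 1 (.one ⟨201, 2, 3⟩) (.one ⟨15097, 1, 2⟩)) (.node 1 (.one ⟨7701, 0, 4⟩) (.one ⟨13918, 3, 5⟩)))) (.node 4 (.node 2 (.node 1 (.one ⟨10650, 2, 2⟩) (.one ⟨8687, 0, 2⟩)) (.node 1 (.one ⟨16130, 1, 2⟩) (.one ⟨7412, 0, 3⟩))) (.node 2 (.node 1 (.one ⟨17188, 0, 3⟩) (.one ⟨13623, 3, 3⟩)) (.node 1 (.one ⟨11603, 1, 5⟩) (.one ⟨14761, 0, 4⟩)))))))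
def par4_15_10 : Arr Par :=
  (.node 32 (.node 16 (.node 8 (.node 4 (.node 2 (.node 1 (.one ⟨11798, 0, 2⟩) (.one ⟨665, 3, 3⟩)) (.node 1 (.one ⟨15648, 2, 5⟩) (.one ⟨12801, 1, 4⟩))) (.node 2 (.node 1 (.one ⟨6761, 0, 5⟩) (.one ⟨7998, 3, 3⟩)) (.node 1 (.one ⟨7956, 2, 4⟩) (.one ⟨2237, 1, 4⟩)))) (.node 4 (.node 2 (.node 1 (.one ⟨1569, 0, 5⟩) (.one ⟨17016, 0, 3⟩)) (.node 1 (.one ⟨3649, 3, 5⟩) (.one ⟨5093, 3, 3⟩))) (.node 2 (.node 1 (.one ⟨10150, 3, 3⟩) (.one ⟨6197, 3, 5⟩)) (.node 1 (.one ⟨12670, 2, 5⟩) (.one ⟨15563, 3, 4⟩))))) (.node 8 (.node 4 (.node 2 (.node 1 (.one ⟨3704, 1, 4⟩) (.one ⟨11980, 3, 3⟩)) (.node 1 (.one ⟨6698, 1, 5⟩) (.one ⟨12264, 3, 4⟩))) (.node 2 (.node 1 (.one ⟨7571, 3, 3⟩) (.one ⟨15199, 3, 4⟩)) (.node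 1 (.one ⟨14842, 2, 5⟩) (.one ⟨3716, 1, 6⟩)))) (.node 4 (.node 2 (.node 1 (.one ⟨11941, 3, 5⟩) (.one ⟨3051, 2, 5⟩)) (.node 1 (.one ⟨13638, 3, 5⟩) (.one ⟨12276, 3, 6⟩))) (.node 2 (.node 1 (.one ⟨15660, 0, 5⟩) (.one ⟨3678, 1, 5⟩)) (.node 1 (.one ⟨11349, 0, 4⟩) (.one ⟨16609, 1, 4⟩)))))) (.node 16 (.node 8 (.node 4 (.node 2 (.node 1 (.one ⟨10253, 2, 6⟩) (.one ⟨8908, 0, 4⟩)) (.node 1 (.one ⟨4676, 2, 4⟩) (.one ⟨3443, 1, 5⟩))) (.node 2 (.node 1 (.one ⟨12756, 1, 5⟩) (.one ⟨198, 1, 5⟩)) (.node 1 (.one ⟨2730, 2, 2⟩) (.one ⟨6267, 0, 5⟩)))) (.node 4 (.node 2 (.node 1 (.one ⟨3457, 1, 4⟩) (.one ⟨2995, 3, 1⟩)) (.node 1 (.one ⟨1091, 3, 5⟩) (.one ⟨16105, 2, 3⟩))) (.node 2 (.node 1 (.one ⟨8499, 3, 5⟩) (.one ⟨9049, 2, 4⟩)) (.node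 1 (.one ⟨3985, 3, 5⟩) (.one ⟨14842, 3, 5⟩))))) (.node 8 (.node 4 (.node 2 (.node 1 (.one ⟨14761, 2, 4⟩) (.one ⟨9818, 1, 6⟩)) (.node 1 (.one ⟨11436, 1, 6⟩) (.one ⟨14759, 2, 3⟩))) (.node 2 (.node 1 (.one ⟨7421, 1, 2⟩) (.one ⟨16281, 0, 4⟩)) (.node 1 (.one ⟨13737, 1, 3⟩) (.one ⟨3897, 3, 4⟩)))) (.node 4 (.node 2 (.node 1 (.one ⟨3607, 1, 5⟩) (.one ⟨2859, 3, 2⟩)) (.node 1 (.one ⟨15849, 3, 4⟩) (.one ⟨13957, 3, 4⟩))) (.node 2 (.node 1 (.one ⟨7439, 0, 5⟩) (.one ⟨10365, 0, 4⟩)) (.node 1 (.one ⟨7871, 2, 5⟩) (.one ⟨13131, 2, 4⟩)))))))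
def par4_15_11 : Arr Par :=
  (.node 32 (.node 16 (.node 8 (.node 4 (.node 2 (.node 1 (.one ⟨627, 3, 5⟩) (.one ⟨560, 0, 4⟩)) (.node 1 (.one ⟨13912, 1, 5⟩) (.one ⟨807, 1, 5⟩))) (.node 2 (.node 1 (.one ⟨15482, 0, 4⟩) (.one ⟨10879, 3, 5⟩)) (.node 1 (.one ⟨4612, 2, 3⟩) (.one ⟨7870, 3, 5⟩)))) (.node 4 (.node 2 (.node 1 (.one ⟨11690, 1, 3⟩) (.one ⟨2686, 1, 4⟩)) (.node 1 (.one ⟨11614, 2, 3⟩) (.one ⟨16914, 0, 5⟩))) (.node 2 (.node 1 (.one ⟨6307, 2, 3⟩) (.one ⟨6548, 3, 6⟩)) (.node 1 (.one ⟨280, 3, 3⟩) (.one ⟨995, 0, 4⟩))))) (.node 8 (.node 4 (.node 2 (.node 1 (.one ⟨2352, 3, 2⟩) (.one ⟨13298, 2, 5⟩)) (.node 1 (.one ⟨2566, 3, 5⟩) (.one ⟨6530, 0, 4⟩))) (.node 2 (.node 1 (.one ⟨13274, 1, 4⟩) (.one ⟨9278, 2, 5⟩)) (.node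 1 (.one ⟨6252, 1, 5⟩) (.one ⟨1958, 0, 5⟩)))) (.node 4 (.node 2 (.node 1 (.one ⟨14962, 3, 6⟩) (.one ⟨1577, 3, 5⟩)) (.node 1 (.one ⟨16504, 0, 4⟩) (.one ⟨15344, 2, 5⟩))) (.node 2 (.node 1 (.one ⟨13745, 1, 4⟩) (.one ⟨14956, 3, 3⟩)) (.node 1 (.one ⟨9524, 0, 4⟩) (.one ⟨491, 2, 4⟩)))))) (.node 16 (.node 8 (.node 4 (.node 2 (.node 1 (.one ⟨6407, 3, 3⟩) (.one ⟨5936, 2, 4⟩)) (.node 1 (.one ⟨6862, 1, 4⟩) (.one ⟨4312, 1, 3⟩))) (.node 2 (.node 1 (.one ⟨1463, 2, 4⟩) (.one ⟨14755, 1, 5⟩)) (.node 1 (.one ⟨6137, 1, 2⟩) (.one ⟨14348, 2, 3⟩)))) (.node 4 (.node 2 (.node 1 (.one ⟨7546, 3, 3⟩) (.one ⟨3584, 0, 2⟩)) (.node 1 (.one ⟨12202, 3, 3⟩) (.one ⟨11320, 1, 4⟩))) (.node 2 (.node 1 (.one ⟨14834, 2, 5⟩) (.one ⟨6617, 3, 5⟩)) (.node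 1 (.one ⟨2822, 0, 5⟩) (.one ⟨14989, 0, 4⟩))))) (.node 8 (.node 4 (.node 2 (.node 1 (.one ⟨15624, 1, 2⟩) (.one ⟨9978, 1, 2⟩)) (.node 1 (.one ⟨3891, 3, 5⟩) (.one ⟨16604, 1, 4⟩))) (.node 2 (.node 1 (.one ⟨3888, 3, 5⟩) (.one ⟨3889, 3, 5⟩)) (.node 1 (.one ⟨2029, 0, 4⟩) (.one ⟨4510, 3, 6⟩)))) (.node 4 (.node 2 (.node 1 (.one ⟨10136, 3, 5⟩) (.one ⟨2990, 0, 4⟩)) (.node 1 (.one ⟨9919, 3, 4⟩) (.one ⟨12031, 3, 4⟩))) (.node 2 (.node 1 (.one ⟨15597, 2, 4⟩) (.one ⟨11166, 0, 4⟩)) (.node 1 (.one ⟨10690, 2, 6⟩) (.one ⟨7479, 2, 4⟩)))))))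
def par4_15_12 : Arr Par :=
  (.node 32 (.node 16 (.node 8 (.node 4 (.node 2 (.node 1 (.one ⟨5384, 2, 3⟩) (.one ⟨1872, 2, 3⟩)) (.node 1 (.one ⟨7874, 2, 1⟩) (.one ⟨7157, 2, 1⟩))) (.node 2 (.node 1 (.one ⟨5106, 2, 1⟩) (.one ⟨1103, 2, 4⟩)) (.node 1 (.one ⟨16636, 3, 2⟩) (.one ⟨5540, 1, 5⟩)))) (.node 4 (.node 2 (.node 1 (.one ⟨15111, 0, 5⟩) (.one ⟨5599, 1, 4⟩)) (.node 1 (.one ⟨8810, 1, 5⟩) (.one ⟨12790, 3, 4⟩))) (.node 2 (.node 1 (.one ⟨8263, 1, 6⟩) (.one ⟨91, 2, 5⟩)) (.node 1 (.one ⟨57, 2, 6⟩) (.one ⟨14553, 2, 5⟩))))) (.node 8 (.node 4 (.node 2 (.node 1 (.one ⟨1100, 1, 5⟩) (.one ⟨2896, 0, 2⟩)) (.node 1 (.one ⟨4696, 1, 2⟩) (.one ⟨14105, 3, 5⟩))) (.node 2 (.node 1 (.one ⟨7167, 2, 6⟩) (.one ⟨2813, 1, 4⟩)) (.node 1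 (.one ⟨7960, 1, 3⟩) (.one ⟨6817, 2, 4⟩)))) (.node 4 (.node 2 (.node 1 (.one ⟨10485, 3, 3⟩) (.one ⟨10920, 3, 4⟩)) (.node 1 (.one ⟨12840, 3, 5⟩) (.one ⟨5317, 3, 3⟩))) (.node 2 (.node 1 (.one ⟨6220, 1, 5⟩) (.one ⟨1975, 3, 5⟩)) (.node 1 (.one ⟨14839, 2, 5⟩) (.one ⟨2611, 3, 5⟩)))))) (.node 16 (.node 8 (.node 4 (.node 2 (.node 1 (.one ⟨1829, 1, 4⟩) (.one ⟨4134, 0, 3⟩)) (.node 1 (.one ⟨11630, 2, 5⟩) (.one ⟨3829, 3, 4⟩))) (.node 2 (.node 1 (.one ⟨1557, 2, 4⟩) (.one ⟨3926, 3, 5⟩)) (.node 1 (.one ⟨652, 1, 4⟩) (.one ⟨14869, 0, 4⟩)))) (.node 4 (.node 2 (.node 1 (.one ⟨5531, 0, 5⟩) (.one ⟨4334, 2, 3⟩)) (.node 1 (.one ⟨11421, 3, 4⟩) (.one ⟨13890, 3, 5⟩))) (.node 2 (.node 1 (.one ⟨6303, 2, 3⟩) (.one ⟨13970, 2, 6⟩)) (.node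 1 (.one ⟨7262, 3, 6⟩) (.one ⟨16695, 3, 5⟩))))) (.node 8 (.node 4 (.node 2 (.node 1 (.one ⟨2047, 2, 3⟩) (.one ⟨9201, 1, 1⟩)) (.node 1 (.one ⟨16729, 2, 6⟩) (.one ⟨2391, 3, 7⟩))) (.node 2 (.node 1 (.one ⟨13841, 3, 3⟩) (.one ⟨2438, 0, 4⟩)) (.node 1 (.one ⟨1734, 0, 4⟩) (.one ⟨16939, 3, 5⟩)))) (.node 4 (.node 2 (.node 1 (.one ⟨5807, 3, 4⟩) (.one ⟨297, 3, 5⟩)) (.node 1 (.one ⟨16161, 0, 4⟩) (.one ⟨5230, 3, 5⟩))) (.node 2 (.node 1 (.one ⟨1723, 2, 4⟩) (.one ⟨5510, 2, 3⟩)) (.node 1 (.one ⟨5590, 0, 4⟩) (.one ⟨12051, 3, 6⟩)))))))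
def par4_15_13 : Arr Par :=
  (.node 32 (.node 16 (.node 8 (.node 4 (.node 2 (.node 1 (.one ⟨15534, 2, 3⟩) (.one ⟨10236, 3, 4⟩)) (.node 1 (.one ⟨15871, 0, 3⟩) (.one ⟨1127, 3, 3⟩))) (.node 2 (.node 1 (.one ⟨13057, 2, 5⟩) (.one ⟨13510, 1, 6⟩)) (.node 1 (.one ⟨12311, 0, 3⟩) (.one ⟨11657, 3, 5⟩)))) (.node 4 (.node 2 (.node 1 (.one ⟨8034, 2, 3⟩) (.one ⟨3274, 3, 5⟩)) (.node 1 (.one ⟨15330, 3, 4⟩) (.one ⟨8881, 3, 5⟩))) (.node 2 (.node 1 (.one ⟨13184, 3, 5⟩) (.one ⟨15302, 0, 4⟩)) (.node 1 (.one ⟨14386, 2, 5⟩) (.one ⟨13102, 3, 4⟩))))) (.node 8 (.node 4 (.node 2 (.node 1 (.one ⟨7086, 3, 6⟩) (.one ⟨557, 3, 4⟩)) (.node 1 (.one ⟨14895, 2, 5⟩) (.one ⟨16634, 3, 3⟩))) (.node 2 (.node 1 (.one ⟨15116, 0, 3⟩) (.one ⟨925, 2, 5⟩))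 (.node 1 (.one ⟨11648, 3, 4⟩) (.one ⟨12081, 3, 3⟩)))) (.node 4 (.node 2 (.node 1 (.one ⟨248, 0, 5⟩) (.one ⟨1885, 2, 5⟩)) (.node 1 (.one ⟨6681, 0, 4⟩) (.one ⟨4111, 3, 4⟩))) (.node 2 (.node 1 (.one ⟨1285, 3, 5⟩) (.one ⟨9146, 3, 5⟩)) (.node 1 (.one ⟨6680, 0, 4⟩) (.one ⟨6838, 3, 5⟩)))))) (.node 16 (.node 8 (.node 4 (.node 2 (.node 1 (.one ⟨14115, 0, 5⟩) (.one ⟨13731, 3, 5⟩)) (.node 1 (.one ⟨14118, 0, 5⟩) (.one ⟨2030, 1, 4⟩))) (.node 2 (.node 1 (.one ⟨816, 0, 4⟩) (.one ⟨946, 2, 6⟩)) (.node 1 (.one ⟨851, 0, 3⟩) (.one ⟨11009, 3, 6⟩)))) (.node 4 (.node 2 (.node 1 (.one ⟨2805, 0, 3⟩) (.one ⟨9482, 0, 3⟩)) (.node 1 (.one ⟨5833, 2, 5⟩) (.one ⟨10323, 3, 4⟩))) (.node 2 (.node 1 (.one ⟨14017, 3, 5⟩) (.one ⟨9684, 0, 6⟩)) (.node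 1 (.one ⟨7886, 3, 5⟩) (.one ⟨1770, 0, 6⟩))))) (.node 8 (.node 4 (.node 2 (.node 1 (.one ⟨6571, 0, 4⟩) (.one ⟨13559, 2, 6⟩)) (.node 1 (.one ⟨15853, 0, 5⟩) (.one ⟨14787, 3, 4⟩))) (.node 2 (.node 1 (.one ⟨15334, 0, 5⟩) (.one ⟨3114, 2, 6⟩)) (.node 1 (.one ⟨434, 1, 6⟩) (.one ⟨5049, 1, 6⟩)))) (.node 4 (.node 2 (.node 1 (.one ⟨6471, 3, 4⟩) (.one ⟨6363, 0, 4⟩)) (.node 1 (.one ⟨12050, 3, 6⟩) (.one ⟨2264, 2, 4⟩))) (.node 2 (.node 1 (.one ⟨4650, 1, 4⟩) (.one ⟨9085, 3, 2⟩)) (.node 1 (.one ⟨1570, 3, 5⟩) (.one ⟨14376, 3, 6⟩)))))))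
def par4_15_14 : Arr Par :=
  (.node 32 (.node 16 (.node 8 (.node 4 (.node 2 (.node 1 (.one ⟨12553, 2, 5⟩) (.one ⟨14382, 3, 4⟩)) (.node 1 (.one ⟨12266, 0, 5⟩) (.one ⟨10225, 3, 6⟩))) (.node 2 (.node 1 (.one ⟨14375, 3, 4⟩) (.one ⟨10229, 3, 4⟩)) (.node 1 (.one ⟨14381, 3, 5⟩) (.one ⟨1475, 1, 0⟩)))) (.node 4 (.node 2 (.node 1 (.one ⟨15157, 2, 4⟩) (.one ⟨14631, 1, 3⟩)) (.node 1 (.one ⟨16271, 0, 2⟩) (.one ⟨17132, 1, 5⟩))) (.node 2 (.node 1 (.one ⟨11504, 0, 4⟩) (.one ⟨13166, 2, 5⟩)) (.node 1 (.one ⟨3557, 2, 5⟩) (.one ⟨3586, 0, 1⟩))))) (.node 8 (.node 4 (.node 2 (.node 1 (.one ⟨7151, 0, 4⟩) (.one ⟨14915, 3, 4⟩)) (.node 1 (.one ⟨11230, 2, 5⟩) (.one ⟨9319, 0, 3⟩))) (.node 2 (.node 1 (.one ⟨15989, 2, 3⟩) (.one ⟨6237, 3,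 3⟩)) (.node 1 (.one ⟨7901, 1, 4⟩) (.one ⟨3785, 0, 5⟩)))) (.node 4 (.node 2 (.node 1 (.one ⟨16048, 3, 5⟩) (.one ⟨5085, 2, 3⟩)) (.node 1 (.one ⟨13161, 2, 3⟩) (.one ⟨8207, 3, 5⟩))) (.node 2 (.node 1 (.one ⟨8248, 2, 3⟩) (.one ⟨8171, 0, 5⟩)) (.node 1 (.one ⟨6830, 0, 5⟩) (.one ⟨2318, 2, 5⟩)))))) (.node 16 (.node 8 (.node 4 (.node 2 (.node 1 (.one ⟨2850, 2, 4⟩) (.one ⟨2244, 1, 5⟩)) (.node 1 (.one ⟨858, 0, 5⟩) (.one ⟨9023, 3, 3⟩))) (.node 2 (.node 1 (.one ⟨7840, 1, 4⟩) (.one ⟨6407, 2, 3⟩)) (.node 1 (.one ⟨6727, 1, 4⟩) (.one ⟨54, 1, 4⟩)))) (.node 4 (.node 2 (.node 1 (.one ⟨13937, 3, 4⟩) (.one ⟨4452, 3, 6⟩)) (.node 1 (.one ⟨597, 1, 5⟩) (.one ⟨11419, 2, 3⟩))) (.node 2 (.node 1 (.one ⟨17084, 1, 6⟩) (.one ⟨6584, 3, 4⟩))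 (.node 1 (.one ⟨13159, 2, 5⟩) (.one ⟨10072, 2, 5⟩))))) (.node 8 (.node 4 (.node 2 (.node 1 (.one ⟨13155, 1, 4⟩) (.one ⟨6174, 3, 4⟩)) (.node 1 (.one ⟨388, 3, 5⟩) (.one ⟨13953, 2, 5⟩))) (.node 2 (.node 1 (.one ⟨1957, 3, 4⟩) (.one ⟨5747, 2, 3⟩)) (.node 1 (.one ⟨14594, 2, 3⟩) (.one ⟨9151, 3, 6⟩)))) (.node 4 (.node 2 (.node 1 (.one ⟨15865, 3, 5⟩) (.one ⟨5116, 1, 5⟩)) (.node 1 (.one ⟨2795, 3, 5⟩) (.one ⟨16933, 3, 3⟩))) (.node 2 (.node 1 (.one ⟨11363, 3, 6⟩) (.one ⟨11319, 1, 4⟩)) (.node 1 (.one ⟨155, 2, 5⟩) (.one ⟨7320, 0, 3⟩)))))))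
def par4_15_15 : Arr Par :=
  (.node 32 (.node 16 (.node 8 (.node 4 (.node 2 (.node 1 (.one ⟨1750, 1, 6⟩) (.one ⟨8270, 2, 4⟩)) (.node 1 (.one ⟨387, 1, 5⟩) (.one ⟨11166, 3, 4⟩))) (.node 2 (.node 1 (.one ⟨5912, 0, 4⟩) (.one ⟨3253, 0, 4⟩)) (.node 1 (.one ⟨4404, 2, 4⟩) (.one ⟨14704, 1, 6⟩)))) (.node 4 (.node 2 (.node 1 (.one ⟨1698, 2, 4⟩) (.one ⟨4973, 3, 4⟩)) (.node 1 (.one ⟨1686, 1, 6⟩) (.one ⟨13187, 3, 5⟩))) (.node 2 (.node 1 (.one ⟨16519, 0, 6⟩) (.one ⟨17180, 2, 5⟩)) (.node 1 (.one ⟨9067, 1, 5⟩) (.one ⟨13989, 3, 5⟩))))) (.node 8 (.node 4 (.node 2 (.node 1 (.one ⟨4068, 1, 4⟩) (.one ⟨15294, 0, 6⟩)) (.node 1 (.one ⟨10268, 3, 3⟩) (.one ⟨12532, 2, 3⟩))) (.node 2 (.node 1 (.one ⟨3931, 3, 5⟩) (.one ⟨9857, 2, 5⟩)) (.node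 1 (.one ⟨4423, 3, 5⟩) (.one ⟨17110, 3, 4⟩)))) (.node 4 (.node 2 (.node 1 (.one ⟨1950, 2, 5⟩) (.one ⟨14354, 1, 5⟩)) (.node 1 (.one ⟨14609, 3, 5⟩) (.one ⟨15789, 0, 4⟩))) (.node 2 (.node 1 (.one ⟨9098, 1, 5⟩) (.one ⟨804, 3, 5⟩)) (.node 1 (.one ⟨15700, 2, 5⟩) (.one ⟨14672, 1, 5⟩)))))) (.node 16 (.node 8 (.node 4 (.node 2 (.node 1 (.one ⟨9446, 2, 4⟩) (.one ⟨1524, 1, 3⟩)) (.node 1 (.one ⟨11148, 2, 5⟩) (.one ⟨5116, 3, 5⟩))) (.node 2 (.node 1 (.one ⟨7630, 2, 4⟩) (.one ⟨16111, 0, 5⟩)) (.node 1 (.one ⟨11710, 1, 5⟩) (.one ⟨3565, 2, 4⟩)))) (.node 4 (.node 2 (.node 1 (.one ⟨5057, 2, 4⟩) (.one ⟨8829, 2, 4⟩)) (.node 1 (.one ⟨7746, 2, 4⟩) (.one ⟨5604, 2, 4⟩))) (.node 2 (.node 1 (.one ⟨13755, 3, 4⟩) (.one ⟨3340, 2, 3⟩)) (.node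 1 (.one ⟨796, 0, 4⟩) (.one ⟨11835, 3, 4⟩))))) (.node 8 (.node 4 (.node 2 (.node 1 (.one ⟨1436, 3, 3⟩) (.one ⟨11081, 2, 4⟩)) (.node 1 (.one ⟨13112, 3, 3⟩) (.one ⟨4415, 3, 4⟩))) (.node 2 (.node 1 (.one ⟨10325, 3, 5⟩) (.one ⟨2064, 0, 4⟩)) (.node 1 (.one ⟨4584, 3, 5⟩) (.one ⟨9693, 0, 4⟩)))) (.node 4 (.node 2 (.node 1 (.one ⟨9660, 0, 4⟩) (.one ⟨2972, 3, 5⟩)) (.node 1 (.one ⟨2657, 2, 3⟩) (.one ⟨14773, 3, 4⟩))) (.node 2 (.node 1 (.one ⟨17122, 1, 4⟩) (.one ⟨16307, 3, 6⟩)) (.node 1 (.one ⟨4906, 3, 5⟩) (.one ⟨5805, 2, 5⟩)))))))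
def par4_15 : Arr Par :=
  (.node 512 (.node 256 (.node 128 (.node 64 par4_15_0 par4_15_1) (.node 64 par4_15_2 par4_15_3)) (.node 128 (.node 64 par4_15_4 par4_15_5) (.node 64 par4_15_6 par4_15_7))) (.node 256 (.node 128 (.node 64 par4_15_8 par4_15_9) (.node 64 par4_15_10 par4_15_11)) (.node 128 (.node 64 par4_15_12 par4_15_13) (.node 64 par4_15_14 par4_15_15))))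
def par4_16_0 : Arr Par :=
  (.node 32 (.node 16 (.node 8 (.node 4 (.node 2 (.node 1 (.one ⟨13428, 1, 6⟩) (.one ⟨12829, 3, 5⟩)) (.node 1 (.one ⟨16916, 3, 5⟩) (.one ⟨7094, 1, 6⟩))) (.node 2 (.node 1 (.one ⟨10136, 0, 5⟩) (.one ⟨4424, 2, 5⟩)) (.node 1 (.one ⟨15926, 1, 5⟩) (.one ⟨1442, 2, 6⟩)))) (.node 4 (.node 2 (.node 1 (.one ⟨17120, 0, 4⟩) (.one ⟨5443, 2, 5⟩)) (.node 1 (.one ⟨14164, 2, 5⟩) (.one ⟨8778, 3, 5⟩))) (.node 2 (.node 1 (.one ⟨10709, 2, 5⟩) (.one ⟨17192, 0, 5⟩)) (.node 1 (.one ⟨9026, 1, 5⟩) (.one ⟨17165, 0, 4⟩))))) (.node 8 (.node 4 (.node 2 (.node 1 (.one ⟨13500, 0, 5⟩) (.one ⟨16968, 0, 4⟩)) (.node 1 (.one ⟨5060, 1, 4⟩) (.one ⟨14024, 3, 4⟩))) (.node 2 (.node 1 (.one ⟨2612, 2, 5⟩) (.one ⟨14028, 3, 5⟩))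 (.node 1 (.one ⟨10447, 3, 4⟩) (.one ⟨16743, 2, 5⟩)))) (.node 4 (.node 2 (.node 1 (.one ⟨11702, 2, 3⟩) (.one ⟨4461, 2, 5⟩)) (.node 1 (.one ⟨9147, 0, 4⟩) (.one ⟨437, 3, 5⟩))) (.node 2 (.node 1 (.one ⟨9770, 3, 5⟩) (.one ⟨15079, 0, 5⟩)) (.node 1 (.one ⟨13725, 3, 5⟩) (.one ⟨12166, 0, 5⟩)))))) (.node 16 (.node 8 (.node 4 (.node 2 (.node 1 (.one ⟨10190, 0, 4⟩) (.one ⟨10252, 0, 5⟩)) (.node 1 (.one ⟨10694, 2, 5⟩) (.one ⟨1309, 1, 5⟩))) (.node 2 (.node 1 (.one ⟨15822, 2, 5⟩) (.one ⟨971, 3, 4⟩)) (.node 1 (.one ⟨15564, 2, 5⟩) (.one ⟨6216, 1, 5⟩)))) (.node 4 (.node 2 (.node 1 (.one ⟨7161, 2, 3⟩) (.one ⟨12594, 2, 5⟩)) (.node 1 (.one ⟨5649, 2, 1⟩) (.one ⟨1338, 1, 4⟩))) (.node 2 (.node 1 (.one ⟨7857, 2, 3⟩) (.one ⟨5646, 3, 2⟩))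 (.node 1 (.one ⟨9021, 2, 4⟩) (.one ⟨13801, 2, 4⟩))))) (.node 8 (.node 4 (.node 2 (.node 1 (.one ⟨8966, 3, 4⟩) (.one ⟨5230, 2, 5⟩)) (.node 1 (.one ⟨11659, 0, 5⟩) (.one ⟨10729, 0, 4⟩))) (.node 2 (.node 1 (.one ⟨5019, 1, 4⟩) (.one ⟨3173, 1, 5⟩)) (.node 1 (.one ⟨11583, 0, 3⟩) (.one ⟨8876, 0, 4⟩)))) (.node 4 (.node 2 (.node 1 (.one ⟨11299, 0, 4⟩) (.one ⟨10910, 3, 4⟩)) (.node 1 (.one ⟨16083, 2, 5⟩) (.one ⟨10909, 3, 5⟩))) (.node 2 (.node 1 (.one ⟨2539, 0, 5⟩) (.one ⟨3961, 0, 4⟩)) (.node 1 (.one ⟨10906, 3, 5⟩) (.one ⟨411, 1, 5⟩)))))))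
def par4_16_1 : Arr Par :=
  (.node 32 (.node 16 (.node 8 (.node 4 (.node 2 (.node 1 (.one ⟨5832, 1, 5⟩) (.one ⟨13452, 3, 5⟩)) (.node 1 (.one ⟨3705, 0, 4⟩) (.one ⟨6139, 0, 3⟩))) (.node 2 (.node 1 (.one ⟨8055, 1, 5⟩) (.one ⟨11769, 1, 2⟩)) (.node 1 (.one ⟨10447, 2, 4⟩) (.one ⟨15179, 2, 5⟩)))) (.node 4 (.node 2 (.node 1 (.one ⟨10427, 1, 5⟩) (.one ⟨13846, 3, 5⟩)) (.node 1 (.one ⟨7735, 2, 5⟩) (.one ⟨2805, 3, 3⟩))) (.node 2 (.node 1 (.one ⟨10985, 3, 3⟩) (.one ⟨10113, 3, 5⟩)) (.node 1 (.one ⟨1620, 3, 6⟩) (.one ⟨11180, 2, 5⟩))))) (.node 8 (.node 4 (.node 2 (.node 1 (.one ⟨7984, 0, 4⟩) (.one ⟨5525, 0, 4⟩)) (.node 1 (.one ⟨10397, 2, 5⟩) (.one ⟨6727, 3, 4⟩))) (.node 2 (.node 1 (.one ⟨11779, 1, 4⟩) (.one ⟨12001, 3, 5⟩))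 (.node 1 (.one ⟨13750, 2, 4⟩) (.one ⟨15892, 2, 5⟩)))) (.node 4 (.node 2 (.node 1 (.one ⟨16894, 1, 5⟩) (.one ⟨17065, 2, 5⟩)) (.node 1 (.one ⟨6245, 1, 5⟩) (.one ⟨3022, 0, 6⟩))) (.node 2 (.node 1 (.one ⟨12393, 2, 5⟩) (.one ⟨1502, 3, 3⟩)) (.node 1 (.one ⟨12995, 2, 6⟩) (.one ⟨3893, 0, 4⟩)))))) (.node 16 (.node 8 (.node 4 (.node 2 (.node 1 (.one ⟨15005, 1, 5⟩) (.one ⟨7698, 3, 4⟩)) (.node 1 (.one ⟨13841, 1, 3⟩) (.one ⟨13809, 2, 5⟩))) (.node 2 (.node 1 (.one ⟨11205, 2, 4⟩) (.one ⟨234, 2, 6⟩)) (.node 1 (.one ⟨12555, 3, 5⟩) (.one ⟨613, 1, 6⟩)))) (.node 4 (.node 2 (.node 1 (.one ⟨9316, 3, 3⟩) (.one ⟨9094, 1, 5⟩)) (.node 1 (.one ⟨8003, 3, 4⟩) (.one ⟨2603, 3, 5⟩))) (.node 2 (.node 1 (.one ⟨11674, 3, 3⟩) (.one ⟨16299, 3,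 4⟩)) (.node 1 (.one ⟨1727, 2, 4⟩) (.one ⟨2413, 3, 5⟩))))) (.node 8 (.node 4 (.node 2 (.node 1 (.one ⟨16468, 3, 5⟩) (.one ⟨3553, 1, 5⟩)) (.node 1 (.one ⟨14388, 3, 4⟩) (.one ⟨6022, 1, 4⟩))) (.node 2 (.node 1 (.one ⟨10252, 1, 5⟩) (.one ⟨9819, 3, 4⟩)) (.node 1 (.one ⟨8804, 3, 4⟩) (.one ⟨4461, 0, 5⟩)))) (.node 4 (.node 2 (.node 1 (.one ⟨15750, 2, 3⟩) (.one ⟨8214, 3, 5⟩)) (.node 1 (.one ⟨2727, 2, 4⟩) (.one ⟨16200, 2, 4⟩))) (.node 2 (.node 1 (.one ⟨8514, 0, 5⟩) (.one ⟨6128, 3, 4⟩)) (.node 1 (.one ⟨170, 0, 5⟩) (.one ⟨3615, 1, 4⟩)))))))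
def par4_16_2 : Arr Par :=
  (.node 32 (.node 16 (.node 8 (.node 4 (.node 2 (.node 1 (.one ⟨13028, 0, 2⟩) (.one ⟨4250, 1, 6⟩)) (.node 1 (.one ⟨14880, 3, 4⟩) (.one ⟨10669, 3, 5⟩))) (.node 2 (.node 1 (.one ⟨10997, 1, 3⟩) (.one ⟨3327, 2, 4⟩)) (.node 1 (.one ⟨3705, 2, 4⟩) (.one ⟨16202, 2, 5⟩)))) (.node 4 (.node 2 (.node 1 (.one ⟨16150, 1, 4⟩) (.one ⟨11063, 2, 4⟩)) (.node 1 (.one ⟨13698, 2, 3⟩) (.one ⟨4071, 2, 4⟩))) (.node 2 (.node 1 (.one ⟨3105, 3, 5⟩) (.one ⟨16113, 0, 3⟩)) (.node 1 (.one ⟨3920, 1, 3⟩) (.one ⟨4911, 3, 4⟩))))) (.node 8 (.node 4 (.node 2 (.node 1 (.one ⟨14312, 2, 5⟩) (.one ⟨2458, 2, 5⟩)) (.node 1 (.one ⟨16797, 1, 5⟩) (.one ⟨2679, 3, 5⟩))) (.node 2 (.node 1 (.one ⟨6764, 0, 5⟩) (.one ⟨2940, 1, 4⟩))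 (.node 1 (.one ⟨1097, 1, 5⟩) (.one ⟨10719, 3, 5⟩)))) (.node 4 (.node 2 (.node 1 (.one ⟨15963, 0, 5⟩) (.one ⟨12545, 2, 5⟩)) (.node 1 (.one ⟨7040, 3, 5⟩) (.one ⟨15674, 1, 3⟩))) (.node 2 (.node 1 (.one ⟨6530, 3, 4⟩) (.one ⟨10984, 3, 6⟩)) (.node 1 (.one ⟨8335, 1, 6⟩) (.one ⟨1118, 2, 6⟩)))))) (.node 16 (.node 8 (.node 4 (.node 2 (.node 1 (.one ⟨12105, 3, 7⟩) (.one ⟨4650, 0, 4⟩)) (.node 1 (.one ⟨8753, 0, 4⟩) (.one ⟨12297, 2, 5⟩))) (.node 2 (.node 1 (.one ⟨14102, 1, 4⟩) (.one ⟨8057, 1, 4⟩)) (.node 1 (.one ⟨2501, 1, 4⟩) (.one ⟨5178, 2, 3⟩)))) (.node 4 (.node 2 (.node 1 (.one ⟨4629, 3, 5⟩) (.one ⟨6938, 3, 5⟩)) (.node 1 (.one ⟨4542, 3, 5⟩) (.one ⟨6652, 0, 6⟩))) (.node 2 (.node 1 (.one ⟨5103, 2, 4⟩) (.one ⟨15988, 3, 4⟩))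 (.node 1 (.one ⟨9679, 3, 6⟩) (.one ⟨5246, 2, 3⟩))))) (.node 8 (.node 4 (.node 2 (.node 1 (.one ⟨11017, 3, 4⟩) (.one ⟨1994, 1, 3⟩)) (.node 1 (.one ⟨7079, 3, 5⟩) (.one ⟨5241, 2, 5⟩))) (.node 2 (.node 1 (.one ⟨6903, 1, 6⟩) (.one ⟨12852, 0, 4⟩)) (.node 1 (.one ⟨5510, 0, 3⟩) (.one ⟨8924, 3, 4⟩)))) (.node 4 (.node 2 (.node 1 (.one ⟨1594, 2, 4⟩) (.one ⟨14980, 3, 3⟩)) (.node 1 (.one ⟨15930, 2, 4⟩) (.one ⟨2796, 2, 4⟩))) (.node 2 (.node 1 (.one ⟨12477, 2, 4⟩) (.one ⟨16748, 2, 5⟩)) (.node 1 (.one ⟨11642, 3, 4⟩) (.one ⟨3283, 3, 4⟩)))))))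
def par4_16_3 : Arr Par :=
  (.node 32 (.node 16 (.node 8 (.node 4 (.node 2 (.node 1 (.one ⟨15781, 2, 5⟩) (.one ⟨13870, 0, 5⟩)) (.node 1 (.one ⟨2173, 0, 6⟩) (.one ⟨16121, 3, 5⟩))) (.node 2 (.node 1 (.one ⟨5164, 2, 3⟩) (.one ⟨6961, 3, 5⟩)) (.node 1 (.one ⟨5717, 2, 5⟩) (.one ⟨15708, 1, 6⟩)))) (.node 4 (.node 2 (.node 1 (.one ⟨9485, 1, 3⟩) (.one ⟨7392, 3, 4⟩)) (.node 1 (.one ⟨3610, 2, 5⟩) (.one ⟨14822, 0, 3⟩))) (.node 2 (.node 1 (.one ⟨8751, 2, 6⟩) (.one ⟨3041, 1, 5⟩)) (.node 1 (.one ⟨14346, 2, 4⟩) (.one ⟨10206, 3, 4⟩))))) (.node 8 (.node 4 (.node 2 (.node 1 (.one ⟨16026, 0, 6⟩) (.one ⟨4014, 3, 4⟩)) (.node 1 (.one ⟨2110, 3, 5⟩) (.one ⟨12801, 0, 4⟩))) (.node 2 (.node 1 (.one ⟨15235, 2, 6⟩) (.one ⟨11063, 1, 4⟩))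 (.node 1 (.one ⟨2243, 1, 6⟩) (.one ⟨9449, 1, 6⟩)))) (.node 4 (.node 2 (.node 1 (.one ⟨12128, 0, 1⟩) (.one ⟨8585, 2, 4⟩)) (.node 1 (.one ⟨10696, 0, 5⟩) (.one ⟨1344, 2, 6⟩))) (.node 2 (.node 1 (.one ⟨5939, 2, 3⟩) (.one ⟨3365, 3, 4⟩)) (.node 1 (.one ⟨3567, 2, 4⟩) (.one ⟨1315, 1, 6⟩)))))) (.node 16 (.node 8 (.node 4 (.node 2 (.node 1 (.one ⟨1278, 2, 5⟩) (.one ⟨3731, 2, 3⟩)) (.node 1 (.one ⟨16621, 1, 3⟩) (.one ⟨14928, 2, 5⟩))) (.node 2 (.node 1 (.one ⟨5504, 0, 5⟩) (.one ⟨6343, 1, 6⟩)) (.node 1 (.one ⟨491, 3, 4⟩) (.one ⟨9003, 2, 5⟩)))) (.node 4 (.node 2 (.node 1 (.one ⟨7676, 3, 4⟩) (.one ⟨6788, 1, 2⟩)) (.node 1 (.one ⟨6359, 3, 5⟩) (.one ⟨4976, 0, 5⟩))) (.node 2 (.node 1 (.one ⟨3771, 3, 4⟩) (.one ⟨6726, 1, 2⟩)) (.node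 1 (.one ⟨3602, 2, 4⟩) (.one ⟨1318, 1, 5⟩))))) (.node 8 (.node 4 (.node 2 (.node 1 (.one ⟨11391, 3, 5⟩) (.one ⟨11229, 1, 5⟩)) (.node 1 (.one ⟨8772, 2, 4⟩) (.one ⟨7788, 1, 6⟩))) (.node 2 (.node 1 (.one ⟨8791, 0, 4⟩) (.one ⟨9243, 0, 5⟩)) (.node 1 (.one ⟨2630, 1, 5⟩) (.one ⟨9352, 3, 4⟩)))) (.node 4 (.node 2 (.node 1 (.one ⟨2751, 2, 3⟩) (.one ⟨8169, 2, 1⟩)) (.node 1 (.one ⟨4912, 3, 2⟩) (.one ⟨1275, 0, 4⟩))) (.node 2 (.node 1 (.one ⟨4513, 2, 1⟩) (.one ⟨7049, 2, 5⟩)) (.node 1 (.one ⟨14050, 2, 5⟩) (.one ⟨4455, 3, 5⟩)))))))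
def par4_16_4 : Arr Par :=
  (.node 32 (.node 16 (.node 8 (.node 4 (.node 2 (.node 1 (.one ⟨5354, 0, 5⟩) (.one ⟨8582, 1, 4⟩)) (.node 1 (.one ⟨12765, 3, 6⟩) (.one ⟨6452, 1, 4⟩))) (.node 2 (.node 1 (.one ⟨15861, 1, 3⟩) (.one ⟨14414, 0, 4⟩)) (.node 1 (.one ⟨12193, 3, 4⟩) (.one ⟨13580, 0, 4⟩)))) (.node 4 (.node 2 (.node 1 (.one ⟨9696, 2, 4⟩) (.one ⟨10640, 3, 5⟩)) (.node 1 (.one ⟨1029, 1, 3⟩) (.one ⟨10644, 3, 3⟩))) (.node 2 (.node 1 (.one ⟨2438, 1, 4⟩) (.one ⟨4096, 0, 3⟩)) (.node 1 (.one ⟨4498, 0, 3⟩) (.one ⟨1718, 0, 4⟩))))) (.node 8 (.node 4 (.node 2 (.node 1 (.one ⟨4944, 3, 5⟩) (.one ⟨1754, 0, 5⟩)) (.node 1 (.one ⟨6967, 3, 4⟩) (.one ⟨7786, 2, 5⟩))) (.node 2 (.node 1 (.one ⟨6681, 3, 4⟩) (.one ⟨1922, 2, 3⟩)) (.node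 1 (.one ⟨14791, 1, 6⟩) (.one ⟨8202, 2, 6⟩)))) (.node 4 (.node 2 (.node 1 (.one ⟨9482, 1, 3⟩) (.one ⟨8206, 2, 5⟩)) (.node 1 (.one ⟨572, 3, 5⟩) (.one ⟨10593, 3, 6⟩))) (.node 2 (.node 1 (.one ⟨12896, 1, 4⟩) (.one ⟨10850, 3, 5⟩)) (.node 1 (.one ⟨5373, 3, 5⟩) (.one ⟨16664, 3, 4⟩)))))) (.node 16 (.node 8 (.node 4 (.node 2 (.node 1 (.one ⟨13475, 2, 4⟩) (.one ⟨13315, 3, 5⟩)) (.node 1 (.one ⟨13316, 3, 4⟩) (.one ⟨9640, 1, 2⟩))) (.node 2 (.node 1 (.one ⟨13313, 3, 4⟩) (.one ⟨15226, 0, 4⟩)) (.node 1 (.one ⟨16668, 3, 5⟩) (.one ⟨1956, 3, 5⟩)))) (.node 4 (.node 2 (.node 1 (.one ⟨16767, 2, 3⟩) (.one ⟨11519, 2, 3⟩)) (.node 1 (.one ⟨9968, 3, 4⟩) (.one ⟨7973, 2, 5⟩))) (.node 2 (.node 1 (.one ⟨2788, 1, 4⟩) (.one ⟨3878, 1, 6⟩)) (.node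 1 (.one ⟨9524, 3, 4⟩) (.one ⟨10782, 3, 3⟩))))) (.node 8 (.node 4 (.node 2 (.node 1 (.one ⟨11000, 3, 5⟩) (.one ⟨14245, 3, 3⟩)) (.node 1 (.one ⟨15624, 3, 2⟩) (.one ⟨6812, 3, 5⟩))) (.node 2 (.node 1 (.one ⟨6241, 3, 4⟩) (.one ⟨3331, 3, 4⟩)) (.node 1 (.one ⟨7646, 0, 3⟩) (.one ⟨5590, 2, 4⟩)))) (.node 4 (.node 2 (.node 1 (.one ⟨1791, 2, 7⟩) (.one ⟨329, 2, 2⟩)) (.node 1 (.one ⟨13961, 1, 5⟩) (.one ⟨1734, 2, 4⟩))) (.node 2 (.node 1 (.one ⟨7111, 3, 4⟩) (.one ⟨17160, 3, 5⟩)) (.node 1 (.one ⟨1607, 2, 5⟩) (.one ⟨11783, 3, 5⟩)))))))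
def par4_16_5 : Arr Par :=
  (.node 32 (.node 16 (.node 8 (.node 4 (.node 2 (.node 1 (.one ⟨3796, 0, 5⟩) (.one ⟨7917, 3, 4⟩)) (.node 1 (.one ⟨12072, 2, 4⟩) (.one ⟨1608, 2, 3⟩))) (.node 2 (.node 1 (.one ⟨8732, 0, 3⟩) (.one ⟨2885, 3, 4⟩)) (.node 1 (.one ⟨3130, 2, 3⟩) (.one ⟨4850, 3, 6⟩)))) (.node 4 (.node 2 (.node 1 (.one ⟨900, 0, 6⟩) (.one ⟨8863, 0, 3⟩)) (.node 1 (.one ⟨387, 0, 5⟩) (.one ⟨15528, 1, 5⟩))) (.node 2 (.node 1 (.one ⟨11773, 1, 5⟩) (.one ⟨11785, 3, 6⟩)) (.node 1 (.one ⟨1047, 0, 6⟩) (.one ⟨606, 3, 4⟩))))) (.node 8 (.node 4 (.node 2 (.node 1 (.one ⟨13412, 1, 4⟩) (.one ⟨144, 3, 3⟩)) (.node 1 (.one ⟨338, 1, 4⟩) (.one ⟨7630, 1, 4⟩))) (.node 2 (.node 1 (.one ⟨775, 2, 5⟩) (.one ⟨15609, 1, 4⟩)) (.node 1 (.one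 ⟨3127, 0, 5⟩) (.one ⟨14724, 2, 4⟩)))) (.node 4 (.node 2 (.node 1 (.one ⟨10626, 3, 5⟩) (.one ⟨1043, 2, 5⟩)) (.node 1 (.one ⟨8102, 3, 6⟩) (.one ⟨16205, 3, 5⟩))) (.node 2 (.node 1 (.one ⟨7632, 3, 5⟩) (.one ⟨15286, 0, 3⟩)) (.node 1 (.one ⟨5116, 0, 5⟩) (.one ⟨3044, 0, 2⟩)))))) (.node 16 (.node 8 (.node 4 (.node 2 (.node 1 (.one ⟨1011, 3, 5⟩) (.one ⟨15012, 0, 5⟩)) (.node 1 (.one ⟨7602, 1, 5⟩) (.one ⟨10318, 3, 4⟩))) (.node 2 (.node 1 (.one ⟨1682, 3, 5⟩) (.one ⟨11786, 3, 5⟩)) (.node 1 (.one ⟨4248, 3, 4⟩) (.one ⟨14505, 2, 4⟩)))) (.node 4 (.node 2 (.node 1 (.one ⟨14876, 2, 4⟩) (.one ⟨5880, 0, 4⟩)) (.node 1 (.one ⟨7973, 3, 5⟩) (.one ⟨13624, 3, 4⟩))) (.node 2 (.node 1 (.one ⟨7734, 3, 4⟩) (.one ⟨3444, 2, 4⟩)) (.node 1 (.one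 ⟨5992, 1, 5⟩) (.one ⟨1203, 3, 5⟩))))) (.node 8 (.node 4 (.node 2 (.node 1 (.one ⟨2309, 1, 4⟩) (.one ⟨9954, 2, 5⟩)) (.node 1 (.one ⟨607, 3, 4⟩) (.one ⟨10279, 1, 5⟩))) (.node 2 (.node 1 (.one ⟨2707, 3, 6⟩) (.one ⟨2720, 3, 4⟩)) (.node 1 (.one ⟨2683, 3, 3⟩) (.one ⟨11504, 3, 4⟩)))) (.node 4 (.node 2 (.node 1 (.one ⟨1365, 3, 5⟩) (.one ⟨14871, 3, 4⟩)) (.node 1 (.one ⟨6542, 3, 3⟩) (.one ⟨8199, 1, 5⟩))) (.node 2 (.node 1 (.one ⟨16981, 2, 3⟩) (.one ⟨11544, 3, 5⟩)) (.node 1 (.one ⟨739, 3, 5⟩) (.one ⟨13919, 0, 2⟩)))))))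
def par4_16_6 : Arr Par :=
  (.node 32 (.node 16 (.node 8 (.node 4 (.node 2 (.node 1 (.one ⟨1241, 3, 4⟩) (.one ⟨5838, 0, 4⟩)) (.node 1 (.one ⟨1296, 0, 4⟩) (.one ⟨10694, 3, 5⟩))) (.node 2 (.node 1 (.one ⟨5501, 1, 2⟩) (.one ⟨16840, 0, 4⟩)) (.node 1 (.one ⟨16953, 2, 4⟩) (.one ⟨14456, 3, 5⟩)))) (.node 4 (.node 2 (.node 1 (.one ⟨13289, 0, 4⟩) (.one ⟨12311, 2, 3⟩)) (.node 1 (.one ⟨5148, 2, 6⟩) (.one ⟨12932, 2, 5⟩))) (.node 2 (.node 1 (.one ⟨2827, 3, 5⟩) (.one ⟨11650, 1, 5⟩)) (.node 1 (.one ⟨2428, 3, 5⟩) (.one ⟨14785, 2, 6⟩))))) (.node 8 (.node 4 (.node 2 (.node 1 (.one ⟨2205, 1, 3⟩) (.one ⟨2308, 1, 6⟩)) (.node 1 (.one ⟨4266, 3, 5⟩) (.one ⟨11948, 3, 6⟩))) (.node 2 (.node 1 (.one ⟨12375, 1, 3⟩) (.one ⟨1909, 3, 5⟩))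 (.node 1 (.one ⟨1009, 3, 5⟩) (.one ⟨5981, 0, 2⟩)))) (.node 4 (.node 2 (.node 1 (.one ⟨4805, 1, 3⟩) (.one ⟨8804, 0, 4⟩)) (.node 1 (.one ⟨14335, 3, 5⟩) (.one ⟨16057, 1, 3⟩))) (.node 2 (.node 1 (.one ⟨306, 3, 5⟩) (.one ⟨7583, 3, 4⟩)) (.node 1 (.one ⟨9847, 1, 4⟩) (.one ⟨1477, 2, 4⟩)))))) (.node 16 (.node 8 (.node 4 (.node 2 (.node 1 (.one ⟨15651, 1, 4⟩) (.one ⟨11922, 3, 5⟩)) (.node 1 (.one ⟨5558, 0, 4⟩) (.one ⟨16121, 1, 5⟩))) (.node 2 (.node 1 (.one ⟨5235, 1, 5⟩) (.one ⟨2571, 2, 4⟩)) (.node 1 (.one ⟨7757, 1, 6⟩) (.one ⟨15893, 2, 4⟩)))) (.node 4 (.node 2 (.node 1 (.one ⟨1040, 1, 5⟩) (.one ⟨9813, 3, 4⟩)) (.node 1 (.one ⟨261, 1, 5⟩) (.one ⟨2101, 3, 5⟩))) (.node 2 (.node 1 (.one ⟨7241, 2, 5⟩) (.one ⟨1587, 3, 5⟩)) (.node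 1 (.one ⟨7024, 3, 6⟩) (.one ⟨16084, 3, 5⟩))))) (.node 8 (.node 4 (.node 2 (.node 1 (.one ⟨13552, 3, 4⟩) (.one ⟨4132, 1, 5⟩)) (.node 1 (.one ⟨11171, 2, 6⟩) (.one ⟨6427, 3, 3⟩))) (.node 2 (.node 1 (.one ⟨16275, 0, 4⟩) (.one ⟨905, 3, 5⟩)) (.node 1 (.one ⟨12036, 2, 3⟩) (.one ⟨10749, 2, 5⟩)))) (.node 4 (.node 2 (.node 1 (.one ⟨15467, 0, 4⟩) (.one ⟨13779, 2, 6⟩)) (.node 1 (.one ⟨2741, 3, 4⟩) (.one ⟨6851, 2, 4⟩))) (.node 2 (.node 1 (.one ⟨11167, 2, 4⟩) (.one ⟨1045, 3, 4⟩)) (.node 1 (.one ⟨15509, 2, 5⟩) (.one ⟨12656, 3, 4⟩)))))))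
def par4_16_7 : Arr Par :=
  (.node 32 (.node 16 (.node 8 (.node 4 (.node 2 (.node 1 (.one ⟨14419, 2, 5⟩) (.one ⟨4982, 2, 2⟩)) (.node 1 (.one ⟨6908, 2, 4⟩) (.one ⟨14512, 2, 4⟩))) (.node 2 (.node 1 (.one ⟨13298, 1, 5⟩) (.one ⟨6704, 2, 4⟩)) (.node 1 (.one ⟨11081, 1, 4⟩) (.one ⟨13574, 3, 6⟩)))) (.node 4 (.node 2 (.node 1 (.one ⟨16134, 3, 3⟩) (.one ⟨3372, 2, 4⟩)) (.node 1 (.one ⟨6787, 3, 5⟩) (.one ⟨15483, 2, 5⟩))) (.node 2 (.node 1 (.one ⟨7212, 1, 5⟩) (.one ⟨12253, 1, 5⟩)) (.node 1 (.one ⟨11628, 0, 3⟩) (.one ⟨13658, 1, 4⟩))))) (.node 8 (.node 4 (.node 2 (.node 1 (.one ⟨7944, 3, 6⟩) (.one ⟨3973, 3, 5⟩)) (.node 1 (.one ⟨4660, 3, 5⟩) (.one ⟨16835, 2, 5⟩))) (.node 2 (.node 1 (.one ⟨7549, 2, 3⟩) (.one ⟨11211, 3, 4⟩))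 (.node 1 (.one ⟨9220, 3, 4⟩) (.one ⟨8873, 2, 6⟩)))) (.node 4 (.node 2 (.node 1 (.one ⟨11205, 1, 4⟩) (.one ⟨6668, 2, 5⟩)) (.node 1 (.one ⟨4871, 2, 5⟩) (.one ⟨15000, 0, 3⟩))) (.node 2 (.node 1 (.one ⟨16043, 0, 4⟩) (.one ⟨517, 0, 4⟩)) (.node 1 (.one ⟨1132, 3, 3⟩) (.one ⟨5163, 0, 5⟩)))))) (.node 16 (.node 8 (.node 4 (.node 2 (.node 1 (.one ⟨4539, 0, 5⟩) (.one ⟨14902, 1, 5⟩)) (.node 1 (.one ⟨10974, 2, 3⟩) (.one ⟨15718, 2, 5⟩))) (.node 2 (.node 1 (.one ⟨2343, 0, 5⟩) (.one ⟨12910, 2, 4⟩)) (.node 1 (.one ⟨11906, 0, 4⟩) (.one ⟨13716, 2, 3⟩)))) (.node 4 (.node 2 (.node 1 (.one ⟨7585, 1, 5⟩) (.one ⟨7682, 3, 5⟩)) (.node 1 (.one ⟨5224, 1, 5⟩) (.one ⟨2739, 1, 2⟩))) (.node 2 (.node 1 (.one ⟨8429, 1, 2⟩) (.one ⟨8585, 1, 4⟩))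 (.node 1 (.one ⟨3694, 2, 5⟩) (.one ⟨3197, 1, 5⟩))))) (.node 8 (.node 4 (.node 2 (.node 1 (.one ⟨2731, 1, 3⟩) (.one ⟨14538, 3, 5⟩)) (.node 1 (.one ⟨3090, 2, 3⟩) (.one ⟨12689, 0, 3⟩))) (.node 2 (.node 1 (.one ⟨9632, 3, 4⟩) (.one ⟨3552, 1, 5⟩)) (.node 1 (.one ⟨334, 0, 3⟩) (.one ⟨2556, 0, 4⟩)))) (.node 4 (.node 2 (.node 1 (.one ⟨13761, 1, 4⟩) (.one ⟨16083, 0, 5⟩)) (.node 1 (.one ⟨9603, 3, 5⟩) (.one ⟨7659, 1, 4⟩))) (.node 2 (.node 1 (.one ⟨11781, 2, 5⟩) (.one ⟨1329, 3, 5⟩)) (.node 1 (.one ⟨2077, 3, 4⟩) (.one ⟨14616, 3, 5⟩)))))))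
def par4_16_8 : Arr Par :=
  (.node 32 (.node 16 (.node 8 (.node 4 (.node 2 (.node 1 (.one ⟨14909, 1, 4⟩) (.one ⟨6755, 0, 4⟩)) (.node 1 (.one ⟨10668, 3, 5⟩) (.one ⟨3610, 1, 5⟩))) (.node 2 (.node 1 (.one ⟨9863, 3, 5⟩) (.one ⟨13895, 3, 6⟩)) (.node 1 (.one ⟨13606, 2, 3⟩) (.one ⟨10439, 3, 5⟩)))) (.node 4 (.node 2 (.node 1 (.one ⟨15722, 2, 5⟩) (.one ⟨10851, 1, 4⟩)) (.node 1 (.one ⟨1235, 2, 2⟩) (.one ⟨11625, 0, 4⟩))) (.node 2 (.node 1 (.one ⟨15305, 1, 6⟩) (.one ⟨15671, 2, 4⟩)) (.node 1 (.one ⟨10917, 0, 5⟩) (.one ⟨14539, 0, 5⟩))))) (.node 8 (.node 4 (.node 2 (.node 1 (.one ⟨13763, 0, 6⟩) (.one ⟨15540, 2, 5⟩)) (.node 1 (.one ⟨10534, 0, 4⟩) (.one ⟨15570, 2, 4⟩))) (.node 2 (.node 1 (.one ⟨1507, 0, 4⟩) (.one ⟨2536, 3,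 5⟩)) (.node 1 (.one ⟨16293, 3, 4⟩) (.one ⟨5537, 2, 5⟩)))) (.node 4 (.node 2 (.node 1 (.one ⟨14388, 2, 4⟩) (.one ⟨11630, 0, 5⟩)) (.node 1 (.one ⟨2772, 1, 6⟩) (.one ⟨340, 3, 4⟩))) (.node 2 (.node 1 (.one ⟨9911, 1, 3⟩) (.one ⟨6240, 2, 4⟩)) (.node 1 (.one ⟨14193, 3, 5⟩) (.one ⟨5863, 2, 5⟩)))))) (.node 16 (.node 8 (.node 4 (.node 2 (.node 1 (.one ⟨1728, 3, 3⟩) (.one ⟨1727, 3, 4⟩)) (.node 1 (.one ⟨6526, 3, 6⟩) (.one ⟨7037, 0, 4⟩))) (.node 2 (.node 1 (.one ⟨1730, 3, 2⟩) (.one ⟨1729, 3, 2⟩)) (.node 1 (.one ⟨6988, 0, 3⟩) (.one ⟨2604, 0, 5⟩)))) (.node 4 (.node 2 (.node 1 (.one ⟨15973, 3, 5⟩) (.one ⟨16301, 3, 5⟩)) (.node 1 (.one ⟨4359, 2, 4⟩) (.one ⟨7394, 3, 4⟩))) (.node 2 (.node 1 (.one ⟨9988, 1, 5⟩) (.one ⟨16988, 0,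 4⟩)) (.node 1 (.one ⟨16160, 1, 5⟩) (.one ⟨5794, 2, 4⟩))))) (.node 8 (.node 4 (.node 2 (.node 1 (.one ⟨13933, 2, 5⟩) (.one ⟨9544, 2, 4⟩)) (.node 1 (.one ⟨16645, 0, 5⟩) (.one ⟨16655, 0, 5⟩))) (.node 2 (.node 1 (.one ⟨11725, 2, 4⟩) (.one ⟨9314, 1, 4⟩)) (.node 1 (.one ⟨12891, 3, 4⟩) (.one ⟨954, 1, 5⟩)))) (.node 4 (.node 2 (.node 1 (.one ⟨13703, 2, 4⟩) (.one ⟨7312, 3, 3⟩)) (.node 1 (.one ⟨480, 3, 5⟩) (.one ⟨16652, 3, 5⟩))) (.node 2 (.node 1 (.one ⟨12398, 3, 3⟩) (.one ⟨8822, 2, 4⟩)) (.node 1 (.one ⟨16252, 0, 5⟩) (.one ⟨10371, 3, 2⟩)))))))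
def par4_16_9 : Arr Par :=
  (.node 32 (.node 16 (.node 8 (.node 4 (.node 2 (.node 1 (.one ⟨9853, 2, 3⟩) (.one ⟨15528, 0, 5⟩)) (.node 1 (.one ⟨16772, 0, 3⟩) (.one ⟨8920, 3, 6⟩))) (.node 2 (.node 1 (.one ⟨16107, 2, 5⟩) (.one ⟨13490, 2, 4⟩)) (.node 1 (.one ⟨15051, 1, 5⟩) (.one ⟨11538, 2, 5⟩)))) (.node 4 (.node 2 (.node 1 (.one ⟨11337, 2, 3⟩) (.one ⟨5047, 3, 5⟩)) (.node 1 (.one ⟨14483, 3, 7⟩) (.one ⟨4773, 1, 5⟩))) (.node 2 (.node 1 (.one ⟨13761, 3, 4⟩) (.one ⟨5791, 2, 5⟩)) (.node 1 (.one ⟨6156, 2, 3⟩) (.one ⟨5786, 3, 5⟩))))) (.node 8 (.node 4 (.node 2 (.node 1 (.one ⟨5784, 3, 2⟩) (.one ⟨5783, 3, 3⟩)) (.node 1 (.one ⟨5785, 3, 6⟩) (.one ⟨13130, 2, 4⟩))) (.node 2 (.node 1 (.one ⟨5788, 3, 2⟩) (.one ⟨5787, 3, 2⟩)) (.node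 1 (.one ⟨5789, 3, 6⟩) (.one ⟨15969, 2, 5⟩)))) (.node 4 (.node 2 (.node 1 (.one ⟨1265, 3, 4⟩) (.one ⟨9927, 3, 3⟩)) (.node 1 (.one ⟨8025, 2, 4⟩) (.one ⟨9794, 0, 4⟩))) (.node 2 (.node 1 (.one ⟨11428, 0, 3⟩) (.one ⟨6204, 1, 4⟩)) (.node 1 (.one ⟨9892, 2, 5⟩) (.one ⟨6419, 0, 3⟩)))))) (.node 16 (.node 8 (.node 4 (.node 2 (.node 1 (.one ⟨11212, 3, 4⟩) (.one ⟨3983, 0, 4⟩)) (.node 1 (.one ⟨1011, 2, 5⟩) (.one ⟨8448, 2, 5⟩))) (.node 2 (.node 1 (.one ⟨16933, 2, 3⟩) (.one ⟨16934, 0, 4⟩)) (.node 1 (.one ⟨10914, 2, 4⟩) (.one ⟨12076, 0, 4⟩)))) (.node 4 (.node 2 (.node 1 (.one ⟨8433, 0, 5⟩) (.one ⟨9307, 3, 5⟩)) (.node 1 (.one ⟨5310, 0, 5⟩) (.one ⟨9946, 2, 5⟩))) (.node 2 (.node 1 (.one ⟨6457, 0, 5⟩) (.one ⟨4647, 2, 3⟩)) (.node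 1 (.one ⟨3586, 1, 1⟩) (.one ⟨15386, 0, 4⟩))))) (.node 8 (.node 4 (.node 2 (.node 1 (.one ⟨1285, 1, 5⟩) (.one ⟨7424, 2, 4⟩)) (.node 1 (.one ⟨15051, 3, 5⟩) (.one ⟨13125, 1, 5⟩))) (.node 2 (.node 1 (.one ⟨17154, 3, 5⟩) (.one ⟨7583, 1, 4⟩)) (.node 1 (.one ⟨8015, 2, 4⟩) (.one ⟨10746, 3, 4⟩)))) (.node 4 (.node 2 (.node 1 (.one ⟨15041, 2, 2⟩) (.one ⟨479, 3, 4⟩)) (.node 1 (.one ⟨12873, 3, 4⟩) (.one ⟨8119, 3, 3⟩))) (.node 2 (.node 1 (.one ⟨15188, 3, 4⟩) (.one ⟨11989, 2, 5⟩)) (.node 1 (.one ⟨4410, 2, 3⟩) (.one ⟨3244, 3, 3⟩)))))))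
def par4_16_10 : Arr Par :=
  (.node 32 (.node 16 (.node 8 (.node 4 (.node 2 (.node 1 (.one ⟨15428, 1, 4⟩) (.one ⟨850, 2, 3⟩)) (.node 1 (.one ⟨9981, 2, 2⟩) (.one ⟨14271, 0, 5⟩))) (.node 2 (.node 1 (.one ⟨13629, 1, 6⟩) (.one ⟨13930, 1, 3⟩)) (.node 1 (.one ⟨17049, 3, 4⟩) (.one ⟨11931, 0, 3⟩)))) (.node 4 (.node 2 (.node 1 (.one ⟨7253, 3, 5⟩) (.one ⟨15112, 2, 5⟩)) (.node 1 (.one ⟨5783, 2, 3⟩) (.one ⟨7115, 3, 5⟩))) (.node 2 (.node 1 (.one ⟨11156, 2, 5⟩) (.one ⟨10580, 0, 4⟩)) (.node 1 (.one ⟨15373, 3, 6⟩) (.one ⟨5002, 3, 5⟩))))) (.node 8 (.node 4 (.node 2 (.node 1 (.one ⟨7559, 1, 5⟩) (.one ⟨15755, 3, 5⟩)) (.node 1 (.one ⟨7071, 2, 3⟩) (.one ⟨6667, 2, 3⟩))) (.node 2 (.node 1 (.one ⟨15989, 0, 3⟩) (.one ⟨13968, 0, 6⟩))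 (.node 1 (.one ⟨9961, 3, 5⟩) (.one ⟨14297, 3, 4⟩)))) (.node 4 (.node 2 (.node 1 (.one ⟨3602, 3, 4⟩) (.one ⟨15756, 3, 3⟩)) (.node 1 (.one ⟨2438, 3, 4⟩) (.one ⟨12957, 3, 3⟩))) (.node 2 (.node 1 (.one ⟨7138, 3, 6⟩) (.one ⟨1197, 1, 5⟩)) (.node 1 (.one ⟨8450, 3, 4⟩) (.one ⟨14169, 3, 5⟩)))))) (.node 16 (.node 8 (.node 4 (.node 2 (.node 1 (.one ⟨6424, 0, 4⟩) (.one ⟨7528, 3, 5⟩)) (.node 1 (.one ⟨5510, 3, 3⟩) (.one ⟨11956, 0, 5⟩))) (.node 2 (.node 1 (.one ⟨1183, 1, 4⟩) (.one ⟨8207, 0, 5⟩)) (.node 1 (.one ⟨2093, 0, 4⟩) (.one ⟨12971, 3, 5⟩)))) (.node 4 (.node 2 (.node 1 (.one ⟨16280, 3, 6⟩) (.one ⟨9504, 2, 4⟩)) (.node 1 (.one ⟨16194, 3, 4⟩) (.one ⟨15970, 2, 4⟩))) (.node 2 (.node 1 (.one ⟨7549, 0, 3⟩) (.one ⟨7226, 3, 6⟩))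 (.node 1 (.one ⟨736, 0, 3⟩) (.one ⟨15627, 3, 6⟩))))) (.node 8 (.node 4 (.node 2 (.node 1 (.one ⟨6122, 1, 4⟩) (.one ⟨14449, 3, 2⟩)) (.node 1 (.one ⟨13606, 3, 3⟩) (.one ⟨16092, 3, 5⟩))) (.node 2 (.node 1 (.one ⟨14838, 1, 4⟩) (.one ⟨16482, 3, 4⟩)) (.node 1 (.one ⟨6206, 1, 4⟩) (.one ⟨11391, 0, 5⟩)))) (.node 4 (.node 2 (.node 1 (.one ⟨8591, 3, 5⟩) (.one ⟨12771, 3, 5⟩)) (.node 1 (.one ⟨1678, 2, 7⟩) (.one ⟨4193, 1, 4⟩))) (.node 2 (.node 1 (.one ⟨8621, 3, 5⟩) (.one ⟨12729, 3, 3⟩)) (.node 1 (.one ⟨4239, 1, 5⟩) (.one ⟨70, 3, 4⟩)))))))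
def par4_16_11 : Arr Par :=
  (.node 32 (.node 16 (.node 8 (.node 4 (.node 2 (.node 1 (.one ⟨16020, 2, 4⟩) (.one ⟨11234, 1, 5⟩)) (.node 1 (.one ⟨7059, 0, 4⟩) (.one ⟨16221, 2, 6⟩))) (.node 2 (.node 1 (.one ⟨690, 3, 5⟩) (.one ⟨11209, 1, 6⟩)) (.node 1 (.one ⟨5673, 0, 4⟩) (.one ⟨16128, 1, 4⟩)))) (.node 4 (.node 2 (.node 1 (.one ⟨12212, 2, 5⟩) (.one ⟨6522, 2, 5⟩)) (.node 1 (.one ⟨16956, 3, 4⟩) (.one ⟨2995, 1, 1⟩))) (.node 2 (.node 1 (.one ⟨7247, 3, 5⟩) (.one ⟨13734, 3, 6⟩)) (.node 1 (.one ⟨11218, 3, 4⟩) (.one ⟨7338, 3, 4⟩))))) (.node 8 (.node 4 (.node 2 (.node 1 (.one ⟨2726, 0, 5⟩) (.one ⟨6686, 3, 6⟩)) (.node 1 (.one ⟨13888, 2, 5⟩) (.one ⟨4614, 0, 5⟩))) (.node 2 (.node 1 (.one ⟨2239, 3, 2⟩) (.one ⟨15603, 0, 5⟩))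 (.node 1 (.one ⟨15276, 0, 3⟩) (.one ⟨4089, 2, 3⟩)))) (.node 4 (.node 2 (.node 1 (.one ⟨10696, 1, 5⟩) (.one ⟨5445, 0, 4⟩)) (.node 1 (.one ⟨1387, 1, 4⟩) (.one ⟨15544, 1, 4⟩))) (.node 2 (.node 1 (.one ⟨15900, 0, 5⟩) (.one ⟨3088, 3, 5⟩)) (.node 1 (.one ⟨9946, 1, 5⟩) (.one ⟨8829, 3, 4⟩)))))) (.node 16 (.node 8 (.node 4 (.node 2 (.node 1 (.one ⟨3339, 3, 3⟩) (.one ⟨7754, 3, 4⟩)) (.node 1 (.one ⟨1102, 3, 3⟩) (.one ⟨11091, 1, 3⟩))) (.node 2 (.node 1 (.one ⟨7687, 2, 4⟩) (.one ⟨4058, 1, 3⟩)) (.node 1 (.one ⟨13436, 1, 3⟩) (.one ⟨1406, 1, 6⟩)))) (.node 4 (.node 2 (.node 1 (.one ⟨6544, 3, 3⟩) (.one ⟨4473, 3, 4⟩)) (.node 1 (.one ⟨15395, 1, 3⟩) (.one ⟨8886, 2, 5⟩))) (.node 2 (.node 1 (.one ⟨109, 3, 4⟩) (.one ⟨13292, 2, 5⟩))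 (.node 1 (.one ⟨8685, 3, 5⟩) (.one ⟨14203, 2, 5⟩))))) (.node 8 (.node 4 (.node 2 (.node 1 (.one ⟨8045, 2, 4⟩) (.one ⟨842, 3, 4⟩)) (.node 1 (.one ⟨762, 1, 5⟩) (.one ⟨15645, 2, 4⟩))) (.node 2 (.node 1 (.one ⟨15569, 0, 4⟩) (.one ⟨14106, 3, 6⟩)) (.node 1 (.one ⟨6931, 1, 4⟩) (.one ⟨575, 3, 5⟩)))) (.node 4 (.node 2 (.node 1 (.one ⟨6732, 1, 4⟩) (.one ⟨13297, 3, 5⟩)) (.node 1 (.one ⟨9443, 3, 5⟩) (.one ⟨5051, 1, 4⟩))) (.node 2 (.node 1 (.one ⟨16887, 2, 5⟩) (.one ⟨6832, 2, 4⟩)) (.node 1 (.one ⟨9432, 1, 4⟩) (.one ⟨14228, 0, 4⟩)))))))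
def par4_16_12 : Arr Par :=
  (.node 23 (.node 11 (.node 5 (.node 2 (.node 1 (.one ⟨1840, 2, 5⟩) (.one ⟨10822, 3, 5⟩)) (.node 1 (.one ⟨2501, 3, 4⟩) (.node 1 (.one ⟨6755, 3, 4⟩) (.one ⟨16996, 0, 4⟩)))) (.node 3 (.node 1 (.one ⟨238, 1, 5⟩) (.node 1 (.one ⟨2118, 3, 5⟩) (.one ⟨4494, 2, 5⟩))) (.node 1 (.one ⟨1959, 2, 4⟩) (.node 1 (.one ⟨11453, 1, 4⟩) (.one ⟨3114, 0, 6⟩))))) (.node 6 (.node 3 (.node 1 (.one ⟨4993, 2, 5⟩) (.node 1 (.one ⟨13212, 3, 5⟩) (.one ⟨7758, 2, 3⟩))) (.node 1 (.one ⟨7687, 3, 4⟩) (.node 1 (.one ⟨8056, 3, 5⟩) (.one ⟨16892, 3, 6⟩)))) (.node 3 (.node 1 (.one ⟨4994, 2, 5⟩) (.node 1 (.one ⟨5235, 0, 5⟩) (.one ⟨10161, 1, 5⟩))) (.node 1 (.one ⟨11547, 3, 6⟩) (.node 1 (.one ⟨9660, 2, 4⟩) (.one ⟨9425, 1,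 4⟩)))))) (.node 12 (.node 6 (.node 3 (.node 1 (.one ⟨10036, 0, 5⟩) (.node 1 (.one ⟨16680, 2, 4⟩) (.one ⟨684, 3, 6⟩))) (.node 1 (.one ⟨8520, 2, 4⟩) (.node 1 (.one ⟨3280, 3, 4⟩) (.one ⟨7392, 1, 4⟩)))) (.node 3 (.node 1 (.one ⟨7393, 1, 5⟩) (.node 1 (.one ⟨9526, 2, 4⟩) (.one ⟨8490, 0, 4⟩))) (.node 1 (.one ⟨4183, 0, 4⟩) (.node 1 (.one ⟨9971, 0, 4⟩) (.one ⟨6757, 3, 5⟩))))) (.node 6 (.node 3 (.node 1 (.one ⟨7252, 2, 5⟩) (.node 1 (.one ⟨7581, 0, 2⟩) (.one ⟨16681, 0, 4⟩))) (.node 1 (.one ⟨12031, 0, 4⟩) (.node 1 (.one ⟨9796, 2, 5⟩) (.one ⟨2877, 2, 4⟩)))) (.node 3 (.node 1 (.one ⟨14728, 3, 4⟩) (.node 1 (.one ⟨10806, 2, 4⟩) (.one ⟨1811, 3, 4⟩))) (.node 1 (.one ⟨13486, 2, 4⟩) (.node 1 (.one ⟨7176, 0, 4⟩) (.one ⟨7164, 3,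 6⟩)))))))
def par4_16 : Arr Par :=
  (.node 384 (.node 192 (.node 64 par4_16_0 (.node 64 par4_16_1 par4_16_2)) (.node 64 par4_16_3 (.node 64 par4_16_4 par4_16_5))) (.node 192 (.node 64 par4_16_6 (.node 64 par4_16_7 par4_16_8)) (.node 128 (.node 64 par4_16_9 par4_16_10) (.node 64 par4_16_11 par4_16_12))))
def par4 : Arr Par :=
  (.node 8192 (.node 4096 (.node 2048 (.node 1024 par4_0 par4_1) (.node 1024 par4_2 par4_3)) (.node 2048 (.node 1024 par4_4 par4_5) (.node 1024 par4_6 par4_7))) (.node 4096 (.node 2048 (.node 1024 par4_8 par4_9) (.node 1024 par4_10 par4_11)) (.node 2048 (.node 1024 par4_12 par4_13) (.node 1024 par4_14 (.node 1024 par4_15 par4_16)))))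

end CfsgLib.ThIndex62.Data
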