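import Cfsg.Agent.ThIndex62.Closure

/-! Orbit forest of node 5 on the points. -/

set_option autoImplicit false
set_option maxRecDepth 100000

namespace CfsgLib.ThIndex62.Data

open CfsgLib.ThModel83

def par5_0_0 : Arr Par :=
  (.node 32 (.node 16 (.node 8 (.node 4 (.node 2 (.node 1 (.one ⟨9490, 1, 1⟩) (.one ⟨2868, 1, 0⟩)) (.node 1 (.one ⟨1202, 1, 1⟩) (.one ⟨2065, 0, 2⟩))) (.node 2 (.node 1 (.one ⟨5551, 1, 1⟩) (.one ⟨4040, 0, 3⟩)) (.node 1 (.one ⟨8252, 0, 3⟩) (.one ⟨4066, 0, 0⟩)))) (.node 4 (.node 2 (.node 1 (.one ⟨16114, 1, 2⟩) (.one ⟨6380, 0, 3⟩)) (.node 1 (.one ⟨1892, 0, 0⟩) (.one ⟨3720, 1, 0⟩))) (.node 2 (.node 1 (.one ⟨4628, 0, 3⟩) (.one ⟨4957, 1, 0⟩)) (.node 1 (.one ⟨14021, 0, 2⟩) (.one ⟨3721, 1, 0⟩)))))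 (.node 8 (.node 4 (.node 2 (.node 1 (.one ⟨13989, 0, 2⟩) (.one ⟨6129, 1, 1⟩)) (.node 1 (.one ⟨5945, 1, 1⟩) (.one ⟨3287, 1, 0⟩))) (.node 2 (.node 1 (.one ⟨6086, 0, 3⟩) (.one ⟨8714, 0, 3⟩)) (.node 1 (.one ⟨3944, 1, 2⟩) (.one ⟨7490, 0, 3⟩)))) (.node 4 (.node 2 (.node 1 (.one ⟨2537, 1, 0⟩) (.one ⟨3264, 1, 0⟩)) (.node 1 (.one ⟨11091, 0, 1⟩) (.one ⟨10152, 0, 3⟩))) (.node 2 (.node 1 (.one ⟨5676, 1, 2⟩) (.one ⟨9700, 0, 3⟩)) (.node 1 (.one ⟨12432, 0, 2⟩) (.one ⟨11932, 1, 2⟩)))))) (.node 16 (.node 8 (.node 4 (.node 2 (.node 1 (.one ⟨11763, 0, 3⟩) (.one ⟨16530, 0, 2⟩)) (.node 1 (.one ⟨15450, 0, 3⟩) (.one ⟨9197, 1, 1⟩))) (.node 2 (.node 1 (.one ⟨1564, 1, 1⟩) (.one ⟨1374, 1, 1⟩)) (.node 1 (.one ⟨9307, 1, 1⟩) (.one ⟨1848,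 1, 2⟩)))) (.node 4 (.node 2 (.node 1 (.one ⟨505, 0, 0⟩) (.one ⟨10704, 1, 2⟩)) (.node 1 (.one ⟨16099, 0, 3⟩) (.one ⟨1313, 1, 0⟩))) (.node 2 (.node 1 (.one ⟨6762, 1, 2⟩) (.one ⟨4393, 0, 3⟩)) (.node 1 (.one ⟨10572, 0, 3⟩) (.one ⟨13827, 0, 3⟩))))) (.node 8 (.node 4 (.node 2 (.node 1 (.one ⟨5668, 0, 3⟩) (.one ⟨4252, 1, 2⟩)) (.node 1 (.one ⟨13064, 1, 2⟩) (.one ⟨16259, 0, 2⟩))) (.node 2 (.node 1 (.one ⟨3595, 1, 0⟩) (.one ⟨16405, 0, 2⟩)) (.node 1 (.one ⟨1366, 1, 0⟩) (.one ⟨4382, 1, 2⟩)))) (.node 4 (.node 2 (.node 1 (.one ⟨3741, 1, 0⟩) (.one ⟨4424, 0, 2⟩)) (.node 1 (.one ⟨3928, 0, 2⟩) (.one ⟨5917, 0, 3⟩))) (.node 2 (.node 1 (.one ⟨2834, 1, 2⟩) (.one ⟨16654, 1, 2⟩)) (.node 1 (.one ⟨5504, 1, 0⟩) (.one ⟨9385, 1, 1⟩)))))))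
def par5_0_1 : Arr Par :=
  (.node 32 (.node 16 (.node 8 (.node 4 (.node 2 (.node 1 (.one ⟨3506, 1, 0⟩) (.one ⟨1348, 1, 0⟩)) (.node 1 (.one ⟨4841, 0, 0⟩) (.one ⟨4492, 1, 0⟩))) (.node 2 (.node 1 (.one ⟨1208, 1, 1⟩) (.one ⟨1860, 1, 0⟩)) (.node 1 (.one ⟨382, 1, 0⟩) (.one ⟨224, 1, 0⟩)))) (.node 4 (.node 2 (.node 1 (.one ⟨2533, 1, 0⟩) (.one ⟨1486, 1, 0⟩)) (.node 1 (.one ⟨1563, 1, 1⟩) (.one ⟨9610, 0, 1⟩))) (.node 2 (.node 1 (.one ⟨130, 0, 1⟩) (.one ⟨1627, 1, 0⟩)) (.node 1 (.one ⟨4262, 1, 0⟩) (.one ⟨449, 1, 0⟩))))) (.node 8 (.node 4 (.node 2 (.node 1 (.one ⟨9195, 1, 1⟩) (.one ⟨180, 1, 0⟩)) (.node 1 (.one ⟨2636, 1, 0⟩) (.one ⟨2260, 1, 0⟩))) (.node 2 (.node 1 (.one ⟨4537, 1, 0⟩) (.one ⟨2420, 1, 0⟩)) (.node 1 (.one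 ⟨2793, 1, 0⟩) (.one ⟨1365, 1, 1⟩)))) (.node 4 (.node 2 (.node 1 (.one ⟨9302, 1, 1⟩) (.one ⟨1217, 1, 0⟩)) (.node 1 (.one ⟨16419, 0, 2⟩) (.one ⟨13955, 0, 2⟩))) (.node 2 (.node 1 (.one ⟨1202, 0, 1⟩) (.one ⟨8851, 0, 1⟩)) (.node 1 (.one ⟨15142, 0, 3⟩) (.one ⟨1424, 1, 0⟩)))))) (.node 16 (.node 8 (.node 4 (.node 2 (.node 1 (.one ⟨1511, 0, 0⟩) (.one ⟨1875, 1, 0⟩)) (.node 1 (.one ⟨8074, 0, 3⟩) (.one ⟨2814, 1, 0⟩))) (.node 2 (.node 1 (.one ⟨1878, 1, 0⟩) (.one ⟨2378, 0, 3⟩)) (.node 1 (.one ⟨2916, 1, 0⟩) (.one ⟨8145, 0, 3⟩)))) (.node 4 (.node 2 (.node 1 (.one ⟨7619, 0, 2⟩) (.one ⟨2440, 0, 3⟩)) (.node 1 (.one ⟨1222, 0, 3⟩) (.one ⟨3188, 0, 3⟩))) (.node 2 (.node 1 (.one ⟨2530, 1, 0⟩) (.one ⟨11563, 0, 3⟩)) (.node 1 (.one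 ⟨13965, 0, 3⟩) (.one ⟨1872, 1, 1⟩))))) (.node 8 (.node 4 (.node 2 (.node 1 (.one ⟨1804, 0, 2⟩) (.one ⟨14918, 0, 2⟩)) (.node 1 (.one ⟨8558, 0, 1⟩) (.one ⟨10528, 1, 2⟩))) (.node 2 (.node 1 (.one ⟨4002, 1, 1⟩) (.one ⟨12020, 1, 1⟩)) (.node 1 (.one ⟨11876, 0, 2⟩) (.one ⟨7655, 0, 1⟩)))) (.node 4 (.node 2 (.node 1 (.one ⟨12849, 0, 3⟩) (.one ⟨4071, 0, 0⟩)) (.node 1 (.one ⟨5129, 1, 0⟩) (.one ⟨4064, 1, 2⟩))) (.node 2 (.node 1 (.one ⟨7453, 0, 3⟩) (.one ⟨2543, 0, 1⟩)) (.node 1 (.one ⟨16460, 0, 3⟩) (.one ⟨294, 0, 3⟩)))))))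
def par5_0_2 : Arr Par :=
  (.node 32 (.node 16 (.node 8 (.node 4 (.node 2 (.node 1 (.one ⟨6462, 0, 2⟩) (.one ⟨7842, 1, 1⟩)) (.node 1 (.one ⟨3375, 1, 0⟩) (.one ⟨1658, 1, 0⟩))) (.node 2 (.node 1 (.one ⟨6673, 0, 2⟩) (.one ⟨7139, 0, 3⟩)) (.node 1 (.one ⟨4527, 0, 1⟩) (.one ⟨6293, 0, 1⟩)))) (.node 4 (.node 2 (.node 1 (.one ⟨4908, 0, 1⟩) (.one ⟨2291, 1, 0⟩)) (.node 1 (.one ⟨444, 0, 0⟩) (.one ⟨8898, 1, 2⟩))) (.node 2 (.node 1 (.one ⟨12699, 0, 3⟩) (.one ⟨10776, 0, 3⟩)) (.node 1 (.one ⟨13928, 0, 1⟩) (.one ⟨7356, 0, 1⟩))))) (.node 8 (.node 4 (.node 2 (.node 1 (.one ⟨1565, 1, 0⟩) (.one ⟨2765, 1, 0⟩)) (.node 1 (.one ⟨303, 0, 2⟩) (.one ⟨3672, 1, 0⟩))) (.node 2 (.node 1 (.one ⟨8010, 1, 1⟩) (.one ⟨16070, 0, 3⟩)) (.node 1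 (.one ⟨8049, 0, 2⟩) (.one ⟨1346, 0, 2⟩)))) (.node 4 (.node 2 (.node 1 (.one ⟨16389, 1, 1⟩) (.one ⟨10709, 0, 2⟩)) (.node 1 (.one ⟨4747, 0, 1⟩) (.one ⟨11355, 1, 2⟩))) (.node 2 (.node 1 (.one ⟨16884, 1, 2⟩) (.one ⟨12460, 0, 3⟩)) (.node 1 (.one ⟨10131, 0, 3⟩) (.one ⟨4022, 0, 3⟩)))))) (.node 16 (.node 8 (.node 4 (.node 2 (.node 1 (.one ⟨3059, 0, 0⟩) (.one ⟨1064, 1, 0⟩)) (.node 1 (.one ⟨1117, 0, 1⟩) (.one ⟨15797, 0, 3⟩))) (.node 2 (.node 1 (.one ⟨3948, 0, 2⟩) (.one ⟨2196, 1, 1⟩)) (.node 1 (.one ⟨2913, 1, 0⟩) (.one ⟨12709, 1, 1⟩)))) (.node 4 (.node 2 (.node 1 (.one ⟨2334, 1, 0⟩) (.one ⟨13935, 0, 3⟩)) (.node 1 (.one ⟨13026, 0, 3⟩) (.one ⟨5994, 0, 3⟩))) (.node 2 (.node 1 (.one ⟨4792, 0, 3⟩) (.one ⟨3524, 0, 1⟩)) (.node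 1 (.one ⟨3773, 1, 1⟩) (.one ⟨2278, 1, 2⟩))))) (.node 8 (.node 4 (.node 2 (.node 1 (.one ⟨2428, 0, 1⟩) (.one ⟨15187, 1, 2⟩)) (.node 1 (.one ⟨6191, 1, 1⟩) (.one ⟨10777, 1, 1⟩))) (.node 2 (.node 1 (.one ⟨9748, 1, 2⟩) (.one ⟨6642, 1, 2⟩)) (.node 1 (.one ⟨15915, 0, 3⟩) (.one ⟨752, 1, 1⟩)))) (.node 4 (.node 2 (.node 1 (.one ⟨12476, 0, 2⟩) (.one ⟨4986, 0, 2⟩)) (.node 1 (.one ⟨2698, 1, 1⟩) (.one ⟨2725, 1, 1⟩))) (.node 2 (.node 1 (.one ⟨9789, 1, 2⟩) (.one ⟨5077, 1, 0⟩)) (.node 1 (.one ⟨7738, 0, 1⟩) (.one ⟨7647, 0, 1⟩)))))))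
def par5_0_3 : Arr Par :=
  (.node 32 (.node 16 (.node 8 (.node 4 (.node 2 (.node 1 (.one ⟨7633, 0, 1⟩) (.one ⟨5099, 1, 0⟩)) (.node 1 (.one ⟨2566, 1, 1⟩) (.one ⟨12910, 0, 3⟩))) (.node 2 (.node 1 (.one ⟨5202, 0, 2⟩) (.one ⟨1831, 1, 0⟩)) (.node 1 (.one ⟨3028, 0, 3⟩) (.one ⟨8007, 0, 2⟩)))) (.node 4 (.node 2 (.node 1 (.one ⟨10265, 0, 2⟩) (.one ⟨12491, 0, 3⟩)) (.node 1 (.one ⟨14941, 0, 3⟩) (.one ⟨3583, 1, 0⟩))) (.node 2 (.node 1 (.one ⟨3584, 0, 3⟩) (.one ⟨14870, 1, 1⟩)) (.node 1 (.one ⟨14818, 1, 1⟩) (.one ⟨3265, 1, 0⟩))))) (.node 8 (.node 4 (.node 2 (.node 1 (.one ⟨2968, 0, 1⟩) (.one ⟨1176, 0, 1⟩)) (.node 1 (.one ⟨5941, 0, 1⟩) (.one ⟨12736, 0, 2⟩))) (.node 2 (.node 1 (.one ⟨12512, 0, 1⟩) (.one ⟨15362, 0, 3⟩)) (.node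 1 (.one ⟨1784, 0, 3⟩) (.one ⟨8550, 0, 3⟩)))) (.node 4 (.node 2 (.node 1 (.one ⟨1282, 0, 1⟩) (.one ⟨8035, 0, 3⟩)) (.node 1 (.one ⟨771, 0, 0⟩) (.one ⟨8331, 0, 1⟩))) (.node 2 (.node 1 (.one ⟨7861, 0, 2⟩) (.one ⟨14790, 0, 1⟩)) (.node 1 (.one ⟨2511, 0, 2⟩) (.one ⟨4834, 1, 0⟩)))))) (.node 16 (.node 8 (.node 4 (.node 2 (.node 1 (.one ⟨1187, 1, 0⟩) (.one ⟨16278, 0, 3⟩)) (.node 1 (.one ⟨13656, 0, 3⟩) (.one ⟨3260, 0, 3⟩))) (.node 2 (.node 1 (.one ⟨4692, 0, 3⟩) (.one ⟨797, 1, 0⟩)) (.node 1 (.one ⟨3641, 1, 0⟩) (.one ⟨5761, 0, 3⟩)))) (.node 4 (.node 2 (.node 1 (.one ⟨1018, 1, 2⟩) (.one ⟨1240, 0, 2⟩)) (.node 1 (.one ⟨5254, 1, 2⟩) (.one ⟨11567, 1, 2⟩))) (.node 2 (.node 1 (.one ⟨17053, 1, 1⟩) (.one ⟨7364, 0, 3⟩)) (.node 1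 (.one ⟨8970, 1, 1⟩) (.one ⟨8505, 1, 1⟩))))) (.node 8 (.node 4 (.node 2 (.node 1 (.one ⟨8065, 0, 1⟩) (.one ⟨5805, 0, 2⟩)) (.node 1 (.one ⟨10280, 0, 2⟩) (.one ⟨12048, 0, 2⟩))) (.node 2 (.node 1 (.one ⟨8281, 0, 2⟩) (.one ⟨131, 0, 1⟩)) (.node 1 (.one ⟨2011, 1, 0⟩) (.one ⟨10160, 0, 3⟩)))) (.node 4 (.node 2 (.node 1 (.one ⟨17145, 0, 3⟩) (.one ⟨8373, 0, 1⟩)) (.node 1 (.one ⟨665, 1, 0⟩) (.one ⟨6310, 1, 2⟩))) (.node 2 (.node 1 (.one ⟨8356, 1, 2⟩) (.one ⟨3879, 0, 2⟩)) (.node 1 (.one ⟨14781, 1, 2⟩) (.one ⟨16614, 0, 3⟩)))))))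
def par5_0_4 : Arr Par :=
  (.node 32 (.node 16 (.node 8 (.node 4 (.node 2 (.node 1 (.one ⟨3462, 1, 0⟩) (.one ⟨7553, 0, 1⟩)) (.node 1 (.one ⟨12066, 0, 2⟩) (.one ⟨12529, 0, 2⟩))) (.node 2 (.node 1 (.one ⟨5338, 0, 0⟩) (.one ⟨9705, 0, 2⟩)) (.node 1 (.one ⟨2364, 1, 0⟩) (.one ⟨2303, 0, 2⟩)))) (.node 4 (.node 2 (.node 1 (.one ⟨12500, 0, 3⟩) (.one ⟨445, 1, 0⟩)) (.node 1 (.one ⟨626, 1, 0⟩) (.one ⟨5102, 0, 2⟩))) (.node 2 (.node 1 (.one ⟨1543, 0, 2⟩) (.one ⟨1014, 1, 0⟩)) (.node 1 (.one ⟨6476, 0, 3⟩) (.one ⟨2796, 1, 0⟩))))) (.node 8 (.node 4 (.node 2 (.node 1 (.one ⟨15233, 0, 1⟩) (.one ⟨10734, 0, 2⟩)) (.node 1 (.one ⟨480, 1, 2⟩) (.one ⟨14171, 0, 1⟩))) (.node 2 (.node 1 (.one ⟨4673, 0, 0⟩) (.one ⟨12250, 0, 2⟩)) (.node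 1 (.one ⟨15533, 1, 1⟩) (.one ⟨15643, 1, 1⟩)))) (.node 4 (.node 2 (.node 1 (.one ⟨15600, 1, 1⟩) (.one ⟨8118, 0, 1⟩)) (.node 1 (.one ⟨9478, 0, 2⟩) (.one ⟨13123, 0, 2⟩))) (.node 2 (.node 1 (.one ⟨11259, 1, 1⟩) (.one ⟨14997, 0, 2⟩)) (.node 1 (.one ⟨4179, 1, 1⟩) (.one ⟨1964, 0, 1⟩)))))) (.node 16 (.node 8 (.node 4 (.node 2 (.node 1 (.one ⟨6624, 0, 1⟩) (.one ⟨246, 0, 1⟩)) (.node 1 (.one ⟨217, 1, 0⟩) (.one ⟨3395, 0, 3⟩))) (.node 2 (.node 1 (.one ⟨4891, 0, 1⟩) (.one ⟨3261, 1, 0⟩)) (.node 1 (.one ⟨15322, 1, 2⟩) (.one ⟨8542, 0, 3⟩)))) (.node 4 (.node 2 (.node 1 (.one ⟨3891, 0, 3⟩) (.one ⟨15358, 0, 3⟩)) (.node 1 (.one ⟨10029, 0, 3⟩) (.one ⟨1362, 1, 0⟩))) (.node 2 (.node 1 (.one ⟨1242, 1, 0⟩) (.one ⟨3224, 1, 2⟩)) (.node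 1 (.one ⟨2992, 1, 0⟩) (.one ⟨15650, 1, 1⟩))))) (.node 8 (.node 4 (.node 2 (.node 1 (.one ⟨3319, 0, 0⟩) (.one ⟨9733, 0, 3⟩)) (.node 1 (.one ⟨903, 1, 0⟩) (.one ⟨1463, 0, 2⟩))) (.node 2 (.node 1 (.one ⟨2240, 0, 3⟩) (.one ⟨6089, 0, 3⟩)) (.node 1 (.one ⟨3251, 1, 0⟩) (.one ⟨2070, 0, 0⟩)))) (.node 4 (.node 2 (.node 1 (.one ⟨3263, 0, 3⟩) (.one ⟨102, 0, 1⟩)) (.node 1 (.one ⟨3856, 0, 2⟩) (.one ⟨2213, 0, 3⟩))) (.node 2 (.node 1 (.one ⟨12346, 0, 2⟩) (.one ⟨857, 1, 0⟩)) (.node 1 (.one ⟨2656, 1, 0⟩) (.one ⟨15962, 0, 2⟩)))))))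
def par5_0_5 : Arr Par :=
  (.node 32 (.node 16 (.node 8 (.node 4 (.node 2 (.node 1 (.one ⟨2806, 1, 0⟩) (.one ⟨769, 1, 0⟩)) (.node 1 (.one ⟨10642, 0, 3⟩) (.one ⟨2617, 1, 0⟩))) (.node 2 (.node 1 (.one ⟨5968, 0, 3⟩) (.one ⟨14320, 0, 2⟩)) (.node 1 (.one ⟨4896, 1, 0⟩) (.one ⟨794, 1, 0⟩)))) (.node 4 (.node 2 (.node 1 (.one ⟨4564, 1, 1⟩) (.one ⟨3112, 1, 1⟩)) (.node 1 (.one ⟨11949, 0, 1⟩) (.one ⟨4916, 1, 0⟩))) (.node 2 (.node 1 (.one ⟨7044, 0, 3⟩) (.one ⟨9028, 0, 3⟩)) (.node 1 (.one ⟨12608, 1, 1⟩) (.one ⟨9848, 0, 2⟩))))) (.node 8 (.node 4 (.node 2 (.node 1 (.one ⟨8106, 0, 3⟩) (.one ⟨10190, 1, 2⟩)) (.node 1 (.one ⟨3070, 1, 0⟩) (.one ⟨6906, 0, 1⟩))) (.node 2 (.node 1 (.one ⟨3724, 0, 2⟩) (.one ⟨4119, 1, 0⟩)) (.node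 1 (.one ⟨12628, 0, 2⟩) (.one ⟨8134, 0, 3⟩)))) (.node 4 (.node 2 (.node 1 (.one ⟨11267, 1, 1⟩) (.one ⟨4039, 1, 0⟩)) (.node 1 (.one ⟨1634, 1, 0⟩) (.one ⟨940, 1, 0⟩))) (.node 2 (.node 1 (.one ⟨3043, 1, 0⟩) (.one ⟨4910, 1, 0⟩)) (.node 1 (.one ⟨10281, 0, 3⟩) (.one ⟨3505, 0, 3⟩)))))) (.node 16 (.node 8 (.node 4 (.node 2 (.node 1 (.one ⟨929, 1, 0⟩) (.one ⟨565, 0, 1⟩)) (.node 1 (.one ⟨525, 0, 3⟩) (.one ⟨14319, 0, 3⟩))) (.node 2 (.node 1 (.one ⟨13610, 0, 3⟩) (.one ⟨5244, 1, 0⟩)) (.node 1 (.one ⟨2750, 0, 3⟩) (.one ⟨2751, 1, 1⟩)))) (.node 4 (.node 2 (.node 1 (.one ⟨14292, 0, 1⟩) (.one ⟨1957, 1, 0⟩)) (.node 1 (.one ⟨9326, 0, 2⟩) (.one ⟨16201, 0, 1⟩))) (.node 2 (.node 1 (.one ⟨9245, 0, 1⟩) (.one ⟨8522, 1, 1⟩)) (.node 1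 (.one ⟨7216, 1, 1⟩) (.one ⟨7724, 0, 3⟩))))) (.node 8 (.node 4 (.node 2 (.node 1 (.one ⟨3326, 0, 0⟩) (.one ⟨17020, 1, 2⟩)) (.node 1 (.one ⟨8805, 1, 1⟩) (.one ⟨7556, 1, 1⟩))) (.node 2 (.node 1 (.one ⟨3707, 1, 2⟩) (.one ⟨5643, 0, 3⟩)) (.node 1 (.one ⟨12386, 1, 1⟩) (.one ⟨8240, 0, 2⟩)))) (.node 4 (.node 2 (.node 1 (.one ⟨5073, 1, 0⟩) (.one ⟨9726, 0, 2⟩)) (.node 1 (.one ⟨5735, 0, 2⟩) (.one ⟨2897, 1, 0⟩))) (.node 2 (.node 1 (.one ⟨2319, 0, 2⟩) (.one ⟨13321, 0, 2⟩)) (.node 1 (.one ⟨8776, 0, 3⟩) (.one ⟨1988, 1, 0⟩)))))))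
def par5_0_6 : Arr Par :=
  (.node 32 (.node 16 (.node 8 (.node 4 (.node 2 (.node 1 (.one ⟨16882, 0, 1⟩) (.one ⟨1332, 0, 1⟩)) (.node 1 (.one ⟨9339, 0, 1⟩) (.one ⟨14000, 0, 1⟩))) (.node 2 (.node 1 (.one ⟨6978, 0, 2⟩) (.one ⟨8345, 0, 3⟩)) (.node 1 (.one ⟨2852, 1, 0⟩) (.one ⟨3710, 1, 2⟩)))) (.node 4 (.node 2 (.node 1 (.one ⟨6436, 0, 3⟩) (.one ⟨349, 0, 1⟩)) (.node 1 (.one ⟨8402, 1, 1⟩) (.one ⟨7030, 1, 2⟩))) (.node 2 (.node 1 (.one ⟨15923, 0, 3⟩) (.one ⟨12588, 0, 3⟩)) (.node 1 (.one ⟨7210, 0, 3⟩) (.one ⟨2738, 0, 1⟩))))) (.node 8 (.node 4 (.node 2 (.node 1 (.one ⟨1667, 1, 0⟩) (.one ⟨900, 1, 2⟩)) (.node 1 (.one ⟨11930, 1, 1⟩) (.one ⟨5674, 1, 1⟩))) (.node 2 (.node 1 (.one ⟨2475, 0, 2⟩) (.one ⟨11993, 0, 1⟩)) (.node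 1 (.one ⟨12228, 0, 2⟩) (.one ⟨10665, 0, 3⟩)))) (.node 4 (.node 2 (.node 1 (.one ⟨11924, 0, 3⟩) (.one ⟨16978, 0, 3⟩)) (.node 1 (.one ⟨14971, 1, 2⟩) (.one ⟨16869, 0, 1⟩))) (.node 2 (.node 1 (.one ⟨15210, 1, 2⟩) (.one ⟨2158, 0, 0⟩)) (.node 1 (.one ⟨3318, 0, 0⟩) (.one ⟨3694, 1, 0⟩)))))) (.node 16 (.node 8 (.node 4 (.node 2 (.node 1 (.one ⟨1226, 1, 0⟩) (.one ⟨8383, 0, 1⟩)) (.node 1 (.one ⟨14340, 0, 1⟩) (.one ⟨6512, 0, 3⟩))) (.node 2 (.node 1 (.one ⟨5118, 0, 3⟩) (.one ⟨7916, 0, 3⟩)) (.node 1 (.one ⟨10990, 0, 3⟩) (.one ⟨14348, 0, 3⟩)))) (.node 4 (.node 2 (.node 1 (.one ⟨3479, 1, 0⟩) (.one ⟨1836, 1, 0⟩)) (.node 1 (.one ⟨11582, 0, 1⟩) (.one ⟨2670, 0, 2⟩))) (.node 2 (.node 1 (.one ⟨11414, 0, 3⟩) (.one ⟨2465, 0, 1⟩))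 (.node 1 (.one ⟨8045, 0, 3⟩) (.one ⟨15617, 0, 3⟩))))) (.node 8 (.node 4 (.node 2 (.node 1 (.one ⟨838, 1, 0⟩) (.one ⟨2089, 1, 2⟩)) (.node 1 (.one ⟨17065, 0, 2⟩) (.one ⟨214, 1, 0⟩))) (.node 2 (.node 1 (.one ⟨4184, 0, 2⟩) (.one ⟨15024, 0, 3⟩)) (.node 1 (.one ⟨9141, 0, 1⟩) (.one ⟨11280, 1, 2⟩)))) (.node 4 (.node 2 (.node 1 (.one ⟨3049, 1, 2⟩) (.one ⟨886, 1, 2⟩)) (.node 1 (.one ⟨585, 1, 0⟩) (.one ⟨11331, 1, 1⟩))) (.node 2 (.node 1 (.one ⟨10517, 0, 1⟩) (.one ⟨3523, 0, 0⟩)) (.node 1 (.one ⟨10098, 0, 3⟩) (.one ⟨2049, 1, 0⟩)))))))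
def par5_0_7 : Arr Par :=
  (.node 32 (.node 16 (.node 8 (.node 4 (.node 2 (.node 1 (.one ⟨5222, 0, 3⟩) (.one ⟨8467, 0, 3⟩)) (.node 1 (.one ⟨13815, 0, 3⟩) (.one ⟨2395, 1, 0⟩))) (.node 2 (.node 1 (.one ⟨657, 1, 0⟩) (.one ⟨9392, 0, 1⟩)) (.node 1 (.one ⟨9128, 0, 3⟩) (.one ⟨3327, 1, 0⟩)))) (.node 4 (.node 2 (.node 1 (.one ⟨5520, 1, 1⟩) (.one ⟨9343, 0, 1⟩)) (.node 1 (.one ⟨9934, 0, 3⟩) (.one ⟨3085, 0, 3⟩))) (.node 2 (.node 1 (.one ⟨13626, 0, 1⟩) (.one ⟨14681, 1, 1⟩)) (.node 1 (.one ⟨2100, 1, 0⟩) (.one ⟨5497, 0, 0⟩))))) (.node 8 (.node 4 (.node 2 (.node 1 (.one ⟨5294, 1, 1⟩) (.one ⟨11712, 0, 3⟩)) (.node 1 (.one ⟨14299, 0, 3⟩) (.one ⟨8916, 0, 1⟩))) (.node 2 (.node 1 (.one ⟨396, 1, 0⟩) (.one ⟨14440, 0, 3⟩)) (.node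 1 (.one ⟨12002, 0, 1⟩) (.one ⟨1887, 0, 2⟩)))) (.node 4 (.node 2 (.node 1 (.one ⟨16661, 1, 2⟩) (.one ⟨11979, 0, 1⟩)) (.node 1 (.one ⟨2330, 1, 0⟩) (.one ⟨1757, 1, 0⟩))) (.node 2 (.node 1 (.one ⟨3899, 0, 3⟩) (.one ⟨5531, 0, 3⟩)) (.node 1 (.one ⟨1632, 1, 0⟩) (.one ⟨10535, 0, 1⟩)))))) (.node 16 (.node 8 (.node 4 (.node 2 (.node 1 (.one ⟨11213, 0, 1⟩) (.one ⟨1657, 0, 3⟩)) (.node 1 (.one ⟨4730, 0, 3⟩) (.one ⟨16726, 0, 3⟩))) (.node 2 (.node 1 (.one ⟨14147, 0, 3⟩) (.one ⟨3493, 0, 2⟩)) (.node 1 (.one ⟨4826, 1, 2⟩) (.one ⟨10656, 1, 1⟩)))) (.node 4 (.node 2 (.node 1 (.one ⟨7762, 1, 1⟩) (.one ⟨10565, 0, 2⟩)) (.node 1 (.one ⟨14280, 1, 2⟩) (.one ⟨6892, 0, 2⟩))) (.node 2 (.node 1 (.one ⟨2237, 0, 3⟩) (.one ⟨14834, 0, 3⟩))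 (.node 1 (.one ⟨10725, 0, 3⟩) (.one ⟨4047, 0, 2⟩))))) (.node 8 (.node 4 (.node 2 (.node 1 (.one ⟨11819, 0, 1⟩) (.one ⟨6398, 1, 1⟩)) (.node 1 (.one ⟨9825, 0, 3⟩) (.one ⟨8817, 0, 3⟩))) (.node 2 (.node 1 (.one ⟨5125, 0, 1⟩) (.one ⟨13884, 0, 2⟩)) (.node 1 (.one ⟨6418, 1, 1⟩) (.one ⟨15608, 0, 1⟩)))) (.node 4 (.node 2 (.node 1 (.one ⟨14273, 0, 1⟩) (.one ⟨2335, 1, 0⟩)) (.node 1 (.one ⟨1716, 0, 0⟩) (.one ⟨4057, 1, 0⟩))) (.node 2 (.node 1 (.one ⟨15648, 0, 2⟩) (.one ⟨11367, 0, 1⟩)) (.node 1 (.one ⟨9286, 0, 1⟩) (.one ⟨3504, 1, 0⟩)))))))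
def par5_0_8 : Arr Par :=
  (.node 32 (.node 16 (.node 8 (.node 4 (.node 2 (.node 1 (.one ⟨3854, 1, 2⟩) (.one ⟨374, 0, 2⟩)) (.node 1 (.one ⟨323, 0, 1⟩) (.one ⟨3540, 0, 0⟩))) (.node 2 (.node 1 (.one ⟨11039, 0, 1⟩) (.one ⟨8311, 1, 1⟩)) (.node 1 (.one ⟨2775, 1, 1⟩) (.one ⟨9512, 0, 3⟩)))) (.node 4 (.node 2 (.node 1 (.one ⟨7620, 1, 1⟩) (.one ⟨2006, 1, 0⟩)) (.node 1 (.one ⟨289, 1, 2⟩) (.one ⟨4379, 1, 2⟩))) (.node 2 (.node 1 (.one ⟨15681, 0, 3⟩) (.one ⟨12071, 1, 2⟩)) (.node 1 (.one ⟨14463, 1, 2⟩) (.one ⟨2508, 1, 0⟩))))) (.node 8 (.node 4 (.node 2 (.node 1 (.one ⟨2378, 1, 0⟩) (.one ⟨15275, 1, 1⟩)) (.node 1 (.one ⟨566, 0, 2⟩) (.one ⟨2503, 1, 0⟩))) (.node 2 (.node 1 (.one ⟨3604, 1, 0⟩) (.one ⟨733, 1, 2⟩)) (.node 1 (.one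 ⟨4766, 0, 2⟩) (.one ⟨3723, 1, 0⟩)))) (.node 4 (.node 2 (.node 1 (.one ⟨14856, 0, 3⟩) (.one ⟨3577, 0, 3⟩)) (.node 1 (.one ⟨6874, 0, 3⟩) (.one ⟨2529, 0, 3⟩))) (.node 2 (.node 1 (.one ⟨2974, 1, 2⟩) (.one ⟨3268, 1, 0⟩)) (.node 1 (.one ⟨16763, 1, 1⟩) (.one ⟨4453, 0, 2⟩)))))) (.node 16 (.node 8 (.node 4 (.node 2 (.node 1 (.one ⟨5202, 1, 0⟩) (.one ⟨1374, 0, 1⟩)) (.node 1 (.one ⟨2022, 0, 2⟩) (.one ⟨2956, 1, 0⟩))) (.node 2 (.node 1 (.one ⟨5792, 0, 1⟩) (.one ⟨14395, 1, 2⟩)) (.node 1 (.one ⟨1564, 0, 1⟩) (.one ⟨14098, 0, 2⟩)))) (.node 4 (.node 2 (.node 1 (.one ⟨16281, 0, 2⟩) (.one ⟨4435, 0, 2⟩)) (.node 1 (.one ⟨8376, 0, 1⟩) (.one ⟨1814, 0, 2⟩))) (.node 2 (.node 1 (.one ⟨15707, 0, 3⟩) (.one ⟨14491, 0, 3⟩)) (.node 1 (.one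 ⟨8000, 0, 3⟩) (.one ⟨6531, 0, 3⟩))))) (.node 8 (.node 4 (.node 2 (.node 1 (.one ⟨4214, 1, 2⟩) (.one ⟨7733, 0, 3⟩)) (.node 1 (.one ⟨6803, 0, 3⟩) (.one ⟨3016, 1, 0⟩))) (.node 2 (.node 1 (.one ⟨1069, 1, 0⟩) (.one ⟨456, 1, 0⟩)) (.node 1 (.one ⟨2754, 1, 1⟩) (.one ⟨13676, 1, 2⟩)))) (.node 4 (.node 2 (.node 1 (.one ⟨10435, 1, 1⟩) (.one ⟨4124, 0, 3⟩)) (.node 1 (.one ⟨722, 1, 0⟩) (.one ⟨1495, 0, 2⟩))) (.node 2 (.node 1 (.one ⟨11199, 0, 1⟩) (.one ⟨1848, 1, 0⟩)) (.node 1 (.one ⟨2949, 0, 0⟩) (.one ⟨1607, 1, 0⟩)))))))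
def par5_0_9 : Arr Par :=
  (.node 32 (.node 16 (.node 8 (.node 4 (.node 2 (.node 1 (.one ⟨413, 1, 0⟩) (.one ⟨178, 1, 0⟩)) (.node 1 (.one ⟨9494, 1, 1⟩) (.one ⟨3057, 1, 0⟩))) (.node 2 (.node 1 (.one ⟨1362, 1, 1⟩) (.one ⟨9502, 1, 1⟩)) (.node 1 (.one ⟨545, 1, 0⟩) (.one ⟨13468, 1, 2⟩)))) (.node 4 (.node 2 (.node 1 (.one ⟨249, 0, 0⟩) (.one ⟨1466, 1, 0⟩)) (.node 1 (.one ⟨9389, 1, 1⟩) (.one ⟨4680, 1, 0⟩))) (.node 2 (.node 1 (.one ⟨226, 0, 0⟩) (.one ⟨974, 1, 0⟩)) (.node 1 (.one ⟨9379, 1, 1⟩) (.one ⟨1206, 1, 1⟩))))) (.node 8 (.node 4 (.node 2 (.node 1 (.one ⟨1899, 1, 0⟩) (.one ⟨1554, 1, 1⟩)) (.node 1 (.one ⟨2729, 1, 0⟩) (.one ⟨1211, 1, 1⟩))) (.node 2 (.node 1 (.one ⟨12275, 0, 3⟩) (.one ⟨8803, 1, 2⟩)) (.node 1 (.one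 ⟨14230, 1, 1⟩) (.one ⟨9204, 0, 2⟩)))) (.node 4 (.node 2 (.node 1 (.one ⟨2766, 1, 0⟩) (.one ⟨292, 1, 0⟩)) (.node 1 (.one ⟨3864, 0, 0⟩) (.one ⟨2958, 1, 0⟩))) (.node 2 (.node 1 (.one ⟨1369, 1, 1⟩) (.one ⟨2424, 1, 0⟩)) (.node 1 (.one ⟨3098, 1, 0⟩) (.one ⟨129, 1, 0⟩)))))) (.node 16 (.node 8 (.node 4 (.node 2 (.node 1 (.one ⟨2387, 1, 0⟩) (.one ⟨1692, 1, 0⟩)) (.node 1 (.one ⟨621, 1, 0⟩) (.one ⟨359, 1, 0⟩))) (.node 2 (.node 1 (.one ⟨8335, 1, 2⟩) (.one ⟨1128, 1, 0⟩)) (.node 1 (.one ⟨2145, 0, 0⟩) (.one ⟨6174, 0, 1⟩)))) (.node 4 (.node 2 (.node 1 (.one ⟨5318, 0, 1⟩) (.one ⟨4068, 1, 1⟩)) (.node 1 (.one ⟨4159, 0, 0⟩) (.one ⟨5328, 1, 0⟩))) (.node 2 (.node 1 (.one ⟨3127, 1, 0⟩) (.one ⟨9074, 0, 3⟩)) (.node 1 (.one ⟨12485,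 1, 2⟩) (.one ⟨2127, 1, 0⟩))))) (.node 8 (.node 4 (.node 2 (.node 1 (.one ⟨213, 0, 0⟩) (.one ⟨8792, 0, 2⟩)) (.node 1 (.one ⟨5060, 1, 2⟩) (.one ⟨14229, 1, 1⟩))) (.node 2 (.node 1 (.one ⟨9266, 0, 2⟩) (.one ⟨11852, 0, 3⟩)) (.node 1 (.one ⟨1122, 1, 0⟩) (.one ⟨821, 0, 2⟩)))) (.node 4 (.node 2 (.node 1 (.one ⟨1404, 0, 1⟩) (.one ⟨14452, 1, 1⟩)) (.node 1 (.one ⟨15416, 0, 1⟩) (.one ⟨3990, 1, 1⟩))) (.node 2 (.node 1 (.one ⟨7142, 1, 1⟩) (.one ⟨14642, 1, 2⟩)) (.node 1 (.one ⟨5489, 1, 2⟩) (.one ⟨3910, 1, 1⟩)))))))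
def par5_0_10 : Arr Par :=
  (.node 32 (.node 16 (.node 8 (.node 4 (.node 2 (.node 1 (.one ⟨4234, 0, 2⟩) (.one ⟨666, 1, 1⟩)) (.node 1 (.one ⟨633, 0, 2⟩) (.one ⟨2791, 1, 0⟩))) (.node 2 (.node 1 (.one ⟨5708, 1, 1⟩) (.one ⟨762, 1, 0⟩)) (.node 1 (.one ⟨3093, 1, 1⟩) (.one ⟨4555, 0, 3⟩)))) (.node 4 (.node 2 (.node 1 (.one ⟨1572, 0, 3⟩) (.one ⟨10640, 0, 3⟩)) (.node 1 (.one ⟨13360, 0, 3⟩) (.one ⟨11573, 1, 1⟩))) (.node 2 (.node 1 (.one ⟨13002, 1, 2⟩) (.one ⟨3165, 1, 0⟩)) (.node 1 (.one ⟨245, 1, 2⟩) (.one ⟨5122, 1, 0⟩))))) (.node 8 (.node 4 (.node 2 (.node 1 (.one ⟨1570, 1, 0⟩) (.one ⟨16220, 0, 3⟩)) (.node 1 (.one ⟨8077, 0, 2⟩) (.one ⟨3532, 1, 0⟩))) (.node 2 (.node 1 (.one ⟨3576, 1, 0⟩) (.one ⟨1999, 0, 0⟩)) (.node 1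 (.one ⟨10643, 0, 3⟩) (.one ⟨1454, 0, 1⟩)))) (.node 4 (.node 2 (.node 1 (.one ⟨2822, 1, 0⟩) (.one ⟨5708, 0, 1⟩)) (.node 1 (.one ⟨1219, 1, 0⟩) (.one ⟨5903, 0, 2⟩))) (.node 2 (.node 1 (.one ⟨9197, 0, 1⟩) (.one ⟨11989, 0, 2⟩)) (.node 1 (.one ⟨8200, 0, 2⟩) (.one ⟨10837, 0, 3⟩)))))) (.node 16 (.node 8 (.node 4 (.node 2 (.node 1 (.one ⟨8254, 1, 2⟩) (.one ⟨7933, 0, 2⟩)) (.node 1 (.one ⟨4354, 0, 0⟩) (.one ⟨9957, 0, 1⟩))) (.node 2 (.node 1 (.one ⟨134, 1, 2⟩) (.one ⟨2843, 1, 0⟩)) (.node 1 (.one ⟨661, 0, 1⟩) (.one ⟨14846, 0, 1⟩)))) (.node 4 (.node 2 (.node 1 (.one ⟨10118, 0, 2⟩) (.one ⟨9307, 0, 1⟩)) (.node 1 (.one ⟨5877, 0, 2⟩) (.one ⟨867, 1, 0⟩))) (.node 2 (.node 1 (.one ⟨4214, 1, 0⟩) (.one ⟨5011, 1, 0⟩)) (.node 1 (.one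 ⟨2138, 1, 0⟩) (.one ⟨528, 1, 0⟩))))) (.node 8 (.node 4 (.node 2 (.node 1 (.one ⟨2308, 1, 0⟩) (.one ⟨3615, 1, 0⟩)) (.node 1 (.one ⟨5127, 1, 0⟩) (.one ⟨2036, 1, 0⟩))) (.node 2 (.node 1 (.one ⟨15710, 0, 3⟩) (.one ⟨3570, 1, 0⟩)) (.node 1 (.one ⟨2499, 0, 1⟩) (.one ⟨2892, 1, 2⟩)))) (.node 4 (.node 2 (.node 1 (.one ⟨1312, 0, 1⟩) (.one ⟨15207, 0, 1⟩)) (.node 1 (.one ⟨2100, 0, 1⟩) (.one ⟨218, 1, 1⟩))) (.node 2 (.node 1 (.one ⟨6035, 0, 1⟩) (.one ⟨2204, 1, 0⟩)) (.node 1 (.one ⟨11725, 0, 2⟩) (.one ⟨3925, 1, 2⟩)))))))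
def par5_0_11 : Arr Par :=
  (.node 32 (.node 16 (.node 8 (.node 4 (.node 2 (.node 1 (.one ⟨10143, 0, 3⟩) (.one ⟨16264, 0, 1⟩)) (.node 1 (.one ⟨11144, 1, 2⟩) (.one ⟨15157, 0, 3⟩))) (.node 2 (.node 1 (.one ⟨11902, 1, 1⟩) (.one ⟨12136, 1, 2⟩)) (.node 1 (.one ⟨3799, 1, 1⟩) (.one ⟨11855, 0, 2⟩)))) (.node 4 (.node 2 (.node 1 (.one ⟨1258, 0, 1⟩) (.one ⟨6047, 0, 2⟩)) (.node 1 (.one ⟨16387, 1, 2⟩) (.one ⟨11643, 0, 3⟩))) (.node 2 (.node 1 (.one ⟨7221, 1, 2⟩) (.one ⟨4118, 0, 2⟩)) (.node 1 (.one ⟨1824, 1, 0⟩) (.one ⟨4529, 1, 0⟩))))) (.node 8 (.node 4 (.node 2 (.node 1 (.one ⟨3201, 0, 3⟩) (.one ⟨3984, 0, 1⟩)) (.node 1 (.one ⟨11731, 0, 3⟩) (.one ⟨2600, 1, 0⟩))) (.node 2 (.node 1 (.one ⟨11771, 0, 3⟩) (.one ⟨4959, 0, 2⟩))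 (.node 1 (.one ⟨4592, 0, 1⟩) (.one ⟨1116, 0, 0⟩)))) (.node 4 (.node 2 (.node 1 (.one ⟨3914, 0, 3⟩) (.one ⟨16876, 0, 1⟩)) (.node 1 (.one ⟨2704, 1, 1⟩) (.one ⟨1134, 0, 2⟩))) (.node 2 (.node 1 (.one ⟨13166, 0, 1⟩) (.one ⟨3701, 0, 1⟩)) (.node 1 (.one ⟨3536, 1, 2⟩) (.one ⟨3878, 0, 1⟩)))))) (.node 16 (.node 8 (.node 4 (.node 2 (.node 1 (.one ⟨1387, 0, 1⟩) (.one ⟨7584, 0, 1⟩)) (.node 1 (.one ⟨3603, 0, 3⟩) (.one ⟨2017, 1, 0⟩))) (.node 2 (.node 1 (.one ⟨4378, 1, 2⟩) (.one ⟨3545, 0, 2⟩)) (.node 1 (.one ⟨853, 1, 2⟩) (.one ⟨3297, 1, 0⟩)))) (.node 4 (.node 2 (.node 1 (.one ⟨5287, 1, 0⟩) (.one ⟨3730, 0, 2⟩)) (.node 1 (.one ⟨9368, 0, 2⟩) (.one ⟨2505, 0, 2⟩))) (.node 2 (.node 1 (.one ⟨1091, 1, 0⟩) (.one ⟨353, 1, 0⟩)) (.node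 1 (.one ⟨16602, 0, 3⟩) (.one ⟨2982, 1, 2⟩))))) (.node 8 (.node 4 (.node 2 (.node 1 (.one ⟨1354, 1, 0⟩) (.one ⟨9001, 0, 3⟩)) (.node 1 (.one ⟨3926, 0, 1⟩) (.one ⟨2318, 0, 2⟩))) (.node 2 (.node 1 (.one ⟨12238, 0, 3⟩) (.one ⟨2931, 0, 1⟩)) (.node 1 (.one ⟨11456, 0, 3⟩) (.one ⟨14985, 0, 3⟩)))) (.node 4 (.node 2 (.node 1 (.one ⟨2819, 0, 3⟩) (.one ⟨7294, 0, 3⟩)) (.node 1 (.one ⟨7059, 0, 1⟩) (.one ⟨8354, 0, 1⟩))) (.node 2 (.node 1 (.one ⟨3498, 1, 1⟩) (.one ⟨13560, 0, 2⟩)) (.node 1 (.one ⟨11518, 0, 1⟩) (.one ⟨3911, 1, 0⟩)))))))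
def par5_0_12 : Arr Par :=
  (.node 32 (.node 16 (.node 8 (.node 4 (.node 2 (.node 1 (.one ⟨1278, 1, 0⟩) (.one ⟨794, 0, 1⟩)) (.node 1 (.one ⟨4213, 0, 1⟩) (.one ⟨5598, 0, 2⟩))) (.node 2 (.node 1 (.one ⟨9722, 1, 1⟩) (.one ⟨3321, 0, 0⟩)) (.node 1 (.one ⟨783, 1, 0⟩) (.one ⟨687, 0, 1⟩)))) (.node 4 (.node 2 (.node 1 (.one ⟨12209, 0, 3⟩) (.one ⟨500, 1, 0⟩)) (.node 1 (.one ⟨10756, 1, 2⟩) (.one ⟨9465, 0, 2⟩))) (.node 2 (.node 1 (.one ⟨1138, 0, 3⟩) (.one ⟨13450, 0, 3⟩)) (.node 1 (.one ⟨8616, 1, 1⟩) (.one ⟨8160, 0, 3⟩))))) (.node 8 (.node 4 (.node 2 (.node 1 (.one ⟨11421, 0, 3⟩) (.one ⟨10487, 1, 2⟩)) (.node 1 (.one ⟨1347, 1, 0⟩) (.one ⟨12791, 0, 2⟩))) (.node 2 (.node 1 (.one ⟨9659, 0, 1⟩) (.one ⟨820, 0, 3⟩)) (.node 1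 (.one ⟨14160, 0, 3⟩) (.one ⟨9549, 0, 2⟩)))) (.node 4 (.node 2 (.node 1 (.one ⟨11913, 0, 3⟩) (.one ⟨2972, 1, 2⟩)) (.node 1 (.one ⟨455, 1, 0⟩) (.one ⟨2606, 1, 0⟩))) (.node 2 (.node 1 (.one ⟨6001, 0, 2⟩) (.one ⟨15082, 1, 2⟩)) (.node 1 (.one ⟨13652, 1, 2⟩) (.one ⟨12079, 0, 2⟩)))))) (.node 16 (.node 8 (.node 4 (.node 2 (.node 1 (.one ⟨3605, 1, 1⟩) (.one ⟨10377, 0, 1⟩)) (.node 1 (.one ⟨1833, 0, 0⟩) (.one ⟨7572, 1, 1⟩))) (.node 2 (.node 1 (.one ⟨13419, 0, 1⟩) (.one ⟨3886, 1, 0⟩)) (.node 1 (.one ⟨3565, 0, 2⟩) (.one ⟨1611, 0, 0⟩)))) (.node 4 (.node 2 (.node 1 (.one ⟨3619, 1, 0⟩) (.one ⟨3132, 1, 1⟩)) (.node 1 (.one ⟨1427, 0, 1⟩) (.one ⟨11403, 0, 3⟩))) (.node 2 (.node 1 (.one ⟨9182, 0, 1⟩) (.one ⟨13544, 1, 1⟩)) (.node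 1 (.one ⟨11652, 1, 2⟩) (.one ⟨8363, 0, 1⟩))))) (.node 8 (.node 4 (.node 2 (.node 1 (.one ⟨800, 1, 0⟩) (.one ⟨5715, 0, 1⟩)) (.node 1 (.one ⟨2153, 1, 0⟩) (.one ⟨473, 1, 2⟩))) (.node 2 (.node 1 (.one ⟨8521, 1, 2⟩) (.one ⟨3118, 1, 1⟩)) (.node 1 (.one ⟨14582, 0, 3⟩) (.one ⟨1042, 1, 0⟩)))) (.node 4 (.node 2 (.node 1 (.one ⟨5562, 0, 3⟩) (.one ⟨2449, 0, 3⟩)) (.node 1 (.one ⟨14608, 1, 2⟩) (.one ⟨1597, 0, 2⟩))) (.node 2 (.node 1 (.one ⟨2206, 0, 2⟩) (.one ⟨16193, 0, 2⟩)) (.node 1 (.one ⟨16337, 0, 2⟩) (.one ⟨15203, 0, 1⟩)))))))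
def par5_0_13 : Arr Par :=
  (.node 32 (.node 16 (.node 8 (.node 4 (.node 2 (.node 1 (.one ⟨9935, 0, 2⟩) (.one ⟨3418, 1, 1⟩)) (.node 1 (.one ⟨150, 0, 0⟩) (.one ⟨951, 1, 0⟩))) (.node 2 (.node 1 (.one ⟨16449, 0, 3⟩) (.one ⟨17058, 1, 2⟩)) (.node 1 (.one ⟨16177, 0, 2⟩) (.one ⟨2692, 1, 0⟩)))) (.node 4 (.node 2 (.node 1 (.one ⟨2174, 0, 2⟩) (.one ⟨3482, 1, 0⟩)) (.node 1 (.one ⟨12293, 0, 1⟩) (.one ⟨6110, 1, 2⟩))) (.node 2 (.node 1 (.one ⟨15730, 1, 2⟩) (.one ⟨7839, 0, 2⟩)) (.node 1 (.one ⟨5465, 0, 3⟩) (.one ⟨12689, 1, 1⟩))))) (.node 8 (.node 4 (.node 2 (.node 1 (.one ⟨916, 0, 1⟩) (.one ⟨5262, 0, 2⟩)) (.node 1 (.one ⟨871, 1, 2⟩) (.one ⟨1315, 1, 0⟩))) (.node 2 (.node 1 (.one ⟨2483, 1, 0⟩) (.one ⟨1042, 0, 1⟩)) (.node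 1 (.one ⟨4612, 1, 1⟩) (.one ⟨17022, 1, 1⟩)))) (.node 4 (.node 2 (.node 1 (.one ⟨2569, 1, 0⟩) (.one ⟨3678, 0, 2⟩)) (.node 1 (.one ⟨1482, 0, 2⟩) (.one ⟨3232, 1, 1⟩))) (.node 2 (.node 1 (.one ⟨10802, 1, 1⟩) (.one ⟨9623, 0, 1⟩)) (.node 1 (.one ⟨8942, 0, 3⟩) (.one ⟨4511, 0, 2⟩)))))) (.node 16 (.node 8 (.node 4 (.node 2 (.node 1 (.one ⟨3951, 0, 2⟩) (.one ⟨16237, 0, 2⟩)) (.node 1 (.one ⟨16318, 0, 2⟩) (.one ⟨7594, 1, 1⟩))) (.node 2 (.node 1 (.one ⟨2813, 0, 1⟩) (.one ⟨579, 1, 0⟩)) (.node 1 (.one ⟨1875, 1, 2⟩) (.one ⟨10593, 0, 1⟩)))) (.node 4 (.node 2 (.node 1 (.one ⟨1706, 0, 2⟩) (.one ⟨13772, 0, 2⟩)) (.node 1 (.one ⟨1012, 1, 0⟩) (.one ⟨3968, 0, 2⟩))) (.node 2 (.node 1 (.one ⟨11553, 0, 3⟩) (.one ⟨16034, 0, 3⟩)) (.node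 1 (.one ⟨1344, 1, 0⟩) (.one ⟨3379, 1, 0⟩))))) (.node 8 (.node 4 (.node 2 (.node 1 (.one ⟨3932, 1, 0⟩) (.one ⟨7875, 0, 2⟩)) (.node 1 (.one ⟨12173, 0, 2⟩) (.one ⟨16423, 0, 3⟩))) (.node 2 (.node 1 (.one ⟨11430, 1, 2⟩) (.one ⟨792, 1, 0⟩)) (.node 1 (.one ⟨908, 0, 1⟩) (.one ⟨4060, 0, 3⟩)))) (.node 4 (.node 2 (.node 1 (.one ⟨1552, 0, 0⟩) (.one ⟨2194, 1, 0⟩)) (.node 1 (.one ⟨8076, 0, 3⟩) (.one ⟨3938, 1, 0⟩))) (.node 2 (.node 1 (.one ⟨3166, 1, 0⟩) (.one ⟨1430, 1, 0⟩)) (.node 1 (.one ⟨791, 1, 0⟩) (.one ⟨461, 1, 0⟩)))))))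
def par5_0_14 : Arr Par :=
  (.node 32 (.node 16 (.node 8 (.node 4 (.node 2 (.node 1 (.one ⟨2657, 0, 3⟩) (.one ⟨1674, 1, 0⟩)) (.node 1 (.one ⟨5093, 1, 0⟩) (.one ⟨5275, 1, 0⟩))) (.node 2 (.node 1 (.one ⟨13408, 0, 1⟩) (.one ⟨927, 1, 1⟩)) (.node 1 (.one ⟨3878, 1, 1⟩) (.one ⟨12896, 0, 3⟩)))) (.node 4 (.node 2 (.node 1 (.one ⟨14505, 0, 2⟩) (.one ⟨15859, 1, 2⟩)) (.node 1 (.one ⟨7558, 1, 2⟩) (.one ⟨16128, 0, 3⟩))) (.node 2 (.node 1 (.one ⟨2983, 1, 0⟩) (.one ⟨2311, 1, 0⟩)) (.node 1 (.one ⟨547, 0, 0⟩) (.one ⟨14466, 1, 1⟩))))) (.node 8 (.node 4 (.node 2 (.node 1 (.one ⟨9574, 0, 2⟩) (.one ⟨8012, 1, 1⟩)) (.node 1 (.one ⟨15649, 1, 1⟩) (.one ⟨1709, 1, 0⟩))) (.node 2 (.node 1 (.one ⟨2602, 1, 0⟩) (.one ⟨2998, 1, 0⟩)) (.node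 1 (.one ⟨12587, 0, 3⟩) (.one ⟨8323, 0, 3⟩)))) (.node 4 (.node 2 (.node 1 (.one ⟨5257, 1, 0⟩) (.one ⟨4350, 1, 0⟩)) (.node 1 (.one ⟨3069, 1, 0⟩) (.one ⟨12726, 0, 2⟩))) (.node 2 (.node 1 (.one ⟨9584, 0, 1⟩) (.one ⟨2566, 0, 1⟩)) (.node 1 (.one ⟨16838, 0, 1⟩) (.one ⟨2986, 1, 0⟩)))))) (.node 16 (.node 8 (.node 4 (.node 2 (.node 1 (.one ⟨3198, 0, 0⟩) (.one ⟨2654, 0, 2⟩)) (.node 1 (.one ⟨2000, 1, 0⟩) (.one ⟨17092, 0, 3⟩))) (.node 2 (.node 1 (.one ⟨10086, 0, 3⟩) (.one ⟨5648, 0, 3⟩)) (.node 1 (.one ⟨5242, 0, 3⟩) (.one ⟨9562, 0, 1⟩)))) (.node 4 (.node 2 (.node 1 (.one ⟨11783, 0, 2⟩) (.one ⟨1273, 0, 2⟩)) (.node 1 (.one ⟨1048, 1, 2⟩) (.one ⟨13863, 0, 3⟩))) (.node 2 (.node 1 (.one ⟨11051, 1, 1⟩) (.one ⟨12575, 0, 2⟩)) (.node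 1 (.one ⟨11146, 1, 2⟩) (.one ⟨10272, 0, 2⟩))))) (.node 8 (.node 4 (.node 2 (.node 1 (.one ⟨12694, 0, 1⟩) (.one ⟨1142, 1, 0⟩)) (.node 1 (.one ⟨14824, 0, 1⟩) (.one ⟨6590, 0, 3⟩))) (.node 2 (.node 1 (.one ⟨6771, 0, 1⟩) (.one ⟨12299, 0, 2⟩)) (.node 1 (.one ⟨3446, 0, 0⟩) (.one ⟨9531, 0, 1⟩)))) (.node 4 (.node 2 (.node 1 (.one ⟨2414, 1, 0⟩) (.one ⟨3237, 1, 0⟩)) (.node 1 (.one ⟨15013, 0, 2⟩) (.one ⟨9247, 0, 2⟩))) (.node 2 (.node 1 (.one ⟨3073, 1, 1⟩) (.one ⟨3302, 1, 0⟩)) (.node 1 (.one ⟨11171, 1, 1⟩) (.one ⟨11103, 1, 1⟩)))))))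
def par5_0_15 : Arr Par :=
  (.node 32 (.node 16 (.node 8 (.node 4 (.node 2 (.node 1 (.one ⟨5123, 1, 2⟩) (.one ⟨5515, 1, 1⟩)) (.node 1 (.one ⟨14063, 0, 1⟩) (.one ⟨13592, 1, 1⟩))) (.node 2 (.node 1 (.one ⟨219, 0, 0⟩) (.one ⟨1374, 1, 0⟩)) (.node 1 (.one ⟨2976, 0, 1⟩) (.one ⟨9871, 0, 2⟩)))) (.node 4 (.node 2 (.node 1 (.one ⟨4407, 1, 2⟩) (.one ⟨5057, 1, 0⟩)) (.node 1 (.one ⟨13396, 0, 1⟩) (.one ⟨15555, 0, 3⟩))) (.node 2 (.node 1 (.one ⟨3483, 1, 0⟩) (.one ⟨8274, 0, 1⟩)) (.node 1 (.one ⟨8964, 0, 3⟩) (.one ⟨4781, 0, 3⟩))))) (.node 8 (.node 4 (.node 2 (.node 1 (.one ⟨6420, 0, 3⟩) (.one ⟨3395, 1, 0⟩)) (.node 1 (.one ⟨14900, 0, 2⟩) (.one ⟨1525, 0, 2⟩))) (.node 2 (.node 1 (.one ⟨14643, 0, 1⟩) (.one ⟨2538, 1, 2⟩)) (.node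 1 (.one ⟨11805, 1, 2⟩) (.one ⟨2805, 1, 0⟩)))) (.node 4 (.node 2 (.node 1 (.one ⟨15166, 1, 2⟩) (.one ⟨1089, 0, 2⟩)) (.node 1 (.one ⟨5432, 1, 0⟩) (.one ⟨17189, 0, 2⟩))) (.node 2 (.node 1 (.one ⟨1874, 0, 2⟩) (.one ⟨6830, 1, 2⟩)) (.node 1 (.one ⟨3179, 0, 1⟩) (.one ⟨14373, 0, 1⟩)))))) (.node 16 (.node 8 (.node 4 (.node 2 (.node 1 (.one ⟨8436, 0, 1⟩) (.one ⟨3807, 0, 1⟩)) (.node 1 (.one ⟨213, 1, 0⟩) (.one ⟨15543, 0, 2⟩))) (.node 2 (.node 1 (.one ⟨12856, 1, 2⟩) (.one ⟨10739, 1, 1⟩)) (.node 1 (.one ⟨739, 1, 0⟩) (.one ⟨7147, 0, 3⟩)))) (.node 4 (.node 2 (.node 1 (.one ⟨13270, 0, 2⟩) (.one ⟨12453, 1, 1⟩)) (.node 1 (.one ⟨4296, 1, 1⟩) (.one ⟨14292, 1, 1⟩))) (.node 2 (.node 1 (.one ⟨7731, 1, 1⟩) (.one ⟨15843, 1, 1⟩)) (.node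 1 (.one ⟨6408, 1, 1⟩) (.one ⟨9410, 0, 1⟩))))) (.node 8 (.node 4 (.node 2 (.node 1 (.one ⟨15879, 1, 2⟩) (.one ⟨16075, 0, 2⟩)) (.node 1 (.one ⟨5868, 0, 3⟩) (.one ⟨1408, 0, 2⟩))) (.node 2 (.node 1 (.one ⟨15086, 1, 2⟩) (.one ⟨4601, 1, 0⟩)) (.node 1 (.one ⟨11233, 0, 2⟩) (.one ⟨11020, 0, 1⟩)))) (.node 4 (.node 2 (.node 1 (.one ⟨870, 0, 3⟩) (.one ⟨3717, 0, 0⟩)) (.node 1 (.one ⟨1058, 0, 1⟩) (.one ⟨914, 0, 2⟩))) (.node 2 (.node 1 (.one ⟨16411, 1, 1⟩) (.one ⟨8309, 0, 2⟩)) (.node 1 (.one ⟨11959, 0, 2⟩) (.one ⟨9375, 0, 2⟩)))))))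
def par5_0 : Arr Par :=
  (.node 512 (.node 256 (.node 128 (.node 64 par5_0_0 par5_0_1) (.node 64 par5_0_2 par5_0_3)) (.node 128 (.node 64 par5_0_4 par5_0_5) (.node 64 par5_0_6 par5_0_7))) (.node 256 (.node 128 (.node 64 par5_0_8 par5_0_9) (.node 64 par5_0_10 par5_0_11)) (.node 128 (.node 64 par5_0_12 par5_0_13) (.node 64 par5_0_14 par5_0_15))))
def par5_1_0 : Arr Par :=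
  (.node 32 (.node 16 (.node 8 (.node 4 (.node 2 (.node 1 (.one ⟨6021, 0, 2⟩) (.one ⟨8334, 1, 1⟩)) (.node 1 (.one ⟨14649, 0, 1⟩) (.one ⟨1184, 0, 1⟩))) (.node 2 (.node 1 (.one ⟨11927, 1, 2⟩) (.one ⟨757, 1, 2⟩)) (.node 1 (.one ⟨6848, 0, 2⟩) (.one ⟨1813, 1, 0⟩)))) (.node 4 (.node 2 (.node 1 (.one ⟨9449, 0, 1⟩) (.one ⟨3170, 0, 3⟩)) (.node 1 (.one ⟨6722, 0, 3⟩) (.one ⟨1452, 1, 0⟩))) (.node 2 (.node 1 (.one ⟨7848, 0, 3⟩) (.one ⟨10037, 0, 2⟩)) (.node 1 (.one ⟨9490, 0, 1⟩) (.one ⟨1169, 1, 0⟩))))) (.node 8 (.node 4 (.node 2 (.node 1 (.one ⟨8211, 0, 2⟩) (.one ⟨4788, 0, 1⟩)) (.node 1 (.one ⟨2326, 1, 0⟩) (.one ⟨1017, 0, 1⟩))) (.node 2 (.node 1 (.one ⟨3267, 1, 0⟩) (.one ⟨15908, 0, 1⟩)) (.node 1 (.one ⟨913, 0, 2⟩) (.one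 ⟨15665, 0, 1⟩)))) (.node 4 (.node 2 (.node 1 (.one ⟨880, 0, 1⟩) (.one ⟨12105, 0, 3⟩)) (.node 1 (.one ⟨1840, 1, 0⟩) (.one ⟨14779, 1, 2⟩))) (.node 2 (.node 1 (.one ⟨10581, 0, 2⟩) (.one ⟨11243, 0, 1⟩)) (.node 1 (.one ⟨14688, 1, 2⟩) (.one ⟨1970, 0, 1⟩)))))) (.node 16 (.node 8 (.node 4 (.node 2 (.node 1 (.one ⟨9433, 0, 1⟩) (.one ⟨7351, 1, 2⟩)) (.node 1 (.one ⟨1633, 1, 0⟩) (.one ⟨1073, 0, 2⟩))) (.node 2 (.node 1 (.one ⟨5247, 1, 1⟩) (.one ⟨16110, 0, 2⟩)) (.node 1 (.one ⟨5118, 1, 0⟩) (.one ⟨895, 0, 1⟩)))) (.node 4 (.node 2 (.node 1 (.one ⟨13711, 0, 3⟩) (.one ⟨3284, 1, 0⟩)) (.node 1 (.one ⟨4598, 1, 1⟩) (.one ⟨16369, 0, 2⟩))) (.node 2 (.node 1 (.one ⟨15640, 0, 1⟩) (.one ⟨3275, 1, 2⟩)) (.node 1 (.one ⟨11607, 0, 2⟩) (.one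 ⟨3088, 1, 0⟩))))) (.node 8 (.node 4 (.node 2 (.node 1 (.one ⟨1038, 1, 0⟩) (.one ⟨14616, 1, 1⟩)) (.node 1 (.one ⟨4283, 0, 2⟩) (.one ⟨2390, 1, 0⟩))) (.node 2 (.node 1 (.one ⟨2973, 1, 0⟩) (.one ⟨14576, 1, 1⟩)) (.node 1 (.one ⟨6525, 1, 1⟩) (.one ⟨3356, 1, 0⟩)))) (.node 4 (.node 2 (.node 1 (.one ⟨937, 1, 0⟩) (.one ⟨10408, 1, 1⟩)) (.node 1 (.one ⟨8185, 0, 2⟩) (.one ⟨14624, 1, 2⟩))) (.node 2 (.node 1 (.one ⟨3706, 1, 0⟩) (.one ⟨10368, 1, 1⟩)) (.node 1 (.one ⟨2317, 1, 1⟩) (.one ⟨3901, 1, 0⟩)))))))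
def par5_1_1 : Arr Par :=
  (.node 32 (.node 16 (.node 8 (.node 4 (.node 2 (.node 1 (.one ⟨3882, 0, 2⟩) (.one ⟨2737, 1, 1⟩)) (.node 1 (.one ⟨7983, 1, 1⟩) (.one ⟨1843, 1, 1⟩))) (.node 2 (.node 1 (.one ⟨8373, 1, 1⟩) (.one ⟨11157, 0, 3⟩)) (.node 1 (.one ⟨9023, 0, 3⟩) (.one ⟨10433, 0, 3⟩)))) (.node 4 (.node 2 (.node 1 (.one ⟨16450, 1, 1⟩) (.one ⟨13197, 0, 3⟩)) (.node 1 (.one ⟨3127, 0, 1⟩) (.one ⟨11890, 0, 2⟩))) (.node 2 (.node 1 (.one ⟨2198, 0, 3⟩) (.one ⟨11051, 0, 1⟩)) (.node 1 (.one ⟨4944, 0, 2⟩) (.one ⟨16263, 1, 1⟩))))) (.node 8 (.node 4 (.node 2 (.node 1 (.one ⟨8197, 1, 1⟩) (.one ⟨1762, 1, 0⟩)) (.node 1 (.one ⟨986, 1, 0⟩) (.one ⟨8221, 1, 1⟩))) (.node 2 (.node 1 (.one ⟨1608, 0, 1⟩) (.one ⟨1163, 1, 0⟩)) (.node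 1 (.one ⟨564, 0, 0⟩) (.one ⟨12570, 1, 1⟩)))) (.node 4 (.node 2 (.node 1 (.one ⟨4499, 1, 1⟩) (.one ⟨2086, 1, 0⟩)) (.node 1 (.one ⟨3222, 1, 0⟩) (.one ⟨4492, 1, 1⟩))) (.node 2 (.node 1 (.one ⟨1072, 0, 1⟩) (.one ⟨4927, 1, 0⟩)) (.node 1 (.one ⟨2654, 1, 0⟩) (.one ⟨4975, 1, 0⟩)))))) (.node 16 (.node 8 (.node 4 (.node 2 (.node 1 (.one ⟨1533, 1, 0⟩) (.one ⟨4532, 1, 1⟩)) (.node 1 (.one ⟨12641, 1, 1⟩) (.one ⟨4545, 1, 0⟩))) (.node 2 (.node 1 (.one ⟨5149, 1, 0⟩) (.one ⟨12657, 1, 1⟩)) (.node 1 (.one ⟨4644, 0, 1⟩) (.one ⟨191, 0, 0⟩)))) (.node 4 (.node 2 (.node 1 (.one ⟨3813, 0, 1⟩) (.one ⟨8572, 1, 1⟩)) (.node 1 (.one ⟨16683, 1, 1⟩) (.one ⟨16315, 0, 1⟩))) (.node 2 (.node 1 (.one ⟨14410, 0, 2⟩) (.one ⟨16573, 1, 1⟩)) (.node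 1 (.one ⟨8552, 1, 1⟩) (.one ⟨3677, 1, 0⟩))))) (.node 8 (.node 4 (.node 2 (.node 1 (.one ⟨1737, 1, 0⟩) (.one ⟨3347, 1, 0⟩)) (.node 1 (.one ⟨10249, 1, 2⟩) (.one ⟨5825, 1, 1⟩))) (.node 2 (.node 1 (.one ⟨5855, 1, 1⟩) (.one ⟨13875, 1, 1⟩)) (.node 1 (.one ⟨16599, 0, 2⟩) (.one ⟨1641, 1, 0⟩)))) (.node 4 (.node 2 (.node 1 (.one ⟨730, 1, 0⟩) (.one ⟨5143, 1, 0⟩)) (.node 1 (.one ⟨5346, 1, 0⟩) (.one ⟨12151, 0, 3⟩))) (.node 2 (.node 1 (.one ⟨2126, 1, 1⟩) (.one ⟨10201, 1, 2⟩)) (.node 1 (.one ⟨10168, 1, 1⟩) (.one ⟨3523, 0, 1⟩)))))))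
def par5_1_2 : Arr Par :=
  (.node 32 (.node 16 (.node 8 (.node 4 (.node 2 (.node 1 (.one ⟨160, 0, 1⟩) (.one ⟨8063, 0, 1⟩)) (.node 1 (.one ⟨5942, 0, 1⟩) (.one ⟨10013, 1, 1⟩))) (.node 2 (.node 1 (.one ⟨3708, 0, 2⟩) (.one ⟨5731, 0, 3⟩)) (.node 1 (.one ⟨7600, 0, 2⟩) (.one ⟨8860, 0, 3⟩)))) (.node 4 (.node 2 (.node 1 (.one ⟨8828, 0, 3⟩) (.one ⟨9399, 0, 1⟩)) (.node 1 (.one ⟨9503, 0, 1⟩) (.one ⟨8844, 0, 3⟩))) (.node 2 (.node 1 (.one ⟨8874, 0, 3⟩) (.one ⟨9618, 0, 3⟩)) (.node 1 (.one ⟨9417, 0, 1⟩) (.one ⟨4793, 1, 0⟩))))) (.node 8 (.node 4 (.node 2 (.node 1 (.one ⟨3095, 1, 0⟩) (.one ⟨3894, 1, 2⟩)) (.node 1 (.one ⟨2539, 1, 0⟩) (.one ⟨6810, 0, 2⟩))) (.node 2 (.node 1 (.one ⟨16321, 1, 1⟩) (.one ⟨16363, 1, 1⟩)) (.node 1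 (.one ⟨8268, 1, 1⟩) (.one ⟨2133, 1, 0⟩)))) (.node 4 (.node 2 (.node 1 (.one ⟨2338, 1, 0⟩) (.one ⟨2645, 1, 0⟩)) (.node 1 (.one ⟨3952, 1, 0⟩) (.one ⟨11974, 1, 2⟩))) (.node 2 (.node 1 (.one ⟨3941, 1, 1⟩) (.one ⟨3911, 1, 1⟩)) (.node 1 (.one ⟨12010, 1, 1⟩) (.one ⟨4299, 1, 0⟩)))))) (.node 16 (.node 8 (.node 4 (.node 2 (.node 1 (.one ⟨650, 1, 0⟩) (.one ⟨13161, 1, 1⟩)) (.node 1 (.one ⟨5066, 1, 1⟩) (.one ⟨1230, 1, 0⟩))) (.node 2 (.node 1 (.one ⟨1051, 1, 0⟩) (.one ⟨13121, 1, 1⟩)) (.node 1 (.one ⟨9543, 0, 1⟩) (.one ⟨1828, 0, 0⟩)))) (.node 4 (.node 2 (.node 1 (.one ⟨1774, 1, 0⟩) (.one ⟨8838, 0, 1⟩)) (.node 1 (.one ⟨17127, 1, 1⟩) (.one ⟨4319, 1, 0⟩))) (.node 2 (.node 1 (.one ⟨1133, 1, 0⟩) (.one ⟨9056, 1, 1⟩)) (.node 1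 (.one ⟨17090, 1, 1⟩) (.one ⟨4049, 0, 1⟩))))) (.node 8 (.node 4 (.node 2 (.node 1 (.one ⟨9560, 0, 2⟩) (.one ⟨77, 1, 1⟩)) (.node 1 (.one ⟨2991, 1, 0⟩) (.one ⟨2848, 0, 1⟩))) (.node 2 (.node 1 (.one ⟨13119, 0, 1⟩) (.one ⟨606, 1, 1⟩)) (.node 1 (.one ⟨2797, 1, 0⟩) (.one ⟨86, 1, 1⟩)))) (.node 4 (.node 2 (.node 1 (.one ⟨2436, 1, 0⟩) (.one ⟨11095, 0, 1⟩)) (.node 1 (.one ⟨5408, 0, 1⟩) (.one ⟨3538, 1, 0⟩))) (.node 2 (.node 1 (.one ⟨582, 1, 1⟩) (.one ⟨12520, 0, 1⟩)) (.node 1 (.one ⟨1920, 0, 1⟩) (.one ⟨2242, 1, 0⟩)))))))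
def par5_1_3 : Arr Par :=
  (.node 32 (.node 16 (.node 8 (.node 4 (.node 2 (.node 1 (.one ⟨5693, 1, 2⟩) (.one ⟨2003, 1, 1⟩)) (.node 1 (.one ⟨10048, 1, 1⟩) (.one ⟨3086, 1, 0⟩))) (.node 2 (.node 1 (.one ⟨2874, 1, 0⟩) (.one ⟨10095, 1, 1⟩)) (.node 1 (.one ⟨2083, 1, 2⟩) (.one ⟨7825, 0, 2⟩)))) (.node 4 (.node 2 (.node 1 (.one ⟨13814, 1, 1⟩) (.one ⟨2209, 1, 0⟩)) (.node 1 (.one ⟨2789, 1, 0⟩) (.one ⟨4402, 0, 2⟩))) (.node 2 (.node 1 (.one ⟨5718, 1, 1⟩) (.one ⟨614, 1, 0⟩)) (.node 1 (.one ⟨2776, 1, 0⟩) (.one ⟨2454, 1, 0⟩))))) (.node 8 (.node 4 (.node 2 (.node 1 (.one ⟨5191, 1, 0⟩) (.one ⟨2694, 1, 1⟩)) (.node 1 (.one ⟨2712, 1, 2⟩) (.one ⟨6406, 1, 2⟩))) (.node 2 (.node 1 (.one ⟨3766, 1, 0⟩) (.one ⟨2733, 1, 1⟩)) (.node 1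 (.one ⟨2672, 1, 1⟩) (.one ⟨7256, 0, 2⟩)))) (.node 4 (.node 2 (.node 1 (.one ⟨14456, 1, 1⟩) (.one ⟨352, 0, 0⟩)) (.node 1 (.one ⟨926, 1, 0⟩) (.one ⟨10396, 0, 3⟩))) (.node 2 (.node 1 (.one ⟨14480, 1, 1⟩) (.one ⟨551, 1, 0⟩)) (.node 1 (.one ⟨10749, 1, 2⟩) (.one ⟨12589, 1, 2⟩)))))) (.node 16 (.node 8 (.node 4 (.node 2 (.node 1 (.one ⟨4712, 0, 2⟩) (.one ⟨1406, 1, 0⟩)) (.node 1 (.one ⟨934, 1, 0⟩) (.one ⟨4506, 1, 1⟩))) (.node 2 (.node 1 (.one ⟨12554, 1, 1⟩) (.one ⟨12563, 1, 1⟩)) (.node 1 (.one ⟨13898, 0, 2⟩) (.one ⟨5101, 1, 0⟩)))) (.node 4 (.node 2 (.node 1 (.one ⟨1459, 1, 0⟩) (.one ⟨3562, 1, 0⟩)) (.node 1 (.one ⟨2427, 1, 0⟩) (.one ⟨16253, 1, 1⟩))) (.node 2 (.node 1 (.one ⟨8234, 1, 1⟩) (.one ⟨8175, 1, 1⟩)) (.node 1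 (.one ⟨16290, 1, 1⟩) (.one ⟨13754, 1, 1⟩))))) (.node 8 (.node 4 (.node 2 (.node 1 (.one ⟨5786, 1, 1⟩) (.one ⟨3344, 0, 0⟩)) (.node 1 (.one ⟨1059, 1, 0⟩) (.one ⟨5720, 1, 1⟩))) (.node 2 (.node 1 (.one ⟨15869, 0, 2⟩) (.one ⟨505, 1, 0⟩)) (.node 1 (.one ⟨2831, 0, 0⟩) (.one ⟨1013, 0, 0⟩)))) (.node 4 (.node 2 (.node 1 (.one ⟨5459, 1, 0⟩) (.one ⟨2031, 1, 1⟩)) (.node 1 (.one ⟨8531, 0, 2⟩) (.one ⟨3243, 1, 0⟩))) (.node 2 (.node 1 (.one ⟨10061, 1, 2⟩) (.one ⟨10144, 1, 1⟩)) (.node 1 (.one ⟨14696, 0, 3⟩) (.one ⟨17097, 1, 1⟩)))))))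
def par5_1_4 : Arr Par :=
  (.node 32 (.node 16 (.node 8 (.node 4 (.node 2 (.node 1 (.one ⟨17124, 1, 2⟩) (.one ⟨2891, 1, 0⟩)) (.node 1 (.one ⟨630, 1, 0⟩) (.one ⟨9025, 1, 2⟩))) (.node 2 (.node 1 (.one ⟨9068, 1, 1⟩) (.one ⟨3546, 1, 0⟩)) (.node 1 (.one ⟨3679, 1, 0⟩) (.one ⟨3207, 0, 3⟩)))) (.node 4 (.node 2 (.node 1 (.one ⟨5048, 1, 2⟩) (.one ⟨3655, 1, 0⟩)) (.node 1 (.one ⟨2925, 1, 0⟩) (.one ⟨13150, 1, 2⟩))) (.node 2 (.node 1 (.one ⟨13105, 1, 1⟩) (.one ⟨3777, 1, 0⟩)) (.node 1 (.one ⟨1585, 1, 0⟩) (.one ⟨1251, 1, 0⟩))))) (.node 8 (.node 4 (.node 2 (.node 1 (.one ⟨1204, 1, 0⟩) (.one ⟨15419, 1, 1⟩)) (.node 1 (.one ⟨12716, 0, 2⟩) (.one ⟨3179, 1, 0⟩))) (.node 2 (.node 1 (.one ⟨3339, 1, 0⟩) (.one ⟨7349, 1, 1⟩)) (.node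 1 (.one ⟨7404, 1, 1⟩) (.one ⟨6498, 0, 2⟩)))) (.node 4 (.node 2 (.node 1 (.one ⟨11455, 1, 1⟩) (.one ⟨2952, 1, 0⟩)) (.node 1 (.one ⟨7373, 1, 2⟩) (.one ⟨3412, 1, 1⟩))) (.node 2 (.node 1 (.one ⟨252, 0, 3⟩) (.one ⟨3631, 1, 0⟩)) (.node 1 (.one ⟨3112, 1, 0⟩) (.one ⟨6791, 1, 1⟩)))))) (.node 16 (.node 8 (.node 4 (.node 2 (.node 1 (.one ⟨897, 0, 0⟩) (.one ⟨3078, 1, 0⟩)) (.node 1 (.one ⟨6715, 1, 1⟩) (.one ⟨14829, 1, 1⟩))) (.node 2 (.node 1 (.one ⟨3157, 1, 0⟩) (.one ⟨1214, 1, 0⟩)) (.node 1 (.one ⟨14871, 1, 1⟩) (.one ⟨2885, 1, 0⟩)))) (.node 4 (.node 2 (.node 1 (.one ⟨3039, 1, 1⟩) (.one ⟨3108, 1, 1⟩)) (.node 1 (.one ⟨4921, 0, 0⟩) (.one ⟨795, 1, 0⟩))) (.node 2 (.node 1 (.one ⟨1472, 0, 1⟩) (.one ⟨5827, 0, 1⟩)) (.node 1 (.one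 ⟨2851, 1, 0⟩) (.one ⟨688, 1, 0⟩))))) (.node 8 (.node 4 (.node 2 (.node 1 (.one ⟨3122, 1, 0⟩) (.one ⟨11465, 1, 1⟩)) (.node 1 (.one ⟨3417, 1, 1⟩) (.one ⟨1538, 1, 0⟩))) (.node 2 (.node 1 (.one ⟨1477, 1, 0⟩) (.one ⟨13303, 0, 3⟩)) (.node 1 (.one ⟨7850, 0, 1⟩) (.one ⟨1301, 1, 0⟩)))) (.node 4 (.node 2 (.node 1 (.one ⟨1186, 1, 0⟩) (.one ⟨15432, 1, 1⟩)) (.node 1 (.one ⟨9207, 0, 3⟩) (.one ⟨1599, 1, 0⟩))) (.node 2 (.node 1 (.one ⟨674, 1, 0⟩) (.one ⟨15440, 1, 1⟩)) (.node 1 (.one ⟨7363, 1, 1⟩) (.one ⟨14383, 1, 1⟩)))))))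
def par5_1_5 : Arr Par :=
  (.node 32 (.node 16 (.node 8 (.node 4 (.node 2 (.node 1 (.one ⟨6370, 1, 1⟩) (.one ⟨8527, 0, 2⟩)) (.node 1 (.one ⟨6334, 1, 1⟩) (.one ⟨764, 1, 0⟩))) (.node 2 (.node 1 (.one ⟨2978, 1, 0⟩) (.one ⟨1694, 1, 0⟩)) (.node 1 (.one ⟨1370, 1, 0⟩) (.one ⟨3467, 0, 2⟩)))) (.node 4 (.node 2 (.node 1 (.one ⟨10690, 1, 1⟩) (.one ⟨2638, 1, 1⟩)) (.node 1 (.one ⟨10718, 1, 1⟩) (.one ⟨1845, 1, 0⟩))) (.node 2 (.node 1 (.one ⟨5422, 1, 0⟩) (.one ⟨801, 1, 0⟩)) (.node 1 (.one ⟨1596, 1, 0⟩) (.one ⟨2960, 0, 1⟩))))) (.node 8 (.node 4 (.node 2 (.node 1 (.one ⟨2799, 0, 1⟩) (.one ⟨610, 1, 1⟩)) (.node 1 (.one ⟨1446, 1, 0⟩) (.one ⟨9143, 0, 2⟩))) (.node 2 (.node 1 (.one ⟨10120, 0, 1⟩) (.one ⟨446, 0, 0⟩)) (.node 1 (.one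 ⟨65, 1, 1⟩) (.one ⟨11984, 0, 1⟩)))) (.node 4 (.node 2 (.node 1 (.one ⟨12471, 0, 1⟩) (.one ⟨4819, 1, 0⟩)) (.node 1 (.one ⟨575, 1, 1⟩) (.one ⟨5311, 0, 1⟩))) (.node 2 (.node 1 (.one ⟨5231, 0, 1⟩) (.one ⟨84, 1, 1⟩)) (.node 1 (.one ⟨2278, 1, 0⟩) (.one ⟨17150, 1, 2⟩)))))) (.node 16 (.node 8 (.node 4 (.node 2 (.node 1 (.one ⟨17166, 1, 1⟩) (.one ⟨2826, 1, 0⟩)) (.node 1 (.one ⟨3622, 1, 0⟩) (.one ⟨9130, 1, 2⟩))) (.node 2 (.node 1 (.one ⟨9113, 1, 1⟩) (.one ⟨3274, 1, 0⟩)) (.node 1 (.one ⟨3578, 1, 0⟩) (.one ⟨3385, 1, 0⟩)))) (.node 4 (.node 2 (.node 1 (.one ⟨3196, 0, 0⟩) (.one ⟨5112, 1, 2⟩)) (.node 1 (.one ⟨16430, 0, 3⟩) (.one ⟨2889, 1, 0⟩))) (.node 2 (.node 1 (.one ⟨3046, 1, 0⟩) (.one ⟨13225, 1, 2⟩)) (.node 1 (.one ⟨13209,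 1, 1⟩) (.one ⟨4941, 1, 0⟩))))) (.node 8 (.node 4 (.node 2 (.node 1 (.one ⟨1993, 1, 0⟩) (.one ⟨1455, 0, 1⟩)) (.node 1 (.one ⟨13198, 1, 1⟩) (.one ⟨16903, 0, 3⟩))) (.node 2 (.node 1 (.one ⟨2033, 0, 0⟩) (.one ⟨13178, 1, 1⟩)) (.node 1 (.one ⟨5146, 1, 1⟩) (.one ⟨2217, 0, 0⟩)))) (.node 4 (.node 2 (.node 1 (.one ⟨2948, 0, 0⟩) (.one ⟨17138, 1, 1⟩)) (.node 1 (.one ⟨5698, 0, 1⟩) (.one ⟨14058, 0, 2⟩))) (.node 2 (.node 1 (.one ⟨2363, 1, 0⟩) (.one ⟨9122, 1, 1⟩)) (.node 1 (.one ⟨17157, 1, 1⟩) (.one ⟨2184, 1, 1⟩)))))))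
def par5_1_6 : Arr Par :=
  (.node 32 (.node 16 (.node 8 (.node 4 (.node 2 (.node 1 (.one ⟨10237, 1, 1⟩) (.one ⟨2471, 1, 0⟩)) (.node 1 (.one ⟨3599, 1, 0⟩) (.one ⟨10264, 1, 1⟩))) (.node 2 (.node 1 (.one ⟨2221, 1, 1⟩) (.one ⟨5154, 1, 0⟩)) (.node 1 (.one ⟨898, 1, 0⟩) (.one ⟨1445, 1, 0⟩)))) (.node 4 (.node 2 (.node 1 (.one ⟨5923, 1, 2⟩) (.one ⟨3466, 0, 3⟩)) (.node 1 (.one ⟨4800, 0, 2⟩) (.one ⟨5889, 1, 2⟩))) (.node 2 (.node 1 (.one ⟨1997, 0, 0⟩) (.one ⟨5840, 1, 2⟩)) (.node 1 (.one ⟨13926, 1, 1⟩) (.one ⟨3143, 0, 2⟩))))) (.node 8 (.node 4 (.node 2 (.node 1 (.one ⟨875, 0, 0⟩) (.one ⟨3865, 1, 1⟩)) (.node 1 (.one ⟨3831, 1, 1⟩) (.one ⟨3182, 1, 0⟩))) (.node 2 (.node 1 (.one ⟨3072, 1, 0⟩) (.one ⟨11912, 1, 1⟩)) (.node 1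 (.one ⟨11945, 1, 1⟩) (.one ⟨1412, 1, 0⟩)))) (.node 4 (.node 2 (.node 1 (.one ⟨2450, 0, 0⟩) (.one ⟨15823, 1, 1⟩)) (.node 1 (.one ⟨15794, 1, 1⟩) (.one ⟨2549, 1, 0⟩))) (.node 2 (.node 1 (.one ⟨1415, 0, 0⟩) (.one ⟨7744, 1, 1⟩)) (.node 1 (.one ⟨1536, 0, 1⟩) (.one ⟨1588, 1, 1⟩)))))) (.node 16 (.node 8 (.node 4 (.node 2 (.node 1 (.one ⟨16637, 0, 3⟩) (.one ⟨4505, 1, 0⟩)) (.node 1 (.one ⟨3785, 1, 0⟩) (.one ⟨9715, 1, 2⟩))) (.node 2 (.node 1 (.one ⟨9702, 1, 2⟩) (.one ⟨3429, 1, 0⟩)) (.node 1 (.one ⟨3436, 1, 0⟩) (.one ⟨14014, 1, 1⟩)))) (.node 4 (.node 2 (.node 1 (.one ⟨14119, 1, 2⟩) (.one ⟨3435, 0, 0⟩)) (.node 1 (.one ⟨4967, 1, 0⟩) (.one ⟨6008, 1, 1⟩))) (.node 2 (.node 1 (.one ⟨5998, 1, 1⟩) (.one ⟨4110, 1, 0⟩)) (.node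 1 (.one ⟨3228, 1, 0⟩) (.one ⟨1015, 1, 0⟩))))) (.node 8 (.node 4 (.node 2 (.node 1 (.one ⟨1088, 1, 0⟩) (.one ⟨6075, 0, 2⟩)) (.node 1 (.one ⟨14088, 1, 1⟩) (.one ⟨2361, 1, 0⟩))) (.node 2 (.node 1 (.one ⟨991, 1, 0⟩) (.one ⟨5966, 1, 1⟩)) (.node 1 (.one ⟨6040, 1, 1⟩) (.one ⟨9653, 1, 1⟩)))) (.node 4 (.node 2 (.node 1 (.one ⟨2372, 1, 0⟩) (.one ⟨7258, 0, 3⟩)) (.node 1 (.one ⟨3355, 1, 0⟩) (.one ⟨1637, 1, 1⟩))) (.node 2 (.node 1 (.one ⟨3101, 1, 0⟩) (.one ⟨17198, 0, 2⟩)) (.node 1 (.one ⟨3369, 1, 0⟩) (.one ⟨3798, 1, 0⟩)))))))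
def par5_1_7 : Arr Par :=
  (.node 32 (.node 16 (.node 8 (.node 4 (.node 2 (.node 1 (.one ⟨662, 1, 0⟩) (.one ⟨2226, 1, 1⟩)) (.node 1 (.one ⟨8184, 0, 2⟩) (.one ⟨2811, 1, 0⟩))) (.node 2 (.node 1 (.one ⟨1744, 0, 0⟩) (.one ⟨10326, 1, 1⟩)) (.node 1 (.one ⟨11175, 0, 2⟩) (.one ⟨1333, 1, 0⟩)))) (.node 4 (.node 2 (.node 1 (.one ⟨462, 1, 0⟩) (.one ⟨14542, 1, 1⟩)) (.node 1 (.one ⟨6494, 1, 1⟩) (.one ⟨2266, 1, 2⟩))) (.node 2 (.node 1 (.one ⟨5094, 1, 0⟩) (.one ⟨6504, 1, 1⟩)) (.node 1 (.one ⟨14522, 1, 1⟩) (.one ⟨3908, 1, 1⟩))))) (.node 8 (.node 4 (.node 2 (.node 1 (.one ⟨11975, 1, 1⟩) (.one ⟨5105, 1, 0⟩)) (.node 1 (.one ⟨4075, 0, 1⟩) (.one ⟨11999, 1, 1⟩))) (.node 2 (.node 1 (.one ⟨3950, 1, 1⟩) (.one ⟨2714, 1, 0⟩)) (.node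 1 (.one ⟨14208, 0, 1⟩) (.one ⟨8271, 1, 1⟩)))) (.node 4 (.node 2 (.node 1 (.one ⟨16350, 1, 1⟩) (.one ⟨1180, 1, 0⟩)) (.node 1 (.one ⟨10254, 0, 1⟩) (.one ⟨16308, 0, 1⟩))) (.node 2 (.node 1 (.one ⟨8249, 1, 1⟩) (.one ⟨5552, 0, 2⟩)) (.node 1 (.one ⟨8215, 0, 1⟩) (.one ⟨7398, 0, 3⟩)))))) (.node 16 (.node 8 (.node 4 (.node 2 (.node 1 (.one ⟨2919, 1, 2⟩) (.one ⟨1002, 0, 2⟩)) (.node 1 (.one ⟨1785, 0, 1⟩) (.one ⟨14957, 0, 3⟩))) (.node 2 (.node 1 (.one ⟨15104, 0, 3⟩) (.one ⟨10718, 0, 1⟩)) (.node 1 (.one ⟨1612, 1, 0⟩) (.one ⟨10963, 0, 1⟩)))) (.node 4 (.node 2 (.node 1 (.one ⟨5179, 0, 2⟩) (.one ⟨15240, 0, 1⟩)) (.node 1 (.one ⟨8696, 0, 3⟩) (.one ⟨10953, 1, 2⟩))) (.node 2 (.node 1 (.one ⟨6358, 0, 2⟩) (.one ⟨16688, 1, 2⟩))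 (.node 1 (.one ⟨2060, 0, 1⟩) (.one ⟨5337, 1, 0⟩))))) (.node 8 (.node 4 (.node 2 (.node 1 (.one ⟨10466, 0, 2⟩) (.one ⟨11198, 1, 1⟩)) (.node 1 (.one ⟨11212, 1, 1⟩) (.one ⟨8003, 0, 1⟩))) (.node 2 (.node 1 (.one ⟨3413, 1, 0⟩) (.one ⟨3178, 1, 1⟩)) (.node 1 (.one ⟨3160, 1, 1⟩) (.one ⟨209, 1, 0⟩)))) (.node 4 (.node 2 (.node 1 (.one ⟨3083, 1, 0⟩) (.one ⟨15591, 0, 1⟩)) (.node 1 (.one ⟨15576, 1, 1⟩) (.one ⟨5406, 1, 0⟩))) (.node 2 (.node 1 (.one ⟨16365, 0, 1⟩) (.one ⟨7484, 1, 1⟩)) (.node 1 (.one ⟨7500, 1, 1⟩) (.one ⟨1503, 1, 0⟩)))))))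
def par5_1_8 : Arr Par :=
  (.node 32 (.node 16 (.node 8 (.node 4 (.node 2 (.node 1 (.one ⟨862, 1, 0⟩) (.one ⟨7533, 1, 1⟩)) (.node 1 (.one ⟨15566, 1, 1⟩) (.one ⟨2066, 1, 0⟩))) (.node 2 (.node 1 (.one ⟨3503, 0, 0⟩) (.one ⟨15546, 1, 1⟩)) (.node 1 (.one ⟨7824, 0, 2⟩) (.one ⟨3157, 1, 1⟩)))) (.node 4 (.node 2 (.node 1 (.one ⟨14797, 0, 2⟩) (.one ⟨3639, 1, 0⟩)) (.node 1 (.one ⟨1048, 1, 0⟩) (.one ⟨11202, 1, 1⟩))) (.node 2 (.node 1 (.one ⟨11499, 0, 3⟩) (.one ⟨1604, 1, 0⟩)) (.node 1 (.one ⟨2744, 1, 0⟩) (.one ⟨5480, 0, 1⟩))))) (.node 8 (.node 4 (.node 2 (.node 1 (.one ⟨10921, 0, 1⟩) (.one ⟨609, 1, 1⟩)) (.node 1 (.one ⟨5193, 1, 0⟩) (.one ⟨1439, 0, 2⟩))) (.node 2 (.node 1 (.one ⟨12449, 0, 1⟩) (.one ⟨69, 1, 1⟩)) (.node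 1 (.one ⟨66, 1, 1⟩) (.one ⟨605, 1, 1⟩)))) (.node 4 (.node 2 (.node 1 (.one ⟨600, 1, 1⟩) (.one ⟨9991, 0, 1⟩)) (.node 1 (.one ⟨3903, 0, 1⟩) (.one ⟨2614, 1, 0⟩))) (.node 2 (.node 1 (.one ⟨2329, 1, 0⟩) (.one ⟨13263, 0, 1⟩)) (.node 1 (.one ⟨3023, 0, 1⟩) (.one ⟨10605, 0, 2⟩)))))) (.node 16 (.node 8 (.node 4 (.node 2 (.node 1 (.one ⟨9872, 1, 1⟩) (.one ⟨16778, 1, 1⟩)) (.node 1 (.one ⟨3740, 1, 1⟩) (.one ⟨14252, 1, 1⟩))) (.node 2 (.node 1 (.one ⟨2942, 1, 2⟩) (.one ⟨7711, 1, 2⟩)) (.node 1 (.one ⟨12917, 1, 1⟩) (.one ⟨4857, 1, 2⟩)))) (.node 4 (.node 2 (.node 1 (.one ⟨7906, 0, 2⟩) (.one ⟨8924, 0, 2⟩)) (.node 1 (.one ⟨12878, 0, 2⟩) (.one ⟨11774, 1, 2⟩))) (.node 2 (.node 1 (.one ⟨11394, 0, 3⟩) (.one ⟨9988, 0, 2⟩)) (.node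 1 (.one ⟨6555, 0, 1⟩) (.one ⟨1470, 0, 1⟩))))) (.node 8 (.node 4 (.node 2 (.node 1 (.one ⟨827, 1, 0⟩) (.one ⟨16893, 1, 2⟩)) (.node 1 (.one ⟨6576, 0, 1⟩) (.one ⟨6010, 1, 1⟩))) (.node 2 (.node 1 (.one ⟨3854, 1, 0⟩) (.one ⟨6690, 0, 3⟩)) (.node 1 (.one ⟨475, 0, 1⟩) (.one ⟨8897, 0, 2⟩)))) (.node 4 (.node 2 (.node 1 (.one ⟨15026, 0, 2⟩) (.one ⟨10711, 0, 1⟩)) (.node 1 (.one ⟨3562, 0, 2⟩) (.one ⟨16686, 0, 3⟩))) (.node 2 (.node 1 (.one ⟨7171, 0, 2⟩) (.one ⟨9416, 1, 1⟩)) (.node 1 (.one ⟨12871, 1, 2⟩) (.one ⟨9099, 0, 2⟩)))))))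
def par5_1_9 : Arr Par :=
  (.node 32 (.node 16 (.node 8 (.node 4 (.node 2 (.node 1 (.one ⟨8702, 0, 3⟩) (.one ⟨1449, 1, 1⟩)) (.node 1 (.one ⟨6207, 1, 1⟩) (.one ⟨13237, 0, 1⟩))) (.node 2 (.node 1 (.one ⟨6023, 1, 1⟩) (.one ⟨14207, 1, 1⟩)) (.node 1 (.one ⟨10773, 1, 2⟩) (.one ⟨2638, 0, 1⟩)))) (.node 4 (.node 2 (.node 1 (.one ⟨3021, 1, 0⟩) (.one ⟨13758, 0, 1⟩)) (.node 1 (.one ⟨2660, 1, 0⟩) (.one ⟨14161, 1, 2⟩))) (.node 2 (.node 1 (.one ⟨772, 1, 0⟩) (.one ⟨6986, 0, 3⟩)) (.node 1 (.one ⟨2770, 0, 0⟩) (.one ⟨5482, 0, 1⟩))))) (.node 8 (.node 4 (.node 2 (.node 1 (.one ⟨1470, 1, 1⟩) (.one ⟨10985, 1, 2⟩)) (.node 1 (.one ⟨11014, 1, 2⟩) (.one ⟨16656, 0, 2⟩))) (.node 2 (.node 1 (.one ⟨770, 1, 2⟩) (.one ⟨14614, 0, 2⟩)) (.node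 1 (.one ⟨4037, 0, 2⟩) (.one ⟨2943, 1, 1⟩)))) (.node 4 (.node 2 (.node 1 (.one ⟨1955, 1, 0⟩) (.one ⟨5658, 0, 2⟩)) (.node 1 (.one ⟨11215, 1, 1⟩) (.one ⟨459, 1, 0⟩))) (.node 2 (.node 1 (.one ⟨2518, 1, 1⟩) (.one ⟨9469, 1, 1⟩)) (.node 1 (.one ⟨9521, 0, 2⟩) (.one ⟨10316, 0, 2⟩)))))) (.node 16 (.node 8 (.node 4 (.node 2 (.node 1 (.one ⟨7874, 0, 1⟩) (.one ⟨2908, 1, 0⟩)) (.node 1 (.one ⟨15213, 0, 3⟩) (.one ⟨6577, 0, 2⟩))) (.node 2 (.node 1 (.one ⟨13409, 0, 1⟩) (.one ⟨522, 1, 0⟩)) (.node 1 (.one ⟨977, 0, 1⟩) (.one ⟨14066, 1, 2⟩)))) (.node 4 (.node 2 (.node 1 (.one ⟨5337, 1, 2⟩) (.one ⟨772, 0, 2⟩)) (.node 1 (.one ⟨2712, 1, 0⟩) (.one ⟨1710, 0, 2⟩))) (.node 2 (.node 1 (.one ⟨3187, 1, 0⟩) (.one ⟨16365, 1, 1⟩)) (.node 1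 (.one ⟨2878, 1, 2⟩) (.one ⟨7465, 0, 1⟩))))) (.node 8 (.node 4 (.node 2 (.node 1 (.one ⟨5659, 0, 3⟩) (.one ⟨2823, 0, 3⟩)) (.node 1 (.one ⟨2299, 0, 2⟩) (.one ⟨6269, 0, 1⟩))) (.node 2 (.node 1 (.one ⟨6807, 0, 3⟩) (.one ⟨1083, 0, 3⟩)) (.node 1 (.one ⟨3510, 1, 0⟩) (.one ⟨1907, 0, 2⟩)))) (.node 4 (.node 2 (.node 1 (.one ⟨13375, 0, 3⟩) (.one ⟨14048, 1, 2⟩)) (.node 1 (.one ⟨11301, 1, 2⟩) (.one ⟨10972, 1, 1⟩))) (.node 2 (.node 1 (.one ⟨9995, 0, 2⟩) (.one ⟨5059, 0, 2⟩)) (.node 1 (.one ⟨9346, 0, 2⟩) (.one ⟨435, 0, 1⟩)))))))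
def par5_1_10 : Arr Par :=
  (.node 32 (.node 16 (.node 8 (.node 4 (.node 2 (.node 1 (.one ⟨2976, 1, 1⟩) (.one ⟨6766, 0, 2⟩)) (.node 1 (.one ⟨1126, 1, 0⟩) (.one ⟨11809, 1, 2⟩))) (.node 2 (.node 1 (.one ⟨3728, 0, 3⟩) (.one ⟨1468, 1, 1⟩)) (.node 1 (.one ⟨8747, 0, 3⟩) (.one ⟨16915, 1, 2⟩)))) (.node 4 (.node 2 (.node 1 (.one ⟨16287, 0, 3⟩) (.one ⟨16360, 0, 3⟩)) (.node 1 (.one ⟨9470, 1, 1⟩) (.one ⟨10994, 1, 2⟩))) (.node 2 (.node 1 (.one ⟨6186, 0, 2⟩) (.one ⟨5610, 0, 2⟩)) (.node 1 (.one ⟨16393, 1, 1⟩) (.one ⟨10713, 0, 3⟩))))) (.node 8 (.node 4 (.node 2 (.node 1 (.one ⟨1585, 0, 3⟩) (.one ⟨12235, 0, 3⟩)) (.node 1 (.one ⟨3602, 0, 3⟩) (.one ⟨12363, 0, 3⟩))) (.node 2 (.node 1 (.one ⟨3548, 0, 1⟩) (.one ⟨1450, 1, 1⟩))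 (.node 1 (.one ⟨533, 0, 3⟩) (.one ⟨2121, 1, 0⟩)))) (.node 4 (.node 2 (.node 1 (.one ⟨4565, 1, 2⟩) (.one ⟨3781, 0, 1⟩)) (.node 1 (.one ⟨646, 1, 0⟩) (.one ⟨12835, 0, 2⟩))) (.node 2 (.node 1 (.one ⟨3408, 0, 2⟩) (.one ⟨14206, 1, 1⟩)) (.node 1 (.one ⟨12331, 0, 2⟩) (.one ⟨5825, 0, 1⟩)))))) (.node 16 (.node 8 (.node 4 (.node 2 (.node 1 (.one ⟨5855, 0, 1⟩) (.one ⟨1558, 0, 2⟩)) (.node 1 (.one ⟨1366, 0, 2⟩) (.one ⟨13875, 0, 1⟩))) (.node 2 (.node 1 (.one ⟨10645, 1, 2⟩) (.one ⟨9498, 0, 2⟩)) (.node 1 (.one ⟨9385, 0, 1⟩) (.one ⟨1315, 0, 2⟩)))) (.node 4 (.node 2 (.node 1 (.one ⟨15619, 0, 1⟩) (.one ⟨807, 1, 1⟩)) (.node 1 (.one ⟨9418, 1, 1⟩) (.one ⟨9856, 1, 1⟩))) (.node 2 (.node 1 (.one ⟨1830, 1, 2⟩) (.one ⟨9723, 1, 2⟩)) (.node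 1 (.one ⟨1610, 1, 1⟩) (.one ⟨5679, 1, 1⟩))))) (.node 8 (.node 4 (.node 2 (.node 1 (.one ⟨10, 1, 1⟩) (.one ⟨1905, 1, 1⟩)) (.node 1 (.one ⟨2987, 1, 0⟩) (.one ⟨13928, 1, 1⟩))) (.node 2 (.node 1 (.one ⟨6799, 0, 3⟩) (.one ⟨16754, 0, 1⟩)) (.node 1 (.one ⟨14152, 1, 1⟩) (.one ⟨7538, 0, 2⟩)))) (.node 4 (.node 2 (.node 1 (.one ⟨1623, 0, 2⟩) (.one ⟨15529, 0, 2⟩)) (.node 1 (.one ⟨10239, 0, 2⟩) (.one ⟨7504, 0, 3⟩))) (.node 2 (.node 1 (.one ⟨1433, 0, 2⟩) (.one ⟨2998, 1, 1⟩)) (.node 1 (.one ⟨12514, 1, 1⟩) (.one ⟨5801, 1, 1⟩)))))))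
def par5_1_11 : Arr Par :=
  (.node 32 (.node 16 (.node 8 (.node 4 (.node 2 (.node 1 (.one ⟨3664, 1, 1⟩) (.one ⟨6842, 1, 1⟩)) (.node 1 (.one ⟨4808, 1, 1⟩) (.one ⟨6526, 0, 1⟩))) (.node 2 (.node 1 (.one ⟨6525, 0, 1⟩) (.one ⟨6524, 0, 2⟩)) (.node 1 (.one ⟨11826, 1, 2⟩) (.one ⟨1593, 1, 2⟩)))) (.node 4 (.node 2 (.node 1 (.one ⟨3295, 1, 2⟩) (.one ⟨4905, 1, 0⟩)) (.node 1 (.one ⟨7278, 1, 2⟩) (.one ⟨9904, 1, 2⟩))) (.node 2 (.node 1 (.one ⟨3612, 0, 3⟩) (.one ⟨2946, 1, 0⟩)) (.node 1 (.one ⟨15564, 1, 1⟩) (.one ⟨1915, 1, 0⟩))))) (.node 8 (.node 4 (.node 2 (.node 1 (.one ⟨14184, 1, 2⟩) (.one ⟨188, 0, 3⟩)) (.node 1 (.one ⟨12702, 0, 3⟩) (.one ⟨11479, 0, 3⟩))) (.node 2 (.node 1 (.one ⟨4429, 0, 3⟩) (.one ⟨4554, 0, 3⟩)) (.node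 1 (.one ⟨357, 1, 1⟩) (.one ⟨7471, 0, 2⟩)))) (.node 4 (.node 2 (.node 1 (.one ⟨8840, 1, 2⟩) (.one ⟨3332, 0, 2⟩)) (.node 1 (.one ⟨6216, 1, 2⟩) (.one ⟨8950, 0, 2⟩))) (.node 2 (.node 1 (.one ⟨14411, 1, 2⟩) (.one ⟨1564, 0, 0⟩)) (.node 1 (.one ⟨12745, 0, 2⟩) (.one ⟨608, 0, 1⟩)))))) (.node 16 (.node 8 (.node 4 (.node 2 (.node 1 (.one ⟨7912, 1, 2⟩) (.one ⟨1327, 0, 1⟩)) (.node 1 (.one ⟨12499, 1, 2⟩) (.one ⟨10315, 1, 2⟩))) (.node 2 (.node 1 (.one ⟨1424, 0, 1⟩) (.one ⟨5873, 1, 2⟩)) (.node 1 (.one ⟨1187, 0, 1⟩) (.one ⟨1472, 1, 0⟩)))) (.node 4 (.node 2 (.node 1 (.one ⟨11542, 1, 2⟩) (.one ⟨14219, 1, 2⟩)) (.node 1 (.one ⟨11195, 0, 3⟩) (.one ⟨16708, 0, 2⟩))) (.node 2 (.node 1 (.one ⟨3762, 0, 3⟩) (.one ⟨14429, 0, 2⟩)) (.node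 1 (.one ⟨3359, 0, 2⟩) (.one ⟨1292, 1, 0⟩))))) (.node 8 (.node 4 (.node 2 (.node 1 (.one ⟨326, 1, 0⟩) (.one ⟨12804, 0, 3⟩)) (.node 1 (.one ⟨15597, 0, 2⟩) (.one ⟨15128, 1, 2⟩))) (.node 2 (.node 1 (.one ⟨4131, 1, 0⟩) (.one ⟨2343, 1, 0⟩)) (.node 1 (.one ⟨3464, 1, 0⟩) (.one ⟨2442, 0, 3⟩)))) (.node 4 (.node 2 (.node 1 (.one ⟨668, 1, 2⟩) (.one ⟨1816, 1, 0⟩)) (.node 1 (.one ⟨2725, 1, 0⟩) (.one ⟨11854, 0, 3⟩))) (.node 2 (.node 1 (.one ⟨12278, 0, 3⟩) (.one ⟨12251, 0, 3⟩)) (.node 1 (.one ⟨11939, 0, 3⟩) (.one ⟨1758, 1, 0⟩)))))))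
def par5_1_12 : Arr Par :=
  (.node 32 (.node 16 (.node 8 (.node 4 (.node 2 (.node 1 (.one ⟨16511, 0, 3⟩) (.one ⟨8753, 0, 3⟩)) (.node 1 (.one ⟨6910, 1, 1⟩) (.one ⟨15150, 1, 2⟩))) (.node 2 (.node 1 (.one ⟨12378, 0, 3⟩) (.one ⟨3459, 1, 0⟩)) (.node 1 (.one ⟨11074, 0, 1⟩) (.one ⟨131, 1, 0⟩)))) (.node 4 (.node 2 (.node 1 (.one ⟨13972, 0, 3⟩) (.one ⟨441, 1, 0⟩)) (.node 1 (.one ⟨336, 1, 0⟩) (.one ⟨260, 1, 0⟩))) (.node 2 (.node 1 (.one ⟨468, 1, 1⟩) (.one ⟨1664, 0, 2⟩)) (.node 1 (.one ⟨5680, 0, 1⟩) (.one ⟨1784, 1, 0⟩))))) (.node 8 (.node 4 (.node 2 (.node 1 (.one ⟨14131, 1, 1⟩) (.one ⟨9956, 0, 3⟩)) (.node 1 (.one ⟨1712, 0, 2⟩) (.one ⟨9847, 0, 3⟩))) (.node 2 (.node 1 (.one ⟨1965, 0, 3⟩) (.one ⟨10133, 0, 1⟩)) (.node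 1 (.one ⟨8274, 1, 1⟩) (.one ⟨117, 1, 0⟩)))) (.node 4 (.node 2 (.node 1 (.one ⟨14558, 0, 1⟩) (.one ⟨1541, 1, 0⟩)) (.node 1 (.one ⟨5093, 0, 3⟩) (.one ⟨12403, 0, 1⟩))) (.node 2 (.node 1 (.one ⟨13115, 1, 1⟩) (.one ⟨4583, 1, 2⟩)) (.node 1 (.one ⟨1303, 1, 0⟩) (.one ⟨9744, 0, 3⟩)))))) (.node 16 (.node 8 (.node 4 (.node 2 (.node 1 (.one ⟨982, 0, 3⟩) (.one ⟨4119, 1, 1⟩)) (.node 1 (.one ⟨6483, 0, 3⟩) (.one ⟨1967, 1, 2⟩))) (.node 2 (.node 1 (.one ⟨16260, 1, 1⟩) (.one ⟨10187, 0, 1⟩)) (.node 1 (.one ⟨2090, 0, 1⟩) (.one ⟨16636, 0, 3⟩)))) (.node 4 (.node 2 (.node 1 (.one ⟨1900, 0, 3⟩) (.one ⟨1693, 0, 2⟩)) (.node 1 (.one ⟨16538, 0, 2⟩) (.one ⟨4216, 0, 3⟩))) (.node 2 (.node 1 (.one ⟨15596, 0, 3⟩) (.one ⟨15519, 1, 1⟩)) (.node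 1 (.one ⟨3848, 1, 0⟩) (.one ⟨1849, 1, 0⟩))))) (.node 8 (.node 4 (.node 2 (.node 1 (.one ⟨4138, 1, 0⟩) (.one ⟨2571, 1, 0⟩)) (.node 1 (.one ⟨13076, 1, 1⟩) (.one ⟨4121, 1, 0⟩))) (.node 2 (.node 1 (.one ⟨15760, 1, 1⟩) (.one ⟨15568, 0, 2⟩)) (.node 1 (.one ⟨14672, 1, 2⟩) (.one ⟨1031, 1, 0⟩)))) (.node 4 (.node 2 (.node 1 (.one ⟨1903, 0, 1⟩) (.one ⟨9547, 0, 1⟩)) (.node 1 (.one ⟨11945, 0, 1⟩) (.one ⟨3519, 1, 0⟩))) (.node 2 (.node 1 (.one ⟨11694, 0, 1⟩) (.one ⟨3787, 0, 1⟩)) (.node 1 (.one ⟨638, 0, 3⟩) (.one ⟨16983, 0, 2⟩)))))))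
def par5_1_13 : Arr Par :=
  (.node 32 (.node 16 (.node 8 (.node 4 (.node 2 (.node 1 (.one ⟨4461, 0, 1⟩) (.one ⟨9644, 0, 3⟩)) (.node 1 (.one ⟨6914, 0, 2⟩) (.one ⟨7870, 0, 2⟩))) (.node 2 (.node 1 (.one ⟨3734, 1, 0⟩) (.one ⟨3456, 0, 2⟩)) (.node 1 (.one ⟨339, 1, 2⟩) (.one ⟨1304, 0, 2⟩)))) (.node 4 (.node 2 (.node 1 (.one ⟨579, 0, 1⟩) (.one ⟨4677, 1, 2⟩)) (.node 1 (.one ⟨2146, 1, 0⟩) (.one ⟨9545, 0, 2⟩))) (.node 2 (.node 1 (.one ⟨9270, 0, 2⟩) (.one ⟨12205, 1, 2⟩)) (.node 1 (.one ⟨14137, 1, 2⟩) (.one ⟨16283, 0, 2⟩))))) (.node 8 (.node 4 (.node 2 (.node 1 (.one ⟨3862, 0, 0⟩) (.one ⟨4756, 1, 0⟩)) (.node 1 (.one ⟨908, 1, 1⟩) (.one ⟨16104, 0, 1⟩))) (.node 2 (.node 1 (.one ⟨5268, 1, 0⟩) (.one ⟨7681, 0, 3⟩)) (.node 1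 (.one ⟨2207, 1, 0⟩) (.one ⟨3326, 0, 2⟩)))) (.node 4 (.node 2 (.node 1 (.one ⟨2210, 1, 1⟩) (.one ⟨15476, 0, 3⟩)) (.node 1 (.one ⟨9894, 1, 1⟩) (.one ⟨5195, 0, 2⟩))) (.node 2 (.node 1 (.one ⟨5932, 0, 3⟩) (.one ⟨16989, 0, 3⟩)) (.node 1 (.one ⟨9008, 1, 2⟩) (.one ⟨15261, 1, 1⟩)))))) (.node 16 (.node 8 (.node 4 (.node 2 (.node 1 (.one ⟨5954, 1, 1⟩) (.one ⟨2322, 0, 2⟩)) (.node 1 (.one ⟨4391, 0, 2⟩) (.one ⟨10761, 0, 2⟩))) (.node 2 (.node 1 (.one ⟨13698, 1, 1⟩) (.one ⟨10151, 0, 2⟩)) (.node 1 (.one ⟨9048, 1, 1⟩) (.one ⟨5785, 1, 2⟩)))) (.node 4 (.node 2 (.node 1 (.one ⟨14274, 1, 2⟩) (.one ⟨6325, 1, 2⟩)) (.node 1 (.one ⟨13677, 1, 2⟩) (.one ⟨9785, 0, 1⟩))) (.node 2 (.node 1 (.one ⟨2276, 1, 2⟩) (.one ⟨1624, 0, 1⟩)) (.node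 1 (.one ⟨9421, 0, 2⟩) (.one ⟨2782, 1, 0⟩))))) (.node 8 (.node 4 (.node 2 (.node 1 (.one ⟨4084, 1, 0⟩) (.one ⟨3311, 1, 0⟩)) (.node 1 (.one ⟨25, 1, 1⟩) (.one ⟨13981, 1, 1⟩))) (.node 2 (.node 1 (.one ⟨13733, 1, 2⟩) (.one ⟨9957, 1, 1⟩)) (.node 1 (.one ⟨10133, 1, 1⟩) (.one ⟨368, 1, 0⟩)))) (.node 4 (.node 2 (.node 1 (.one ⟨3288, 1, 1⟩) (.one ⟨8429, 0, 2⟩)) (.node 1 (.one ⟨4282, 1, 0⟩) (.one ⟨3197, 1, 0⟩))) (.node 2 (.node 1 (.one ⟨6559, 0, 2⟩) (.one ⟨4537, 0, 3⟩)) (.node 1 (.one ⟨13633, 0, 1⟩) (.one ⟨2728, 1, 0⟩)))))))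
def par5_1_14 : Arr Par :=
  (.node 32 (.node 16 (.node 8 (.node 4 (.node 2 (.node 1 (.one ⟨298, 1, 0⟩) (.one ⟨2039, 1, 0⟩)) (.node 1 (.one ⟨14172, 1, 2⟩) (.one ⟨15836, 0, 3⟩))) (.node 2 (.node 1 (.one ⟨11550, 1, 2⟩) (.one ⟨16942, 0, 2⟩)) (.node 1 (.one ⟨13512, 0, 3⟩) (.one ⟨272, 1, 2⟩)))) (.node 4 (.node 2 (.node 1 (.one ⟨2739, 0, 1⟩) (.one ⟨2512, 1, 0⟩)) (.node 1 (.one ⟨983, 0, 1⟩) (.one ⟨5243, 0, 1⟩))) (.node 2 (.node 1 (.one ⟨16191, 0, 1⟩) (.one ⟨3990, 0, 1⟩)) (.node 1 (.one ⟨8851, 1, 1⟩) (.one ⟨5951, 1, 1⟩))))) (.node 8 (.node 4 (.node 2 (.node 1 (.one ⟨3585, 1, 1⟩) (.one ⟨1938, 0, 3⟩)) (.node 1 (.one ⟨13670, 1, 2⟩) (.one ⟨7049, 1, 1⟩))) (.node 2 (.node 1 (.one ⟨4681, 1, 1⟩) (.one ⟨1942, 0, 1⟩)) (.node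 1 (.one ⟨3109, 1, 0⟩) (.one ⟨693, 1, 0⟩)))) (.node 4 (.node 2 (.node 1 (.one ⟨4923, 0, 1⟩) (.one ⟨1095, 1, 0⟩)) (.node 1 (.one ⟨5879, 0, 3⟩) (.one ⟨4538, 1, 0⟩))) (.node 2 (.node 1 (.one ⟨1055, 1, 2⟩) (.one ⟨1969, 1, 2⟩)) (.node 1 (.one ⟨3388, 0, 0⟩) (.one ⟨3321, 0, 2⟩)))))) (.node 16 (.node 8 (.node 4 (.node 2 (.node 1 (.one ⟨9909, 1, 2⟩) (.one ⟨8934, 0, 2⟩)) (.node 1 (.one ⟨2230, 1, 0⟩) (.one ⟨12763, 0, 2⟩))) (.node 2 (.node 1 (.one ⟨17100, 1, 1⟩) (.one ⟨14727, 0, 2⟩)) (.node 1 (.one ⟨16711, 0, 1⟩) (.one ⟨7060, 0, 1⟩)))) (.node 4 (.node 2 (.node 1 (.one ⟨8782, 0, 2⟩) (.one ⟨8976, 0, 3⟩)) (.node 1 (.one ⟨3830, 1, 1⟩) (.one ⟨11634, 1, 2⟩))) (.node 2 (.node 1 (.one ⟨4011, 0, 0⟩) (.one ⟨10012, 1, 2⟩)) (.node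 1 (.one ⟨4167, 0, 1⟩) (.one ⟨6966, 0, 1⟩))))) (.node 8 (.node 4 (.node 2 (.node 1 (.one ⟨10913, 0, 3⟩) (.one ⟨14097, 0, 1⟩)) (.node 1 (.one ⟨3128, 1, 0⟩) (.one ⟨281, 1, 0⟩))) (.node 2 (.node 1 (.one ⟨413, 1, 1⟩) (.one ⟨11041, 0, 1⟩)) (.node 1 (.one ⟨6579, 0, 2⟩) (.one ⟨5213, 0, 3⟩)))) (.node 4 (.node 2 (.node 1 (.one ⟨16927, 0, 2⟩) (.one ⟨4477, 1, 0⟩)) (.node 1 (.one ⟨2677, 1, 0⟩) (.one ⟨6141, 0, 3⟩))) (.node 2 (.node 1 (.one ⟨9950, 0, 3⟩) (.one ⟨17102, 0, 3⟩)) (.node 1 (.one ⟨5115, 1, 0⟩) (.one ⟨8706, 0, 1⟩)))))))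
def par5_1_15 : Arr Par :=
  (.node 32 (.node 16 (.node 8 (.node 4 (.node 2 (.node 1 (.one ⟨4768, 0, 2⟩) (.one ⟨3468, 0, 2⟩)) (.node 1 (.one ⟨14965, 1, 2⟩) (.one ⟨4620, 0, 2⟩))) (.node 2 (.node 1 (.one ⟨8653, 0, 1⟩) (.one ⟨733, 1, 0⟩)) (.node 1 (.one ⟨3399, 0, 2⟩) (.one ⟨3465, 0, 1⟩)))) (.node 4 (.node 2 (.node 1 (.one ⟨7187, 1, 2⟩) (.one ⟨8584, 0, 1⟩)) (.node 1 (.one ⟨3254, 1, 2⟩) (.one ⟨6177, 1, 1⟩))) (.node 2 (.node 1 (.one ⟨1230, 1, 1⟩) (.one ⟨7979, 0, 3⟩)) (.node 1 (.one ⟨5754, 1, 1⟩) (.one ⟨8886, 0, 2⟩))))) (.node 8 (.node 4 (.node 2 (.node 1 (.one ⟨6396, 0, 1⟩) (.one ⟨3469, 0, 2⟩)) (.node 1 (.one ⟨4417, 0, 1⟩) (.one ⟨2780, 1, 0⟩))) (.node 2 (.node 1 (.one ⟨2746, 0, 0⟩) (.one ⟨1559, 1, 0⟩)) (.node 1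 (.one ⟨3407, 1, 0⟩) (.one ⟨4869, 0, 1⟩)))) (.node 4 (.node 2 (.node 1 (.one ⟨3464, 0, 1⟩) (.one ⟨8876, 0, 3⟩)) (.node 1 (.one ⟨16526, 1, 2⟩) (.one ⟨3717, 1, 1⟩))) (.node 2 (.node 1 (.one ⟨16774, 1, 1⟩) (.one ⟨1272, 1, 1⟩)) (.node 1 (.one ⟨14816, 1, 1⟩) (.one ⟨16245, 1, 2⟩)))))) (.node 16 (.node 8 (.node 4 (.node 2 (.node 1 (.one ⟨1841, 0, 0⟩) (.one ⟨3473, 1, 0⟩)) (.node 1 (.one ⟨3581, 1, 2⟩) (.one ⟨3309, 0, 3⟩))) (.node 2 (.node 1 (.one ⟨910, 1, 0⟩) (.one ⟨11240, 0, 2⟩)) (.node 1 (.one ⟨9401, 1, 1⟩) (.one ⟨15625, 0, 3⟩)))) (.node 4 (.node 2 (.node 1 (.one ⟨9150, 1, 1⟩) (.one ⟨16570, 0, 3⟩)) (.node 1 (.one ⟨12269, 0, 3⟩) (.one ⟨1174, 0, 2⟩))) (.node 2 (.node 1 (.one ⟨7107, 0, 3⟩) (.one ⟨3960, 0, 3⟩)) (.node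 1 (.one ⟨8452, 0, 3⟩) (.one ⟨2840, 1, 0⟩))))) (.node 8 (.node 4 (.node 2 (.node 1 (.one ⟨7842, 0, 1⟩) (.one ⟨13561, 0, 3⟩)) (.node 1 (.one ⟨8774, 0, 2⟩) (.one ⟨15649, 0, 1⟩))) (.node 2 (.node 1 (.one ⟨3346, 0, 2⟩) (.one ⟨14193, 0, 2⟩)) (.node 1 (.one ⟨522, 0, 3⟩) (.one ⟨1781, 1, 0⟩)))) (.node 4 (.node 2 (.node 1 (.one ⟨6274, 1, 2⟩) (.one ⟨1225, 1, 1⟩)) (.node 1 (.one ⟨14067, 0, 1⟩) (.one ⟨16189, 0, 3⟩))) (.node 2 (.node 1 (.one ⟨652, 0, 3⟩) (.one ⟨1252, 0, 0⟩)) (.node 1 (.one ⟨14336, 0, 1⟩) (.one ⟨12010, 0, 1⟩)))))))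
def par5_1 : Arr Par :=
  (.node 512 (.node 256 (.node 128 (.node 64 par5_1_0 par5_1_1) (.node 64 par5_1_2 par5_1_3)) (.node 128 (.node 64 par5_1_4 par5_1_5) (.node 64 par5_1_6 par5_1_7))) (.node 256 (.node 128 (.node 64 par5_1_8 par5_1_9) (.node 64 par5_1_10 par5_1_11)) (.node 128 (.node 64 par5_1_12 par5_1_13) (.node 64 par5_1_14 par5_1_15))))
def par5_2_0 : Arr Par :=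
  (.node 32 (.node 16 (.node 8 (.node 4 (.node 2 (.node 1 (.one ⟨81, 0, 1⟩) (.one ⟨1373, 0, 2⟩)) (.node 1 (.one ⟨2542, 1, 0⟩) (.one ⟨3941, 0, 1⟩))) (.node 2 (.node 1 (.one ⟨9196, 0, 2⟩) (.one ⟨9376, 0, 2⟩)) (.node 1 (.one ⟨3911, 0, 1⟩) (.one ⟨16244, 0, 2⟩)))) (.node 4 (.node 2 (.node 1 (.one ⟨17147, 1, 1⟩) (.one ⟨3750, 1, 1⟩)) (.node 1 (.one ⟨5537, 0, 3⟩) (.one ⟨2627, 0, 2⟩))) (.node 2 (.node 1 (.one ⟨843, 1, 0⟩) (.one ⟨14919, 0, 3⟩)) (.node 1 (.one ⟨15442, 0, 2⟩) (.one ⟨2321, 0, 2⟩))))) (.node 8 (.node 4 (.node 2 (.node 1 (.one ⟨17032, 1, 2⟩) (.one ⟨9399, 1, 1⟩)) (.node 1 (.one ⟨2603, 1, 0⟩) (.one ⟨13831, 1, 2⟩))) (.node 2 (.node 1 (.one ⟨11638, 1, 1⟩) (.one ⟨8802, 0, 1⟩)) (.node 1 (.one ⟨13187, 1, 2⟩) (.one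 ⟨7816, 0, 2⟩)))) (.node 4 (.node 2 (.node 1 (.one ⟨6709, 1, 2⟩) (.one ⟨10125, 1, 2⟩)) (.node 1 (.one ⟨6168, 1, 1⟩) (.one ⟨11749, 0, 2⟩))) (.node 2 (.node 1 (.one ⟨11023, 1, 1⟩) (.one ⟨11662, 0, 2⟩)) (.node 1 (.one ⟨9149, 1, 1⟩) (.one ⟨3422, 0, 3⟩)))))) (.node 16 (.node 8 (.node 4 (.node 2 (.node 1 (.one ⟨10542, 1, 2⟩) (.one ⟨4497, 1, 0⟩)) (.node 1 (.one ⟨5711, 1, 1⟩) (.one ⟨3630, 0, 1⟩))) (.node 2 (.node 1 (.one ⟨1815, 1, 1⟩) (.one ⟨4458, 1, 0⟩)) (.node 1 (.one ⟨439, 0, 3⟩) (.one ⟨3876, 0, 1⟩)))) (.node 4 (.node 2 (.node 1 (.one ⟨11814, 1, 2⟩) (.one ⟨4882, 0, 1⟩)) (.node 1 (.one ⟨3579, 1, 0⟩) (.one ⟨740, 0, 3⟩))) (.node 2 (.node 1 (.one ⟨11804, 1, 2⟩) (.one ⟨1275, 1, 1⟩)) (.node 1 (.one ⟨918, 1, 0⟩) (.one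 ⟨6581, 0, 1⟩))))) (.node 8 (.node 4 (.node 2 (.node 1 (.one ⟨4392, 1, 0⟩) (.one ⟨10806, 0, 1⟩)) (.node 1 (.one ⟨14004, 0, 1⟩) (.one ⟨1776, 1, 1⟩))) (.node 2 (.node 1 (.one ⟨5108, 1, 0⟩) (.one ⟨5563, 1, 1⟩)) (.node 1 (.one ⟨666, 1, 0⟩) (.one ⟨6127, 1, 1⟩)))) (.node 4 (.node 2 (.node 1 (.one ⟨211, 1, 0⟩) (.one ⟨5553, 1, 1⟩)) (.node 1 (.one ⟨13, 1, 1⟩) (.one ⟨1414, 1, 1⟩))) (.node 2 (.node 1 (.one ⟨5597, 1, 1⟩) (.one ⟨8959, 0, 3⟩)) (.node 1 (.one ⟨6174, 1, 1⟩) (.one ⟨5371, 0, 3⟩)))))))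
def par5_2_1 : Arr Par :=
  (.node 32 (.node 16 (.node 8 (.node 4 (.node 2 (.node 1 (.one ⟨4572, 1, 0⟩) (.one ⟨10771, 0, 1⟩)) (.node 1 (.one ⟨12095, 0, 1⟩) (.one ⟨5167, 0, 3⟩))) (.node 2 (.node 1 (.one ⟨1144, 1, 0⟩) (.one ⟨10353, 0, 2⟩)) (.node 1 (.one ⟨4849, 1, 1⟩) (.one ⟨5829, 1, 2⟩)))) (.node 4 (.node 2 (.node 1 (.one ⟨370, 0, 2⟩) (.one ⟨9254, 0, 1⟩)) (.node 1 (.one ⟨13067, 0, 2⟩) (.one ⟨16394, 1, 2⟩))) (.node 2 (.node 1 (.one ⟨4916, 1, 2⟩) (.one ⟨15332, 1, 2⟩)) (.node 1 (.one ⟨4995, 1, 0⟩) (.one ⟨1207, 0, 2⟩))))) (.node 8 (.node 4 (.node 2 (.node 1 (.one ⟨16290, 0, 1⟩) (.one ⟨16253, 0, 1⟩)) (.node 1 (.one ⟨1365, 0, 1⟩) (.one ⟨9302, 0, 1⟩))) (.node 2 (.node 1 (.one ⟨8234, 0, 1⟩) (.one ⟨8175, 0, 1⟩)) (.node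 1 (.one ⟨9386, 0, 2⟩) (.one ⟨3871, 0, 2⟩)))) (.node 4 (.node 2 (.node 1 (.one ⟨1409, 1, 1⟩) (.one ⟨6127, 0, 1⟩)) (.node 1 (.one ⟨617, 0, 2⟩) (.one ⟨5864, 0, 3⟩))) (.node 2 (.node 1 (.one ⟨1869, 0, 3⟩) (.one ⟨7734, 1, 1⟩)) (.node 1 (.one ⟨7929, 0, 3⟩) (.one ⟨14157, 0, 3⟩)))))) (.node 16 (.node 8 (.node 4 (.node 2 (.node 1 (.one ⟨5328, 0, 1⟩) (.one ⟨6428, 0, 3⟩)) (.node 1 (.one ⟨12657, 0, 1⟩) (.one ⟨3881, 0, 3⟩))) (.node 2 (.node 1 (.one ⟨547, 1, 1⟩) (.one ⟨12106, 0, 3⟩)) (.node 1 (.one ⟨4926, 1, 2⟩) (.one ⟨3861, 0, 2⟩)))) (.node 4 (.node 2 (.node 1 (.one ⟨1876, 1, 0⟩) (.one ⟨1155, 0, 2⟩)) (.node 1 (.one ⟨14526, 1, 2⟩) (.one ⟨2465, 1, 0⟩))) (.node 2 (.node 1 (.one ⟨10601, 0, 2⟩) (.one ⟨183, 0, 2⟩)) (.node 1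 (.one ⟨12144, 0, 2⟩) (.one ⟨11111, 0, 3⟩))))) (.node 8 (.node 4 (.node 2 (.node 1 (.one ⟨9537, 1, 1⟩) (.one ⟨11114, 0, 3⟩)) (.node 1 (.one ⟨11118, 0, 3⟩) (.one ⟨11112, 0, 2⟩))) (.node 2 (.node 1 (.one ⟨11116, 0, 3⟩) (.one ⟨11113, 0, 3⟩)) (.node 1 (.one ⟨11117, 0, 3⟩) (.one ⟨541, 1, 0⟩)))) (.node 4 (.node 2 (.node 1 (.one ⟨2649, 0, 2⟩) (.one ⟨12069, 1, 1⟩)) (.node 1 (.one ⟨7241, 1, 2⟩) (.one ⟨1586, 1, 0⟩))) (.node 2 (.node 1 (.one ⟨12660, 0, 2⟩) (.one ⟨4494, 0, 0⟩)) (.node 1 (.one ⟨1136, 1, 1⟩) (.one ⟨8453, 0, 3⟩)))))))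
def par5_2_2 : Arr Par :=
  (.node 32 (.node 16 (.node 8 (.node 4 (.node 2 (.node 1 (.one ⟨11898, 0, 3⟩) (.one ⟨8920, 0, 3⟩)) (.node 1 (.one ⟨12395, 0, 3⟩) (.one ⟨1617, 0, 3⟩))) (.node 2 (.node 1 (.one ⟨15061, 0, 3⟩) (.one ⟨9556, 1, 1⟩)) (.node 1 (.one ⟨15624, 0, 3⟩) (.one ⟨4232, 0, 1⟩)))) (.node 4 (.node 2 (.node 1 (.one ⟨3168, 1, 0⟩) (.one ⟨3794, 0, 1⟩)) (.node 1 (.one ⟨8939, 0, 2⟩) (.one ⟨9842, 1, 2⟩))) (.node 2 (.node 1 (.one ⟨540, 0, 3⟩) (.one ⟨6979, 0, 2⟩)) (.node 1 (.one ⟨2474, 0, 2⟩) (.one ⟨8379, 1, 2⟩))))) (.node 8 (.node 4 (.node 2 (.node 1 (.one ⟨6955, 0, 3⟩) (.one ⟨16793, 1, 2⟩)) (.node 1 (.one ⟨8715, 1, 1⟩) (.one ⟨9542, 1, 1⟩))) (.node 2 (.node 1 (.one ⟨5064, 1, 0⟩) (.one ⟨14528, 0, 2⟩)) (.node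 1 (.one ⟨10246, 1, 2⟩) (.one ⟨5908, 1, 2⟩)))) (.node 4 (.node 2 (.node 1 (.one ⟨1870, 0, 3⟩) (.one ⟨4865, 1, 1⟩)) (.node 1 (.one ⟨10112, 0, 3⟩) (.one ⟨1808, 0, 2⟩))) (.node 2 (.node 1 (.one ⟨8412, 1, 1⟩) (.one ⟨9710, 0, 2⟩)) (.node 1 (.one ⟨1135, 1, 1⟩) (.one ⟨204, 1, 0⟩)))))) (.node 16 (.node 8 (.node 4 (.node 2 (.node 1 (.one ⟨3490, 0, 2⟩) (.one ⟨3270, 1, 1⟩)) (.node 1 (.one ⟨2180, 1, 0⟩) (.one ⟨9555, 1, 1⟩))) (.node 2 (.node 1 (.one ⟨4004, 1, 0⟩) (.one ⟨15633, 1, 2⟩)) (.node 1 (.one ⟨13883, 1, 2⟩) (.one ⟨104, 1, 0⟩)))) (.node 4 (.node 2 (.node 1 (.one ⟨1799, 1, 1⟩) (.one ⟨7874, 1, 1⟩)) (.node 1 (.one ⟨7697, 1, 1⟩) (.one ⟨6260, 0, 1⟩))) (.node 2 (.node 1 (.one ⟨8038, 1, 2⟩) (.one ⟨1261, 1, 0⟩)) (.node 1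 (.one ⟨1847, 1, 1⟩) (.one ⟨8169, 1, 1⟩))))) (.node 8 (.node 4 (.node 2 (.node 1 (.one ⟨2226, 0, 1⟩) (.one ⟨167, 0, 0⟩)) (.node 1 (.one ⟨3014, 1, 0⟩) (.one ⟨8392, 1, 2⟩))) (.node 2 (.node 1 (.one ⟨8842, 1, 1⟩) (.one ⟨2227, 0, 3⟩)) (.node 1 (.one ⟨3287, 1, 1⟩) (.one ⟨16824, 0, 2⟩)))) (.node 4 (.node 2 (.node 1 (.one ⟨8666, 0, 1⟩) (.one ⟨11585, 0, 3⟩)) (.node 1 (.one ⟨1326, 1, 0⟩) (.one ⟨1655, 1, 0⟩))) (.node 2 (.node 1 (.one ⟨7974, 1, 2⟩) (.one ⟨10949, 1, 2⟩)) (.node 1 (.one ⟨10703, 0, 3⟩) (.one ⟨3585, 0, 1⟩)))))))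
def par5_2_3 : Arr Par :=
  (.node 32 (.node 16 (.node 8 (.node 4 (.node 2 (.node 1 (.one ⟨14478, 1, 2⟩) (.one ⟨3627, 0, 3⟩)) (.node 1 (.one ⟨1349, 0, 1⟩) (.one ⟨2809, 1, 0⟩))) (.node 2 (.node 1 (.one ⟨7342, 1, 1⟩) (.one ⟨2847, 0, 3⟩)) (.node 1 (.one ⟨4599, 0, 3⟩) (.one ⟨15794, 0, 1⟩)))) (.node 4 (.node 2 (.node 1 (.one ⟨2282, 1, 0⟩) (.one ⟨6177, 0, 1⟩)) (.node 1 (.one ⟨3546, 0, 2⟩) (.one ⟨266, 1, 1⟩))) (.node 2 (.node 1 (.one ⟨11788, 0, 2⟩) (.one ⟨3225, 1, 0⟩)) (.node 1 (.one ⟨1413, 0, 1⟩) (.one ⟨9172, 1, 1⟩))))) (.node 8 (.node 4 (.node 2 (.node 1 (.one ⟨6265, 1, 2⟩) (.one ⟨1860, 1, 1⟩)) (.node 1 (.one ⟨14569, 1, 2⟩) (.one ⟨884, 1, 0⟩))) (.node 2 (.node 1 (.one ⟨4291, 1, 1⟩) (.one ⟨7721, 1, 2⟩)) (.node 1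 (.one ⟨12038, 1, 2⟩) (.one ⟨2186, 1, 0⟩)))) (.node 4 (.node 2 (.node 1 (.one ⟨9519, 0, 1⟩) (.one ⟨1391, 0, 1⟩)) (.node 1 (.one ⟨1323, 0, 1⟩) (.one ⟨5359, 0, 1⟩))) (.node 2 (.node 1 (.one ⟨5381, 0, 2⟩) (.one ⟨10631, 1, 2⟩)) (.node 1 (.one ⟨12472, 1, 2⟩) (.one ⟨6322, 0, 1⟩)))))) (.node 16 (.node 8 (.node 4 (.node 2 (.node 1 (.one ⟨10500, 0, 1⟩) (.one ⟨7112, 0, 1⟩)) (.node 1 (.one ⟨9174, 1, 1⟩) (.one ⟨14558, 1, 1⟩))) (.node 2 (.node 1 (.one ⟨1270, 0, 1⟩) (.one ⟨2165, 1, 0⟩)) (.node 1 (.one ⟨2756, 0, 1⟩) (.one ⟨2590, 1, 0⟩)))) (.node 4 (.node 2 (.node 1 (.one ⟨1236, 0, 1⟩) (.one ⟨15465, 0, 2⟩)) (.node 1 (.one ⟨4222, 1, 2⟩) (.one ⟨3096, 0, 1⟩))) (.node 2 (.node 1 (.one ⟨1480, 1, 1⟩) (.one ⟨2584, 1, 0⟩)) (.node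 1 (.one ⟨10285, 1, 2⟩) (.one ⟨4940, 1, 1⟩))))) (.node 8 (.node 4 (.node 2 (.node 1 (.one ⟨3590, 1, 0⟩) (.one ⟨14567, 0, 1⟩)) (.node 1 (.one ⟨16029, 0, 1⟩) (.one ⟨5361, 0, 1⟩))) (.node 2 (.node 1 (.one ⟨2895, 0, 1⟩) (.one ⟨7536, 0, 1⟩)) (.node 1 (.one ⟨1072, 1, 1⟩) (.one ⟨15411, 0, 3⟩)))) (.node 4 (.node 2 (.node 1 (.one ⟨6683, 0, 2⟩) (.one ⟨3348, 1, 0⟩)) (.node 1 (.one ⟨14811, 0, 3⟩) (.one ⟨9596, 1, 1⟩))) (.node 2 (.node 1 (.one ⟨13633, 1, 1⟩) (.one ⟨14591, 1, 2⟩)) (.node 1 (.one ⟨10667, 1, 1⟩) (.one ⟨12293, 1, 1⟩)))))))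
def par5_2_4 : Arr Par :=
  (.node 32 (.node 16 (.node 8 (.node 4 (.node 2 (.node 1 (.one ⟨13930, 0, 3⟩) (.one ⟨1241, 0, 1⟩)) (.node 1 (.one ⟨13879, 0, 1⟩) (.one ⟨4709, 1, 0⟩))) (.node 2 (.node 1 (.one ⟨5717, 0, 3⟩) (.one ⟨8795, 1, 1⟩)) (.node 1 (.one ⟨5682, 0, 2⟩) (.one ⟨8305, 0, 1⟩)))) (.node 4 (.node 2 (.node 1 (.one ⟨10313, 0, 1⟩) (.one ⟨11917, 0, 2⟩)) (.node 1 (.one ⟨5909, 0, 3⟩) (.one ⟨4450, 0, 1⟩))) (.node 2 (.node 1 (.one ⟨14488, 0, 2⟩) (.one ⟨2615, 1, 0⟩)) (.node 1 (.one ⟨15262, 1, 1⟩) (.one ⟨13628, 1, 1⟩))))) (.node 8 (.node 4 (.node 2 (.node 1 (.one ⟨1711, 0, 2⟩) (.one ⟨9597, 1, 1⟩)) (.node 1 (.one ⟨14636, 1, 1⟩) (.one ⟨12015, 0, 2⟩))) (.node 2 (.node 1 (.one ⟨12083, 0, 2⟩) (.one ⟨12577, 0, 2⟩))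 (.node 1 (.one ⟨12431, 0, 2⟩) (.one ⟨1666, 1, 0⟩)))) (.node 4 (.node 2 (.node 1 (.one ⟨12150, 1, 2⟩) (.one ⟨16233, 0, 3⟩)) (.node 1 (.one ⟨3547, 0, 1⟩) (.one ⟨3897, 0, 2⟩))) (.node 2 (.node 1 (.one ⟨1076, 1, 1⟩) (.one ⟨942, 0, 3⟩)) (.node 1 (.one ⟨14305, 0, 1⟩) (.one ⟨8834, 0, 1⟩)))))) (.node 16 (.node 8 (.node 4 (.node 2 (.node 1 (.one ⟨2856, 0, 3⟩) (.one ⟨7767, 0, 3⟩)) (.node 1 (.one ⟨2302, 0, 2⟩) (.one ⟨1416, 0, 3⟩))) (.node 2 (.node 1 (.one ⟨7150, 1, 2⟩) (.one ⟨3290, 0, 1⟩)) (.node 1 (.one ⟨8440, 0, 3⟩) (.one ⟨9594, 1, 2⟩)))) (.node 4 (.node 2 (.node 1 (.one ⟨2228, 1, 0⟩) (.one ⟨9622, 0, 2⟩)) (.node 1 (.one ⟨12256, 1, 2⟩) (.one ⟨15728, 1, 2⟩))) (.node 2 (.node 1 (.one ⟨6538, 1, 2⟩) (.one ⟨7719, 1, 2⟩))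 (.node 1 (.one ⟨1194, 1, 0⟩) (.one ⟨7478, 0, 3⟩))))) (.node 8 (.node 4 (.node 2 (.node 1 (.one ⟨3928, 1, 0⟩) (.one ⟨6357, 0, 1⟩)) (.node 1 (.one ⟨4338, 0, 2⟩) (.one ⟨3662, 1, 0⟩))) (.node 2 (.node 1 (.one ⟨12501, 1, 2⟩) (.one ⟨6453, 0, 3⟩)) (.node 1 (.one ⟨10595, 1, 1⟩) (.one ⟨16132, 0, 3⟩)))) (.node 4 (.node 2 (.node 1 (.one ⟨13500, 0, 1⟩) (.one ⟨8144, 0, 3⟩)) (.node 1 (.one ⟨3173, 1, 1⟩) (.one ⟨2594, 0, 3⟩))) (.node 2 (.node 1 (.one ⟨6910, 0, 1⟩) (.one ⟨9205, 0, 3⟩)) (.node 1 (.one ⟨718, 1, 1⟩) (.one ⟨6715, 0, 1⟩)))))))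
def par5_2_5 : Arr Par :=
  (.node 32 (.node 16 (.node 8 (.node 4 (.node 2 (.node 1 (.one ⟨2475, 0, 0⟩) (.one ⟨4541, 0, 1⟩)) (.node 1 (.one ⟨10930, 1, 2⟩) (.one ⟨5616, 0, 1⟩))) (.node 2 (.node 1 (.one ⟨9486, 0, 1⟩) (.one ⟨3570, 0, 1⟩)) (.node 1 (.one ⟨2016, 1, 1⟩) (.one ⟨7, 0, 1⟩)))) (.node 4 (.node 2 (.node 1 (.one ⟨835, 0, 1⟩) (.one ⟨818, 0, 1⟩)) (.node 1 (.one ⟨5601, 1, 2⟩) (.one ⟨269, 0, 1⟩))) (.node 2 (.node 1 (.one ⟨659, 0, 1⟩) (.one ⟨688, 0, 1⟩)) (.node 1 (.one ⟨250, 0, 1⟩) (.one ⟨3896, 1, 1⟩))))) (.node 8 (.node 4 (.node 2 (.node 1 (.one ⟨4232, 1, 1⟩) (.one ⟨7473, 1, 1⟩)) (.node 1 (.one ⟨7157, 1, 1⟩) (.one ⟨15048, 1, 2⟩))) (.node 2 (.node 1 (.one ⟨5966, 0, 1⟩) (.one ⟨11586, 1, 1⟩)) (.node 1 (.one ⟨11926,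 1, 2⟩) (.one ⟨6976, 0, 3⟩)))) (.node 4 (.node 2 (.node 1 (.one ⟨1764, 1, 2⟩) (.one ⟨251, 0, 3⟩)) (.node 1 (.one ⟨1549, 0, 1⟩) (.one ⟨4061, 0, 3⟩))) (.node 2 (.node 1 (.one ⟨4106, 0, 1⟩) (.one ⟨9071, 0, 2⟩)) (.node 1 (.one ⟨3192, 1, 0⟩) (.one ⟨709, 1, 0⟩)))))) (.node 16 (.node 8 (.node 4 (.node 2 (.node 1 (.one ⟨1786, 0, 1⟩) (.one ⟨3553, 1, 1⟩)) (.node 1 (.one ⟨11234, 0, 3⟩) (.one ⟨2496, 1, 0⟩))) (.node 2 (.node 1 (.one ⟨806, 1, 0⟩) (.one ⟨12692, 0, 2⟩)) (.node 1 (.one ⟨2932, 0, 3⟩) (.one ⟨2315, 1, 2⟩)))) (.node 4 (.node 2 (.node 1 (.one ⟨5393, 1, 0⟩) (.one ⟨379, 0, 1⟩)) (.node 1 (.one ⟨3215, 1, 0⟩) (.one ⟨11881, 0, 2⟩))) (.node 2 (.node 1 (.one ⟨16202, 1, 1⟩) (.one ⟨13727, 0, 3⟩)) (.node 1 (.one ⟨16011, 0,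 3⟩) (.one ⟨13839, 0, 2⟩))))) (.node 8 (.node 4 (.node 2 (.node 1 (.one ⟨8742, 0, 1⟩) (.one ⟨13587, 0, 2⟩)) (.node 1 (.one ⟨463, 1, 1⟩) (.one ⟨3872, 1, 1⟩))) (.node 2 (.node 1 (.one ⟨1351, 1, 0⟩) (.one ⟨503, 1, 0⟩)) (.node 1 (.one ⟨3902, 1, 2⟩) (.one ⟨5295, 0, 2⟩)))) (.node 4 (.node 2 (.node 1 (.one ⟨3071, 0, 3⟩) (.one ⟨5089, 1, 1⟩)) (.node 1 (.one ⟨14480, 0, 1⟩) (.one ⟨4104, 0, 2⟩))) (.node 2 (.node 1 (.one ⟨2659, 1, 0⟩) (.one ⟨16749, 1, 2⟩)) (.node 1 (.one ⟨15610, 0, 2⟩) (.one ⟨10489, 1, 2⟩)))))))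
def par5_2_6 : Arr Par :=
  (.node 32 (.node 16 (.node 8 (.node 4 (.node 2 (.node 1 (.one ⟨418, 1, 2⟩) (.one ⟨288, 1, 2⟩)) (.node 1 (.one ⟨10488, 1, 2⟩) (.one ⟨2181, 0, 2⟩))) (.node 2 (.node 1 (.one ⟨700, 1, 2⟩) (.one ⟨1068, 1, 2⟩)) (.node 1 (.one ⟨10494, 1, 2⟩) (.one ⟨2328, 0, 3⟩)))) (.node 4 (.node 2 (.node 1 (.one ⟨14981, 1, 2⟩) (.one ⟨12146, 1, 2⟩)) (.node 1 (.one ⟨6897, 1, 2⟩) (.one ⟨7926, 1, 2⟩))) (.node 2 (.node 1 (.one ⟨11380, 1, 2⟩) (.one ⟨16005, 1, 2⟩)) (.node 1 (.one ⟨3341, 1, 2⟩) (.one ⟨10603, 0, 2⟩))))) (.node 8 (.node 4 (.node 2 (.node 1 (.one ⟨2039, 1, 1⟩) (.one ⟨13214, 1, 2⟩)) (.node 1 (.one ⟨14379, 1, 2⟩) (.one ⟨12689, 0, 1⟩))) (.node 2 (.node 1 (.one ⟨3064, 1, 0⟩) (.one ⟨3701, 1, 1⟩)) (.node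 1 (.one ⟨6867, 1, 2⟩) (.one ⟨11203, 1, 2⟩)))) (.node 4 (.node 2 (.node 1 (.one ⟨6322, 1, 1⟩) (.one ⟨16598, 0, 2⟩)) (.node 1 (.one ⟨7177, 1, 2⟩) (.one ⟨3616, 0, 0⟩))) (.node 2 (.node 1 (.one ⟨6730, 0, 1⟩) (.one ⟨7656, 0, 3⟩)) (.node 1 (.one ⟨11, 0, 1⟩) (.one ⟨3660, 1, 0⟩)))))) (.node 16 (.node 8 (.node 4 (.node 2 (.node 1 (.one ⟨10723, 0, 2⟩) (.one ⟨1431, 1, 0⟩)) (.node 1 (.one ⟨3745, 1, 1⟩) (.one ⟨9323, 0, 1⟩))) (.node 2 (.node 1 (.one ⟨7317, 0, 3⟩) (.one ⟨15087, 0, 1⟩)) (.node 1 (.one ⟨2650, 0, 1⟩) (.one ⟨6171, 0, 3⟩)))) (.node 4 (.node 2 (.node 1 (.one ⟨9656, 0, 3⟩) (.one ⟨13689, 0, 1⟩)) (.node 1 (.one ⟨10806, 1, 1⟩) (.one ⟨13626, 1, 1⟩))) (.node 2 (.node 1 (.one ⟨14173, 0, 3⟩) (.one ⟨10115, 0, 1⟩)) (.node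 1 (.one ⟨5551, 0, 1⟩) (.one ⟨2604, 0, 3⟩))))) (.node 8 (.node 4 (.node 2 (.node 1 (.one ⟨1182, 0, 2⟩) (.one ⟨6283, 0, 3⟩)) (.node 1 (.one ⟨5935, 0, 1⟩) (.one ⟨9217, 0, 3⟩))) (.node 2 (.node 1 (.one ⟨10612, 0, 2⟩) (.one ⟨14056, 0, 3⟩)) (.node 1 (.one ⟨8236, 1, 2⟩) (.one ⟨2647, 1, 0⟩)))) (.node 4 (.node 2 (.node 1 (.one ⟨5574, 0, 1⟩) (.one ⟨1912, 0, 2⟩)) (.node 1 (.one ⟨5105, 1, 1⟩) (.one ⟨1528, 0, 1⟩))) (.node 2 (.node 1 (.one ⟨5046, 0, 3⟩) (.one ⟨9087, 0, 2⟩)) (.node 1 (.one ⟨6029, 0, 3⟩) (.one ⟨2040, 0, 3⟩)))))))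
def par5_2_7 : Arr Par :=
  (.node 32 (.node 16 (.node 8 (.node 4 (.node 2 (.node 1 (.one ⟨14011, 0, 1⟩) (.one ⟨13517, 1, 1⟩)) (.node 1 (.one ⟨5956, 0, 1⟩) (.one ⟨2486, 1, 0⟩))) (.node 2 (.node 1 (.one ⟨13938, 0, 3⟩) (.one ⟨2373, 1, 2⟩)) (.node 1 (.one ⟨5898, 0, 3⟩) (.one ⟨8050, 1, 1⟩)))) (.node 4 (.node 2 (.node 1 (.one ⟨7583, 0, 2⟩) (.one ⟨8461, 1, 1⟩)) (.node 1 (.one ⟨1819, 1, 2⟩) (.one ⟨3173, 0, 1⟩))) (.node 2 (.node 1 (.one ⟨1787, 1, 0⟩) (.one ⟨11558, 0, 3⟩)) (.node 1 (.one ⟨12478, 1, 2⟩) (.one ⟨3176, 1, 1⟩))))) (.node 8 (.node 4 (.node 2 (.node 1 (.one ⟨4039, 0, 2⟩) (.one ⟨12008, 1, 1⟩)) (.node 1 (.one ⟨3815, 0, 2⟩) (.one ⟨10599, 0, 2⟩))) (.node 2 (.node 1 (.one ⟨11857, 0, 3⟩) (.one ⟨9215, 0, 2⟩)) (.node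 1 (.one ⟨970, 1, 0⟩) (.one ⟨4863, 1, 1⟩)))) (.node 4 (.node 2 (.node 1 (.one ⟨4265, 1, 2⟩) (.one ⟨1603, 1, 2⟩)) (.node 1 (.one ⟨8270, 0, 1⟩) (.one ⟨1819, 1, 0⟩))) (.node 2 (.node 1 (.one ⟨14318, 1, 1⟩) (.one ⟨4014, 0, 2⟩)) (.node 1 (.one ⟨3294, 1, 0⟩) (.one ⟨17196, 1, 1⟩)))))) (.node 16 (.node 8 (.node 4 (.node 2 (.node 1 (.one ⟨8233, 1, 2⟩) (.one ⟨6977, 1, 2⟩)) (.node 1 (.one ⟨6791, 0, 1⟩) (.one ⟨1282, 1, 0⟩))) (.node 2 (.node 1 (.one ⟨16047, 1, 2⟩) (.one ⟨15511, 1, 2⟩)) (.node 1 (.one ⟨6551, 1, 1⟩) (.one ⟨12194, 1, 1⟩)))) (.node 4 (.node 2 (.node 1 (.one ⟨1462, 1, 0⟩) (.one ⟨2653, 0, 1⟩)) (.node 1 (.one ⟨1878, 0, 1⟩) (.one ⟨13713, 0, 3⟩))) (.node 2 (.node 1 (.one ⟨14482, 0, 3⟩) (.one ⟨6472, 0, 3⟩)) (.node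 1 (.one ⟨6079, 0, 3⟩) (.one ⟨1583, 1, 0⟩))))) (.node 8 (.node 4 (.node 2 (.node 1 (.one ⟨2195, 1, 0⟩) (.one ⟨8857, 1, 1⟩)) (.node 1 (.one ⟨7928, 1, 1⟩) (.one ⟨4980, 1, 0⟩))) (.node 2 (.node 1 (.one ⟨2450, 0, 3⟩) (.one ⟨15959, 1, 2⟩)) (.node 1 (.one ⟨6284, 0, 1⟩) (.one ⟨8241, 1, 1⟩)))) (.node 4 (.node 2 (.node 1 (.one ⟨10500, 1, 1⟩) (.one ⟨11842, 0, 1⟩)) (.node 1 (.one ⟨14813, 0, 1⟩) (.one ⟨14425, 0, 3⟩))) (.node 2 (.node 1 (.one ⟨13540, 0, 1⟩) (.one ⟨4768, 1, 0⟩)) (.node 1 (.one ⟨5677, 0, 3⟩) (.one ⟨6337, 0, 3⟩)))))))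
def par5_2_8 : Arr Par :=
  (.node 32 (.node 16 (.node 8 (.node 4 (.node 2 (.node 1 (.one ⟨13776, 0, 1⟩) (.one ⟨318, 1, 0⟩)) (.node 1 (.one ⟨160, 0, 0⟩) (.one ⟨161, 0, 0⟩))) (.node 2 (.node 1 (.one ⟨2104, 0, 1⟩) (.one ⟨10301, 0, 2⟩)) (.node 1 (.one ⟨1173, 0, 0⟩) (.one ⟨4513, 1, 1⟩)))) (.node 4 (.node 2 (.node 1 (.one ⟨4049, 1, 1⟩) (.one ⟨2570, 0, 1⟩)) (.node 1 (.one ⟨3545, 1, 0⟩) (.one ⟨5106, 1, 1⟩))) (.node 2 (.node 1 (.one ⟨5368, 1, 1⟩) (.one ⟨12981, 1, 1⟩)) (.node 1 (.one ⟨2573, 0, 2⟩) (.one ⟨3748, 0, 1⟩))))) (.node 8 (.node 4 (.node 2 (.node 1 (.one ⟨8153, 0, 2⟩) (.one ⟨3761, 1, 1⟩)) (.node 1 (.one ⟨1668, 0, 0⟩) (.one ⟨2910, 1, 0⟩))) (.node 2 (.node 1 (.one ⟨13423, 1, 1⟩) (.one ⟨3745, 0, 1⟩)) (.node 1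 (.one ⟨4631, 1, 2⟩) (.one ⟨15290, 0, 3⟩)))) (.node 4 (.node 2 (.node 1 (.one ⟨10580, 1, 1⟩) (.one ⟨13543, 0, 3⟩)) (.node 1 (.one ⟨10582, 1, 2⟩) (.one ⟨1983, 1, 0⟩))) (.node 2 (.node 1 (.one ⟨5838, 0, 3⟩) (.one ⟨3205, 1, 0⟩)) (.node 1 (.one ⟨3684, 0, 3⟩) (.one ⟨2211, 0, 2⟩)))))) (.node 16 (.node 8 (.node 4 (.node 2 (.node 1 (.one ⟨6981, 0, 2⟩) (.one ⟨7454, 0, 3⟩)) (.node 1 (.one ⟨9757, 1, 2⟩) (.one ⟨371, 0, 2⟩))) (.node 2 (.node 1 (.one ⟨6671, 0, 2⟩) (.one ⟨7488, 0, 2⟩)) (.node 1 (.one ⟨2601, 0, 1⟩) (.one ⟨10607, 0, 2⟩)))) (.node 4 (.node 2 (.node 1 (.one ⟨9367, 0, 2⟩) (.one ⟨2106, 1, 0⟩)) (.node 1 (.one ⟨1526, 0, 2⟩) (.one ⟨68, 0, 2⟩))) (.node 2 (.node 1 (.one ⟨7915, 1, 2⟩) (.one ⟨9325, 0, 2⟩)) (.node 1 (.one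 ⟨8434, 1, 1⟩) (.one ⟨14229, 0, 1⟩))))) (.node 8 (.node 4 (.node 2 (.node 1 (.one ⟨12376, 1, 2⟩) (.one ⟨14529, 0, 2⟩)) (.node 1 (.one ⟨1348, 1, 1⟩) (.one ⟨4550, 0, 1⟩))) (.node 2 (.node 1 (.one ⟨10784, 1, 2⟩) (.one ⟨11687, 1, 2⟩)) (.node 1 (.one ⟨3507, 1, 2⟩) (.one ⟨10533, 1, 2⟩)))) (.node 4 (.node 2 (.node 1 (.one ⟨3123, 1, 0⟩) (.one ⟨14718, 0, 2⟩)) (.node 1 (.one ⟨2835, 1, 0⟩) (.one ⟨1995, 0, 2⟩))) (.node 2 (.node 1 (.one ⟨9258, 1, 1⟩) (.one ⟨13675, 1, 1⟩)) (.node 1 (.one ⟨16500, 1, 2⟩) (.one ⟨953, 1, 1⟩)))))))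
def par5_2_9 : Arr Par :=
  (.node 32 (.node 16 (.node 8 (.node 4 (.node 2 (.node 1 (.one ⟨3801, 0, 3⟩) (.one ⟨11372, 1, 1⟩)) (.node 1 (.one ⟨14393, 1, 2⟩) (.one ⟨14643, 1, 1⟩))) (.node 2 (.node 1 (.one ⟨3842, 1, 0⟩) (.one ⟨10553, 0, 3⟩)) (.node 1 (.one ⟨3274, 1, 2⟩) (.one ⟨6857, 0, 1⟩)))) (.node 4 (.node 2 (.node 1 (.one ⟨1668, 1, 0⟩) (.one ⟨3572, 0, 3⟩)) (.node 1 (.one ⟨4911, 0, 3⟩) (.one ⟨13521, 1, 1⟩))) (.node 2 (.node 1 (.one ⟨16747, 1, 2⟩) (.one ⟨2998, 0, 1⟩)) (.node 1 (.one ⟨1016, 0, 0⟩) (.one ⟨8169, 0, 1⟩))))) (.node 8 (.node 4 (.node 2 (.node 1 (.one ⟨12458, 0, 3⟩) (.one ⟨1653, 1, 0⟩)) (.node 1 (.one ⟨844, 0, 3⟩) (.one ⟨6091, 0, 3⟩))) (.node 2 (.node 1 (.one ⟨8812, 1, 1⟩) (.one ⟨16272, 0, 3⟩)) (.node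 1 (.one ⟨4209, 0, 2⟩) (.one ⟨7695, 1, 2⟩)))) (.node 4 (.node 2 (.node 1 (.one ⟨3957, 0, 3⟩) (.one ⟨4667, 1, 1⟩)) (.node 1 (.one ⟨3567, 1, 0⟩) (.one ⟨14694, 1, 1⟩))) (.node 2 (.node 1 (.one ⟨3629, 0, 3⟩) (.one ⟨1847, 1, 0⟩)) (.node 1 (.one ⟨14436, 1, 1⟩) (.one ⟨10389, 0, 3⟩)))))) (.node 16 (.node 8 (.node 4 (.node 2 (.node 1 (.one ⟨286, 1, 0⟩) (.one ⟨360, 1, 2⟩)) (.node 1 (.one ⟨5943, 0, 1⟩) (.one ⟨208, 1, 0⟩))) (.node 2 (.node 1 (.one ⟨13775, 0, 3⟩) (.one ⟨9261, 1, 1⟩)) (.node 1 (.one ⟨2544, 1, 0⟩) (.one ⟨3204, 1, 0⟩)))) (.node 4 (.node 2 (.node 1 (.one ⟨12457, 0, 3⟩) (.one ⟨4187, 0, 3⟩)) (.node 1 (.one ⟨11645, 0, 3⟩) (.one ⟨1350, 1, 1⟩))) (.node 2 (.node 1 (.one ⟨2661, 0, 2⟩) (.one ⟨10762, 0, 1⟩)) (.node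 1 (.one ⟨8553, 1, 1⟩) (.one ⟨4666, 0, 1⟩))))) (.node 8 (.node 4 (.node 2 (.node 1 (.one ⟨2478, 1, 0⟩) (.one ⟨2495, 1, 0⟩)) (.node 1 (.one ⟨12132, 0, 1⟩) (.one ⟨2492, 1, 0⟩))) (.node 2 (.node 1 (.one ⟨1840, 0, 1⟩) (.one ⟨11247, 1, 2⟩)) (.node 1 (.one ⟨5826, 0, 1⟩) (.one ⟨1449, 0, 1⟩)))) (.node 4 (.node 2 (.node 1 (.one ⟨3550, 0, 2⟩) (.one ⟨11600, 0, 3⟩)) (.node 1 (.one ⟨9565, 0, 1⟩) (.one ⟨601, 0, 1⟩))) (.node 2 (.node 1 (.one ⟨729, 1, 2⟩) (.one ⟨11589, 0, 2⟩)) (.node 1 (.one ⟨9138, 0, 1⟩) (.one ⟨3280, 0, 1⟩)))))))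
def par5_2_10 : Arr Par :=
  (.node 32 (.node 16 (.node 8 (.node 4 (.node 2 (.node 1 (.one ⟨7165, 0, 3⟩) (.one ⟨3940, 1, 0⟩)) (.node 1 (.one ⟨4948, 0, 1⟩) (.one ⟨16943, 0, 2⟩))) (.node 2 (.node 1 (.one ⟨15875, 1, 2⟩) (.one ⟨11056, 0, 2⟩)) (.node 1 (.one ⟨2860, 1, 0⟩) (.one ⟨10536, 0, 2⟩)))) (.node 4 (.node 2 (.node 1 (.one ⟨4700, 1, 2⟩) (.one ⟨11626, 0, 3⟩)) (.node 1 (.one ⟨2303, 1, 0⟩) (.one ⟨9563, 0, 2⟩))) (.node 2 (.node 1 (.one ⟨7972, 1, 2⟩) (.one ⟨561, 1, 0⟩)) (.node 1 (.one ⟨13283, 0, 3⟩) (.one ⟨15980, 1, 2⟩))))) (.node 8 (.node 4 (.node 2 (.node 1 (.one ⟨2782, 0, 0⟩) (.one ⟨3592, 1, 0⟩)) (.node 1 (.one ⟨6947, 1, 2⟩) (.one ⟨9148, 0, 2⟩))) (.node 2 (.node 1 (.one ⟨3031, 0, 3⟩) (.one ⟨7067, 0, 1⟩)) (.node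 1 (.one ⟨16991, 1, 1⟩) (.one ⟨3011, 1, 0⟩)))) (.node 4 (.node 2 (.node 1 (.one ⟨8763, 0, 1⟩) (.one ⟨808, 0, 1⟩)) (.node 1 (.one ⟨11267, 0, 1⟩) (.one ⟨3664, 0, 1⟩))) (.node 2 (.node 1 (.one ⟨13480, 0, 3⟩) (.one ⟨7584, 1, 1⟩)) (.node 1 (.one ⟨1330, 1, 0⟩) (.one ⟨4450, 1, 1⟩)))))) (.node 16 (.node 8 (.node 4 (.node 2 (.node 1 (.one ⟨1444, 0, 3⟩) (.one ⟨7984, 0, 1⟩)) (.node 1 (.one ⟨5382, 0, 2⟩) (.one ⟨10647, 0, 1⟩))) (.node 2 (.node 1 (.one ⟨3686, 0, 0⟩) (.one ⟨823, 1, 0⟩)) (.node 1 (.one ⟨3584, 1, 0⟩) (.one ⟨8305, 1, 1⟩)))) (.node 4 (.node 2 (.node 1 (.one ⟨99, 0, 0⟩) (.one ⟨8994, 1, 1⟩)) (.node 1 (.one ⟨3192, 1, 1⟩) (.one ⟨3086, 1, 2⟩))) (.node 2 (.node 1 (.one ⟨5589, 0, 2⟩) (.one ⟨4009, 1, 0⟩)) (.node 1 (.one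 ⟨5587, 0, 2⟩) (.one ⟨14307, 0, 2⟩))))) (.node 8 (.node 4 (.node 2 (.node 1 (.one ⟨10775, 0, 3⟩) (.one ⟨1167, 1, 0⟩)) (.node 1 (.one ⟨2185, 1, 0⟩) (.one ⟨4919, 1, 0⟩))) (.node 2 (.node 1 (.one ⟨5758, 0, 2⟩) (.one ⟨3578, 1, 1⟩)) (.node 1 (.one ⟨14580, 0, 2⟩) (.one ⟨3426, 1, 2⟩)))) (.node 4 (.node 2 (.node 1 (.one ⟨5789, 1, 1⟩) (.one ⟨9002, 0, 3⟩)) (.node 1 (.one ⟨9012, 0, 2⟩) (.one ⟨3512, 1, 0⟩))) (.node 2 (.node 1 (.one ⟨1127, 0, 0⟩) (.one ⟨2210, 0, 1⟩)) (.node 1 (.one ⟨10948, 1, 2⟩) (.one ⟨115, 1, 0⟩)))))))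
def par5_2_11 : Arr Par :=
  (.node 32 (.node 16 (.node 8 (.node 4 (.node 2 (.node 1 (.one ⟨6330, 0, 2⟩) (.one ⟨678, 1, 2⟩)) (.node 1 (.one ⟨4701, 1, 0⟩) (.one ⟨10401, 0, 2⟩))) (.node 2 (.node 1 (.one ⟨4513, 1, 0⟩) (.one ⟨2623, 0, 2⟩)) (.node 1 (.one ⟨10758, 0, 2⟩) (.one ⟨1620, 0, 3⟩)))) (.node 4 (.node 2 (.node 1 (.one ⟨717, 1, 0⟩) (.one ⟨10284, 1, 2⟩)) (.node 1 (.one ⟨5363, 1, 2⟩) (.one ⟨3099, 1, 1⟩))) (.node 2 (.node 1 (.one ⟨4660, 1, 0⟩) (.one ⟨1395, 1, 0⟩)) (.node 1 (.one ⟨8949, 0, 2⟩) (.one ⟨15924, 0, 3⟩))))) (.node 8 (.node 4 (.node 2 (.node 1 (.one ⟨4729, 0, 2⟩) (.one ⟨280, 0, 2⟩)) (.node 1 (.one ⟨14940, 0, 2⟩) (.one ⟨6527, 0, 2⟩))) (.node 2 (.node 1 (.one ⟨11254, 0, 2⟩) (.one ⟨15093, 1, 1⟩)) (.node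 1 (.one ⟨9014, 0, 1⟩) (.one ⟨2169, 1, 0⟩)))) (.node 4 (.node 2 (.node 1 (.one ⟨2459, 1, 1⟩) (.one ⟨635, 0, 2⟩)) (.node 1 (.one ⟨12740, 0, 2⟩) (.one ⟨7872, 0, 1⟩))) (.node 2 (.node 1 (.one ⟨14896, 0, 2⟩) (.one ⟨2867, 1, 1⟩)) (.node 1 (.one ⟨3428, 1, 1⟩) (.one ⟨10921, 1, 1⟩)))))) (.node 16 (.node 8 (.node 4 (.node 2 (.node 1 (.one ⟨13087, 0, 2⟩) (.one ⟨12727, 0, 2⟩)) (.node 1 (.one ⟨11441, 1, 1⟩) (.one ⟨3423, 0, 2⟩))) (.node 2 (.node 1 (.one ⟨10475, 1, 2⟩) (.one ⟨1023, 1, 0⟩)) (.node 1 (.one ⟨3247, 0, 2⟩) (.one ⟨7069, 0, 3⟩)))) (.node 4 (.node 2 (.node 1 (.one ⟨15155, 1, 2⟩) (.one ⟨13770, 1, 2⟩)) (.node 1 (.one ⟨10828, 0, 3⟩) (.one ⟨3622, 1, 2⟩))) (.node 2 (.node 1 (.one ⟨12093, 1, 1⟩) (.one ⟨1130, 1, 0⟩)) (.node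 1 (.one ⟨5152, 1, 2⟩) (.one ⟨200, 1, 0⟩))))) (.node 8 (.node 4 (.node 2 (.node 1 (.one ⟨12193, 0, 2⟩) (.one ⟨4328, 0, 3⟩)) (.node 1 (.one ⟨10050, 0, 1⟩) (.one ⟨946, 1, 0⟩))) (.node 2 (.node 1 (.one ⟨16612, 1, 2⟩) (.one ⟨11529, 0, 2⟩)) (.node 1 (.one ⟨4920, 0, 3⟩) (.one ⟨2619, 1, 0⟩)))) (.node 4 (.node 2 (.node 1 (.one ⟨13399, 1, 2⟩) (.one ⟨5841, 1, 2⟩)) (.node 1 (.one ⟨13310, 1, 2⟩) (.one ⟨7660, 0, 2⟩))) (.node 2 (.node 1 (.one ⟨16131, 0, 3⟩) (.one ⟨2950, 1, 0⟩)) (.node 1 (.one ⟨1324, 1, 0⟩) (.one ⟨5556, 0, 2⟩)))))))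
def par5_2_12 : Arr Par :=
  (.node 32 (.node 16 (.node 8 (.node 4 (.node 2 (.node 1 (.one ⟨4978, 1, 0⟩) (.one ⟨11418, 0, 3⟩)) (.node 1 (.one ⟨12201, 1, 1⟩) (.one ⟨5006, 1, 2⟩))) (.node 2 (.node 1 (.one ⟨14844, 0, 3⟩) (.one ⟨15457, 0, 3⟩)) (.node 1 (.one ⟨2243, 0, 1⟩) (.one ⟨16909, 1, 2⟩)))) (.node 4 (.node 2 (.node 1 (.one ⟨6645, 1, 2⟩) (.one ⟨16949, 0, 1⟩)) (.node 1 (.one ⟨8568, 0, 1⟩) (.one ⟨11681, 0, 2⟩))) (.node 2 (.node 1 (.one ⟨16354, 1, 2⟩) (.one ⟨2273, 1, 0⟩)) (.node 1 (.one ⟨4504, 1, 2⟩) (.one ⟨2997, 0, 1⟩))))) (.node 8 (.node 4 (.node 2 (.node 1 (.one ⟨3763, 0, 3⟩) (.one ⟨3962, 0, 3⟩)) (.node 1 (.one ⟨3194, 0, 1⟩) (.one ⟨13513, 0, 1⟩))) (.node 2 (.node 1 (.one ⟨10696, 0, 1⟩) (.one ⟨276, 1, 1⟩))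 (.node 1 (.one ⟨816, 1, 1⟩) (.one ⟨6578, 1, 2⟩)))) (.node 4 (.node 2 (.node 1 (.one ⟨10369, 1, 2⟩) (.one ⟨10798, 0, 2⟩)) (.node 1 (.one ⟨10797, 0, 2⟩) (.one ⟨10791, 0, 2⟩))) (.node 2 (.node 1 (.one ⟨10792, 0, 2⟩) (.one ⟨6906, 1, 1⟩)) (.node 1 (.one ⟨10641, 1, 2⟩) (.one ⟨13273, 1, 2⟩)))))) (.node 16 (.node 8 (.node 4 (.node 2 (.node 1 (.one ⟨223, 1, 0⟩) (.one ⟨3066, 1, 0⟩)) (.node 1 (.one ⟨8295, 1, 1⟩) (.one ⟨10777, 0, 1⟩))) (.node 2 (.node 1 (.one ⟨10248, 0, 2⟩) (.one ⟨2514, 1, 0⟩)) (.node 1 (.one ⟨16232, 0, 1⟩) (.one ⟨6899, 1, 2⟩)))) (.node 4 (.node 2 (.node 1 (.one ⟨8658, 1, 2⟩) (.one ⟨3977, 0, 2⟩)) (.node 1 (.one ⟨10871, 1, 2⟩) (.one ⟨13699, 0, 3⟩))) (.node 2 (.node 1 (.one ⟨15999, 1, 2⟩) (.one ⟨3508, 1,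 2⟩)) (.node 1 (.one ⟨1162, 1, 2⟩) (.one ⟨11351, 1, 2⟩))))) (.node 8 (.node 4 (.node 2 (.node 1 (.one ⟨6357, 1, 1⟩) (.one ⟨15833, 0, 3⟩)) (.node 1 (.one ⟨14691, 1, 2⟩) (.one ⟨1345, 1, 0⟩))) (.node 2 (.node 1 (.one ⟨9042, 0, 2⟩) (.one ⟨6351, 0, 1⟩)) (.node 1 (.one ⟨7113, 1, 1⟩) (.one ⟨10992, 1, 1⟩)))) (.node 4 (.node 2 (.node 1 (.one ⟨2265, 1, 0⟩) (.one ⟨3221, 0, 2⟩)) (.node 1 (.one ⟨3217, 0, 2⟩) (.one ⟨8479, 1, 2⟩))) (.node 2 (.node 1 (.one ⟨5069, 1, 2⟩) (.one ⟨3222, 0, 1⟩)) (.node 1 (.one ⟨3218, 0, 1⟩) (.one ⟨7031, 1, 1⟩)))))))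
def par5_2_13 : Arr Par :=
  (.node 32 (.node 16 (.node 8 (.node 4 (.node 2 (.node 1 (.one ⟨7868, 0, 1⟩) (.one ⟨5264, 1, 2⟩)) (.node 1 (.one ⟨9961, 0, 3⟩) (.one ⟨6843, 1, 1⟩))) (.node 2 (.node 1 (.one ⟨14610, 0, 2⟩) (.one ⟨7799, 0, 3⟩)) (.node 1 (.one ⟨12317, 1, 2⟩) (.one ⟨16018, 0, 2⟩)))) (.node 4 (.node 2 (.node 1 (.one ⟨13451, 0, 2⟩) (.one ⟨14685, 1, 2⟩)) (.node 1 (.one ⟨15430, 0, 2⟩) (.one ⟨626, 0, 3⟩))) (.node 2 (.node 1 (.one ⟨7130, 0, 1⟩) (.one ⟨8110, 0, 3⟩)) (.node 1 (.one ⟨5527, 0, 3⟩) (.one ⟨1026, 1, 0⟩))))) (.node 8 (.node 4 (.node 2 (.node 1 (.one ⟨885, 1, 0⟩) (.one ⟨1229, 0, 1⟩)) (.node 1 (.one ⟨13238, 0, 3⟩) (.one ⟨13835, 1, 2⟩))) (.node 2 (.node 1 (.one ⟨2596, 1, 0⟩) (.one ⟨4917, 0, 1⟩)) (.node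 1 (.one ⟨6990, 1, 1⟩) (.one ⟨7194, 1, 2⟩)))) (.node 4 (.node 2 (.node 1 (.one ⟨5666, 0, 3⟩) (.one ⟨7134, 0, 2⟩)) (.node 1 (.one ⟨4979, 0, 2⟩) (.one ⟨6445, 0, 2⟩))) (.node 2 (.node 1 (.one ⟨3851, 0, 3⟩) (.one ⟨5500, 0, 2⟩)) (.node 1 (.one ⟨6761, 0, 2⟩) (.one ⟨9459, 0, 1⟩)))))) (.node 16 (.node 8 (.node 4 (.node 2 (.node 1 (.one ⟨12671, 0, 3⟩) (.one ⟨660, 1, 1⟩)) (.node 1 (.one ⟨16890, 0, 3⟩) (.one ⟨13970, 1, 1⟩))) (.node 2 (.node 1 (.one ⟨2848, 1, 1⟩) (.one ⟨8301, 0, 2⟩)) (.node 1 (.one ⟨11367, 1, 1⟩) (.one ⟨5664, 0, 1⟩)))) (.node 4 (.node 2 (.node 1 (.one ⟨15123, 0, 2⟩) (.one ⟨11087, 0, 1⟩)) (.node 1 (.one ⟨637, 0, 3⟩) (.one ⟨8435, 1, 1⟩))) (.node 2 (.node 1 (.one ⟨13388, 0, 2⟩) (.one ⟨17128, 0, 3⟩)) (.node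 1 (.one ⟨2720, 1, 0⟩) (.one ⟨4044, 1, 0⟩))))) (.node 8 (.node 4 (.node 2 (.node 1 (.one ⟨4703, 1, 0⟩) (.one ⟨3172, 1, 0⟩)) (.node 1 (.one ⟨14842, 0, 2⟩) (.one ⟨3252, 0, 0⟩))) (.node 2 (.node 1 (.one ⟨17135, 1, 2⟩) (.one ⟨2786, 1, 0⟩)) (.node 1 (.one ⟨4364, 1, 1⟩) (.one ⟨2094, 0, 0⟩)))) (.node 4 (.node 2 (.node 1 (.one ⟨4340, 0, 3⟩) (.one ⟨15050, 0, 1⟩)) (.node 1 (.one ⟨6400, 0, 3⟩) (.one ⟨5197, 0, 3⟩))) (.node 2 (.node 1 (.one ⟨1614, 1, 0⟩) (.one ⟨7598, 0, 2⟩)) (.node 1 (.one ⟨13667, 0, 1⟩) (.one ⟨859, 1, 0⟩)))))))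
def par5_2_14 : Arr Par :=
  (.node 32 (.node 16 (.node 8 (.node 4 (.node 2 (.node 1 (.one ⟨4219, 0, 3⟩) (.one ⟨3221, 1, 0⟩)) (.node 1 (.one ⟨14926, 0, 2⟩) (.one ⟨1842, 0, 2⟩))) (.node 2 (.node 1 (.one ⟨8368, 1, 1⟩) (.one ⟨17103, 0, 2⟩)) (.node 1 (.one ⟨3498, 1, 0⟩) (.one ⟨2093, 0, 2⟩)))) (.node 4 (.node 2 (.node 1 (.one ⟨12137, 1, 2⟩) (.one ⟨7081, 1, 1⟩)) (.node 1 (.one ⟨8490, 0, 3⟩) (.one ⟨433, 0, 3⟩))) (.node 2 (.node 1 (.one ⟨10121, 1, 1⟩) (.one ⟨11651, 0, 3⟩)) (.node 1 (.one ⟨8693, 0, 1⟩) (.one ⟨15223, 0, 3⟩))))) (.node 8 (.node 4 (.node 2 (.node 1 (.one ⟨125, 1, 0⟩) (.one ⟨6648, 0, 1⟩)) (.node 1 (.one ⟨5506, 1, 0⟩) (.one ⟨105, 1, 0⟩))) (.node 2 (.node 1 (.one ⟨2347, 1, 0⟩) (.one ⟨301, 1, 0⟩)) (.node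 1 (.one ⟨2816, 1, 0⟩) (.one ⟨14022, 0, 2⟩)))) (.node 4 (.node 2 (.node 1 (.one ⟨1160, 1, 0⟩) (.one ⟨14739, 1, 1⟩)) (.node 1 (.one ⟨16401, 0, 2⟩) (.one ⟨7632, 0, 2⟩))) (.node 2 (.node 1 (.one ⟨11806, 0, 1⟩) (.one ⟨10549, 0, 2⟩)) (.node 1 (.one ⟨6207, 0, 1⟩) (.one ⟨3150, 1, 0⟩)))))) (.node 16 (.node 8 (.node 4 (.node 2 (.node 1 (.one ⟨774, 1, 0⟩) (.one ⟨12455, 1, 2⟩)) (.node 1 (.one ⟨13940, 0, 2⟩) (.one ⟨15363, 0, 1⟩))) (.node 2 (.node 1 (.one ⟨16728, 0, 3⟩) (.one ⟨3270, 0, 1⟩)) (.node 1 (.one ⟨4977, 0, 1⟩) (.one ⟨145, 1, 0⟩)))) (.node 4 (.node 2 (.node 1 (.one ⟨1822, 0, 1⟩) (.one ⟨7776, 0, 3⟩)) (.node 1 (.one ⟨4417, 1, 1⟩) (.one ⟨11207, 1, 2⟩))) (.node 2 (.node 1 (.one ⟨2799, 1, 1⟩) (.one ⟨1050, 1, 0⟩)) (.node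 1 (.one ⟨16803, 0, 3⟩) (.one ⟨13240, 0, 2⟩))))) (.node 8 (.node 4 (.node 2 (.node 1 (.one ⟨4930, 1, 0⟩) (.one ⟨4755, 0, 3⟩)) (.node 1 (.one ⟨920, 1, 0⟩) (.one ⟨1941, 1, 0⟩))) (.node 2 (.node 1 (.one ⟨14836, 1, 2⟩) (.one ⟨4006, 1, 0⟩)) (.node 1 (.one ⟨1649, 1, 0⟩) (.one ⟨10447, 0, 2⟩)))) (.node 4 (.node 2 (.node 1 (.one ⟨10448, 0, 2⟩) (.one ⟨10450, 0, 3⟩)) (.node 1 (.one ⟨10449, 0, 2⟩) (.one ⟨10451, 0, 1⟩))) (.node 2 (.node 1 (.one ⟨3663, 1, 0⟩) (.one ⟨10454, 0, 2⟩)) (.node 1 (.one ⟨10453, 0, 3⟩) (.one ⟨6855, 1, 1⟩)))))))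
def par5_2_15 : Arr Par :=
  (.node 32 (.node 16 (.node 8 (.node 4 (.node 2 (.node 1 (.one ⟨9427, 0, 2⟩) (.one ⟨11454, 0, 2⟩)) (.node 1 (.one ⟨13830, 1, 2⟩) (.one ⟨4913, 1, 0⟩))) (.node 2 (.node 1 (.one ⟨11549, 0, 2⟩) (.one ⟨957, 1, 1⟩)) (.node 1 (.one ⟨13751, 0, 3⟩) (.one ⟨2786, 0, 2⟩)))) (.node 4 (.node 2 (.node 1 (.one ⟨3474, 0, 1⟩) (.one ⟨1313, 1, 1⟩)) (.node 1 (.one ⟨11191, 0, 2⟩) (.one ⟨15873, 1, 1⟩))) (.node 2 (.node 1 (.one ⟨6793, 1, 2⟩) (.one ⟨4855, 0, 2⟩)) (.node 1 (.one ⟨5447, 0, 2⟩) (.one ⟨4285, 1, 0⟩))))) (.node 8 (.node 4 (.node 2 (.node 1 (.one ⟨12518, 0, 3⟩) (.one ⟨7388, 0, 3⟩)) (.node 1 (.one ⟨1548, 1, 0⟩) (.one ⟨190, 1, 0⟩))) (.node 2 (.node 1 (.one ⟨11099, 1, 2⟩) (.one ⟨4106, 0, 0⟩)) (.node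 1 (.one ⟨7360, 0, 2⟩) (.one ⟨15075, 1, 2⟩)))) (.node 4 (.node 2 (.node 1 (.one ⟨8570, 1, 2⟩) (.one ⟨14887, 1, 2⟩)) (.node 1 (.one ⟨8409, 1, 2⟩) (.one ⟨14749, 0, 3⟩))) (.node 2 (.node 1 (.one ⟨15758, 0, 3⟩) (.one ⟨9939, 1, 2⟩)) (.node 1 (.one ⟨3858, 1, 2⟩) (.one ⟨5213, 1, 0⟩)))))) (.node 16 (.node 8 (.node 4 (.node 2 (.node 1 (.one ⟨5100, 0, 1⟩) (.one ⟨403, 0, 2⟩)) (.node 1 (.one ⟨5125, 1, 0⟩) (.one ⟨2330, 1, 2⟩))) (.node 2 (.node 1 (.one ⟨5596, 0, 2⟩) (.one ⟨7470, 1, 1⟩)) (.node 1 (.one ⟨4618, 1, 2⟩) (.one ⟨3111, 1, 1⟩)))) (.node 4 (.node 2 (.node 1 (.one ⟨14437, 0, 2⟩) (.one ⟨14438, 0, 1⟩)) (.node 1 (.one ⟨10001, 0, 3⟩) (.one ⟨10003, 0, 2⟩))) (.node 2 (.node 1 (.one ⟨653, 1, 1⟩) (.one ⟨14433, 0, 2⟩)) (.node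 1 (.one ⟨944, 1, 0⟩) (.one ⟨1125, 0, 2⟩))))) (.node 8 (.node 4 (.node 2 (.node 1 (.one ⟨4217, 0, 2⟩) (.one ⟨9256, 0, 2⟩)) (.node 1 (.one ⟨16624, 1, 2⟩) (.one ⟨3763, 1, 0⟩))) (.node 2 (.node 1 (.one ⟨12218, 0, 2⟩) (.one ⟨1488, 0, 2⟩)) (.node 1 (.one ⟨14787, 1, 2⟩) (.one ⟨2088, 0, 3⟩)))) (.node 4 (.node 2 (.node 1 (.one ⟨9442, 1, 1⟩) (.one ⟨3655, 0, 1⟩)) (.node 1 (.one ⟨5356, 0, 2⟩) (.one ⟨12394, 1, 1⟩))) (.node 2 (.node 1 (.one ⟨814, 0, 3⟩) (.one ⟨5236, 0, 1⟩)) (.node 1 (.one ⟨3540, 0, 3⟩) (.one ⟨5790, 1, 2⟩)))))))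
def par5_2 : Arr Par :=
  (.node 512 (.node 256 (.node 128 (.node 64 par5_2_0 par5_2_1) (.node 64 par5_2_2 par5_2_3)) (.node 128 (.node 64 par5_2_4 par5_2_5) (.node 64 par5_2_6 par5_2_7))) (.node 256 (.node 128 (.node 64 par5_2_8 par5_2_9) (.node 64 par5_2_10 par5_2_11)) (.node 128 (.node 64 par5_2_12 par5_2_13) (.node 64 par5_2_14 par5_2_15))))
def par5_3_0 : Arr Par :=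
  (.node 32 (.node 16 (.node 8 (.node 4 (.node 2 (.node 1 (.one ⟨13761, 0, 2⟩) (.one ⟨5136, 1, 0⟩)) (.node 1 (.one ⟨15006, 1, 2⟩) (.one ⟨1389, 0, 3⟩))) (.node 2 (.node 1 (.one ⟨3700, 1, 0⟩) (.one ⟨10530, 0, 3⟩)) (.node 1 (.one ⟨5714, 0, 3⟩) (.one ⟨7560, 1, 1⟩)))) (.node 4 (.node 2 (.node 1 (.one ⟨2905, 1, 0⟩) (.one ⟨1506, 1, 0⟩)) (.node 1 (.one ⟨5515, 0, 1⟩) (.one ⟨1312, 1, 1⟩))) (.node 2 (.node 1 (.one ⟨7898, 0, 3⟩) (.one ⟨13555, 1, 2⟩)) (.node 1 (.one ⟨16776, 0, 1⟩) (.one ⟨4003, 0, 1⟩))))) (.node 8 (.node 4 (.node 2 (.node 1 (.one ⟨16268, 0, 3⟩) (.one ⟨1442, 1, 0⟩)) (.node 1 (.one ⟨11668, 0, 2⟩) (.one ⟨3658, 0, 3⟩))) (.node 2 (.node 1 (.one ⟨5374, 1, 2⟩) (.one ⟨1432, 0, 0⟩)) (.node 1 (.one ⟨12473, 0, 1⟩)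 (.one ⟨186, 1, 0⟩)))) (.node 4 (.node 2 (.node 1 (.one ⟨218, 1, 0⟩) (.one ⟨3372, 0, 1⟩)) (.node 1 (.one ⟨10851, 0, 3⟩) (.one ⟨3797, 1, 0⟩))) (.node 2 (.node 1 (.one ⟨6615, 0, 2⟩) (.one ⟨9475, 1, 1⟩)) (.node 1 (.one ⟨187, 1, 0⟩) (.one ⟨6712, 0, 3⟩)))))) (.node 16 (.node 8 (.node 4 (.node 2 (.node 1 (.one ⟨7976, 0, 2⟩) (.one ⟨10078, 0, 2⟩)) (.node 1 (.one ⟨9129, 1, 1⟩) (.one ⟨6827, 0, 1⟩))) (.node 2 (.node 1 (.one ⟨983, 0, 0⟩) (.one ⟨10121, 0, 1⟩)) (.node 1 (.one ⟨12785, 0, 2⟩) (.one ⟨1383, 1, 0⟩)))) (.node 4 (.node 2 (.node 1 (.one ⟨311, 1, 0⟩) (.one ⟨661, 1, 1⟩)) (.node 1 (.one ⟨1948, 0, 3⟩) (.one ⟨12322, 0, 3⟩))) (.node 2 (.node 1 (.one ⟨7788, 0, 2⟩) (.one ⟨3054, 1, 1⟩)) (.node 1 (.one ⟨430, 1, 0⟩) (.one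 ⟨1527, 1, 1⟩))))) (.node 8 (.node 4 (.node 2 (.node 1 (.one ⟨10849, 0, 3⟩) (.one ⟨10889, 0, 1⟩)) (.node 1 (.one ⟨256, 1, 0⟩) (.one ⟨163, 1, 0⟩))) (.node 2 (.node 1 (.one ⟨3180, 1, 2⟩) (.one ⟨12998, 1, 2⟩)) (.node 1 (.one ⟨160, 1, 0⟩) (.one ⟨1391, 1, 0⟩)))) (.node 4 (.node 2 (.node 1 (.one ⟨10681, 0, 1⟩) (.one ⟨8723, 1, 1⟩)) (.node 1 (.one ⟨16043, 0, 3⟩) (.one ⟨1549, 1, 1⟩))) (.node 2 (.node 1 (.one ⟨3747, 1, 0⟩) (.one ⟨7491, 1, 1⟩)) (.node 1 (.one ⟨15464, 0, 2⟩) (.one ⟨9674, 1, 2⟩)))))))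
def par5_3_1 : Arr Par :=
  (.node 32 (.node 16 (.node 8 (.node 4 (.node 2 (.node 1 (.one ⟨1411, 0, 0⟩) (.one ⟨1528, 1, 1⟩)) (.node 1 (.one ⟨2081, 0, 1⟩) (.one ⟨12855, 0, 2⟩))) (.node 2 (.node 1 (.one ⟨6894, 0, 2⟩) (.one ⟨785, 0, 3⟩)) (.node 1 (.one ⟨11274, 1, 1⟩) (.one ⟨1546, 1, 1⟩)))) (.node 4 (.node 2 (.node 1 (.one ⟨12747, 1, 2⟩) (.one ⟨9454, 0, 1⟩)) (.node 1 (.one ⟨16797, 1, 1⟩) (.one ⟨7477, 1, 2⟩))) (.node 2 (.node 1 (.one ⟨584, 0, 1⟩) (.one ⟨3334, 1, 2⟩)) (.node 1 (.one ⟨9335, 0, 1⟩) (.one ⟨13343, 1, 1⟩))))) (.node 8 (.node 4 (.node 2 (.node 1 (.one ⟨7800, 0, 2⟩) (.one ⟨1154, 1, 0⟩)) (.node 1 (.one ⟨7527, 1, 1⟩) (.one ⟨15047, 1, 1⟩))) (.node 2 (.node 1 (.one ⟨16588, 0, 2⟩) (.one ⟨1937, 1, 0⟩)) (.node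 1 (.one ⟨1434, 0, 2⟩) (.one ⟨2863, 0, 3⟩)))) (.node 4 (.node 2 (.node 1 (.one ⟨1769, 1, 0⟩) (.one ⟨7151, 0, 1⟩)) (.node 1 (.one ⟨7577, 1, 2⟩) (.one ⟨10683, 0, 2⟩))) (.node 2 (.node 1 (.one ⟨9962, 0, 3⟩) (.one ⟨569, 1, 0⟩)) (.node 1 (.one ⟨5941, 1, 1⟩) (.one ⟨5947, 0, 2⟩)))))) (.node 16 (.node 8 (.node 4 (.node 2 (.node 1 (.one ⟨2676, 0, 0⟩) (.one ⟨13114, 0, 2⟩)) (.node 1 (.one ⟨7513, 1, 2⟩) (.one ⟨16438, 0, 2⟩))) (.node 2 (.node 1 (.one ⟨6980, 1, 1⟩) (.one ⟨5437, 1, 0⟩)) (.node 1 (.one ⟨13042, 0, 1⟩) (.one ⟨13941, 0, 3⟩)))) (.node 4 (.node 2 (.node 1 (.one ⟨1397, 1, 0⟩) (.one ⟨4881, 0, 2⟩)) (.node 1 (.one ⟨4747, 1, 0⟩) (.one ⟨3549, 1, 0⟩))) (.node 2 (.node 1 (.one ⟨9722, 0, 1⟩) (.one ⟨16432, 0, 3⟩)) (.node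 1 (.one ⟨2961, 1, 2⟩) (.one ⟨12666, 0, 3⟩))))) (.node 8 (.node 4 (.node 2 (.node 1 (.one ⟨11851, 0, 3⟩) (.one ⟨1936, 1, 0⟩)) (.node 1 (.one ⟨1039, 1, 1⟩) (.one ⟨3067, 0, 2⟩))) (.node 2 (.node 1 (.one ⟨1038, 1, 2⟩) (.one ⟨7553, 1, 1⟩)) (.node 1 (.one ⟨5644, 0, 3⟩) (.one ⟨7086, 0, 1⟩)))) (.node 4 (.node 2 (.node 1 (.one ⟨230, 0, 0⟩) (.one ⟨2112, 0, 1⟩)) (.node 1 (.one ⟨847, 1, 0⟩) (.one ⟨9267, 1, 1⟩))) (.node 2 (.node 1 (.one ⟨5496, 1, 2⟩) (.one ⟨12040, 1, 1⟩)) (.node 1 (.one ⟨13810, 0, 3⟩) (.one ⟨1939, 1, 0⟩)))))))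
def par5_3_2 : Arr Par :=
  (.node 32 (.node 16 (.node 8 (.node 4 (.node 2 (.node 1 (.one ⟨2685, 1, 0⟩) (.one ⟨11297, 1, 2⟩)) (.node 1 (.one ⟨16840, 0, 3⟩) (.one ⟨15508, 1, 2⟩))) (.node 2 (.node 1 (.one ⟨4587, 0, 1⟩) (.one ⟨13744, 1, 2⟩)) (.node 1 (.one ⟨10177, 1, 1⟩) (.one ⟨7545, 1, 2⟩)))) (.node 4 (.node 2 (.node 1 (.one ⟨5072, 1, 2⟩) (.one ⟨7947, 1, 2⟩)) (.node 1 (.one ⟨861, 1, 2⟩) (.one ⟨14759, 0, 3⟩))) (.node 2 (.node 1 (.one ⟨14363, 0, 3⟩) (.one ⟨12769, 1, 2⟩)) (.node 1 (.one ⟨14967, 1, 2⟩) (.one ⟨2875, 0, 3⟩))))) (.node 8 (.node 4 (.node 2 (.node 1 (.one ⟨2871, 0, 2⟩) (.one ⟨6714, 1, 1⟩)) (.node 1 (.one ⟨1056, 1, 0⟩) (.one ⟨2876, 0, 3⟩))) (.node 2 (.node 1 (.one ⟨2872, 0, 1⟩) (.one ⟨9264, 1, 1⟩)) (.node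 1 (.one ⟨933, 1, 0⟩) (.one ⟨11124, 0, 3⟩)))) (.node 4 (.node 2 (.node 1 (.one ⟨5834, 0, 1⟩) (.one ⟨7597, 1, 2⟩)) (.node 1 (.one ⟨3680, 0, 3⟩) (.one ⟨3455, 1, 0⟩))) (.node 2 (.node 1 (.one ⟨9679, 0, 3⟩) (.one ⟨7593, 1, 1⟩)) (.node 1 (.one ⟨1035, 1, 1⟩) (.one ⟨9280, 0, 2⟩)))))) (.node 16 (.node 8 (.node 4 (.node 2 (.node 1 (.one ⟨1851, 1, 0⟩) (.one ⟨1742, 1, 0⟩)) (.node 1 (.one ⟨16017, 1, 2⟩) (.one ⟨10462, 0, 2⟩))) (.node 2 (.node 1 (.one ⟨5257, 0, 1⟩) (.one ⟨8164, 0, 2⟩)) (.node 1 (.one ⟨15481, 0, 1⟩) (.one ⟨5935, 1, 1⟩)))) (.node 4 (.node 2 (.node 1 (.one ⟨2520, 0, 3⟩) (.one ⟨14886, 0, 3⟩)) (.node 1 (.one ⟨7743, 0, 3⟩) (.one ⟨9035, 0, 3⟩))) (.node 2 (.node 1 (.one ⟨14553, 0, 3⟩) (.one ⟨2804, 0, 3⟩)) (.node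 1 (.one ⟨11682, 0, 3⟩) (.one ⟨15195, 1, 1⟩))))) (.node 8 (.node 4 (.node 2 (.node 1 (.one ⟨10584, 0, 1⟩) (.one ⟨2234, 1, 0⟩)) (.node 1 (.one ⟨14628, 1, 2⟩) (.one ⟨4389, 0, 3⟩))) (.node 2 (.node 1 (.one ⟨12864, 0, 1⟩) (.one ⟨7371, 0, 3⟩)) (.node 1 (.one ⟨14121, 0, 1⟩) (.one ⟨2377, 1, 0⟩)))) (.node 4 (.node 2 (.node 1 (.one ⟨11853, 0, 3⟩) (.one ⟨12623, 0, 1⟩)) (.node 1 (.one ⟨16425, 0, 3⟩) (.one ⟨7575, 0, 1⟩))) (.node 2 (.node 1 (.one ⟨550, 1, 2⟩) (.one ⟨3043, 0, 3⟩)) (.node 1 (.one ⟨6438, 0, 3⟩) (.one ⟨10876, 1, 2⟩)))))))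
def par5_3_3 : Arr Par :=
  (.node 32 (.node 16 (.node 8 (.node 4 (.node 2 (.node 1 (.one ⟨12229, 0, 1⟩) (.one ⟨5124, 0, 2⟩)) (.node 1 (.one ⟨6452, 1, 2⟩) (.one ⟨9469, 0, 1⟩))) (.node 2 (.node 1 (.one ⟨10816, 1, 1⟩) (.one ⟨13226, 0, 1⟩)) (.node 1 (.one ⟨5375, 1, 0⟩) (.one ⟨924, 1, 0⟩)))) (.node 4 (.node 2 (.node 1 (.one ⟨9168, 0, 2⟩) (.one ⟨5105, 0, 1⟩)) (.node 1 (.one ⟨2943, 0, 1⟩) (.one ⟨16676, 0, 1⟩))) (.node 2 (.node 1 (.one ⟨3333, 1, 0⟩) (.one ⟨7710, 0, 2⟩)) (.node 1 (.one ⟨6565, 0, 1⟩) (.one ⟨16690, 0, 2⟩))))) (.node 8 (.node 4 (.node 2 (.node 1 (.one ⟨111, 1, 0⟩) (.one ⟨1350, 1, 0⟩)) (.node 1 (.one ⟨355, 1, 0⟩) (.one ⟨8829, 0, 2⟩))) (.node 2 (.node 1 (.one ⟨9764, 0, 3⟩) (.one ⟨4365, 0, 3⟩)) (.node 1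 (.one ⟨15004, 0, 2⟩) (.one ⟨4369, 1, 0⟩)))) (.node 4 (.node 2 (.node 1 (.one ⟨4902, 1, 0⟩) (.one ⟨1654, 0, 1⟩)) (.node 1 (.one ⟨1207, 1, 0⟩) (.one ⟨2262, 0, 3⟩))) (.node 2 (.node 1 (.one ⟨1437, 0, 2⟩) (.one ⟨14397, 0, 3⟩)) (.node 1 (.one ⟨8216, 1, 1⟩) (.one ⟨361, 0, 1⟩)))))) (.node 16 (.node 8 (.node 4 (.node 2 (.node 1 (.one ⟨1220, 0, 1⟩) (.one ⟨8371, 0, 2⟩)) (.node 1 (.one ⟨8385, 0, 3⟩) (.one ⟨5240, 0, 1⟩))) (.node 2 (.node 1 (.one ⟨4542, 1, 0⟩) (.one ⟨6422, 0, 1⟩)) (.node 1 (.one ⟨467, 1, 2⟩) (.one ⟨16340, 0, 2⟩)))) (.node 4 (.node 2 (.node 1 (.one ⟨7106, 1, 2⟩) (.one ⟨10480, 1, 2⟩)) (.node 1 (.one ⟨10049, 1, 1⟩) (.one ⟨12120, 0, 3⟩))) (.node 2 (.node 1 (.one ⟨490, 0, 3⟩) (.one ⟨13060, 1, 2⟩)) (.node 1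 (.one ⟨13229, 1, 2⟩) (.one ⟨4785, 1, 1⟩))))) (.node 8 (.node 4 (.node 2 (.node 1 (.one ⟨15704, 1, 2⟩) (.one ⟨16226, 0, 1⟩)) (.node 1 (.one ⟨11578, 0, 2⟩) (.one ⟨6345, 1, 1⟩))) (.node 2 (.node 1 (.one ⟨2527, 0, 2⟩) (.one ⟨414, 0, 1⟩)) (.node 1 (.one ⟨617, 1, 0⟩) (.one ⟨15216, 0, 2⟩)))) (.node 4 (.node 2 (.node 1 (.one ⟨10048, 0, 1⟩) (.one ⟨2167, 1, 1⟩)) (.node 1 (.one ⟨15505, 1, 2⟩) (.one ⟨10193, 0, 2⟩))) (.node 2 (.node 1 (.one ⟨9966, 1, 1⟩) (.one ⟨7344, 0, 1⟩)) (.node 1 (.one ⟨10034, 1, 1⟩) (.one ⟨14689, 1, 2⟩)))))))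
def par5_3_4 : Arr Par :=
  (.node 32 (.node 16 (.node 8 (.node 4 (.node 2 (.node 1 (.one ⟨14341, 1, 2⟩) (.one ⟨6354, 1, 2⟩)) (.node 1 (.one ⟨6827, 1, 1⟩) (.one ⟨13723, 0, 3⟩))) (.node 2 (.node 1 (.one ⟨9784, 1, 1⟩) (.one ⟨1148, 0, 2⟩)) (.node 1 (.one ⟨13902, 0, 1⟩) (.one ⟨1428, 0, 1⟩)))) (.node 4 (.node 2 (.node 1 (.one ⟨9180, 0, 1⟩) (.one ⟨2627, 1, 0⟩)) (.node 1 (.one ⟨14948, 1, 2⟩) (.one ⟨8303, 0, 1⟩))) (.node 2 (.node 1 (.one ⟨16428, 0, 3⟩) (.one ⟨77, 0, 1⟩)) (.node 1 (.one ⟨9609, 0, 1⟩) (.one ⟨10538, 1, 1⟩))))) (.node 8 (.node 4 (.node 2 (.node 1 (.one ⟨6419, 0, 2⟩) (.one ⟨2352, 1, 1⟩)) (.node 1 (.one ⟨13317, 1, 1⟩) (.one ⟨7867, 1, 2⟩))) (.node 2 (.node 1 (.one ⟨6516, 0, 1⟩) (.one ⟨2759, 1, 0⟩)) (.node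 1 (.one ⟨748, 0, 1⟩) (.one ⟨17147, 0, 1⟩)))) (.node 4 (.node 2 (.node 1 (.one ⟨9612, 0, 2⟩) (.one ⟨9124, 0, 3⟩)) (.node 1 (.one ⟨898, 0, 1⟩) (.one ⟨656, 1, 1⟩))) (.node 2 (.node 1 (.one ⟨14145, 0, 1⟩) (.one ⟨5216, 0, 3⟩)) (.node 1 (.one ⟨6103, 0, 2⟩) (.one ⟨9009, 1, 1⟩)))))) (.node 16 (.node 8 (.node 4 (.node 2 (.node 1 (.one ⟨5638, 0, 3⟩) (.one ⟨13673, 0, 2⟩)) (.node 1 (.one ⟨9855, 0, 1⟩) (.one ⟨7252, 1, 2⟩))) (.node 2 (.node 1 (.one ⟨1922, 0, 3⟩) (.one ⟨9964, 0, 2⟩)) (.node 1 (.one ⟨14209, 0, 2⟩) (.one ⟨13946, 0, 3⟩)))) (.node 4 (.node 2 (.node 1 (.one ⟨2262, 1, 0⟩) (.one ⟨4864, 0, 1⟩)) (.node 1 (.one ⟨1006, 1, 0⟩) (.one ⟨2966, 0, 1⟩))) (.node 2 (.node 1 (.one ⟨2663, 1, 0⟩) (.one ⟨15973, 0, 3⟩)) (.node 1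 (.one ⟨16050, 0, 2⟩) (.one ⟨9791, 0, 3⟩))))) (.node 8 (.node 4 (.node 2 (.node 1 (.one ⟨9792, 0, 3⟩) (.one ⟨9794, 0, 3⟩)) (.node 1 (.one ⟨9793, 0, 3⟩) (.one ⟨9796, 0, 2⟩))) (.node 2 (.node 1 (.one ⟨9795, 0, 2⟩) (.one ⟨9797, 0, 3⟩)) (.node 1 (.one ⟨1295, 1, 1⟩) (.one ⟨7561, 0, 2⟩)))) (.node 4 (.node 2 (.node 1 (.one ⟨1331, 1, 1⟩) (.one ⟨7527, 0, 1⟩)) (.node 1 (.one ⟨4331, 0, 2⟩) (.one ⟨16806, 1, 1⟩))) (.node 2 (.node 1 (.one ⟨12893, 0, 3⟩) (.one ⟨13807, 0, 2⟩)) (.node 1 (.one ⟨12920, 0, 2⟩) (.one ⟨15163, 1, 2⟩)))))))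
def par5_3_5 : Arr Par :=
  (.node 32 (.node 16 (.node 8 (.node 4 (.node 2 (.node 1 (.one ⟨7362, 0, 3⟩) (.one ⟨1334, 1, 2⟩)) (.node 1 (.one ⟨9816, 1, 2⟩) (.one ⟨15224, 1, 2⟩))) (.node 2 (.node 1 (.one ⟨1744, 0, 3⟩) (.one ⟨9397, 0, 2⟩)) (.node 1 (.one ⟨9780, 0, 2⟩) (.one ⟨4833, 1, 1⟩)))) (.node 4 (.node 2 (.node 1 (.one ⟨7235, 0, 2⟩) (.one ⟨3407, 1, 2⟩)) (.node 1 (.one ⟨16590, 0, 2⟩) (.one ⟨5635, 0, 2⟩))) (.node 2 (.node 1 (.one ⟨13119, 1, 1⟩) (.one ⟨1047, 0, 0⟩)) (.node 1 (.one ⟨12941, 0, 2⟩) (.one ⟨4420, 0, 1⟩))))) (.node 8 (.node 4 (.node 2 (.node 1 (.one ⟨4977, 1, 1⟩) (.one ⟨1736, 0, 3⟩)) (.node 1 (.one ⟨4383, 0, 3⟩) (.one ⟨15507, 0, 1⟩))) (.node 2 (.node 1 (.one ⟨3096, 0, 0⟩) (.one ⟨2522, 1, 2⟩)) (.node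 1 (.one ⟨3788, 1, 2⟩) (.one ⟨16142, 1, 2⟩)))) (.node 4 (.node 2 (.node 1 (.one ⟨14497, 0, 1⟩) (.one ⟨476, 1, 0⟩)) (.node 1 (.one ⟨1551, 1, 0⟩) (.one ⟨4055, 0, 1⟩))) (.node 2 (.node 1 (.one ⟨7696, 0, 1⟩) (.one ⟨6455, 0, 1⟩)) (.node 1 (.one ⟨7366, 1, 2⟩) (.one ⟨1327, 1, 1⟩)))))) (.node 16 (.node 8 (.node 4 (.node 2 (.node 1 (.one ⟨4533, 0, 0⟩) (.one ⟨7352, 1, 2⟩)) (.node 1 (.one ⟨5611, 0, 1⟩) (.one ⟨6352, 0, 1⟩))) (.node 2 (.node 1 (.one ⟨3285, 1, 0⟩) (.one ⟨9818, 0, 3⟩)) (.node 1 (.one ⟨3160, 0, 1⟩) (.one ⟨11361, 1, 1⟩)))) (.node 4 (.node 2 (.node 1 (.one ⟨3908, 0, 1⟩) (.one ⟨15793, 1, 2⟩)) (.node 1 (.one ⟨1296, 1, 1⟩) (.one ⟨8149, 0, 3⟩))) (.node 2 (.node 1 (.one ⟨622, 0, 3⟩) (.one ⟨428, 1, 0⟩)) (.node 1 (.one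 ⟨2124, 0, 3⟩) (.one ⟨8854, 1, 2⟩))))) (.node 8 (.node 4 (.node 2 (.node 1 (.one ⟨7728, 0, 2⟩) (.one ⟨744, 0, 1⟩)) (.node 1 (.one ⟨15473, 1, 2⟩) (.one ⟨465, 1, 0⟩))) (.node 2 (.node 1 (.one ⟨5245, 0, 1⟩) (.one ⟨7289, 0, 1⟩)) (.node 1 (.one ⟨426, 1, 2⟩) (.one ⟨12550, 0, 3⟩)))) (.node 4 (.node 2 (.node 1 (.one ⟨5281, 1, 1⟩) (.one ⟨11561, 1, 1⟩)) (.node 1 (.one ⟨4797, 1, 1⟩) (.one ⟨9356, 1, 1⟩))) (.node 2 (.node 1 (.one ⟨6528, 0, 1⟩) (.one ⟨645, 0, 1⟩)) (.node 1 (.one ⟨15366, 0, 2⟩) (.one ⟨6190, 0, 3⟩)))))))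
def par5_3_6 : Arr Par :=
  (.node 32 (.node 16 (.node 8 (.node 4 (.node 2 (.node 1 (.one ⟨9211, 1, 1⟩) (.one ⟨2354, 1, 0⟩)) (.node 1 (.one ⟨1795, 0, 3⟩) (.one ⟨13846, 0, 3⟩))) (.node 2 (.node 1 (.one ⟨9693, 0, 3⟩) (.one ⟨8690, 1, 1⟩)) (.node 1 (.one ⟨10093, 0, 3⟩) (.one ⟨1473, 0, 2⟩)))) (.node 4 (.node 2 (.node 1 (.one ⟨647, 1, 0⟩) (.one ⟨2702, 1, 0⟩)) (.node 1 (.one ⟨9352, 1, 2⟩) (.one ⟨4912, 1, 1⟩))) (.node 2 (.node 1 (.one ⟨12865, 1, 1⟩) (.one ⟨4127, 1, 1⟩)) (.node 1 (.one ⟨1458, 0, 2⟩) (.one ⟨9355, 1, 1⟩))))) (.node 8 (.node 4 (.node 2 (.node 1 (.one ⟨5183, 1, 1⟩) (.one ⟨11335, 0, 2⟩)) (.node 1 (.one ⟨435, 1, 0⟩) (.one ⟨3548, 1, 1⟩))) (.node 2 (.node 1 (.one ⟨5079, 0, 2⟩) (.one ⟨11525, 1, 1⟩)) (.node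 1 (.one ⟨4711, 0, 2⟩) (.one ⟨7406, 0, 2⟩)))) (.node 4 (.node 2 (.node 1 (.one ⟨1952, 1, 0⟩) (.one ⟨2709, 1, 2⟩)) (.node 1 (.one ⟨13814, 0, 1⟩) (.one ⟨2116, 0, 1⟩))) (.node 2 (.node 1 (.one ⟨9212, 1, 1⟩) (.one ⟨11672, 1, 2⟩)) (.node 1 (.one ⟨8722, 1, 2⟩) (.one ⟨15917, 0, 2⟩)))))) (.node 16 (.node 8 (.node 4 (.node 2 (.node 1 (.one ⟨479, 1, 0⟩) (.one ⟨3107, 1, 2⟩)) (.node 1 (.one ⟨9351, 1, 1⟩) (.one ⟨10169, 0, 3⟩))) (.node 2 (.node 1 (.one ⟨1754, 1, 0⟩) (.one ⟨4035, 1, 1⟩)) (.node 1 (.one ⟨7732, 0, 3⟩) (.one ⟨15530, 1, 1⟩)))) (.node 4 (.node 2 (.node 1 (.one ⟨3064, 0, 2⟩) (.one ⟨9208, 1, 1⟩)) (.node 1 (.one ⟨3678, 1, 0⟩) (.one ⟨13796, 0, 1⟩))) (.node 2 (.node 1 (.one ⟨9153, 0, 2⟩) (.one ⟨956, 0, 2⟩)) (.node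 1 (.one ⟨3749, 1, 0⟩) (.one ⟨13, 0, 1⟩))))) (.node 8 (.node 4 (.node 2 (.node 1 (.one ⟨144, 0, 1⟩) (.one ⟨12764, 1, 2⟩)) (.node 1 (.one ⟨368, 0, 1⟩) (.one ⟨685, 0, 1⟩))) (.node 2 (.node 1 (.one ⟨606, 0, 1⟩) (.one ⟨893, 0, 1⟩)) (.node 1 (.one ⟨878, 0, 1⟩) (.one ⟨6633, 0, 1⟩)))) (.node 4 (.node 2 (.node 1 (.one ⟨797, 0, 3⟩) (.one ⟨5792, 1, 1⟩)) (.node 1 (.one ⟨5390, 1, 0⟩) (.one ⟨1388, 1, 0⟩))) (.node 2 (.node 1 (.one ⟨10622, 1, 2⟩) (.one ⟨12466, 1, 1⟩)) (.node 1 (.one ⟨10187, 1, 1⟩) (.one ⟨15196, 1, 1⟩)))))))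
def par5_3_7 : Arr Par :=
  (.node 32 (.node 16 (.node 8 (.node 4 (.node 2 (.node 1 (.one ⟨4279, 0, 2⟩) (.one ⟨15456, 1, 1⟩)) (.node 1 (.one ⟨6232, 0, 2⟩) (.one ⟨782, 1, 0⟩))) (.node 2 (.node 1 (.one ⟨2760, 1, 0⟩) (.one ⟨3687, 1, 0⟩)) (.node 1 (.one ⟨3139, 1, 0⟩) (.one ⟨11621, 0, 2⟩)))) (.node 4 (.node 2 (.node 1 (.one ⟨2684, 0, 3⟩) (.one ⟨4286, 0, 3⟩)) (.node 1 (.one ⟨9518, 0, 2⟩) (.one ⟨16052, 1, 2⟩))) (.node 2 (.node 1 (.one ⟨6224, 0, 2⟩) (.one ⟨14000, 1, 1⟩)) (.node 1 (.one ⟨14232, 0, 3⟩) (.one ⟨440, 0, 3⟩))))) (.node 8 (.node 4 (.node 2 (.node 1 (.one ⟨3717, 0, 1⟩) (.one ⟨16594, 0, 1⟩)) (.node 1 (.one ⟨14710, 0, 2⟩) (.one ⟨11647, 1, 2⟩))) (.node 2 (.node 1 (.one ⟨6006, 1, 2⟩) (.one ⟨14233, 0, 1⟩)) (.node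 1 (.one ⟨15909, 0, 2⟩) (.one ⟨2663, 0, 1⟩)))) (.node 4 (.node 2 (.node 1 (.one ⟨2045, 0, 1⟩) (.one ⟨4075, 1, 1⟩)) (.node 1 (.one ⟨10365, 1, 1⟩) (.one ⟨2416, 1, 0⟩))) (.node 2 (.node 1 (.one ⟨1328, 0, 0⟩) (.one ⟨2141, 0, 2⟩)) (.node 1 (.one ⟨11594, 1, 1⟩) (.one ⟨11756, 1, 2⟩)))))) (.node 16 (.node 8 (.node 4 (.node 2 (.node 1 (.one ⟨3046, 0, 3⟩) (.one ⟨3186, 1, 0⟩)) (.node 1 (.one ⟨16356, 1, 2⟩) (.one ⟨5321, 1, 0⟩))) (.node 2 (.node 1 (.one ⟨12504, 1, 2⟩) (.one ⟨620, 0, 1⟩)) (.node 1 (.one ⟨894, 1, 1⟩) (.one ⟨4284, 0, 2⟩)))) (.node 4 (.node 2 (.node 1 (.one ⟨7958, 1, 2⟩) (.one ⟨5630, 0, 2⟩)) (.node 1 (.one ⟨10175, 1, 1⟩) (.one ⟨8246, 0, 2⟩))) (.node 2 (.node 1 (.one ⟨16645, 1, 2⟩) (.one ⟨12992, 1, 1⟩)) (.node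 1 (.one ⟨5554, 0, 2⟩) (.one ⟨3631, 1, 1⟩))))) (.node 8 (.node 4 (.node 2 (.node 1 (.one ⟨15837, 0, 2⟩) (.one ⟨15446, 1, 2⟩)) (.node 1 (.one ⟨2907, 1, 0⟩) (.one ⟨14101, 1, 2⟩))) (.node 2 (.node 1 (.one ⟨13950, 1, 2⟩) (.one ⟨5201, 1, 2⟩)) (.node 1 (.one ⟨3521, 1, 0⟩) (.one ⟨10684, 1, 2⟩)))) (.node 4 (.node 2 (.node 1 (.one ⟨8847, 0, 2⟩) (.one ⟨5129, 1, 2⟩)) (.node 1 (.one ⟨3890, 1, 0⟩) (.one ⟨12756, 1, 2⟩))) (.node 2 (.node 1 (.one ⟨11345, 1, 2⟩) (.one ⟨1847, 0, 1⟩)) (.node 1 (.one ⟨4278, 1, 2⟩) (.one ⟨12206, 1, 2⟩)))))))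
def par5_3_8 : Arr Par :=
  (.node 32 (.node 16 (.node 8 (.node 4 (.node 2 (.node 1 (.one ⟨2265, 1, 2⟩) (.one ⟨264, 1, 0⟩)) (.node 1 (.one ⟨5067, 1, 0⟩) (.one ⟨6588, 0, 2⟩))) (.node 2 (.node 1 (.one ⟨15194, 0, 3⟩) (.one ⟨3739, 1, 0⟩)) (.node 1 (.one ⟨4620, 1, 0⟩) (.one ⟨7361, 1, 1⟩)))) (.node 4 (.node 2 (.node 1 (.one ⟨4329, 0, 3⟩) (.one ⟨7442, 0, 2⟩)) (.node 1 (.one ⟨1276, 1, 0⟩) (.one ⟨4922, 0, 2⟩))) (.node 2 (.node 1 (.one ⟨13350, 1, 2⟩) (.one ⟨5015, 0, 2⟩)) (.node 1 (.one ⟨5775, 0, 3⟩) (.one ⟨16115, 1, 2⟩))))) (.node 8 (.node 4 (.node 2 (.node 1 (.one ⟨162, 1, 2⟩) (.one ⟨572, 1, 2⟩)) (.node 1 (.one ⟨16118, 1, 2⟩) (.one ⟨16113, 1, 2⟩))) (.node 2 (.node 1 (.one ⟨970, 1, 2⟩) (.one ⟨3097, 1, 0⟩)) (.node 1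 (.one ⟨16112, 1, 2⟩) (.one ⟨1982, 1, 0⟩)))) (.node 4 (.node 2 (.node 1 (.one ⟨9603, 0, 2⟩) (.one ⟨6293, 1, 1⟩)) (.node 1 (.one ⟨2704, 0, 1⟩) (.one ⟨16513, 1, 1⟩))) (.node 2 (.node 1 (.one ⟨6817, 1, 2⟩) (.one ⟨7623, 1, 2⟩)) (.node 1 (.one ⟨3113, 0, 0⟩) (.one ⟨9291, 0, 1⟩)))))) (.node 16 (.node 8 (.node 4 (.node 2 (.node 1 (.one ⟨6819, 0, 1⟩) (.one ⟨3629, 1, 0⟩)) (.node 1 (.one ⟨1289, 0, 1⟩) (.one ⟨9551, 0, 1⟩))) (.node 2 (.node 1 (.one ⟨6746, 0, 1⟩) (.one ⟨14806, 0, 3⟩)) (.node 1 (.one ⟨1445, 0, 1⟩) (.one ⟨3671, 1, 1⟩)))) (.node 4 (.node 2 (.node 1 (.one ⟨16877, 1, 1⟩) (.one ⟨1209, 0, 0⟩)) (.node 1 (.one ⟨7725, 1, 1⟩) (.one ⟨10110, 1, 2⟩))) (.node 2 (.node 1 (.one ⟨526, 0, 3⟩) (.one ⟨3445, 1, 2⟩)) (.node 1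 (.one ⟨3099, 1, 0⟩) (.one ⟨2896, 1, 0⟩))))) (.node 8 (.node 4 (.node 2 (.node 1 (.one ⟨7034, 0, 2⟩) (.one ⟨7994, 0, 2⟩)) (.node 1 (.one ⟨3685, 1, 0⟩) (.one ⟨4803, 0, 2⟩))) (.node 2 (.node 1 (.one ⟨3869, 1, 0⟩) (.one ⟨2777, 0, 0⟩)) (.node 1 (.one ⟨1797, 0, 1⟩) (.one ⟨14311, 0, 1⟩)))) (.node 4 (.node 2 (.node 1 (.one ⟨4802, 0, 3⟩) (.one ⟨4542, 0, 3⟩)) (.node 1 (.one ⟨14390, 0, 1⟩) (.one ⟨3286, 1, 0⟩))) (.node 2 (.node 1 (.one ⟨5615, 0, 1⟩) (.one ⟨13952, 1, 2⟩)) (.node 1 (.one ⟨13198, 0, 1⟩) (.one ⟨1888, 0, 2⟩)))))))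
def par5_3_9 : Arr Par :=
  (.node 32 (.node 16 (.node 8 (.node 4 (.node 2 (.node 1 (.one ⟨10363, 1, 1⟩) (.one ⟨2647, 0, 3⟩)) (.node 1 (.one ⟨4760, 0, 2⟩) (.one ⟨2410, 0, 1⟩))) (.node 2 (.node 1 (.one ⟨4993, 0, 3⟩) (.one ⟨24, 0, 1⟩)) (.node 1 (.one ⟨5495, 0, 1⟩) (.one ⟨1826, 1, 0⟩)))) (.node 4 (.node 2 (.node 1 (.one ⟨4097, 0, 0⟩) (.one ⟨9745, 1, 2⟩)) (.node 1 (.one ⟨1045, 1, 2⟩) (.one ⟨7696, 1, 1⟩))) (.node 2 (.node 1 (.one ⟨1060, 0, 2⟩) (.one ⟨1272, 0, 1⟩)) (.node 1 (.one ⟨3541, 1, 2⟩) (.one ⟨1513, 1, 2⟩))))) (.node 8 (.node 4 (.node 2 (.node 1 (.one ⟨135, 1, 0⟩) (.one ⟨2409, 1, 2⟩)) (.node 1 (.one ⟨14197, 0, 3⟩) (.one ⟨306, 0, 1⟩))) (.node 2 (.node 1 (.one ⟨1924, 1, 0⟩) (.one ⟨3400, 1, 0⟩)) (.node 1 (.one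 ⟨677, 1, 0⟩) (.one ⟨2463, 1, 0⟩)))) (.node 4 (.node 2 (.node 1 (.one ⟨16186, 0, 1⟩) (.one ⟨11373, 1, 1⟩)) (.node 1 (.one ⟨3501, 1, 0⟩) (.one ⟨12569, 0, 2⟩))) (.node 2 (.node 1 (.one ⟨8328, 0, 1⟩) (.one ⟨13860, 0, 1⟩)) (.node 1 (.one ⟨7682, 1, 1⟩) (.one ⟨5487, 0, 2⟩)))))) (.node 16 (.node 8 (.node 4 (.node 2 (.node 1 (.one ⟨5058, 1, 2⟩) (.one ⟨15233, 1, 1⟩)) (.node 1 (.one ⟨2915, 0, 2⟩) (.one ⟨8899, 1, 2⟩))) (.node 2 (.node 1 (.one ⟨973, 1, 2⟩) (.one ⟨15718, 1, 2⟩)) (.node 1 (.one ⟨1415, 0, 1⟩) (.one ⟨8411, 0, 2⟩)))) (.node 4 (.node 2 (.node 1 (.one ⟨4947, 0, 1⟩) (.one ⟨8648, 0, 1⟩)) (.node 1 (.one ⟨4799, 0, 2⟩) (.one ⟨4878, 0, 2⟩))) (.node 2 (.node 1 (.one ⟨8709, 0, 1⟩) (.one ⟨5008, 0, 3⟩)) (.node 1 (.one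 ⟨8472, 0, 2⟩) (.one ⟨2085, 0, 1⟩))))) (.node 8 (.node 4 (.node 2 (.node 1 (.one ⟨1829, 1, 0⟩) (.one ⟨15790, 0, 2⟩)) (.node 1 (.one ⟨8483, 1, 2⟩) (.one ⟨2866, 1, 0⟩))) (.node 2 (.node 1 (.one ⟨6905, 0, 3⟩) (.one ⟨1624, 1, 0⟩)) (.node 1 (.one ⟨12568, 1, 2⟩) (.one ⟨800, 0, 2⟩)))) (.node 4 (.node 2 (.node 1 (.one ⟨2068, 0, 2⟩) (.one ⟨14018, 0, 2⟩)) (.node 1 (.one ⟨13986, 0, 2⟩) (.one ⟨2094, 0, 1⟩))) (.node 2 (.node 1 (.one ⟨11, 1, 1⟩) (.one ⟨13976, 0, 2⟩)) (.node 1 (.one ⟨14008, 0, 1⟩) (.one ⟨4355, 1, 1⟩)))))))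
def par5_3_10 : Arr Par :=
  (.node 32 (.node 16 (.node 8 (.node 4 (.node 2 (.node 1 (.one ⟨6980, 0, 1⟩) (.one ⟨2403, 0, 0⟩)) (.node 1 (.one ⟨1348, 0, 1⟩) (.one ⟨965, 1, 1⟩))) (.node 2 (.node 1 (.one ⟨6048, 0, 2⟩) (.one ⟨4870, 1, 0⟩)) (.node 1 (.one ⟨2810, 0, 3⟩) (.one ⟨9955, 0, 3⟩)))) (.node 4 (.node 2 (.node 1 (.one ⟨6172, 0, 3⟩) (.one ⟨9927, 0, 3⟩)) (.node 1 (.one ⟨6129, 0, 1⟩) (.one ⟨4014, 1, 0⟩))) (.node 2 (.node 1 (.one ⟨3179, 1, 1⟩) (.one ⟨13981, 0, 1⟩)) (.node 1 (.one ⟨1414, 0, 1⟩) (.one ⟨192, 1, 0⟩))))) (.node 8 (.node 4 (.node 2 (.node 1 (.one ⟨12294, 1, 2⟩) (.one ⟨14599, 0, 1⟩)) (.node 1 (.one ⟨768, 1, 1⟩) (.one ⟨6336, 0, 3⟩))) (.node 2 (.node 1 (.one ⟨261, 1, 0⟩) (.one ⟨6440, 0, 1⟩)) (.node 1 (.one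 ⟨5496, 0, 0⟩) (.one ⟨616, 1, 0⟩)))) (.node 4 (.node 2 (.node 1 (.one ⟨15614, 0, 3⟩) (.one ⟨2896, 1, 1⟩)) (.node 1 (.one ⟨3008, 0, 0⟩) (.one ⟨5343, 0, 3⟩))) (.node 2 (.node 1 (.one ⟨2223, 1, 0⟩) (.one ⟨520, 0, 2⟩)) (.node 1 (.one ⟨14987, 1, 2⟩) (.one ⟨3028, 1, 0⟩)))))) (.node 16 (.node 8 (.node 4 (.node 2 (.node 1 (.one ⟨2580, 0, 2⟩) (.one ⟨5265, 0, 0⟩)) (.node 1 (.one ⟨5771, 0, 3⟩) (.one ⟨5769, 0, 2⟩))) (.node 2 (.node 1 (.one ⟨2519, 1, 0⟩) (.one ⟨2578, 0, 1⟩)) (.node 1 (.one ⟨5024, 1, 0⟩) (.one ⟨8963, 0, 3⟩)))) (.node 4 (.node 2 (.node 1 (.one ⟨5165, 0, 3⟩) (.one ⟨11399, 0, 2⟩)) (.node 1 (.one ⟨15153, 0, 2⟩) (.one ⟨11649, 0, 3⟩))) (.node 2 (.node 1 (.one ⟨15783, 0, 3⟩) (.one ⟨892, 1, 1⟩)) (.node 1 (.one ⟨618,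 0, 1⟩) (.one ⟨2439, 1, 0⟩))))) (.node 8 (.node 4 (.node 2 (.node 1 (.one ⟨16027, 0, 3⟩) (.one ⟨2850, 1, 0⟩)) (.node 1 (.one ⟨11923, 1, 2⟩) (.one ⟨11885, 1, 2⟩))) (.node 2 (.node 1 (.one ⟨15408, 0, 2⟩) (.one ⟨2198, 1, 0⟩)) (.node 1 (.one ⟨5304, 0, 2⟩) (.one ⟨3608, 1, 0⟩)))) (.node 4 (.node 2 (.node 1 (.one ⟨9569, 1, 2⟩) (.one ⟨3685, 0, 3⟩)) (.node 1 (.one ⟨15989, 1, 2⟩) (.one ⟨10330, 0, 3⟩))) (.node 2 (.node 1 (.one ⟨4403, 0, 1⟩) (.one ⟨3065, 0, 0⟩)) (.node 1 (.one ⟨9290, 0, 2⟩) (.one ⟨10786, 0, 3⟩)))))))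
def par5_3_11 : Arr Par :=
  (.node 32 (.node 16 (.node 8 (.node 4 (.node 2 (.node 1 (.one ⟨5308, 0, 3⟩) (.one ⟨15387, 0, 2⟩)) (.node 1 (.one ⟨8178, 0, 2⟩) (.one ⟨7083, 0, 3⟩))) (.node 2 (.node 1 (.one ⟨15945, 0, 3⟩) (.one ⟨1681, 1, 0⟩)) (.node 1 (.one ⟨12917, 0, 1⟩) (.one ⟨14540, 1, 1⟩)))) (.node 4 (.node 2 (.node 1 (.one ⟨11627, 0, 3⟩) (.one ⟨12700, 1, 1⟩)) (.node 1 (.one ⟨402, 0, 2⟩) (.one ⟨1748, 1, 0⟩))) (.node 2 (.node 1 (.one ⟨14838, 0, 1⟩) (.one ⟨1432, 1, 1⟩)) (.node 1 (.one ⟨7747, 1, 2⟩) (.one ⟨9227, 1, 2⟩))))) (.node 8 (.node 4 (.node 2 (.node 1 (.one ⟨1133, 0, 2⟩) (.one ⟨4126, 1, 0⟩)) (.node 1 (.one ⟨3552, 1, 0⟩) (.one ⟨88, 0, 2⟩))) (.node 2 (.node 1 (.one ⟨12119, 1, 2⟩) (.one ⟨2173, 0, 1⟩)) (.node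 1 (.one ⟨9477, 0, 2⟩) (.one ⟨3915, 1, 0⟩)))) (.node 4 (.node 2 (.node 1 (.one ⟨3607, 0, 1⟩) (.one ⟨7936, 1, 2⟩)) (.node 1 (.one ⟨11198, 0, 1⟩) (.one ⟨11164, 0, 2⟩))) (.node 2 (.node 1 (.one ⟨1375, 0, 3⟩) (.one ⟨11921, 1, 1⟩)) (.node 1 (.one ⟨13261, 0, 3⟩) (.one ⟨5184, 1, 0⟩)))))) (.node 16 (.node 8 (.node 4 (.node 2 (.node 1 (.one ⟨9528, 1, 1⟩) (.one ⟨10720, 0, 3⟩)) (.node 1 (.one ⟨16644, 1, 1⟩) (.one ⟨10732, 0, 1⟩))) (.node 2 (.node 1 (.one ⟨6541, 0, 3⟩) (.one ⟨4554, 1, 0⟩)) (.node 1 (.one ⟨1635, 1, 0⟩) (.one ⟨1431, 1, 1⟩)))) (.node 4 (.node 2 (.node 1 (.one ⟨14835, 1, 1⟩) (.one ⟨10302, 1, 2⟩)) (.node 1 (.one ⟨7367, 1, 2⟩) (.one ⟨62, 0, 1⟩))) (.node 2 (.node 1 (.one ⟨7658, 0, 1⟩) (.one ⟨11999, 0, 1⟩)) (.node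 1 (.one ⟨14272, 0, 1⟩) (.one ⟨15865, 1, 2⟩))))) (.node 8 (.node 4 (.node 2 (.node 1 (.one ⟨1037, 1, 0⟩) (.one ⟨2608, 0, 3⟩)) (.node 1 (.one ⟨2749, 1, 0⟩) (.one ⟨11162, 0, 2⟩))) (.node 2 (.node 1 (.one ⟨1284, 1, 0⟩) (.one ⟨3102, 1, 1⟩)) (.node 1 (.one ⟨3908, 1, 0⟩) (.one ⟨912, 1, 0⟩)))) (.node 4 (.node 2 (.node 1 (.one ⟨8322, 1, 2⟩) (.one ⟨11012, 0, 3⟩)) (.node 1 (.one ⟨4405, 0, 3⟩) (.one ⟨1949, 0, 0⟩))) (.node 2 (.node 1 (.one ⟨393, 1, 0⟩) (.one ⟨2673, 1, 1⟩)) (.node 1 (.one ⟨7329, 0, 1⟩) (.one ⟨4251, 1, 2⟩)))))))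
def par5_3_12 : Arr Par :=
  (.node 32 (.node 16 (.node 8 (.node 4 (.node 2 (.node 1 (.one ⟨11873, 1, 2⟩) (.one ⟨10506, 1, 2⟩)) (.node 1 (.one ⟨1251, 0, 2⟩) (.one ⟨12157, 0, 3⟩))) (.node 2 (.node 1 (.one ⟨2375, 1, 2⟩) (.one ⟨3874, 1, 2⟩)) (.node 1 (.one ⟨12248, 1, 2⟩) (.one ⟨823, 1, 1⟩)))) (.node 4 (.node 2 (.node 1 (.one ⟨3289, 1, 0⟩) (.one ⟨139, 0, 3⟩)) (.node 1 (.one ⟨1677, 0, 0⟩) (.one ⟨3880, 1, 2⟩))) (.node 2 (.node 1 (.one ⟨11791, 0, 3⟩) (.one ⟨4017, 0, 2⟩)) (.node 1 (.one ⟨11331, 0, 1⟩) (.one ⟨2862, 1, 0⟩))))) (.node 8 (.node 4 (.node 2 (.node 1 (.one ⟨8558, 1, 1⟩) (.one ⟨9876, 0, 1⟩)) (.node 1 (.one ⟨5945, 0, 1⟩) (.one ⟨5718, 0, 1⟩))) (.node 2 (.node 1 (.one ⟨5016, 1, 2⟩) (.one ⟨11637, 1, 1⟩)) (.node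 1 (.one ⟨1239, 1, 0⟩) (.one ⟨16692, 0, 3⟩)))) (.node 4 (.node 2 (.node 1 (.one ⟨15769, 0, 1⟩) (.one ⟨1532, 1, 0⟩)) (.node 1 (.one ⟨9683, 0, 3⟩) (.one ⟨4527, 1, 1⟩))) (.node 2 (.node 1 (.one ⟨8956, 1, 2⟩) (.one ⟨3194, 1, 1⟩)) (.node 1 (.one ⟨3773, 0, 1⟩) (.one ⟨9372, 1, 1⟩)))))) (.node 16 (.node 8 (.node 4 (.node 2 (.node 1 (.one ⟨2563, 1, 0⟩) (.one ⟨1667, 0, 3⟩)) (.node 1 (.one ⟨10759, 0, 1⟩) (.one ⟨10300, 0, 1⟩))) (.node 2 (.node 1 (.one ⟨5355, 1, 0⟩) (.one ⟨303, 1, 0⟩)) (.node 1 (.one ⟨508, 1, 0⟩) (.one ⟨3848, 1, 1⟩)))) (.node 4 (.node 2 (.node 1 (.one ⟨2155, 0, 1⟩) (.one ⟨1027, 1, 2⟩)) (.node 1 (.one ⟨415, 1, 1⟩) (.one ⟨12176, 0, 3⟩))) (.node 2 (.node 1 (.one ⟨3850, 1, 1⟩) (.one ⟨293, 1, 1⟩)) (.node 1 (.one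 ⟨727, 1, 1⟩) (.one ⟨18, 0, 2⟩))))) (.node 8 (.node 4 (.node 2 (.node 1 (.one ⟨786, 0, 1⟩) (.one ⟨1035, 0, 1⟩)) (.node 1 (.one ⟨321, 0, 1⟩) (.one ⟨12351, 1, 2⟩))) (.node 2 (.node 1 (.one ⟨686, 0, 1⟩) (.one ⟨917, 0, 1⟩)) (.node 1 (.one ⟨544, 0, 1⟩) (.one ⟨13973, 0, 3⟩)))) (.node 4 (.node 2 (.node 1 (.one ⟨186, 0, 0⟩) (.one ⟨1489, 1, 1⟩)) (.node 1 (.one ⟨1040, 1, 0⟩) (.one ⟨665, 1, 2⟩))) (.node 2 (.node 1 (.one ⟨217, 0, 0⟩) (.one ⟨14407, 0, 1⟩)) (.node 1 (.one ⟨10386, 0, 1⟩) (.one ⟨206, 1, 0⟩)))))))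
def par5_3_13 : Arr Par :=
  (.node 32 (.node 16 (.node 8 (.node 4 (.node 2 (.node 1 (.one ⟨12530, 0, 1⟩) (.one ⟨16742, 1, 1⟩)) (.node 1 (.one ⟨8253, 1, 2⟩) (.one ⟨3564, 0, 0⟩))) (.node 2 (.node 1 (.one ⟨3559, 1, 0⟩) (.one ⟨16197, 0, 2⟩)) (.node 1 (.one ⟨3171, 1, 0⟩) (.one ⟨3961, 1, 0⟩)))) (.node 4 (.node 2 (.node 1 (.one ⟨12051, 0, 3⟩) (.one ⟨2945, 1, 1⟩)) (.node 1 (.one ⟨11793, 1, 2⟩) (.one ⟨3937, 1, 1⟩))) (.node 2 (.node 1 (.one ⟨11193, 1, 1⟩) (.one ⟨5407, 1, 2⟩)) (.node 1 (.one ⟨8982, 0, 2⟩) (.one ⟨1494, 1, 2⟩))))) (.node 8 (.node 4 (.node 2 (.node 1 (.one ⟨3572, 1, 0⟩) (.one ⟨7169, 0, 1⟩)) (.node 1 (.one ⟨8197, 0, 1⟩) (.one ⟨15114, 1, 2⟩))) (.node 2 (.node 1 (.one ⟨13768, 0, 2⟩) (.one ⟨4903, 0, 1⟩)) (.node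 1 (.one ⟨1926, 1, 0⟩) (.one ⟨2969, 0, 2⟩)))) (.node 4 (.node 2 (.node 1 (.one ⟨1168, 1, 1⟩) (.one ⟨4411, 0, 1⟩)) (.node 1 (.one ⟨3892, 1, 2⟩) (.one ⟨12267, 1, 1⟩))) (.node 2 (.node 1 (.one ⟨7109, 1, 1⟩) (.one ⟨9917, 1, 2⟩)) (.node 1 (.one ⟨8393, 1, 1⟩) (.one ⟨12345, 0, 2⟩)))))) (.node 16 (.node 8 (.node 4 (.node 2 (.node 1 (.one ⟨16285, 0, 2⟩) (.one ⟨2684, 0, 0⟩)) (.node 1 (.one ⟨641, 0, 2⟩) (.one ⟨6581, 1, 1⟩))) (.node 2 (.node 1 (.one ⟨7646, 1, 2⟩) (.one ⟨3130, 1, 0⟩)) (.node 1 (.one ⟨5553, 0, 1⟩) (.one ⟨3671, 0, 1⟩)))) (.node 4 (.node 2 (.node 1 (.one ⟨10464, 0, 1⟩) (.one ⟨12033, 0, 1⟩)) (.node 1 (.one ⟨2167, 0, 1⟩) (.one ⟨12513, 0, 1⟩))) (.node 2 (.node 1 (.one ⟨8275, 1, 1⟩) (.one ⟨3578, 0, 1⟩)) (.node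 1 (.one ⟨2742, 1, 0⟩) (.one ⟨9625, 1, 1⟩))))) (.node 8 (.node 4 (.node 2 (.node 1 (.one ⟨3111, 1, 0⟩) (.one ⟨8195, 1, 2⟩)) (.node 1 (.one ⟨5738, 1, 1⟩) (.one ⟨9661, 1, 2⟩))) (.node 2 (.node 1 (.one ⟨4637, 0, 0⟩) (.one ⟨8157, 1, 2⟩)) (.node 1 (.one ⟨16964, 0, 3⟩) (.one ⟨8336, 1, 2⟩)))) (.node 4 (.node 2 (.node 1 (.one ⟨8342, 1, 2⟩) (.one ⟨384, 1, 2⟩)) (.node 1 (.one ⟨191, 1, 2⟩) (.one ⟨8337, 1, 2⟩))) (.node 2 (.node 1 (.one ⟨8339, 1, 2⟩) (.one ⟨9510, 0, 2⟩)) (.node 1 (.one ⟨224, 1, 1⟩) (.one ⟨13771, 1, 2⟩)))))))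
def par5_3_14 : Arr Par :=
  (.node 32 (.node 16 (.node 8 (.node 4 (.node 2 (.node 1 (.one ⟨9624, 1, 1⟩) (.one ⟨6034, 0, 2⟩)) (.node 1 (.one ⟨8112, 0, 2⟩) (.one ⟨16315, 1, 1⟩))) (.node 2 (.node 1 (.one ⟨11629, 0, 3⟩) (.one ⟨16121, 0, 1⟩)) (.node 1 (.one ⟨14367, 0, 1⟩) (.one ⟨4823, 0, 1⟩)))) (.node 4 (.node 2 (.node 1 (.one ⟨5039, 0, 3⟩) (.one ⟨874, 1, 1⟩)) (.node 1 (.one ⟨3209, 0, 3⟩) (.one ⟨11453, 0, 3⟩))) (.node 2 (.node 1 (.one ⟨8354, 1, 1⟩) (.one ⟨13574, 0, 3⟩)) (.node 1 (.one ⟨13102, 0, 3⟩) (.one ⟨1910, 0, 2⟩))))) (.node 8 (.node 4 (.node 2 (.node 1 (.one ⟨1403, 1, 0⟩) (.one ⟨7578, 0, 2⟩)) (.node 1 (.one ⟨7168, 0, 2⟩) (.one ⟨1550, 1, 0⟩))) (.node 2 (.node 1 (.one ⟨7586, 0, 2⟩) (.one ⟨1283, 0, 3⟩)) (.node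 1 (.one ⟨2276, 1, 0⟩) (.one ⟨1428, 1, 0⟩)))) (.node 4 (.node 2 (.node 1 (.one ⟨5400, 0, 2⟩) (.one ⟨17064, 1, 2⟩)) (.node 1 (.one ⟨14396, 0, 3⟩) (.one ⟨14827, 1, 1⟩))) (.node 2 (.node 1 (.one ⟨1838, 0, 1⟩) (.one ⟨7413, 0, 1⟩)) (.node 1 (.one ⟨3218, 1, 1⟩) (.one ⟨486, 0, 3⟩)))))) (.node 16 (.node 8 (.node 4 (.node 2 (.node 1 (.one ⟨2148, 1, 0⟩) (.one ⟨16961, 0, 1⟩)) (.node 1 (.one ⟨3366, 1, 0⟩) (.one ⟨3981, 1, 0⟩))) (.node 2 (.node 1 (.one ⟨13194, 1, 1⟩) (.one ⟨1114, 1, 0⟩)) (.node 1 (.one ⟨9435, 0, 2⟩) (.one ⟨16247, 0, 2⟩)))) (.node 4 (.node 2 (.node 1 (.one ⟨2674, 1, 2⟩) (.one ⟨12028, 1, 1⟩)) (.node 1 (.one ⟨3337, 1, 0⟩) (.one ⟨3073, 1, 0⟩))) (.node 2 (.node 1 (.one ⟨15659, 1, 1⟩) (.one ⟨15115, 0, 2⟩)) (.node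 1 (.one ⟨6713, 1, 1⟩) (.one ⟨10503, 0, 3⟩))))) (.node 8 (.node 4 (.node 2 (.node 1 (.one ⟨15008, 1, 2⟩) (.one ⟨6965, 1, 1⟩)) (.node 1 (.one ⟨4250, 0, 2⟩) (.one ⟨11875, 0, 1⟩))) (.node 2 (.node 1 (.one ⟨13662, 1, 1⟩) (.one ⟨2403, 0, 1⟩)) (.node 1 (.one ⟨12355, 1, 2⟩) (.one ⟨4241, 0, 2⟩)))) (.node 4 (.node 2 (.node 1 (.one ⟨7694, 0, 2⟩) (.one ⟨5580, 0, 2⟩)) (.node 1 (.one ⟨2584, 0, 2⟩) (.one ⟨2358, 0, 2⟩))) (.node 2 (.node 1 (.one ⟨5393, 1, 1⟩) (.one ⟨8016, 0, 3⟩)) (.node 1 (.one ⟨2563, 1, 1⟩) (.one ⟨4467, 1, 1⟩)))))))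
def par5_3_15 : Arr Par :=
  (.node 32 (.node 16 (.node 8 (.node 4 (.node 2 (.node 1 (.one ⟨7982, 0, 3⟩) (.one ⟨1674, 0, 2⟩)) (.node 1 (.one ⟨6917, 0, 2⟩) (.one ⟨2554, 1, 0⟩))) (.node 2 (.node 1 (.one ⟨7865, 0, 2⟩) (.one ⟨16162, 1, 1⟩)) (.node 1 (.one ⟨6863, 0, 2⟩) (.one ⟨3127, 1, 1⟩)))) (.node 4 (.node 2 (.node 1 (.one ⟨5434, 1, 2⟩) (.one ⟨6200, 0, 3⟩)) (.node 1 (.one ⟨12965, 1, 1⟩) (.one ⟨3765, 1, 1⟩))) (.node 2 (.node 1 (.one ⟨805, 1, 1⟩) (.one ⟨12197, 1, 1⟩)) (.node 1 (.one ⟨10375, 0, 3⟩) (.one ⟨998, 1, 1⟩))))) (.node 8 (.node 4 (.node 2 (.node 1 (.one ⟨10311, 0, 1⟩) (.one ⟨162, 1, 0⟩)) (.node 1 (.one ⟨2529, 1, 0⟩) (.one ⟨8273, 1, 2⟩))) (.node 2 (.node 1 (.one ⟨154, 1, 0⟩) (.one ⟨259, 1, 0⟩)) (.node 1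 (.one ⟨6446, 0, 3⟩) (.one ⟨1427, 1, 0⟩)))) (.node 4 (.node 2 (.node 1 (.one ⟨1959, 1, 2⟩) (.one ⟨3954, 0, 0⟩)) (.node 1 (.one ⟨2923, 0, 2⟩) (.one ⟨15253, 0, 2⟩))) (.node 2 (.node 1 (.one ⟨13787, 1, 2⟩) (.one ⟨10483, 1, 2⟩)) (.node 1 (.one ⟨1117, 1, 0⟩) (.one ⟨16093, 0, 3⟩)))))) (.node 16 (.node 8 (.node 4 (.node 2 (.node 1 (.one ⟨13544, 0, 1⟩) (.one ⟨11340, 0, 2⟩)) (.node 1 (.one ⟨13786, 0, 2⟩) (.one ⟨3683, 0, 3⟩))) (.node 2 (.node 1 (.one ⟨2171, 1, 0⟩) (.one ⟨2346, 1, 0⟩)) (.node 1 (.one ⟨1096, 0, 2⟩) (.one ⟨3118, 0, 1⟩)))) (.node 4 (.node 2 (.node 1 (.one ⟨13293, 0, 2⟩) (.one ⟨14617, 1, 1⟩)) (.node 1 (.one ⟨15606, 0, 1⟩) (.one ⟨3449, 1, 0⟩))) (.node 2 (.node 1 (.one ⟨12388, 0, 3⟩) (.one ⟨8015, 0, 3⟩)) (.node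 1 (.one ⟨14454, 0, 3⟩) (.one ⟨11789, 0, 2⟩))))) (.node 8 (.node 4 (.node 2 (.node 1 (.one ⟨5806, 0, 1⟩) (.one ⟨161, 0, 1⟩)) (.node 1 (.one ⟨16151, 0, 2⟩) (.one ⟨10508, 0, 2⟩))) (.node 2 (.node 1 (.one ⟨4805, 1, 0⟩) (.one ⟨10584, 1, 1⟩)) (.node 1 (.one ⟨14303, 0, 1⟩) (.one ⟨15960, 1, 1⟩)))) (.node 4 (.node 2 (.node 1 (.one ⟨8018, 0, 1⟩) (.one ⟨9799, 0, 3⟩)) (.node 1 (.one ⟨5439, 0, 3⟩) (.one ⟨8263, 0, 3⟩))) (.node 2 (.node 1 (.one ⟨14655, 0, 1⟩) (.one ⟨10451, 1, 1⟩)) (.node 1 (.one ⟨10329, 0, 1⟩) (.one ⟨3964, 0, 3⟩)))))))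
def par5_3 : Arr Par :=
  (.node 512 (.node 256 (.node 128 (.node 64 par5_3_0 par5_3_1) (.node 64 par5_3_2 par5_3_3)) (.node 128 (.node 64 par5_3_4 par5_3_5) (.node 64 par5_3_6 par5_3_7))) (.node 256 (.node 128 (.node 64 par5_3_8 par5_3_9) (.node 64 par5_3_10 par5_3_11)) (.node 128 (.node 64 par5_3_12 par5_3_13) (.node 64 par5_3_14 par5_3_15))))
def par5_4_0 : Arr Par :=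
  (.node 32 (.node 16 (.node 8 (.node 4 (.node 2 (.node 1 (.one ⟨11899, 0, 3⟩) (.one ⟨10768, 0, 3⟩)) (.node 1 (.one ⟨1149, 0, 3⟩) (.one ⟨12222, 0, 3⟩))) (.node 2 (.node 1 (.one ⟨3613, 0, 3⟩) (.one ⟨2434, 0, 3⟩)) (.node 1 (.one ⟨9978, 0, 3⟩) (.one ⟨80, 0, 2⟩)))) (.node 4 (.node 2 (.node 1 (.one ⟨13992, 1, 1⟩) (.one ⟨1496, 0, 2⟩)) (.node 1 (.one ⟨2518, 1, 0⟩) (.one ⟨15955, 1, 2⟩))) (.node 2 (.node 1 (.one ⟨9370, 0, 2⟩) (.one ⟨17133, 1, 2⟩)) (.node 1 (.one ⟨9248, 0, 2⟩) (.one ⟨1671, 1, 0⟩))))) (.node 8 (.node 4 (.node 2 (.node 1 (.one ⟨6346, 0, 1⟩) (.one ⟨935, 1, 0⟩)) (.node 1 (.one ⟨6530, 0, 3⟩) (.one ⟨427, 1, 0⟩))) (.node 2 (.node 1 (.one ⟨2123, 0, 3⟩) (.one ⟨15745, 0, 1⟩)) (.node 1 (.one ⟨4196, 1, 1⟩) (.one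 ⟨1513, 1, 0⟩)))) (.node 4 (.node 2 (.node 1 (.one ⟨3347, 0, 3⟩) (.one ⟨4672, 0, 3⟩)) (.node 1 (.one ⟨3128, 1, 2⟩) (.one ⟨16778, 0, 1⟩))) (.node 2 (.node 1 (.one ⟨5454, 1, 2⟩) (.one ⟨3734, 1, 1⟩)) (.node 1 (.one ⟨15580, 0, 2⟩) (.one ⟨2679, 0, 0⟩)))))) (.node 16 (.node 8 (.node 4 (.node 2 (.node 1 (.one ⟨2879, 0, 2⟩) (.one ⟨4642, 0, 2⟩)) (.node 1 (.one ⟨284, 1, 0⟩) (.one ⟨2637, 1, 0⟩))) (.node 2 (.node 1 (.one ⟨7786, 0, 3⟩) (.one ⟨12439, 1, 2⟩)) (.node 1 (.one ⟨3411, 1, 2⟩) (.one ⟨3713, 1, 1⟩)))) (.node 4 (.node 2 (.node 1 (.one ⟨11225, 1, 1⟩) (.one ⟨3087, 1, 2⟩)) (.node 1 (.one ⟨12096, 1, 1⟩) (.one ⟨4883, 1, 2⟩))) (.node 2 (.node 1 (.one ⟨10699, 1, 1⟩) (.one ⟨888, 1, 1⟩)) (.node 1 (.one ⟨13476, 1, 1⟩) (.one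 ⟨7138, 0, 3⟩))))) (.node 8 (.node 4 (.node 2 (.node 1 (.one ⟨3564, 0, 3⟩) (.one ⟨8911, 0, 3⟩)) (.node 1 (.one ⟨1029, 0, 3⟩) (.one ⟨15069, 0, 3⟩))) (.node 2 (.node 1 (.one ⟨12231, 0, 3⟩) (.one ⟨16604, 0, 3⟩)) (.node 1 (.one ⟨10721, 0, 3⟩) (.one ⟨2931, 1, 1⟩)))) (.node 4 (.node 2 (.node 1 (.one ⟨15731, 1, 2⟩) (.one ⟨11171, 0, 1⟩)) (.node 1 (.one ⟨1671, 0, 3⟩) (.one ⟨12960, 1, 2⟩))) (.node 2 (.node 1 (.one ⟨6184, 1, 2⟩) (.one ⟨3480, 1, 1⟩)) (.node 1 (.one ⟨3768, 0, 3⟩) (.one ⟨12561, 1, 2⟩)))))))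
def par5_4_1 : Arr Par :=
  (.node 32 (.node 16 (.node 8 (.node 4 (.node 2 (.node 1 (.one ⟨15209, 0, 1⟩) (.one ⟨13611, 0, 1⟩)) (.node 1 (.one ⟨7180, 1, 2⟩) (.one ⟨6424, 0, 2⟩))) (.node 2 (.node 1 (.one ⟨8085, 0, 2⟩) (.one ⟨254, 0, 3⟩)) (.node 1 (.one ⟨3876, 1, 1⟩) (.one ⟨1676, 1, 0⟩)))) (.node 4 (.node 2 (.node 1 (.one ⟨14174, 0, 3⟩) (.one ⟨1906, 0, 2⟩)) (.node 1 (.one ⟨14152, 0, 1⟩) (.one ⟨13963, 0, 1⟩))) (.node 2 (.node 1 (.one ⟨1484, 0, 1⟩) (.one ⟨13934, 0, 3⟩)) (.node 1 (.one ⟨512, 0, 3⟩) (.one ⟨7827, 0, 3⟩))))) (.node 8 (.node 4 (.node 2 (.node 1 (.one ⟨2994, 0, 1⟩) (.one ⟨6811, 0, 3⟩)) (.node 1 (.one ⟨3759, 0, 1⟩) (.one ⟨2683, 1, 0⟩))) (.node 2 (.node 1 (.one ⟨4852, 0, 1⟩) (.one ⟨788, 1, 2⟩)) (.node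 1 (.one ⟨1780, 0, 1⟩) (.one ⟨7640, 1, 2⟩)))) (.node 4 (.node 2 (.node 1 (.one ⟨10300, 1, 1⟩) (.one ⟨10812, 1, 1⟩)) (.node 1 (.one ⟨11922, 0, 1⟩) (.one ⟨12107, 1, 2⟩))) (.node 2 (.node 1 (.one ⟨3533, 1, 0⟩) (.one ⟨11961, 0, 3⟩)) (.node 1 (.one ⟨12757, 1, 2⟩) (.one ⟨11902, 0, 1⟩)))))) (.node 16 (.node 8 (.node 4 (.node 2 (.node 1 (.one ⟨6599, 0, 3⟩) (.one ⟨9485, 0, 1⟩)) (.node 1 (.one ⟨2113, 1, 0⟩) (.one ⟨8593, 0, 1⟩))) (.node 2 (.node 1 (.one ⟨3704, 1, 0⟩) (.one ⟨6825, 0, 2⟩)) (.node 1 (.one ⟨11695, 0, 2⟩) (.one ⟨2886, 0, 3⟩)))) (.node 4 (.node 2 (.node 1 (.one ⟨11755, 0, 2⟩) (.one ⟨11846, 0, 3⟩)) (.node 1 (.one ⟨3062, 0, 3⟩) (.one ⟨3430, 1, 0⟩))) (.node 2 (.node 1 (.one ⟨6356, 0, 1⟩) (.one ⟨6173, 1, 2⟩)) (.node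 1 (.one ⟨16673, 1, 2⟩) (.one ⟨10722, 0, 2⟩))))) (.node 8 (.node 4 (.node 2 (.node 1 (.one ⟨2903, 0, 3⟩) (.one ⟨2344, 1, 1⟩)) (.node 1 (.one ⟨14720, 1, 1⟩) (.one ⟨5026, 1, 0⟩))) (.node 2 (.node 1 (.one ⟨3268, 0, 2⟩) (.one ⟨3149, 0, 0⟩)) (.node 1 (.one ⟨11365, 0, 1⟩) (.one ⟨5040, 0, 2⟩)))) (.node 4 (.node 2 (.node 1 (.one ⟨12379, 1, 2⟩) (.one ⟨12165, 1, 1⟩)) (.node 1 (.one ⟨16077, 1, 2⟩) (.one ⟨2607, 1, 2⟩))) (.node 2 (.node 1 (.one ⟨4444, 0, 2⟩) (.one ⟨1652, 1, 0⟩)) (.node 1 (.one ⟨1084, 0, 1⟩) (.one ⟨11219, 1, 1⟩)))))))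
def par5_4_2 : Arr Par :=
  (.node 32 (.node 16 (.node 8 (.node 4 (.node 2 (.node 1 (.one ⟨148, 1, 0⟩) (.one ⟨1761, 1, 2⟩)) (.node 1 (.one ⟨4693, 0, 3⟩) (.one ⟨5087, 1, 2⟩))) (.node 2 (.node 1 (.one ⟨56, 0, 1⟩) (.one ⟨1005, 1, 0⟩)) (.node 1 (.one ⟨17002, 0, 1⟩) (.one ⟨1640, 0, 3⟩)))) (.node 4 (.node 2 (.node 1 (.one ⟨271, 1, 0⟩) (.one ⟨2070, 0, 3⟩)) (.node 1 (.one ⟨3502, 1, 1⟩) (.one ⟨1961, 1, 0⟩))) (.node 2 (.node 1 (.one ⟨14637, 1, 2⟩) (.one ⟨2130, 1, 0⟩)) (.node 1 (.one ⟨15184, 1, 1⟩) (.one ⟨7879, 0, 3⟩))))) (.node 8 (.node 4 (.node 2 (.node 1 (.one ⟨10342, 0, 2⟩) (.one ⟨2547, 1, 1⟩)) (.node 1 (.one ⟨14175, 0, 2⟩) (.one ⟨7830, 0, 3⟩))) (.node 2 (.node 1 (.one ⟨10742, 0, 2⟩) (.one ⟨5485, 1, 1⟩)) (.node 1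 (.one ⟨16707, 1, 1⟩) (.one ⟨2234, 0, 1⟩)))) (.node 4 (.node 2 (.node 1 (.one ⟨3582, 0, 3⟩) (.one ⟨695, 0, 3⟩)) (.node 1 (.one ⟨10418, 1, 1⟩) (.one ⟨11715, 0, 1⟩))) (.node 2 (.node 1 (.one ⟨10760, 0, 1⟩) (.one ⟨12249, 0, 1⟩)) (.node 1 (.one ⟨10205, 0, 1⟩) (.one ⟨3594, 0, 1⟩)))))) (.node 16 (.node 8 (.node 4 (.node 2 (.node 1 (.one ⟨6546, 0, 3⟩) (.one ⟨2360, 1, 2⟩)) (.node 1 (.one ⟨14109, 0, 1⟩) (.one ⟨7460, 1, 2⟩))) (.node 2 (.node 1 (.one ⟨3331, 1, 0⟩) (.one ⟨3384, 0, 2⟩)) (.node 1 (.one ⟨8416, 0, 3⟩) (.one ⟨9429, 0, 1⟩)))) (.node 4 (.node 2 (.node 1 (.one ⟨9556, 0, 1⟩) (.one ⟨1377, 0, 1⟩)) (.node 1 (.one ⟨1442, 0, 1⟩) (.one ⟨5056, 1, 0⟩))) (.node 2 (.node 1 (.one ⟨8421, 0, 3⟩) (.one ⟨7918, 1, 2⟩)) (.node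 1 (.one ⟨16487, 0, 2⟩) (.one ⟨12265, 1, 1⟩))))) (.node 8 (.node 4 (.node 2 (.node 1 (.one ⟨7593, 0, 1⟩) (.one ⟨15144, 0, 2⟩)) (.node 1 (.one ⟨16508, 0, 2⟩) (.one ⟨9032, 0, 2⟩))) (.node 2 (.node 1 (.one ⟨7377, 0, 2⟩) (.one ⟨14921, 1, 2⟩)) (.node 1 (.one ⟨16715, 0, 1⟩) (.one ⟨1919, 1, 1⟩)))) (.node 4 (.node 2 (.node 1 (.one ⟨1343, 0, 2⟩) (.one ⟨3553, 0, 1⟩)) (.node 1 (.one ⟨73, 0, 1⟩) (.one ⟨16320, 1, 1⟩))) (.node 2 (.node 1 (.one ⟨14121, 1, 1⟩) (.one ⟨1407, 0, 2⟩)) (.node 1 (.one ⟨12759, 1, 2⟩) (.one ⟨850, 1, 0⟩)))))))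
def par5_4_3 : Arr Par :=
  (.node 32 (.node 16 (.node 8 (.node 4 (.node 2 (.node 1 (.one ⟨5742, 0, 3⟩) (.one ⟨6185, 1, 2⟩)) (.node 1 (.one ⟨1001, 0, 2⟩) (.one ⟨3384, 1, 0⟩))) (.node 2 (.node 1 (.one ⟨3519, 0, 2⟩) (.one ⟨3767, 1, 0⟩)) (.node 1 (.one ⟨8581, 1, 2⟩) (.one ⟨8683, 0, 1⟩)))) (.node 4 (.node 2 (.node 1 (.one ⟨798, 1, 0⟩) (.one ⟨3518, 0, 2⟩)) (.node 1 (.one ⟨12402, 1, 2⟩) (.one ⟨14518, 1, 2⟩))) (.node 2 (.node 1 (.one ⟨4177, 1, 0⟩) (.one ⟨7698, 1, 2⟩)) (.node 1 (.one ⟨1071, 0, 1⟩) (.one ⟨3343, 0, 2⟩))))) (.node 8 (.node 4 (.node 2 (.node 1 (.one ⟨10294, 1, 2⟩) (.one ⟨8251, 0, 3⟩)) (.node 1 (.one ⟨1646, 0, 3⟩) (.one ⟨13969, 0, 2⟩))) (.node 2 (.node 1 (.one ⟨14766, 1, 1⟩) (.one ⟨13053, 0, 2⟩)) (.node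 1 (.one ⟨15211, 0, 1⟩) (.one ⟨2828, 0, 3⟩)))) (.node 4 (.node 2 (.node 1 (.one ⟨3805, 0, 2⟩) (.one ⟨11225, 0, 1⟩)) (.node 1 (.one ⟨12408, 0, 1⟩) (.one ⟨2552, 0, 2⟩))) (.node 2 (.node 1 (.one ⟨5086, 0, 2⟩) (.one ⟨563, 1, 1⟩)) (.node 1 (.one ⟨15315, 1, 2⟩) (.one ⟨6576, 1, 1⟩)))))) (.node 16 (.node 8 (.node 4 (.node 2 (.node 1 (.one ⟨8885, 0, 2⟩) (.one ⟨7158, 0, 3⟩)) (.node 1 (.one ⟨15313, 0, 1⟩) (.one ⟨12380, 0, 3⟩))) (.node 2 (.node 1 (.one ⟨4218, 0, 3⟩) (.one ⟨2610, 0, 2⟩)) (.node 1 (.one ⟨10787, 0, 1⟩) (.one ⟨8915, 1, 1⟩)))) (.node 4 (.node 2 (.node 1 (.one ⟨10918, 1, 2⟩) (.one ⟨10970, 1, 2⟩)) (.node 1 (.one ⟨13666, 0, 2⟩) (.one ⟨14054, 1, 1⟩))) (.node 2 (.node 1 (.one ⟨17167, 0, 2⟩) (.one ⟨4055, 1, 1⟩))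 (.node 1 (.one ⟨727, 1, 0⟩) (.one ⟨3598, 1, 0⟩))))) (.node 8 (.node 4 (.node 2 (.node 1 (.one ⟨6564, 0, 2⟩) (.one ⟨1560, 1, 0⟩)) (.node 1 (.one ⟨7169, 1, 1⟩) (.one ⟨438, 1, 0⟩))) (.node 2 (.node 1 (.one ⟨15243, 1, 2⟩) (.one ⟨9671, 0, 2⟩)) (.node 1 (.one ⟨6814, 0, 3⟩) (.one ⟨8646, 0, 3⟩)))) (.node 4 (.node 2 (.node 1 (.one ⟨3452, 1, 2⟩) (.one ⟨8984, 0, 2⟩)) (.node 1 (.one ⟨5712, 1, 2⟩) (.one ⟨12613, 0, 2⟩))) (.node 2 (.node 1 (.one ⟨15217, 1, 2⟩) (.one ⟨13458, 0, 3⟩)) (.node 1 (.one ⟨10022, 1, 1⟩) (.one ⟨16219, 1, 2⟩)))))))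
def par5_4_4 : Arr Par :=
  (.node 32 (.node 16 (.node 8 (.node 4 (.node 2 (.node 1 (.one ⟨6644, 1, 2⟩) (.one ⟨10309, 1, 2⟩)) (.node 1 (.one ⟨4908, 1, 1⟩) (.one ⟨2399, 1, 0⟩))) (.node 2 (.node 1 (.one ⟨17022, 0, 1⟩) (.one ⟨17021, 0, 2⟩)) (.node 1 (.one ⟨17076, 1, 2⟩) (.one ⟨10982, 0, 2⟩)))) (.node 4 (.node 2 (.node 1 (.one ⟨5014, 0, 1⟩) (.one ⟨16925, 0, 2⟩)) (.node 1 (.one ⟨7285, 0, 1⟩) (.one ⟨8651, 0, 3⟩))) (.node 2 (.node 1 (.one ⟨2349, 1, 0⟩) (.one ⟨13231, 1, 2⟩)) (.node 1 (.one ⟨13246, 0, 2⟩) (.one ⟨8980, 0, 3⟩))))) (.node 8 (.node 4 (.node 2 (.node 1 (.one ⟨12254, 0, 3⟩) (.one ⟨9005, 0, 3⟩)) (.node 1 (.one ⟨12234, 0, 3⟩) (.one ⟨1259, 0, 2⟩))) (.node 2 (.node 1 (.one ⟨15126, 0, 3⟩) (.one ⟨676, 0, 3⟩))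 (.node 1 (.one ⟨15138, 0, 3⟩) (.one ⟨13311, 0, 3⟩)))) (.node 4 (.node 2 (.node 1 (.one ⟨16663, 0, 3⟩) (.one ⟨16665, 0, 2⟩)) (.node 1 (.one ⟨13312, 0, 1⟩) (.one ⟨13318, 0, 1⟩))) (.node 2 (.node 1 (.one ⟨16669, 0, 3⟩) (.one ⟨16667, 0, 3⟩)) (.node 1 (.one ⟨13317, 0, 1⟩) (.one ⟨13832, 1, 2⟩)))))) (.node 16 (.node 8 (.node 4 (.node 2 (.node 1 (.one ⟨8524, 0, 3⟩) (.one ⟨12075, 0, 2⟩)) (.node 1 (.one ⟨11691, 1, 2⟩) (.one ⟨12319, 1, 2⟩))) (.node 2 (.node 1 (.one ⟨3653, 1, 2⟩) (.one ⟨5952, 1, 2⟩)) (.node 1 (.one ⟨8406, 0, 2⟩) (.one ⟨9838, 1, 1⟩)))) (.node 4 (.node 2 (.node 1 (.one ⟨8905, 1, 2⟩) (.one ⟨10388, 1, 2⟩)) (.node 1 (.one ⟨11103, 0, 1⟩) (.one ⟨5319, 0, 3⟩))) (.node 2 (.node 1 (.one ⟨12114, 0, 3⟩) (.one ⟨7629,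 1, 2⟩)) (.node 1 (.one ⟨1879, 1, 0⟩) (.one ⟨11868, 0, 2⟩))))) (.node 8 (.node 4 (.node 2 (.node 1 (.one ⟨1538, 0, 2⟩) (.one ⟨1917, 1, 0⟩)) (.node 1 (.one ⟨9610, 1, 1⟩) (.one ⟨767, 1, 0⟩))) (.node 2 (.node 1 (.one ⟨9455, 0, 3⟩) (.one ⟨4956, 1, 2⟩)) (.node 1 (.one ⟨9214, 0, 2⟩) (.one ⟨13970, 0, 1⟩)))) (.node 4 (.node 2 (.node 1 (.one ⟨11368, 0, 1⟩) (.one ⟨16232, 1, 1⟩)) (.node 1 (.one ⟨89, 0, 1⟩) (.one ⟨1775, 0, 0⟩))) (.node 2 (.node 1 (.one ⟨8435, 0, 1⟩) (.one ⟨12908, 0, 1⟩)) (.node 1 (.one ⟨16263, 0, 1⟩) (.one ⟨4334, 0, 1⟩)))))))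
def par5_4_5 : Arr Par :=
  (.node 32 (.node 16 (.node 8 (.node 4 (.node 2 (.node 1 (.one ⟨4396, 1, 0⟩) (.one ⟨3386, 0, 0⟩)) (.node 1 (.one ⟨9609, 1, 1⟩) (.one ⟨12926, 0, 3⟩))) (.node 2 (.node 1 (.one ⟨1590, 1, 0⟩) (.one ⟨15796, 1, 1⟩)) (.node 1 (.one ⟨2934, 1, 0⟩) (.one ⟨6303, 0, 2⟩)))) (.node 4 (.node 2 (.node 1 (.one ⟨9511, 1, 1⟩) (.one ⟨5357, 1, 2⟩)) (.node 1 (.one ⟨12898, 1, 2⟩) (.one ⟨7027, 1, 1⟩))) (.node 2 (.node 1 (.one ⟨15237, 1, 1⟩) (.one ⟨7877, 1, 2⟩)) (.node 1 (.one ⟨16217, 1, 2⟩) (.one ⟨4845, 1, 0⟩))))) (.node 8 (.node 4 (.node 2 (.node 1 (.one ⟨179, 1, 0⟩) (.one ⟨137, 1, 1⟩)) (.node 1 (.one ⟨2651, 0, 2⟩) (.one ⟨9513, 1, 1⟩))) (.node 2 (.node 1 (.one ⟨4092, 1, 0⟩) (.one ⟨3117, 1, 0⟩)) (.node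 1 (.one ⟨15169, 1, 2⟩) (.one ⟨10365, 0, 1⟩)))) (.node 4 (.node 2 (.node 1 (.one ⟨9614, 1, 1⟩) (.one ⟨2279, 0, 1⟩)) (.node 1 (.one ⟨2866, 0, 3⟩) (.one ⟨6960, 1, 2⟩))) (.node 2 (.node 1 (.one ⟨11019, 1, 1⟩) (.one ⟨13269, 1, 1⟩)) (.node 1 (.one ⟨12377, 0, 3⟩) (.one ⟨15249, 1, 2⟩)))))) (.node 16 (.node 8 (.node 4 (.node 2 (.node 1 (.one ⟨8494, 0, 2⟩) (.one ⟨2579, 1, 0⟩)) (.node 1 (.one ⟨2578, 1, 0⟩) (.one ⟨8815, 0, 2⟩))) (.node 2 (.node 1 (.one ⟨7082, 1, 2⟩) (.one ⟨9514, 1, 1⟩)) (.node 1 (.one ⟨4374, 1, 0⟩) (.one ⟨9613, 1, 1⟩)))) (.node 4 (.node 2 (.node 1 (.one ⟨10501, 0, 2⟩) (.one ⟨16353, 0, 2⟩)) (.node 1 (.one ⟨7114, 0, 1⟩) (.one ⟨2358, 1, 0⟩))) (.node 2 (.node 1 (.one ⟨7748, 0, 1⟩) (.one ⟨4719, 1, 0⟩)) (.node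 1 (.one ⟨12497, 1, 1⟩) (.one ⟨2689, 1, 0⟩))))) (.node 8 (.node 4 (.node 2 (.node 1 (.one ⟨1804, 0, 0⟩) (.one ⟨344, 0, 2⟩)) (.node 1 (.one ⟨1765, 0, 3⟩) (.one ⟨2161, 1, 0⟩))) (.node 2 (.node 1 (.one ⟨5141, 1, 1⟩) (.one ⟨1106, 1, 1⟩)) (.node 1 (.one ⟨6909, 0, 3⟩) (.one ⟨16064, 1, 2⟩)))) (.node 4 (.node 2 (.node 1 (.one ⟨411, 1, 2⟩) (.one ⟨2975, 0, 1⟩)) (.node 1 (.one ⟨8238, 1, 1⟩) (.one ⟨15612, 0, 2⟩))) (.node 2 (.node 1 (.one ⟨837, 0, 3⟩) (.one ⟨10669, 1, 2⟩)) (.node 1 (.one ⟨1289, 1, 0⟩) (.one ⟨7946, 0, 3⟩)))))))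
def par5_4_6 : Arr Par :=
  (.node 32 (.node 16 (.node 8 (.node 4 (.node 2 (.node 1 (.one ⟨1760, 0, 3⟩) (.one ⟨9396, 0, 2⟩)) (.node 1 (.one ⟨16173, 0, 2⟩) (.one ⟨6192, 0, 3⟩))) (.node 2 (.node 1 (.one ⟨4489, 0, 2⟩) (.one ⟨12358, 0, 3⟩)) (.node 1 (.one ⟨14404, 0, 3⟩) (.one ⟨16160, 1, 1⟩)))) (.node 4 (.node 2 (.node 1 (.one ⟨961, 0, 2⟩) (.one ⟨6751, 1, 1⟩)) (.node 1 (.one ⟨15921, 0, 2⟩) (.one ⟨3434, 0, 2⟩))) (.node 2 (.node 1 (.one ⟨2937, 1, 0⟩) (.one ⟨4464, 1, 1⟩)) (.node 1 (.one ⟨4776, 0, 2⟩) (.one ⟨123, 0, 3⟩))))) (.node 8 (.node 4 (.node 2 (.node 1 (.one ⟨5993, 0, 1⟩) (.one ⟨5597, 0, 1⟩)) (.node 1 (.one ⟨1963, 0, 3⟩) (.one ⟨2899, 1, 0⟩))) (.node 2 (.node 1 (.one ⟨1763, 0, 3⟩) (.one ⟨2106, 0, 2⟩)) (.node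 1 (.one ⟨5716, 0, 3⟩) (.one ⟨14994, 1, 2⟩)))) (.node 4 (.node 2 (.node 1 (.one ⟨14509, 0, 1⟩) (.one ⟨14600, 0, 2⟩)) (.node 1 (.one ⟨2572, 1, 0⟩) (.one ⟨8043, 0, 2⟩))) (.node 2 (.node 1 (.one ⟨2041, 0, 2⟩) (.one ⟨699, 0, 2⟩)) (.node 1 (.one ⟨8181, 1, 2⟩) (.one ⟨1249, 1, 1⟩)))))) (.node 16 (.node 8 (.node 4 (.node 2 (.node 1 (.one ⟨4085, 0, 2⟩) (.one ⟨3839, 1, 0⟩)) (.node 1 (.one ⟨4823, 1, 1⟩) (.one ⟨3967, 0, 3⟩))) (.node 2 (.node 1 (.one ⟨1762, 0, 3⟩) (.one ⟨12498, 0, 2⟩)) (.node 1 (.one ⟨9969, 0, 3⟩) (.one ⟨4019, 1, 2⟩)))) (.node 4 (.node 2 (.node 1 (.one ⟨12067, 1, 2⟩) (.one ⟨1109, 1, 1⟩)) (.node 1 (.one ⟨10442, 0, 1⟩) (.one ⟨14034, 0, 2⟩))) (.node 2 (.node 1 (.one ⟨10443, 0, 1⟩) (.one ⟨4497, 1, 2⟩)) (.node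 1 (.one ⟨12374, 1, 2⟩) (.one ⟨1524, 0, 0⟩))))) (.node 8 (.node 4 (.node 2 (.node 1 (.one ⟨1670, 1, 0⟩) (.one ⟨6794, 1, 2⟩)) (.node 1 (.one ⟨14956, 0, 3⟩) (.one ⟨3330, 1, 0⟩))) (.node 2 (.node 1 (.one ⟨5017, 1, 0⟩) (.one ⟨16274, 0, 3⟩)) (.node 1 (.one ⟨10034, 0, 1⟩) (.one ⟨9572, 1, 2⟩)))) (.node 4 (.node 2 (.node 1 (.one ⟨9822, 0, 2⟩) (.one ⟨12682, 1, 2⟩)) (.node 1 (.one ⟨4035, 0, 1⟩) (.one ⟨1918, 1, 0⟩))) (.node 2 (.node 1 (.one ⟨2266, 1, 0⟩) (.one ⟨1079, 1, 0⟩)) (.node 1 (.one ⟨8830, 1, 2⟩) (.one ⟨6651, 0, 2⟩)))))))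
def par5_4_7 : Arr Par :=
  (.node 32 (.node 16 (.node 8 (.node 4 (.node 2 (.node 1 (.one ⟨15308, 0, 3⟩) (.one ⟨1127, 1, 1⟩)) (.node 1 (.one ⟨219, 1, 0⟩) (.one ⟨2775, 0, 0⟩))) (.node 2 (.node 1 (.one ⟨3370, 0, 1⟩) (.one ⟨5508, 1, 0⟩)) (.node 1 (.one ⟨218, 0, 0⟩) (.one ⟨14309, 0, 2⟩)))) (.node 4 (.node 2 (.node 1 (.one ⟨13629, 0, 3⟩) (.one ⟨2454, 0, 3⟩)) (.node 1 (.one ⟨13430, 1, 2⟩) (.one ⟨5395, 1, 2⟩))) (.node 2 (.node 1 (.one ⟨2244, 0, 2⟩) (.one ⟨9246, 1, 1⟩)) (.node 1 (.one ⟨14444, 0, 3⟩) (.one ⟨8, 0, 3⟩))))) (.node 8 (.node 4 (.node 2 (.node 1 (.one ⟨12850, 0, 3⟩) (.one ⟨13034, 0, 3⟩)) (.node 1 (.one ⟨2092, 0, 3⟩) (.one ⟨10144, 0, 1⟩))) (.node 2 (.node 1 (.one ⟨2252, 1, 0⟩) (.one ⟨4796, 0, 1⟩)) (.node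 1 (.one ⟨9139, 0, 2⟩) (.one ⟨8657, 1, 2⟩)))) (.node 4 (.node 2 (.node 1 (.one ⟨16597, 1, 2⟩) (.one ⟨2380, 1, 0⟩)) (.node 1 (.one ⟨1757, 1, 1⟩) (.one ⟨5283, 1, 0⟩))) (.node 2 (.node 1 (.one ⟨15475, 0, 2⟩) (.one ⟨8408, 0, 1⟩)) (.node 1 (.one ⟨15073, 0, 3⟩) (.one ⟨4591, 1, 1⟩)))))) (.node 16 (.node 8 (.node 4 (.node 2 (.node 1 (.one ⟨13573, 0, 3⟩) (.one ⟨16634, 0, 3⟩)) (.node 1 (.one ⟨4592, 1, 1⟩) (.one ⟨4443, 0, 3⟩))) (.node 2 (.node 1 (.one ⟨3210, 0, 3⟩) (.one ⟨6789, 0, 3⟩)) (.node 1 (.one ⟨2880, 1, 0⟩) (.one ⟨15544, 0, 1⟩)))) (.node 4 (.node 2 (.node 1 (.one ⟨547, 0, 1⟩) (.one ⟨2984, 1, 2⟩)) (.node 1 (.one ⟨9340, 1, 1⟩) (.one ⟨1528, 1, 0⟩))) (.node 2 (.node 1 (.one ⟨4423, 1, 0⟩) (.one ⟨11457, 0, 2⟩)) (.node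 1 (.one ⟨5711, 0, 1⟩) (.one ⟨2027, 1, 0⟩))))) (.node 8 (.node 4 (.node 2 (.node 1 (.one ⟨2342, 0, 0⟩) (.one ⟨4427, 0, 2⟩)) (.node 1 (.one ⟨4582, 1, 1⟩) (.one ⟨271, 1, 1⟩))) (.node 2 (.node 1 (.one ⟨6205, 0, 2⟩) (.one ⟨777, 1, 1⟩)) (.node 1 (.one ⟨1168, 1, 0⟩) (.one ⟨12967, 1, 2⟩)))) (.node 4 (.node 2 (.node 1 (.one ⟨16628, 1, 2⟩) (.one ⟨9335, 1, 1⟩)) (.node 1 (.one ⟨14198, 1, 2⟩) (.one ⟨11773, 1, 1⟩))) (.node 2 (.node 1 (.one ⟨15826, 1, 2⟩) (.one ⟨11133, 1, 1⟩)) (.node 1 (.one ⟨116, 0, 2⟩) (.one ⟨12088, 0, 3⟩)))))))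
def par5_4_8 : Arr Par :=
  (.node 32 (.node 16 (.node 8 (.node 4 (.node 2 (.node 1 (.one ⟨2808, 1, 0⟩) (.one ⟨16057, 0, 3⟩)) (.node 1 (.one ⟨9558, 0, 3⟩) (.one ⟨1659, 1, 0⟩))) (.node 2 (.node 1 (.one ⟨4499, 0, 0⟩) (.one ⟨2894, 1, 0⟩)) (.node 1 (.one ⟨16241, 0, 1⟩) (.one ⟨1516, 1, 0⟩)))) (.node 4 (.node 2 (.node 1 (.one ⟨10016, 0, 3⟩) (.one ⟨15113, 0, 2⟩)) (.node 1 (.one ⟨4654, 0, 1⟩) (.one ⟨16639, 1, 2⟩))) (.node 2 (.node 1 (.one ⟨12847, 1, 1⟩) (.one ⟨3639, 1, 2⟩)) (.node 1 (.one ⟨12914, 0, 2⟩) (.one ⟨1946, 1, 0⟩))))) (.node 8 (.node 4 (.node 2 (.node 1 (.one ⟨14888, 1, 2⟩) (.one ⟨8569, 1, 2⟩)) (.node 1 (.one ⟨7495, 1, 2⟩) (.one ⟨8891, 0, 3⟩))) (.node 2 (.node 1 (.one ⟨3942, 1, 2⟩) (.one ⟨10717, 1, 2⟩)) (.node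 1 (.one ⟨16757, 0, 3⟩) (.one ⟨15672, 0, 1⟩)))) (.node 4 (.node 2 (.node 1 (.one ⟨12650, 1, 2⟩) (.one ⟨4930, 0, 1⟩)) (.node 1 (.one ⟨7955, 0, 2⟩) (.one ⟨10609, 1, 1⟩))) (.node 2 (.node 1 (.one ⟨10027, 0, 3⟩) (.one ⟨238, 0, 2⟩)) (.node 1 (.one ⟨9242, 1, 1⟩) (.one ⟨4031, 0, 2⟩)))))) (.node 16 (.node 8 (.node 4 (.node 2 (.node 1 (.one ⟨9484, 0, 2⟩) (.one ⟨9317, 0, 2⟩)) (.node 1 (.one ⟨8584, 1, 1⟩) (.one ⟨5188, 1, 0⟩))) (.node 2 (.node 1 (.one ⟨4142, 1, 0⟩) (.one ⟨1534, 0, 2⟩)) (.node 1 (.one ⟨6716, 1, 1⟩) (.one ⟨14342, 1, 2⟩)))) (.node 4 (.node 2 (.node 1 (.one ⟨12922, 0, 2⟩) (.one ⟨13510, 0, 1⟩)) (.node 1 (.one ⟨15437, 0, 3⟩) (.one ⟨805, 1, 0⟩))) (.node 2 (.node 1 (.one ⟨16910, 1, 2⟩) (.one ⟨14285, 1, 2⟩)) (.node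 1 (.one ⟨2612, 1, 0⟩) (.one ⟨1135, 0, 1⟩))))) (.node 8 (.node 4 (.node 2 (.node 1 (.one ⟨8047, 0, 3⟩) (.one ⟨9407, 0, 1⟩)) (.node 1 (.one ⟨16145, 0, 3⟩) (.one ⟨8057, 0, 3⟩))) (.node 2 (.node 1 (.one ⟨38, 0, 2⟩) (.one ⟨16155, 0, 3⟩)) (.node 1 (.one ⟨9393, 0, 1⟩) (.one ⟨8503, 1, 1⟩)))) (.node 4 (.node 2 (.node 1 (.one ⟨4697, 1, 2⟩) (.one ⟨361, 1, 1⟩)) (.node 1 (.one ⟨142, 0, 0⟩) (.one ⟨4444, 1, 0⟩))) (.node 2 (.node 1 (.one ⟨6416, 1, 1⟩) (.one ⟨6139, 0, 1⟩)) (.node 1 (.one ⟨5522, 1, 1⟩) (.one ⟨8068, 0, 1⟩)))))))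
def par5_4_9 : Arr Par :=
  (.node 32 (.node 16 (.node 8 (.node 4 (.node 2 (.node 1 (.one ⟨8485, 1, 2⟩) (.one ⟨311, 0, 1⟩)) (.node 1 (.one ⟨10009, 1, 2⟩) (.one ⟨13422, 0, 1⟩))) (.node 2 (.node 1 (.one ⟨16553, 0, 1⟩) (.one ⟨15417, 0, 1⟩)) (.node 1 (.one ⟨11128, 0, 3⟩) (.one ⟨4008, 0, 3⟩)))) (.node 4 (.node 2 (.node 1 (.one ⟨7289, 1, 1⟩) (.one ⟨4258, 0, 0⟩)) (.node 1 (.one ⟨4337, 1, 1⟩) (.one ⟨5209, 0, 1⟩))) (.node 2 (.node 1 (.one ⟨1682, 1, 0⟩) (.one ⟨4172, 1, 2⟩)) (.node 1 (.one ⟨7778, 0, 3⟩) (.one ⟨11517, 0, 1⟩))))) (.node 8 (.node 4 (.node 2 (.node 1 (.one ⟨16875, 0, 2⟩) (.one ⟨15012, 0, 1⟩)) (.node 1 (.one ⟨12950, 0, 3⟩) (.one ⟨8070, 0, 1⟩))) (.node 2 (.node 1 (.one ⟨5431, 1, 2⟩) (.one ⟨16616, 1, 2⟩)) (.node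 1 (.one ⟨663, 1, 2⟩) (.one ⟨8975, 1, 2⟩)))) (.node 4 (.node 2 (.node 1 (.one ⟨2194, 0, 2⟩) (.one ⟨9896, 0, 1⟩)) (.node 1 (.one ⟨5450, 1, 1⟩) (.one ⟨321, 1, 1⟩))) (.node 2 (.node 1 (.one ⟨6603, 0, 1⟩) (.one ⟨3288, 0, 0⟩)) (.node 1 (.one ⟨2620, 0, 2⟩) (.one ⟨15724, 0, 3⟩)))))) (.node 16 (.node 8 (.node 4 (.node 2 (.node 1 (.one ⟨10657, 0, 2⟩) (.one ⟨15381, 1, 2⟩)) (.node 1 (.one ⟨11998, 0, 2⟩) (.one ⟨693, 0, 1⟩))) (.node 2 (.node 1 (.one ⟨15240, 1, 1⟩) (.one ⟨3713, 0, 1⟩)) (.node 1 (.one ⟨6230, 0, 1⟩) (.one ⟨13645, 1, 1⟩)))) (.node 4 (.node 2 (.node 1 (.one ⟨7096, 1, 1⟩) (.one ⟨9416, 0, 1⟩)) (.node 1 (.one ⟨11526, 0, 3⟩) (.one ⟨1170, 0, 1⟩))) (.node 2 (.node 1 (.one ⟨3485, 0, 3⟩) (.one ⟨11534, 0, 3⟩)) (.node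 1 (.one ⟨9402, 0, 1⟩) (.one ⟨6663, 0, 3⟩))))) (.node 8 (.node 4 (.node 2 (.node 1 (.one ⟨2057, 0, 2⟩) (.one ⟨17122, 0, 1⟩)) (.node 1 (.one ⟨9737, 1, 2⟩) (.one ⟨16355, 1, 2⟩))) (.node 2 (.node 1 (.one ⟨11123, 0, 3⟩) (.one ⟨8287, 0, 2⟩)) (.node 1 (.one ⟨5182, 0, 1⟩) (.one ⟨5558, 0, 2⟩)))) (.node 4 (.node 2 (.node 1 (.one ⟨1690, 1, 1⟩) (.one ⟨4613, 1, 1⟩)) (.node 1 (.one ⟨16414, 1, 2⟩) (.one ⟨11622, 0, 2⟩))) (.node 2 (.node 1 (.one ⟨12651, 0, 1⟩) (.one ⟨16458, 0, 3⟩)) (.node 1 (.one ⟨4750, 1, 2⟩) (.one ⟨14513, 0, 3⟩)))))))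
def par5_4_10 : Arr Par :=
  (.node 32 (.node 16 (.node 8 (.node 4 (.node 2 (.node 1 (.one ⟨17107, 0, 2⟩) (.one ⟨11161, 0, 3⟩)) (.node 1 (.one ⟨11867, 0, 3⟩) (.one ⟨14814, 0, 2⟩))) (.node 2 (.node 1 (.one ⟨4001, 1, 2⟩) (.one ⟨10326, 0, 1⟩)) (.node 1 (.one ⟨11304, 1, 2⟩) (.one ⟨4563, 1, 2⟩)))) (.node 4 (.node 2 (.node 1 (.one ⟨585, 0, 0⟩) (.one ⟨13320, 0, 2⟩)) (.node 1 (.one ⟨5893, 0, 2⟩) (.one ⟨1019, 1, 0⟩))) (.node 2 (.node 1 (.one ⟨16830, 0, 3⟩) (.one ⟨15091, 0, 2⟩)) (.node 1 (.one ⟨4464, 0, 1⟩) (.one ⟨1791, 1, 1⟩))))) (.node 8 (.node 4 (.node 2 (.node 1 (.one ⟨6753, 0, 2⟩) (.one ⟨7819, 0, 3⟩)) (.node 1 (.one ⟨16543, 0, 2⟩) (.one ⟨4858, 1, 2⟩))) (.node 2 (.node 1 (.one ⟨5345, 1, 1⟩) (.one ⟨6066, 1, 2⟩))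 (.node 1 (.one ⟨3869, 0, 2⟩) (.one ⟨14115, 0, 2⟩)))) (.node 4 (.node 2 (.node 1 (.one ⟨8845, 1, 1⟩) (.one ⟨15550, 0, 3⟩)) (.node 1 (.one ⟨5383, 0, 2⟩) (.one ⟨6126, 1, 2⟩))) (.node 2 (.node 1 (.one ⟨3232, 0, 1⟩) (.one ⟨15763, 0, 3⟩)) (.node 1 (.one ⟨13396, 1, 1⟩) (.one ⟨11163, 0, 3⟩)))))) (.node 16 (.node 8 (.node 4 (.node 2 (.node 1 (.one ⟨4815, 1, 1⟩) (.one ⟨14516, 0, 3⟩)) (.node 1 (.one ⟨7528, 0, 2⟩) (.one ⟨13233, 0, 3⟩))) (.node 2 (.node 1 (.one ⟨4141, 0, 2⟩) (.one ⟨10552, 1, 2⟩)) (.node 1 (.one ⟨8444, 0, 3⟩) (.one ⟨14605, 0, 2⟩)))) (.node 4 (.node 2 (.node 1 (.one ⟨14253, 1, 1⟩) (.one ⟨14257, 1, 2⟩)) (.node 1 (.one ⟨6765, 0, 2⟩) (.one ⟨9077, 0, 3⟩))) (.node 2 (.node 1 (.one ⟨11503, 0, 3⟩) (.one ⟨16900,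 1, 2⟩)) (.node 1 (.one ⟨395, 1, 0⟩) (.one ⟨4972, 1, 1⟩))))) (.node 8 (.node 4 (.node 2 (.node 1 (.one ⟨8687, 1, 1⟩) (.one ⟨557, 0, 0⟩)) (.node 1 (.one ⟨7267, 1, 1⟩) (.one ⟨2368, 1, 0⟩))) (.node 2 (.node 1 (.one ⟨1198, 1, 0⟩) (.one ⟨12590, 1, 2⟩)) (.node 1 (.one ⟨4426, 0, 3⟩) (.one ⟨6107, 0, 2⟩)))) (.node 4 (.node 2 (.node 1 (.one ⟨12354, 1, 2⟩) (.one ⟨9727, 1, 2⟩)) (.node 1 (.one ⟨2469, 1, 2⟩) (.one ⟨13165, 1, 2⟩))) (.node 2 (.node 1 (.one ⟨1438, 1, 0⟩) (.one ⟨1265, 1, 0⟩)) (.node 1 (.one ⟨10956, 1, 2⟩) (.one ⟨8719, 1, 1⟩)))))))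
def par5_4_11 : Arr Par :=
  (.node 32 (.node 16 (.node 8 (.node 4 (.node 2 (.node 1 (.one ⟨15208, 1, 1⟩) (.one ⟨1263, 0, 2⟩)) (.node 1 (.one ⟨11407, 1, 2⟩) (.one ⟨4431, 1, 1⟩))) (.node 2 (.node 1 (.one ⟨1234, 0, 3⟩) (.one ⟨1354, 0, 2⟩)) (.node 1 (.one ⟨3681, 0, 2⟩) (.one ⟨6338, 1, 2⟩)))) (.node 4 (.node 2 (.node 1 (.one ⟨309, 1, 0⟩) (.one ⟨13811, 1, 2⟩)) (.node 1 (.one ⟨10499, 1, 2⟩) (.one ⟨15832, 0, 1⟩))) (.node 2 (.node 1 (.one ⟨3614, 0, 0⟩) (.one ⟨1537, 0, 0⟩)) (.node 1 (.one ⟨1172, 1, 0⟩) (.one ⟨2038, 1, 0⟩))))) (.node 8 (.node 4 (.node 2 (.node 1 (.one ⟨16572, 0, 2⟩) (.one ⟨7784, 0, 1⟩)) (.node 1 (.one ⟨2628, 0, 1⟩) (.one ⟨14745, 0, 3⟩))) (.node 2 (.node 1 (.one ⟨12864, 1, 1⟩) (.one ⟨4136, 0, 2⟩)) (.node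 1 (.one ⟨3613, 1, 0⟩) (.one ⟨1870, 1, 0⟩)))) (.node 4 (.node 2 (.node 1 (.one ⟨6562, 0, 3⟩) (.one ⟨11678, 0, 2⟩)) (.node 1 (.one ⟨14201, 0, 1⟩) (.one ⟨2948, 0, 2⟩))) (.node 2 (.node 1 (.one ⟨977, 1, 0⟩) (.one ⟨11546, 0, 1⟩)) (.node 1 (.one ⟨17009, 0, 2⟩) (.one ⟨567, 0, 3⟩)))))) (.node 16 (.node 8 (.node 4 (.node 2 (.node 1 (.one ⟨2459, 0, 1⟩) (.one ⟨1112, 1, 0⟩)) (.node 1 (.one ⟨6083, 0, 1⟩) (.one ⟨17190, 0, 2⟩))) (.node 2 (.node 1 (.one ⟨16752, 0, 3⟩) (.one ⟨15012, 1, 1⟩)) (.node 1 (.one ⟨16553, 1, 1⟩) (.one ⟨17185, 0, 3⟩)))) (.node 4 (.node 2 (.node 1 (.one ⟨16715, 1, 1⟩) (.one ⟨13805, 0, 3⟩)) (.node 1 (.one ⟨16713, 1, 1⟩) (.one ⟨16711, 1, 1⟩))) (.node 2 (.node 1 (.one ⟨5528, 0, 3⟩) (.one ⟨11140, 0, 2⟩))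 (.node 1 (.one ⟨644, 0, 2⟩) (.one ⟨13475, 0, 2⟩))))) (.node 8 (.node 4 (.node 2 (.node 1 (.one ⟨14667, 0, 2⟩) (.one ⟨2565, 1, 0⟩)) (.node 1 (.one ⟨1788, 1, 0⟩) (.one ⟨2440, 0, 0⟩))) (.node 2 (.node 1 (.one ⟨2691, 1, 0⟩) (.one ⟨2255, 0, 2⟩)) (.node 1 (.one ⟨7884, 0, 3⟩) (.one ⟨9806, 1, 1⟩)))) (.node 4 (.node 2 (.node 1 (.one ⟨4531, 1, 0⟩) (.one ⟨14088, 0, 1⟩)) (.node 1 (.one ⟨8727, 0, 1⟩) (.one ⟨12165, 0, 1⟩))) (.node 2 (.node 1 (.one ⟨3229, 0, 2⟩) (.one ⟨8754, 0, 3⟩)) (.node 1 (.one ⟨14386, 0, 1⟩) (.one ⟨197, 1, 0⟩)))))))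
def par5_4_12 : Arr Par :=
  (.node 32 (.node 16 (.node 8 (.node 4 (.node 2 (.node 1 (.one ⟨1306, 1, 0⟩) (.one ⟨336, 0, 0⟩)) (.node 1 (.one ⟨15260, 1, 2⟩) (.one ⟨161, 1, 0⟩))) (.node 2 (.node 1 (.one ⟨15307, 0, 3⟩) (.one ⟨5207, 0, 0⟩)) (.node 1 (.one ⟨6620, 0, 2⟩) (.one ⟨13949, 0, 3⟩)))) (.node 4 (.node 2 (.node 1 (.one ⟨13099, 0, 3⟩) (.one ⟨16631, 0, 3⟩)) (.node 1 (.one ⟨9831, 0, 1⟩) (.one ⟨3542, 1, 0⟩))) (.node 2 (.node 1 (.one ⟨2855, 0, 3⟩) (.one ⟨6787, 0, 3⟩)) (.node 1 (.one ⟨16760, 1, 1⟩) (.one ⟨13376, 0, 1⟩))))) (.node 8 (.node 4 (.node 2 (.node 1 (.one ⟨11640, 0, 2⟩) (.one ⟨432, 1, 1⟩)) (.node 1 (.one ⟨3052, 1, 0⟩) (.one ⟨7579, 0, 1⟩))) (.node 2 (.node 1 (.one ⟨5902, 0, 1⟩) (.one ⟨16870, 0, 3⟩)) (.node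 1 (.one ⟨16067, 0, 2⟩) (.one ⟨4796, 1, 1⟩)))) (.node 4 (.node 2 (.node 1 (.one ⟨13358, 0, 3⟩) (.one ⟨4463, 0, 1⟩)) (.node 1 (.one ⟨4964, 1, 0⟩) (.one ⟨1061, 1, 0⟩))) (.node 2 (.node 1 (.one ⟨13937, 0, 2⟩) (.one ⟨7043, 0, 3⟩)) (.node 1 (.one ⟨1236, 1, 0⟩) (.one ⟨10230, 0, 1⟩)))))) (.node 16 (.node 8 (.node 4 (.node 2 (.node 1 (.one ⟨10227, 0, 2⟩) (.one ⟨14380, 0, 1⟩)) (.node 1 (.one ⟨4576, 1, 0⟩) (.one ⟨14377, 0, 1⟩))) (.node 2 (.node 1 (.one ⟨9811, 1, 1⟩) (.one ⟨10223, 0, 2⟩)) (.node 1 (.one ⟨4976, 1, 1⟩) (.one ⟨2882, 1, 0⟩)))) (.node 4 (.node 2 (.node 1 (.one ⟨1136, 1, 0⟩) (.one ⟨8129, 0, 2⟩)) (.node 1 (.one ⟨3539, 0, 3⟩) (.one ⟨6294, 0, 1⟩))) (.node 2 (.node 1 (.one ⟨3502, 1, 0⟩) (.one ⟨2362, 0, 2⟩)) (.node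 1 (.one ⟨8626, 1, 1⟩) (.one ⟨5614, 1, 2⟩))))) (.node 8 (.node 4 (.node 2 (.node 1 (.one ⟨1555, 1, 0⟩) (.one ⟨7031, 0, 1⟩)) (.node 1 (.one ⟨3025, 1, 0⟩) (.one ⟨1360, 1, 0⟩))) (.node 2 (.node 1 (.one ⟨11317, 0, 1⟩) (.one ⟨3161, 1, 0⟩)) (.node 1 (.one ⟨16362, 1, 2⟩) (.one ⟨12683, 0, 2⟩)))) (.node 4 (.node 2 (.node 1 (.one ⟨2364, 1, 2⟩) (.one ⟨9525, 0, 2⟩)) (.node 1 (.one ⟨2536, 1, 1⟩) (.one ⟨2727, 0, 0⟩))) (.node 2 (.node 1 (.one ⟨11835, 0, 2⟩) (.one ⟨5025, 0, 2⟩)) (.node 1 (.one ⟨11096, 0, 1⟩) (.one ⟨16199, 0, 2⟩)))))))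
def par5_4_13 : Arr Par :=
  (.node 32 (.node 16 (.node 8 (.node 4 (.node 2 (.node 1 (.one ⟨15453, 0, 1⟩) (.one ⟨317, 0, 1⟩)) (.node 1 (.one ⟨3291, 1, 0⟩) (.one ⟨14074, 1, 2⟩))) (.node 2 (.node 1 (.one ⟨6773, 0, 1⟩) (.one ⟨831, 1, 2⟩)) (.node 1 (.one ⟨13164, 0, 1⟩) (.one ⟨10290, 0, 2⟩)))) (.node 4 (.node 2 (.node 1 (.one ⟨10289, 0, 2⟩) (.one ⟨14220, 0, 2⟩)) (.node 1 (.one ⟨14221, 0, 2⟩) (.one ⟨10293, 0, 2⟩))) (.node 2 (.node 1 (.one ⟨1933, 1, 0⟩) (.one ⟨2421, 1, 0⟩)) (.node 1 (.one ⟨14215, 0, 2⟩) (.one ⟨4093, 0, 2⟩))))) (.node 8 (.node 4 (.node 2 (.node 1 (.one ⟨2116, 1, 1⟩) (.one ⟨12243, 0, 2⟩)) (.node 1 (.one ⟨10255, 0, 2⟩) (.one ⟨1138, 1, 0⟩))) (.node 2 (.node 1 (.one ⟨4779, 1, 0⟩) (.one ⟨11631, 0, 1⟩))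 (.node 1 (.one ⟨14071, 1, 2⟩) (.one ⟨16359, 0, 3⟩)))) (.node 4 (.node 2 (.node 1 (.one ⟨10089, 0, 3⟩) (.one ⟨3875, 1, 0⟩)) (.node 1 (.one ⟨9689, 0, 2⟩) (.one ⟨14547, 1, 2⟩))) (.node 2 (.node 1 (.one ⟨15814, 0, 1⟩) (.one ⟨10772, 0, 3⟩)) (.node 1 (.one ⟨15949, 0, 1⟩) (.one ⟨11070, 1, 1⟩)))))) (.node 16 (.node 8 (.node 4 (.node 2 (.node 1 (.one ⟨4564, 0, 1⟩) (.one ⟨10008, 1, 2⟩)) (.node 1 (.one ⟨7817, 1, 2⟩) (.one ⟨3544, 1, 2⟩))) (.node 2 (.node 1 (.one ⟨14063, 1, 1⟩) (.one ⟨9240, 0, 2⟩)) (.node 1 (.one ⟨12594, 0, 3⟩) (.one ⟨2762, 1, 0⟩)))) (.node 4 (.node 2 (.node 1 (.one ⟨7648, 0, 2⟩) (.one ⟨14278, 1, 2⟩)) (.node 1 (.one ⟨9350, 0, 2⟩) (.one ⟨11978, 0, 3⟩))) (.node 2 (.node 1 (.one ⟨1697, 1, 0⟩) (.one ⟨6307,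 0, 2⟩)) (.node 1 (.one ⟨2380, 1, 2⟩) (.one ⟨719, 0, 1⟩))))) (.node 8 (.node 4 (.node 2 (.node 1 (.one ⟨4641, 1, 0⟩) (.one ⟨2203, 1, 0⟩)) (.node 1 (.one ⟨10998, 0, 1⟩) (.one ⟨8499, 1, 1⟩))) (.node 2 (.node 1 (.one ⟨10952, 0, 2⟩) (.one ⟨1633, 0, 1⟩)) (.node 1 (.one ⟨3114, 1, 0⟩) (.one ⟨7755, 0, 1⟩)))) (.node 4 (.node 2 (.node 1 (.one ⟨2119, 0, 3⟩) (.one ⟨13919, 1, 2⟩)) (.node 1 (.one ⟨6321, 1, 1⟩) (.one ⟨2044, 1, 0⟩))) (.node 2 (.node 1 (.one ⟨4929, 1, 2⟩) (.one ⟨14159, 0, 2⟩)) (.node 1 (.one ⟨11669, 0, 2⟩) (.one ⟨1988, 1, 2⟩)))))))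
def par5_4_14 : Arr Par :=
  (.node 32 (.node 16 (.node 8 (.node 4 (.node 2 (.node 1 (.one ⟨5252, 1, 0⟩) (.one ⟨12876, 1, 2⟩)) (.node 1 (.one ⟨505, 0, 1⟩) (.one ⟨14572, 1, 1⟩))) (.node 2 (.node 1 (.one ⟨12899, 0, 2⟩) (.one ⟨8388, 0, 2⟩)) (.node 1 (.one ⟨6833, 0, 3⟩) (.one ⟨1399, 0, 1⟩)))) (.node 4 (.node 2 (.node 1 (.one ⟨6819, 1, 1⟩) (.one ⟨16608, 1, 1⟩)) (.node 1 (.one ⟨16120, 1, 2⟩) (.one ⟨582, 0, 1⟩))) (.node 2 (.node 1 (.one ⟨7620, 0, 1⟩) (.one ⟨1151, 1, 2⟩)) (.node 1 (.one ⟨9347, 0, 1⟩) (.one ⟨6699, 0, 2⟩))))) (.node 8 (.node 4 (.node 2 (.node 1 (.one ⟨8743, 1, 2⟩) (.one ⟨4223, 1, 0⟩)) (.node 1 (.one ⟨17174, 0, 2⟩) (.one ⟨14391, 1, 1⟩))) (.node 2 (.node 1 (.one ⟨16672, 0, 2⟩) (.one ⟨3851, 1, 0⟩)) (.node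 1 (.one ⟨496, 1, 0⟩) (.one ⟨14263, 1, 1⟩)))) (.node 4 (.node 2 (.node 1 (.one ⟨2557, 0, 1⟩) (.one ⟨12096, 0, 1⟩)) (.node 1 (.one ⟨9076, 1, 1⟩) (.one ⟨4422, 0, 1⟩))) (.node 2 (.node 1 (.one ⟨1398, 0, 2⟩) (.one ⟨11833, 0, 2⟩)) (.node 1 (.one ⟨10343, 0, 3⟩) (.one ⟨9358, 0, 2⟩)))))) (.node 16 (.node 8 (.node 4 (.node 2 (.node 1 (.one ⟨2420, 0, 1⟩) (.one ⟨8270, 1, 1⟩)) (.node 1 (.one ⟨13541, 0, 1⟩) (.one ⟨5834, 1, 1⟩))) (.node 2 (.node 1 (.one ⟨7179, 0, 3⟩) (.one ⟨583, 1, 0⟩)) (.node 1 (.one ⟨14838, 1, 1⟩) (.one ⟨4690, 1, 0⟩)))) (.node 4 (.node 2 (.node 1 (.one ⟨11707, 0, 3⟩) (.one ⟨15853, 0, 3⟩)) (.node 1 (.one ⟨14670, 0, 3⟩) (.one ⟨9420, 0, 2⟩))) (.node 2 (.node 1 (.one ⟨5809, 1, 2⟩) (.one ⟨16662, 0, 2⟩)) (.node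 1 (.one ⟨14039, 1, 1⟩) (.one ⟨17033, 1, 2⟩))))) (.node 8 (.node 4 (.node 2 (.node 1 (.one ⟨5067, 1, 1⟩) (.one ⟨1195, 1, 1⟩)) (.node 1 (.one ⟨10790, 0, 3⟩) (.one ⟨16937, 1, 1⟩))) (.node 2 (.node 1 (.one ⟨12482, 0, 1⟩) (.one ⟨2284, 0, 2⟩)) (.node 1 (.one ⟨13665, 1, 2⟩) (.one ⟨8218, 0, 3⟩)))) (.node 4 (.node 2 (.node 1 (.one ⟨10084, 0, 1⟩) (.one ⟨9066, 1, 2⟩)) (.node 1 (.one ⟨13362, 0, 1⟩) (.one ⟨327, 1, 1⟩))) (.node 2 (.node 1 (.one ⟨5220, 0, 3⟩) (.one ⟨6201, 1, 1⟩)) (.node 1 (.one ⟨395, 0, 3⟩) (.one ⟨12291, 0, 3⟩)))))))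
def par5_4_15 : Arr Par :=
  (.node 32 (.node 16 (.node 8 (.node 4 (.node 2 (.node 1 (.one ⟨12359, 0, 2⟩) (.one ⟨1293, 1, 1⟩)) (.node 1 (.one ⟨8271, 0, 1⟩) (.one ⟨3674, 1, 1⟩))) (.node 2 (.node 1 (.one ⟨468, 0, 1⟩) (.one ⟨13628, 0, 1⟩)) (.node 1 (.one ⟨7114, 1, 1⟩) (.one ⟨2095, 1, 2⟩)))) (.node 4 (.node 2 (.node 1 (.one ⟨4195, 1, 2⟩) (.one ⟨7119, 0, 3⟩)) (.node 1 (.one ⟨2750, 1, 0⟩) (.one ⟨4751, 1, 0⟩))) (.node 2 (.node 1 (.one ⟨2822, 1, 2⟩) (.one ⟨7500, 0, 1⟩)) (.node 1 (.one ⟨5508, 1, 1⟩) (.one ⟨1206, 0, 1⟩))))) (.node 8 (.node 4 (.node 2 (.node 1 (.one ⟨588, 0, 1⟩) (.one ⟨7895, 1, 2⟩)) (.node 1 (.one ⟨16397, 0, 1⟩) (.one ⟨8348, 0, 1⟩))) (.node 2 (.node 1 (.one ⟨8366, 0, 1⟩) (.one ⟨9493, 0, 2⟩)) (.node 1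 (.one ⟨9379, 0, 1⟩) (.one ⟨1191, 1, 1⟩)))) (.node 4 (.node 2 (.node 1 (.one ⟨12641, 0, 1⟩) (.one ⟨11323, 1, 1⟩)) (.node 1 (.one ⟨7781, 1, 2⟩) (.one ⟨8783, 0, 1⟩))) (.node 2 (.node 1 (.one ⟨609, 1, 0⟩) (.one ⟨9815, 0, 1⟩)) (.node 1 (.one ⟨13657, 1, 1⟩) (.one ⟨8028, 0, 1⟩)))))) (.node 16 (.node 8 (.node 4 (.node 2 (.node 1 (.one ⟨3819, 1, 2⟩) (.one ⟨1567, 1, 0⟩)) (.node 1 (.one ⟨1190, 1, 2⟩) (.one ⟨4665, 0, 2⟩))) (.node 2 (.node 1 (.one ⟨9160, 0, 2⟩) (.one ⟨5085, 1, 2⟩)) (.node 1 (.one ⟨4811, 1, 2⟩) (.one ⟨4411, 1, 0⟩)))) (.node 4 (.node 2 (.node 1 (.one ⟨9020, 1, 2⟩) (.one ⟨11757, 1, 1⟩)) (.node 1 (.one ⟨16267, 0, 3⟩) (.one ⟨1294, 1, 1⟩))) (.node 2 (.node 1 (.one ⟨3471, 1, 0⟩) (.one ⟨5654, 1, 1⟩)) (.node 1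 (.one ⟨15225, 1, 1⟩) (.one ⟨1391, 1, 1⟩))))) (.node 8 (.node 4 (.node 2 (.node 1 (.one ⟨2762, 0, 3⟩) (.one ⟨5397, 1, 0⟩)) (.node 1 (.one ⟨158, 1, 0⟩) (.one ⟨2969, 1, 0⟩))) (.node 2 (.node 1 (.one ⟨2407, 1, 0⟩) (.one ⟨9100, 1, 2⟩)) (.node 1 (.one ⟨10333, 0, 3⟩) (.one ⟨11045, 0, 1⟩)))) (.node 4 (.node 2 (.node 1 (.one ⟨10208, 0, 1⟩) (.one ⟨15122, 0, 3⟩)) (.node 1 (.one ⟨14001, 0, 2⟩) (.one ⟨4897, 1, 2⟩))) (.node 2 (.node 1 (.one ⟨7188, 1, 2⟩) (.one ⟨2776, 0, 2⟩)) (.node 1 (.one ⟨5128, 1, 2⟩) (.one ⟨2639, 1, 0⟩)))))))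
def par5_4 : Arr Par :=
  (.node 512 (.node 256 (.node 128 (.node 64 par5_4_0 par5_4_1) (.node 64 par5_4_2 par5_4_3)) (.node 128 (.node 64 par5_4_4 par5_4_5) (.node 64 par5_4_6 par5_4_7))) (.node 256 (.node 128 (.node 64 par5_4_8 par5_4_9) (.node 64 par5_4_10 par5_4_11)) (.node 128 (.node 64 par5_4_12 par5_4_13) (.node 64 par5_4_14 par5_4_15))))
def par5_5_0 : Arr Par :=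
  (.node 32 (.node 16 (.node 8 (.node 4 (.node 2 (.node 1 (.one ⟨6534, 0, 2⟩) (.one ⟨1396, 1, 1⟩)) (.node 1 (.one ⟨15816, 0, 3⟩) (.one ⟨12557, 0, 1⟩))) (.node 2 (.node 1 (.one ⟨11729, 1, 1⟩) (.one ⟨4874, 1, 0⟩)) (.node 1 (.one ⟨9110, 1, 1⟩) (.one ⟨3728, 1, 0⟩)))) (.node 4 (.node 2 (.node 1 (.one ⟨12521, 0, 1⟩) (.one ⟨12470, 0, 1⟩)) (.node 1 (.one ⟨12484, 0, 1⟩) (.one ⟨9186, 0, 2⟩))) (.node 2 (.node 1 (.one ⟨9296, 0, 2⟩) (.one ⟨9389, 0, 1⟩)) (.node 1 (.one ⟨9501, 0, 2⟩) (.one ⟨817, 1, 0⟩))))) (.node 8 (.node 4 (.node 2 (.node 1 (.one ⟨10973, 1, 2⟩) (.one ⟨3042, 1, 1⟩)) (.node 1 (.one ⟨15873, 0, 1⟩) (.one ⟨15876, 0, 1⟩))) (.node 2 (.node 1 (.one ⟨586, 0, 0⟩) (.one ⟨1675, 1, 0⟩)) (.node 1 (.one ⟨1381, 1, 1⟩)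 (.one ⟨16905, 1, 2⟩)))) (.node 4 (.node 2 (.node 1 (.one ⟨9098, 1, 1⟩) (.one ⟨2674, 1, 0⟩)) (.node 1 (.one ⟨1882, 1, 0⟩) (.one ⟨10026, 1, 2⟩))) (.node 2 (.node 1 (.one ⟨154, 1, 2⟩) (.one ⟨11227, 0, 2⟩)) (.node 1 (.one ⟨9120, 1, 1⟩) (.one ⟨16320, 0, 1⟩)))))) (.node 16 (.node 8 (.node 4 (.node 2 (.node 1 (.one ⟨6383, 0, 1⟩) (.one ⟨4111, 1, 1⟩)) (.node 1 (.one ⟨6060, 0, 2⟩) (.one ⟨13422, 1, 1⟩))) (.node 2 (.node 1 (.one ⟨5138, 1, 2⟩) (.one ⟨1382, 1, 1⟩)) (.node 1 (.one ⟨9923, 1, 2⟩) (.one ⟨10299, 0, 2⟩)))) (.node 4 (.node 2 (.node 1 (.one ⟨15979, 0, 3⟩) (.one ⟨5595, 0, 1⟩)) (.node 1 (.one ⟨4397, 0, 3⟩) (.one ⟨16391, 0, 1⟩))) (.node 2 (.node 1 (.one ⟨9176, 0, 2⟩) (.one ⟨1393, 1, 2⟩)) (.node 1 (.one ⟨6277, 0, 2⟩)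 (.one ⟨16941, 1, 2⟩))))) (.node 8 (.node 4 (.node 2 (.node 1 (.one ⟨17014, 0, 2⟩) (.one ⟨2152, 1, 1⟩)) (.node 1 (.one ⟨7081, 0, 1⟩) (.one ⟨12117, 1, 2⟩))) (.node 2 (.node 1 (.one ⟨2352, 0, 1⟩) (.one ⟨6941, 1, 2⟩)) (.node 1 (.one ⟨4614, 1, 0⟩) (.one ⟨1943, 1, 1⟩)))) (.node 4 (.node 2 (.node 1 (.one ⟨13089, 0, 2⟩) (.one ⟨9924, 0, 2⟩)) (.node 1 (.one ⟨6938, 0, 3⟩) (.one ⟨3004, 1, 1⟩))) (.node 2 (.node 1 (.one ⟨14660, 0, 2⟩) (.one ⟨7305, 1, 2⟩)) (.node 1 (.one ⟨2839, 1, 0⟩) (.one ⟨207, 1, 0⟩)))))))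
def par5_5_1 : Arr Par :=
  (.node 32 (.node 16 (.node 8 (.node 4 (.node 2 (.node 1 (.one ⟨4051, 1, 0⟩) (.one ⟨8843, 1, 1⟩)) (.node 1 (.one ⟨1293, 1, 0⟩) (.one ⟨13796, 1, 1⟩))) (.node 2 (.node 1 (.one ⟨9945, 0, 1⟩) (.one ⟨13437, 0, 3⟩)) (.node 1 (.one ⟨2405, 1, 0⟩) (.one ⟨15405, 1, 1⟩)))) (.node 4 (.node 2 (.node 1 (.one ⟨7863, 0, 2⟩) (.one ⟨13251, 1, 1⟩)) (.node 1 (.one ⟨15574, 1, 2⟩) (.one ⟨1929, 1, 1⟩))) (.node 2 (.node 1 (.one ⟨14616, 0, 1⟩) (.one ⟨8088, 1, 2⟩)) (.node 1 (.one ⟨399, 1, 2⟩) (.one ⟨8759, 0, 3⟩))))) (.node 8 (.node 4 (.node 2 (.node 1 (.one ⟨14706, 0, 3⟩) (.one ⟨12020, 0, 1⟩)) (.node 1 (.one ⟨7835, 1, 1⟩) (.one ⟨6016, 0, 2⟩))) (.node 2 (.node 1 (.one ⟨16346, 0, 3⟩) (.one ⟨4696, 1, 0⟩)) (.node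 1 (.one ⟨11199, 1, 1⟩) (.one ⟨16571, 0, 3⟩)))) (.node 4 (.node 2 (.node 1 (.one ⟨15936, 1, 2⟩) (.one ⟨2774, 1, 0⟩)) (.node 1 (.one ⟨8235, 0, 2⟩) (.one ⟨13872, 0, 2⟩))) (.node 2 (.node 1 (.one ⟨11309, 0, 3⟩) (.one ⟨4834, 1, 2⟩)) (.node 1 (.one ⟨5755, 1, 2⟩) (.one ⟨5557, 0, 2⟩)))))) (.node 16 (.node 8 (.node 4 (.node 2 (.node 1 (.one ⟨16334, 1, 2⟩) (.one ⟨3417, 1, 0⟩)) (.node 1 (.one ⟨3556, 0, 3⟩) (.one ⟨698, 1, 2⟩))) (.node 2 (.node 1 (.one ⟨3003, 1, 2⟩) (.one ⟨7026, 1, 2⟩)) (.node 1 (.one ⟨5626, 1, 2⟩) (.one ⟨5284, 0, 3⟩)))) (.node 4 (.node 2 (.node 1 (.one ⟨11705, 0, 3⟩) (.one ⟨15847, 0, 3⟩)) (.node 1 (.one ⟨9108, 0, 3⟩) (.one ⟨13376, 1, 1⟩))) (.node 2 (.node 1 (.one ⟨15190, 0, 3⟩) (.one ⟨11452, 0, 1⟩)) (.node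 1 (.one ⟨1688, 0, 3⟩) (.one ⟨319, 0, 0⟩))))) (.node 8 (.node 4 (.node 2 (.node 1 (.one ⟨5466, 0, 3⟩) (.one ⟨13774, 0, 2⟩)) (.node 1 (.one ⟨1587, 1, 0⟩) (.one ⟨3930, 0, 3⟩))) (.node 2 (.node 1 (.one ⟨2462, 1, 0⟩) (.one ⟨10672, 1, 2⟩)) (.node 1 (.one ⟨7269, 1, 2⟩) (.one ⟨14606, 0, 2⟩)))) (.node 4 (.node 2 (.node 1 (.one ⟨3964, 1, 0⟩) (.one ⟨11322, 1, 1⟩)) (.node 1 (.one ⟨6840, 1, 2⟩) (.one ⟨2917, 1, 0⟩))) (.node 2 (.node 1 (.one ⟨14825, 0, 2⟩) (.one ⟨2289, 1, 0⟩)) (.node 1 (.one ⟨3252, 1, 2⟩) (.one ⟨1907, 0, 0⟩)))))))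
def par5_5_2 : Arr Par :=
  (.node 32 (.node 16 (.node 8 (.node 4 (.node 2 (.node 1 (.one ⟨3256, 0, 0⟩) (.one ⟨8456, 0, 3⟩)) (.node 1 (.one ⟨8460, 0, 2⟩) (.one ⟨8458, 0, 3⟩))) (.node 2 (.node 1 (.one ⟨8462, 0, 3⟩) (.one ⟨8461, 0, 1⟩)) (.node 1 (.one ⟨8457, 0, 1⟩) (.one ⟨3449, 0, 2⟩)))) (.node 4 (.node 2 (.node 1 (.one ⟨5817, 0, 3⟩) (.one ⟨1413, 1, 0⟩)) (.node 1 (.one ⟨7670, 1, 1⟩) (.one ⟨7394, 0, 2⟩))) (.node 2 (.node 1 (.one ⟨2080, 0, 3⟩) (.one ⟨11451, 1, 2⟩)) (.node 1 (.one ⟨1817, 1, 1⟩) (.one ⟨5412, 1, 1⟩))))) (.node 8 (.node 4 (.node 2 (.node 1 (.one ⟨4221, 0, 1⟩) (.one ⟨6150, 0, 2⟩)) (.node 1 (.one ⟨2613, 0, 3⟩) (.one ⟨12163, 0, 3⟩))) (.node 2 (.node 1 (.one ⟨17162, 1, 2⟩) (.one ⟨10363, 0, 1⟩)) (.node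 1 (.one ⟨16241, 1, 1⟩) (.one ⟨13491, 1, 2⟩)))) (.node 4 (.node 2 (.node 1 (.one ⟨8070, 1, 1⟩) (.one ⟨15570, 1, 2⟩)) (.node 1 (.one ⟨1958, 1, 2⟩) (.one ⟨2825, 1, 2⟩))) (.node 2 (.node 1 (.one ⟨10909, 0, 1⟩) (.one ⟨8493, 1, 2⟩)) (.node 1 (.one ⟨15587, 0, 2⟩) (.one ⟨15679, 1, 2⟩)))))) (.node 16 (.node 8 (.node 4 (.node 2 (.node 1 (.one ⟨14208, 1, 1⟩) (.one ⟨2054, 1, 0⟩)) (.node 1 (.one ⟨5044, 1, 2⟩) (.one ⟨4890, 1, 1⟩))) (.node 2 (.node 1 (.one ⟨2901, 1, 2⟩) (.one ⟨14562, 1, 2⟩)) (.node 1 (.one ⟨1782, 0, 1⟩) (.one ⟨14438, 1, 1⟩)))) (.node 4 (.node 2 (.node 1 (.one ⟨3648, 0, 2⟩) (.one ⟨5818, 0, 2⟩)) (.node 1 (.one ⟨9729, 0, 2⟩) (.one ⟨13598, 0, 1⟩))) (.node 2 (.node 1 (.one ⟨9076, 0, 1⟩) (.one ⟨3300, 0, 1⟩)) (.node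 1 (.one ⟨1246, 0, 0⟩) (.one ⟨5751, 1, 1⟩))))) (.node 8 (.node 4 (.node 2 (.node 1 (.one ⟨708, 0, 2⟩) (.one ⟨9922, 1, 2⟩)) (.node 1 (.one ⟨14786, 0, 2⟩) (.one ⟨9114, 1, 2⟩))) (.node 2 (.node 1 (.one ⟨13498, 1, 2⟩) (.one ⟨1573, 0, 3⟩)) (.node 1 (.one ⟨2401, 0, 2⟩) (.one ⟨4449, 1, 1⟩)))) (.node 4 (.node 2 (.node 1 (.one ⟨3574, 1, 1⟩) (.one ⟨1533, 0, 2⟩)) (.node 1 (.one ⟨9255, 0, 2⟩) (.one ⟨11893, 0, 2⟩))) (.node 2 (.node 1 (.one ⟨2254, 1, 2⟩) (.one ⟨1487, 0, 2⟩)) (.node 1 (.one ⟨9318, 0, 2⟩) (.one ⟨4514, 1, 0⟩)))))))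
def par5_5_3 : Arr Par :=
  (.node 32 (.node 16 (.node 8 (.node 4 (.node 2 (.node 1 (.one ⟨10081, 0, 3⟩) (.one ⟨610, 1, 0⟩)) (.node 1 (.one ⟨16958, 0, 1⟩) (.one ⟨16982, 0, 2⟩))) (.node 2 (.node 1 (.one ⟨2482, 1, 2⟩) (.one ⟨10127, 0, 3⟩)) (.node 1 (.one ⟨1255, 1, 0⟩) (.one ⟨15021, 1, 2⟩)))) (.node 4 (.node 2 (.node 1 (.one ⟨13305, 0, 2⟩) (.one ⟨3320, 1, 0⟩)) (.node 1 (.one ⟨1008, 0, 3⟩) (.one ⟨14317, 1, 1⟩))) (.node 2 (.node 1 (.one ⟨14242, 0, 3⟩) (.one ⟨16184, 0, 3⟩)) (.node 1 (.one ⟨6272, 1, 1⟩) (.one ⟨1659, 0, 2⟩))))) (.node 8 (.node 4 (.node 2 (.node 1 (.one ⟨968, 1, 0⟩) (.one ⟨10100, 0, 1⟩)) (.node 1 (.one ⟨330, 1, 0⟩) (.one ⟨10166, 0, 1⟩))) (.node 2 (.node 1 (.one ⟨3027, 1, 1⟩) (.one ⟨972, 0, 1⟩)) (.node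 1 (.one ⟨2082, 0, 2⟩) (.one ⟨3831, 0, 1⟩)))) (.node 4 (.node 2 (.node 1 (.one ⟨5508, 0, 1⟩) (.one ⟨12255, 0, 1⟩)) (.node 1 (.one ⟨2290, 1, 2⟩) (.one ⟨1629, 1, 0⟩))) (.node 2 (.node 1 (.one ⟨11469, 0, 1⟩) (.one ⟨2526, 0, 1⟩)) (.node 1 (.one ⟨2899, 0, 3⟩) (.one ⟨15735, 1, 2⟩)))))) (.node 16 (.node 8 (.node 4 (.node 2 (.node 1 (.one ⟨14867, 0, 1⟩) (.one ⟨1250, 0, 0⟩)) (.node 1 (.one ⟨189, 0, 1⟩) (.one ⟨11642, 0, 2⟩))) (.node 2 (.node 1 (.one ⟨6873, 0, 3⟩) (.one ⟨3762, 1, 0⟩)) (.node 1 (.one ⟨10099, 0, 2⟩) (.one ⟨16532, 0, 2⟩)))) (.node 4 (.node 2 (.node 1 (.one ⟨12436, 0, 2⟩) (.one ⟨7492, 0, 2⟩)) (.node 1 (.one ⟨860, 0, 2⟩) (.one ⟨6375, 0, 3⟩))) (.node 2 (.node 1 (.one ⟨13363, 1, 1⟩) (.one ⟨16119, 0, 1⟩)) (.node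 1 (.one ⟨13282, 0, 3⟩) (.one ⟨214, 0, 0⟩))))) (.node 8 (.node 4 (.node 2 (.node 1 (.one ⟨174, 1, 0⟩) (.one ⟨5440, 1, 0⟩)) (.node 1 (.one ⟨187, 0, 0⟩) (.one ⟨15225, 0, 1⟩))) (.node 2 (.node 1 (.one ⟨5218, 1, 0⟩) (.one ⟨15305, 0, 2⟩)) (.node 1 (.one ⟨6650, 0, 3⟩) (.one ⟨2356, 0, 3⟩)))) (.node 4 (.node 2 (.node 1 (.one ⟨220, 0, 0⟩) (.one ⟨4414, 1, 2⟩)) (.node 1 (.one ⟨623, 1, 0⟩) (.one ⟨4994, 1, 2⟩))) (.node 2 (.node 1 (.one ⟨1771, 1, 0⟩) (.one ⟨15350, 0, 2⟩)) (.node 1 (.one ⟨11527, 0, 1⟩) (.one ⟨574, 1, 1⟩)))))))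
def par5_5_4 : Arr Par :=
  (.node 32 (.node 16 (.node 8 (.node 4 (.node 2 (.node 1 (.one ⟨952, 1, 1⟩) (.one ⟨1952, 0, 3⟩)) (.node 1 (.one ⟨1757, 0, 1⟩) (.one ⟨12466, 0, 1⟩))) (.node 2 (.node 1 (.one ⟨2699, 0, 0⟩) (.one ⟨774, 1, 1⟩)) (.node 1 (.one ⟨166, 1, 1⟩) (.one ⟨4898, 1, 1⟩)))) (.node 4 (.node 2 (.node 1 (.one ⟨5206, 0, 2⟩) (.one ⟨847, 0, 2⟩)) (.node 1 (.one ⟨2453, 0, 2⟩) (.one ⟨10425, 0, 2⟩))) (.node 2 (.node 1 (.one ⟨16888, 1, 1⟩) (.one ⟨13309, 0, 2⟩)) (.node 1 (.one ⟨12795, 0, 3⟩) (.one ⟨9237, 0, 1⟩))))) (.node 8 (.node 4 (.node 2 (.node 1 (.one ⟨7594, 0, 1⟩) (.one ⟨589, 1, 0⟩)) (.node 1 (.one ⟨1109, 0, 1⟩) (.one ⟨9523, 0, 1⟩))) (.node 2 (.node 1 (.one ⟨7560, 0, 1⟩) (.one ⟨3217, 1, 0⟩)) (.node 1 (.one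 ⟨1396, 0, 1⟩) (.one ⟨7774, 0, 1⟩)))) (.node 4 (.node 2 (.node 1 (.one ⟨4463, 1, 1⟩) (.one ⟨4651, 0, 1⟩)) (.node 1 (.one ⟨8946, 0, 2⟩) (.one ⟨13767, 1, 2⟩))) (.node 2 (.node 1 (.one ⟨5186, 1, 1⟩) (.one ⟨10045, 0, 2⟩)) (.node 1 (.one ⟨14638, 0, 3⟩) (.one ⟨9110, 0, 1⟩)))))) (.node 16 (.node 8 (.node 4 (.node 2 (.node 1 (.one ⟨185, 1, 0⟩) (.one ⟨14732, 1, 1⟩)) (.node 1 (.one ⟨3184, 1, 0⟩) (.one ⟨15497, 0, 3⟩))) (.node 2 (.node 1 (.one ⟨478, 1, 0⟩) (.one ⟨7469, 1, 1⟩)) (.node 1 (.one ⟨2490, 0, 2⟩) (.one ⟨10275, 0, 2⟩)))) (.node 4 (.node 2 (.node 1 (.one ⟨10583, 1, 1⟩) (.one ⟨1005, 0, 2⟩)) (.node 1 (.one ⟨416, 1, 1⟩) (.one ⟨16036, 0, 3⟩))) (.node 2 (.node 1 (.one ⟨9984, 1, 1⟩) (.one ⟨7740, 0, 3⟩)) (.node 1 (.one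 ⟨1569, 0, 2⟩) (.one ⟨16059, 1, 2⟩))))) (.node 8 (.node 4 (.node 2 (.node 1 (.one ⟨1590, 1, 2⟩) (.one ⟨8604, 0, 2⟩)) (.node 1 (.one ⟨5510, 1, 2⟩) (.one ⟨8606, 0, 2⟩))) (.node 2 (.node 1 (.one ⟨13502, 1, 2⟩) (.one ⟨8075, 1, 2⟩)) (.node 1 (.one ⟨9312, 1, 1⟩) (.one ⟨5986, 0, 1⟩)))) (.node 4 (.node 2 (.node 1 (.one ⟨602, 0, 1⟩) (.one ⟨1560, 0, 2⟩)) (.node 1 (.one ⟨6003, 0, 1⟩) (.one ⟨14005, 0, 1⟩))) (.node 2 (.node 1 (.one ⟨9306, 0, 2⟩) (.one ⟨9380, 0, 2⟩)) (.node 1 (.one ⟨14113, 0, 1⟩) (.one ⟨9717, 1, 2⟩)))))))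
def par5_5_5 : Arr Par :=
  (.node 32 (.node 16 (.node 8 (.node 4 (.node 2 (.node 1 (.one ⟨8476, 0, 1⟩) (.one ⟨15628, 0, 3⟩)) (.node 1 (.one ⟨2515, 1, 0⟩) (.one ⟨3428, 1, 0⟩))) (.node 2 (.node 1 (.one ⟨9311, 1, 1⟩) (.one ⟨5408, 1, 0⟩)) (.node 1 (.one ⟨4455, 0, 2⟩) (.one ⟨11387, 1, 1⟩)))) (.node 4 (.node 2 (.node 1 (.one ⟨3966, 0, 2⟩) (.one ⟨8237, 0, 2⟩)) (.node 1 (.one ⟨3136, 1, 0⟩) (.one ⟨10178, 0, 1⟩))) (.node 2 (.node 1 (.one ⟨3408, 1, 0⟩) (.one ⟨16993, 0, 1⟩)) (.node 1 (.one ⟨14122, 0, 1⟩) (.one ⟨13414, 0, 3⟩))))) (.node 8 (.node 4 (.node 2 (.node 1 (.one ⟨7636, 1, 2⟩) (.one ⟨16958, 1, 1⟩)) (.node 1 (.one ⟨550, 1, 0⟩) (.one ⟨14647, 0, 2⟩))) (.node 2 (.node 1 (.one ⟨12515, 0, 3⟩) (.one ⟨3742, 1, 0⟩)) (.node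 1 (.one ⟨16276, 0, 2⟩) (.one ⟨8780, 0, 1⟩)))) (.node 4 (.node 2 (.node 1 (.one ⟨14390, 1, 1⟩) (.one ⟨12367, 1, 2⟩)) (.node 1 (.one ⟨10900, 1, 2⟩) (.one ⟨13523, 1, 2⟩))) (.node 2 (.node 1 (.one ⟨9315, 1, 1⟩) (.one ⟨11719, 0, 1⟩)) (.node 1 (.one ⟨11566, 0, 2⟩) (.one ⟨6639, 1, 2⟩)))))) (.node 16 (.node 8 (.node 4 (.node 2 (.node 1 (.one ⟨475, 1, 1⟩) (.one ⟨3000, 1, 0⟩)) (.node 1 (.one ⟨14721, 1, 2⟩) (.one ⟨12138, 1, 2⟩))) (.node 2 (.node 1 (.one ⟨16968, 1, 2⟩) (.one ⟨3624, 1, 0⟩)) (.node 1 (.one ⟨8987, 0, 3⟩) (.one ⟨15226, 0, 2⟩)))) (.node 4 (.node 2 (.node 1 (.one ⟨141, 1, 0⟩) (.one ⟨13538, 1, 2⟩)) (.node 1 (.one ⟨210, 0, 0⟩) (.one ⟨9316, 1, 1⟩))) (.node 2 (.node 1 (.one ⟨10893, 0, 3⟩) (.one ⟨286, 0, 0⟩)) (.node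 1 (.one ⟨3315, 1, 0⟩) (.one ⟨161, 1, 1⟩))))) (.node 8 (.node 4 (.node 2 (.node 1 (.one ⟨3131, 0, 2⟩) (.one ⟨9045, 0, 1⟩)) (.node 1 (.one ⟨5577, 0, 2⟩) (.one ⟨13443, 0, 3⟩))) (.node 2 (.node 1 (.one ⟨9680, 0, 3⟩) (.one ⟨4754, 1, 0⟩)) (.node 1 (.one ⟨15293, 0, 2⟩) (.one ⟨4414, 0, 0⟩)))) (.node 4 (.node 2 (.node 1 (.one ⟨197, 0, 1⟩) (.one ⟨11765, 0, 2⟩)) (.node 1 (.one ⟨275, 1, 0⟩) (.one ⟨4625, 0, 3⟩))) (.node 2 (.node 1 (.one ⟨3835, 1, 1⟩) (.one ⟨12843, 0, 3⟩)) (.node 1 (.one ⟨11043, 0, 3⟩) (.one ⟨12285, 0, 2⟩)))))))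
def par5_5_6 : Arr Par :=
  (.node 32 (.node 16 (.node 8 (.node 4 (.node 2 (.node 1 (.one ⟨10243, 0, 2⟩) (.one ⟨15531, 0, 2⟩)) (.node 1 (.one ⟨958, 1, 0⟩) (.one ⟨3032, 0, 3⟩))) (.node 2 (.node 1 (.one ⟨2301, 1, 0⟩) (.one ⟨9434, 1, 1⟩)) (.node 1 (.one ⟨6329, 0, 1⟩) (.one ⟨16451, 0, 3⟩)))) (.node 4 (.node 2 (.node 1 (.one ⟨930, 0, 1⟩) (.one ⟨11469, 1, 1⟩)) (.node 1 (.one ⟨4692, 1, 0⟩) (.one ⟨1759, 1, 0⟩))) (.node 2 (.node 1 (.one ⟨2087, 1, 0⟩) (.one ⟨12831, 1, 2⟩)) (.node 1 (.one ⟨9136, 0, 2⟩) (.one ⟨13947, 0, 2⟩))))) (.node 8 (.node 4 (.node 2 (.node 1 (.one ⟨1298, 1, 0⟩) (.one ⟨3405, 1, 0⟩)) (.node 1 (.one ⟨2350, 1, 0⟩) (.one ⟨15629, 0, 3⟩))) (.node 2 (.node 1 (.one ⟨11393, 0, 2⟩) (.one ⟨14205, 0, 2⟩)) (.node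 1 (.one ⟨9553, 0, 3⟩) (.one ⟨13585, 1, 2⟩)))) (.node 4 (.node 2 (.node 1 (.one ⟨14106, 1, 2⟩) (.one ⟨13836, 1, 2⟩)) (.node 1 (.one ⟨13166, 1, 1⟩) (.one ⟨10259, 1, 2⟩))) (.node 2 (.node 1 (.one ⟨3847, 0, 2⟩) (.one ⟨6082, 0, 2⟩)) (.node 1 (.one ⟨9433, 1, 1⟩) (.one ⟨1211, 0, 1⟩)))))) (.node 16 (.node 8 (.node 4 (.node 2 (.node 1 (.one ⟨1982, 0, 1⟩) (.one ⟨8321, 1, 2⟩)) (.node 1 (.one ⟨1554, 0, 1⟩) (.one ⟨9183, 0, 2⟩))) (.node 2 (.node 1 (.one ⟨10094, 0, 1⟩) (.one ⟨11949, 1, 1⟩)) (.node 1 (.one ⟨9390, 0, 2⟩) (.one ⟨10597, 0, 1⟩)))) (.node 4 (.node 2 (.node 1 (.one ⟨13411, 0, 1⟩) (.one ⟨143, 1, 2⟩)) (.node 1 (.one ⟨614, 1, 1⟩) (.one ⟨727, 0, 1⟩))) (.node 2 (.node 1 (.one ⟨4532, 0, 1⟩) (.one ⟨910, 1, 1⟩)) (.node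 1 (.one ⟨9006, 0, 3⟩) (.one ⟨5001, 1, 0⟩))))) (.node 8 (.node 4 (.node 2 (.node 1 (.one ⟨5681, 1, 1⟩) (.one ⟨3279, 0, 0⟩)) (.node 1 (.one ⟨5946, 1, 1⟩) (.one ⟨3199, 0, 1⟩))) (.node 2 (.node 1 (.one ⟨13679, 1, 1⟩) (.one ⟨9906, 1, 1⟩)) (.node 1 (.one ⟨14132, 1, 1⟩) (.one ⟨6131, 0, 2⟩)))) (.node 4 (.node 2 (.node 1 (.one ⟨11554, 0, 1⟩) (.one ⟨3281, 1, 0⟩)) (.node 1 (.one ⟨5401, 1, 2⟩) (.one ⟨2274, 1, 0⟩))) (.node 2 (.node 1 (.one ⟨6964, 1, 2⟩) (.one ⟨1086, 1, 0⟩)) (.node 1 (.one ⟨3554, 0, 3⟩) (.one ⟨7749, 0, 3⟩)))))))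
def par5_5_7 : Arr Par :=
  (.node 32 (.node 16 (.node 8 (.node 4 (.node 2 (.node 1 (.one ⟨14879, 0, 3⟩) (.one ⟨1896, 0, 3⟩)) (.node 1 (.one ⟨12989, 0, 3⟩) (.one ⟨15474, 0, 3⟩))) (.node 2 (.node 1 (.one ⟨8229, 0, 3⟩) (.one ⟨5937, 1, 1⟩)) (.node 1 (.one ⟨4042, 1, 0⟩) (.one ⟨12428, 0, 2⟩)))) (.node 4 (.node 2 (.node 1 (.one ⟨2656, 1, 1⟩) (.one ⟨10509, 1, 1⟩)) (.node 1 (.one ⟨14878, 0, 2⟩) (.one ⟨14061, 1, 1⟩))) (.node 2 (.node 1 (.one ⟨2579, 1, 1⟩) (.one ⟨6879, 0, 3⟩)) (.node 1 (.one ⟨13212, 0, 2⟩) (.one ⟨8518, 1, 1⟩))))) (.node 8 (.node 4 (.node 2 (.node 1 (.one ⟨3095, 1, 1⟩) (.one ⟨7849, 1, 1⟩)) (.node 1 (.one ⟨1087, 1, 1⟩) (.one ⟨15074, 1, 1⟩))) (.node 2 (.node 1 (.one ⟨2733, 0, 1⟩) (.one ⟨13618, 1, 1⟩))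 (.node 1 (.one ⟨2731, 0, 3⟩) (.one ⟨11507, 0, 2⟩)))) (.node 4 (.node 2 (.node 1 (.one ⟨2297, 1, 1⟩) (.one ⟨10382, 0, 3⟩)) (.node 1 (.one ⟨6311, 1, 1⟩) (.one ⟨676, 1, 0⟩))) (.node 2 (.node 1 (.one ⟨9881, 1, 1⟩) (.one ⟨1514, 1, 0⟩)) (.node 1 (.one ⟨13776, 1, 1⟩) (.one ⟨9442, 0, 1⟩)))))) (.node 16 (.node 8 (.node 4 (.node 2 (.node 1 (.one ⟨1191, 0, 1⟩) (.one ⟨9171, 0, 1⟩)) (.node 1 (.one ⟨1436, 0, 1⟩) (.one ⟨8704, 0, 1⟩))) (.node 2 (.node 1 (.one ⟨3725, 1, 0⟩) (.one ⟨1807, 1, 1⟩)) (.node 1 (.one ⟨10728, 1, 2⟩) (.one ⟨1123, 0, 1⟩)))) (.node 4 (.node 2 (.node 1 (.one ⟨11223, 0, 2⟩) (.one ⟨11256, 0, 2⟩)) (.node 1 (.one ⟨11366, 1, 1⟩) (.one ⟨1897, 1, 0⟩))) (.node 2 (.node 1 (.one ⟨10075, 0, 1⟩) (.one ⟨10256, 0, 2⟩))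 (.node 1 (.one ⟨3457, 0, 1⟩) (.one ⟨1623, 1, 0⟩))))) (.node 8 (.node 4 (.node 2 (.node 1 (.one ⟨830, 1, 0⟩) (.one ⟨6506, 1, 2⟩)) (.node 1 (.one ⟨9921, 1, 2⟩) (.one ⟨1203, 1, 0⟩))) (.node 2 (.node 1 (.one ⟨2314, 1, 0⟩) (.one ⟨7095, 0, 3⟩)) (.node 1 (.one ⟨7932, 1, 2⟩) (.one ⟨391, 0, 3⟩)))) (.node 4 (.node 2 (.node 1 (.one ⟨16150, 0, 3⟩) (.one ⟨12570, 0, 1⟩)) (.node 1 (.one ⟨6213, 0, 1⟩) (.one ⟨16823, 1, 2⟩))) (.node 2 (.node 1 (.one ⟨10578, 0, 2⟩) (.one ⟨9839, 1, 2⟩)) (.node 1 (.one ⟨14087, 1, 1⟩) (.one ⟨13583, 0, 2⟩)))))))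
def par5_5_8 : Arr Par :=
  (.node 32 (.node 16 (.node 8 (.node 4 (.node 2 (.node 1 (.one ⟨13134, 1, 1⟩) (.one ⟨5394, 1, 2⟩)) (.node 1 (.one ⟨8878, 1, 1⟩) (.one ⟨5848, 1, 1⟩))) (.node 2 (.node 1 (.one ⟨17110, 0, 2⟩) (.one ⟨16818, 0, 3⟩)) (.node 1 (.one ⟨14188, 1, 2⟩) (.one ⟨11032, 1, 2⟩)))) (.node 4 (.node 2 (.node 1 (.one ⟨7145, 0, 3⟩) (.one ⟨6900, 1, 2⟩)) (.node 1 (.one ⟨4718, 1, 2⟩) (.one ⟨1161, 1, 2⟩))) (.node 2 (.node 1 (.one ⟨7919, 1, 2⟩) (.one ⟨13694, 1, 2⟩)) (.node 1 (.one ⟨11740, 1, 2⟩) (.one ⟨9125, 1, 2⟩))))) (.node 8 (.node 4 (.node 2 (.node 1 (.one ⟨16904, 1, 2⟩) (.one ⟨341, 1, 0⟩)) (.node 1 (.one ⟨992, 1, 0⟩) (.one ⟨11415, 0, 2⟩))) (.node 2 (.node 1 (.one ⟨15257, 0, 3⟩) (.one ⟨3305, 0, 3⟩)) (.node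 1 (.one ⟨2197, 1, 0⟩) (.one ⟨16187, 1, 2⟩)))) (.node 4 (.node 2 (.node 1 (.one ⟨4113, 1, 1⟩) (.one ⟨15373, 1, 2⟩)) (.node 1 (.one ⟨3136, 1, 1⟩) (.one ⟨4999, 1, 2⟩))) (.node 2 (.node 1 (.one ⟨16630, 1, 2⟩) (.one ⟨2081, 1, 1⟩)) (.node 1 (.one ⟨7942, 0, 3⟩) (.one ⟨11238, 1, 1⟩)))))) (.node 16 (.node 8 (.node 4 (.node 2 (.node 1 (.one ⟨972, 1, 0⟩) (.one ⟨12113, 0, 1⟩)) (.node 1 (.one ⟨6815, 1, 2⟩) (.one ⟨13608, 0, 1⟩))) (.node 2 (.node 1 (.one ⟨10892, 1, 2⟩) (.one ⟨13591, 0, 1⟩)) (.node 1 (.one ⟨1186, 0, 2⟩) (.one ⟨12718, 0, 3⟩)))) (.node 4 (.node 2 (.node 1 (.one ⟨13517, 0, 1⟩) (.one ⟨10699, 0, 1⟩)) (.node 1 (.one ⟨778, 1, 0⟩) (.one ⟨4851, 0, 1⟩))) (.node 2 (.node 1 (.one ⟨5372, 0, 1⟩) (.one ⟨675, 1, 2⟩)) (.node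 1 (.one ⟨1779, 0, 3⟩) (.one ⟨1906, 1, 0⟩))))) (.node 8 (.node 4 (.node 2 (.node 1 (.one ⟨299, 1, 0⟩) (.one ⟨577, 1, 0⟩)) (.node 1 (.one ⟨7, 1, 1⟩) (.one ⟨5647, 0, 3⟩))) (.node 2 (.node 1 (.one ⟨1265, 1, 1⟩) (.one ⟨1737, 1, 1⟩)) (.node 1 (.one ⟨14143, 0, 2⟩) (.one ⟨1196, 0, 1⟩)))) (.node 4 (.node 2 (.node 1 (.one ⟨14603, 1, 2⟩) (.one ⟨2042, 1, 2⟩)) (.node 1 (.one ⟨1431, 0, 1⟩) (.one ⟨12353, 1, 2⟩))) (.node 2 (.node 1 (.one ⟨9327, 0, 1⟩) (.one ⟨9606, 0, 1⟩)) (.node 1 (.one ⟨7164, 0, 1⟩) (.one ⟨843, 0, 3⟩)))))))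
def par5_5_9 : Arr Par :=
  (.node 32 (.node 16 (.node 8 (.node 4 (.node 2 (.node 1 (.one ⟨4347, 1, 0⟩) (.one ⟨12109, 1, 2⟩)) (.node 1 (.one ⟨1734, 1, 0⟩) (.one ⟨1469, 1, 0⟩))) (.node 2 (.node 1 (.one ⟨14542, 0, 1⟩) (.one ⟨3252, 1, 0⟩)) (.node 1 (.one ⟨8349, 1, 2⟩) (.one ⟨3146, 0, 2⟩)))) (.node 4 (.node 2 (.node 1 (.one ⟨9138, 1, 1⟩) (.one ⟨3176, 0, 1⟩)) (.node 1 (.one ⟨8278, 0, 3⟩) (.one ⟨8553, 0, 1⟩))) (.node 2 (.node 1 (.one ⟨640, 1, 0⟩) (.one ⟨8615, 0, 2⟩)) (.node 1 (.one ⟨1318, 0, 2⟩) (.one ⟨1770, 1, 0⟩))))) (.node 8 (.node 4 (.node 2 (.node 1 (.one ⟨3502, 0, 1⟩) (.one ⟨5116, 0, 3⟩)) (.node 1 (.one ⟨10410, 1, 2⟩) (.one ⟨2075, 0, 0⟩))) (.node 2 (.node 1 (.one ⟨11697, 1, 2⟩) (.one ⟨4021, 1, 2⟩)) (.node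 1 (.one ⟨3492, 1, 0⟩) (.one ⟨1606, 0, 3⟩)))) (.node 4 (.node 2 (.node 1 (.one ⟨3230, 1, 0⟩) (.one ⟨14128, 1, 2⟩)) (.node 1 (.one ⟨6611, 0, 2⟩) (.one ⟨2072, 0, 3⟩))) (.node 2 (.node 1 (.one ⟨14731, 0, 3⟩) (.one ⟨9542, 0, 1⟩)) (.node 1 (.one ⟨7049, 0, 1⟩) (.one ⟨14343, 0, 1⟩)))))) (.node 16 (.node 8 (.node 4 (.node 2 (.node 1 (.one ⟨13763, 1, 2⟩) (.one ⟨10664, 0, 3⟩)) (.node 1 (.one ⟨9244, 0, 2⟩) (.one ⟨7659, 1, 2⟩))) (.node 2 (.node 1 (.one ⟨2545, 0, 2⟩) (.one ⟨5998, 0, 1⟩)) (.node 1 (.one ⟨6290, 0, 3⟩) (.one ⟨9393, 1, 1⟩)))) (.node 4 (.node 2 (.node 1 (.one ⟨9345, 0, 2⟩) (.one ⟨15616, 0, 2⟩)) (.node 1 (.one ⟨406, 1, 0⟩) (.one ⟨8375, 0, 2⟩))) (.node 2 (.node 1 (.one ⟨4496, 1, 2⟩) (.one ⟨10035, 1, 1⟩)) (.node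 1 (.one ⟨4326, 1, 2⟩) (.one ⟨3101, 0, 2⟩))))) (.node 8 (.node 4 (.node 2 (.node 1 (.one ⟨2953, 1, 0⟩) (.one ⟨11434, 0, 2⟩)) (.node 1 (.one ⟨8697, 0, 3⟩) (.one ⟨10950, 1, 2⟩))) (.node 2 (.node 1 (.one ⟨1270, 1, 1⟩) (.one ⟨5158, 0, 3⟩)) (.node 1 (.one ⟨14923, 0, 2⟩) (.one ⟨555, 1, 0⟩)))) (.node 4 (.node 2 (.node 1 (.one ⟨7288, 0, 1⟩) (.one ⟨6418, 0, 1⟩)) (.node 1 (.one ⟨1862, 1, 0⟩) (.one ⟨899, 0, 1⟩))) (.node 2 (.node 1 (.one ⟨9206, 0, 1⟩) (.one ⟨15608, 1, 1⟩)) (.node 1 (.one ⟨1219, 1, 1⟩) (.one ⟨4971, 1, 0⟩)))))))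
def par5_5_10 : Arr Par :=
  (.node 32 (.node 16 (.node 8 (.node 4 (.node 2 (.node 1 (.one ⟨10139, 1, 1⟩) (.one ⟨17186, 1, 2⟩)) (.node 1 (.one ⟨17040, 1, 2⟩) (.one ⟨12627, 0, 3⟩))) (.node 2 (.node 1 (.one ⟨14768, 0, 1⟩) (.one ⟨3757, 0, 2⟩)) (.node 1 (.one ⟨6169, 0, 2⟩) (.one ⟨1053, 1, 0⟩)))) (.node 4 (.node 2 (.node 1 (.one ⟨3750, 0, 1⟩) (.one ⟨14908, 1, 1⟩)) (.node 1 (.one ⟨1487, 0, 0⟩) (.one ⟨12874, 1, 2⟩))) (.node 2 (.node 1 (.one ⟨8155, 0, 2⟩) (.one ⟨9137, 1, 1⟩)) (.node 1 (.one ⟨3743, 0, 1⟩) (.one ⟨2002, 1, 2⟩))))) (.node 8 (.node 4 (.node 2 (.node 1 (.one ⟨14556, 0, 3⟩) (.one ⟨9033, 0, 3⟩)) (.node 1 (.one ⟨10902, 0, 3⟩) (.one ⟨16248, 0, 3⟩))) (.node 2 (.node 1 (.one ⟨1897, 0, 3⟩) (.one ⟨12990, 0, 3⟩))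 (.node 1 (.one ⟨7468, 0, 3⟩) (.one ⟨6609, 1, 1⟩)))) (.node 4 (.node 2 (.node 1 (.one ⟨6857, 1, 1⟩) (.one ⟨5786, 0, 1⟩)) (.node 1 (.one ⟨2876, 1, 0⟩) (.one ⟨6081, 1, 1⟩))) (.node 2 (.node 1 (.one ⟨116, 1, 0⟩) (.one ⟨1309, 1, 0⟩)) (.node 1 (.one ⟨5789, 0, 1⟩) (.one ⟨4932, 1, 2⟩)))))) (.node 16 (.node 8 (.node 4 (.node 2 (.node 1 (.one ⟨2327, 1, 0⟩) (.one ⟨995, 1, 0⟩)) (.node 1 (.one ⟨16102, 0, 2⟩) (.one ⟨2389, 1, 0⟩))) (.node 2 (.node 1 (.one ⟨16832, 0, 3⟩) (.one ⟨7635, 1, 1⟩)) (.node 1 (.one ⟨3431, 0, 2⟩) (.one ⟨13394, 0, 2⟩)))) (.node 4 (.node 2 (.node 1 (.one ⟨11153, 0, 2⟩) (.one ⟨4216, 1, 0⟩)) (.node 1 (.one ⟨5335, 1, 2⟩) (.one ⟨4910, 0, 2⟩))) (.node 2 (.node 1 (.one ⟨3149, 0, 3⟩) (.one ⟨9391, 1, 1⟩)) (.node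 1 (.one ⟨781, 1, 0⟩) (.one ⟨4808, 0, 1⟩))))) (.node 8 (.node 4 (.node 2 (.node 1 (.one ⟨1252, 0, 2⟩) (.one ⟨15405, 0, 1⟩)) (.node 1 (.one ⟨16300, 0, 2⟩) (.one ⟨14666, 0, 3⟩))) (.node 2 (.node 1 (.one ⟨15850, 0, 3⟩) (.one ⟨5279, 0, 3⟩)) (.node 1 (.one ⟨2348, 0, 3⟩) (.one ⟨13927, 1, 2⟩)))) (.node 4 (.node 2 (.node 1 (.one ⟨13062, 0, 3⟩) (.one ⟨3772, 1, 2⟩)) (.node 1 (.one ⟨3655, 1, 1⟩) (.one ⟨9815, 1, 1⟩))) (.node 2 (.node 1 (.one ⟨2300, 1, 0⟩) (.one ⟨855, 0, 2⟩)) (.node 1 (.one ⟨1189, 0, 2⟩) (.one ⟨13925, 0, 1⟩)))))))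
def par5_5_11 : Arr Par :=
  (.node 32 (.node 16 (.node 8 (.node 4 (.node 2 (.node 1 (.one ⟨3364, 1, 0⟩) (.one ⟨1098, 1, 0⟩)) (.node 1 (.one ⟨3351, 1, 0⟩) (.one ⟨3138, 1, 0⟩))) (.node 2 (.node 1 (.one ⟨2632, 0, 1⟩) (.one ⟨13754, 0, 1⟩)) (.node 1 (.one ⟨1471, 1, 0⟩) (.one ⟨13584, 1, 1⟩)))) (.node 4 (.node 2 (.node 1 (.one ⟨2428, 1, 1⟩) (.one ⟨9562, 1, 1⟩)) (.node 1 (.one ⟨4490, 1, 0⟩) (.one ⟨10258, 1, 2⟩))) (.node 2 (.node 1 (.one ⟨6745, 0, 2⟩) (.one ⟨13139, 1, 2⟩)) (.node 1 (.one ⟨2554, 1, 2⟩) (.one ⟨11882, 1, 2⟩))))) (.node 8 (.node 4 (.node 2 (.node 1 (.one ⟨1791, 0, 1⟩) (.one ⟨6398, 0, 1⟩)) (.node 1 (.one ⟨5182, 1, 0⟩) (.one ⟨9353, 0, 2⟩))) (.node 2 (.node 1 (.one ⟨3192, 0, 1⟩) (.one ⟨6636, 1, 2⟩)) (.node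 1 (.one ⟨14281, 0, 2⟩) (.one ⟨6078, 0, 2⟩)))) (.node 4 (.node 2 (.node 1 (.one ⟨3009, 1, 0⟩) (.one ⟨3440, 1, 0⟩)) (.node 1 (.one ⟨8699, 0, 2⟩) (.one ⟨3596, 0, 3⟩))) (.node 2 (.node 1 (.one ⟨2715, 1, 0⟩) (.one ⟨9546, 1, 1⟩)) (.node 1 (.one ⟨2763, 0, 2⟩) (.one ⟨1886, 1, 0⟩)))))) (.node 16 (.node 8 (.node 4 (.node 2 (.node 1 (.one ⟨10355, 0, 2⟩) (.one ⟨2155, 1, 1⟩)) (.node 1 (.one ⟨7240, 0, 2⟩) (.one ⟨3645, 0, 3⟩))) (.node 2 (.node 1 (.one ⟨10446, 1, 1⟩) (.one ⟨5664, 1, 1⟩)) (.node 1 (.one ⟨9060, 0, 2⟩) (.one ⟨11272, 1, 1⟩)))) (.node 4 (.node 2 (.node 1 (.one ⟨10225, 1, 2⟩) (.one ⟨11449, 1, 2⟩)) (.node 1 (.one ⟨9561, 1, 1⟩) (.one ⟨12854, 1, 1⟩))) (.node 2 (.node 1 (.one ⟨12326, 1, 2⟩) (.one ⟨9891, 0, 1⟩)) (.node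 1 (.one ⟨12164, 1, 2⟩) (.one ⟨2171, 1, 1⟩))))) (.node 8 (.node 4 (.node 2 (.node 1 (.one ⟨9588, 0, 2⟩) (.one ⟨15622, 0, 1⟩)) (.node 1 (.one ⟨4188, 0, 1⟩) (.one ⟨1921, 1, 1⟩))) (.node 2 (.node 1 (.one ⟨7580, 0, 3⟩) (.one ⟨1143, 1, 1⟩)) (.node 1 (.one ⟨4439, 1, 2⟩) (.one ⟨10496, 1, 2⟩)))) (.node 4 (.node 2 (.node 1 (.one ⟨6074, 0, 1⟩) (.one ⟨13998, 0, 1⟩)) (.node 1 (.one ⟨9334, 0, 2⟩) (.one ⟨1978, 0, 1⟩))) (.node 2 (.node 1 (.one ⟨6008, 0, 1⟩) (.one ⟨13636, 0, 3⟩)) (.node 1 (.one ⟨9899, 0, 3⟩) (.one ⟨1803, 0, 1⟩)))))))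
def par5_5_12 : Arr Par :=
  (.node 32 (.node 16 (.node 8 (.node 4 (.node 2 (.node 1 (.one ⟨4784, 0, 2⟩) (.one ⟨13159, 0, 1⟩)) (.node 1 (.one ⟨479, 1, 2⟩) (.one ⟨10541, 0, 1⟩))) (.node 2 (.node 1 (.one ⟨16545, 1, 2⟩) (.one ⟨12872, 1, 1⟩)) (.node 1 (.one ⟨852, 0, 1⟩) (.one ⟨11022, 0, 1⟩)))) (.node 4 (.node 2 (.node 1 (.one ⟨1954, 1, 1⟩) (.one ⟨5464, 0, 2⟩)) (.node 1 (.one ⟨7891, 1, 2⟩) (.one ⟨9547, 1, 1⟩))) (.node 2 (.node 1 (.one ⟨11202, 0, 1⟩) (.one ⟨234, 0, 3⟩)) (.node 1 (.one ⟨1223, 1, 0⟩) (.one ⟨1144, 1, 1⟩))))) (.node 8 (.node 4 (.node 2 (.node 1 (.one ⟨16336, 0, 2⟩) (.one ⟨10270, 0, 3⟩)) (.node 1 (.one ⟨8193, 0, 2⟩) (.one ⟨9831, 1, 1⟩))) (.node 2 (.node 1 (.one ⟨7754, 0, 1⟩) (.one ⟨10743, 1, 2⟩)) (.node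 1 (.one ⟨16022, 0, 2⟩) (.one ⟨15461, 1, 1⟩)))) (.node 4 (.node 2 (.node 1 (.one ⟨16183, 0, 3⟩) (.one ⟨12007, 0, 2⟩)) (.node 1 (.one ⟨8457, 1, 1⟩) (.one ⟨2408, 0, 1⟩))) (.node 2 (.node 1 (.one ⟨5793, 0, 1⟩) (.one ⟨4074, 1, 2⟩)) (.node 1 (.one ⟨6271, 0, 1⟩) (.one ⟨3900, 0, 1⟩)))))) (.node 16 (.node 8 (.node 4 (.node 2 (.node 1 (.one ⟨9585, 0, 1⟩) (.one ⟨1313, 0, 1⟩)) (.node 1 (.one ⟨15972, 1, 2⟩) (.one ⟨9344, 0, 1⟩))) (.node 2 (.node 1 (.one ⟨3934, 0, 2⟩) (.one ⟨4828, 1, 1⟩)) (.node 1 (.one ⟨87, 0, 2⟩) (.one ⟨6072, 0, 1⟩)))) (.node 4 (.node 2 (.node 1 (.one ⟨6494, 0, 1⟩) (.one ⟨9544, 1, 1⟩)) (.node 1 (.one ⟨5852, 1, 1⟩) (.one ⟨2616, 0, 1⟩))) (.node 2 (.node 1 (.one ⟨721, 1, 2⟩) (.one ⟨1932, 1, 2⟩)) (.node 1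 (.one ⟨15058, 0, 1⟩) (.one ⟨2281, 1, 0⟩))))) (.node 8 (.node 4 (.node 2 (.node 1 (.one ⟨2510, 0, 3⟩) (.one ⟨2473, 0, 0⟩)) (.node 1 (.one ⟨7257, 0, 2⟩) (.one ⟨5619, 1, 1⟩))) (.node 2 (.node 1 (.one ⟨3733, 1, 0⟩) (.one ⟨2902, 1, 0⟩)) (.node 1 (.one ⟨2468, 1, 0⟩) (.one ⟨258, 1, 0⟩)))) (.node 4 (.node 2 (.node 1 (.one ⟨1903, 1, 1⟩) (.one ⟨1552, 1, 0⟩)) (.node 1 (.one ⟨1707, 1, 0⟩) (.one ⟨5604, 1, 1⟩))) (.node 2 (.node 1 (.one ⟨1460, 1, 1⟩) (.one ⟨4626, 0, 3⟩)) (.node 1 (.one ⟨13359, 0, 1⟩) (.one ⟨181, 1, 0⟩)))))))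
def par5_5_13 : Arr Par :=
  (.node 32 (.node 16 (.node 8 (.node 4 (.node 2 (.node 1 (.one ⟨743, 0, 1⟩) (.one ⟨4221, 1, 1⟩)) (.node 1 (.one ⟨3079, 1, 0⟩) (.one ⟨9460, 1, 1⟩))) (.node 2 (.node 1 (.one ⟨728, 1, 0⟩) (.one ⟨12050, 1, 2⟩)) (.node 1 (.one ⟨7590, 0, 1⟩) (.one ⟨5009, 1, 1⟩)))) (.node 4 (.node 2 (.node 1 (.one ⟨4666, 1, 1⟩) (.one ⟨5649, 1, 1⟩)) (.node 1 (.one ⟨166, 0, 0⟩) (.one ⟨2389, 0, 2⟩))) (.node 2 (.node 1 (.one ⟨2390, 0, 3⟩) (.one ⟨2387, 0, 3⟩)) (.node 1 (.one ⟨2737, 1, 0⟩) (.one ⟨347, 0, 1⟩))))) (.node 8 (.node 4 (.node 2 (.node 1 (.one ⟨12744, 1, 2⟩) (.one ⟨683, 0, 1⟩)) (.node 1 (.one ⟨653, 0, 1⟩) (.one ⟨922, 0, 1⟩))) (.node 2 (.node 1 (.one ⟨888, 0, 1⟩) (.one ⟨108, 0, 1⟩)) (.node 1 (.one ⟨65,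 0, 1⟩) (.one ⟨487, 0, 2⟩)))) (.node 4 (.node 2 (.node 1 (.one ⟨4042, 0, 2⟩) (.one ⟨1684, 1, 2⟩)) (.node 1 (.one ⟨13582, 1, 1⟩) (.one ⟨13479, 0, 3⟩))) (.node 2 (.node 1 (.one ⟨11152, 0, 1⟩) (.one ⟨13516, 1, 1⟩)) (.node 1 (.one ⟨1446, 1, 1⟩) (.one ⟨16213, 0, 3⟩)))))) (.node 16 (.node 8 (.node 4 (.node 2 (.node 1 (.one ⟨10659, 0, 2⟩) (.one ⟨7262, 0, 3⟩)) (.node 1 (.one ⟨2141, 1, 0⟩) (.one ⟨8067, 0, 2⟩))) (.node 2 (.node 1 (.one ⟨1141, 0, 2⟩) (.one ⟨14974, 0, 3⟩)) (.node 1 (.one ⟨12972, 0, 3⟩) (.one ⟨7282, 1, 2⟩)))) (.node 4 (.node 2 (.node 1 (.one ⟨16207, 0, 3⟩) (.one ⟨2433, 1, 0⟩)) (.node 1 (.one ⟨1699, 1, 2⟩) (.one ⟨2438, 1, 0⟩))) (.node 2 (.node 1 (.one ⟨12012, 0, 3⟩) (.one ⟨10694, 1, 2⟩)) (.node 1 (.one ⟨2784,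 1, 0⟩) (.one ⟨3315, 0, 2⟩))))) (.node 8 (.node 4 (.node 2 (.node 1 (.one ⟨14111, 1, 2⟩) (.one ⟨8096, 1, 1⟩)) (.node 1 (.one ⟨16620, 1, 2⟩) (.one ⟨3080, 1, 0⟩))) (.node 2 (.node 1 (.one ⟨2807, 1, 1⟩) (.one ⟨3673, 0, 2⟩)) (.node 1 (.one ⟨17127, 0, 1⟩) (.one ⟨12197, 0, 1⟩)))) (.node 4 (.node 2 (.node 1 (.one ⟨1157, 1, 0⟩) (.one ⟨1495, 1, 0⟩)) (.node 1 (.one ⟨1738, 1, 0⟩) (.one ⟨12263, 1, 2⟩))) (.node 2 (.node 1 (.one ⟨7688, 0, 1⟩) (.one ⟨5103, 1, 0⟩)) (.node 1 (.one ⟨17038, 1, 2⟩) (.one ⟨8434, 0, 1⟩)))))))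
def par5_5_14 : Arr Par :=
  (.node 32 (.node 16 (.node 8 (.node 4 (.node 2 (.node 1 (.one ⟨7067, 1, 1⟩) (.one ⟨2808, 0, 3⟩)) (.node 1 (.one ⟨7255, 0, 3⟩) (.one ⟨7739, 0, 2⟩))) (.node 2 (.node 1 (.one ⟨3910, 0, 1⟩) (.one ⟨9410, 1, 1⟩)) (.node 1 (.one ⟨281, 1, 2⟩) (.one ⟨4303, 1, 0⟩)))) (.node 4 (.node 2 (.node 1 (.one ⟨2816, 1, 1⟩) (.one ⟨2350, 0, 1⟩)) (.node 1 (.one ⟨14484, 1, 2⟩) (.one ⟨1445, 1, 1⟩))) (.node 2 (.node 1 (.one ⟨13191, 0, 3⟩) (.one ⟨15177, 1, 2⟩)) (.node 1 (.one ⟨556, 1, 0⟩) (.one ⟨7260, 0, 1⟩))))) (.node 8 (.node 4 (.node 2 (.node 1 (.one ⟨7481, 1, 2⟩) (.one ⟨16552, 0, 3⟩)) (.node 1 (.one ⟨9459, 1, 1⟩) (.one ⟨808, 1, 0⟩))) (.node 2 (.node 1 (.one ⟨15237, 0, 1⟩) (.one ⟨11997, 0, 3⟩)) (.node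 1 (.one ⟨8380, 0, 2⟩) (.one ⟨4350, 0, 2⟩)))) (.node 4 (.node 2 (.node 1 (.one ⟨5399, 1, 0⟩) (.one ⟨16482, 0, 2⟩)) (.node 1 (.one ⟨8994, 0, 1⟩) (.one ⟨6614, 0, 3⟩))) (.node 2 (.node 1 (.one ⟨5950, 1, 2⟩) (.one ⟨10649, 0, 2⟩)) (.node 1 (.one ⟨2074, 0, 2⟩) (.one ⟨12320, 1, 1⟩)))))) (.node 16 (.node 8 (.node 4 (.node 2 (.node 1 (.one ⟨12375, 1, 1⟩) (.one ⟨3068, 1, 0⟩)) (.node 1 (.one ⟨9655, 1, 2⟩) (.one ⟨11127, 0, 2⟩))) (.node 2 (.node 1 (.one ⟨12968, 0, 3⟩) (.one ⟨5258, 0, 2⟩)) (.node 1 (.one ⟨3433, 0, 3⟩) (.one ⟨4545, 0, 2⟩)))) (.node 4 (.node 2 (.node 1 (.one ⟨12819, 0, 3⟩) (.one ⟨6701, 0, 2⟩)) (.node 1 (.one ⟨14663, 0, 3⟩) (.one ⟨13131, 0, 1⟩))) (.node 2 (.node 1 (.one ⟨1459, 1, 1⟩) (.one ⟨15344, 0, 3⟩)) (.node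 1 (.one ⟨7109, 0, 1⟩) (.one ⟨2025, 1, 0⟩))))) (.node 8 (.node 4 (.node 2 (.node 1 (.one ⟨13015, 0, 1⟩) (.one ⟨3029, 1, 0⟩)) (.node 1 (.one ⟨9538, 0, 1⟩) (.one ⟨5696, 1, 1⟩))) (.node 2 (.node 1 (.one ⟨3486, 1, 0⟩) (.one ⟨2392, 1, 0⟩)) (.node 1 (.one ⟨2632, 1, 1⟩) (.one ⟨1081, 0, 2⟩)))) (.node 4 (.node 2 (.node 1 (.one ⟨3767, 0, 0⟩) (.one ⟨1264, 0, 2⟩)) (.node 1 (.one ⟨2944, 1, 0⟩) (.one ⟨1614, 1, 1⟩))) (.node 2 (.node 1 (.one ⟨5832, 0, 2⟩) (.one ⟨1353, 0, 2⟩)) (.node 1 (.one ⟨9855, 1, 1⟩) (.one ⟨3145, 1, 2⟩)))))))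
def par5_5_15 : Arr Par :=
  (.node 32 (.node 16 (.node 8 (.node 4 (.node 2 (.node 1 (.one ⟨9783, 1, 2⟩) (.one ⟨4509, 1, 0⟩)) (.node 1 (.one ⟨15227, 1, 1⟩) (.one ⟨1115, 1, 0⟩))) (.node 2 (.node 1 (.one ⟨1695, 1, 0⟩) (.one ⟨17000, 0, 3⟩)) (.node 1 (.one ⟨11353, 1, 2⟩) (.one ⟨10577, 0, 2⟩)))) (.node 4 (.node 2 (.node 1 (.one ⟨4322, 1, 2⟩) (.one ⟨1695, 1, 2⟩)) (.node 1 (.one ⟨3814, 1, 1⟩) (.one ⟨15721, 1, 2⟩))) (.node 2 (.node 1 (.one ⟨2667, 1, 0⟩) (.one ⟨16299, 1, 2⟩)) (.node 1 (.one ⟨14536, 1, 2⟩) (.one ⟨1545, 0, 1⟩))))) (.node 8 (.node 4 (.node 2 (.node 1 (.one ⟨639, 0, 2⟩) (.one ⟨11410, 0, 2⟩)) (.node 1 (.one ⟨11333, 0, 2⟩) (.one ⟨6090, 0, 2⟩))) (.node 2 (.node 1 (.one ⟨11151, 1, 1⟩) (.one ⟨15552, 0, 3⟩))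 (.node 1 (.one ⟨8868, 1, 2⟩) (.one ⟨147, 1, 1⟩)))) (.node 4 (.node 2 (.node 1 (.one ⟨3937, 0, 1⟩) (.one ⟨12175, 0, 3⟩)) (.node 1 (.one ⟨386, 1, 2⟩) (.one ⟨618, 1, 1⟩))) (.node 2 (.node 1 (.one ⟨271, 0, 1⟩) (.one ⟨9850, 0, 3⟩)) (.node 1 (.one ⟨12737, 0, 1⟩) (.one ⟨14803, 0, 2⟩)))))) (.node 16 (.node 8 (.node 4 (.node 2 (.node 1 (.one ⟨1919, 0, 1⟩) (.one ⟨4133, 0, 3⟩)) (.node 1 (.one ⟨5895, 1, 2⟩) (.one ⟨15162, 1, 1⟩))) (.node 2 (.node 1 (.one ⟨8928, 0, 3⟩) (.one ⟨5595, 1, 1⟩)) (.node 1 (.one ⟨13758, 1, 1⟩) (.one ⟨3363, 0, 3⟩)))) (.node 4 (.node 2 (.node 1 (.one ⟨1511, 1, 2⟩) (.one ⟨13018, 0, 3⟩)) (.node 1 (.one ⟨3868, 0, 3⟩) (.one ⟨16087, 0, 3⟩))) (.node 2 (.node 1 (.one ⟨6935, 1, 2⟩) (.one ⟨6299, 0, 3⟩)) (.node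 1 (.one ⟨15440, 0, 1⟩) (.one ⟨3277, 1, 0⟩))))) (.node 8 (.node 4 (.node 2 (.node 1 (.one ⟨1904, 1, 1⟩) (.one ⟨1683, 1, 0⟩)) (.node 1 (.one ⟨1714, 1, 1⟩) (.one ⟨9885, 1, 1⟩))) (.node 2 (.node 1 (.one ⟨14241, 0, 3⟩) (.one ⟨9947, 1, 1⟩)) (.node 1 (.one ⟨10124, 1, 1⟩) (.one ⟨7162, 1, 2⟩)))) (.node 4 (.node 2 (.node 1 (.one ⟨3666, 0, 0⟩) (.one ⟨11748, 0, 2⟩)) (.node 1 (.one ⟨13874, 0, 3⟩) (.one ⟨2799, 1, 0⟩))) (.node 2 (.node 1 (.one ⟨1582, 1, 2⟩) (.one ⟨2396, 1, 2⟩)) (.node 1 (.one ⟨2955, 1, 0⟩) (.one ⟨8632, 0, 2⟩)))))))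
def par5_5 : Arr Par :=
  (.node 512 (.node 256 (.node 128 (.node 64 par5_5_0 par5_5_1) (.node 64 par5_5_2 par5_5_3)) (.node 128 (.node 64 par5_5_4 par5_5_5) (.node 64 par5_5_6 par5_5_7))) (.node 256 (.node 128 (.node 64 par5_5_8 par5_5_9) (.node 64 par5_5_10 par5_5_11)) (.node 128 (.node 64 par5_5_12 par5_5_13) (.node 64 par5_5_14 par5_5_15))))
def par5_6_0 : Arr Par :=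
  (.node 32 (.node 16 (.node 8 (.node 4 (.node 2 (.node 1 (.one ⟨1626, 0, 2⟩) (.one ⟨15528, 0, 2⟩)) (.node 1 (.one ⟨12282, 0, 2⟩) (.one ⟨15752, 0, 3⟩))) (.node 2 (.node 1 (.one ⟨11977, 1, 1⟩) (.one ⟨10006, 1, 1⟩)) (.node 1 (.one ⟨9897, 1, 1⟩) (.one ⟨8706, 1, 1⟩)))) (.node 4 (.node 2 (.node 1 (.one ⟨2960, 1, 1⟩) (.one ⟨6154, 0, 1⟩)) (.node 1 (.one ⟨1332, 1, 0⟩) (.one ⟨7857, 1, 1⟩))) (.node 2 (.node 1 (.one ⟨2207, 1, 1⟩) (.one ⟨12603, 1, 1⟩)) (.node 1 (.one ⟨6157, 0, 2⟩) (.one ⟨7079, 0, 2⟩))))) (.node 8 (.node 4 (.node 2 (.node 1 (.one ⟨5361, 1, 1⟩) (.one ⟨5227, 0, 2⟩)) (.node 1 (.one ⟨4028, 0, 2⟩) (.one ⟨13685, 0, 2⟩))) (.node 2 (.node 1 (.one ⟨14732, 0, 1⟩) (.one ⟨14145, 1, 1⟩)) (.node 1 (.one ⟨13466, 0, 3⟩)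 (.one ⟨8097, 0, 3⟩)))) (.node 4 (.node 2 (.node 1 (.one ⟨3397, 1, 0⟩) (.one ⟨12557, 1, 1⟩)) (.node 1 (.one ⟨8317, 0, 3⟩) (.one ⟨12505, 1, 2⟩))) (.node 2 (.node 1 (.one ⟨10024, 1, 2⟩) (.one ⟨4499, 0, 1⟩)) (.node 1 (.one ⟨1262, 1, 0⟩) (.one ⟨3304, 0, 3⟩)))))) (.node 16 (.node 8 (.node 4 (.node 2 (.node 1 (.one ⟨11819, 1, 1⟩) (.one ⟨3158, 1, 0⟩)) (.node 1 (.one ⟨1500, 1, 0⟩) (.one ⟨7731, 0, 1⟩))) (.node 2 (.node 1 (.one ⟨2737, 0, 1⟩) (.one ⟨8374, 0, 1⟩)) (.node 1 (.one ⟨207, 0, 1⟩) (.one ⟨1609, 1, 2⟩)))) (.node 4 (.node 2 (.node 1 (.one ⟨4179, 0, 1⟩) (.one ⟨9311, 0, 1⟩)) (.node 1 (.one ⟨723, 1, 1⟩) (.one ⟨12558, 1, 2⟩))) (.node 2 (.node 1 (.one ⟨4822, 0, 1⟩) (.one ⟨11476, 0, 2⟩)) (.node 1 (.one ⟨12481, 1, 2⟩)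 (.one ⟨5305, 1, 0⟩))))) (.node 8 (.node 4 (.node 2 (.node 1 (.one ⟨6747, 1, 2⟩) (.one ⟨456, 0, 2⟩)) (.node 1 (.one ⟨7860, 0, 2⟩) (.one ⟨1865, 1, 0⟩))) (.node 2 (.node 1 (.one ⟨14902, 0, 2⟩) (.one ⟨6480, 1, 2⟩)) (.node 1 (.one ⟨3430, 1, 2⟩) (.one ⟨13395, 0, 2⟩)))) (.node 4 (.node 2 (.node 1 (.one ⟨16216, 1, 2⟩) (.one ⟨2967, 1, 0⟩)) (.node 1 (.one ⟨14490, 0, 1⟩) (.one ⟨14640, 0, 3⟩))) (.node 2 (.node 1 (.one ⟨6092, 0, 1⟩) (.one ⟨3555, 1, 1⟩)) (.node 1 (.one ⟨653, 1, 0⟩) (.one ⟨2819, 1, 0⟩)))))))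
def par5_6_1 : Arr Par :=
  (.node 32 (.node 16 (.node 8 (.node 4 (.node 2 (.node 1 (.one ⟨2895, 1, 1⟩) (.one ⟨3644, 1, 2⟩)) (.node 1 (.one ⟨3172, 0, 2⟩) (.one ⟨574, 0, 1⟩))) (.node 2 (.node 1 (.one ⟨10646, 1, 2⟩) (.one ⟨3727, 1, 0⟩)) (.node 1 (.one ⟨2528, 0, 3⟩) (.one ⟨7050, 0, 2⟩)))) (.node 4 (.node 2 (.node 1 (.one ⟨9208, 0, 1⟩) (.one ⟨1605, 0, 2⟩)) (.node 1 (.one ⟨15052, 0, 2⟩) (.one ⟨8992, 0, 3⟩))) (.node 2 (.node 1 (.one ⟨9662, 1, 2⟩) (.one ⟨4348, 0, 3⟩)) (.node 1 (.one ⟨1918, 1, 2⟩) (.one ⟨7971, 0, 2⟩))))) (.node 8 (.node 4 (.node 2 (.node 1 (.one ⟨16988, 1, 1⟩) (.one ⟨517, 0, 2⟩)) (.node 1 (.one ⟨6168, 0, 1⟩) (.one ⟨2818, 0, 2⟩))) (.node 2 (.node 1 (.one ⟨6929, 0, 3⟩) (.one ⟨3324, 1, 0⟩)) (.node 1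 (.one ⟨1703, 1, 0⟩) (.one ⟨7208, 1, 1⟩)))) (.node 4 (.node 2 (.node 1 (.one ⟨5410, 1, 1⟩) (.one ⟨10368, 0, 1⟩)) (.node 1 (.one ⟨60, 0, 3⟩) (.one ⟨11562, 0, 3⟩))) (.node 2 (.node 1 (.one ⟨3074, 0, 3⟩) (.one ⟨13447, 0, 1⟩)) (.node 1 (.one ⟨4961, 0, 3⟩) (.one ⟨8660, 0, 3⟩)))))) (.node 16 (.node 8 (.node 4 (.node 2 (.node 1 (.one ⟨16838, 1, 1⟩) (.one ⟨14282, 1, 2⟩)) (.node 1 (.one ⟨10627, 0, 2⟩) (.one ⟨17023, 0, 3⟩))) (.node 2 (.node 1 (.one ⟨3521, 0, 2⟩) (.one ⟨11495, 1, 2⟩)) (.node 1 (.one ⟨1260, 0, 2⟩) (.one ⟨7238, 0, 3⟩)))) (.node 4 (.node 2 (.node 1 (.one ⟨2273, 1, 2⟩) (.one ⟨4205, 0, 3⟩)) (.node 1 (.one ⟨5050, 1, 2⟩) (.one ⟨3511, 1, 2⟩))) (.node 2 (.node 1 (.one ⟨1769, 0, 3⟩) (.one ⟨12450, 0, 3⟩)) (.node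 1 (.one ⟨1717, 1, 0⟩) (.one ⟨3280, 1, 1⟩))))) (.node 8 (.node 4 (.node 2 (.node 1 (.one ⟨3424, 1, 1⟩) (.one ⟨8834, 1, 1⟩)) (.node 1 (.one ⟨9021, 1, 1⟩) (.one ⟨2220, 0, 3⟩))) (.node 2 (.node 1 (.one ⟨2476, 1, 0⟩) (.one ⟨2222, 0, 2⟩)) (.node 1 (.one ⟨2221, 0, 1⟩) (.one ⟨8426, 1, 2⟩)))) (.node 4 (.node 2 (.node 1 (.one ⟨908, 1, 0⟩) (.one ⟨10865, 0, 1⟩)) (.node 1 (.one ⟨6816, 0, 3⟩) (.one ⟨2422, 0, 3⟩))) (.node 2 (.node 1 (.one ⟨14357, 1, 2⟩) (.one ⟨1290, 1, 0⟩)) (.node 1 (.one ⟨13646, 0, 3⟩) (.one ⟨975, 1, 0⟩)))))))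
def par5_6_2 : Arr Par :=
  (.node 32 (.node 16 (.node 8 (.node 4 (.node 2 (.node 1 (.one ⟨1931, 1, 0⟩) (.one ⟨9701, 0, 3⟩)) (.node 1 (.one ⟨256, 0, 1⟩) (.one ⟨17027, 0, 3⟩))) (.node 2 (.node 1 (.one ⟨8889, 0, 3⟩) (.one ⟨10541, 1, 1⟩)) (.node 1 (.one ⟨13138, 0, 2⟩) (.one ⟨8215, 1, 1⟩)))) (.node 4 (.node 2 (.node 1 (.one ⟨10626, 0, 2⟩) (.one ⟨1307, 0, 2⟩)) (.node 1 (.one ⟨74, 0, 2⟩) (.one ⟨14950, 1, 2⟩))) (.node 2 (.node 1 (.one ⟨1478, 1, 0⟩) (.one ⟨9466, 0, 2⟩)) (.node 1 (.one ⟨9203, 0, 2⟩) (.one ⟨8650, 1, 2⟩))))) (.node 8 (.node 4 (.node 2 (.node 1 (.one ⟨1270, 1, 0⟩) (.one ⟨2877, 1, 2⟩)) (.node 1 (.one ⟨12571, 1, 2⟩) (.one ⟨5667, 1, 2⟩))) (.node 2 (.node 1 (.one ⟨10518, 0, 3⟩) (.one ⟨1646, 1, 0⟩)) (.node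 1 (.one ⟨2469, 1, 0⟩) (.one ⟨15222, 1, 2⟩)))) (.node 4 (.node 2 (.node 1 (.one ⟨2524, 0, 2⟩) (.one ⟨7769, 0, 2⟩)) (.node 1 (.one ⟨15502, 1, 1⟩) (.one ⟨9712, 1, 2⟩))) (.node 2 (.node 1 (.one ⟨2557, 1, 1⟩) (.one ⟨2637, 1, 2⟩)) (.node 1 (.one ⟨4009, 0, 2⟩) (.one ⟨14343, 1, 1⟩)))))) (.node 16 (.node 8 (.node 4 (.node 2 (.node 1 (.one ⟨16403, 0, 2⟩) (.one ⟨571, 1, 0⟩)) (.node 1 (.one ⟨179, 0, 2⟩) (.one ⟨1050, 1, 1⟩))) (.node 2 (.node 1 (.one ⟨16753, 0, 3⟩) (.one ⟨15328, 0, 3⟩)) (.node 1 (.one ⟨3318, 0, 1⟩) (.one ⟨3774, 0, 0⟩)))) (.node 4 (.node 2 (.node 1 (.one ⟨15283, 0, 3⟩) (.one ⟨4540, 1, 1⟩)) (.node 1 (.one ⟨15286, 0, 3⟩) (.one ⟨16907, 1, 2⟩))) (.node 2 (.node 1 (.one ⟨6826, 1, 2⟩) (.one ⟨15281, 0, 3⟩)) (.node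 1 (.one ⟨15285, 0, 2⟩) (.one ⟨3271, 1, 0⟩))))) (.node 8 (.node 4 (.node 2 (.node 1 (.one ⟨9254, 1, 1⟩) (.one ⟨4853, 1, 0⟩)) (.node 1 (.one ⟨3246, 1, 0⟩) (.one ⟨10702, 1, 1⟩))) (.node 2 (.node 1 (.one ⟨9258, 0, 1⟩) (.one ⟨6612, 0, 1⟩)) (.node 1 (.one ⟨2436, 0, 3⟩) (.one ⟨8522, 0, 1⟩)))) (.node 4 (.node 2 (.node 1 (.one ⟨8072, 1, 2⟩) (.one ⟨2255, 1, 0⟩)) (.node 1 (.one ⟨14462, 1, 1⟩) (.one ⟨9312, 0, 1⟩))) (.node 2 (.node 1 (.one ⟨12383, 0, 3⟩) (.one ⟨14449, 0, 2⟩)) (.node 1 (.one ⟨2069, 1, 0⟩) (.one ⟨1355, 1, 1⟩)))))))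
def par5_6_3 : Arr Par :=
  (.node 32 (.node 16 (.node 8 (.node 4 (.node 2 (.node 1 (.one ⟨16959, 1, 2⟩) (.one ⟨14325, 1, 2⟩)) (.node 1 (.one ⟨6191, 0, 1⟩) (.one ⟨6022, 0, 3⟩))) (.node 2 (.node 1 (.one ⟨994, 0, 1⟩) (.one ⟨3898, 0, 1⟩)) (.node 1 (.one ⟨8341, 0, 2⟩) (.one ⟨2017, 0, 1⟩)))) (.node 4 (.node 2 (.node 1 (.one ⟨12053, 0, 3⟩) (.one ⟨2083, 1, 0⟩)) (.node 1 (.one ⟨562, 1, 0⟩) (.one ⟨776, 1, 0⟩))) (.node 2 (.node 1 (.one ⟨4430, 0, 3⟩) (.one ⟨1828, 0, 2⟩)) (.node 1 (.one ⟨12236, 0, 3⟩) (.one ⟨761, 1, 0⟩))))) (.node 8 (.node 4 (.node 2 (.node 1 (.one ⟨602, 1, 0⟩) (.one ⟨5082, 0, 3⟩)) (.node 1 (.one ⟨4813, 0, 1⟩) (.one ⟨3841, 0, 3⟩))) (.node 2 (.node 1 (.one ⟨1197, 1, 0⟩) (.one ⟨633, 1, 0⟩)) (.node 1 (.one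 ⟨4701, 1, 1⟩) (.one ⟨11465, 0, 1⟩)))) (.node 4 (.node 2 (.node 1 (.one ⟨10046, 0, 2⟩) (.one ⟨8495, 0, 1⟩)) (.node 1 (.one ⟨5336, 1, 2⟩) (.one ⟨5485, 0, 1⟩))) (.node 2 (.node 1 (.one ⟨3835, 0, 1⟩) (.one ⟨10748, 1, 1⟩)) (.node 1 (.one ⟨1357, 1, 1⟩) (.one ⟨7161, 1, 1⟩)))))) (.node 16 (.node 8 (.node 4 (.node 2 (.node 1 (.one ⟨5480, 1, 1⟩) (.one ⟨6370, 0, 1⟩)) (.node 1 (.one ⟨1496, 1, 0⟩) (.one ⟨168, 1, 0⟩))) (.node 2 (.node 1 (.one ⟨4224, 1, 1⟩) (.one ⟨8568, 1, 1⟩)) (.node 1 (.one ⟨6373, 0, 2⟩) (.one ⟨1852, 1, 2⟩)))) (.node 4 (.node 2 (.node 1 (.one ⟨10708, 1, 2⟩) (.one ⟨330, 1, 2⟩)) (.node 1 (.one ⟨3880, 1, 0⟩) (.one ⟨2658, 1, 2⟩))) (.node 2 (.node 1 (.one ⟨9933, 1, 2⟩) (.one ⟨2478, 1, 2⟩)) (.node 1 (.one ⟨13483,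 0, 3⟩) (.one ⟨2624, 1, 0⟩))))) (.node 8 (.node 4 (.node 2 (.node 1 (.one ⟨1232, 1, 1⟩) (.one ⟨17083, 0, 3⟩)) (.node 1 (.one ⟨9105, 0, 2⟩) (.one ⟨5483, 0, 2⟩))) (.node 2 (.node 1 (.one ⟨5538, 1, 2⟩) (.one ⟨17007, 0, 1⟩)) (.node 1 (.one ⟨8925, 0, 3⟩) (.one ⟨6503, 0, 3⟩)))) (.node 4 (.node 2 (.node 1 (.one ⟨9424, 0, 2⟩) (.one ⟨2344, 0, 1⟩)) (.node 1 (.one ⟨14089, 0, 3⟩) (.one ⟨14383, 0, 1⟩))) (.node 2 (.node 1 (.one ⟨3200, 1, 0⟩) (.one ⟨10738, 0, 2⟩)) (.node 1 (.one ⟨3007, 1, 0⟩) (.one ⟨1106, 0, 1⟩)))))))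
def par5_6_4 : Arr Par :=
  (.node 32 (.node 16 (.node 8 (.node 4 (.node 2 (.node 1 (.one ⟨13551, 1, 2⟩) (.one ⟨3220, 1, 2⟩)) (.node 1 (.one ⟨9233, 0, 1⟩) (.one ⟨1326, 0, 1⟩))) (.node 2 (.node 1 (.one ⟨2963, 0, 1⟩) (.one ⟨11052, 0, 1⟩)) (.node 1 (.one ⟨9598, 0, 1⟩) (.one ⟨13494, 1, 1⟩)))) (.node 4 (.node 2 (.node 1 (.one ⟨3431, 1, 0⟩) (.one ⟨1288, 0, 3⟩)) (.node 1 (.one ⟨10327, 0, 1⟩) (.one ⟨15983, 1, 2⟩))) (.node 2 (.node 1 (.one ⟨17084, 0, 3⟩) (.one ⟨4155, 0, 3⟩)) (.node 1 (.one ⟨2812, 1, 0⟩) (.one ⟨5685, 0, 2⟩))))) (.node 8 (.node 4 (.node 2 (.node 1 (.one ⟨2977, 1, 0⟩) (.one ⟨7140, 0, 3⟩)) (.node 1 (.one ⟨3967, 1, 0⟩) (.one ⟨5452, 1, 1⟩))) (.node 2 (.node 1 (.one ⟨6860, 1, 2⟩) (.one ⟨1385, 0, 3⟩)) (.node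 1 (.one ⟨5464, 1, 0⟩) (.one ⟨372, 0, 3⟩)))) (.node 4 (.node 2 (.node 1 (.one ⟨1236, 1, 1⟩) (.one ⟨12237, 0, 3⟩)) (.node 1 (.one ⟨5429, 0, 0⟩) (.one ⟨4052, 0, 1⟩))) (.node 2 (.node 1 (.one ⟨11292, 1, 2⟩) (.one ⟨4643, 1, 1⟩)) (.node 1 (.one ⟨15908, 1, 1⟩) (.one ⟨1007, 1, 2⟩)))))) (.node 16 (.node 8 (.node 4 (.node 2 (.node 1 (.one ⟨15516, 1, 2⟩) (.one ⟨14494, 0, 2⟩)) (.node 1 (.one ⟨5432, 1, 2⟩) (.one ⟨2683, 1, 2⟩))) (.node 2 (.node 1 (.one ⟨14969, 1, 2⟩) (.one ⟨16222, 1, 2⟩)) (.node 1 (.one ⟨4657, 1, 2⟩) (.one ⟨3302, 0, 3⟩)))) (.node 4 (.node 2 (.node 1 (.one ⟨1763, 1, 0⟩) (.one ⟨2662, 0, 1⟩)) (.node 1 (.one ⟨4694, 0, 3⟩) (.one ⟨834, 0, 1⟩))) (.node 2 (.node 1 (.one ⟨5549, 0, 2⟩) (.one ⟨1231, 1, 1⟩)) (.node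 1 (.one ⟨8326, 1, 2⟩) (.one ⟨4863, 0, 1⟩))))) (.node 8 (.node 4 (.node 2 (.node 1 (.one ⟨11022, 1, 1⟩) (.one ⟨16295, 0, 2⟩)) (.node 1 (.one ⟨1540, 0, 1⟩) (.one ⟨13906, 1, 1⟩))) (.node 2 (.node 1 (.one ⟨5145, 0, 1⟩) (.one ⟨15365, 1, 2⟩)) (.node 1 (.one ⟨1476, 1, 1⟩) (.one ⟨362, 1, 0⟩)))) (.node 4 (.node 2 (.node 1 (.one ⟨6770, 0, 3⟩) (.one ⟨16228, 0, 3⟩)) (.node 1 (.one ⟨11944, 0, 3⟩) (.one ⟨13124, 0, 2⟩))) (.node 2 (.node 1 (.one ⟨13046, 1, 1⟩) (.one ⟨5330, 1, 1⟩)) (.node 1 (.one ⟨10307, 1, 1⟩) (.one ⟨1471, 1, 1⟩)))))))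
def par5_6_5 : Arr Par :=
  (.node 32 (.node 16 (.node 8 (.node 4 (.node 2 (.node 1 (.one ⟨13259, 0, 2⟩) (.one ⟨7435, 0, 3⟩)) (.node 1 (.one ⟨5156, 0, 3⟩) (.one ⟨8921, 0, 3⟩))) (.node 2 (.node 1 (.one ⟨3119, 0, 2⟩) (.one ⟨16847, 0, 3⟩)) (.node 1 (.one ⟨11431, 0, 3⟩) (.one ⟨17138, 0, 1⟩)))) (.node 4 (.node 2 (.node 1 (.one ⟨7175, 1, 2⟩) (.one ⟨6212, 0, 3⟩)) (.node 1 (.one ⟨10287, 1, 2⟩) (.one ⟨13079, 1, 2⟩))) (.node 2 (.node 1 (.one ⟨6610, 1, 2⟩) (.one ⟨5981, 0, 2⟩)) (.node 1 (.one ⟨1189, 1, 0⟩) (.one ⟨9180, 1, 1⟩))))) (.node 8 (.node 4 (.node 2 (.node 1 (.one ⟨15, 0, 1⟩) (.one ⟨11319, 0, 3⟩)) (.node 1 (.one ⟨4674, 0, 3⟩) (.one ⟨2271, 1, 2⟩))) (.node 2 (.node 1 (.one ⟨12001, 0, 1⟩) (.one ⟨4833, 0, 1⟩)) (.node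 1 (.one ⟨5600, 1, 2⟩) (.one ⟨12386, 0, 1⟩)))) (.node 4 (.node 2 (.node 1 (.one ⟨6149, 0, 2⟩) (.one ⟨1691, 1, 0⟩)) (.node 1 (.one ⟨3112, 0, 1⟩) (.one ⟨16849, 0, 3⟩))) (.node 2 (.node 1 (.one ⟨2753, 0, 3⟩) (.one ⟨4071, 1, 2⟩)) (.node 1 (.one ⟨3305, 1, 0⟩) (.one ⟨1218, 0, 2⟩)))))) (.node 16 (.node 8 (.node 4 (.node 2 (.node 1 (.one ⟨587, 0, 1⟩) (.one ⟨1547, 0, 2⟩)) (.node 1 (.one ⟨9182, 1, 1⟩) (.one ⟨15967, 1, 2⟩))) (.node 2 (.node 1 (.one ⟨13637, 1, 2⟩) (.one ⟨1132, 0, 0⟩)) (.node 1 (.one ⟨3422, 1, 0⟩) (.one ⟨16165, 1, 2⟩)))) (.node 4 (.node 2 (.node 1 (.one ⟨746, 0, 0⟩) (.one ⟨15808, 0, 3⟩)) (.node 1 (.one ⟨14818, 0, 1⟩) (.one ⟨2499, 1, 1⟩))) (.node 2 (.node 1 (.one ⟨11751, 0, 1⟩) (.one ⟨5368, 0, 1⟩)) (.node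 1 (.one ⟨2586, 0, 3⟩) (.one ⟨15601, 1, 2⟩))))) (.node 8 (.node 4 (.node 2 (.node 1 (.one ⟨7324, 1, 2⟩) (.one ⟨2562, 1, 1⟩)) (.node 1 (.one ⟨14870, 0, 1⟩) (.one ⟨6592, 1, 1⟩))) (.node 2 (.node 1 (.one ⟨3236, 1, 0⟩) (.one ⟨9584, 1, 1⟩)) (.node 1 (.one ⟨1851, 1, 1⟩) (.one ⟨7465, 1, 1⟩)))) (.node 4 (.node 2 (.node 1 (.one ⟨5360, 1, 1⟩) (.one ⟨116, 0, 0⟩)) (.node 1 (.one ⟨4057, 1, 1⟩) (.one ⟨1734, 0, 3⟩))) (.node 2 (.node 1 (.one ⟨8408, 1, 1⟩) (.one ⟨2922, 1, 0⟩)) (.node 1 (.one ⟨2144, 1, 0⟩) (.one ⟨10771, 1, 1⟩)))))))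
def par5_6_6 : Arr Par :=
  (.node 32 (.node 16 (.node 8 (.node 4 (.node 2 (.node 1 (.one ⟨3175, 1, 0⟩) (.one ⟨3810, 0, 2⟩)) (.node 1 (.one ⟨3269, 1, 2⟩) (.one ⟨11034, 1, 2⟩))) (.node 2 (.node 1 (.one ⟨2561, 0, 1⟩) (.one ⟨4972, 0, 1⟩)) (.node 1 (.one ⟨1080, 1, 1⟩) (.one ⟨10385, 0, 2⟩)))) (.node 4 (.node 2 (.node 1 (.one ⟨14865, 0, 2⟩) (.one ⟨4183, 0, 3⟩)) (.node 1 (.one ⟨8687, 0, 1⟩) (.one ⟨10358, 1, 2⟩))) (.node 2 (.node 1 (.one ⟨15278, 0, 2⟩) (.one ⟨3758, 1, 2⟩)) (.node 1 (.one ⟨9085, 0, 2⟩) (.one ⟨1984, 0, 0⟩))))) (.node 8 (.node 4 (.node 2 (.node 1 (.one ⟨7157, 0, 1⟩) (.one ⟨12915, 0, 2⟩)) (.node 1 (.one ⟨14500, 1, 2⟩) (.one ⟨15852, 0, 3⟩))) (.node 2 (.node 1 (.one ⟨9103, 0, 3⟩) (.one ⟨11078, 0, 3⟩)) (.node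 1 (.one ⟨2346, 0, 3⟩) (.one ⟨3299, 1, 0⟩)))) (.node 4 (.node 2 (.node 1 (.one ⟨1846, 0, 3⟩) (.one ⟨13073, 0, 3⟩)) (.node 1 (.one ⟨9585, 1, 1⟩) (.one ⟨3176, 1, 0⟩))) (.node 2 (.node 1 (.one ⟨16024, 0, 3⟩) (.one ⟨1398, 1, 0⟩)) (.node 1 (.one ⟨12800, 0, 2⟩) (.one ⟨10398, 1, 1⟩)))))) (.node 16 (.node 8 (.node 4 (.node 2 (.node 1 (.one ⟨3727, 1, 1⟩) (.one ⟨450, 0, 0⟩)) (.node 1 (.one ⟨4247, 1, 2⟩) (.one ⟨7890, 0, 2⟩))) (.node 2 (.node 1 (.one ⟨16933, 1, 1⟩) (.one ⟨2790, 1, 0⟩)) (.node 1 (.one ⟨4370, 0, 0⟩) (.one ⟨2102, 1, 0⟩)))) (.node 4 (.node 2 (.node 1 (.one ⟨16933, 0, 1⟩) (.one ⟨2962, 1, 1⟩)) (.node 1 (.one ⟨14233, 1, 1⟩) (.one ⟨3122, 0, 1⟩))) (.node 2 (.node 1 (.one ⟨4915, 0, 1⟩) (.one ⟨9663, 0, 2⟩)) (.node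 1 (.one ⟨1084, 1, 1⟩) (.one ⟨1242, 0, 1⟩))))) (.node 8 (.node 4 (.node 2 (.node 1 (.one ⟨972, 0, 0⟩) (.one ⟨14150, 1, 1⟩)) (.node 1 (.one ⟨749, 0, 1⟩) (.one ⟨2995, 1, 1⟩))) (.node 2 (.node 1 (.one ⟨2150, 0, 3⟩) (.one ⟨3522, 1, 0⟩)) (.node 1 (.one ⟨2016, 0, 1⟩) (.one ⟨6801, 0, 2⟩)))) (.node 4 (.node 2 (.node 1 (.one ⟨1271, 0, 1⟩) (.one ⟨13890, 1, 2⟩)) (.node 1 (.one ⟨3575, 0, 3⟩) (.one ⟨8491, 0, 3⟩))) (.node 2 (.node 1 (.one ⟨13818, 1, 1⟩) (.one ⟨6795, 0, 3⟩)) (.node 1 (.one ⟨1651, 1, 2⟩) (.one ⟨13822, 1, 1⟩)))))))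
def par5_6_7 : Arr Par :=
  (.node 32 (.node 16 (.node 8 (.node 4 (.node 2 (.node 1 (.one ⟨2422, 1, 0⟩) (.one ⟨13601, 0, 3⟩)) (.node 1 (.one ⟨16759, 0, 2⟩) (.one ⟨14283, 0, 1⟩))) (.node 2 (.node 1 (.one ⟨9579, 0, 2⟩) (.one ⟨15347, 1, 1⟩)) (.node 1 (.one ⟨10753, 0, 1⟩) (.one ⟨2426, 1, 2⟩)))) (.node 4 (.node 2 (.node 1 (.one ⟨16042, 0, 3⟩) (.one ⟨15452, 1, 2⟩)) (.node 1 (.one ⟨12268, 0, 1⟩) (.one ⟨2227, 1, 0⟩))) (.node 2 (.node 1 (.one ⟨16908, 0, 1⟩) (.one ⟨9134, 1, 2⟩)) (.node 1 (.one ⟨12775, 0, 3⟩) (.one ⟨10054, 0, 3⟩))))) (.node 8 (.node 4 (.node 2 (.node 1 (.one ⟨7046, 1, 2⟩) (.one ⟨199, 1, 0⟩)) (.node 1 (.one ⟨9718, 0, 1⟩) (.one ⟨15174, 1, 1⟩))) (.node 2 (.node 1 (.one ⟨2139, 1, 0⟩) (.one ⟨6554, 0, 2⟩))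 (.node 1 (.one ⟨14611, 1, 2⟩) (.one ⟨11091, 1, 1⟩)))) (.node 4 (.node 2 (.node 1 (.one ⟨11677, 0, 3⟩) (.one ⟨10349, 0, 3⟩)) (.node 1 (.one ⟨5364, 0, 1⟩) (.one ⟨10060, 0, 3⟩))) (.node 2 (.node 1 (.one ⟨3807, 1, 1⟩) (.one ⟨3125, 0, 3⟩)) (.node 1 (.one ⟨12396, 0, 2⟩) (.one ⟨13966, 0, 3⟩)))))) (.node 16 (.node 8 (.node 4 (.node 2 (.node 1 (.one ⟨3657, 1, 0⟩) (.one ⟨5115, 0, 3⟩)) (.node 1 (.one ⟨16975, 0, 3⟩) (.one ⟨7382, 1, 1⟩))) (.node 2 (.node 1 (.one ⟨1587, 0, 2⟩) (.one ⟨5049, 0, 3⟩)) (.node 1 (.one ⟨17044, 0, 2⟩) (.one ⟨7154, 1, 1⟩)))) (.node 4 (.node 2 (.node 1 (.one ⟨12542, 0, 2⟩) (.one ⟨5345, 1, 0⟩)) (.node 1 (.one ⟨5954, 0, 1⟩) (.one ⟨8048, 0, 3⟩))) (.node 2 (.node 1 (.one ⟨224, 0, 1⟩) (.one ⟨10547, 0,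 1⟩)) (.node 1 (.one ⟨10696, 1, 1⟩) (.one ⟨1347, 0, 1⟩))))) (.node 8 (.node 4 (.node 2 (.node 1 (.one ⟨7057, 0, 2⟩) (.one ⟨7003, 0, 3⟩)) (.node 1 (.one ⟨1666, 0, 1⟩) (.one ⟨7023, 0, 2⟩))) (.node 2 (.node 1 (.one ⟨928, 0, 1⟩) (.one ⟨1584, 0, 1⟩)) (.node 1 (.one ⟨6965, 0, 1⟩) (.one ⟨15403, 0, 3⟩)))) (.node 4 (.node 2 (.node 1 (.one ⟨3292, 1, 0⟩) (.one ⟨16544, 0, 3⟩)) (.node 1 (.one ⟨12814, 1, 2⟩) (.one ⟨4891, 1, 1⟩))) (.node 2 (.node 1 (.one ⟨17101, 0, 2⟩) (.one ⟨3124, 0, 3⟩)) (.node 1 (.one ⟨14929, 0, 3⟩) (.one ⟨14583, 0, 3⟩)))))))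
def par5_6_8 : Arr Par :=
  (.node 32 (.node 16 (.node 8 (.node 4 (.node 2 (.node 1 (.one ⟨7742, 1, 1⟩) (.one ⟨14584, 0, 2⟩)) (.node 1 (.one ⟨14585, 0, 2⟩) (.one ⟨14587, 0, 3⟩))) (.node 2 (.node 1 (.one ⟨14590, 0, 3⟩) (.one ⟨14588, 0, 3⟩)) (.node 1 (.one ⟨14589, 0, 3⟩) (.one ⟨10987, 1, 2⟩)))) (.node 4 (.node 2 (.node 1 (.one ⟨11829, 0, 2⟩) (.one ⟨14922, 0, 3⟩)) (.node 1 (.one ⟨5845, 0, 3⟩) (.one ⟨3343, 1, 0⟩))) (.node 2 (.node 1 (.one ⟨13948, 0, 2⟩) (.one ⟨13148, 1, 1⟩)) (.node 1 (.one ⟨3867, 0, 2⟩) (.one ⟨2463, 1, 1⟩))))) (.node 8 (.node 4 (.node 2 (.node 1 (.one ⟨16496, 0, 3⟩) (.one ⟨7060, 1, 1⟩)) (.node 1 (.one ⟨691, 1, 0⟩) (.one ⟨5323, 0, 2⟩))) (.node 2 (.node 1 (.one ⟨10011, 1, 2⟩) (.one ⟨4638, 0, 2⟩))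 (.node 1 (.one ⟨15265, 1, 2⟩) (.one ⟨5108, 0, 1⟩)))) (.node 4 (.node 2 (.node 1 (.one ⟨6783, 0, 3⟩) (.one ⟨1235, 0, 3⟩)) (.node 1 (.one ⟨8223, 0, 2⟩) (.one ⟨1654, 1, 1⟩))) (.node 2 (.node 1 (.one ⟨7803, 0, 3⟩) (.one ⟨4567, 0, 3⟩)) (.node 1 (.one ⟨7467, 0, 2⟩) (.one ⟨6432, 0, 3⟩)))))) (.node 16 (.node 8 (.node 4 (.node 2 (.node 1 (.one ⟨10148, 0, 3⟩) (.one ⟨14525, 0, 3⟩)) (.node 1 (.one ⟨4255, 1, 2⟩) (.one ⟨12122, 0, 3⟩))) (.node 2 (.node 1 (.one ⟨972, 1, 1⟩) (.one ⟨4225, 0, 3⟩)) (.node 1 (.one ⟨1436, 1, 0⟩) (.one ⟨8871, 0, 2⟩)))) (.node 4 (.node 2 (.node 1 (.one ⟨10556, 0, 2⟩) (.one ⟨2259, 0, 1⟩)) (.node 1 (.one ⟨2697, 1, 0⟩) (.one ⟨2368, 1, 1⟩))) (.node 2 (.node 1 (.one ⟨13639, 0, 3⟩) (.one ⟨10254, 1, 1⟩))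 (.node 1 (.one ⟨5344, 1, 2⟩) (.one ⟨9142, 0, 1⟩))))) (.node 8 (.node 4 (.node 2 (.node 1 (.one ⟨15686, 0, 2⟩) (.one ⟨9284, 0, 1⟩)) (.node 1 (.one ⟨210, 1, 2⟩) (.one ⟨84, 0, 1⟩))) (.node 2 (.node 1 (.one ⟨7624, 0, 1⟩) (.one ⟨1281, 0, 1⟩)) (.node 1 (.one ⟨7606, 0, 3⟩) (.one ⟨13571, 0, 3⟩)))) (.node 4 (.node 2 (.node 1 (.one ⟨2714, 1, 2⟩) (.one ⟨2272, 1, 0⟩)) (.node 1 (.one ⟨3124, 0, 0⟩) (.one ⟨2147, 0, 0⟩))) (.node 2 (.node 1 (.one ⟨3518, 1, 0⟩) (.one ⟨3082, 1, 2⟩)) (.node 1 (.one ⟨3870, 1, 2⟩) (.one ⟨10763, 0, 2⟩)))))))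
def par5_6_9 : Arr Par :=
  (.node 32 (.node 16 (.node 8 (.node 4 (.node 2 (.node 1 (.one ⟨481, 1, 0⟩) (.one ⟨14792, 1, 1⟩)) (.node 1 (.one ⟨15251, 1, 2⟩) (.one ⟨745, 1, 0⟩))) (.node 2 (.node 1 (.one ⟨5529, 0, 3⟩) (.one ⟨12688, 0, 3⟩)) (.node 1 (.one ⟨9645, 1, 2⟩) (.one ⟨7602, 0, 2⟩)))) (.node 4 (.node 2 (.node 1 (.one ⟨8173, 0, 1⟩) (.one ⟨518, 0, 2⟩)) (.node 1 (.one ⟨3560, 1, 0⟩) (.one ⟨11987, 0, 1⟩))) (.node 2 (.node 1 (.one ⟨11594, 0, 1⟩) (.one ⟨14339, 0, 2⟩)) (.node 1 (.one ⟨13799, 0, 2⟩) (.one ⟨9275, 0, 1⟩))))) (.node 8 (.node 4 (.node 2 (.node 1 (.one ⟨9970, 1, 1⟩) (.one ⟨5199, 1, 0⟩)) (.node 1 (.one ⟨9486, 1, 1⟩) (.one ⟨13550, 0, 2⟩))) (.node 2 (.node 1 (.one ⟨8297, 0, 3⟩) (.one ⟨11156, 1, 2⟩)) (.node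 1 (.one ⟨7472, 0, 2⟩) (.one ⟨9454, 1, 1⟩)))) (.node 4 (.node 2 (.node 1 (.one ⟨6823, 1, 1⟩) (.one ⟨3368, 1, 1⟩)) (.node 1 (.one ⟨3091, 1, 0⟩) (.one ⟨9817, 0, 1⟩))) (.node 2 (.node 1 (.one ⟨1537, 1, 0⟩) (.one ⟨8786, 0, 1⟩)) (.node 1 (.one ⟨3162, 0, 3⟩) (.one ⟨1638, 1, 0⟩)))))) (.node 16 (.node 8 (.node 4 (.node 2 (.node 1 (.one ⟨3109, 1, 2⟩) (.one ⟨11508, 1, 1⟩)) (.node 1 (.one ⟨1579, 0, 3⟩) (.one ⟨7986, 0, 3⟩))) (.node 2 (.node 1 (.one ⟨1322, 1, 1⟩) (.one ⟨12872, 0, 1⟩)) (.node 1 (.one ⟨9843, 0, 3⟩) (.one ⟨3698, 0, 3⟩)))) (.node 4 (.node 2 (.node 1 (.one ⟨2927, 0, 1⟩) (.one ⟨674, 1, 1⟩)) (.node 1 (.one ⟨3668, 0, 1⟩) (.one ⟨701, 0, 1⟩))) (.node 2 (.node 1 (.one ⟨4531, 0, 1⟩) (.one ⟨1031, 1, 1⟩)) (.node 1 (.one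 ⟨531, 1, 1⟩) (.one ⟨2381, 1, 2⟩))))) (.node 8 (.node 4 (.node 2 (.node 1 (.one ⟨8805, 0, 1⟩) (.one ⟨597, 1, 0⟩)) (.node 1 (.one ⟨14845, 1, 2⟩) (.one ⟨484, 1, 0⟩))) (.node 2 (.node 1 (.one ⟨2404, 1, 1⟩) (.one ⟨4335, 1, 0⟩)) (.node 1 (.one ⟨9470, 0, 1⟩) (.one ⟨8593, 1, 1⟩)))) (.node 4 (.node 2 (.node 1 (.one ⟨3135, 0, 3⟩) (.one ⟨807, 0, 1⟩)) (.node 1 (.one ⟨980, 1, 0⟩) (.one ⟨3955, 0, 3⟩))) (.node 2 (.node 1 (.one ⟨7692, 1, 2⟩) (.one ⟨10998, 1, 1⟩)) (.node 1 (.one ⟨4728, 0, 2⟩) (.one ⟨10104, 1, 2⟩)))))))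
def par5_6_10 : Arr Par :=
  (.node 32 (.node 16 (.node 8 (.node 4 (.node 2 (.node 1 (.one ⟨9216, 1, 2⟩) (.one ⟨2048, 1, 2⟩)) (.node 1 (.one ⟨209, 1, 2⟩) (.one ⟨6923, 1, 2⟩))) (.node 2 (.node 1 (.one ⟨6707, 1, 2⟩) (.one ⟨14973, 1, 2⟩)) (.node 1 (.one ⟨14798, 1, 2⟩) (.one ⟨2360, 1, 0⟩)))) (.node 4 (.node 2 (.node 1 (.one ⟨3836, 1, 1⟩) (.one ⟨17069, 0, 1⟩)) (.node 1 (.one ⟨230, 0, 1⟩) (.one ⟨6399, 1, 2⟩))) (.node 2 (.node 1 (.one ⟨8325, 1, 2⟩) (.one ⟨7589, 1, 2⟩)) (.node 1 (.one ⟨7556, 0, 1⟩) (.one ⟨15486, 1, 2⟩))))) (.node 8 (.node 4 (.node 2 (.node 1 (.one ⟨11420, 0, 3⟩) (.one ⟨1319, 1, 1⟩)) (.node 1 (.one ⟨14368, 0, 3⟩) (.one ⟨14629, 1, 2⟩))) (.node 2 (.node 1 (.one ⟨11237, 0, 3⟩) (.one ⟨6726, 0, 3⟩)) (.node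 1 (.one ⟨1422, 1, 0⟩) (.one ⟨951, 1, 2⟩)))) (.node 4 (.node 2 (.node 1 (.one ⟨6763, 1, 2⟩) (.one ⟨13156, 0, 2⟩)) (.node 1 (.one ⟨535, 1, 1⟩) (.one ⟨944, 1, 2⟩))) (.node 2 (.node 1 (.one ⟨6764, 1, 2⟩) (.one ⟨6760, 1, 2⟩)) (.node 1 (.one ⟨516, 1, 2⟩) (.one ⟨6566, 0, 1⟩)))))) (.node 16 (.node 8 (.node 4 (.node 2 (.node 1 (.one ⟨15900, 1, 2⟩) (.one ⟨16675, 0, 1⟩)) (.node 1 (.one ⟨9481, 1, 1⟩) (.one ⟨2829, 1, 0⟩))) (.node 2 (.node 1 (.one ⟨3828, 0, 1⟩) (.one ⟨11433, 0, 2⟩)) (.node 1 (.one ⟨1045, 1, 0⟩) (.one ⟨4486, 1, 0⟩)))) (.node 4 (.node 2 (.node 1 (.one ⟨6321, 0, 1⟩) (.one ⟨9450, 1, 1⟩)) (.node 1 (.one ⟨16351, 0, 1⟩) (.one ⟨1773, 1, 0⟩))) (.node 2 (.node 1 (.one ⟨15047, 0, 1⟩) (.one ⟨12604, 0, 3⟩)) (.node 1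 (.one ⟨8401, 0, 1⟩) (.one ⟨4600, 0, 3⟩))))) (.node 8 (.node 4 (.node 2 (.node 1 (.one ⟨965, 0, 1⟩) (.one ⟨2921, 1, 2⟩)) (.node 1 (.one ⟨1962, 0, 2⟩) (.one ⟨9809, 1, 2⟩))) (.node 2 (.node 1 (.one ⟨14861, 0, 1⟩) (.one ⟨16172, 0, 2⟩)) (.node 1 (.one ⟨15105, 0, 3⟩) (.one ⟨10419, 0, 3⟩)))) (.node 4 (.node 2 (.node 1 (.one ⟨10346, 0, 1⟩) (.one ⟨1841, 1, 1⟩)) (.node 1 (.one ⟨180, 0, 0⟩) (.one ⟨3016, 0, 0⟩))) (.node 2 (.node 1 (.one ⟨2739, 1, 1⟩) (.one ⟨14800, 0, 3⟩)) (.node 1 (.one ⟨14684, 0, 2⟩) (.one ⟨7073, 0, 2⟩)))))))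
def par5_6_11 : Arr Par :=
  (.node 32 (.node 16 (.node 8 (.node 4 (.node 2 (.node 1 (.one ⟨15640, 1, 1⟩) (.one ⟨3579, 0, 3⟩)) (.node 1 (.one ⟨8616, 0, 1⟩) (.one ⟨13753, 1, 1⟩))) (.node 2 (.node 1 (.one ⟨3483, 1, 2⟩) (.one ⟨3040, 1, 0⟩)) (.node 1 (.one ⟨10813, 0, 2⟩) (.one ⟨3646, 1, 0⟩)))) (.node 4 (.node 2 (.node 1 (.one ⟨2305, 1, 2⟩) (.one ⟨246, 0, 0⟩)) (.node 1 (.one ⟨7570, 1, 1⟩) (.one ⟨6936, 0, 3⟩))) (.node 2 (.node 1 (.one ⟨5089, 0, 1⟩) (.one ⟨899, 1, 1⟩)) (.node 1 (.one ⟨16716, 0, 2⟩) (.one ⟨2935, 1, 1⟩))))) (.node 8 (.node 4 (.node 2 (.node 1 (.one ⟨3350, 1, 2⟩) (.one ⟨11906, 0, 1⟩)) (.node 1 (.one ⟨5147, 0, 3⟩) (.one ⟨14466, 0, 1⟩))) (.node 2 (.node 1 (.one ⟨1914, 1, 1⟩) (.one ⟨6117, 0, 2⟩)) (.node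 1 (.one ⟨15384, 0, 3⟩) (.one ⟨5940, 0, 1⟩)))) (.node 4 (.node 2 (.node 1 (.one ⟨15221, 1, 1⟩) (.one ⟨10481, 1, 2⟩)) (.node 1 (.one ⟨11036, 1, 2⟩) (.one ⟨9157, 0, 1⟩))) (.node 2 (.node 1 (.one ⟨14324, 1, 2⟩) (.one ⟨16877, 0, 1⟩)) (.node 1 (.one ⟨14009, 0, 3⟩) (.one ⟨8968, 1, 2⟩)))))) (.node 16 (.node 8 (.node 4 (.node 2 (.node 1 (.one ⟨13130, 0, 2⟩) (.one ⟨10332, 0, 2⟩)) (.node 1 (.one ⟨8400, 0, 3⟩) (.one ⟨6557, 0, 1⟩))) (.node 2 (.node 1 (.one ⟨17181, 1, 1⟩) (.one ⟨9984, 0, 1⟩)) (.node 1 (.one ⟨9095, 0, 3⟩) (.one ⟨11515, 0, 1⟩)))) (.node 4 (.node 2 (.node 1 (.one ⟨15422, 0, 1⟩) (.one ⟨10212, 0, 3⟩)) (.node 1 (.one ⟨216, 1, 2⟩) (.one ⟨5939, 0, 2⟩))) (.node 2 (.node 1 (.one ⟨2050, 1, 1⟩) (.one ⟨7555, 0, 2⟩))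 (.node 1 (.one ⟨12035, 1, 1⟩) (.one ⟨12637, 0, 3⟩))))) (.node 8 (.node 4 (.node 2 (.node 1 (.one ⟨12605, 0, 3⟩) (.one ⟨1144, 0, 1⟩)) (.node 1 (.one ⟨1247, 0, 3⟩) (.one ⟨9506, 0, 1⟩))) (.node 2 (.node 1 (.one ⟨9401, 0, 1⟩) (.one ⟨4621, 0, 3⟩)) (.node 1 (.one ⟨4653, 0, 3⟩) (.one ⟨6233, 1, 2⟩)))) (.node 4 (.node 2 (.node 1 (.one ⟨14351, 0, 1⟩) (.one ⟨11338, 1, 2⟩)) (.node 1 (.one ⟨2675, 1, 0⟩) (.one ⟨16159, 0, 3⟩))) (.node 2 (.node 1 (.one ⟨13869, 0, 2⟩) (.one ⟨10537, 1, 2⟩)) (.node 1 (.one ⟨3969, 1, 0⟩) (.one ⟨8179, 1, 1⟩)))))))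
def par5_6_12 : Arr Par :=
  (.node 32 (.node 16 (.node 8 (.node 4 (.node 2 (.node 1 (.one ⟨16413, 1, 2⟩) (.one ⟨8996, 0, 2⟩)) (.node 1 (.one ⟨5514, 1, 1⟩) (.one ⟨14867, 1, 1⟩))) (.node 2 (.node 1 (.one ⟨6883, 1, 2⟩) (.one ⟨515, 1, 1⟩)) (.node 1 (.one ⟨10120, 1, 1⟩) (.one ⟨14369, 0, 3⟩)))) (.node 4 (.node 2 (.node 1 (.one ⟨9513, 0, 1⟩) (.one ⟨14335, 0, 3⟩)) (.node 1 (.one ⟨9394, 0, 3⟩) (.one ⟨1177, 0, 1⟩))) (.node 2 (.node 1 (.one ⟨6241, 0, 3⟩) (.one ⟨37, 0, 2⟩)) (.node 1 (.one ⟨6209, 0, 3⟩) (.one ⟨4300, 0, 1⟩))))) (.node 8 (.node 4 (.node 2 (.node 1 (.one ⟨1013, 0, 1⟩) (.one ⟨13615, 1, 2⟩)) (.node 1 (.one ⟨1859, 1, 0⟩) (.one ⟨7058, 0, 3⟩))) (.node 2 (.node 1 (.one ⟨8912, 0, 2⟩) (.one ⟨4842, 0, 2⟩)) (.node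 1 (.one ⟨3495, 0, 2⟩) (.one ⟨13909, 0, 1⟩)))) (.node 4 (.node 2 (.node 1 (.one ⟨6985, 1, 2⟩) (.one ⟨12440, 1, 1⟩)) (.node 1 (.one ⟨13398, 1, 2⟩) (.one ⟨6667, 0, 1⟩))) (.node 2 (.node 1 (.one ⟨13658, 1, 2⟩) (.one ⟨5450, 0, 1⟩)) (.node 1 (.one ⟨12023, 0, 2⟩) (.one ⟨8133, 0, 3⟩)))))) (.node 16 (.node 8 (.node 4 (.node 2 (.node 1 (.one ⟨40, 1, 1⟩) (.one ⟨266, 0, 1⟩)) (.node 1 (.one ⟨2066, 0, 1⟩) (.one ⟨14739, 0, 1⟩))) (.node 2 (.node 1 (.one ⟨15107, 0, 2⟩) (.one ⟨11105, 1, 2⟩)) (.node 1 (.one ⟨13386, 0, 3⟩) (.one ⟨2010, 0, 3⟩)))) (.node 4 (.node 2 (.node 1 (.one ⟨15537, 0, 3⟩) (.one ⟨659, 1, 1⟩)) (.node 1 (.one ⟨3133, 0, 2⟩) (.one ⟨3236, 1, 2⟩))) (.node 2 (.node 1 (.one ⟨15632, 0, 2⟩) (.one ⟨13996, 0, 2⟩)) (.node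 1 (.one ⟨3227, 0, 1⟩) (.one ⟨452, 0, 1⟩))))) (.node 8 (.node 4 (.node 2 (.node 1 (.one ⟨7027, 0, 1⟩) (.one ⟨6007, 1, 2⟩)) (.node 1 (.one ⟨14079, 0, 3⟩) (.one ⟨13953, 0, 1⟩))) (.node 2 (.node 1 (.one ⟨10972, 0, 1⟩) (.one ⟨2369, 1, 0⟩)) (.node 1 (.one ⟨424, 1, 0⟩) (.one ⟨16658, 0, 2⟩)))) (.node 4 (.node 2 (.node 1 (.one ⟨9271, 0, 1⟩) (.one ⟨13842, 1, 2⟩)) (.node 1 (.one ⟨14612, 0, 2⟩) (.one ⟨3308, 1, 0⟩))) (.node 2 (.node 1 (.one ⟨11533, 0, 1⟩) (.one ⟨429, 1, 2⟩)) (.node 1 (.one ⟨6598, 1, 2⟩) (.one ⟨3933, 0, 3⟩)))))))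
def par5_6_13 : Arr Par :=
  (.node 32 (.node 16 (.node 8 (.node 4 (.node 2 (.node 1 (.one ⟨13845, 1, 2⟩) (.one ⟨3555, 0, 1⟩)) (.node 1 (.one ⟨10436, 1, 1⟩) (.one ⟨11538, 1, 1⟩))) (.node 2 (.node 1 (.one ⟨4897, 1, 0⟩) (.one ⟨15112, 1, 1⟩)) (.node 1 (.one ⟨4469, 0, 2⟩) (.one ⟨15500, 0, 3⟩)))) (.node 4 (.node 2 (.node 1 (.one ⟨8623, 0, 3⟩) (.one ⟨12266, 0, 1⟩)) (.node 1 (.one ⟨8591, 1, 2⟩) (.one ⟨1781, 0, 1⟩))) (.node 2 (.node 1 (.one ⟨3381, 1, 0⟩) (.one ⟨4958, 1, 2⟩)) (.node 1 (.one ⟨2904, 0, 0⟩) (.one ⟨7144, 1, 1⟩))))) (.node 8 (.node 4 (.node 2 (.node 1 (.one ⟨12226, 1, 2⟩) (.one ⟨16760, 0, 1⟩)) (.node 1 (.one ⟨15855, 0, 3⟩) (.one ⟨13724, 0, 2⟩))) (.node 2 (.node 1 (.one ⟨14910, 0, 2⟩) (.one ⟨10754, 0, 2⟩))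 (.node 1 (.one ⟨11425, 0, 3⟩) (.one ⟨13323, 0, 3⟩)))) (.node 4 (.node 2 (.node 1 (.one ⟨12826, 0, 1⟩) (.one ⟨1216, 0, 3⟩)) (.node 1 (.one ⟨2392, 0, 3⟩) (.one ⟨3174, 1, 2⟩))) (.node 2 (.node 1 (.one ⟨10166, 1, 1⟩) (.one ⟨16230, 0, 3⟩)) (.node 1 (.one ⟨15725, 0, 3⟩) (.one ⟨1735, 0, 3⟩)))))) (.node 16 (.node 8 (.node 4 (.node 2 (.node 1 (.one ⟨13741, 0, 2⟩) (.one ⟨9948, 0, 3⟩)) (.node 1 (.one ⟨6140, 0, 3⟩) (.one ⟨5476, 0, 3⟩))) (.node 2 (.node 1 (.one ⟨3708, 1, 0⟩) (.one ⟨11531, 1, 2⟩)) (.node 1 (.one ⟨8989, 0, 1⟩) (.one ⟨7423, 0, 3⟩)))) (.node 4 (.node 2 (.node 1 (.one ⟨7427, 0, 3⟩) (.one ⟨7426, 0, 2⟩)) (.node 1 (.one ⟨7430, 0, 3⟩) (.one ⟨7424, 0, 2⟩))) (.node 2 (.node 1 (.one ⟨7428, 0, 3⟩) (.one ⟨7425, 0, 3⟩))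 (.node 1 (.one ⟨7429, 0, 3⟩) (.one ⟨2927, 1, 1⟩))))) (.node 8 (.node 4 (.node 2 (.node 1 (.one ⟨13366, 1, 2⟩) (.one ⟨2099, 0, 2⟩)) (.node 1 (.one ⟨14054, 0, 1⟩) (.one ⟨2745, 1, 0⟩))) (.node 2 (.node 1 (.one ⟨3067, 0, 0⟩) (.one ⟨262, 0, 1⟩)) (.node 1 (.one ⟨13777, 0, 1⟩) (.one ⟨1752, 1, 0⟩)))) (.node 4 (.node 2 (.node 1 (.one ⟨13516, 0, 1⟩) (.one ⟨12483, 0, 3⟩)) (.node 1 (.one ⟨9971, 1, 1⟩) (.one ⟨3643, 1, 0⟩))) (.node 2 (.node 1 (.one ⟨13961, 1, 2⟩) (.one ⟨8629, 0, 3⟩)) (.node 1 (.one ⟨17096, 0, 2⟩) (.one ⟨11028, 1, 2⟩)))))))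
def par5_6_14 : Arr Par :=
  (.node 32 (.node 16 (.node 8 (.node 4 (.node 2 (.node 1 (.one ⟨6968, 1, 2⟩) (.one ⟨10276, 0, 2⟩)) (.node 1 (.one ⟨993, 1, 2⟩) (.one ⟨14017, 1, 2⟩))) (.node 2 (.node 1 (.one ⟨2054, 1, 2⟩) (.one ⟨5121, 0, 2⟩)) (.node 1 (.one ⟨2463, 0, 1⟩) (.one ⟨10897, 0, 3⟩)))) (.node 4 (.node 2 (.node 1 (.one ⟨11310, 0, 2⟩) (.one ⟨278, 1, 0⟩)) (.node 1 (.one ⟨6528, 1, 1⟩) (.one ⟨11520, 1, 1⟩))) (.node 2 (.node 1 (.one ⟨15130, 1, 2⟩) (.one ⟨3363, 1, 0⟩)) (.node 1 (.one ⟨6756, 0, 2⟩) (.one ⟨8917, 1, 2⟩))))) (.node 8 (.node 4 (.node 2 (.node 1 (.one ⟨12758, 0, 3⟩) (.one ⟨3862, 1, 1⟩)) (.node 1 (.one ⟨12434, 1, 2⟩) (.one ⟨5216, 1, 0⟩))) (.node 2 (.node 1 (.one ⟨2576, 1, 0⟩) (.one ⟨16019, 0, 2⟩)) (.node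 1 (.one ⟨2601, 1, 1⟩) (.one ⟨12600, 0, 3⟩)))) (.node 4 (.node 2 (.node 1 (.one ⟨15414, 0, 3⟩) (.one ⟨12392, 0, 2⟩)) (.node 1 (.one ⟨4413, 1, 2⟩) (.one ⟨839, 0, 0⟩))) (.node 2 (.node 1 (.one ⟨992, 1, 2⟩) (.one ⟨10922, 1, 2⟩)) (.node 1 (.one ⟨15053, 1, 2⟩) (.one ⟨12793, 0, 3⟩)))))) (.node 16 (.node 8 (.node 4 (.node 2 (.node 1 (.one ⟨17094, 0, 2⟩) (.one ⟨6009, 1, 1⟩)) (.node 1 (.one ⟨3189, 0, 2⟩) (.one ⟨6517, 0, 2⟩))) (.node 2 (.node 1 (.one ⟨279, 0, 2⟩) (.one ⟨11973, 0, 2⟩)) (.node 1 (.one ⟨3759, 1, 0⟩) (.one ⟨13410, 1, 1⟩)))) (.node 4 (.node 2 (.node 1 (.one ⟨1844, 0, 2⟩) (.one ⟨1371, 1, 0⟩)) (.node 1 (.one ⟨8845, 0, 1⟩) (.one ⟨6584, 1, 2⟩))) (.node 2 (.node 1 (.one ⟨8210, 1, 2⟩) (.one ⟨7382, 0, 1⟩)) (.node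 1 (.one ⟨2052, 1, 0⟩) (.one ⟨10764, 0, 2⟩))))) (.node 8 (.node 4 (.node 2 (.node 1 (.one ⟨7734, 0, 1⟩) (.one ⟨2928, 0, 1⟩)) (.node 1 (.one ⟨7385, 1, 2⟩) (.one ⟨879, 0, 1⟩))) (.node 2 (.node 1 (.one ⟨4592, 1, 0⟩) (.one ⟨6768, 1, 2⟩)) (.node 1 (.one ⟨9786, 1, 2⟩) (.one ⟨14321, 1, 2⟩)))) (.node 4 (.node 2 (.node 1 (.one ⟨984, 1, 0⟩) (.one ⟨12352, 1, 2⟩)) (.node 1 (.one ⟨15894, 0, 2⟩) (.one ⟨5691, 0, 3⟩))) (.node 2 (.node 1 (.one ⟨12728, 1, 2⟩) (.one ⟨4282, 1, 2⟩)) (.node 1 (.one ⟨14979, 1, 2⟩) (.one ⟨1614, 0, 1⟩)))))))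
def par5_6_15 : Arr Par :=
  (.node 32 (.node 16 (.node 8 (.node 4 (.node 2 (.node 1 (.one ⟨9835, 0, 1⟩) (.one ⟨5748, 0, 2⟩)) (.node 1 (.one ⟨13702, 0, 1⟩) (.one ⟨13012, 1, 2⟩))) (.node 2 (.node 1 (.one ⟨12364, 1, 1⟩) (.one ⟨3359, 1, 0⟩)) (.node 1 (.one ⟨4683, 1, 2⟩) (.one ⟨11698, 0, 1⟩)))) (.node 4 (.node 2 (.node 1 (.one ⟨4471, 1, 0⟩) (.one ⟨906, 1, 0⟩)) (.node 1 (.one ⟨631, 1, 0⟩) (.one ⟨7053, 0, 1⟩))) (.node 2 (.node 1 (.one ⟨15712, 1, 2⟩) (.one ⟨8454, 0, 3⟩)) (.node 1 (.one ⟨15631, 0, 3⟩) (.one ⟨13664, 1, 2⟩))))) (.node 8 (.node 4 (.node 2 (.node 1 (.one ⟨2829, 0, 1⟩) (.one ⟨11121, 0, 1⟩)) (.node 1 (.one ⟨6568, 1, 2⟩) (.one ⟨1225, 0, 1⟩))) (.node 2 (.node 1 (.one ⟨4069, 0, 1⟩) (.one ⟨12507, 0, 1⟩)) (.node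 1 (.one ⟨10013, 0, 1⟩) (.one ⟨15708, 1, 2⟩)))) (.node 4 (.node 2 (.node 1 (.one ⟨12595, 0, 2⟩) (.one ⟨1468, 0, 1⟩)) (.node 1 (.one ⟨1178, 1, 0⟩) (.one ⟨842, 1, 2⟩))) (.node 2 (.node 1 (.one ⟨12690, 0, 2⟩) (.one ⟨218, 0, 1⟩)) (.node 1 (.one ⟨6771, 1, 1⟩) (.one ⟨219, 1, 2⟩)))))) (.node 16 (.node 8 (.node 4 (.node 2 (.node 1 (.one ⟨15274, 1, 2⟩) (.one ⟨980, 1, 2⟩)) (.node 1 (.one ⟨15276, 1, 2⟩) (.one ⟨15271, 1, 2⟩))) (.node 2 (.node 1 (.one ⟨387, 1, 2⟩) (.one ⟨13575, 0, 2⟩)) (.node 1 (.one ⟨2090, 1, 0⟩) (.one ⟨5654, 0, 1⟩)))) (.node 4 (.node 2 (.node 1 (.one ⟨1357, 1, 0⟩) (.one ⟨11038, 1, 2⟩)) (.node 1 (.one ⟨7854, 0, 2⟩) (.one ⟨14441, 1, 2⟩))) (.node 2 (.node 1 (.one ⟨3600, 0, 3⟩) (.one ⟨1483, 0, 3⟩)) (.node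 1 (.one ⟨3590, 0, 1⟩) (.one ⟨1569, 1, 0⟩))))) (.node 8 (.node 4 (.node 2 (.node 1 (.one ⟨8785, 0, 3⟩) (.one ⟨15953, 0, 3⟩)) (.node 1 (.one ⟨978, 1, 0⟩) (.one ⟨7383, 1, 2⟩))) (.node 2 (.node 1 (.one ⟨3269, 1, 0⟩) (.one ⟨287, 0, 0⟩)) (.node 1 (.one ⟨15159, 1, 2⟩) (.one ⟨6407, 0, 2⟩)))) (.node 4 (.node 2 (.node 1 (.one ⟨14551, 0, 2⟩) (.one ⟨4232, 1, 0⟩)) (.node 1 (.one ⟨1989, 0, 1⟩) (.one ⟨14110, 0, 2⟩))) (.node 2 (.node 1 (.one ⟨1747, 1, 0⟩) (.one ⟨14255, 1, 2⟩)) (.node 1 (.one ⟨916, 1, 0⟩) (.one ⟨11238, 0, 1⟩)))))))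
def par5_6 : Arr Par :=
  (.node 512 (.node 256 (.node 128 (.node 64 par5_6_0 par5_6_1) (.node 64 par5_6_2 par5_6_3)) (.node 128 (.node 64 par5_6_4 par5_6_5) (.node 64 par5_6_6 par5_6_7))) (.node 256 (.node 128 (.node 64 par5_6_8 par5_6_9) (.node 64 par5_6_10 par5_6_11)) (.node 128 (.node 64 par5_6_12 par5_6_13) (.node 64 par5_6_14 par5_6_15))))
def par5_7_0 : Arr Par :=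
  (.node 32 (.node 16 (.node 8 (.node 4 (.node 2 (.node 1 (.one ⟨5995, 1, 1⟩) (.one ⟨1377, 1, 0⟩)) (.node 1 (.one ⟨11302, 0, 1⟩) (.one ⟨4915, 1, 1⟩))) (.node 2 (.node 1 (.one ⟨3496, 0, 0⟩) (.one ⟨12794, 0, 2⟩)) (.node 1 (.one ⟨672, 0, 3⟩) (.one ⟨1336, 0, 1⟩)))) (.node 4 (.node 2 (.node 1 (.one ⟨13101, 0, 3⟩) (.one ⟨9605, 0, 1⟩)) (.node 1 (.one ⟨5013, 0, 1⟩) (.one ⟨16564, 1, 2⟩))) (.node 2 (.node 1 (.one ⟨9445, 0, 1⟩) (.one ⟨12884, 1, 2⟩)) (.node 1 (.one ⟨1432, 0, 1⟩) (.one ⟨3987, 0, 1⟩))))) (.node 8 (.node 4 (.node 2 (.node 1 (.one ⟨12064, 0, 2⟩) (.one ⟨982, 1, 0⟩)) (.node 1 (.one ⟨6416, 0, 1⟩) (.one ⟨9264, 0, 1⟩))) (.node 2 (.node 1 (.one ⟨677, 0, 1⟩) (.one ⟨7730, 0, 1⟩)) (.node 1 (.one ⟨1575, 1, 0⟩) (.one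 ⟨12277, 0, 3⟩)))) (.node 4 (.node 2 (.node 1 (.one ⟨3391, 0, 3⟩) (.one ⟨12904, 0, 3⟩)) (.node 1 (.one ⟨474, 0, 1⟩) (.one ⟨8560, 0, 3⟩))) (.node 2 (.node 1 (.one ⟨14149, 0, 3⟩) (.one ⟨8161, 0, 2⟩)) (.node 1 (.one ⟨2078, 1, 0⟩) (.one ⟨570, 1, 1⟩)))))) (.node 16 (.node 8 (.node 4 (.node 2 (.node 1 (.one ⟨4432, 1, 1⟩) (.one ⟨8583, 0, 2⟩)) (.node 1 (.one ⟨4204, 1, 2⟩) (.one ⟨15214, 1, 1⟩))) (.node 2 (.node 1 (.one ⟨8642, 0, 1⟩) (.one ⟨7348, 0, 3⟩)) (.node 1 (.one ⟨16561, 1, 2⟩) (.one ⟨1715, 0, 2⟩)))) (.node 4 (.node 2 (.node 1 (.one ⟨1317, 0, 0⟩) (.one ⟨7852, 0, 3⟩)) (.node 1 (.one ⟨7689, 1, 2⟩) (.one ⟨14648, 0, 3⟩))) (.node 2 (.node 1 (.one ⟨12902, 0, 3⟩) (.one ⟨4894, 1, 1⟩)) (.node 1 (.one ⟨10092, 1, 2⟩) (.one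 ⟨9999, 0, 3⟩))))) (.node 8 (.node 4 (.node 2 (.node 1 (.one ⟨1378, 1, 0⟩) (.one ⟨14435, 0, 3⟩)) (.node 1 (.one ⟨14436, 0, 1⟩) (.one ⟨14432, 0, 3⟩))) (.node 2 (.node 1 (.one ⟨14431, 0, 3⟩) (.one ⟨10006, 0, 1⟩)) (.node 1 (.one ⟨10005, 0, 3⟩) (.one ⟨1767, 1, 1⟩)))) (.node 4 (.node 2 (.node 1 (.one ⟨7436, 0, 1⟩) (.one ⟨15313, 1, 1⟩)) (.node 1 (.one ⟨869, 1, 1⟩) (.one ⟨12093, 0, 1⟩))) (.node 2 (.node 1 (.one ⟨12449, 1, 1⟩) (.one ⟨9926, 0, 3⟩)) (.node 1 (.one ⟨8644, 0, 1⟩) (.one ⟨13476, 0, 1⟩)))))))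
def par5_7_1 : Arr Par :=
  (.node 32 (.node 16 (.node 8 (.node 4 (.node 2 (.node 1 (.one ⟨8766, 1, 1⟩) (.one ⟨2551, 0, 2⟩)) (.node 1 (.one ⟨16301, 0, 2⟩) (.one ⟨3337, 1, 1⟩))) (.node 2 (.node 1 (.one ⟨15417, 1, 1⟩) (.one ⟨10205, 1, 1⟩)) (.node 1 (.one ⟨6181, 1, 2⟩) (.one ⟨8298, 0, 2⟩)))) (.node 4 (.node 2 (.node 1 (.one ⟨11365, 1, 1⟩) (.one ⟨16560, 0, 1⟩)) (.node 1 (.one ⟨4266, 1, 2⟩) (.one ⟨17154, 0, 3⟩))) (.node 2 (.node 1 (.one ⟨10322, 1, 2⟩) (.one ⟨2950, 1, 1⟩)) (.node 1 (.one ⟨6328, 0, 3⟩) (.one ⟨14011, 1, 1⟩))))) (.node 8 (.node 4 (.node 2 (.node 1 (.one ⟨4403, 1, 1⟩) (.one ⟨1337, 0, 2⟩)) (.node 1 (.one ⟨5474, 0, 3⟩) (.one ⟨1839, 1, 0⟩))) (.node 2 (.node 1 (.one ⟨6013, 0, 1⟩) (.one ⟨13426, 0, 3⟩)) (.node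 1 (.one ⟨9897, 0, 1⟩) (.one ⟨15551, 1, 2⟩)))) (.node 4 (.node 2 (.node 1 (.one ⟨4982, 1, 1⟩) (.one ⟨11983, 1, 1⟩)) (.node 1 (.one ⟨5669, 1, 2⟩) (.one ⟨69, 0, 1⟩))) (.node 2 (.node 1 (.one ⟨2888, 1, 0⟩) (.one ⟨1344, 0, 2⟩)) (.node 1 (.one ⟨4671, 1, 2⟩) (.one ⟨2107, 0, 2⟩)))))) (.node 16 (.node 8 (.node 4 (.node 2 (.node 1 (.one ⟨12412, 1, 2⟩) (.one ⟨16392, 0, 1⟩)) (.node 1 (.one ⟨203, 0, 1⟩) (.one ⟨2975, 1, 0⟩))) (.node 2 (.node 1 (.one ⟨5697, 0, 3⟩) (.one ⟨5937, 0, 1⟩)) (.node 1 (.one ⟨11977, 0, 1⟩) (.one ⟨14028, 0, 2⟩)))) (.node 4 (.node 2 (.node 1 (.one ⟨14027, 0, 2⟩) (.one ⟨14030, 0, 3⟩)) (.node 1 (.one ⟨12531, 1, 2⟩) (.one ⟨14024, 0, 3⟩))) (.node 2 (.node 1 (.one ⟨3804, 1, 0⟩) (.one ⟨14026, 0, 2⟩)) (.node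 1 (.one ⟨14025, 0, 1⟩) (.one ⟨4698, 0, 2⟩))))) (.node 8 (.node 4 (.node 2 (.node 1 (.one ⟨3330, 0, 2⟩) (.one ⟨11638, 0, 1⟩)) (.node 1 (.one ⟨10325, 0, 1⟩) (.one ⟨13589, 0, 2⟩))) (.node 2 (.node 1 (.one ⟨10933, 0, 2⟩) (.one ⟨2250, 1, 0⟩)) (.node 1 (.one ⟨1986, 0, 3⟩) (.one ⟨10467, 0, 2⟩)))) (.node 4 (.node 2 (.node 1 (.one ⟨390, 1, 0⟩) (.one ⟨1765, 1, 0⟩)) (.node 1 (.one ⟨15141, 0, 2⟩) (.one ⟨3765, 1, 0⟩))) (.node 2 (.node 1 (.one ⟨12246, 1, 1⟩) (.one ⟨8784, 1, 2⟩)) (.node 1 (.one ⟨12721, 1, 2⟩) (.one ⟨12695, 0, 3⟩)))))))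
def par5_7_2 : Arr Par :=
  (.node 32 (.node 16 (.node 8 (.node 4 (.node 2 (.node 1 (.one ⟨989, 0, 3⟩) (.one ⟨8820, 0, 3⟩)) (.node 1 (.one ⟨15400, 1, 2⟩) (.one ⟨14267, 0, 3⟩))) (.node 2 (.node 1 (.one ⟨8850, 0, 3⟩) (.one ⟨1179, 0, 3⟩)) (.node 1 (.one ⟨12669, 0, 3⟩) (.one ⟨15742, 0, 2⟩)))) (.node 4 (.node 2 (.node 1 (.one ⟨16699, 1, 1⟩) (.one ⟨3605, 0, 1⟩)) (.node 1 (.one ⟨12070, 0, 2⟩) (.one ⟨16341, 0, 1⟩))) (.node 2 (.node 1 (.one ⟨1834, 1, 0⟩) (.one ⟨4409, 0, 2⟩)) (.node 1 (.one ⟨11722, 0, 2⟩) (.one ⟨10356, 1, 1⟩))))) (.node 8 (.node 4 (.node 2 (.node 1 (.one ⟨5696, 0, 1⟩) (.one ⟨1504, 0, 3⟩)) (.node 1 (.one ⟨10492, 0, 2⟩) (.one ⟨13779, 0, 2⟩))) (.node 2 (.node 1 (.one ⟨6208, 0, 2⟩) (.one ⟨9083, 1, 2⟩))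 (.node 1 (.one ⟨9448, 0, 2⟩) (.one ⟨1743, 1, 1⟩)))) (.node 4 (.node 2 (.node 1 (.one ⟨3094, 1, 0⟩) (.one ⟨7837, 1, 1⟩)) (.node 1 (.one ⟨9982, 0, 3⟩) (.one ⟨13274, 1, 2⟩))) (.node 2 (.node 1 (.one ⟨13103, 0, 1⟩) (.one ⟨10585, 0, 1⟩)) (.node 1 (.one ⟨14120, 0, 3⟩) (.one ⟨3695, 1, 2⟩)))))) (.node 16 (.node 8 (.node 4 (.node 2 (.node 1 (.one ⟨14883, 0, 3⟩) (.one ⟨2296, 1, 0⟩)) (.node 1 (.one ⟨10331, 0, 2⟩) (.one ⟨9996, 1, 1⟩))) (.node 2 (.node 1 (.one ⟨4416, 1, 1⟩) (.one ⟨2802, 1, 2⟩)) (.node 1 (.one ⟨1821, 0, 3⟩) (.one ⟨5109, 0, 3⟩)))) (.node 4 (.node 2 (.node 1 (.one ⟨1456, 0, 1⟩) (.one ⟨8451, 0, 3⟩)) (.node 1 (.one ⟨6264, 0, 1⟩) (.one ⟨2297, 0, 1⟩))) (.node 2 (.node 1 (.one ⟨4652, 0, 3⟩) (.one ⟨5633, 0, 3⟩))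 (.node 1 (.one ⟨536, 1, 0⟩) (.one ⟨5607, 1, 2⟩))))) (.node 8 (.node 4 (.node 2 (.node 1 (.one ⟨4190, 1, 0⟩) (.one ⟨12931, 0, 2⟩)) (.node 1 (.one ⟨13112, 1, 2⟩) (.one ⟨11576, 1, 2⟩))) (.node 2 (.node 1 (.one ⟨16862, 1, 2⟩) (.one ⟨2662, 1, 0⟩)) (.node 1 (.one ⟨3591, 0, 2⟩) (.one ⟨7846, 0, 1⟩)))) (.node 4 (.node 2 (.node 1 (.one ⟨13657, 0, 1⟩) (.one ⟨8541, 0, 2⟩)) (.node 1 (.one ⟨15028, 0, 1⟩) (.one ⟨14295, 1, 1⟩))) (.node 2 (.node 1 (.one ⟨3776, 1, 0⟩) (.one ⟨1339, 1, 1⟩)) (.node 1 (.one ⟨3079, 0, 2⟩) (.one ⟨17093, 0, 2⟩)))))))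
def par5_7_3 : Arr Par :=
  (.node 32 (.node 16 (.node 8 (.node 4 (.node 2 (.node 1 (.one ⟨5328, 1, 1⟩) (.one ⟨1451, 1, 0⟩)) (.node 1 (.one ⟨5396, 1, 2⟩) (.one ⟨2634, 1, 0⟩))) (.node 2 (.node 1 (.one ⟨3385, 1, 2⟩) (.one ⟨15795, 0, 2⟩)) (.node 1 (.one ⟨2235, 0, 1⟩) (.one ⟨9331, 0, 1⟩)))) (.node 4 (.node 2 (.node 1 (.one ⟨1339, 0, 1⟩) (.one ⟨3282, 0, 1⟩)) (.node 1 (.one ⟨16510, 1, 2⟩) (.one ⟨7379, 1, 2⟩))) (.node 2 (.node 1 (.one ⟨15145, 1, 2⟩) (.one ⟨9173, 0, 1⟩)) (.node 1 (.one ⟨1435, 0, 1⟩) (.one ⟨16709, 1, 2⟩))))) (.node 8 (.node 4 (.node 2 (.node 1 (.one ⟨2367, 1, 2⟩) (.one ⟨1305, 1, 1⟩)) (.node 1 (.one ⟨2355, 0, 1⟩) (.one ⟨11528, 0, 1⟩))) (.node 2 (.node 1 (.one ⟨1706, 1, 0⟩) (.one ⟨12298, 1, 1⟩)) (.node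 1 (.one ⟨3309, 1, 0⟩) (.one ⟨3042, 0, 1⟩)))) (.node 4 (.node 2 (.node 1 (.one ⟨504, 1, 2⟩) (.one ⟨957, 0, 1⟩)) (.node 1 (.one ⟨14912, 0, 2⟩) (.one ⟨6083, 1, 1⟩))) (.node 2 (.node 1 (.one ⟨3427, 1, 2⟩) (.one ⟨14898, 0, 2⟩)) (.node 1 (.one ⟨1091, 0, 2⟩) (.one ⟨1335, 1, 1⟩)))))) (.node 16 (.node 8 (.node 4 (.node 2 (.node 1 (.one ⟨334, 0, 2⟩) (.one ⟨655, 1, 1⟩)) (.node 1 (.one ⟨4850, 1, 1⟩) (.one ⟨4300, 1, 1⟩))) (.node 2 (.node 1 (.one ⟨5221, 0, 3⟩) (.one ⟨4360, 1, 2⟩)) (.node 1 (.one ⟨3421, 1, 2⟩) (.one ⟨5084, 1, 1⟩)))) (.node 4 (.node 2 (.node 1 (.one ⟨7708, 1, 2⟩) (.one ⟨1775, 1, 1⟩)) (.node 1 (.one ⟨11831, 0, 3⟩) (.one ⟨5173, 0, 3⟩))) (.node 2 (.node 1 (.one ⟨490, 1, 0⟩) (.one ⟨8841, 0, 1⟩)) (.node 1 (.one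 ⟨5184, 1, 1⟩) (.one ⟨7101, 0, 3⟩))))) (.node 8 (.node 4 (.node 2 (.node 1 (.one ⟨3327, 0, 3⟩) (.one ⟨2883, 1, 0⟩)) (.node 1 (.one ⟨13352, 1, 1⟩) (.one ⟨9165, 0, 3⟩))) (.node 2 (.node 1 (.one ⟨9344, 1, 1⟩) (.one ⟨1542, 1, 0⟩)) (.node 1 (.one ⟨8179, 0, 1⟩) (.one ⟨12698, 0, 3⟩)))) (.node 4 (.node 2 (.node 1 (.one ⟨1054, 0, 3⟩) (.one ⟨4585, 0, 3⟩)) (.node 1 (.one ⟨9412, 0, 2⟩) (.one ⟨7004, 0, 2⟩))) (.node 2 (.node 1 (.one ⟨16073, 0, 3⟩) (.one ⟨15030, 0, 3⟩)) (.node 1 (.one ⟨8040, 0, 3⟩) (.one ⟨8673, 1, 2⟩)))))))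
def par5_7_4 : Arr Par :=
  (.node 32 (.node 16 (.node 8 (.node 4 (.node 2 (.node 1 (.one ⟨9348, 1, 1⟩) (.one ⟨16490, 1, 2⟩)) (.node 1 (.one ⟨2004, 1, 1⟩) (.one ⟨4272, 1, 2⟩))) (.node 2 (.node 1 (.one ⟨15510, 1, 2⟩) (.one ⟨12103, 1, 2⟩)) (.node 1 (.one ⟨7581, 1, 2⟩) (.one ⟨2719, 0, 2⟩)))) (.node 4 (.node 2 (.node 1 (.one ⟨3322, 0, 3⟩) (.one ⟨2887, 1, 0⟩)) (.node 1 (.one ⟨1275, 1, 0⟩) (.one ⟨12213, 1, 2⟩))) (.node 2 (.node 1 (.one ⟨3232, 1, 0⟩) (.one ⟨996, 1, 0⟩)) (.node 1 (.one ⟨6958, 1, 2⟩) (.one ⟨12411, 0, 2⟩))))) (.node 8 (.node 4 (.node 2 (.node 1 (.one ⟨15148, 0, 2⟩) (.one ⟨7232, 0, 2⟩)) (.node 1 (.one ⟨11535, 1, 1⟩) (.one ⟨1342, 0, 2⟩))) (.node 2 (.node 1 (.one ⟨8931, 0, 2⟩) (.one ⟨548, 1, 0⟩)) (.node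 1 (.one ⟨12959, 1, 1⟩) (.one ⟨14259, 0, 3⟩)))) (.node 4 (.node 2 (.node 1 (.one ⟨9343, 1, 1⟩) (.one ⟨15680, 0, 2⟩)) (.node 1 (.one ⟨16411, 0, 1⟩) (.one ⟨3905, 0, 2⟩))) (.node 2 (.node 1 (.one ⟨3742, 0, 3⟩) (.one ⟨16101, 1, 2⟩)) (.node 1 (.one ⟨15637, 1, 2⟩) (.one ⟨11918, 0, 3⟩)))))) (.node 16 (.node 8 (.node 4 (.node 2 (.node 1 (.one ⟨12276, 0, 3⟩) (.one ⟨13041, 0, 1⟩)) (.node 1 (.one ⟨341, 1, 1⟩) (.one ⟨1237, 1, 0⟩))) (.node 2 (.node 1 (.one ⟨15196, 0, 1⟩) (.one ⟨13730, 0, 3⟩)) (.node 1 (.one ⟨14506, 0, 3⟩) (.one ⟨13888, 0, 2⟩)))) (.node 4 (.node 2 (.node 1 (.one ⟨15482, 1, 2⟩) (.one ⟨322, 1, 0⟩)) (.node 1 (.one ⟨2795, 0, 3⟩) (.one ⟨9347, 1, 1⟩))) (.node 2 (.node 1 (.one ⟨12204, 1, 2⟩) (.one ⟨3190, 1, 0⟩))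 (.node 1 (.one ⟨656, 1, 0⟩) (.one ⟨1535, 1, 1⟩))))) (.node 8 (.node 4 (.node 2 (.node 1 (.one ⟨4005, 1, 1⟩) (.one ⟨4432, 1, 0⟩)) (.node 1 (.one ⟨11432, 0, 3⟩) (.one ⟨10815, 0, 3⟩))) (.node 2 (.node 1 (.one ⟨13813, 0, 3⟩) (.one ⟨7404, 0, 1⟩)) (.node 1 (.one ⟨4721, 1, 2⟩) (.one ⟨13454, 0, 3⟩)))) (.node 4 (.node 2 (.node 1 (.one ⟨3953, 0, 3⟩) (.one ⟨10031, 0, 1⟩)) (.node 1 (.one ⟨2782, 0, 2⟩) (.one ⟨478, 0, 1⟩))) (.node 2 (.node 1 (.one ⟨2672, 1, 0⟩) (.one ⟨5261, 0, 3⟩)) (.node 1 (.one ⟨11696, 1, 1⟩) (.one ⟨3168, 1, 1⟩)))))))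
def par5_7_5 : Arr Par :=
  (.node 32 (.node 16 (.node 8 (.node 4 (.node 2 (.node 1 (.one ⟨425, 1, 1⟩) (.one ⟨16557, 0, 3⟩)) (.node 1 (.one ⟨10862, 1, 2⟩) (.one ⟨469, 1, 0⟩))) (.node 2 (.node 1 (.one ⟨1540, 1, 1⟩) (.one ⟨10512, 1, 1⟩)) (.node 1 (.one ⟨4605, 0, 2⟩) (.one ⟨10319, 0, 1⟩)))) (.node 4 (.node 2 (.node 1 (.one ⟨2523, 0, 1⟩) (.one ⟨1921, 0, 1⟩)) (.node 1 (.one ⟨9460, 0, 1⟩) (.one ⟨10654, 1, 2⟩))) (.node 2 (.node 1 (.one ⟨3674, 1, 0⟩) (.one ⟨4569, 0, 1⟩)) (.node 1 (.one ⟨13075, 0, 3⟩) (.one ⟨7123, 1, 2⟩))))) (.node 8 (.node 4 (.node 2 (.node 1 (.one ⟨8413, 1, 2⟩) (.one ⟨7497, 1, 2⟩)) (.node 1 (.one ⟨8574, 1, 2⟩) (.one ⟨14750, 0, 3⟩))) (.node 2 (.node 1 (.one ⟨12158, 0, 3⟩) (.one ⟨8259, 0, 3⟩)) (.node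 1 (.one ⟨3038, 0, 3⟩) (.one ⟨2718, 0, 1⟩)))) (.node 4 (.node 2 (.node 1 (.one ⟨8168, 0, 3⟩) (.one ⟨10305, 0, 1⟩)) (.node 1 (.one ⟨16370, 0, 3⟩) (.one ⟨9268, 0, 3⟩))) (.node 2 (.node 1 (.one ⟨2357, 1, 0⟩) (.one ⟨2187, 0, 3⟩)) (.node 1 (.one ⟨302, 1, 1⟩) (.one ⟨15607, 1, 2⟩)))))) (.node 16 (.node 8 (.node 4 (.node 2 (.node 1 (.one ⟨13649, 0, 2⟩) (.one ⟨13650, 0, 2⟩)) (.node 1 (.one ⟨1866, 1, 1⟩) (.one ⟨7483, 1, 2⟩))) (.node 2 (.node 1 (.one ⟨2631, 1, 0⟩) (.one ⟨1519, 1, 1⟩)) (.node 1 (.one ⟨13653, 0, 2⟩) (.one ⟨1650, 1, 0⟩)))) (.node 4 (.node 2 (.node 1 (.one ⟨4903, 1, 1⟩) (.one ⟨5214, 0, 3⟩)) (.node 1 (.one ⟨2918, 0, 2⟩) (.one ⟨9790, 1, 2⟩))) (.node 2 (.node 1 (.one ⟨12037, 1, 2⟩) (.one ⟨2374, 1, 0⟩)) (.node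 1 (.one ⟨4080, 1, 2⟩) (.one ⟨15429, 1, 1⟩))))) (.node 8 (.node 4 (.node 2 (.node 1 (.one ⟨5159, 0, 0⟩) (.one ⟨9271, 1, 1⟩)) (.node 1 (.one ⟨10230, 1, 1⟩) (.one ⟨14316, 0, 3⟩))) (.node 2 (.node 1 (.one ⟨8441, 0, 2⟩) (.one ⟨11544, 1, 1⟩)) (.node 1 (.one ⟨11211, 1, 1⟩) (.one ⟨9137, 0, 1⟩)))) (.node 4 (.node 2 (.node 1 (.one ⟨804, 1, 2⟩) (.one ⟨589, 0, 1⟩)) (.node 1 (.one ⟨5738, 0, 1⟩) (.one ⟨13864, 0, 2⟩))) (.node 2 (.node 1 (.one ⟨9438, 0, 1⟩) (.one ⟨5795, 0, 1⟩)) (.node 1 (.one ⟨1383, 0, 1⟩) (.one ⟨3185, 1, 1⟩)))))))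
def par5_7_6 : Arr Par :=
  (.node 32 (.node 16 (.node 8 (.node 4 (.node 2 (.node 1 (.one ⟨16399, 0, 2⟩) (.one ⟨1281, 1, 0⟩)) (.node 1 (.one ⟨2064, 0, 3⟩) (.one ⟨15, 1, 1⟩))) (.node 2 (.node 1 (.one ⟨3738, 1, 0⟩) (.one ⟨630, 1, 1⟩)) (.node 1 (.one ⟨13224, 0, 1⟩) (.one ⟨7804, 0, 2⟩)))) (.node 4 (.node 2 (.node 1 (.one ⟨421, 1, 0⟩) (.one ⟨15655, 1, 1⟩)) (.node 1 (.one ⟨5632, 0, 2⟩) (.one ⟨16584, 0, 2⟩))) (.node 2 (.node 1 (.one ⟨8951, 1, 1⟩) (.one ⟨12642, 1, 1⟩)) (.node 1 (.one ⟨1334, 1, 0⟩) (.one ⟨6565, 1, 1⟩))))) (.node 8 (.node 4 (.node 2 (.node 1 (.one ⟨9989, 0, 2⟩) (.one ⟨2275, 0, 0⟩)) (.node 1 (.one ⟨1328, 1, 0⟩) (.one ⟨1092, 1, 0⟩))) (.node 2 (.node 1 (.one ⟨2259, 1, 0⟩) (.one ⟨9147, 0, 3⟩)) (.node 1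 (.one ⟨17126, 1, 2⟩) (.one ⟨3177, 1, 0⟩)))) (.node 4 (.node 2 (.node 1 (.one ⟨8114, 0, 3⟩) (.one ⟨7291, 0, 1⟩)) (.node 1 (.one ⟨9276, 1, 1⟩) (.one ⟨962, 1, 0⟩))) (.node 2 (.node 1 (.one ⟨1993, 1, 2⟩) (.one ⟨8372, 0, 1⟩)) (.node 1 (.one ⟨507, 0, 1⟩) (.one ⟨15615, 1, 1⟩)))))) (.node 16 (.node 8 (.node 4 (.node 2 (.node 1 (.one ⟨2513, 0, 0⟩) (.one ⟨3663, 0, 3⟩)) (.node 1 (.one ⟨13608, 1, 1⟩) (.one ⟨2543, 1, 0⟩))) (.node 2 (.node 1 (.one ⟨4531, 1, 1⟩) (.one ⟨6201, 0, 1⟩)) (.node 1 (.one ⟨1232, 1, 0⟩) (.one ⟨3227, 1, 1⟩)))) (.node 4 (.node 2 (.node 1 (.one ⟨623, 1, 1⟩) (.one ⟨1661, 1, 0⟩)) (.node 1 (.one ⟨4992, 1, 0⟩) (.one ⟨10136, 0, 2⟩))) (.node 2 (.node 1 (.one ⟨121, 1, 1⟩) (.one ⟨1954, 0, 1⟩)) (.node 1 (.one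 ⟨379, 1, 1⟩) (.one ⟨14271, 0, 1⟩))))) (.node 8 (.node 4 (.node 2 (.node 1 (.one ⟨3165, 1, 1⟩) (.one ⟨11334, 0, 2⟩)) (.node 1 (.one ⟨12616, 1, 1⟩) (.one ⟨5690, 1, 2⟩))) (.node 2 (.node 1 (.one ⟨52, 0, 1⟩) (.one ⟨11322, 0, 1⟩)) (.node 1 (.one ⟨2353, 1, 2⟩) (.one ⟨4294, 0, 3⟩)))) (.node 4 (.node 2 (.node 1 (.one ⟨14261, 0, 2⟩) (.one ⟨16013, 0, 3⟩)) (.node 1 (.one ⟨1329, 0, 2⟩) (.one ⟨6335, 0, 2⟩))) (.node 2 (.node 1 (.one ⟨12556, 0, 1⟩) (.one ⟨9824, 0, 3⟩)) (.node 1 (.one ⟨8108, 0, 2⟩) (.one ⟨4510, 0, 3⟩)))))))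
def par5_7_7 : Arr Par :=
  (.node 32 (.node 16 (.node 8 (.node 4 (.node 2 (.node 1 (.one ⟨3345, 0, 2⟩) (.one ⟨12177, 0, 1⟩)) (.node 1 (.one ⟨812, 1, 2⟩) (.one ⟨11715, 1, 1⟩))) (.node 2 (.node 1 (.one ⟨1489, 1, 0⟩) (.one ⟨2534, 1, 0⟩)) (.node 1 (.one ⟨697, 1, 2⟩) (.one ⟨4904, 0, 1⟩)))) (.node 4 (.node 2 (.node 1 (.one ⟨3489, 1, 0⟩) (.one ⟨7722, 0, 2⟩)) (.node 1 (.one ⟨739, 0, 1⟩) (.one ⟨9342, 0, 2⟩))) (.node 2 (.node 1 (.one ⟨15760, 0, 1⟩) (.one ⟨14827, 0, 1⟩)) (.node 1 (.one ⟨8862, 1, 2⟩) (.one ⟨1665, 1, 0⟩))))) (.node 8 (.node 4 (.node 2 (.node 1 (.one ⟨1633, 1, 1⟩) (.one ⟨418, 1, 0⟩)) (.node 1 (.one ⟨11382, 0, 3⟩) (.one ⟨1970, 1, 0⟩))) (.node 2 (.node 1 (.one ⟨7761, 0, 1⟩) (.one ⟨11811, 1, 2⟩)) (.node 1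 (.one ⟨16393, 0, 1⟩) (.one ⟨14381, 1, 2⟩)))) (.node 4 (.node 2 (.node 1 (.one ⟨10446, 0, 1⟩) (.one ⟨10007, 1, 2⟩)) (.node 1 (.one ⟨7669, 1, 1⟩) (.one ⟨9677, 1, 2⟩))) (.node 2 (.node 1 (.one ⟨14035, 0, 2⟩) (.one ⟨14538, 1, 2⟩)) (.node 1 (.one ⟨10439, 0, 1⟩) (.one ⟨2381, 1, 0⟩)))))) (.node 16 (.node 8 (.node 4 (.node 2 (.node 1 (.one ⟨10020, 1, 1⟩) (.one ⟨15697, 1, 1⟩)) (.node 1 (.one ⟨12492, 0, 3⟩) (.one ⟨7208, 0, 1⟩))) (.node 2 (.node 1 (.one ⟨8239, 0, 3⟩) (.one ⟨13803, 0, 3⟩)) (.node 1 (.one ⟨12797, 1, 2⟩) (.one ⟨1517, 1, 0⟩)))) (.node 4 (.node 2 (.node 1 (.one ⟨13945, 1, 2⟩) (.one ⟨4227, 0, 3⟩)) (.node 1 (.one ⟨203, 1, 0⟩) (.one ⟨3233, 0, 1⟩))) (.node 2 (.node 1 (.one ⟨8065, 1, 1⟩) (.one ⟨5000, 0, 2⟩)) (.node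 1 (.one ⟨5534, 0, 2⟩) (.one ⟨8187, 0, 2⟩))))) (.node 8 (.node 4 (.node 2 (.node 1 (.one ⟨7346, 0, 3⟩) (.one ⟨2635, 0, 2⟩)) (.node 1 (.one ⟨5509, 0, 2⟩) (.one ⟨579, 0, 0⟩))) (.node 2 (.node 1 (.one ⟨15968, 0, 3⟩) (.one ⟨2758, 1, 0⟩)) (.node 1 (.one ⟨4353, 1, 0⟩) (.one ⟨13052, 0, 2⟩)))) (.node 4 (.node 2 (.node 1 (.one ⟨10380, 1, 1⟩) (.one ⟨4053, 1, 1⟩)) (.node 1 (.one ⟨10707, 1, 2⟩) (.one ⟨523, 0, 3⟩))) (.node 2 (.node 1 (.one ⟨3089, 0, 1⟩) (.one ⟨1636, 1, 2⟩)) (.node 1 (.one ⟨13855, 0, 2⟩) (.one ⟨2035, 1, 2⟩)))))))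
def par5_7_8 : Arr Par :=
  (.node 32 (.node 16 (.node 8 (.node 4 (.node 2 (.node 1 (.one ⟨15824, 0, 2⟩) (.one ⟨10231, 1, 2⟩)) (.node 1 (.one ⟨510, 1, 0⟩) (.one ⟨742, 0, 3⟩))) (.node 2 (.node 1 (.one ⟨9471, 0, 1⟩) (.one ⟨8013, 0, 3⟩)) (.node 1 (.one ⟨16095, 0, 2⟩) (.one ⟨544, 1, 0⟩)))) (.node 4 (.node 2 (.node 1 (.one ⟨3731, 1, 0⟩) (.one ⟨13148, 0, 1⟩)) (.node 1 (.one ⟨11079, 0, 2⟩) (.one ⟨15034, 0, 3⟩))) (.node 2 (.node 1 (.one ⟨16889, 0, 1⟩) (.one ⟨1950, 0, 1⟩)) (.node 1 (.one ⟨10547, 1, 1⟩) (.one ⟨14068, 0, 1⟩))))) (.node 8 (.node 4 (.node 2 (.node 1 (.one ⟨1228, 1, 0⟩) (.one ⟨144, 1, 0⟩)) (.node 1 (.one ⟨7587, 0, 1⟩) (.one ⟨11204, 0, 3⟩))) (.node 2 (.node 1 (.one ⟨5867, 0, 2⟩) (.one ⟨12177, 1, 1⟩)) (.node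 1 (.one ⟨714, 0, 3⟩) (.one ⟨13192, 0, 1⟩)))) (.node 4 (.node 2 (.node 1 (.one ⟨8186, 0, 3⟩) (.one ⟨16338, 1, 2⟩)) (.node 1 (.one ⟨3571, 0, 3⟩) (.one ⟨1264, 1, 0⟩))) (.node 2 (.node 1 (.one ⟨6714, 0, 1⟩) (.one ⟨14318, 0, 1⟩)) (.node 1 (.one ⟨6698, 1, 1⟩) (.one ⟨8190, 0, 1⟩)))))) (.node 16 (.node 8 (.node 4 (.node 2 (.node 1 (.one ⟨14416, 0, 2⟩) (.one ⟨14756, 1, 1⟩)) (.node 1 (.one ⟨6142, 0, 1⟩) (.one ⟨16326, 0, 1⟩))) (.node 2 (.node 1 (.one ⟨6570, 0, 2⟩) (.one ⟨4867, 1, 1⟩)) (.node 1 (.one ⟨13640, 0, 3⟩) (.one ⟨16395, 0, 1⟩)))) (.node 4 (.node 2 (.node 1 (.one ⟨2136, 0, 2⟩) (.one ⟨10478, 0, 1⟩)) (.node 1 (.one ⟨12408, 1, 1⟩) (.one ⟨3537, 1, 2⟩))) (.node 2 (.node 1 (.one ⟨10236, 1, 2⟩) (.one ⟨3102, 1, 0⟩)) (.node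 1 (.one ⟨8050, 0, 1⟩) (.one ⟨6133, 0, 2⟩))))) (.node 8 (.node 4 (.node 2 (.node 1 (.one ⟨7872, 1, 1⟩) (.one ⟨1452, 0, 2⟩)) (.node 1 (.one ⟨446, 1, 0⟩) (.one ⟨3558, 1, 0⟩))) (.node 2 (.node 1 (.one ⟨15834, 1, 2⟩) (.one ⟨15928, 1, 2⟩)) (.node 1 (.one ⟨2271, 1, 0⟩) (.one ⟨3062, 1, 0⟩)))) (.node 4 (.node 2 (.node 1 (.one ⟨11094, 1, 2⟩) (.one ⟨11828, 1, 2⟩)) (.node 1 (.one ⟨3632, 1, 0⟩) (.one ⟨7667, 1, 1⟩))) (.node 2 (.node 1 (.one ⟨8730, 1, 2⟩) (.one ⟨6179, 1, 2⟩)) (.node 1 (.one ⟨3754, 1, 0⟩) (.one ⟨2224, 1, 2⟩)))))))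
def par5_7_9 : Arr Par :=
  (.node 32 (.node 16 (.node 8 (.node 4 (.node 2 (.node 1 (.one ⟨1125, 1, 0⟩) (.one ⟨8596, 1, 2⟩)) (.node 1 (.one ⟨9014, 1, 1⟩) (.one ⟨12400, 0, 1⟩))) (.node 2 (.node 1 (.one ⟨3779, 1, 0⟩) (.one ⟨7405, 1, 2⟩)) (.node 1 (.one ⟨6728, 1, 2⟩) (.one ⟨7144, 0, 1⟩)))) (.node 4 (.node 2 (.node 1 (.one ⟨1980, 1, 0⟩) (.one ⟨16316, 0, 2⟩)) (.node 1 (.one ⟨3791, 1, 0⟩) (.one ⟨3960, 1, 0⟩))) (.node 2 (.node 1 (.one ⟨11409, 0, 3⟩) (.one ⟨8780, 1, 1⟩)) (.node 1 (.one ⟨4436, 0, 1⟩) (.one ⟨4931, 0, 3⟩))))) (.node 8 (.node 4 (.node 2 (.node 1 (.one ⟨9140, 0, 3⟩) (.one ⟨440, 1, 0⟩)) (.node 1 (.one ⟨2174, 1, 0⟩) (.one ⟨5762, 0, 3⟩))) (.node 2 (.node 1 (.one ⟨16745, 0, 3⟩) (.one ⟨3039, 0, 1⟩)) (.node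 1 (.one ⟨2219, 1, 2⟩) (.one ⟨12974, 1, 2⟩)))) (.node 4 (.node 2 (.node 1 (.one ⟨6023, 0, 1⟩) (.one ⟨11152, 1, 1⟩)) (.node 1 (.one ⟨1880, 0, 2⟩) (.one ⟨4615, 0, 1⟩))) (.node 2 (.node 1 (.one ⟨9055, 0, 2⟩) (.one ⟨11016, 1, 2⟩)) (.node 1 (.one ⟨3250, 0, 0⟩) (.one ⟨8512, 1, 1⟩)))))) (.node 16 (.node 8 (.node 4 (.node 2 (.node 1 (.one ⟨3822, 1, 2⟩) (.one ⟨6858, 0, 2⟩)) (.node 1 (.one ⟨1438, 1, 2⟩) (.one ⟨15944, 0, 2⟩))) (.node 2 (.node 1 (.one ⟨9163, 0, 2⟩) (.one ⟨13740, 0, 1⟩)) (.node 1 (.one ⟨8173, 1, 1⟩) (.one ⟨7752, 1, 1⟩)))) (.node 4 (.node 2 (.node 1 (.one ⟨964, 1, 0⟩) (.one ⟨3278, 1, 2⟩)) (.node 1 (.one ⟨15881, 1, 2⟩) (.one ⟨9443, 0, 2⟩))) (.node 2 (.node 1 (.one ⟨424, 1, 1⟩) (.one ⟨2756, 1, 0⟩)) (.node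 1 (.one ⟨2705, 0, 1⟩) (.one ⟨1863, 1, 0⟩))))) (.node 8 (.node 4 (.node 2 (.node 1 (.one ⟨1428, 1, 1⟩) (.one ⟨14830, 1, 2⟩)) (.node 1 (.one ⟨3838, 1, 2⟩) (.one ⟨17012, 1, 2⟩))) (.node 2 (.node 1 (.one ⟨13402, 0, 3⟩) (.one ⟨15619, 1, 1⟩)) (.node 1 (.one ⟨3996, 1, 2⟩) (.one ⟨15402, 1, 2⟩)))) (.node 4 (.node 2 (.node 1 (.one ⟨9359, 1, 1⟩) (.one ⟨1791, 1, 0⟩)) (.node 1 (.one ⟨16816, 0, 1⟩) (.one ⟨13275, 1, 2⟩))) (.node 2 (.node 1 (.one ⟨15814, 1, 1⟩) (.one ⟨12766, 0, 1⟩)) (.node 1 (.one ⟨13253, 1, 1⟩) (.one ⟨306, 1, 1⟩)))))))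
def par5_7_10 : Arr Par :=
  (.node 32 (.node 16 (.node 8 (.node 4 (.node 2 (.node 1 (.one ⟨368, 1, 1⟩) (.one ⟨13315, 0, 2⟩)) (.node 1 (.one ⟨13316, 0, 3⟩) (.one ⟨7846, 1, 1⟩))) (.node 2 (.node 1 (.one ⟨13313, 0, 3⟩) (.one ⟨16666, 0, 3⟩)) (.node 1 (.one ⟨16664, 0, 2⟩) (.one ⟨14854, 0, 3⟩)))) (.node 4 (.node 2 (.node 1 (.one ⟨9519, 1, 1⟩) (.one ⟨10057, 0, 1⟩)) (.node 1 (.one ⟨6738, 0, 2⟩) (.one ⟨11617, 1, 2⟩))) (.node 2 (.node 1 (.one ⟨16026, 0, 3⟩) (.one ⟨11907, 1, 2⟩)) (.node 1 (.one ⟨12801, 0, 3⟩) (.one ⟨11253, 1, 2⟩))))) (.node 8 (.node 4 (.node 2 (.node 1 (.one ⟨1427, 1, 1⟩) (.one ⟨8303, 1, 1⟩)) (.node 1 (.one ⟨12320, 0, 1⟩) (.one ⟨3864, 1, 2⟩))) (.node 2 (.node 1 (.one ⟨9536, 0, 2⟩) (.one ⟨9277, 0, 2⟩))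 (.node 1 (.one ⟨6389, 1, 2⟩) (.one ⟨5196, 1, 2⟩)))) (.node 4 (.node 2 (.node 1 (.one ⟨9360, 1, 1⟩) (.one ⟨13005, 0, 2⟩)) (.node 1 (.one ⟨15806, 1, 2⟩) (.one ⟨1855, 1, 0⟩))) (.node 2 (.node 1 (.one ⟨9634, 1, 2⟩) (.one ⟨1335, 1, 0⟩)) (.node 1 (.one ⟨15841, 1, 1⟩) (.one ⟨246, 1, 1⟩)))))) (.node 16 (.node 8 (.node 4 (.node 2 (.node 1 (.one ⟨5418, 0, 2⟩) (.one ⟨5219, 0, 3⟩)) (.node 1 (.one ⟨277, 1, 0⟩) (.one ⟨7518, 0, 2⟩))) (.node 2 (.node 1 (.one ⟨7679, 0, 3⟩) (.one ⟨895, 1, 1⟩)) (.node 1 (.one ⟨1384, 1, 0⟩) (.one ⟨14414, 0, 3⟩)))) (.node 4 (.node 2 (.node 1 (.one ⟨16442, 1, 2⟩) (.one ⟨4551, 1, 0⟩)) (.node 1 (.one ⟨2981, 1, 0⟩) (.one ⟨9523, 1, 1⟩))) (.node 2 (.node 1 (.one ⟨11941, 1, 2⟩) (.one ⟨10800, 0, 3⟩))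 (.node 1 (.one ⟨4571, 1, 1⟩) (.one ⟨5240, 1, 1⟩))))) (.node 8 (.node 4 (.node 2 (.node 1 (.one ⟨9971, 0, 1⟩) (.one ⟨212, 1, 0⟩)) (.node 1 (.one ⟨1839, 1, 1⟩) (.one ⟨3726, 1, 2⟩))) (.node 2 (.node 1 (.one ⟨7987, 1, 1⟩) (.one ⟨7291, 1, 1⟩)) (.node 1 (.one ⟨4985, 0, 3⟩) (.one ⟨16079, 1, 1⟩)))) (.node 4 (.node 2 (.node 1 (.one ⟨5150, 0, 2⟩) (.one ⟨16901, 1, 1⟩)) (.node 1 (.one ⟨3993, 0, 3⟩) (.one ⟨3108, 0, 1⟩))) (.node 2 (.node 1 (.one ⟨684, 1, 0⟩) (.one ⟨2073, 0, 3⟩)) (.node 1 (.one ⟨14251, 1, 1⟩) (.one ⟨11692, 0, 3⟩)))))))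
def par5_7_11 : Arr Par :=
  (.node 32 (.node 16 (.node 8 (.node 4 (.node 2 (.node 1 (.one ⟨4876, 1, 0⟩) (.one ⟨12617, 0, 3⟩)) (.node 1 (.one ⟨252, 1, 0⟩) (.one ⟨6422, 1, 1⟩))) (.node 2 (.node 1 (.one ⟨7967, 1, 2⟩) (.one ⟨2849, 0, 1⟩)) (.node 1 (.one ⟨677, 1, 1⟩) (.one ⟨6395, 1, 2⟩)))) (.node 4 (.node 2 (.node 1 (.one ⟨14570, 1, 2⟩) (.one ⟨7821, 0, 3⟩)) (.node 1 (.one ⟨15811, 1, 2⟩) (.one ⟨9986, 0, 3⟩))) (.node 2 (.node 1 (.one ⟨12021, 1, 2⟩) (.one ⟨223, 1, 1⟩)) (.node 1 (.one ⟨9096, 0, 1⟩) (.one ⟨10959, 0, 2⟩))))) (.node 8 (.node 4 (.node 2 (.node 1 (.one ⟨15838, 0, 2⟩) (.one ⟨5175, 0, 2⟩)) (.node 1 (.one ⟨11446, 1, 1⟩) (.one ⟨3249, 0, 1⟩))) (.node 2 (.node 1 (.one ⟨15645, 1, 2⟩) (.one ⟨13072, 0, 3⟩)) (.node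 1 (.one ⟨17051, 1, 2⟩) (.one ⟨357, 0, 1⟩)))) (.node 4 (.node 2 (.node 1 (.one ⟨3526, 0, 1⟩) (.one ⟨4969, 0, 3⟩)) (.node 1 (.one ⟨17028, 1, 2⟩) (.one ⟨11883, 1, 1⟩))) (.node 2 (.node 1 (.one ⟨736, 1, 2⟩) (.one ⟨11516, 0, 1⟩)) (.node 1 (.one ⟨13415, 0, 1⟩) (.one ⟨17106, 0, 3⟩)))))) (.node 16 (.node 8 (.node 4 (.node 2 (.node 1 (.one ⟨2340, 1, 0⟩) (.one ⟨4582, 0, 1⟩)) (.node 1 (.one ⟨12113, 1, 1⟩) (.one ⟨8445, 0, 3⟩))) (.node 2 (.node 1 (.one ⟨5655, 0, 3⟩) (.one ⟨13457, 0, 3⟩)) (.node 1 (.one ⟨10554, 1, 2⟩) (.one ⟨16878, 0, 1⟩)))) (.node 4 (.node 2 (.node 1 (.one ⟨15419, 0, 1⟩) (.one ⟨3617, 1, 1⟩)) (.node 1 (.one ⟨10730, 0, 2⟩) (.one ⟨3525, 0, 1⟩))) (.node 2 (.node 1 (.one ⟨12147, 1, 2⟩) (.one ⟨8670, 0, 3⟩))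 (.node 1 (.one ⟨6930, 0, 1⟩) (.one ⟨9400, 0, 1⟩))))) (.node 8 (.node 4 (.node 2 (.node 1 (.one ⟨15100, 0, 3⟩) (.one ⟨1167, 0, 1⟩)) (.node 1 (.one ⟨7084, 0, 3⟩) (.one ⟨15116, 0, 3⟩))) (.node 2 (.node 1 (.one ⟨9617, 0, 1⟩) (.one ⟨7068, 0, 3⟩)) (.node 1 (.one ⟨1145, 0, 1⟩) (.one ⟨4092, 1, 2⟩)))) (.node 4 (.node 2 (.node 1 (.one ⟨2073, 1, 0⟩) (.one ⟨4193, 1, 2⟩)) (.node 1 (.one ⟨12003, 0, 3⟩) (.one ⟨13824, 0, 1⟩))) (.node 2 (.node 1 (.one ⟨8311, 0, 1⟩) (.one ⟨7647, 1, 1⟩)) (.node 1 (.one ⟨12564, 0, 2⟩) (.one ⟨11870, 0, 3⟩)))))))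
def par5_7_12 : Arr Par :=
  (.node 32 (.node 16 (.node 8 (.node 4 (.node 2 (.node 1 (.one ⟨4875, 0, 1⟩) (.one ⟨14511, 0, 2⟩)) (.node 1 (.one ⟨7245, 0, 2⟩) (.one ⟨43, 1, 1⟩))) (.node 2 (.node 1 (.one ⟨4135, 0, 2⟩) (.one ⟨14964, 0, 3⟩)) (.node 1 (.one ⟨17118, 1, 2⟩) (.one ⟨12576, 0, 3⟩)))) (.node 4 (.node 2 (.node 1 (.one ⟨9391, 0, 1⟩) (.one ⟨0, 0, 2⟩)) (.node 1 (.one ⟨7902, 1, 2⟩) (.one ⟨9624, 0, 1⟩))) (.node 2 (.node 1 (.one ⟨12567, 0, 3⟩) (.one ⟨4472, 0, 3⟩)) (.node 1 (.one ⟨1257, 0, 1⟩) (.one ⟨8763, 1, 1⟩))))) (.node 8 (.node 4 (.node 2 (.node 1 (.one ⟨12845, 0, 2⟩) (.one ⟨12488, 0, 2⟩)) (.node 1 (.one ⟨11485, 0, 3⟩) (.one ⟨13667, 1, 1⟩))) (.node 2 (.node 1 (.one ⟨416, 0, 1⟩) (.one ⟨3489, 0, 3⟩)) (.node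 1 (.one ⟨4467, 0, 1⟩) (.one ⟨16085, 0, 1⟩)))) (.node 4 (.node 2 (.node 1 (.one ⟨2196, 0, 1⟩) (.one ⟨13296, 1, 2⟩)) (.node 1 (.one ⟨8588, 0, 2⟩) (.one ⟨6601, 0, 3⟩))) (.node 2 (.node 1 (.one ⟨12746, 0, 3⟩) (.one ⟨3569, 0, 3⟩)) (.node 1 (.one ⟨13617, 1, 2⟩) (.one ⟨5563, 0, 1⟩)))))) (.node 16 (.node 8 (.node 4 (.node 2 (.node 1 (.one ⟨11369, 0, 3⟩) (.one ⟨15426, 0, 2⟩)) (.node 1 (.one ⟨462, 0, 1⟩) (.one ⟨893, 1, 1⟩))) (.node 2 (.node 1 (.one ⟨10802, 0, 1⟩) (.one ⟨14789, 0, 2⟩)) (.node 1 (.one ⟨2253, 0, 1⟩) (.one ⟨10404, 0, 2⟩)))) (.node 4 (.node 2 (.node 1 (.one ⟨2726, 1, 1⟩) (.one ⟨5263, 0, 2⟩)) (.node 1 (.one ⟨11757, 0, 1⟩) (.one ⟨10217, 1, 2⟩))) (.node 2 (.node 1 (.one ⟨11259, 0, 1⟩) (.one ⟨12981, 0, 1⟩))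 (.node 1 (.one ⟨16412, 1, 2⟩) (.one ⟨2783, 0, 0⟩))))) (.node 8 (.node 4 (.node 2 (.node 1 (.one ⟨3675, 1, 0⟩) (.one ⟨563, 1, 0⟩)) (.node 1 (.one ⟨4832, 1, 2⟩) (.one ⟨1708, 0, 0⟩))) (.node 2 (.node 1 (.one ⟨7036, 0, 3⟩) (.one ⟨3115, 1, 0⟩)) (.node 1 (.one ⟨2433, 0, 3⟩) (.one ⟨14909, 0, 2⟩)))) (.node 4 (.node 2 (.node 1 (.one ⟨10260, 0, 3⟩) (.one ⟨495, 1, 0⟩)) (.node 1 (.one ⟨3898, 1, 1⟩) (.one ⟨11080, 0, 2⟩))) (.node 2 (.node 1 (.one ⟨14105, 0, 2⟩) (.one ⟨5029, 0, 1⟩)) (.node 1 (.one ⟨994, 1, 1⟩) (.one ⟨6526, 1, 1⟩)))))))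
def par5_7_13 : Arr Par :=
  (.node 32 (.node 16 (.node 8 (.node 4 (.node 2 (.node 1 (.one ⟨12143, 1, 2⟩) (.one ⟨2557, 1, 0⟩)) (.node 1 (.one ⟨7688, 1, 1⟩) (.one ⟨1510, 1, 0⟩))) (.node 2 (.node 1 (.one ⟨4822, 1, 1⟩) (.one ⟨14692, 0, 2⟩)) (.node 1 (.one ⟨12233, 0, 3⟩) (.one ⟨1058, 1, 1⟩)))) (.node 4 (.node 2 (.node 1 (.one ⟨5112, 1, 0⟩) (.one ⟨6692, 0, 2⟩)) (.node 1 (.one ⟨4295, 1, 0⟩) (.one ⟨4597, 0, 2⟩))) (.node 2 (.node 1 (.one ⟨3441, 1, 0⟩) (.one ⟨313, 1, 2⟩)) (.node 1 (.one ⟨11570, 1, 1⟩) (.one ⟨11951, 1, 2⟩))))) (.node 8 (.node 4 (.node 2 (.node 1 (.one ⟨10563, 1, 2⟩) (.one ⟨4142, 0, 2⟩)) (.node 1 (.one ⟨1615, 0, 0⟩) (.one ⟨9273, 0, 2⟩))) (.node 2 (.node 1 (.one ⟨9213, 0, 3⟩) (.one ⟨2473, 1, 2⟩)) (.node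 1 (.one ⟨9456, 0, 2⟩) (.one ⟨7850, 1, 1⟩)))) (.node 4 (.node 2 (.node 1 (.one ⟨6027, 0, 2⟩) (.one ⟨10122, 0, 2⟩)) (.node 1 (.one ⟨13507, 0, 2⟩) (.one ⟨1124, 0, 1⟩))) (.node 2 (.node 1 (.one ⟨3164, 1, 0⟩) (.one ⟨17061, 0, 2⟩)) (.node 1 (.one ⟨13896, 0, 1⟩) (.one ⟨9011, 0, 2⟩)))))) (.node 16 (.node 8 (.node 4 (.node 2 (.node 1 (.one ⟨3349, 0, 1⟩) (.one ⟨5514, 0, 1⟩)) (.node 1 (.one ⟨7308, 0, 1⟩) (.one ⟨8091, 1, 2⟩))) (.node 2 (.node 1 (.one ⟨3900, 1, 1⟩) (.one ⟨5863, 0, 2⟩)) (.node 1 (.one ⟨3740, 0, 1⟩) (.one ⟨6369, 1, 2⟩)))) (.node 4 (.node 2 (.node 1 (.one ⟨5694, 1, 2⟩) (.one ⟨9010, 1, 2⟩)) (.node 1 (.one ⟨8563, 0, 2⟩) (.one ⟨11699, 1, 1⟩))) (.node 2 (.node 1 (.one ⟨3764, 1, 0⟩) (.one ⟨10854, 1, 2⟩)) (.node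 1 (.one ⟨11321, 1, 2⟩) (.one ⟨3646, 1, 2⟩))))) (.node 8 (.node 4 (.node 2 (.node 1 (.one ⟨7931, 1, 2⟩) (.one ⟨6489, 1, 1⟩)) (.node 1 (.one ⟨1404, 1, 0⟩) (.one ⟨11019, 0, 1⟩))) (.node 2 (.node 1 (.one ⟨16625, 0, 3⟩) (.one ⟨9813, 1, 2⟩)) (.node 1 (.one ⟨13877, 1, 1⟩) (.one ⟨8533, 0, 3⟩)))) (.node 4 (.node 2 (.node 1 (.one ⟨8130, 0, 2⟩) (.one ⟨11675, 1, 2⟩)) (.node 1 (.one ⟨4468, 0, 2⟩) (.one ⟨11497, 0, 3⟩))) (.node 2 (.node 1 (.one ⟨9629, 0, 2⟩) (.one ⟨15517, 0, 3⟩)) (.node 1 (.one ⟨14083, 0, 2⟩) (.one ⟨2136, 1, 0⟩)))))))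
def par5_7_14 : Arr Par :=
  (.node 32 (.node 16 (.node 8 (.node 4 (.node 2 (.node 1 (.one ⟨8530, 0, 2⟩) (.one ⟨3761, 1, 0⟩)) (.node 1 (.one ⟨8557, 0, 2⟩) (.one ⟨13896, 1, 1⟩))) (.node 2 (.node 1 (.one ⟨4387, 1, 0⟩) (.one ⟨5982, 0, 2⟩)) (.node 1 (.one ⟨3439, 1, 0⟩) (.one ⟨345, 0, 1⟩)))) (.node 4 (.node 2 (.node 1 (.one ⟨856, 0, 1⟩) (.one ⟨609, 0, 1⟩)) (.node 1 (.one ⟨1153, 1, 2⟩) (.one ⟨390, 0, 1⟩))) (.node 2 (.node 1 (.one ⟨15327, 1, 2⟩) (.one ⟨8495, 1, 1⟩)) (.node 1 (.one ⟨138, 0, 1⟩) (.one ⟨14560, 0, 2⟩))))) (.node 8 (.node 4 (.node 2 (.node 1 (.one ⟨7137, 0, 3⟩) (.one ⟨4859, 1, 2⟩)) (.node 1 (.one ⟨8534, 0, 1⟩) (.one ⟨542, 0, 2⟩))) (.node 2 (.node 1 (.one ⟨13688, 1, 2⟩) (.one ⟨16626, 1, 1⟩)) (.node 1 (.one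 ⟨13141, 0, 3⟩) (.one ⟨11858, 0, 2⟩)))) (.node 4 (.node 2 (.node 1 (.one ⟨8719, 0, 1⟩) (.one ⟨14751, 0, 3⟩)) (.node 1 (.one ⟨55, 0, 3⟩) (.one ⟨9129, 0, 1⟩))) (.node 2 (.node 1 (.one ⟨12232, 0, 3⟩) (.one ⟨2407, 0, 3⟩)) (.node 1 (.one ⟨15513, 0, 3⟩) (.one ⟨13326, 0, 2⟩)))))) (.node 16 (.node 8 (.node 4 (.node 2 (.node 1 (.one ⟨3904, 1, 0⟩) (.one ⟨11808, 1, 2⟩)) (.node 1 (.one ⟨938, 0, 3⟩) (.one ⟨3711, 0, 2⟩))) (.node 2 (.node 1 (.one ⟨7845, 0, 2⟩) (.one ⟨15324, 0, 3⟩)) (.node 1 (.one ⟨11498, 0, 3⟩) (.one ⟨9823, 0, 2⟩)))) (.node 4 (.node 2 (.node 1 (.one ⟨14790, 1, 1⟩) (.one ⟨3504, 1, 2⟩)) (.node 1 (.one ⟨2556, 1, 2⟩) (.one ⟨14107, 1, 1⟩))) (.node 2 (.node 1 (.one ⟨16201, 1, 1⟩) (.one ⟨15913, 0, 2⟩)) (.node 1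 (.one ⟨5026, 1, 2⟩) (.one ⟨9602, 1, 1⟩))))) (.node 8 (.node 4 (.node 2 (.node 1 (.one ⟨16448, 1, 1⟩) (.one ⟨16206, 1, 1⟩)) (.node 1 (.one ⟨11436, 1, 2⟩) (.one ⟨13878, 1, 1⟩))) (.node 2 (.node 1 (.one ⟨8617, 0, 1⟩) (.one ⟨12054, 1, 2⟩)) (.node 1 (.one ⟨2333, 1, 0⟩) (.one ⟨16166, 0, 2⟩)))) (.node 4 (.node 2 (.node 1 (.one ⟨9413, 0, 2⟩) (.one ⟨16619, 0, 3⟩)) (.node 1 (.one ⟨10877, 0, 3⟩) (.one ⟨11606, 0, 2⟩))) (.node 2 (.node 1 (.one ⟨5318, 1, 1⟩) (.one ⟨4408, 1, 2⟩)) (.node 1 (.one ⟨15045, 0, 3⟩) (.one ⟨12935, 1, 1⟩)))))))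
def par5_7_15 : Arr Par :=
  (.node 32 (.node 16 (.node 8 (.node 4 (.node 2 (.node 1 (.one ⟨15043, 0, 3⟩) (.one ⟨9601, 1, 1⟩)) (.node 1 (.one ⟨10325, 1, 1⟩) (.one ⟨15367, 1, 2⟩))) (.node 2 (.node 1 (.one ⟨14755, 1, 2⟩) (.one ⟨16185, 1, 2⟩)) (.node 1 (.one ⟨15830, 1, 2⟩) (.one ⟨4546, 0, 0⟩)))) (.node 4 (.node 2 (.node 1 (.one ⟨16722, 0, 2⟩) (.one ⟨3533, 0, 2⟩)) (.node 1 (.one ⟨7928, 0, 1⟩) (.one ⟨13365, 1, 1⟩))) (.node 2 (.node 1 (.one ⟨2472, 1, 0⟩) (.one ⟨6176, 0, 2⟩)) (.node 1 (.one ⟨1025, 0, 2⟩) (.one ⟨12479, 1, 2⟩))))) (.node 8 (.node 4 (.node 2 (.node 1 (.one ⟨7182, 1, 2⟩) (.one ⟨8625, 1, 2⟩)) (.node 1 (.one ⟨1601, 1, 0⟩) (.one ⟨977, 1, 1⟩))) (.node 2 (.node 1 (.one ⟨2926, 0, 1⟩) (.one ⟨15212, 1, 2⟩))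 (.node 1 (.one ⟨10663, 0, 3⟩) (.one ⟨5767, 0, 1⟩)))) (.node 4 (.node 2 (.node 1 (.one ⟨2577, 0, 2⟩) (.one ⟨9606, 1, 1⟩)) (.node 1 (.one ⟨5770, 0, 1⟩) (.one ⟨5827, 1, 1⟩))) (.node 2 (.node 1 (.one ⟨2582, 0, 3⟩) (.one ⟨2579, 0, 1⟩)) (.node 1 (.one ⟨5773, 0, 2⟩) (.one ⟨4821, 1, 0⟩)))))) (.node 16 (.node 8 (.node 4 (.node 2 (.node 1 (.one ⟨7129, 1, 2⟩) (.one ⟨10907, 1, 1⟩)) (.node 1 (.one ⟨6393, 1, 2⟩) (.one ⟨12467, 1, 1⟩))) (.node 2 (.node 1 (.one ⟨8665, 1, 1⟩) (.one ⟨5627, 0, 3⟩)) (.node 1 (.one ⟨7978, 1, 2⟩) (.one ⟨9605, 1, 1⟩)))) (.node 4 (.node 2 (.node 1 (.one ⟨3336, 1, 2⟩) (.one ⟨267, 1, 0⟩)) (.node 1 (.one ⟨765, 1, 0⟩) (.one ⟨17001, 0, 1⟩))) (.node 2 (.node 1 (.one ⟨54, 0, 1⟩) (.one ⟨3425, 0, 0⟩)) (.node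 1 (.one ⟨16841, 1, 2⟩) (.one ⟨2099, 1, 0⟩))))) (.node 8 (.node 4 (.node 2 (.node 1 (.one ⟨14766, 0, 1⟩) (.one ⟨8972, 1, 2⟩)) (.node 1 (.one ⟨15392, 1, 1⟩) (.one ⟨584, 1, 0⟩))) (.node 2 (.node 1 (.one ⟨10619, 0, 3⟩) (.one ⟨12330, 0, 1⟩)) (.node 1 (.one ⟨8906, 0, 2⟩) (.one ⟨7687, 0, 1⟩)))) (.node 4 (.node 2 (.node 1 (.one ⟨16395, 1, 1⟩) (.one ⟨1118, 1, 1⟩)) (.node 1 (.one ⟨6095, 1, 2⟩) (.one ⟨10031, 1, 1⟩))) (.node 2 (.node 1 (.one ⟨1352, 0, 2⟩) (.one ⟨1233, 0, 2⟩)) (.node 1 (.one ⟨1439, 1, 0⟩) (.one ⟨8190, 1, 1⟩)))))))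
def par5_7 : Arr Par :=
  (.node 512 (.node 256 (.node 128 (.node 64 par5_7_0 par5_7_1) (.node 64 par5_7_2 par5_7_3)) (.node 128 (.node 64 par5_7_4 par5_7_5) (.node 64 par5_7_6 par5_7_7))) (.node 256 (.node 128 (.node 64 par5_7_8 par5_7_9) (.node 64 par5_7_10 par5_7_11)) (.node 128 (.node 64 par5_7_12 par5_7_13) (.node 64 par5_7_14 par5_7_15))))
def par5_8_0 : Arr Par :=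
  (.node 32 (.node 16 (.node 8 (.node 4 (.node 2 (.node 1 (.one ⟨7121, 1, 2⟩) (.one ⟨5701, 1, 1⟩)) (.node 1 (.one ⟨619, 0, 1⟩) (.one ⟨14639, 0, 1⟩))) (.node 2 (.node 1 (.one ⟨10916, 0, 2⟩) (.one ⟨350, 1, 0⟩)) (.node 1 (.one ⟨4869, 1, 1⟩) (.one ⟨16908, 1, 1⟩)))) (.node 4 (.node 2 (.node 1 (.one ⟨1255, 1, 1⟩) (.one ⟨12952, 0, 2⟩)) (.node 1 (.one ⟨4840, 0, 2⟩) (.one ⟨3707, 1, 0⟩))) (.node 2 (.node 1 (.one ⟨1803, 1, 1⟩) (.one ⟨15250, 0, 2⟩)) (.node 1 (.one ⟨7304, 0, 2⟩) (.one ⟨16881, 0, 3⟩))))) (.node 8 (.node 4 (.node 2 (.node 1 (.one ⟨10380, 0, 1⟩) (.one ⟨1524, 0, 1⟩)) (.node 1 (.one ⟨8433, 0, 1⟩) (.one ⟨1258, 1, 1⟩))) (.node 2 (.node 1 (.one ⟨4478, 1, 1⟩) (.one ⟨16863, 0, 2⟩)) (.node 1 (.one ⟨991, 1, 2⟩) (.one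 ⟨2457, 1, 0⟩)))) (.node 4 (.node 2 (.node 1 (.one ⟨1190, 1, 0⟩) (.one ⟨3589, 1, 1⟩)) (.node 1 (.one ⟨8474, 1, 2⟩) (.one ⟨529, 0, 2⟩))) (.node 2 (.node 1 (.one ⟨5111, 1, 2⟩) (.one ⟨1903, 1, 0⟩)) (.node 1 (.one ⟨5099, 0, 2⟩) (.one ⟨13440, 1, 1⟩)))))) (.node 16 (.node 8 (.node 4 (.node 2 (.node 1 (.one ⟨3129, 0, 2⟩) (.one ⟨1113, 1, 1⟩)) (.node 1 (.one ⟨15441, 0, 3⟩) (.one ⟨9836, 0, 3⟩))) (.node 2 (.node 1 (.one ⟨2096, 1, 0⟩) (.one ⟨3040, 1, 2⟩)) (.node 1 (.one ⟨2340, 0, 3⟩) (.one ⟨9943, 0, 2⟩)))) (.node 4 (.node 2 (.node 1 (.one ⟨1739, 0, 3⟩) (.one ⟨9713, 0, 1⟩)) (.node 1 (.one ⟨874, 1, 0⟩) (.one ⟨889, 1, 1⟩))) (.node 2 (.node 1 (.one ⟨13438, 0, 1⟩) (.one ⟨3514, 1, 1⟩)) (.node 1 (.one ⟨537, 1, 0⟩) (.one ⟨7693,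 1, 2⟩))))) (.node 8 (.node 4 (.node 2 (.node 1 (.one ⟨1178, 1, 1⟩) (.one ⟨1874, 1, 0⟩)) (.node 1 (.one ⟨16124, 0, 2⟩) (.one ⟨11773, 0, 1⟩))) (.node 2 (.node 1 (.one ⟨14095, 0, 2⟩) (.one ⟨5704, 0, 2⟩)) (.node 1 (.one ⟨12623, 1, 1⟩) (.one ⟨3271, 1, 1⟩)))) (.node 4 (.node 2 (.node 1 (.one ⟨9807, 0, 3⟩) (.one ⟨2830, 0, 0⟩)) (.node 1 (.one ⟨3922, 1, 2⟩) (.one ⟨4829, 1, 2⟩))) (.node 2 (.node 1 (.one ⟨3369, 1, 2⟩) (.one ⟨4000, 0, 1⟩)) (.node 1 (.one ⟨1873, 0, 1⟩) (.one ⟨3946, 1, 2⟩)))))))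
def par5_8_1 : Arr Par :=
  (.node 32 (.node 16 (.node 8 (.node 4 (.node 2 (.node 1 (.one ⟨11590, 1, 2⟩) (.one ⟨10510, 1, 2⟩)) (.node 1 (.one ⟨9621, 0, 2⟩) (.one ⟨10474, 1, 2⟩))) (.node 2 (.node 1 (.one ⟨3037, 0, 3⟩) (.one ⟨3901, 1, 2⟩)) (.node 1 (.one ⟨3846, 0, 3⟩) (.one ⟨7254, 1, 2⟩)))) (.node 4 (.node 2 (.node 1 (.one ⟨5616, 1, 1⟩) (.one ⟨8291, 1, 1⟩)) (.node 1 (.one ⟨6362, 0, 3⟩) (.one ⟨3123, 1, 1⟩))) (.node 2 (.node 1 (.one ⟨3314, 1, 0⟩) (.one ⟨14632, 0, 2⟩)) (.node 1 (.one ⟨5454, 1, 0⟩) (.one ⟨1507, 1, 0⟩))))) (.node 8 (.node 4 (.node 2 (.node 1 (.one ⟨4433, 0, 2⟩) (.one ⟨3093, 0, 1⟩)) (.node 1 (.one ⟨668, 1, 0⟩) (.one ⟨3693, 1, 0⟩))) (.node 2 (.node 1 (.one ⟨624, 1, 1⟩) (.one ⟨6944, 0, 2⟩)) (.node 1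 (.one ⟨4081, 1, 2⟩) (.one ⟨7588, 0, 2⟩)))) (.node 4 (.node 2 (.node 1 (.one ⟨14377, 1, 1⟩) (.one ⟨1175, 1, 1⟩)) (.node 1 (.one ⟨12593, 0, 2⟩) (.one ⟨4743, 0, 3⟩))) (.node 2 (.node 1 (.one ⟨16889, 1, 1⟩) (.one ⟨4549, 1, 1⟩)) (.node 1 (.one ⟨15579, 0, 3⟩) (.one ⟨5561, 1, 1⟩)))))) (.node 16 (.node 8 (.node 4 (.node 2 (.node 1 (.one ⟨8756, 0, 2⟩) (.one ⟨12307, 0, 3⟩)) (.node 1 (.one ⟨15986, 0, 3⟩) (.one ⟨651, 1, 0⟩))) (.node 2 (.node 1 (.one ⟨16681, 1, 2⟩) (.one ⟨4151, 0, 2⟩)) (.node 1 (.one ⟨7892, 0, 3⟩) (.one ⟨2051, 0, 0⟩)))) (.node 4 (.node 2 (.node 1 (.one ⟨13997, 0, 3⟩) (.one ⟨3904, 1, 2⟩)) (.node 1 (.one ⟨2813, 1, 1⟩) (.one ⟨10673, 0, 2⟩))) (.node 2 (.node 1 (.one ⟨1498, 1, 2⟩) (.one ⟨891, 1, 1⟩)) (.node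 1 (.one ⟨3481, 0, 3⟩) (.one ⟨1522, 1, 0⟩))))) (.node 8 (.node 4 (.node 2 (.node 1 (.one ⟨4708, 0, 2⟩) (.one ⟨177, 1, 0⟩)) (.node 1 (.one ⟨3560, 0, 3⟩) (.one ⟨2850, 0, 2⟩))) (.node 2 (.node 1 (.one ⟨5057, 0, 2⟩) (.one ⟨9615, 1, 1⟩)) (.node 1 (.one ⟨4084, 0, 1⟩) (.one ⟨3450, 1, 0⟩)))) (.node 4 (.node 2 (.node 1 (.one ⟨12350, 0, 1⟩) (.one ⟨11224, 1, 1⟩)) (.node 1 (.one ⟨3558, 0, 2⟩) (.one ⟨14294, 0, 2⟩))) (.node 2 (.node 1 (.one ⟨1447, 0, 2⟩) (.one ⟨7970, 1, 2⟩)) (.node 1 (.one ⟨10746, 0, 3⟩) (.one ⟨541, 0, 1⟩)))))))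
def par5_8_2 : Arr Par :=
  (.node 32 (.node 16 (.node 8 (.node 4 (.node 2 (.node 1 (.one ⟨326, 0, 1⟩) (.one ⟨310, 0, 1⟩)) (.node 1 (.one ⟨97, 0, 1⟩) (.one ⟨11289, 1, 2⟩))) (.node 2 (.node 1 (.one ⟨1039, 0, 1⟩) (.one ⟨656, 0, 1⟩)) (.node 1 (.one ⟨773, 0, 1⟩) (.one ⟨11732, 0, 3⟩)))) (.node 4 (.node 2 (.node 1 (.one ⟨1556, 0, 0⟩) (.one ⟨3153, 1, 1⟩)) (.node 1 (.one ⟨6720, 0, 1⟩) (.one ⟨2753, 1, 0⟩))) (.node 2 (.node 1 (.one ⟨9135, 0, 3⟩) (.one ⟨17139, 1, 1⟩)) (.node 1 (.one ⟨622, 1, 0⟩) (.one ⟨14792, 0, 1⟩))))) (.node 8 (.node 4 (.node 2 (.node 1 (.one ⟨11980, 0, 1⟩) (.one ⟨11214, 0, 1⟩)) (.node 1 (.one ⟨145, 1, 1⟩) (.one ⟨121, 0, 1⟩))) (.node 2 (.node 1 (.one ⟨287, 1, 2⟩) (.one ⟨786, 1, 1⟩)) (.node 1 (.one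 ⟨4528, 0, 1⟩) (.one ⟨16396, 1, 2⟩)))) (.node 4 (.node 2 (.node 1 (.one ⟨3816, 0, 2⟩) (.one ⟨16319, 1, 2⟩)) (.node 1 (.one ⟨10461, 0, 2⟩) (.one ⟨5823, 1, 2⟩))) (.node 2 (.node 1 (.one ⟨3234, 1, 0⟩) (.one ⟨3437, 0, 1⟩)) (.node 1 (.one ⟨9752, 1, 2⟩) (.one ⟨3931, 0, 2⟩)))))) (.node 16 (.node 8 (.node 4 (.node 2 (.node 1 (.one ⟨3975, 1, 2⟩) (.one ⟨13985, 0, 2⟩)) (.node 1 (.one ⟨4713, 1, 0⟩) (.one ⟨269, 1, 1⟩))) (.node 2 (.node 1 (.one ⟨3337, 0, 1⟩) (.one ⟨4786, 0, 2⟩)) (.node 1 (.one ⟨16558, 0, 2⟩) (.one ⟨13613, 0, 3⟩)))) (.node 4 (.node 2 (.node 1 (.one ⟨1058, 1, 0⟩) (.one ⟨16979, 0, 3⟩)) (.node 1 (.one ⟨10213, 0, 3⟩) (.one ⟨2367, 1, 0⟩))) (.node 2 (.node 1 (.one ⟨9131, 0, 3⟩) (.one ⟨5997, 0, 3⟩)) (.node 1 (.one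 ⟨530, 1, 0⟩) (.one ⟨10765, 0, 2⟩))))) (.node 8 (.node 4 (.node 2 (.node 1 (.one ⟨3673, 1, 0⟩) (.one ⟨10996, 0, 2⟩)) (.node 1 (.one ⟨3651, 1, 2⟩) (.one ⟨4684, 1, 1⟩))) (.node 2 (.node 1 (.one ⟨3163, 1, 0⟩) (.one ⟨513, 1, 0⟩)) (.node 1 (.one ⟨611, 1, 0⟩) (.one ⟨2531, 1, 1⟩)))) (.node 4 (.node 2 (.node 1 (.one ⟨581, 1, 0⟩) (.one ⟨9022, 1, 1⟩)) (.node 1 (.one ⟨11822, 0, 2⟩) (.one ⟨2184, 0, 1⟩))) (.node 2 (.node 1 (.one ⟨14366, 1, 1⟩) (.one ⟨11596, 0, 3⟩)) (.node 1 (.one ⟨15668, 0, 3⟩) (.one ⟨2524, 1, 0⟩)))))))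
def par5_8_3 : Arr Par :=
  (.node 32 (.node 16 (.node 8 (.node 4 (.node 2 (.node 1 (.one ⟨8642, 1, 1⟩) (.one ⟨13870, 1, 2⟩)) (.node 1 (.one ⟨2400, 1, 2⟩) (.one ⟨16535, 1, 2⟩))) (.node 2 (.node 1 (.one ⟨5108, 1, 1⟩) (.one ⟨16342, 0, 3⟩)) (.node 1 (.one ⟨4477, 0, 3⟩) (.one ⟨3790, 0, 3⟩)))) (.node 4 (.node 2 (.node 1 (.one ⟨14869, 0, 1⟩) (.one ⟨654, 1, 0⟩)) (.node 1 (.one ⟨515, 0, 1⟩) (.one ⟨5517, 0, 3⟩))) (.node 2 (.node 1 (.one ⟨14082, 1, 1⟩) (.one ⟨2023, 1, 0⟩)) (.node 1 (.one ⟨3206, 0, 2⟩) (.one ⟨14455, 0, 3⟩))))) (.node 8 (.node 4 (.node 2 (.node 1 (.one ⟨13004, 1, 2⟩) (.one ⟨5178, 0, 0⟩)) (.node 1 (.one ⟨282, 1, 0⟩) (.one ⟨4073, 0, 2⟩))) (.node 2 (.node 1 (.one ⟨12976, 0, 2⟩) (.one ⟨12885, 0, 2⟩)) (.node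 1 (.one ⟨565, 1, 1⟩) (.one ⟨9784, 0, 1⟩)))) (.node 4 (.node 2 (.node 1 (.one ⟨3034, 1, 0⟩) (.one ⟨4267, 0, 1⟩)) (.node 1 (.one ⟨16084, 1, 2⟩) (.one ⟨16754, 1, 1⟩))) (.node 2 (.node 1 (.one ⟨3293, 0, 0⟩) (.one ⟨10417, 0, 1⟩)) (.node 1 (.one ⟨5066, 0, 1⟩) (.one ⟨8515, 1, 1⟩)))))) (.node 16 (.node 8 (.node 4 (.node 2 (.node 1 (.one ⟨4230, 1, 2⟩) (.one ⟨15933, 0, 2⟩)) (.node 1 (.one ⟨4682, 0, 2⟩) (.one ⟨4670, 0, 2⟩))) (.node 2 (.node 1 (.one ⟨15948, 0, 2⟩) (.one ⟨8172, 1, 2⟩)) (.node 1 (.one ⟨4812, 1, 1⟩) (.one ⟨13509, 0, 3⟩)))) (.node 4 (.node 2 (.node 1 (.one ⟨10561, 1, 2⟩) (.one ⟨15301, 0, 2⟩)) (.node 1 (.one ⟨10119, 0, 1⟩) (.one ⟨7775, 0, 2⟩))) (.node 2 (.node 1 (.one ⟨5413, 0, 2⟩) (.one ⟨5107, 1, 1⟩)) (.node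 1 (.one ⟨7381, 0, 2⟩) (.one ⟨4394, 1, 2⟩))))) (.node 8 (.node 4 (.node 2 (.node 1 (.one ⟨15451, 0, 2⟩) (.one ⟨1972, 1, 0⟩)) (.node 1 (.one ⟨4557, 1, 0⟩) (.one ⟨5226, 1, 0⟩))) (.node 2 (.node 1 (.one ⟨1376, 1, 0⟩) (.one ⟨17089, 1, 2⟩)) (.node 1 (.one ⟨4960, 1, 2⟩) (.one ⟨320, 1, 1⟩)))) (.node 4 (.node 2 (.node 1 (.one ⟨10103, 1, 2⟩) (.one ⟨10731, 1, 1⟩)) (.node 1 (.one ⟨2253, 1, 1⟩) (.one ⟨13042, 1, 1⟩))) (.node 2 (.node 1 (.one ⟨4879, 1, 2⟩) (.one ⟨5292, 1, 2⟩)) (.node 1 (.one ⟨13413, 1, 1⟩) (.one ⟨13063, 1, 2⟩)))))))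
def par5_8_4 : Arr Par :=
  (.node 32 (.node 16 (.node 8 (.node 4 (.node 2 (.node 1 (.one ⟨754, 1, 2⟩) (.one ⟨125, 1, 2⟩)) (.node 1 (.one ⟨13068, 1, 2⟩) (.one ⟨924, 1, 2⟩))) (.node 2 (.node 1 (.one ⟨13066, 1, 2⟩) (.one ⟨13069, 1, 2⟩)) (.node 1 (.one ⟨496, 1, 2⟩) (.one ⟨5248, 0, 1⟩)))) (.node 4 (.node 2 (.node 1 (.one ⟨8194, 1, 2⟩) (.one ⟨2608, 0, 0⟩)) (.node 1 (.one ⟨11375, 1, 2⟩) (.one ⟨5247, 0, 1⟩))) (.node 2 (.node 1 (.one ⟨3738, 1, 1⟩) (.one ⟨4985, 0, 0⟩)) (.node 1 (.one ⟨14952, 1, 2⟩) (.one ⟨10469, 0, 2⟩))))) (.node 8 (.node 4 (.node 2 (.node 1 (.one ⟨13083, 1, 2⟩) (.one ⟨6585, 0, 3⟩)) (.node 1 (.one ⟨6289, 0, 3⟩) (.one ⟨14059, 1, 2⟩))) (.node 2 (.node 1 (.one ⟨3182, 0, 3⟩) (.one ⟨13427, 1, 1⟩)) (.node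 1 (.one ⟨13818, 0, 1⟩) (.one ⟨4281, 1, 2⟩)))) (.node 4 (.node 2 (.node 1 (.one ⟨8727, 1, 1⟩) (.one ⟨13916, 0, 2⟩)) (.node 1 (.one ⟨11523, 0, 1⟩) (.one ⟨7773, 0, 3⟩))) (.node 2 (.node 1 (.one ⟨1786, 1, 0⟩) (.one ⟨15388, 0, 2⟩)) (.node 1 (.one ⟨10017, 0, 3⟩) (.one ⟨1381, 0, 1⟩)))))) (.node 16 (.node 8 (.node 4 (.node 2 (.node 1 (.one ⟨14949, 1, 2⟩) (.one ⟨4809, 0, 3⟩)) (.node 1 (.one ⟨9426, 0, 1⟩) (.one ⟨1290, 0, 1⟩))) (.node 2 (.node 1 (.one ⟨1803, 1, 0⟩) (.one ⟨4828, 0, 1⟩)) (.node 1 (.one ⟨9293, 0, 1⟩) (.one ⟨8212, 0, 2⟩)))) (.node 4 (.node 2 (.node 1 (.one ⟨1509, 1, 0⟩) (.one ⟨2067, 0, 3⟩)) (.node 1 (.one ⟨13091, 1, 2⟩) (.one ⟨5921, 1, 2⟩))) (.node 2 (.node 1 (.one ⟨5871, 0, 2⟩) (.one ⟨5349, 0, 1⟩)) (.node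 1 (.one ⟨16695, 1, 1⟩) (.one ⟨749, 1, 0⟩))))) (.node 8 (.node 4 (.node 2 (.node 1 (.one ⟨15311, 0, 1⟩) (.one ⟨1336, 1, 0⟩)) (.node 1 (.one ⟨6989, 0, 3⟩) (.one ⟨2251, 0, 0⟩))) (.node 2 (.node 1 (.one ⟨2989, 0, 1⟩) (.one ⟨2294, 0, 2⟩)) (.node 1 (.one ⟨7035, 1, 1⟩) (.one ⟨1958, 1, 0⟩)))) (.node 4 (.node 2 (.node 1 (.one ⟨9288, 0, 3⟩) (.one ⟨870, 1, 0⟩)) (.node 1 (.one ⟨6059, 1, 2⟩) (.one ⟨16675, 1, 1⟩))) (.node 2 (.node 1 (.one ⟨5299, 1, 0⟩) (.one ⟨9977, 0, 3⟩)) (.node 1 (.one ⟨804, 1, 0⟩) (.one ⟨9331, 1, 1⟩)))))))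
def par5_8_5 : Arr Par :=
  (.node 32 (.node 16 (.node 8 (.node 4 (.node 2 (.node 1 (.one ⟨1364, 1, 0⟩) (.one ⟨14947, 0, 3⟩)) (.node 1 (.one ⟨12642, 0, 1⟩) (.one ⟨560, 1, 0⟩))) (.node 2 (.node 1 (.one ⟨16091, 0, 2⟩) (.one ⟨636, 1, 0⟩)) (.node 1 (.one ⟨182, 0, 0⟩) (.one ⟨5472, 0, 2⟩)))) (.node 4 (.node 2 (.node 1 (.one ⟨13606, 0, 2⟩) (.one ⟨14462, 0, 1⟩)) (.node 1 (.one ⟨266, 1, 0⟩) (.one ⟨323, 1, 1⟩))) (.node 2 (.node 1 (.one ⟨775, 1, 2⟩) (.one ⟨7226, 0, 2⟩)) (.node 1 (.one ⟨1712, 1, 0⟩) (.one ⟨9237, 1, 1⟩))))) (.node 8 (.node 4 (.node 2 (.node 1 (.one ⟨64, 0, 1⟩) (.one ⟨8104, 0, 2⟩)) (.node 1 (.one ⟨12447, 1, 1⟩) (.one ⟨15316, 1, 1⟩))) (.node 2 (.node 1 (.one ⟨1481, 0, 2⟩) (.one ⟨9223, 1, 2⟩)) (.node 1 (.one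 ⟨1181, 1, 0⟩) (.one ⟨16551, 0, 3⟩)))) (.node 4 (.node 2 (.node 1 (.one ⟨4534, 1, 2⟩) (.one ⟨3783, 0, 2⟩)) (.node 1 (.one ⟨9009, 0, 1⟩) (.one ⟨10655, 0, 3⟩))) (.node 2 (.node 1 (.one ⟨15137, 0, 3⟩) (.one ⟨1123, 1, 1⟩)) (.node 1 (.one ⟨5540, 1, 2⟩) (.one ⟨2768, 1, 0⟩)))))) (.node 16 (.node 8 (.node 4 (.node 2 (.node 1 (.one ⟨16660, 1, 2⟩) (.one ⟨14510, 0, 2⟩)) (.node 1 (.one ⟨7091, 1, 2⟩) (.one ⟨8566, 1, 2⟩))) (.node 2 (.node 1 (.one ⟨1140, 0, 2⟩) (.one ⟨15189, 1, 2⟩)) (.node 1 (.one ⟨12305, 1, 2⟩) (.one ⟨16374, 0, 2⟩)))) (.node 4 (.node 2 (.node 1 (.one ⟨1449, 1, 0⟩) (.one ⟨1615, 1, 0⟩)) (.node 1 (.one ⟨3715, 0, 2⟩) (.one ⟨3889, 1, 2⟩))) (.node 2 (.node 1 (.one ⟨4547, 1, 1⟩) (.one ⟨5486, 1, 1⟩)) (.node 1 (.one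 ⟨748, 1, 0⟩) (.one ⟨1669, 0, 2⟩))))) (.node 8 (.node 4 (.node 2 (.node 1 (.one ⟨9235, 1, 2⟩) (.one ⟨12330, 1, 1⟩)) (.node 1 (.one ⟨17140, 0, 2⟩) (.one ⟨7198, 1, 1⟩))) (.node 2 (.node 1 (.one ⟨5530, 0, 2⟩) (.one ⟨13882, 0, 3⟩)) (.node 1 (.one ⟨11359, 0, 1⟩) (.one ⟨5070, 0, 2⟩)))) (.node 4 (.node 2 (.node 1 (.one ⟨1967, 1, 0⟩) (.one ⟨1767, 0, 1⟩)) (.node 1 (.one ⟨4011, 0, 1⟩) (.one ⟨3826, 1, 1⟩))) (.node 2 (.node 1 (.one ⟨4124, 1, 0⟩) (.one ⟨11699, 0, 1⟩)) (.node 1 (.one ⟨10740, 0, 1⟩) (.one ⟨7227, 1, 2⟩)))))))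
def par5_8_6 : Arr Par :=
  (.node 32 (.node 16 (.node 8 (.node 4 (.node 2 (.node 1 (.one ⟨16563, 1, 2⟩) (.one ⟨9233, 1, 1⟩)) (.node 1 (.one ⟨15585, 0, 3⟩) (.one ⟨16615, 1, 2⟩))) (.node 2 (.node 1 (.one ⟨7265, 1, 2⟩) (.one ⟨10907, 0, 1⟩)) (.node 1 (.one ⟨15590, 0, 2⟩) (.one ⟨11916, 1, 1⟩)))) (.node 4 (.node 2 (.node 1 (.one ⟨751, 1, 0⟩) (.one ⟨8991, 1, 1⟩)) (.node 1 (.one ⟨1760, 1, 0⟩) (.one ⟨5194, 0, 3⟩))) (.node 2 (.node 1 (.one ⟨1120, 1, 1⟩) (.one ⟨6383, 1, 1⟩)) (.node 1 (.one ⟨15621, 1, 2⟩) (.one ⟨5445, 0, 1⟩))))) (.node 8 (.node 4 (.node 2 (.node 1 (.one ⟨9328, 1, 1⟩) (.one ⟨2723, 1, 0⟩)) (.node 1 (.one ⟨11220, 0, 3⟩) (.one ⟨12986, 0, 1⟩))) (.node 2 (.node 1 (.one ⟨1471, 0, 1⟩) (.one ⟨12696, 1, 2⟩)) (.node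 1 (.one ⟨2792, 0, 3⟩) (.one ⟨5423, 0, 3⟩)))) (.node 4 (.node 2 (.node 1 (.one ⟨5426, 0, 3⟩) (.one ⟨5429, 0, 3⟩)) (.node 1 (.one ⟨5428, 0, 3⟩) (.one ⟨5424, 0, 3⟩))) (.node 2 (.node 1 (.one ⟨8526, 1, 1⟩) (.one ⟨5430, 0, 2⟩)) (.node 1 (.one ⟨856, 1, 1⟩) (.one ⟨16689, 0, 2⟩)))))) (.node 16 (.node 8 (.node 4 (.node 2 (.node 1 (.one ⟨1817, 0, 1⟩) (.one ⟨1647, 1, 0⟩)) (.node 1 (.one ⟨2615, 0, 3⟩) (.one ⟨12942, 0, 3⟩))) (.node 2 (.node 1 (.one ⟨6124, 0, 3⟩) (.one ⟨13549, 0, 3⟩)) (.node 1 (.one ⟨6411, 0, 3⟩) (.one ⟨16562, 1, 1⟩)))) (.node 4 (.node 2 (.node 1 (.one ⟨3231, 1, 0⟩) (.one ⟨1572, 1, 0⟩)) (.node 1 (.one ⟨9007, 0, 3⟩) (.one ⟨11133, 0, 1⟩))) (.node 2 (.node 1 (.one ⟨9432, 0, 2⟩) (.one ⟨12778, 1, 2⟩)) (.node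 1 (.one ⟨11994, 0, 2⟩) (.one ⟨9691, 1, 2⟩))))) (.node 8 (.node 4 (.node 2 (.node 1 (.one ⟨4099, 1, 0⟩) (.one ⟨2673, 0, 1⟩)) (.node 1 (.one ⟨907, 1, 0⟩) (.one ⟨2636, 0, 3⟩))) (.node 2 (.node 1 (.one ⟨9231, 0, 2⟩) (.one ⟨16288, 1, 2⟩)) (.node 1 (.one ⟨3361, 1, 0⟩) (.one ⟨13788, 1, 1⟩)))) (.node 4 (.node 2 (.node 1 (.one ⟨4941, 1, 1⟩) (.one ⟨13513, 1, 1⟩)) (.node 1 (.one ⟨5622, 0, 3⟩) (.one ⟨4194, 1, 1⟩))) (.node 2 (.node 1 (.one ⟨4948, 1, 0⟩) (.one ⟨9357, 0, 2⟩)) (.node 1 (.one ⟨11862, 1, 1⟩) (.one ⟨8138, 1, 2⟩)))))))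
def par5_8_7 : Arr Par :=
  (.node 32 (.node 16 (.node 8 (.node 4 (.node 2 (.node 1 (.one ⟨4194, 0, 1⟩) (.one ⟨14247, 0, 2⟩)) (.node 1 (.one ⟨3031, 1, 0⟩) (.one ⟨16291, 1, 2⟩))) (.node 2 (.node 1 (.one ⟨3120, 1, 0⟩) (.one ⟨12883, 0, 2⟩)) (.node 1 (.one ⟨16548, 1, 2⟩) (.one ⟨11172, 0, 2⟩)))) (.node 4 (.node 2 (.node 1 (.one ⟨960, 1, 0⟩) (.one ⟨13404, 0, 2⟩)) (.node 1 (.one ⟨2689, 0, 1⟩) (.one ⟨16911, 1, 2⟩))) (.node 2 (.node 1 (.one ⟨11545, 0, 2⟩) (.one ⟨3628, 1, 0⟩)) (.node 1 (.one ⟨12985, 0, 2⟩) (.one ⟨9348, 0, 1⟩))))) (.node 8 (.node 4 (.node 2 (.node 1 (.one ⟨11155, 1, 2⟩) (.one ⟨1114, 0, 1⟩)) (.node 1 (.one ⟨605, 0, 1⟩) (.one ⟨6229, 0, 1⟩))) (.node 2 (.node 1 (.one ⟨15952, 1, 2⟩) (.one ⟨5915, 1, 2⟩)) (.node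 1 (.one ⟨7624, 1, 1⟩) (.one ⟨13759, 1, 2⟩)))) (.node 4 (.node 2 (.node 1 (.one ⟨1111, 0, 2⟩) (.one ⟨568, 1, 0⟩)) (.node 1 (.one ⟨1971, 1, 0⟩) (.one ⟨3596, 1, 0⟩))) (.node 2 (.node 1 (.one ⟨8333, 0, 2⟩) (.one ⟨13661, 0, 2⟩)) (.node 1 (.one ⟨12005, 1, 2⟩) (.one ⟨2150, 1, 0⟩)))))) (.node 16 (.node 8 (.node 4 (.node 2 (.node 1 (.one ⟨13281, 1, 2⟩) (.one ⟨12445, 0, 1⟩)) (.node 1 (.one ⟨2992, 1, 1⟩) (.one ⟨4856, 1, 0⟩))) (.node 2 (.node 1 (.one ⟨12440, 0, 1⟩) (.one ⟨1510, 1, 1⟩)) (.node 1 (.one ⟨12441, 0, 2⟩) (.one ⟨12456, 0, 3⟩)))) (.node 4 (.node 2 (.node 1 (.one ⟨4795, 0, 3⟩) (.one ⟨751, 0, 3⟩)) (.node 1 (.one ⟨11559, 0, 3⟩) (.one ⟨1241, 0, 0⟩))) (.node 2 (.node 1 (.one ⟨12906, 0, 3⟩) (.one ⟨9515, 0, 2⟩)) (.node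 1 (.one ⟨3448, 0, 2⟩) (.one ⟨2560, 1, 0⟩))))) (.node 8 (.node 4 (.node 2 (.node 1 (.one ⟨4314, 1, 2⟩) (.one ⟨7094, 0, 3⟩)) (.node 1 (.one ⟨2189, 1, 0⟩) (.one ⟨445, 0, 1⟩))) (.node 2 (.node 1 (.one ⟨3497, 1, 0⟩) (.one ⟨2451, 1, 0⟩)) (.node 1 (.one ⟨10992, 0, 1⟩) (.one ⟨16503, 0, 3⟩)))) (.node 4 (.node 2 (.node 1 (.one ⟨16045, 1, 2⟩) (.one ⟨2121, 1, 2⟩)) (.node 1 (.one ⟨12929, 0, 2⟩) (.one ⟨4422, 1, 1⟩))) (.node 2 (.node 1 (.one ⟨12879, 0, 3⟩) (.one ⟨16488, 0, 1⟩)) (.node 1 (.one ⟨14550, 1, 2⟩) (.one ⟨14204, 0, 2⟩)))))))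
def par5_8_8 : Arr Par :=
  (.node 32 (.node 16 (.node 8 (.node 4 (.node 2 (.node 1 (.one ⟨511, 1, 0⟩) (.one ⟨6359, 1, 2⟩)) (.node 1 (.one ⟨176, 1, 0⟩) (.one ⟨7746, 0, 2⟩))) (.node 2 (.node 1 (.one ⟨16040, 0, 2⟩) (.one ⟨4824, 1, 0⟩)) (.node 1 (.one ⟨1872, 1, 0⟩) (.one ⟨1405, 0, 2⟩)))) (.node 4 (.node 2 (.node 1 (.one ⟨13230, 0, 3⟩) (.one ⟨1020, 1, 0⟩)) (.node 1 (.one ⟨12310, 1, 2⟩) (.one ⟨2129, 1, 0⟩))) (.node 2 (.node 1 (.one ⟨1013, 1, 1⟩) (.one ⟨13029, 1, 1⟩)) (.node 1 (.one ⟨12925, 1, 1⟩) (.one ⟨2709, 1, 0⟩))))) (.node 8 (.node 4 (.node 2 (.node 1 (.one ⟨16100, 0, 3⟩) (.one ⟨10055, 1, 2⟩)) (.node 1 (.one ⟨166, 0, 1⟩) (.one ⟨3372, 1, 0⟩))) (.node 2 (.node 1 (.one ⟨6376, 0, 3⟩) (.one ⟨4304, 0, 3⟩)) (.node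 1 (.one ⟨12227, 0, 2⟩) (.one ⟨3972, 1, 0⟩)))) (.node 4 (.node 2 (.node 1 (.one ⟨4587, 1, 1⟩) (.one ⟨3618, 1, 2⟩)) (.node 1 (.one ⟨8970, 0, 1⟩) (.one ⟨15751, 0, 3⟩))) (.node 2 (.node 1 (.one ⟨6254, 0, 1⟩) (.one ⟨1103, 0, 2⟩)) (.node 1 (.one ⟨11020, 1, 1⟩) (.one ⟨8648, 1, 1⟩)))))) (.node 16 (.node 8 (.node 4 (.node 2 (.node 1 (.one ⟨7993, 0, 1⟩) (.one ⟨11843, 0, 1⟩)) (.node 1 (.one ⟨4181, 0, 3⟩) (.one ⟨14428, 0, 1⟩))) (.node 2 (.node 1 (.one ⟨5605, 0, 2⟩) (.one ⟨9591, 0, 2⟩)) (.node 1 (.one ⟨1253, 1, 0⟩) (.one ⟨13161, 0, 1⟩)))) (.node 4 (.node 2 (.node 1 (.one ⟨12875, 1, 2⟩) (.one ⟨15199, 0, 2⟩)) (.node 1 (.one ⟨4928, 1, 2⟩) (.one ⟨948, 1, 2⟩))) (.node 2 (.node 1 (.one ⟨614, 0, 1⟩) (.one ⟨7674, 0, 3⟩)) (.node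 1 (.one ⟨7637, 0, 3⟩) (.one ⟨4538, 1, 2⟩))))) (.node 8 (.node 4 (.node 2 (.node 1 (.one ⟨15101, 1, 2⟩) (.one ⟨7790, 1, 2⟩)) (.node 1 (.one ⟨9985, 1, 2⟩) (.one ⟨7503, 0, 3⟩))) (.node 2 (.node 1 (.one ⟨14340, 1, 1⟩) (.one ⟨13464, 0, 3⟩)) (.node 1 (.one ⟨11413, 1, 2⟩) (.one ⟨15942, 1, 2⟩)))) (.node 4 (.node 2 (.node 1 (.one ⟨61, 0, 3⟩) (.one ⟨11150, 0, 2⟩)) (.node 1 (.one ⟨12461, 0, 1⟩) (.one ⟨2980, 1, 0⟩))) (.node 2 (.node 1 (.one ⟨4962, 0, 3⟩) (.one ⟨11597, 0, 3⟩)) (.node 1 (.one ⟨2074, 1, 0⟩) (.one ⟨16533, 0, 2⟩)))))))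
def par5_8_9 : Arr Par :=
  (.node 32 (.node 16 (.node 8 (.node 4 (.node 2 (.node 1 (.one ⟨3783, 1, 0⟩) (.one ⟨8718, 0, 2⟩)) (.node 1 (.one ⟨764, 0, 2⟩) (.one ⟨16751, 0, 3⟩))) (.node 2 (.node 1 (.one ⟨9338, 0, 2⟩) (.one ⟨8488, 0, 1⟩)) (.node 1 (.one ⟨13318, 1, 1⟩) (.one ⟨15911, 0, 2⟩)))) (.node 4 (.node 2 (.node 1 (.one ⟨2854, 1, 2⟩) (.one ⟨15356, 0, 2⟩)) (.node 1 (.one ⟨5217, 0, 1⟩) (.one ⟨326, 1, 1⟩))) (.node 2 (.node 1 (.one ⟨3563, 1, 0⟩) (.one ⟨16262, 1, 2⟩)) (.node 1 (.one ⟨10377, 1, 1⟩) (.one ⟨2601, 0, 0⟩))))) (.node 8 (.node 4 (.node 2 (.node 1 (.one ⟨4812, 0, 1⟩) (.one ⟨11448, 1, 2⟩)) (.node 1 (.one ⟨2516, 1, 0⟩) (.one ⟨3524, 1, 1⟩))) (.node 2 (.node 1 (.one ⟨14746, 0, 3⟩) (.one ⟨13276, 0, 2⟩)) (.node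 1 (.one ⟨16046, 1, 1⟩) (.one ⟨7737, 0, 3⟩)))) (.node 4 (.node 2 (.node 1 (.one ⟨3370, 1, 1⟩) (.one ⟨3045, 0, 2⟩)) (.node 1 (.one ⟨8544, 0, 3⟩) (.one ⟨3322, 1, 0⟩))) (.node 2 (.node 1 (.one ⟨11680, 1, 1⟩) (.one ⟨15800, 1, 2⟩)) (.node 1 (.one ⟨6269, 1, 1⟩) (.one ⟨4428, 0, 2⟩)))))) (.node 16 (.node 8 (.node 4 (.node 2 (.node 1 (.one ⟨3932, 0, 2⟩) (.one ⟨636, 0, 2⟩)) (.node 1 (.one ⟨5049, 1, 0⟩) (.one ⟨9063, 0, 1⟩))) (.node 2 (.node 1 (.one ⟨8890, 0, 3⟩) (.one ⟨1100, 1, 0⟩)) (.node 1 (.one ⟨6872, 0, 2⟩) (.one ⟨8546, 0, 3⟩)))) (.node 4 (.node 2 (.node 1 (.one ⟨15355, 0, 3⟩) (.one ⟨472, 0, 3⟩)) (.node 1 (.one ⟨12462, 0, 3⟩) (.one ⟨6178, 0, 1⟩))) (.node 2 (.node 1 (.one ⟨422, 1, 0⟩) (.one ⟨4887, 0, 2⟩)) (.node 1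 (.one ⟨10340, 1, 2⟩) (.one ⟨4461, 1, 1⟩))))) (.node 8 (.node 4 (.node 2 (.node 1 (.one ⟨11702, 1, 2⟩) (.one ⟨6341, 1, 2⟩)) (.node 1 (.one ⟨13660, 1, 2⟩) (.one ⟨15195, 0, 1⟩))) (.node 2 (.node 1 (.one ⟨3161, 1, 2⟩) (.one ⟨16727, 0, 2⟩)) (.node 1 (.one ⟨8715, 0, 1⟩) (.one ⟨2258, 0, 3⟩)))) (.node 4 (.node 2 (.node 1 (.one ⟨14851, 0, 1⟩) (.one ⟨8209, 1, 2⟩)) (.node 1 (.one ⟨2796, 0, 2⟩) (.one ⟨15409, 0, 2⟩))) (.node 2 (.node 1 (.one ⟨801, 1, 2⟩) (.one ⟨14283, 1, 1⟩)) (.node 1 (.one ⟨13645, 0, 1⟩) (.one ⟨6605, 0, 3⟩)))))))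
def par5_8_10 : Arr Par :=
  (.node 32 (.node 16 (.node 8 (.node 4 (.node 2 (.node 1 (.one ⟨3651, 1, 0⟩) (.one ⟨11388, 0, 3⟩)) (.node 1 (.one ⟨288, 1, 0⟩) (.one ⟨7342, 0, 1⟩))) (.node 2 (.node 1 (.one ⟨14424, 0, 3⟩) (.one ⟨10869, 0, 3⟩)) (.node 1 (.one ⟨3630, 1, 0⟩) (.one ⟨10816, 0, 1⟩)))) (.node 4 (.node 2 (.node 1 (.one ⟨2487, 0, 1⟩) (.one ⟨3550, 1, 0⟩)) (.node 1 (.one ⟨4401, 1, 0⟩) (.one ⟨377, 1, 0⟩))) (.node 2 (.node 1 (.one ⟨10253, 1, 2⟩) (.one ⟨4771, 1, 0⟩)) (.node 1 (.one ⟨1066, 1, 0⟩) (.one ⟨16878, 1, 1⟩))))) (.node 8 (.node 4 (.node 2 (.node 1 (.one ⟨17041, 0, 3⟩) (.one ⟨9653, 0, 1⟩)) (.node 1 (.one ⟨15799, 1, 2⟩) (.one ⟨615, 1, 0⟩))) (.node 2 (.node 1 (.one ⟨15234, 0, 2⟩) (.one ⟨11581, 0, 2⟩)) (.node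 1 (.one ⟨8915, 0, 1⟩) (.one ⟨11889, 0, 2⟩)))) (.node 4 (.node 2 (.node 1 (.one ⟨8471, 0, 3⟩) (.one ⟨2611, 1, 0⟩)) (.node 1 (.one ⟨12191, 0, 2⟩) (.one ⟨15097, 0, 3⟩))) (.node 2 (.node 1 (.one ⟨16313, 1, 2⟩) (.one ⟨2521, 0, 3⟩)) (.node 1 (.one ⟨15432, 0, 1⟩) (.one ⟨13600, 0, 1⟩)))))) (.node 16 (.node 8 (.node 4 (.node 2 (.node 1 (.one ⟨3432, 1, 2⟩) (.one ⟨7856, 1, 2⟩)) (.node 1 (.one ⟨16961, 1, 1⟩) (.one ⟨14226, 0, 2⟩))) (.node 2 (.node 1 (.one ⟨16048, 0, 1⟩) (.one ⟨5349, 1, 1⟩)) (.node 1 (.one ⟨11424, 0, 3⟩) (.one ⟨7437, 1, 1⟩)))) (.node 4 (.node 2 (.node 1 (.one ⟨10926, 1, 1⟩) (.one ⟨11644, 1, 2⟩)) (.node 1 (.one ⟨8208, 1, 2⟩) (.one ⟨8470, 1, 2⟩))) (.node 2 (.node 1 (.one ⟨13179, 1, 2⟩) (.one ⟨7070, 0, 3⟩))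 (.node 1 (.one ⟨1212, 1, 0⟩) (.one ⟨15534, 0, 2⟩))))) (.node 8 (.node 4 (.node 2 (.node 1 (.one ⟨16486, 0, 2⟩) (.one ⟨7542, 0, 2⟩)) (.node 1 (.one ⟨8638, 0, 2⟩) (.one ⟨12152, 0, 3⟩))) (.node 2 (.node 1 (.one ⟨9440, 0, 2⟩) (.one ⟨5477, 1, 1⟩)) (.node 1 (.one ⟨9291, 1, 1⟩) (.one ⟨8573, 1, 2⟩)))) (.node 4 (.node 2 (.node 1 (.one ⟨15077, 1, 2⟩) (.one ⟨16950, 1, 2⟩)) (.node 1 (.one ⟨7124, 1, 2⟩) (.one ⟨2669, 1, 2⟩))) (.node 2 (.node 1 (.one ⟨22, 0, 3⟩) (.one ⟨14243, 0, 3⟩)) (.node 1 (.one ⟨3503, 1, 2⟩) (.one ⟨3281, 1, 1⟩)))))))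
def par5_8_11 : Arr Par :=
  (.node 32 (.node 16 (.node 8 (.node 4 (.node 2 (.node 1 (.one ⟨11332, 1, 2⟩) (.one ⟨9294, 1, 1⟩)) (.node 1 (.one ⟨998, 0, 1⟩) (.one ⟨8275, 0, 1⟩))) (.node 2 (.node 1 (.one ⟨8340, 0, 3⟩) (.one ⟨15261, 0, 1⟩)) (.node 1 (.one ⟨15375, 0, 2⟩) (.one ⟨7281, 1, 2⟩)))) (.node 4 (.node 2 (.node 1 (.one ⟨12246, 0, 1⟩) (.one ⟨3824, 0, 1⟩)) (.node 1 (.one ⟨9323, 1, 1⟩) (.one ⟨1998, 1, 0⟩))) (.node 2 (.node 1 (.one ⟨14200, 0, 3⟩) (.one ⟨6561, 0, 1⟩)) (.node 1 (.one ⟨1198, 0, 2⟩) (.one ⟨4186, 1, 2⟩))))) (.node 8 (.node 4 (.node 2 (.node 1 (.one ⟨9319, 1, 1⟩) (.one ⟨11246, 0, 2⟩)) (.node 1 (.one ⟨16986, 1, 2⟩) (.one ⟨1798, 1, 0⟩))) (.node 2 (.node 1 (.one ⟨993, 1, 0⟩) (.one ⟨14522, 0, 1⟩)) (.node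 1 (.one ⟨13032, 0, 3⟩) (.one ⟨4669, 1, 2⟩)))) (.node 4 (.node 2 (.node 1 (.one ⟨12081, 1, 2⟩) (.one ⟨11011, 1, 2⟩)) (.node 1 (.one ⟨2701, 1, 1⟩) (.one ⟨3299, 1, 2⟩))) (.node 2 (.node 1 (.one ⟨9293, 1, 1⟩) (.one ⟨13488, 1, 2⟩)) (.node 1 (.one ⟨3637, 1, 1⟩) (.one ⟨9320, 1, 1⟩)))))) (.node 16 (.node 8 (.node 4 (.node 2 (.node 1 (.one ⟨7183, 1, 2⟩) (.one ⟨3157, 0, 1⟩)) (.node 1 (.one ⟨11869, 0, 2⟩) (.one ⟨3526, 1, 1⟩))) (.node 2 (.node 1 (.one ⟨15954, 0, 2⟩) (.one ⟨13241, 0, 3⟩)) (.node 1 (.one ⟨11694, 1, 1⟩) (.one ⟨13510, 1, 1⟩)))) (.node 4 (.node 2 (.node 1 (.one ⟨2679, 1, 2⟩) (.one ⟨3318, 1, 1⟩)) (.node 1 (.one ⟨4705, 1, 0⟩) (.one ⟨9292, 1, 1⟩))) (.node 2 (.node 1 (.one ⟨4004, 0, 2⟩) (.one ⟨4425, 0, 3⟩)) (.node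 1 (.one ⟨11050, 1, 2⟩) (.one ⟨511, 1, 1⟩))))) (.node 8 (.node 4 (.node 2 (.node 1 (.one ⟨12046, 0, 3⟩) (.one ⟨4271, 0, 2⟩)) (.node 1 (.one ⟨701, 1, 1⟩) (.one ⟨10138, 0, 3⟩))) (.node 2 (.node 1 (.one ⟨451, 1, 1⟩) (.one ⟨835, 1, 1⟩)) (.node 1 (.one ⟨5493, 1, 1⟩) (.one ⟨824, 1, 0⟩)))) (.node 4 (.node 2 (.node 1 (.one ⟨5147, 1, 0⟩) (.one ⟨4528, 1, 1⟩)) (.node 1 (.one ⟨9429, 1, 1⟩) (.one ⟨10292, 0, 1⟩))) (.node 2 (.node 1 (.one ⟨14217, 0, 1⟩) (.one ⟨17013, 1, 2⟩)) (.node 1 (.one ⟨6426, 1, 1⟩) (.one ⟨2097, 1, 2⟩)))))))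
def par5_8_12 : Arr Par :=
  (.node 32 (.node 16 (.node 8 (.node 4 (.node 2 (.node 1 (.one ⟨3551, 0, 3⟩) (.one ⟨1077, 1, 0⟩)) (.node 1 (.one ⟨16168, 0, 2⟩) (.one ⟨17159, 1, 2⟩))) (.node 2 (.node 1 (.one ⟨9057, 1, 2⟩) (.one ⟨15711, 0, 2⟩)) (.node 1 (.one ⟨17035, 1, 2⟩) (.one ⟨15445, 1, 1⟩)))) (.node 4 (.node 2 (.node 1 (.one ⟨6504, 0, 1⟩) (.one ⟨3024, 1, 0⟩)) (.node 1 (.one ⟨1782, 1, 0⟩) (.one ⟨14384, 0, 1⟩))) (.node 2 (.node 1 (.one ⟨5281, 0, 1⟩) (.one ⟨12826, 1, 1⟩)) (.node 1 (.one ⟨1379, 0, 3⟩) (.one ⟨14592, 0, 1⟩))))) (.node 8 (.node 4 (.node 2 (.node 1 (.one ⟨16015, 1, 2⟩) (.one ⟨14374, 0, 3⟩)) (.node 1 (.one ⟨1284, 0, 2⟩) (.one ⟨762, 1, 2⟩))) (.node 2 (.node 1 (.one ⟨15003, 1, 2⟩) (.one ⟨15715, 0, 2⟩))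 (.node 1 (.one ⟨2650, 1, 1⟩) (.one ⟨14679, 0, 2⟩)))) (.node 4 (.node 2 (.node 1 (.one ⟨13224, 1, 1⟩) (.one ⟨13143, 0, 1⟩)) (.node 1 (.one ⟨6009, 0, 1⟩) (.one ⟨13495, 1, 2⟩))) (.node 2 (.node 1 (.one ⟨13995, 0, 1⟩) (.one ⟨1287, 1, 0⟩)) (.node 1 (.one ⟨12203, 0, 3⟩) (.one ⟨5041, 1, 0⟩)))))) (.node 16 (.node 8 (.node 4 (.node 2 (.node 1 (.one ⟨6798, 1, 2⟩) (.one ⟨11013, 0, 3⟩)) (.node 1 (.one ⟨290, 1, 0⟩) (.one ⟨15658, 1, 2⟩))) (.node 2 (.node 1 (.one ⟨17069, 1, 1⟩) (.one ⟨9430, 1, 1⟩)) (.node 1 (.one ⟨7251, 0, 1⟩) (.one ⟨5548, 1, 2⟩)))) (.node 4 (.node 2 (.node 1 (.one ⟨257, 1, 2⟩) (.one ⟨5543, 1, 2⟩)) (.node 1 (.one ⟨1047, 1, 2⟩) (.one ⟨5547, 1, 2⟩))) (.node 2 (.node 1 (.one ⟨310, 1, 1⟩) (.one ⟨5544, 1, 2⟩))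 (.node 1 (.one ⟨1026, 1, 2⟩) (.one ⟨8822, 1, 2⟩))))) (.node 8 (.node 4 (.node 2 (.node 1 (.one ⟨318, 0, 1⟩) (.one ⟨1741, 1, 0⟩)) (.node 1 (.one ⟨1350, 0, 1⟩) (.one ⟨9037, 1, 1⟩))) (.node 2 (.node 1 (.one ⟨1187, 1, 1⟩) (.one ⟨8004, 0, 2⟩)) (.node 1 (.one ⟨1085, 1, 0⟩) (.one ⟨10557, 0, 2⟩)))) (.node 4 (.node 2 (.node 1 (.one ⟨7550, 1, 2⟩) (.one ⟨10197, 0, 3⟩)) (.node 1 (.one ⟨2981, 1, 2⟩) (.one ⟨1281, 1, 1⟩))) (.node 2 (.node 1 (.one ⟨9639, 0, 1⟩) (.one ⟨4393, 1, 0⟩)) (.node 1 (.one ⟨3919, 1, 0⟩) (.one ⟨7088, 1, 2⟩)))))))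
def par5_8_13 : Arr Par :=
  (.node 32 (.node 16 (.node 8 (.node 4 (.node 2 (.node 1 (.one ⟨5316, 0, 3⟩) (.one ⟨14014, 0, 1⟩)) (.node 1 (.one ⟨16025, 1, 2⟩) (.one ⟨5326, 0, 2⟩))) (.node 2 (.node 1 (.one ⟨5076, 1, 2⟩) (.one ⟨3701, 1, 0⟩)) (.node 1 (.one ⟨7658, 1, 1⟩) (.one ⟨12313, 1, 2⟩)))) (.node 4 (.node 2 (.node 1 (.one ⟨3787, 1, 1⟩) (.one ⟨1193, 1, 2⟩)) (.node 1 (.one ⟨10495, 1, 2⟩) (.one ⟨14671, 1, 2⟩))) (.node 2 (.node 1 (.one ⟨7369, 1, 2⟩) (.one ⟨660, 1, 0⟩)) (.node 1 (.one ⟨8636, 0, 1⟩) (.one ⟨460, 1, 2⟩))))) (.node 8 (.node 4 (.node 2 (.node 1 (.one ⟨11167, 0, 2⟩) (.one ⟨4068, 0, 1⟩)) (.node 1 (.one ⟨14273, 1, 1⟩) (.one ⟨5061, 1, 2⟩))) (.node 2 (.node 1 (.one ⟨1282, 1, 1⟩) (.one ⟨3419, 1, 0⟩)) (.node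 1 (.one ⟨1269, 0, 1⟩) (.one ⟨14375, 0, 2⟩)))) (.node 4 (.node 2 (.node 1 (.one ⟨1082, 1, 0⟩) (.one ⟨1183, 1, 1⟩)) (.node 1 (.one ⟨8783, 1, 1⟩) (.one ⟨10228, 0, 3⟩))) (.node 2 (.node 1 (.one ⟨14382, 0, 1⟩) (.one ⟨1686, 1, 0⟩)) (.node 1 (.one ⟨10229, 0, 2⟩) (.one ⟨14699, 1, 1⟩)))))) (.node 16 (.node 8 (.node 4 (.node 2 (.node 1 (.one ⟨3465, 1, 0⟩) (.one ⟨8857, 0, 1⟩)) (.node 1 (.one ⟨14635, 0, 1⟩) (.one ⟨16712, 0, 2⟩))) (.node 2 (.node 1 (.one ⟨15087, 1, 1⟩) (.one ⟨16357, 0, 2⟩)) (.node 1 (.one ⟨7327, 0, 3⟩) (.one ⟨1842, 1, 0⟩)))) (.node 4 (.node 2 (.node 1 (.one ⟨15639, 0, 2⟩) (.one ⟨15713, 1, 2⟩)) (.node 1 (.one ⟨5313, 0, 1⟩) (.one ⟨7999, 0, 2⟩))) (.node 2 (.node 1 (.one ⟨1778, 1, 0⟩) (.one ⟨15703, 1, 2⟩))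 (.node 1 (.one ⟨3580, 0, 3⟩) (.one ⟨1383, 1, 1⟩))))) (.node 8 (.node 4 (.node 2 (.node 1 (.one ⟨16447, 0, 3⟩) (.one ⟨16156, 1, 2⟩)) (.node 1 (.one ⟨6226, 1, 2⟩) (.one ⟨11350, 1, 1⟩))) (.node 2 (.node 1 (.one ⟨1837, 1, 0⟩) (.one ⟨9088, 1, 2⟩)) (.node 1 (.one ⟨14850, 1, 1⟩) (.one ⟨5161, 1, 2⟩)))) (.node 4 (.node 2 (.node 1 (.one ⟨3915, 0, 2⟩) (.one ⟨11018, 0, 3⟩)) (.node 1 (.one ⟨7859, 0, 3⟩) (.one ⟨986, 0, 1⟩))) (.node 2 (.node 1 (.one ⟨16457, 0, 3⟩) (.one ⟨7631, 1, 1⟩)) (.node 1 (.one ⟨13361, 0, 3⟩) (.one ⟨1384, 1, 1⟩)))))))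
def par5_8_14 : Arr Par :=
  (.node 32 (.node 16 (.node 8 (.node 4 (.node 2 (.node 1 (.one ⟨11525, 0, 1⟩) (.one ⟨16671, 0, 2⟩)) (.node 1 (.one ⟨8023, 0, 2⟩) (.one ⟨5144, 0, 2⟩))) (.node 2 (.node 1 (.one ⟨10442, 1, 1⟩) (.one ⟨6806, 1, 1⟩)) (.node 1 (.one ⟨6717, 0, 3⟩) (.one ⟨12979, 1, 2⟩)))) (.node 4 (.node 2 (.node 1 (.one ⟨851, 1, 0⟩) (.one ⟨14959, 0, 2⟩)) (.node 1 (.one ⟨385, 1, 0⟩) (.one ⟨1400, 1, 1⟩))) (.node 2 (.node 1 (.one ⟨4571, 0, 1⟩) (.one ⟨9753, 0, 3⟩)) (.node 1 (.one ⟨12678, 0, 3⟩) (.one ⟨1402, 1, 2⟩))))) (.node 8 (.node 4 (.node 2 (.node 1 (.one ⟨9507, 0, 2⟩) (.one ⟨4211, 1, 1⟩)) (.node 1 (.one ⟨4160, 1, 2⟩) (.one ⟨2975, 1, 1⟩))) (.node 2 (.node 1 (.one ⟨2958, 1, 2⟩) (.one ⟨5163, 1, 2⟩)) (.node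 1 (.one ⟨538, 0, 0⟩) (.one ⟨13013, 0, 2⟩)))) (.node 4 (.node 2 (.node 1 (.one ⟨13877, 0, 1⟩) (.one ⟨4417, 1, 0⟩)) (.node 1 (.one ⟨12865, 0, 1⟩) (.one ⟨16466, 0, 3⟩))) (.node 2 (.node 1 (.one ⟨10175, 0, 1⟩) (.one ⟨9755, 0, 3⟩)) (.node 1 (.one ⟨1268, 1, 0⟩) (.one ⟨5101, 0, 2⟩)))))) (.node 16 (.node 8 (.node 4 (.node 2 (.node 1 (.one ⟨4697, 0, 0⟩) (.one ⟨284, 0, 2⟩)) (.node 1 (.one ⟨1000, 1, 0⟩) (.one ⟨13885, 0, 2⟩))) (.node 2 (.node 1 (.one ⟨5625, 1, 2⟩) (.one ⟨17063, 0, 1⟩)) (.node 1 (.one ⟨3517, 0, 2⟩) (.one ⟨11760, 0, 3⟩)))) (.node 4 (.node 2 (.node 1 (.one ⟨5172, 1, 2⟩) (.one ⟨2911, 1, 0⟩)) (.node 1 (.one ⟨13823, 0, 1⟩) (.one ⟨9112, 1, 2⟩))) (.node 2 (.node 1 (.one ⟨14371, 0, 2⟩) (.one ⟨6063, 1, 1⟩)) (.node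 1 (.one ⟨2398, 0, 1⟩) (.one ⟨13766, 1, 2⟩))))) (.node 8 (.node 4 (.node 2 (.node 1 (.one ⟨13823, 1, 1⟩) (.one ⟨3435, 1, 0⟩)) (.node 1 (.one ⟨3104, 1, 0⟩) (.one ⟨5793, 1, 1⟩))) (.node 2 (.node 1 (.one ⟨5733, 1, 2⟩) (.one ⟨1530, 1, 0⟩)) (.node 1 (.one ⟨3602, 1, 0⟩) (.one ⟨1971, 1, 1⟩)))) (.node 4 (.node 2 (.node 1 (.one ⟨6788, 0, 3⟩) (.one ⟨1148, 1, 0⟩)) (.node 1 (.one ⟨3194, 1, 0⟩) (.one ⟨10129, 1, 2⟩))) (.node 2 (.node 1 (.one ⟨10084, 1, 1⟩) (.one ⟨4390, 1, 0⟩)) (.node 1 (.one ⟨3528, 1, 0⟩) (.one ⟨6426, 0, 1⟩)))))))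
def par5_8_15 : Arr Par :=
  (.node 32 (.node 16 (.node 8 (.node 4 (.node 2 (.node 1 (.one ⟨7765, 1, 2⟩) (.one ⟨690, 1, 1⟩)) (.node 1 (.one ⟨15368, 0, 1⟩) (.one ⟨278, 0, 2⟩))) (.node 2 (.node 1 (.one ⟨14150, 0, 1⟩) (.one ⟨2678, 1, 0⟩)) (.node 1 (.one ⟨8619, 1, 2⟩) (.one ⟨16250, 0, 3⟩)))) (.node 4 (.node 2 (.node 1 (.one ⟨8510, 1, 1⟩) (.one ⟨744, 1, 1⟩)) (.node 1 (.one ⟨1675, 0, 3⟩) (.one ⟨7730, 1, 1⟩))) (.node 2 (.node 1 (.one ⟨9156, 1, 2⟩) (.one ⟨16565, 1, 2⟩)) (.node 1 (.one ⟨10345, 0, 3⟩) (.one ⟨2248, 1, 1⟩))))) (.node 8 (.node 4 (.node 2 (.node 1 (.one ⟨10329, 1, 1⟩) (.one ⟨2234, 1, 1⟩)) (.node 1 (.one ⟨1299, 0, 1⟩) (.one ⟨842, 1, 0⟩))) (.node 2 (.node 1 (.one ⟨945, 1, 0⟩) (.one ⟨595, 1, 0⟩)) (.node 1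 (.one ⟨3249, 1, 0⟩) (.one ⟨6455, 1, 1⟩)))) (.node 4 (.node 2 (.node 1 (.one ⟨14568, 1, 1⟩) (.one ⟨6478, 1, 1⟩)) (.node 1 (.one ⟨3586, 0, 1⟩) (.one ⟨880, 1, 0⟩))) (.node 2 (.node 1 (.one ⟨879, 1, 0⟩) (.one ⟨981, 1, 0⟩)) (.node 1 (.one ⟨714, 1, 0⟩) (.one ⟨592, 1, 1⟩)))))) (.node 16 (.node 8 (.node 4 (.node 2 (.node 1 (.one ⟨608, 1, 1⟩) (.one ⟨579, 1, 1⟩)) (.node 1 (.one ⟨585, 1, 1⟩) (.one ⟨1376, 0, 2⟩))) (.node 2 (.node 1 (.one ⟨12399, 0, 1⟩) (.one ⟨12098, 0, 1⟩)) (.node 1 (.one ⟨1977, 0, 1⟩) (.one ⟨9970, 0, 1⟩)))) (.node 4 (.node 2 (.node 1 (.one ⟨3896, 0, 1⟩) (.one ⟨4432, 0, 1⟩)) (.node 1 (.one ⟨9872, 0, 1⟩) (.one ⟨4950, 1, 0⟩))) (.node 2 (.node 1 (.one ⟨83, 1, 1⟩) (.one ⟨5240, 1, 0⟩)) (.node 1 (.one ⟨73,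 1, 1⟩) (.one ⟨15040, 0, 2⟩))))) (.node 8 (.node 4 (.node 2 (.node 1 (.one ⟨11496, 0, 2⟩) (.one ⟨2005, 1, 0⟩)) (.node 1 (.one ⟨1531, 1, 0⟩) (.one ⟨7436, 1, 1⟩))) (.node 2 (.node 1 (.one ⟨7445, 1, 1⟩) (.one ⟨15512, 1, 2⟩)) (.node 1 (.one ⟨1177, 0, 0⟩) (.one ⟨3444, 1, 2⟩)))) (.node 4 (.node 2 (.node 1 (.one ⟨2021, 1, 0⟩) (.one ⟨11551, 1, 1⟩)) (.node 1 (.one ⟨11516, 1, 1⟩) (.one ⟨2942, 1, 0⟩))) (.node 2 (.node 1 (.one ⟨4324, 1, 0⟩) (.one ⟨11540, 1, 2⟩)) (.node 1 (.one ⟨11528, 1, 1⟩) (.one ⟨14839, 1, 1⟩)))))))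
def par5_8 : Arr Par :=
  (.node 512 (.node 256 (.node 128 (.node 64 par5_8_0 par5_8_1) (.node 64 par5_8_2 par5_8_3)) (.node 128 (.node 64 par5_8_4 par5_8_5) (.node 64 par5_8_6 par5_8_7))) (.node 256 (.node 128 (.node 64 par5_8_8 par5_8_9) (.node 64 par5_8_10 par5_8_11)) (.node 128 (.node 64 par5_8_12 par5_8_13) (.node 64 par5_8_14 par5_8_15))))
def par5_9_0 : Arr Par :=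
  (.node 32 (.node 16 (.node 8 (.node 4 (.node 2 (.node 1 (.one ⟨1178, 0, 1⟩) (.one ⟨9229, 1, 2⟩)) (.node 1 (.one ⟨35, 0, 2⟩) (.one ⟨2501, 0, 3⟩))) (.node 2 (.node 1 (.one ⟨1136, 0, 1⟩) (.one ⟨2532, 0, 3⟩)) (.node 1 (.one ⟨1256, 0, 1⟩) (.one ⟨5852, 0, 1⟩)))) (.node 4 (.node 2 (.node 1 (.one ⟨16621, 1, 1⟩) (.one ⟨7670, 0, 1⟩)) (.node 1 (.one ⟨6708, 1, 2⟩) (.one ⟨2004, 0, 1⟩))) (.node 2 (.node 1 (.one ⟨2562, 1, 0⟩) (.one ⟨3631, 0, 1⟩)) (.node 1 (.one ⟨510, 1, 2⟩) (.one ⟨8543, 1, 1⟩))))) (.node 8 (.node 4 (.node 2 (.node 1 (.one ⟨16674, 1, 1⟩) (.one ⟨3634, 1, 0⟩)) (.node 1 (.one ⟨10685, 0, 2⟩) (.one ⟨1357, 0, 1⟩))) (.node 2 (.node 1 (.one ⟨16560, 1, 1⟩) (.one ⟨4663, 1, 0⟩)) (.node 1 (.one ⟨3398, 1, 0⟩) (.one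 ⟨12668, 1, 1⟩)))) (.node 4 (.node 2 (.node 1 (.one ⟨4539, 1, 1⟩) (.one ⟨8656, 0, 3⟩)) (.node 1 (.one ⟨5403, 1, 0⟩) (.one ⟨12651, 1, 1⟩))) (.node 2 (.node 1 (.one ⟨4654, 1, 1⟩) (.one ⟨2968, 0, 0⟩)) (.node 1 (.one ⟨3238, 1, 0⟩) (.one ⟨14430, 1, 1⟩)))))) (.node 16 (.node 8 (.node 4 (.node 2 (.node 1 (.one ⟨6351, 1, 1⟩) (.one ⟨14602, 0, 2⟩)) (.node 1 (.one ⟨2173, 1, 0⟩) (.one ⟨6346, 1, 1⟩))) (.node 2 (.node 1 (.one ⟨14403, 0, 1⟩) (.one ⟨4211, 0, 1⟩)) (.node 1 (.one ⟨2055, 1, 0⟩) (.one ⟨10698, 1, 1⟩)))) (.node 4 (.node 2 (.node 1 (.one ⟨2628, 1, 1⟩) (.one ⟨7707, 0, 1⟩)) (.node 1 (.one ⟨2870, 1, 0⟩) (.one ⟨2653, 1, 1⟩))) (.node 2 (.node 1 (.one ⟨10705, 1, 1⟩) (.one ⟨193, 1, 0⟩)) (.node 1 (.one ⟨2588, 1, 0⟩) (.one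 ⟨1722, 1, 0⟩))))) (.node 8 (.node 4 (.node 2 (.node 1 (.one ⟨2718, 1, 0⟩) (.one ⟨15661, 1, 1⟩)) (.node 1 (.one ⟨7566, 1, 1⟩) (.one ⟨1714, 1, 0⟩))) (.node 2 (.node 1 (.one ⟨11294, 1, 2⟩) (.one ⟨7590, 1, 1⟩)) (.node 1 (.one ⟨15622, 1, 1⟩) (.one ⟨5151, 0, 0⟩)))) (.node 4 (.node 2 (.node 1 (.one ⟨2018, 1, 0⟩) (.one ⟨11273, 1, 1⟩)) (.node 1 (.one ⟨13017, 0, 2⟩) (.one ⟨3195, 1, 0⟩))) (.node 2 (.node 1 (.one ⟨3142, 1, 0⟩) (.one ⟨3199, 1, 1⟩)) (.node 1 (.one ⟨12711, 0, 2⟩) (.one ⟨5451, 1, 2⟩)))))))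
def par5_9_1 : Arr Par :=
  (.node 32 (.node 16 (.node 8 (.node 4 (.node 2 (.node 1 (.one ⟨5458, 1, 1⟩) (.one ⟨5473, 1, 1⟩)) (.node 1 (.one ⟨6435, 0, 3⟩) (.one ⟨3018, 1, 0⟩))) (.node 2 (.node 1 (.one ⟨2890, 1, 0⟩) (.one ⟨2061, 1, 0⟩)) (.node 1 (.one ⟨3183, 0, 0⟩) (.one ⟨16974, 1, 1⟩)))) (.node 4 (.node 2 (.node 1 (.one ⟨16977, 1, 2⟩) (.one ⟨16992, 1, 1⟩)) (.node 1 (.one ⟨16957, 1, 1⟩) (.one ⟨3023, 1, 0⟩))) (.node 2 (.node 1 (.one ⟨276, 1, 0⟩) (.one ⟨3234, 0, 0⟩)) (.node 1 (.one ⟨3211, 1, 0⟩) (.one ⟨4130, 0, 1⟩))))) (.node 8 (.node 4 (.node 2 (.node 1 (.one ⟨584, 1, 1⟩) (.one ⟨9287, 0, 2⟩)) (.node 1 (.one ⟨611, 1, 1⟩) (.one ⟨13504, 0, 1⟩))) (.node 2 (.node 1 (.one ⟨70, 1, 1⟩) (.one ⟨2983, 0, 1⟩)) (.node 1 (.one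 ⟨400, 1, 0⟩) (.one ⟨576, 1, 1⟩)))) (.node 4 (.node 2 (.node 1 (.one ⟨11151, 0, 1⟩) (.one ⟨5330, 0, 1⟩)) (.node 1 (.one ⟨601, 1, 1⟩) (.one ⟨410, 1, 0⟩))) (.node 2 (.node 1 (.one ⟨1799, 0, 1⟩) (.one ⟨12008, 0, 1⟩)) (.node 1 (.one ⟨79, 1, 1⟩) (.one ⟨2459, 1, 0⟩)))))) (.node 16 (.node 8 (.node 4 (.node 2 (.node 1 (.one ⟨3169, 1, 0⟩) (.one ⟨16985, 0, 1⟩)) (.node 1 (.one ⟨17002, 1, 1⟩) (.one ⟨3092, 1, 0⟩))) (.node 2 (.node 1 (.one ⟨133, 1, 0⟩) (.one ⟨16962, 1, 1⟩)) (.node 1 (.one ⟨16949, 1, 1⟩) (.one ⟨1341, 1, 0⟩)))) (.node 4 (.node 2 (.node 1 (.one ⟨2802, 1, 0⟩) (.one ⟨13515, 1, 1⟩)) (.node 1 (.one ⟨13500, 1, 1⟩) (.one ⟨5316, 1, 0⟩))) (.node 2 (.node 1 (.one ⟨2103, 0, 2⟩) (.one ⟨13526, 1, 1⟩)) (.node 1 (.one ⟨13541,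 1, 1⟩) (.one ⟨1800, 1, 0⟩))))) (.node 8 (.node 4 (.node 2 (.node 1 (.one ⟨3360, 1, 0⟩) (.one ⟨4569, 1, 1⟩)) (.node 1 (.one ⟨7470, 0, 1⟩) (.one ⟨881, 1, 0⟩))) (.node 2 (.node 1 (.one ⟨818, 1, 0⟩) (.one ⟨9276, 0, 1⟩)) (.node 1 (.one ⟨4615, 1, 1⟩) (.one ⟨1790, 0, 0⟩)))) (.node 4 (.node 2 (.node 1 (.one ⟨1680, 1, 0⟩) (.one ⟨8497, 1, 1⟩)) (.node 1 (.one ⟨16623, 1, 1⟩) (.one ⟨619, 1, 0⟩))) (.node 2 (.node 1 (.one ⟨2170, 1, 0⟩) (.one ⟨16607, 1, 1⟩)) (.node 1 (.one ⟨8609, 1, 1⟩) (.one ⟨1141, 1, 0⟩)))))))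
def par5_9_2 : Arr Par :=
  (.node 32 (.node 16 (.node 8 (.node 4 (.node 2 (.node 1 (.one ⟨1192, 1, 0⟩) (.one ⟨11548, 1, 1⟩)) (.node 1 (.one ⟨11504, 1, 1⟩) (.one ⟨4761, 1, 0⟩))) (.node 2 (.node 1 (.one ⟨1921, 1, 0⟩) (.one ⟨8692, 0, 1⟩)) (.node 1 (.one ⟨11523, 1, 1⟩) (.one ⟨775, 1, 0⟩)))) (.node 4 (.node 2 (.node 1 (.one ⟨13271, 0, 1⟩) (.one ⟨15501, 1, 1⟩)) (.node 1 (.one ⟨1419, 0, 3⟩) (.one ⟨3153, 1, 0⟩))) (.node 2 (.node 1 (.one ⟨4899, 1, 0⟩) (.one ⟨15481, 1, 1⟩)) (.node 1 (.one ⟨15507, 1, 1⟩) (.one ⟨4021, 1, 0⟩))))) (.node 8 (.node 4 (.node 2 (.node 1 (.one ⟨2247, 1, 0⟩) (.one ⟨2837, 1, 0⟩)) (.node 1 (.one ⟨1745, 1, 0⟩) (.one ⟨7789, 1, 1⟩))) (.node 2 (.node 1 (.one ⟨7755, 1, 1⟩) (.one ⟨15832, 1, 1⟩)) (.node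 1 (.one ⟨15801, 1, 1⟩) (.one ⟨11875, 1, 1⟩)))) (.node 4 (.node 2 (.node 1 (.one ⟨11845, 1, 1⟩) (.one ⟨3793, 0, 1⟩)) (.node 1 (.one ⟨3759, 1, 1⟩) (.one ⟨10600, 0, 2⟩))) (.node 2 (.node 1 (.one ⟨194, 1, 0⟩) (.one ⟨4078, 1, 0⟩)) (.node 1 (.one ⟨3476, 1, 0⟩) (.one ⟨1, 1, 1⟩)))))) (.node 16 (.node 8 (.node 4 (.node 2 (.node 1 (.one ⟨82, 1, 1⟩) (.one ⟨13111, 0, 1⟩)) (.node 1 (.one ⟨13520, 0, 1⟩) (.one ⟨2886, 1, 0⟩))) (.node 2 (.node 1 (.one ⟨603, 1, 1⟩) (.one ⟨9431, 0, 2⟩)) (.node 1 (.one ⟨10033, 0, 1⟩) (.one ⟨1914, 0, 1⟩)))) (.node 4 (.node 2 (.node 1 (.one ⟨1815, 0, 1⟩) (.one ⟨3156, 1, 0⟩)) (.node 1 (.one ⟨85, 1, 1⟩) (.one ⟨5360, 0, 1⟩))) (.node 2 (.node 1 (.one ⟨5183, 0, 1⟩) (.one ⟨1312, 1, 0⟩)) (.node 1 (.one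 ⟨594, 1, 1⟩) (.one ⟨853, 1, 0⟩))))) (.node 8 (.node 4 (.node 2 (.node 1 (.one ⟨4149, 1, 0⟩) (.one ⟨2411, 1, 0⟩)) (.node 1 (.one ⟨13833, 1, 2⟩) (.one ⟨6377, 0, 3⟩))) (.node 2 (.node 1 (.one ⟨1982, 1, 1⟩) (.one ⟨10094, 1, 1⟩)) (.node 1 (.one ⟨9004, 0, 2⟩) (.one ⟨2963, 1, 0⟩)))) (.node 4 (.node 2 (.node 1 (.one ⟨5314, 1, 0⟩) (.one ⟨3661, 1, 0⟩)) (.node 1 (.one ⟨2506, 1, 0⟩) (.one ⟨13859, 1, 1⟩))) (.node 2 (.node 1 (.one ⟨5699, 1, 1⟩) (.one ⟨13793, 1, 1⟩)) (.node 1 (.one ⟨5759, 1, 1⟩) (.one ⟨3553, 1, 0⟩)))))))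
def par5_9_3 : Arr Par :=
  (.node 32 (.node 16 (.node 8 (.node 4 (.node 2 (.node 1 (.one ⟨5969, 1, 2⟩) (.one ⟨2351, 0, 0⟩)) (.node 1 (.one ⟨3758, 1, 0⟩) (.one ⟨14113, 1, 1⟩))) (.node 2 (.node 1 (.one ⟨5986, 1, 1⟩) (.one ⟨14005, 1, 1⟩)) (.node 1 (.one ⟨6003, 1, 1⟩) (.one ⟨3218, 1, 0⟩)))) (.node 4 (.node 2 (.node 1 (.one ⟨954, 1, 0⟩) (.one ⟨5362, 0, 0⟩)) (.node 1 (.one ⟨931, 1, 0⟩) (.one ⟨9739, 1, 1⟩))) (.node 2 (.node 1 (.one ⟨1612, 1, 1⟩) (.one ⟨9688, 1, 1⟩)) (.node 1 (.one ⟨1687, 1, 1⟩) (.one ⟨13569, 0, 3⟩))))) (.node 8 (.node 4 (.node 2 (.node 1 (.one ⟨5498, 1, 1⟩) (.one ⟨1854, 1, 0⟩)) (.node 1 (.one ⟨3233, 1, 0⟩) (.one ⟨13614, 1, 1⟩))) (.node 2 (.node 1 (.one ⟨13553, 1, 2⟩) (.one ⟨1740, 1, 0⟩)) (.node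 1 (.one ⟨3681, 1, 0⟩) (.one ⟨17034, 1, 1⟩)))) (.node 4 (.node 2 (.node 1 (.one ⟨17043, 1, 1⟩) (.one ⟨2545, 1, 0⟩)) (.node 1 (.one ⟨2682, 1, 0⟩) (.one ⟨8961, 1, 1⟩))) (.node 2 (.node 1 (.one ⟨8988, 1, 2⟩) (.one ⟨3547, 1, 0⟩)) (.node 1 (.one ⟨3017, 1, 0⟩) (.one ⟨11062, 1, 1⟩)))))) (.node 16 (.node 8 (.node 4 (.node 2 (.node 1 (.one ⟨3089, 1, 1⟩) (.one ⟨766, 1, 0⟩)) (.node 1 (.one ⟨786, 1, 0⟩) (.one ⟨11121, 1, 1⟩))) (.node 2 (.node 1 (.one ⟨3026, 1, 1⟩) (.one ⟨1732, 1, 0⟩)) (.node 1 (.one ⟨9758, 0, 2⟩) (.one ⟨9467, 0, 1⟩)))) (.node 4 (.node 2 (.node 1 (.one ⟨6769, 1, 1⟩) (.one ⟨4773, 1, 0⟩)) (.node 1 (.one ⟨3063, 0, 0⟩) (.one ⟨5650, 0, 1⟩))) (.node 2 (.node 1 (.one ⟨6720, 1, 1⟩) (.one ⟨3061, 0, 0⟩)) (.node 1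 (.one ⟨1318, 0, 0⟩) (.one ⟨9658, 1, 2⟩))))) (.node 8 (.node 4 (.node 2 (.node 1 (.one ⟨9771, 1, 1⟩) (.one ⟨1644, 1, 1⟩)) (.node 1 (.one ⟨17081, 0, 3⟩) (.one ⟨3201, 1, 0⟩))) (.node 2 (.node 1 (.one ⟨2419, 1, 0⟩) (.one ⟨4095, 1, 0⟩)) (.node 1 (.one ⟨1950, 1, 0⟩) (.one ⟨14067, 1, 1⟩)))) (.node 4 (.node 2 (.node 1 (.one ⟨14793, 0, 2⟩) (.one ⟨6049, 1, 1⟩)) (.node 1 (.one ⟨5942, 1, 1⟩) (.one ⟨4130, 1, 0⟩))) (.node 2 (.node 1 (.one ⟨1072, 1, 0⟩) (.one ⟨2671, 1, 0⟩)) (.node 1 (.one ⟨2490, 1, 0⟩) (.one ⟨2574, 1, 0⟩)))))))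
def par5_9_4 : Arr Par :=
  (.node 32 (.node 16 (.node 8 (.node 4 (.node 2 (.node 1 (.one ⟨6128, 0, 2⟩) (.one ⟨14892, 1, 1⟩)) (.node 1 (.one ⟨6778, 1, 1⟩) (.one ⟨255, 1, 0⟩))) (.node 2 (.node 1 (.one ⟨2116, 1, 0⟩) (.one ⟨6730, 1, 1⟩)) (.node 1 (.one ⟨14813, 1, 1⟩) (.one ⟨11087, 1, 1⟩)))) (.node 4 (.node 2 (.node 1 (.one ⟨2997, 1, 1⟩) (.one ⟨2838, 1, 0⟩)) (.node 1 (.one ⟨3247, 1, 0⟩) (.one ⟨3059, 0, 1⟩))) (.node 2 (.node 1 (.one ⟨11154, 1, 1⟩) (.one ⟨2241, 1, 0⟩)) (.node 1 (.one ⟨3573, 1, 0⟩) (.one ⟨11040, 0, 1⟩))))) (.node 8 (.node 4 (.node 2 (.node 1 (.one ⟨5095, 0, 1⟩) (.one ⟨72, 1, 1⟩)) (.node 1 (.one ⟨4178, 1, 0⟩) (.one ⟨1279, 0, 2⟩))) (.node 2 (.node 1 (.one ⟨12368, 0, 1⟩) (.one ⟨589, 1, 1⟩)) (.node 1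 (.one ⟨3878, 1, 0⟩) (.one ⟨4416, 0, 1⟩)))) (.node 4 (.node 2 (.node 1 (.one ⟨9856, 0, 1⟩) (.one ⟨67, 1, 1⟩)) (.node 1 (.one ⟨64, 1, 1⟩) (.one ⟨13343, 0, 1⟩))) (.node 2 (.node 1 (.one ⟨3095, 0, 1⟩) (.one ⟨587, 1, 1⟩)) (.node 1 (.one ⟨2103, 1, 0⟩) (.one ⟨4790, 1, 0⟩)))))) (.node 16 (.node 8 (.node 4 (.node 2 (.node 1 (.one ⟨16218, 1, 2⟩) (.one ⟨2480, 1, 0⟩)) (.node 1 (.one ⟨701, 1, 0⟩) (.one ⟨8159, 1, 1⟩))) (.node 2 (.node 1 (.one ⟨8146, 1, 1⟩) (.one ⟨11185, 0, 2⟩)) (.node 1 (.one ⟨8140, 1, 1⟩) (.one ⟨2283, 1, 0⟩)))) (.node 4 (.node 2 (.node 1 (.one ⟨4410, 1, 2⟩) (.one ⟨2820, 1, 0⟩)) (.node 1 (.one ⟨3946, 1, 0⟩) (.one ⟨12484, 1, 1⟩))) (.node 2 (.node 1 (.one ⟨12470, 1, 1⟩) (.one ⟨12506, 1, 2⟩)) (.node 1 (.one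 ⟨12521, 1, 1⟩) (.one ⟨770, 1, 0⟩))))) (.node 8 (.node 4 (.node 2 (.node 1 (.one ⟨1353, 1, 0⟩) (.one ⟨11942, 1, 1⟩)) (.node 1 (.one ⟨3855, 1, 1⟩) (.one ⟨3530, 1, 0⟩))) (.node 2 (.node 1 (.one ⟨4596, 1, 0⟩) (.one ⟨11906, 1, 1⟩)) (.node 1 (.one ⟨3828, 1, 1⟩) (.one ⟨5002, 0, 3⟩)))) (.node 4 (.node 2 (.node 1 (.one ⟨4164, 1, 0⟩) (.one ⟨1276, 0, 3⟩)) (.node 1 (.one ⟨7735, 1, 1⟩) (.one ⟨1945, 1, 0⟩))) (.node 2 (.node 1 (.one ⟨10109, 0, 2⟩) (.one ⟨4976, 0, 1⟩)) (.node 1 (.one ⟨7774, 1, 1⟩) (.one ⟨10196, 1, 1⟩)))))))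
def par5_9_5 : Arr Par :=
  (.node 32 (.node 16 (.node 8 (.node 4 (.node 2 (.node 1 (.one ⟨2112, 1, 1⟩) (.one ⟨2445, 1, 0⟩)) (.node 1 (.one ⟨4561, 1, 0⟩) (.one ⟨17082, 0, 2⟩))) (.node 2 (.node 1 (.one ⟨8021, 0, 3⟩) (.one ⟨3710, 0, 0⟩)) (.node 1 (.one ⟨2080, 1, 0⟩) (.one ⟨3003, 1, 0⟩)))) (.node 4 (.node 2 (.node 1 (.one ⟨543, 1, 0⟩) (.one ⟨13902, 1, 1⟩)) (.node 1 (.one ⟨923, 1, 0⟩) (.one ⟨2310, 1, 0⟩))) (.node 2 (.node 1 (.one ⟨13975, 1, 2⟩) (.one ⟨5820, 1, 1⟩)) (.node 1 (.one ⟨13932, 1, 2⟩) (.one ⟨4675, 0, 0⟩))))) (.node 8 (.node 4 (.node 2 (.node 1 (.one ⟨2384, 1, 0⟩) (.one ⟨13964, 1, 2⟩)) (.node 1 (.one ⟨13995, 1, 1⟩) (.one ⟨2704, 1, 0⟩))) (.node 2 (.node 1 (.one ⟨4907, 1, 0⟩) (.one ⟨5884, 1, 2⟩)) (.node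 1 (.one ⟨5916, 1, 2⟩) (.one ⟨11849, 0, 3⟩)))) (.node 4 (.node 2 (.node 1 (.one ⟨2096, 1, 1⟩) (.one ⟨4861, 1, 0⟩)) (.node 1 (.one ⟨2943, 1, 0⟩) (.one ⟨10208, 1, 1⟩))) (.node 2 (.node 1 (.one ⟨10178, 1, 1⟩) (.one ⟨4506, 0, 0⟩)) (.node 1 (.one ⟨3049, 1, 0⟩) (.one ⟨11919, 1, 2⟩)))))) (.node 16 (.node 8 (.node 4 (.node 2 (.node 1 (.one ⟨4016, 0, 3⟩) (.one ⟨10812, 0, 1⟩)) (.node 1 (.one ⟨5388, 0, 2⟩) (.one ⟨13180, 0, 3⟩))) (.node 2 (.node 1 (.one ⟨3073, 0, 1⟩) (.one ⟨11168, 1, 2⟩)) (.node 1 (.one ⟨12694, 1, 1⟩) (.one ⟨15656, 0, 2⟩)))) (.node 4 (.node 2 (.node 1 (.one ⟨8439, 0, 2⟩) (.one ⟨3802, 1, 2⟩)) (.node 1 (.one ⟨4139, 0, 3⟩) (.one ⟨12610, 1, 1⟩))) (.node 2 (.node 1 (.one ⟨17104, 0, 3⟩) (.one ⟨2419, 0, 2⟩))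 (.node 1 (.one ⟨11866, 0, 2⟩) (.one ⟨3433, 1, 0⟩))))) (.node 8 (.node 4 (.node 2 (.node 1 (.one ⟨746, 1, 0⟩) (.one ⟨1240, 1, 0⟩)) (.node 1 (.one ⟨2591, 1, 0⟩) (.one ⟨14592, 1, 1⟩))) (.node 2 (.node 1 (.one ⟨6561, 1, 1⟩) (.one ⟨1246, 0, 3⟩)) (.node 1 (.one ⟨14635, 1, 1⟩) (.one ⟨2307, 1, 1⟩)))) (.node 4 (.node 2 (.node 1 (.one ⟨10406, 1, 1⟩) (.one ⟨10378, 1, 1⟩)) (.node 1 (.one ⟨4914, 0, 1⟩) (.one ⟨2263, 0, 1⟩))) (.node 2 (.node 1 (.one ⟨5301, 1, 0⟩) (.one ⟨928, 1, 0⟩)) (.node 1 (.one ⟨1743, 1, 0⟩) (.one ⟨12489, 1, 1⟩)))))))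
def par5_9_6 : Arr Par :=
  (.node 32 (.node 16 (.node 8 (.node 4 (.node 2 (.node 1 (.one ⟨12473, 1, 1⟩) (.one ⟨1025, 1, 0⟩)) (.node 1 (.one ⟨1979, 0, 0⟩) (.one ⟨12513, 1, 1⟩))) (.node 2 (.node 1 (.one ⟨5107, 0, 1⟩) (.one ⟨4315, 0, 0⟩)) (.node 1 (.one ⟨2651, 1, 0⟩) (.one ⟨16186, 1, 1⟩)))) (.node 4 (.node 2 (.node 1 (.one ⟨16200, 1, 1⟩) (.one ⟨4607, 1, 0⟩)) (.node 1 (.one ⟨2548, 0, 0⟩) (.one ⟨1219, 0, 1⟩))) (.node 2 (.node 1 (.one ⟨16226, 1, 1⟩) (.one ⟨1338, 1, 0⟩)) (.node 1 (.one ⟨670, 1, 0⟩) (.one ⟨1948, 1, 0⟩))))) (.node 8 (.node 4 (.node 2 (.node 1 (.one ⟨2132, 1, 0⟩) (.one ⟨2690, 1, 0⟩)) (.node 1 (.one ⟨8324, 1, 2⟩) (.one ⟨4010, 1, 1⟩))) (.node 2 (.node 1 (.one ⟨15627, 0, 2⟩) (.one ⟨12041, 1, 1⟩)) (.node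 1 (.one ⟨3991, 1, 1⟩) (.one ⟨896, 1, 0⟩)))) (.node 4 (.node 2 (.node 1 (.one ⟨2739, 1, 0⟩) (.one ⟨1176, 1, 0⟩)) (.node 1 (.one ⟨1493, 1, 0⟩) (.one ⟨16397, 1, 1⟩))) (.node 2 (.node 1 (.one ⟨8348, 1, 1⟩) (.one ⟨8366, 1, 1⟩)) (.node 1 (.one ⟨1750, 0, 2⟩) (.one ⟨3488, 0, 1⟩)))))) (.node 16 (.node 8 (.node 4 (.node 2 (.node 1 (.one ⟨6774, 1, 2⟩) (.one ⟨12681, 1, 1⟩)) (.node 1 (.one ⟨506, 0, 1⟩) (.one ⟨2448, 0, 2⟩))) (.node 2 (.node 1 (.one ⟨13745, 0, 1⟩) (.one ⟨15652, 0, 3⟩)) (.node 1 (.one ⟨2934, 0, 2⟩) (.one ⟨452, 1, 0⟩)))) (.node 4 (.node 2 (.node 1 (.one ⟨12980, 0, 2⟩) (.one ⟨7801, 1, 1⟩)) (.node 1 (.one ⟨5143, 0, 3⟩) (.one ⟨9631, 1, 2⟩))) (.node 2 (.node 1 (.one ⟨4614, 1, 2⟩) (.one ⟨5674, 0, 1⟩)) (.node 1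 (.one ⟨10406, 0, 1⟩) (.one ⟨8010, 0, 1⟩))))) (.node 8 (.node 4 (.node 2 (.node 1 (.one ⟨11766, 0, 2⟩) (.one ⟨15706, 1, 2⟩)) (.node 1 (.one ⟨232, 0, 3⟩) (.one ⟨15647, 0, 2⟩))) (.node 2 (.node 1 (.one ⟨3415, 0, 3⟩) (.one ⟨3105, 1, 0⟩)) (.node 1 (.one ⟨15687, 1, 2⟩) (.one ⟨13113, 0, 1⟩)))) (.node 4 (.node 2 (.node 1 (.one ⟨3689, 1, 2⟩) (.one ⟨15762, 1, 1⟩)) (.node 1 (.one ⟨1807, 0, 1⟩) (.one ⟨1256, 1, 0⟩))) (.node 2 (.node 1 (.one ⟨16323, 1, 1⟩) (.one ⟨2307, 0, 1⟩)) (.node 1 (.one ⟨13301, 0, 1⟩) (.one ⟨1466, 1, 1⟩)))))))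
def par5_9_7 : Arr Par :=
  (.node 32 (.node 16 (.node 8 (.node 4 (.node 2 (.node 1 (.one ⟨15630, 0, 2⟩) (.one ⟨2013, 0, 2⟩)) (.node 1 (.one ⟨11182, 0, 1⟩) (.one ⟨5362, 0, 1⟩))) (.node 2 (.node 1 (.one ⟨12337, 0, 2⟩) (.one ⟨8626, 0, 1⟩)) (.node 1 (.one ⟨16081, 0, 2⟩) (.one ⟨9467, 1, 1⟩)))) (.node 4 (.node 2 (.node 1 (.one ⟨13904, 0, 3⟩) (.one ⟨11820, 1, 1⟩)) (.node 1 (.one ⟨7570, 0, 1⟩) (.one ⟨6036, 1, 2⟩))) (.node 2 (.node 1 (.one ⟨3013, 0, 2⟩) (.one ⟨7983, 0, 1⟩)) (.node 1 (.one ⟨394, 1, 0⟩) (.one ⟨14108, 1, 2⟩))))) (.node 8 (.node 4 (.node 2 (.node 1 (.one ⟨13590, 1, 2⟩) (.one ⟨8916, 1, 1⟩)) (.node 1 (.one ⟨1454, 1, 1⟩) (.one ⟨14323, 1, 2⟩))) (.node 2 (.node 1 (.one ⟨1231, 0, 1⟩) (.one ⟨8739, 1, 2⟩)) (.node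 1 (.one ⟨10741, 0, 2⟩) (.one ⟨1607, 1, 2⟩)))) (.node 4 (.node 2 (.node 1 (.one ⟨3620, 1, 0⟩) (.one ⟨879, 1, 1⟩)) (.node 1 (.one ⟨5064, 0, 3⟩) (.one ⟨12935, 0, 1⟩))) (.node 2 (.node 1 (.one ⟨13586, 0, 2⟩) (.one ⟨8691, 1, 2⟩)) (.node 1 (.one ⟨2837, 0, 2⟩) (.one ⟨14195, 0, 3⟩)))))) (.node 16 (.node 8 (.node 4 (.node 2 (.node 1 (.one ⟨12659, 0, 3⟩) (.one ⟨14126, 1, 2⟩)) (.node 1 (.one ⟨10779, 0, 3⟩) (.one ⟨8721, 0, 3⟩))) (.node 2 (.node 1 (.one ⟨14457, 1, 2⟩) (.one ⟨5346, 1, 2⟩)) (.node 1 (.one ⟨5498, 0, 1⟩) (.one ⟨2309, 0, 2⟩)))) (.node 4 (.node 2 (.node 1 (.one ⟨7951, 0, 2⟩) (.one ⟨9417, 1, 1⟩)) (.node 1 (.one ⟨8284, 0, 2⟩) (.one ⟨7757, 0, 2⟩))) (.node 2 (.node 1 (.one ⟨2644, 0, 2⟩) (.one ⟨8199, 0, 2⟩)) (.node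 1 (.one ⟨12963, 1, 1⟩) (.one ⟨11181, 0, 1⟩))))) (.node 8 (.node 4 (.node 2 (.node 1 (.one ⟨1947, 0, 1⟩) (.one ⟨3488, 1, 0⟩)) (.node 1 (.one ⟨16891, 0, 3⟩) (.one ⟨5473, 0, 1⟩))) (.node 2 (.node 1 (.one ⟨12945, 1, 1⟩) (.one ⟨13992, 0, 1⟩)) (.node 1 (.one ⟨2698, 1, 0⟩) (.one ⟨6775, 0, 2⟩)))) (.node 4 (.node 2 (.node 1 (.one ⟨4787, 1, 1⟩) (.one ⟨11982, 0, 1⟩)) (.node 1 (.one ⟨2664, 1, 0⟩) (.one ⟨6347, 0, 1⟩))) (.node 2 (.node 1 (.one ⟨12881, 1, 2⟩) (.one ⟨4907, 1, 2⟩)) (.node 1 (.one ⟨9415, 1, 1⟩) (.one ⟨4982, 0, 1⟩)))))))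
def par5_9_8 : Arr Par :=
  (.node 32 (.node 16 (.node 8 (.node 4 (.node 2 (.node 1 (.one ⟨4464, 1, 0⟩) (.one ⟨10787, 1, 1⟩)) (.node 1 (.one ⟨8863, 1, 2⟩) (.one ⟨2667, 0, 2⟩))) (.node 2 (.node 1 (.one ⟨1453, 1, 1⟩) (.one ⟨6331, 1, 2⟩)) (.node 1 (.one ⟨13367, 1, 2⟩) (.one ⟨14155, 1, 2⟩)))) (.node 4 (.node 2 (.node 1 (.one ⟨1689, 1, 2⟩) (.one ⟨16713, 0, 1⟩)) (.node 1 (.one ⟨11086, 0, 1⟩) (.one ⟨4018, 1, 0⟩))) (.node 2 (.node 1 (.one ⟨16559, 0, 2⟩) (.one ⟨12886, 0, 2⟩)) (.node 1 (.one ⟨14881, 0, 2⟩) (.one ⟨865, 1, 0⟩))))) (.node 8 (.node 4 (.node 2 (.node 1 (.one ⟨3672, 1, 2⟩) (.one ⟨1410, 0, 1⟩)) (.node 1 (.one ⟨11806, 1, 1⟩) (.one ⟨1802, 0, 1⟩))) (.node 2 (.node 1 (.one ⟨15828, 0, 1⟩) (.one ⟨1464, 1, 1⟩)) (.node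 1 (.one ⟨152, 0, 2⟩) (.one ⟨1335, 0, 1⟩)))) (.node 4 (.node 2 (.node 1 (.one ⟨9328, 0, 1⟩) (.one ⟨11964, 1, 2⟩)) (.node 1 (.one ⟨3723, 1, 1⟩) (.one ⟨5958, 1, 2⟩))) (.node 2 (.node 1 (.one ⟨14308, 1, 2⟩) (.one ⟨1195, 0, 1⟩)) (.node 1 (.one ⟨9468, 1, 1⟩) (.one ⟨14904, 0, 2⟩)))))) (.node 16 (.node 8 (.node 4 (.node 2 (.node 1 (.one ⟨11179, 0, 2⟩) (.one ⟨8705, 0, 3⟩)) (.node 1 (.one ⟨5011, 0, 2⟩) (.one ⟨7161, 0, 1⟩))) (.node 2 (.node 1 (.one ⟨12823, 1, 2⟩) (.one ⟨17055, 0, 2⟩)) (.node 1 (.one ⟨13173, 0, 2⟩) (.one ⟨16255, 0, 2⟩)))) (.node 4 (.node 2 (.node 1 (.one ⟨6032, 0, 3⟩) (.one ⟨5332, 0, 2⟩)) (.node 1 (.one ⟨10911, 0, 2⟩) (.one ⟨1620, 1, 0⟩))) (.node 2 (.node 1 (.one ⟨115, 0, 3⟩) (.one ⟨8818, 0, 3⟩)) (.node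 1 (.one ⟨15023, 0, 3⟩) (.one ⟨1185, 0, 2⟩))))) (.node 8 (.node 4 (.node 2 (.node 1 (.one ⟨2889, 0, 3⟩) (.one ⟨11798, 0, 2⟩)) (.node 1 (.one ⟨12839, 0, 3⟩) (.one ⟨2412, 0, 2⟩))) (.node 2 (.node 1 (.one ⟨1838, 1, 1⟩) (.one ⟨12574, 0, 2⟩)) (.node 1 (.one ⟨13308, 0, 3⟩) (.one ⟨7113, 0, 1⟩)))) (.node 4 (.node 2 (.node 1 (.one ⟨3145, 1, 0⟩) (.one ⟨3789, 1, 0⟩)) (.node 1 (.one ⟨4196, 0, 1⟩) (.one ⟨6320, 0, 2⟩))) (.node 2 (.node 1 (.one ⟨7798, 0, 3⟩) (.one ⟨3111, 0, 1⟩)) (.node 1 (.one ⟨5443, 0, 1⟩) (.one ⟨1931, 1, 2⟩)))))))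
def par5_9_9 : Arr Par :=
  (.node 32 (.node 16 (.node 8 (.node 4 (.node 2 (.node 1 (.one ⟨15545, 1, 2⟩) (.one ⟨6188, 1, 2⟩)) (.node 1 (.one ⟨11474, 1, 2⟩) (.one ⟨5849, 1, 1⟩))) (.node 2 (.node 1 (.one ⟨11317, 1, 1⟩) (.one ⟨1704, 1, 2⟩)) (.node 1 (.one ⟨3382, 0, 2⟩) (.one ⟨5139, 1, 2⟩)))) (.node 4 (.node 2 (.node 1 (.one ⟨3770, 0, 3⟩) (.one ⟨1886, 0, 3⟩)) (.node 1 (.one ⟨2301, 0, 3⟩) (.one ⟨5174, 1, 1⟩))) (.node 2 (.node 1 (.one ⟨15292, 0, 3⟩) (.one ⟨17049, 0, 3⟩)) (.node 1 (.one ⟨1867, 1, 0⟩) (.one ⟨1509, 1, 2⟩))))) (.node 8 (.node 4 (.node 2 (.node 1 (.one ⟨703, 0, 3⟩) (.one ⟨13304, 0, 1⟩)) (.node 1 (.one ⟨7905, 1, 2⟩) (.one ⟨2984, 1, 0⟩))) (.node 2 (.node 1 (.one ⟨13482, 0, 3⟩) (.one ⟨2020, 0, 1⟩)) (.node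 1 (.one ⟨8127, 0, 2⟩) (.one ⟨419, 1, 0⟩)))) (.node 4 (.node 2 (.node 1 (.one ⟨8515, 0, 1⟩) (.one ⟨387, 1, 0⟩)) (.node 1 (.one ⟨15404, 1, 2⟩) (.one ⟨3034, 0, 3⟩))) (.node 2 (.node 1 (.one ⟨7399, 0, 2⟩) (.one ⟨9044, 0, 2⟩)) (.node 1 (.one ⟨11518, 1, 1⟩) (.one ⟨684, 1, 1⟩)))))) (.node 16 (.node 8 (.node 4 (.node 2 (.node 1 (.one ⟨6104, 1, 2⟩) (.one ⟨925, 1, 2⟩)) (.node 1 (.one ⟨2204, 0, 2⟩) (.one ⟨6108, 1, 2⟩))) (.node 2 (.node 1 (.one ⟨11795, 0, 3⟩) (.one ⟨14086, 0, 2⟩)) (.node 1 (.one ⟨13800, 0, 3⟩) (.one ⟨2042, 1, 0⟩)))) (.node 4 (.node 2 (.node 1 (.one ⟨1341, 0, 2⟩) (.one ⟨12244, 0, 3⟩)) (.node 1 (.one ⟨11544, 0, 1⟩) (.one ⟨3434, 1, 0⟩))) (.node 2 (.node 1 (.one ⟨4522, 1, 2⟩) (.one ⟨14206, 0, 1⟩)) (.node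 1 (.one ⟨1895, 1, 0⟩) (.one ⟨9602, 0, 1⟩))))) (.node 8 (.node 4 (.node 2 (.node 1 (.one ⟨6790, 0, 3⟩) (.one ⟨5555, 1, 2⟩)) (.node 1 (.one ⟨1340, 0, 1⟩) (.one ⟨16284, 1, 2⟩))) (.node 2 (.node 1 (.one ⟨9174, 0, 1⟩) (.one ⟨1192, 0, 1⟩)) (.node 1 (.one ⟨12349, 1, 2⟩) (.one ⟨10606, 1, 2⟩)))) (.node 4 (.node 2 (.node 1 (.one ⟨13540, 1, 1⟩) (.one ⟨5944, 0, 2⟩)) (.node 1 (.one ⟨10693, 1, 2⟩) (.one ⟨1584, 1, 1⟩))) (.node 2 (.node 1 (.one ⟨14301, 0, 2⟩) (.one ⟨10579, 0, 2⟩)) (.node 1 (.one ⟨10729, 0, 2⟩) (.one ⟨2240, 1, 0⟩)))))))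
def par5_9_10 : Arr Par :=
  (.node 32 (.node 16 (.node 8 (.node 4 (.node 2 (.node 1 (.one ⟨212, 0, 0⟩) (.one ⟨16191, 1, 1⟩)) (.node 1 (.one ⟨6118, 0, 2⟩) (.one ⟨14809, 0, 3⟩))) (.node 2 (.node 1 (.one ⟨6248, 0, 3⟩) (.one ⟨2883, 0, 2⟩)) (.node 1 (.one ⟨10702, 0, 1⟩) (.one ⟨11689, 0, 3⟩)))) (.node 4 (.node 2 (.node 1 (.one ⟨175, 0, 3⟩) (.one ⟨2535, 0, 2⟩)) (.node 1 (.one ⟨12502, 0, 3⟩) (.one ⟨14020, 0, 3⟩))) (.node 2 (.node 1 (.one ⟨8046, 0, 3⟩) (.one ⟨8220, 0, 3⟩)) (.node 1 (.one ⟨14300, 0, 3⟩) (.one ⟨6648, 1, 1⟩))))) (.node 8 (.node 4 (.node 2 (.node 1 (.one ⟨215, 1, 0⟩) (.one ⟨8216, 0, 1⟩)) (.node 1 (.one ⟨16273, 0, 1⟩) (.one ⟨15506, 1, 2⟩))) (.node 2 (.node 1 (.one ⟨4358, 1, 0⟩) (.one ⟨1797, 1, 1⟩)) (.node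 1 (.one ⟨6539, 0, 3⟩) (.one ⟨15598, 0, 1⟩)))) (.node 4 (.node 2 (.node 1 (.one ⟨4346, 0, 3⟩) (.one ⟨5047, 1, 0⟩)) (.node 1 (.one ⟨9018, 0, 3⟩) (.one ⟨11825, 0, 3⟩))) (.node 2 (.node 1 (.one ⟨7052, 0, 3⟩) (.one ⟨3561, 1, 0⟩)) (.node 1 (.one ⟨2078, 0, 2⟩) (.one ⟨2131, 1, 2⟩)))))) (.node 16 (.node 8 (.node 4 (.node 2 (.node 1 (.one ⟨15682, 0, 2⟩) (.one ⟨301, 0, 3⟩)) (.node 1 (.one ⟨6093, 0, 3⟩) (.one ⟨1776, 1, 0⟩))) (.node 2 (.node 1 (.one ⟨1904, 0, 1⟩) (.one ⟨15963, 0, 3⟩)) (.node 1 (.one ⟨1700, 1, 0⟩) (.one ⟨13208, 0, 2⟩)))) (.node 4 (.node 2 (.node 1 (.one ⟨1573, 1, 0⟩) (.one ⟨2630, 1, 0⟩)) (.node 1 (.one ⟨12391, 1, 2⟩) (.one ⟨16179, 1, 2⟩))) (.node 2 (.node 1 (.one ⟨749, 1, 1⟩) (.one ⟨11655, 0, 1⟩)) (.node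 1 (.one ⟨4138, 0, 2⟩) (.one ⟨2076, 0, 2⟩))))) (.node 8 (.node 4 (.node 2 (.node 1 (.one ⟨16988, 0, 1⟩) (.one ⟨1602, 0, 2⟩)) (.node 1 (.one ⟨5359, 1, 0⟩) (.one ⟨10245, 0, 2⟩))) (.node 2 (.node 1 (.one ⟨8995, 0, 3⟩) (.one ⟨9272, 0, 1⟩)) (.node 1 (.one ⟨9019, 0, 2⟩) (.one ⟨10157, 0, 2⟩)))) (.node 4 (.node 2 (.node 1 (.one ⟨12437, 0, 2⟩) (.one ⟨940, 0, 2⟩)) (.node 1 (.one ⟨4045, 0, 2⟩) (.one ⟨14546, 0, 3⟩))) (.node 2 (.node 1 (.one ⟨1781, 1, 1⟩) (.one ⟨6345, 0, 1⟩)) (.node 1 (.one ⟨7682, 0, 1⟩) (.one ⟨7571, 0, 1⟩)))))))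
def par5_9_11 : Arr Par :=
  (.node 32 (.node 16 (.node 8 (.node 4 (.node 2 (.node 1 (.one ⟨7795, 0, 3⟩) (.one ⟨5520, 0, 1⟩)) (.node 1 (.one ⟨1295, 0, 1⟩) (.one ⟨1841, 0, 1⟩))) (.node 2 (.node 1 (.one ⟨6035, 1, 1⟩) (.one ⟨7989, 0, 1⟩)) (.node 1 (.one ⟨16060, 1, 2⟩) (.one ⟨1717, 1, 2⟩)))) (.node 4 (.node 2 (.node 1 (.one ⟨5725, 1, 2⟩) (.one ⟨5955, 0, 2⟩)) (.node 1 (.one ⟨10580, 0, 1⟩) (.one ⟨11963, 0, 2⟩))) (.node 2 (.node 1 (.one ⟨7621, 0, 1⟩) (.one ⟨14306, 0, 1⟩)) (.node 1 (.one ⟨2416, 1, 2⟩) (.one ⟨2760, 1, 1⟩))))) (.node 8 (.node 4 (.node 2 (.node 1 (.one ⟨9567, 0, 3⟩) (.one ⟨9730, 0, 3⟩)) (.node 1 (.one ⟨1645, 0, 2⟩) (.one ⟨5681, 0, 1⟩))) (.node 2 (.node 1 (.one ⟨1840, 1, 1⟩) (.one ⟨13957, 0, 3⟩)) (.node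 1 (.one ⟨5865, 0, 3⟩) (.one ⟨9817, 1, 1⟩)))) (.node 4 (.node 2 (.node 1 (.one ⟨15943, 0, 1⟩) (.one ⟨2313, 1, 0⟩)) (.node 1 (.one ⟨14338, 1, 2⟩) (.one ⟨4114, 1, 0⟩))) (.node 2 (.node 1 (.one ⟨2185, 1, 2⟩) (.one ⟨10350, 0, 2⟩)) (.node 1 (.one ⟨2488, 1, 2⟩) (.one ⟨13621, 0, 3⟩)))))) (.node 16 (.node 8 (.node 4 (.node 2 (.node 1 (.one ⟨16109, 0, 3⟩) (.one ⟨14201, 1, 1⟩)) (.node 1 (.one ⟨13962, 0, 3⟩) (.one ⟨10263, 1, 2⟩))) (.node 2 (.node 1 (.one ⟨2272, 1, 2⟩) (.one ⟨3258, 0, 0⟩)) (.node 1 (.one ⟨3860, 0, 3⟩) (.one ⟨16574, 0, 3⟩)))) (.node 4 (.node 2 (.node 1 (.one ⟨16643, 1, 2⟩) (.one ⟨12241, 1, 2⟩)) (.node 1 (.one ⟨11962, 1, 2⟩) (.one ⟨2996, 0, 3⟩))) (.node 2 (.node 1 (.one ⟨6068, 1, 1⟩) (.one ⟨16705, 0, 2⟩))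 (.node 1 (.one ⟨821, 0, 0⟩) (.one ⟨15914, 0, 3⟩))))) (.node 8 (.node 4 (.node 2 (.node 1 (.one ⟨6515, 0, 2⟩) (.one ⟨14328, 1, 2⟩)) (.node 1 (.one ⟨4474, 1, 0⟩) (.one ⟨4727, 1, 0⟩))) (.node 2 (.node 1 (.one ⟨14626, 1, 2⟩) (.one ⟨11960, 0, 2⟩)) (.node 1 (.one ⟨2199, 0, 3⟩) (.one ⟨364, 1, 2⟩)))) (.node 4 (.node 2 (.node 1 (.one ⟨5673, 1, 2⟩) (.one ⟨616, 1, 2⟩)) (.node 1 (.one ⟨5675, 1, 2⟩) (.one ⟨5672, 1, 2⟩))) (.node 2 (.node 1 (.one ⟨16082, 0, 3⟩) (.one ⟨2024, 0, 2⟩)) (.node 1 (.one ⟨694, 1, 2⟩) (.one ⟨5068, 0, 3⟩)))))))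
def par5_9_12 : Arr Par :=
  (.node 32 (.node 16 (.node 8 (.node 4 (.node 2 (.node 1 (.one ⟨831, 1, 0⟩) (.one ⟨2288, 0, 1⟩)) (.node 1 (.one ⟨1856, 1, 2⟩) (.one ⟨8300, 0, 3⟩))) (.node 2 (.node 1 (.one ⟨5145, 1, 1⟩) (.one ⟨9029, 1, 1⟩)) (.node 1 (.one ⟨4756, 0, 2⟩) (.one ⟨339, 1, 0⟩)))) (.node 4 (.node 2 (.node 1 (.one ⟨11555, 0, 3⟩) (.one ⟨1639, 0, 3⟩)) (.node 1 (.one ⟨11462, 0, 1⟩) (.one ⟨2045, 1, 1⟩))) (.node 2 (.node 1 (.one ⟨2233, 1, 0⟩) (.one ⟨981, 0, 3⟩)) (.node 1 (.one ⟨1822, 1, 1⟩) (.one ⟨5928, 1, 2⟩))))) (.node 8 (.node 4 (.node 2 (.node 1 (.one ⟨7216, 0, 1⟩) (.one ⟨13182, 1, 2⟩)) (.node 1 (.one ⟨3047, 0, 2⟩) (.one ⟨1970, 1, 1⟩))) (.node 2 (.node 1 (.one ⟨3054, 0, 1⟩) (.one ⟨17119, 1, 2⟩)) (.node 1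 (.one ⟨2166, 1, 0⟩) (.one ⟨9552, 0, 1⟩)))) (.node 4 (.node 2 (.node 1 (.one ⟨9425, 0, 1⟩) (.one ⟨7154, 0, 1⟩)) (.node 1 (.one ⟨7202, 0, 3⟩) (.one ⟨9149, 0, 1⟩))) (.node 2 (.node 1 (.one ⟨9294, 0, 1⟩) (.one ⟨2159, 1, 0⟩)) (.node 1 (.one ⟨7108, 0, 2⟩) (.one ⟨5018, 0, 2⟩)))))) (.node 16 (.node 8 (.node 4 (.node 2 (.node 1 (.one ⟨2496, 1, 2⟩) (.one ⟨3893, 1, 2⟩)) (.node 1 (.one ⟨8585, 0, 2⟩) (.one ⟨2264, 1, 2⟩))) (.node 2 (.node 1 (.one ⟨1039, 0, 0⟩) (.one ⟨15095, 0, 2⟩)) (.node 1 (.one ⟨470, 1, 0⟩) (.one ⟨14055, 1, 2⟩)))) (.node 4 (.node 2 (.node 1 (.one ⟨4967, 0, 1⟩) (.one ⟨11583, 0, 2⟩)) (.node 1 (.one ⟨1851, 0, 1⟩) (.one ⟨8835, 1, 2⟩))) (.node 2 (.node 1 (.one ⟨16967, 1, 2⟩) (.one ⟨2051, 1, 2⟩)) (.node 1 (.one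 ⟨9930, 1, 2⟩) (.one ⟨2719, 1, 0⟩))))) (.node 8 (.node 4 (.node 2 (.node 1 (.one ⟨16345, 0, 2⟩) (.one ⟨4267, 1, 0⟩)) (.node 1 (.one ⟨450, 1, 0⟩) (.one ⟨2713, 1, 0⟩))) (.node 2 (.node 1 (.one ⟨8250, 0, 3⟩) (.one ⟨9400, 1, 1⟩)) (.node 1 (.one ⟨4899, 1, 2⟩) (.one ⟨16483, 0, 2⟩)))) (.node 4 (.node 2 (.node 1 (.one ⟨10244, 0, 2⟩) (.one ⟨8635, 0, 2⟩)) (.node 1 (.one ⟨1629, 0, 2⟩) (.one ⟨9145, 1, 1⟩))) (.node 2 (.node 1 (.one ⟨14527, 0, 2⟩) (.one ⟨2928, 1, 1⟩)) (.node 1 (.one ⟨2829, 1, 1⟩) (.one ⟨16895, 0, 2⟩)))))))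
def par5_9_13 : Arr Par :=
  (.node 32 (.node 16 (.node 8 (.node 4 (.node 2 (.node 1 (.one ⟨2558, 1, 0⟩) (.one ⟨1975, 1, 0⟩)) (.node 1 (.one ⟨645, 1, 0⟩) (.one ⟨2803, 1, 1⟩))) (.node 2 (.node 1 (.one ⟨7225, 0, 2⟩) (.one ⟨12880, 0, 3⟩)) (.node 1 (.one ⟨2292, 1, 2⟩) (.one ⟨6065, 0, 1⟩)))) (.node 4 (.node 2 (.node 1 (.one ⟨3832, 0, 3⟩) (.one ⟨2853, 1, 0⟩)) (.node 1 (.one ⟨1726, 0, 2⟩) (.one ⟨4549, 0, 1⟩))) (.node 2 (.node 1 (.one ⟨192, 1, 2⟩) (.one ⟨2900, 0, 1⟩)) (.node 1 (.one ⟨8499, 0, 1⟩) (.one ⟨2343, 0, 3⟩))))) (.node 8 (.node 4 (.node 2 (.node 1 (.one ⟨11708, 0, 3⟩) (.one ⟨9106, 0, 3⟩)) (.node 1 (.one ⟨10062, 1, 2⟩) (.one ⟨8518, 0, 1⟩))) (.node 2 (.node 1 (.one ⟨15390, 0, 3⟩) (.one ⟨1172, 0, 2⟩)) (.node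 1 (.one ⟨12951, 1, 1⟩) (.one ⟨2989, 1, 1⟩)))) (.node 4 (.node 2 (.node 1 (.one ⟨7104, 1, 2⟩) (.one ⟨10747, 1, 2⟩)) (.node 1 (.one ⟨13851, 1, 2⟩) (.one ⟨1479, 1, 0⟩))) (.node 2 (.node 1 (.one ⟨8969, 0, 1⟩) (.one ⟨4317, 0, 2⟩)) (.node 1 (.one ⟨1229, 1, 1⟩) (.one ⟨1908, 0, 3⟩)))))) (.node 16 (.node 8 (.node 4 (.node 2 (.node 1 (.one ⟨452, 1, 1⟩) (.one ⟨1973, 1, 2⟩)) (.node 1 (.one ⟨7028, 1, 1⟩) (.one ⟨3978, 1, 0⟩))) (.node 2 (.node 1 (.one ⟨607, 1, 0⟩) (.one ⟨15254, 0, 3⟩)) (.node 1 (.one ⟨15098, 1, 2⟩) (.one ⟨5700, 1, 2⟩)))) (.node 4 (.node 2 (.node 1 (.one ⟨4524, 1, 2⟩) (.one ⟨11364, 1, 2⟩)) (.node 1 (.one ⟨2870, 0, 2⟩) (.one ⟨10072, 0, 3⟩))) (.node 2 (.node 1 (.one ⟨11930, 0, 1⟩) (.one ⟨16398, 1, 2⟩)) (.node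 1 (.one ⟨2432, 1, 0⟩) (.one ⟨873, 1, 0⟩))))) (.node 8 (.node 4 (.node 2 (.node 1 (.one ⟨11298, 1, 2⟩) (.one ⟨1115, 0, 2⟩)) (.node 1 (.one ⟨13743, 1, 2⟩) (.one ⟨2408, 1, 1⟩))) (.node 2 (.node 1 (.one ⟨533, 1, 0⟩) (.one ⟨6674, 1, 1⟩)) (.node 1 (.one ⟨14269, 1, 2⟩) (.one ⟨1118, 0, 1⟩)))) (.node 4 (.node 2 (.node 1 (.one ⟨83, 0, 1⟩) (.one ⟨16799, 1, 2⟩)) (.node 1 (.one ⟨14931, 1, 2⟩) (.one ⟨3734, 0, 1⟩))) (.node 2 (.node 1 (.one ⟨3735, 0, 1⟩) (.one ⟨1271, 1, 1⟩)) (.node 1 (.one ⟨9586, 0, 1⟩) (.one ⟨16180, 0, 2⟩)))))))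
def par5_9_14 : Arr Par :=
  (.node 32 (.node 16 (.node 8 (.node 4 (.node 2 (.node 1 (.one ⟨12969, 1, 2⟩) (.one ⟨2497, 0, 2⟩)) (.node 1 (.one ⟨15716, 0, 2⟩) (.one ⟨2792, 1, 0⟩))) (.node 2 (.node 1 (.one ⟨16122, 0, 3⟩) (.one ⟨16415, 0, 3⟩)) (.node 1 (.one ⟨9402, 1, 1⟩) (.one ⟨2665, 1, 0⟩)))) (.node 4 (.node 2 (.node 1 (.one ⟨147, 1, 0⟩) (.one ⟨1394, 1, 0⟩)) (.node 1 (.one ⟨10909, 1, 1⟩) (.one ⟨12201, 0, 1⟩))) (.node 2 (.node 1 (.one ⟨1994, 1, 0⟩) (.one ⟨14636, 0, 1⟩)) (.node 1 (.one ⟨9146, 1, 1⟩) (.one ⟨9879, 1, 2⟩))))) (.node 8 (.node 4 (.node 2 (.node 1 (.one ⟨12118, 0, 2⟩) (.one ⟨5458, 0, 1⟩)) (.node 1 (.one ⟨14723, 1, 2⟩) (.one ⟨2047, 1, 2⟩))) (.node 2 (.node 1 (.one ⟨11092, 0, 3⟩) (.one ⟨3601, 1, 0⟩))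 (.node 1 (.one ⟨6885, 1, 2⟩) (.one ⟨3195, 0, 2⟩)))) (.node 4 (.node 2 (.node 1 (.one ⟨17164, 1, 1⟩) (.one ⟨5541, 0, 2⟩)) (.node 1 (.one ⟨2394, 1, 2⟩) (.one ⟨2487, 1, 0⟩))) (.node 2 (.node 1 (.one ⟨14310, 1, 2⟩) (.one ⟨12707, 0, 1⟩)) (.node 1 (.one ⟨16587, 0, 2⟩) (.one ⟨16140, 1, 2⟩)))))) (.node 16 (.node 8 (.node 4 (.node 2 (.node 1 (.one ⟨3626, 0, 0⟩) (.one ⟨15748, 0, 2⟩)) (.node 1 (.one ⟨6703, 1, 2⟩) (.one ⟨7697, 0, 1⟩))) (.node 2 (.node 1 (.one ⟨7726, 1, 2⟩) (.one ⟨9530, 0, 2⟩)) (.node 1 (.one ⟨4884, 1, 2⟩) (.one ⟨6230, 1, 1⟩)))) (.node 4 (.node 2 (.node 1 (.one ⟨11037, 1, 2⟩) (.one ⟨3474, 1, 1⟩)) (.node 1 (.one ⟨892, 0, 0⟩) (.one ⟨9069, 0, 3⟩))) (.node 2 (.node 1 (.one ⟨8768, 0, 1⟩) (.one ⟨1226, 1, 1⟩))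 (.node 1 (.one ⟨9587, 0, 2⟩) (.one ⟨10604, 0, 2⟩))))) (.node 8 (.node 4 (.node 2 (.node 1 (.one ⟨2144, 1, 2⟩) (.one ⟨4586, 0, 2⟩)) (.node 1 (.one ⟨3370, 1, 0⟩) (.one ⟨2503, 0, 2⟩))) (.node 2 (.node 1 (.one ⟨9243, 0, 2⟩) (.one ⟨12622, 0, 3⟩)) (.node 1 (.one ⟨1729, 1, 0⟩) (.one ⟨5420, 0, 2⟩)))) (.node 4 (.node 2 (.node 1 (.one ⟨1610, 1, 0⟩) (.one ⟨5188, 1, 2⟩)) (.node 1 (.one ⟨10397, 0, 3⟩) (.one ⟨12616, 0, 1⟩))) (.node 2 (.node 1 (.one ⟨3791, 0, 3⟩) (.one ⟨10803, 0, 2⟩)) (.node 1 (.one ⟨1865, 0, 3⟩) (.one ⟨2324, 1, 0⟩)))))))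
def par5_9_15 : Arr Par :=
  (.node 32 (.node 16 (.node 8 (.node 4 (.node 2 (.node 1 (.one ⟨13284, 1, 2⟩) (.one ⟨1409, 1, 0⟩)) (.node 1 (.one ⟨3275, 1, 0⟩) (.one ⟨9577, 0, 3⟩))) (.node 2 (.node 1 (.one ⟨1678, 0, 2⟩) (.one ⟨5721, 0, 3⟩)) (.node 1 (.one ⟨13876, 0, 3⟩) (.one ⟨1413, 1, 1⟩)))) (.node 4 (.node 2 (.node 1 (.one ⟨11803, 1, 2⟩) (.one ⟨798, 0, 3⟩)) (.node 1 (.one ⟨3796, 0, 3⟩) (.one ⟨1766, 1, 0⟩))) (.node 2 (.node 1 (.one ⟨3732, 0, 1⟩) (.one ⟨16787, 0, 2⟩)) (.node 1 (.one ⟨14756, 0, 1⟩) (.one ⟨7203, 0, 2⟩))))) (.node 8 (.node 4 (.node 2 (.node 1 (.one ⟨2941, 1, 0⟩) (.one ⟨6667, 1, 1⟩)) (.node 1 (.one ⟨2114, 1, 2⟩) (.one ⟨5442, 0, 1⟩))) (.node 2 (.node 1 (.one ⟨3402, 1, 0⟩) (.one ⟨4934, 1, 2⟩)) (.node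 1 (.one ⟨16491, 0, 3⟩) (.one ⟨13909, 1, 1⟩)))) (.node 4 (.node 2 (.node 1 (.one ⟨2248, 0, 1⟩) (.one ⟨12148, 0, 1⟩)) (.node 1 (.one ⟨716, 0, 3⟩) (.one ⟨3674, 0, 1⟩))) (.node 2 (.node 1 (.one ⟨2154, 1, 0⟩) (.one ⟨1750, 1, 0⟩)) (.node 1 (.one ⟨2965, 1, 1⟩) (.one ⟨7687, 1, 1⟩)))))) (.node 16 (.node 8 (.node 4 (.node 2 (.node 1 (.one ⟨529, 1, 0⟩) (.one ⟨1401, 0, 2⟩)) (.node 1 (.one ⟨15364, 0, 3⟩) (.one ⟨10596, 0, 3⟩))) (.node 2 (.node 1 (.one ⟨11326, 1, 2⟩) (.one ⟨5883, 1, 2⟩)) (.node 1 (.one ⟨13030, 0, 2⟩) (.one ⟨6429, 0, 2⟩)))) (.node 4 (.node 2 (.node 1 (.one ⟨5602, 1, 2⟩) (.one ⟨10398, 0, 1⟩)) (.node 1 (.one ⟨905, 0, 3⟩) (.one ⟨2659, 0, 1⟩))) (.node 2 (.node 1 (.one ⟨3732, 1, 1⟩) (.one ⟨1410, 1, 1⟩)) (.node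 1 (.one ⟨5995, 0, 1⟩) (.one ⟨16085, 1, 1⟩))))) (.node 8 (.node 4 (.node 2 (.node 1 (.one ⟨9049, 0, 2⟩) (.one ⟨9048, 0, 1⟩)) (.node 1 (.one ⟨4902, 0, 2⟩) (.one ⟨9552, 1, 1⟩))) (.node 2 (.node 1 (.one ⟨16917, 1, 2⟩) (.one ⟨3699, 1, 1⟩)) (.node 1 (.one ⟨2332, 1, 0⟩) (.one ⟨15650, 0, 1⟩)))) (.node 4 (.node 2 (.node 1 (.one ⟨15370, 0, 2⟩) (.one ⟨1866, 0, 1⟩)) (.node 1 (.one ⟨441, 0, 3⟩) (.one ⟨1872, 0, 1⟩))) (.node 2 (.node 1 (.one ⟨1519, 0, 1⟩) (.one ⟨3437, 1, 0⟩)) (.node 1 (.one ⟨16104, 1, 1⟩) (.one ⟨9541, 1, 1⟩)))))))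
def par5_9 : Arr Par :=
  (.node 512 (.node 256 (.node 128 (.node 64 par5_9_0 par5_9_1) (.node 64 par5_9_2 par5_9_3)) (.node 128 (.node 64 par5_9_4 par5_9_5) (.node 64 par5_9_6 par5_9_7))) (.node 256 (.node 128 (.node 64 par5_9_8 par5_9_9) (.node 64 par5_9_10 par5_9_11)) (.node 128 (.node 64 par5_9_12 par5_9_13) (.node 64 par5_9_14 par5_9_15))))
def par5_10_0 : Arr Par :=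
  (.node 32 (.node 16 (.node 8 (.node 4 (.node 2 (.node 1 (.one ⟨10162, 1, 1⟩) (.one ⟨13195, 0, 3⟩)) (.node 1 (.one ⟨1107, 0, 2⟩) (.one ⟨2789, 1, 1⟩))) (.node 2 (.node 1 (.one ⟨2929, 1, 1⟩) (.one ⟨462, 1, 1⟩)) (.node 1 (.one ⟨5339, 0, 1⟩) (.one ⟨11374, 0, 1⟩)))) (.node 4 (.node 2 (.node 1 (.one ⟨13956, 1, 1⟩) (.one ⟨260, 0, 1⟩)) (.node 1 (.one ⟨10392, 0, 3⟩) (.one ⟨2814, 0, 1⟩))) (.node 2 (.node 1 (.one ⟨13258, 1, 2⟩) (.one ⟨10378, 0, 1⟩)) (.node 1 (.one ⟨2727, 1, 0⟩) (.one ⟨9551, 1, 1⟩))))) (.node 8 (.node 4 (.node 2 (.node 1 (.one ⟨8001, 1, 1⟩) (.one ⟨11845, 0, 1⟩)) (.node 1 (.one ⟨14807, 0, 1⟩) (.one ⟨2764, 0, 1⟩))) (.node 2 (.node 1 (.one ⟨15288, 1, 2⟩) (.one ⟨9522, 0, 2⟩)) (.node 1 (.one ⟨16651, 0, 3⟩)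 (.one ⟨8241, 0, 1⟩)))) (.node 4 (.node 2 (.node 1 (.one ⟨2733, 1, 0⟩) (.one ⟨7993, 1, 1⟩)) (.node 1 (.one ⟨10391, 0, 2⟩) (.one ⟨11871, 0, 2⟩))) (.node 2 (.node 1 (.one ⟨4513, 0, 1⟩) (.one ⟨14409, 0, 1⟩)) (.node 1 (.one ⟨7886, 1, 2⟩) (.one ⟨8147, 0, 2⟩)))))) (.node 16 (.node 8 (.node 4 (.node 2 (.node 1 (.one ⟨2747, 1, 1⟩) (.one ⟨11154, 0, 1⟩)) (.node 1 (.one ⟨8748, 1, 2⟩) (.one ⟨9538, 1, 1⟩))) (.node 2 (.node 1 (.one ⟨7761, 1, 1⟩) (.one ⟨13718, 0, 3⟩)) (.node 1 (.one ⟨12108, 0, 2⟩) (.one ⟨10, 0, 1⟩)))) (.node 4 (.node 2 (.node 1 (.one ⟨1137, 1, 1⟩) (.one ⟨3342, 1, 2⟩)) (.node 1 (.one ⟨521, 0, 1⟩) (.one ⟨660, 0, 1⟩))) (.node 2 (.node 1 (.one ⟨823, 0, 1⟩) (.one ⟨915, 0, 1⟩)) (.node 1 (.one ⟨1065, 0, 1⟩) (.one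 ⟨8951, 0, 1⟩))))) (.node 8 (.node 4 (.node 2 (.node 1 (.one ⟨8954, 0, 2⟩) (.one ⟨9173, 1, 1⟩)) (.node 1 (.one ⟨9945, 1, 1⟩) (.one ⟨8958, 0, 2⟩))) (.node 2 (.node 1 (.one ⟨5166, 1, 0⟩) (.one ⟨4003, 1, 1⟩)) (.node 1 (.one ⟨4940, 0, 1⟩) (.one ⟨3446, 0, 3⟩)))) (.node 4 (.node 2 (.node 1 (.one ⟨290, 0, 1⟩) (.one ⟨4050, 0, 1⟩)) (.node 1 (.one ⟨4933, 0, 3⟩) (.one ⟨1479, 1, 1⟩))) (.node 2 (.node 1 (.one ⟨3468, 1, 0⟩) (.one ⟨2465, 1, 1⟩)) (.node 1 (.one ⟨2775, 0, 1⟩) (.one ⟨9171, 1, 1⟩)))))))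
def par5_10_1 : Arr Par :=
  (.node 32 (.node 16 (.node 8 (.node 4 (.node 2 (.node 1 (.one ⟨12403, 1, 1⟩) (.one ⟨466, 1, 0⟩)) (.node 1 (.one ⟨3205, 0, 3⟩) (.one ⟨2322, 1, 0⟩))) (.node 2 (.node 1 (.one ⟨10096, 0, 3⟩) (.one ⟨341, 0, 1⟩)) (.node 1 (.one ⟨6050, 0, 3⟩) (.one ⟨196, 1, 0⟩)))) (.node 4 (.node 2 (.node 1 (.one ⟨10464, 1, 1⟩) (.one ⟨1568, 1, 0⟩)) (.node 1 (.one ⟨2736, 1, 0⟩) (.one ⟨10095, 0, 1⟩))) (.node 2 (.node 1 (.one ⟨1484, 1, 1⟩) (.one ⟨1964, 1, 1⟩)) (.node 1 (.one ⟨3583, 0, 3⟩) (.one ⟨3144, 1, 0⟩))))) (.node 8 (.node 4 (.node 2 (.node 1 (.one ⟨4950, 0, 3⟩) (.one ⟨4575, 0, 2⟩)) (.node 1 (.one ⟨7166, 0, 1⟩) (.one ⟨5009, 0, 1⟩))) (.node 2 (.node 1 (.one ⟨7565, 0, 2⟩) (.one ⟨598, 1, 0⟩)) (.node 1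 (.one ⟨3565, 1, 0⟩) (.one ⟨1339, 1, 0⟩)))) (.node 4 (.node 2 (.node 1 (.one ⟨6120, 0, 3⟩) (.one ⟨2081, 1, 0⟩)) (.node 1 (.one ⟨16520, 1, 2⟩) (.one ⟨6501, 1, 1⟩))) (.node 2 (.node 1 (.one ⟨5372, 1, 1⟩) (.one ⟨7980, 1, 2⟩)) (.node 1 (.one ⟨4955, 0, 3⟩) (.one ⟨5285, 0, 3⟩)))))) (.node 16 (.node 8 (.node 4 (.node 2 (.node 1 (.one ⟨11706, 0, 3⟩) (.one ⟨11073, 0, 3⟩)) (.node 1 (.one ⟨2349, 0, 3⟩) (.one ⟨3424, 0, 1⟩))) (.node 2 (.node 1 (.one ⟨9678, 0, 1⟩) (.one ⟨5229, 1, 2⟩)) (.node 1 (.one ⟨14497, 1, 1⟩) (.one ⟨2869, 1, 2⟩)))) (.node 4 (.node 2 (.node 1 (.one ⟨6485, 1, 2⟩) (.one ⟨9170, 1, 2⟩)) (.node 1 (.one ⟨553, 1, 0⟩) (.one ⟨15930, 0, 2⟩))) (.node 2 (.node 1 (.one ⟨4684, 0, 1⟩) (.one ⟨470, 1, 2⟩)) (.node 1 (.one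 ⟨7156, 1, 1⟩) (.one ⟨10946, 1, 2⟩))))) (.node 8 (.node 4 (.node 2 (.node 1 (.one ⟨6011, 0, 3⟩) (.one ⟨9598, 1, 1⟩)) (.node 1 (.one ⟨16770, 0, 3⟩) (.one ⟨688, 1, 1⟩))) (.node 2 (.node 1 (.one ⟨1554, 1, 0⟩) (.one ⟨16541, 0, 2⟩)) (.node 1 (.one ⟨1690, 0, 1⟩) (.one ⟨14534, 0, 2⟩)))) (.node 4 (.node 2 (.node 1 (.one ⟨2962, 0, 1⟩) (.one ⟨1071, 1, 1⟩)) (.node 1 (.one ⟨1475, 0, 1⟩) (.one ⟨3524, 1, 0⟩))) (.node 2 (.node 1 (.one ⟨12159, 1, 2⟩) (.one ⟨3556, 1, 0⟩)) (.node 1 (.one ⟨16774, 0, 1⟩) (.one ⟨5665, 1, 2⟩)))))))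
def par5_10_2 : Arr Par :=
  (.node 32 (.node 16 (.node 8 (.node 4 (.node 2 (.node 1 (.one ⟨3669, 1, 0⟩) (.one ⟨223, 0, 1⟩)) (.node 1 (.one ⟨6757, 1, 2⟩) (.one ⟨5951, 0, 1⟩))) (.node 2 (.node 1 (.one ⟨14331, 1, 2⟩) (.one ⟨11713, 0, 3⟩)) (.node 1 (.one ⟨2536, 0, 1⟩) (.one ⟨6850, 1, 2⟩)))) (.node 4 (.node 2 (.node 1 (.one ⟨12273, 0, 3⟩) (.one ⟨2607, 1, 0⟩)) (.node 1 (.one ⟨2933, 1, 0⟩) (.one ⟨2642, 1, 0⟩))) (.node 2 (.node 1 (.one ⟨3917, 1, 0⟩) (.one ⟨13092, 1, 2⟩)) (.node 1 (.one ⟨6514, 1, 2⟩) (.one ⟨463, 0, 1⟩))))) (.node 8 (.node 4 (.node 2 (.node 1 (.one ⟨7900, 0, 3⟩) (.one ⟨1075, 1, 1⟩)) (.node 1 (.one ⟨2997, 1, 0⟩) (.one ⟨5890, 0, 3⟩))) (.node 2 (.node 1 (.one ⟨3872, 0, 1⟩) (.one ⟨3453, 1, 2⟩)) (.node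 1 (.one ⟨8214, 0, 3⟩) (.one ⟨10585, 1, 1⟩)))) (.node 4 (.node 2 (.node 1 (.one ⟨2911, 1, 2⟩) (.one ⟨1485, 0, 2⟩)) (.node 1 (.one ⟨1411, 0, 2⟩) (.one ⟨591, 0, 2⟩))) (.node 2 (.node 1 (.one ⟨9595, 1, 2⟩) (.one ⟨14927, 1, 2⟩)) (.node 1 (.one ⟨905, 1, 0⟩) (.one ⟨16767, 0, 2⟩)))))) (.node 16 (.node 8 (.node 4 (.node 2 (.node 1 (.one ⟨3573, 0, 3⟩) (.one ⟨300, 1, 1⟩)) (.node 1 (.one ⟨6557, 1, 1⟩) (.one ⟨12837, 0, 2⟩))) (.node 2 (.node 1 (.one ⟨4992, 1, 1⟩) (.one ⟨6912, 0, 3⟩)) (.node 1 (.one ⟨5379, 1, 0⟩) (.one ⟨9016, 0, 3⟩)))) (.node 4 (.node 2 (.node 1 (.one ⟨2573, 1, 0⟩) (.one ⟨8997, 0, 2⟩)) (.node 1 (.one ⟨15533, 0, 1⟩) (.one ⟨6609, 0, 1⟩))) (.node 2 (.node 1 (.one ⟨9873, 1, 2⟩) (.one ⟨7051, 0, 2⟩)) (.node 1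 (.one ⟨16771, 0, 3⟩) (.one ⟨3529, 1, 0⟩))))) (.node 8 (.node 4 (.node 2 (.node 1 (.one ⟨8265, 0, 2⟩) (.one ⟨1183, 1, 0⟩)) (.node 1 (.one ⟨1900, 1, 0⟩) (.one ⟨7089, 1, 2⟩))) (.node 2 (.node 1 (.one ⟨16952, 1, 2⟩) (.one ⟨3877, 1, 1⟩)) (.node 1 (.one ⟨6300, 0, 2⟩) (.one ⟨13690, 0, 3⟩)))) (.node 4 (.node 2 (.node 1 (.one ⟨11880, 0, 3⟩) (.one ⟨11039, 1, 1⟩)) (.node 1 (.one ⟨7397, 0, 3⟩) (.one ⟨6499, 0, 3⟩))) (.node 2 (.node 1 (.one ⟨4107, 0, 3⟩) (.one ⟨12648, 0, 2⟩)) (.node 1 (.one ⟨15089, 0, 2⟩) (.one ⟨11894, 1, 2⟩)))))))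
def par5_10_3 : Arr Par :=
  (.node 32 (.node 16 (.node 8 (.node 4 (.node 2 (.node 1 (.one ⟨4313, 1, 0⟩) (.one ⟨12280, 1, 2⟩)) (.node 1 (.one ⟨2300, 0, 2⟩) (.one ⟨3746, 1, 0⟩))) (.node 2 (.node 1 (.one ⟨4152, 1, 0⟩) (.one ⟨5041, 0, 2⟩)) (.node 1 (.one ⟨4699, 0, 2⟩) (.one ⟨4776, 1, 0⟩)))) (.node 4 (.node 2 (.node 1 (.one ⟨4519, 0, 3⟩) (.one ⟨7643, 0, 3⟩)) (.node 1 (.one ⟨3652, 1, 0⟩) (.one ⟨4425, 1, 0⟩))) (.node 2 (.node 1 (.one ⟨7641, 0, 3⟩) (.one ⟨4525, 0, 3⟩)) (.node 1 (.one ⟨1726, 1, 0⟩) (.one ⟨15698, 1, 1⟩))))) (.node 8 (.node 4 (.node 2 (.node 1 (.one ⟨7904, 1, 1⟩) (.one ⟨6567, 1, 1⟩)) (.node 1 (.one ⟨14266, 1, 2⟩) (.one ⟨3898, 1, 0⟩))) (.node 2 (.node 1 (.one ⟨3004, 0, 1⟩) (.one ⟨10156, 1, 2⟩)) (.node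 1 (.one ⟨1780, 1, 1⟩) (.one ⟨13065, 0, 3⟩)))) (.node 4 (.node 2 (.node 1 (.one ⟨13692, 0, 3⟩) (.one ⟨15262, 0, 1⟩)) (.node 1 (.one ⟨7133, 1, 2⟩) (.one ⟨902, 0, 2⟩))) (.node 2 (.node 1 (.one ⟨8552, 0, 1⟩) (.one ⟨16352, 1, 1⟩)) (.node 1 (.one ⟨2403, 1, 1⟩) (.one ⟨2220, 1, 0⟩)))))) (.node 16 (.node 8 (.node 4 (.node 2 (.node 1 (.one ⟨4058, 1, 0⟩) (.one ⟨2787, 1, 0⟩)) (.node 1 (.one ⟨14601, 1, 1⟩) (.one ⟨13963, 1, 1⟩))) (.node 2 (.node 1 (.one ⟨9876, 1, 1⟩) (.one ⟨10115, 1, 1⟩)) (.node 1 (.one ⟨14171, 1, 1⟩) (.one ⟨4289, 0, 3⟩)))) (.node 4 (.node 2 (.node 1 (.one ⟨12303, 1, 2⟩) (.one ⟨6500, 0, 3⟩)) (.node 1 (.one ⟨14601, 0, 1⟩) (.one ⟨9728, 0, 1⟩))) (.node 2 (.node 1 (.one ⟨997, 0, 2⟩) (.one ⟨15684, 0, 3⟩)) (.node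 1 (.one ⟨1626, 1, 0⟩) (.one ⟨16946, 0, 2⟩))))) (.node 8 (.node 4 (.node 2 (.node 1 (.one ⟨9146, 0, 1⟩) (.one ⟨8907, 0, 1⟩)) (.node 1 (.one ⟨1293, 0, 1⟩) (.one ⟨9555, 0, 1⟩))) (.node 2 (.node 1 (.one ⟨15958, 1, 2⟩) (.one ⟨1378, 0, 1⟩)) (.node 1 (.one ⟨8922, 0, 2⟩) (.one ⟨6501, 0, 1⟩)))) (.node 4 (.node 2 (.node 1 (.one ⟨11212, 0, 1⟩) (.one ⟨383, 0, 1⟩)) (.node 1 (.one ⟨613, 1, 1⟩) (.one ⟨10591, 0, 3⟩))) (.node 2 (.node 1 (.one ⟨317, 1, 1⟩) (.one ⟨527, 1, 1⟩)) (.node 1 (.one ⟨2933, 0, 1⟩) (.one ⟨9022, 0, 1⟩)))))))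
def par5_10_4 : Arr Par :=
  (.node 32 (.node 16 (.node 8 (.node 4 (.node 2 (.node 1 (.one ⟨3767, 0, 1⟩) (.one ⟨1120, 0, 1⟩)) (.node 1 (.one ⟨7347, 0, 3⟩) (.one ⟨6823, 0, 1⟩))) (.node 2 (.node 1 (.one ⟨3458, 1, 0⟩) (.one ⟨12116, 1, 1⟩)) (.node 1 (.one ⟨8592, 0, 2⟩) (.one ⟨4161, 1, 2⟩)))) (.node 4 (.node 2 (.node 1 (.one ⟨10602, 0, 2⟩) (.one ⟨706, 0, 3⟩)) (.node 1 (.one ⟨11883, 0, 1⟩) (.one ⟨8033, 1, 2⟩))) (.node 2 (.node 1 (.one ⟨6378, 1, 1⟩) (.one ⟨2959, 1, 0⟩)) (.node 1 (.one ⟨1305, 0, 1⟩) (.one ⟨2536, 1, 0⟩))))) (.node 8 (.node 4 (.node 2 (.node 1 (.one ⟨1036, 1, 0⟩) (.one ⟨2741, 0, 2⟩)) (.node 1 (.one ⟨7391, 0, 2⟩) (.one ⟨13746, 0, 2⟩))) (.node 2 (.node 1 (.one ⟨2659, 1, 1⟩) (.one ⟨4961, 0, 0⟩)) (.node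 1 (.one ⟨1850, 1, 2⟩) (.one ⟨5646, 0, 3⟩)))) (.node 4 (.node 2 (.node 1 (.one ⟨12724, 0, 3⟩) (.one ⟨16455, 0, 2⟩)) (.node 1 (.one ⟨841, 0, 1⟩) (.one ⟨4109, 0, 3⟩))) (.node 2 (.node 1 (.one ⟨13159, 1, 1⟩) (.one ⟨1783, 1, 0⟩)) (.node 1 (.one ⟨8163, 0, 2⟩) (.one ⟨1103, 1, 0⟩)))))) (.node 16 (.node 8 (.node 4 (.node 2 (.node 1 (.one ⟨1876, 0, 1⟩) (.one ⟨3141, 1, 0⟩)) (.node 1 (.one ⟨1901, 1, 2⟩) (.one ⟨2743, 0, 3⟩))) (.node 2 (.node 1 (.one ⟨11921, 0, 1⟩) (.one ⟨527, 0, 1⟩)) (.node 1 (.one ⟨13028, 0, 1⟩) (.one ⟨1029, 1, 0⟩)))) (.node 4 (.node 2 (.node 1 (.one ⟨12949, 1, 1⟩) (.one ⟨9263, 0, 1⟩)) (.node 1 (.one ⟨1474, 1, 0⟩) (.one ⟨13988, 0, 3⟩))) (.node 2 (.node 1 (.one ⟨1731, 1, 0⟩) (.one ⟨2446, 1, 0⟩)) (.node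 1 (.one ⟨6502, 0, 1⟩) (.one ⟨11208, 0, 3⟩))))) (.node 8 (.node 4 (.node 2 (.node 1 (.one ⟨14322, 1, 2⟩) (.one ⟨5880, 1, 2⟩)) (.node 1 (.one ⟨11565, 0, 3⟩) (.one ⟨2966, 1, 0⟩))) (.node 2 (.node 1 (.one ⟨2744, 0, 2⟩) (.one ⟨9718, 1, 1⟩)) (.node 1 (.one ⟨7039, 0, 3⟩) (.one ⟨16007, 1, 2⟩)))) (.node 4 (.node 2 (.node 1 (.one ⟨3614, 0, 1⟩) (.one ⟨12808, 1, 2⟩)) (.node 1 (.one ⟨16573, 0, 1⟩) (.one ⟨12154, 0, 3⟩))) (.node 2 (.node 1 (.one ⟨8846, 1, 1⟩) (.one ⟨16865, 1, 1⟩)) (.node 1 (.one ⟨10088, 0, 3⟩) (.one ⟨13865, 0, 3⟩)))))))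
def par5_10_5 : Arr Par :=
  (.node 32 (.node 16 (.node 8 (.node 4 (.node 2 (.node 1 (.one ⟨10465, 0, 1⟩) (.one ⟨11646, 0, 1⟩)) (.node 1 (.one ⟨16275, 0, 3⟩) (.one ⟨7725, 0, 1⟩))) (.node 2 (.node 1 (.one ⟨3971, 0, 2⟩) (.one ⟨11843, 1, 1⟩)) (.node 1 (.one ⟨6279, 0, 2⟩) (.one ⟨2254, 1, 0⟩)))) (.node 4 (.node 2 (.node 1 (.one ⟨1849, 1, 2⟩) (.one ⟨4595, 0, 2⟩)) (.node 1 (.one ⟨1180, 0, 2⟩) (.one ⟨4629, 0, 3⟩))) (.node 2 (.node 1 (.one ⟨12180, 1, 2⟩) (.one ⟨2564, 1, 2⟩)) (.node 1 (.one ⟨13486, 0, 3⟩) (.one ⟨748, 1, 1⟩))))) (.node 8 (.node 4 (.node 2 (.node 1 (.one ⟨75, 1, 2⟩) (.one ⟨986, 1, 1⟩)) (.node 1 (.one ⟨338, 1, 1⟩) (.one ⟨2587, 1, 1⟩))) (.node 2 (.node 1 (.one ⟨2628, 1, 0⟩) (.one ⟨2589, 1, 1⟩)) (.node 1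 (.one ⟨2152, 0, 1⟩) (.one ⟨2594, 1, 0⟩)))) (.node 4 (.node 2 (.node 1 (.one ⟨4652, 1, 0⟩) (.one ⟨4847, 1, 0⟩)) (.node 1 (.one ⟨17123, 0, 2⟩) (.one ⟨3840, 0, 3⟩))) (.node 2 (.node 1 (.one ⟨9881, 0, 1⟩) (.one ⟨13643, 0, 2⟩)) (.node 1 (.one ⟨7910, 0, 3⟩) (.one ⟨4264, 1, 2⟩)))))) (.node 16 (.node 8 (.node 4 (.node 2 (.node 1 (.one ⟨13135, 0, 2⟩) (.one ⟨4799, 1, 0⟩)) (.node 1 (.one ⟨4794, 0, 3⟩) (.one ⟨3566, 1, 0⟩))) (.node 2 (.node 1 (.one ⟨13051, 1, 2⟩) (.one ⟨5074, 1, 0⟩)) (.node 1 (.one ⟨2606, 0, 2⟩) (.one ⟨14409, 1, 1⟩)))) (.node 4 (.node 2 (.node 1 (.one ⟨10465, 1, 1⟩) (.one ⟨10314, 1, 1⟩)) (.node 1 (.one ⟨14306, 1, 1⟩) (.one ⟨9659, 1, 1⟩))) (.node 2 (.node 1 (.one ⟨13689, 1, 1⟩) (.one ⟨13879, 1, 1⟩)) (.node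 1 (.one ⟨10567, 0, 1⟩) (.one ⟨9096, 1, 1⟩))))) (.node 8 (.node 4 (.node 2 (.node 1 (.one ⟨5392, 1, 2⟩) (.one ⟨627, 1, 0⟩)) (.node 1 (.one ⟨1571, 0, 2⟩) (.one ⟨14939, 0, 2⟩))) (.node 2 (.node 1 (.one ⟨6555, 1, 1⟩) (.one ⟨205, 0, 2⟩)) (.node 1 (.one ⟨573, 1, 1⟩) (.one ⟨9315, 0, 1⟩)))) (.node 4 (.node 2 (.node 1 (.one ⟨14312, 0, 1⟩) (.one ⟨8758, 0, 3⟩)) (.node 1 (.one ⟨4540, 0, 1⟩) (.one ⟨4473, 1, 2⟩))) (.node 2 (.node 1 (.one ⟨3567, 0, 2⟩) (.one ⟨417, 1, 2⟩)) (.node 1 (.one ⟨15501, 0, 1⟩) (.one ⟨11214, 1, 1⟩)))))))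
def par5_10_6 : Arr Par :=
  (.node 32 (.node 16 (.node 8 (.node 4 (.node 2 (.node 1 (.one ⟨14757, 1, 1⟩) (.one ⟨1510, 0, 1⟩)) (.node 1 (.one ⟨11663, 1, 1⟩) (.one ⟨10711, 1, 1⟩))) (.node 2 (.node 1 (.one ⟨710, 0, 2⟩) (.one ⟨17134, 1, 2⟩)) (.node 1 (.one ⟨13061, 1, 1⟩) (.one ⟨16742, 0, 1⟩)))) (.node 4 (.node 2 (.node 1 (.one ⟨16741, 0, 3⟩) (.one ⟨13204, 0, 2⟩)) (.node 1 (.one ⟨13203, 0, 3⟩) (.one ⟨16739, 0, 3⟩))) (.node 2 (.node 1 (.one ⟨16740, 0, 3⟩) (.one ⟨5620, 1, 1⟩)) (.node 1 (.one ⟨13206, 0, 3⟩) (.one ⟨4, 0, 2⟩))))) (.node 8 (.node 4 (.node 2 (.node 1 (.one ⟨13542, 1, 2⟩) (.one ⟨885, 0, 1⟩)) (.node 1 (.one ⟨7374, 1, 2⟩) (.one ⟨15956, 1, 2⟩))) (.node 2 (.node 1 (.one ⟨70, 0, 1⟩) (.one ⟨331, 0, 1⟩)) (.node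 1 (.one ⟨894, 0, 1⟩) (.one ⟨1796, 1, 0⟩)))) (.node 4 (.node 2 (.node 1 (.one ⟨16899, 0, 3⟩) (.one ⟨6229, 1, 1⟩)) (.node 1 (.one ⟨16896, 1, 1⟩) (.one ⟨2963, 1, 1⟩))) (.node 2 (.node 1 (.one ⟨8926, 0, 2⟩) (.one ⟨14252, 0, 1⟩)) (.node 1 (.one ⟨4613, 0, 1⟩) (.one ⟨15057, 1, 2⟩)))))) (.node 16 (.node 8 (.node 4 (.node 2 (.node 1 (.one ⟨2507, 1, 0⟩) (.one ⟨15532, 1, 1⟩)) (.node 1 (.one ⟨16593, 0, 2⟩) (.one ⟨3794, 1, 1⟩))) (.node 2 (.node 1 (.one ⟨9152, 0, 3⟩) (.one ⟨782, 0, 2⟩)) (.node 1 (.one ⟨14061, 0, 1⟩) (.one ⟨13027, 1, 2⟩)))) (.node 4 (.node 2 (.node 1 (.one ⟨11541, 1, 2⟩) (.one ⟨10856, 1, 2⟩)) (.node 1 (.one ⟨3950, 0, 1⟩) (.one ⟨2540, 1, 0⟩))) (.node 2 (.node 1 (.one ⟨15670, 0, 2⟩) (.one ⟨11586, 0, 1⟩)) (.node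 1 (.one ⟨10507, 0, 3⟩) (.one ⟨1230, 0, 1⟩))))) (.node 8 (.node 4 (.node 2 (.node 1 (.one ⟨16695, 0, 1⟩) (.one ⟨686, 1, 1⟩)) (.node 1 (.one ⟨9257, 1, 2⟩) (.one ⟨6741, 0, 3⟩))) (.node 2 (.node 1 (.one ⟨11704, 0, 2⟩) (.one ⟨5475, 0, 3⟩)) (.node 1 (.one ⟨6347, 1, 1⟩) (.one ⟨9520, 0, 1⟩)))) (.node 4 (.node 2 (.node 1 (.one ⟨3126, 0, 1⟩) (.one ⟨5277, 1, 0⟩)) (.node 1 (.one ⟨9597, 0, 1⟩) (.one ⟨8907, 1, 1⟩))) (.node 2 (.node 1 (.one ⟨9356, 0, 1⟩) (.one ⟨1349, 1, 1⟩)) (.node 1 (.one ⟨3155, 0, 2⟩) (.one ⟨6608, 0, 3⟩)))))))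
def par5_10_7 : Arr Par :=
  (.node 32 (.node 16 (.node 8 (.node 4 (.node 2 (.node 1 (.one ⟨1601, 0, 2⟩) (.one ⟨17182, 0, 3⟩)) (.node 1 (.one ⟨5381, 1, 0⟩) (.one ⟨4344, 0, 3⟩))) (.node 2 (.node 1 (.one ⟨9021, 0, 1⟩) (.one ⟨9461, 0, 1⟩)) (.node 1 (.one ⟨14716, 0, 1⟩) (.one ⟨7446, 0, 2⟩)))) (.node 4 (.node 2 (.node 1 (.one ⟨925, 1, 0⟩) (.one ⟨14712, 0, 2⟩)) (.node 1 (.one ⟨1823, 0, 0⟩) (.one ⟨4316, 1, 0⟩))) (.node 2 (.node 1 (.one ⟨2347, 0, 3⟩) (.one ⟨17026, 1, 2⟩)) (.node 1 (.one ⟨4743, 1, 0⟩) (.one ⟨4123, 1, 2⟩))))) (.node 8 (.node 4 (.node 2 (.node 1 (.one ⟨10314, 0, 1⟩) (.one ⟨2706, 0, 0⟩)) (.node 1 (.one ⟨3848, 0, 1⟩) (.one ⟨12514, 0, 1⟩))) (.node 2 (.node 1 (.one ⟨4437, 0, 1⟩) (.one ⟨14428, 1, 1⟩)) (.node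 1 (.one ⟨9267, 0, 1⟩) (.one ⟨682, 1, 0⟩)))) (.node 4 (.node 2 (.node 1 (.one ⟨5907, 0, 2⟩) (.one ⟨4895, 1, 2⟩)) (.node 1 (.one ⟨5819, 0, 2⟩) (.one ⟨5801, 0, 1⟩))) (.node 2 (.node 1 (.one ⟨684, 0, 1⟩) (.one ⟨5679, 0, 1⟩)) (.node 1 (.one ⟨2498, 1, 0⟩) (.one ⟨3877, 0, 1⟩)))))) (.node 16 (.node 8 (.node 4 (.node 2 (.node 1 (.one ⟨6993, 1, 2⟩) (.one ⟨15268, 1, 2⟩)) (.node 1 (.one ⟨1347, 1, 1⟩) (.one ⟨7078, 1, 1⟩))) (.node 2 (.node 1 (.one ⟨2404, 0, 1⟩) (.one ⟨1696, 1, 2⟩)) (.node 1 (.one ⟨1309, 0, 1⟩) (.one ⟨9262, 1, 1⟩)))) (.node 4 (.node 2 (.node 1 (.one ⟨5820, 0, 1⟩) (.one ⟨10417, 1, 1⟩)) (.node 1 (.one ⟨6356, 1, 1⟩) (.one ⟨1789, 1, 0⟩))) (.node 2 (.node 1 (.one ⟨558, 1, 0⟩) (.one ⟨8969, 1, 1⟩)) (.node 1 (.one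 ⟨13346, 1, 1⟩) (.one ⟨13546, 0, 3⟩))))) (.node 8 (.node 4 (.node 2 (.node 1 (.one ⟨2824, 0, 3⟩) (.one ⟨16092, 0, 3⟩)) (.node 1 (.one ⟨14507, 1, 1⟩) (.one ⟨2919, 1, 0⟩))) (.node 2 (.node 1 (.one ⟨2143, 1, 0⟩) (.one ⟨564, 1, 1⟩)) (.node 1 (.one ⟨14509, 1, 1⟩) (.one ⟨16200, 0, 1⟩)))) (.node 4 (.node 2 (.node 1 (.one ⟨2563, 0, 1⟩) (.one ⟨10538, 0, 1⟩)) (.node 1 (.one ⟨2293, 1, 2⟩) (.one ⟨400, 0, 1⟩))) (.node 2 (.node 1 (.one ⟨3426, 1, 0⟩) (.one ⟨7631, 0, 1⟩)) (.node 1 (.one ⟨10204, 0, 1⟩) (.one ⟨14489, 1, 2⟩)))))))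
def par5_10_8 : Arr Par :=
  (.node 32 (.node 16 (.node 8 (.node 4 (.node 2 (.node 1 (.one ⟨10898, 0, 2⟩) (.one ⟨2097, 1, 0⟩)) (.node 1 (.one ⟨14490, 1, 1⟩) (.one ⟨14743, 0, 3⟩))) (.node 2 (.node 1 (.one ⟨15112, 0, 1⟩) (.one ⟨2902, 0, 2⟩)) (.node 1 (.one ⟨1065, 1, 1⟩) (.one ⟨243, 1, 0⟩)))) (.node 4 (.node 2 (.node 1 (.one ⟨2031, 1, 0⟩) (.one ⟨10313, 1, 1⟩)) (.node 1 (.one ⟨4840, 1, 0⟩) (.one ⟨5715, 1, 1⟩))) (.node 2 (.node 1 (.one ⟨1241, 1, 1⟩) (.one ⟨5993, 1, 1⟩)) (.node 1 (.one ⟨8888, 0, 3⟩) (.one ⟨3123, 0, 1⟩))))) (.node 8 (.node 4 (.node 2 (.node 1 (.one ⟨6450, 1, 2⟩) (.one ⟨13990, 1, 2⟩)) (.node 1 (.one ⟨1242, 1, 1⟩) (.one ⟨659, 1, 0⟩))) (.node 2 (.node 1 (.one ⟨10724, 1, 2⟩) (.one ⟨15184, 0, 1⟩)) (.node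 1 (.one ⟨16296, 0, 2⟩) (.one ⟨815, 1, 2⟩)))) (.node 4 (.node 2 (.node 1 (.one ⟨14470, 1, 2⟩) (.one ⟨3135, 1, 0⟩)) (.node 1 (.one ⟨1685, 0, 2⟩) (.one ⟨962, 1, 2⟩))) (.node 2 (.node 1 (.one ⟨14467, 1, 2⟩) (.one ⟨9411, 0, 2⟩)) (.node 1 (.one ⟨14464, 1, 2⟩) (.one ⟨4867, 0, 1⟩)))))) (.node 16 (.node 8 (.node 4 (.node 2 (.node 1 (.one ⟨14816, 0, 1⟩) (.one ⟨2285, 1, 1⟩)) (.node 1 (.one ⟨10362, 1, 2⟩) (.one ⟨943, 1, 0⟩))) (.node 2 (.node 1 (.one ⟨1245, 1, 1⟩) (.one ⟨15302, 0, 2⟩)) (.node 1 (.one ⟨10200, 1, 2⟩) (.one ⟨24, 1, 1⟩)))) (.node 4 (.node 2 (.node 1 (.one ⟨1062, 1, 1⟩) (.one ⟨2846, 0, 3⟩)) (.node 1 (.one ⟨2845, 0, 2⟩) (.one ⟨2839, 0, 3⟩))) (.node 2 (.node 1 (.one ⟨2840, 0, 3⟩) (.one ⟨743, 1, 1⟩)) (.node 1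 (.one ⟨442, 1, 1⟩) (.one ⟨648, 1, 0⟩))))) (.node 8 (.node 4 (.node 2 (.node 1 (.one ⟨10588, 1, 2⟩) (.one ⟨15906, 0, 2⟩)) (.node 1 (.one ⟨4954, 1, 0⟩) (.one ⟨14716, 1, 1⟩))) (.node 2 (.node 1 (.one ⟨488, 0, 2⟩) (.one ⟨9158, 0, 3⟩)) (.node 1 (.one ⟨1512, 1, 0⟩) (.one ⟨13792, 0, 2⟩)))) (.node 4 (.node 2 (.node 1 (.one ⟨958, 0, 2⟩) (.one ⟨15264, 1, 1⟩)) (.node 1 (.one ⟨3083, 0, 2⟩) (.one ⟨5757, 0, 2⟩))) (.node 2 (.node 1 (.one ⟨2509, 1, 0⟩) (.one ⟨16640, 1, 1⟩)) (.node 1 (.one ⟨11088, 0, 1⟩) (.one ⟨8819, 1, 2⟩)))))))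
def par5_10_9 : Arr Par :=
  (.node 32 (.node 16 (.node 8 (.node 4 (.node 2 (.node 1 (.one ⟨3134, 1, 0⟩) (.one ⟨10251, 1, 2⟩)) (.node 1 (.one ⟨15935, 1, 2⟩) (.one ⟨5370, 0, 1⟩))) (.node 2 (.node 1 (.one ⟨3196, 0, 3⟩) (.one ⟨8170, 1, 1⟩)) (.node 1 (.one ⟨2242, 1, 2⟩) (.one ⟨10615, 1, 2⟩)))) (.node 4 (.node 2 (.node 1 (.one ⟨2694, 1, 0⟩) (.one ⟨868, 1, 2⟩)) (.node 1 (.one ⟨15472, 0, 2⟩) (.one ⟨8872, 0, 2⟩))) (.node 2 (.node 1 (.one ⟨2826, 1, 2⟩) (.one ⟨2260, 0, 2⟩)) (.node 1 (.one ⟨7791, 0, 1⟩) (.one ⟨707, 1, 0⟩))))) (.node 8 (.node 4 (.node 2 (.node 1 (.one ⟨7851, 0, 2⟩) (.one ⟨2816, 0, 1⟩)) (.node 1 (.one ⟨11131, 0, 3⟩) (.one ⟨16603, 0, 3⟩))) (.node 2 (.node 1 (.one ⟨8464, 0, 3⟩) (.one ⟨10870, 1, 2⟩)) (.node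 1 (.one ⟨10023, 0, 3⟩) (.one ⟨9003, 0, 3⟩)))) (.node 4 (.node 2 (.node 1 (.one ⟨16606, 0, 3⟩) (.one ⟨11592, 0, 3⟩)) (.node 1 (.one ⟨4392, 0, 3⟩) (.one ⟨10782, 0, 3⟩))) (.node 2 (.node 1 (.one ⟨850, 0, 3⟩) (.one ⟨6961, 0, 3⟩)) (.node 1 (.one ⟨15361, 0, 3⟩) (.one ⟨15572, 0, 3⟩)))))) (.node 16 (.node 8 (.node 4 (.node 2 (.node 1 (.one ⟨4547, 0, 1⟩) (.one ⟨13837, 1, 2⟩)) (.node 1 (.one ⟨16648, 0, 2⟩) (.one ⟨6832, 1, 2⟩))) (.node 2 (.node 1 (.one ⟨16970, 0, 2⟩) (.one ⟨14804, 0, 3⟩)) (.node 1 (.one ⟨5486, 0, 1⟩) (.one ⟨5973, 1, 2⟩)))) (.node 4 (.node 2 (.node 1 (.one ⟨12041, 0, 1⟩) (.one ⟨1553, 0, 2⟩)) (.node 1 (.one ⟨1361, 0, 2⟩) (.one ⟨9298, 0, 2⟩))) (.node 2 (.node 1 (.one ⟨9184, 0, 2⟩) (.one ⟨3991, 0, 1⟩)) (.node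 1 (.one ⟨4010, 0, 1⟩) (.one ⟨11900, 0, 3⟩))))) (.node 8 (.node 4 (.node 2 (.node 1 (.one ⟨10019, 0, 3⟩) (.one ⟨5010, 1, 0⟩)) (.node 1 (.one ⟨8225, 0, 2⟩) (.one ⟨11119, 0, 3⟩))) (.node 2 (.node 1 (.one ⟨13096, 0, 3⟩) (.one ⟨6679, 1, 2⟩)) (.node 1 (.one ⟨7469, 0, 1⟩) (.one ⟨607, 0, 1⟩)))) (.node 4 (.node 2 (.node 1 (.one ⟨1205, 0, 2⟩) (.one ⟨1369, 0, 1⟩)) (.node 1 (.one ⟨1559, 0, 2⟩) (.one ⟨8146, 0, 1⟩))) (.node 2 (.node 1 (.one ⟨8159, 0, 1⟩) (.one ⟨1152, 1, 2⟩)) (.node 1 (.one ⟨8140, 0, 1⟩) (.one ⟨819, 0, 3⟩)))))))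
def par5_10_10 : Arr Par :=
  (.node 32 (.node 16 (.node 8 (.node 4 (.node 2 (.node 1 (.one ⟨15135, 0, 3⟩) (.one ⟨7136, 0, 3⟩)) (.node 1 (.one ⟨10780, 0, 3⟩) (.one ⟨15232, 0, 3⟩))) (.node 2 (.node 1 (.one ⟨2700, 0, 3⟩) (.one ⟨9517, 0, 3⟩)) (.node 1 (.one ⟨7024, 0, 3⟩) (.one ⟨11933, 0, 2⟩)))) (.node 4 (.node 2 (.node 1 (.one ⟨4866, 0, 3⟩) (.one ⟨1688, 1, 0⟩)) (.node 1 (.one ⟨10621, 0, 3⟩) (.one ⟨9230, 0, 3⟩))) (.node 2 (.node 1 (.one ⟨2964, 0, 1⟩) (.one ⟨8078, 1, 2⟩)) (.node 1 (.one ⟨1595, 1, 0⟩) (.one ⟨3471, 0, 2⟩))))) (.node 8 (.node 4 (.node 2 (.node 1 (.one ⟨15363, 1, 1⟩) (.one ⟨5980, 1, 2⟩)) (.node 1 (.one ⟨6966, 1, 1⟩) (.one ⟨14776, 0, 2⟩))) (.node 2 (.node 1 (.one ⟨2368, 0, 1⟩) (.one ⟨11426, 0, 2⟩))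 (.node 1 (.one ⟨12722, 1, 2⟩) (.one ⟨5271, 0, 3⟩)))) (.node 4 (.node 2 (.node 1 (.one ⟨5272, 0, 2⟩) (.one ⟨8575, 0, 3⟩)) (.node 1 (.one ⟨8577, 0, 2⟩) (.one ⟨4236, 0, 0⟩))) (.node 2 (.node 1 (.one ⟨8579, 0, 3⟩) (.one ⟨3709, 1, 0⟩)) (.node 1 (.one ⟨5275, 0, 3⟩) (.one ⟨11462, 1, 1⟩)))))) (.node 16 (.node 8 (.node 4 (.node 2 (.node 1 (.one ⟨12190, 0, 3⟩) (.one ⟨5017, 1, 2⟩)) (.node 1 (.one ⟨4162, 0, 3⟩) (.one ⟨5645, 0, 3⟩))) (.node 2 (.node 1 (.one ⟨10100, 1, 1⟩) (.one ⟨14163, 0, 3⟩)) (.node 1 (.one ⟨16350, 0, 1⟩) (.one ⟨16930, 0, 2⟩)))) (.node 4 (.node 2 (.node 1 (.one ⟨13432, 0, 3⟩) (.one ⟨334, 1, 0⟩)) (.node 1 (.one ⟨6010, 0, 1⟩) (.one ⟨6135, 0, 3⟩))) (.node 2 (.node 1 (.one ⟨1738, 0, 3⟩) (.one ⟨5370, 1, 1⟩))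 (.node 1 (.one ⟨5238, 1, 0⟩) (.one ⟨7794, 0, 3⟩))))) (.node 8 (.node 4 (.node 2 (.node 1 (.one ⟨5308, 1, 0⟩) (.one ⟨8878, 0, 1⟩)) (.node 1 (.one ⟨15727, 0, 1⟩) (.one ⟨5929, 0, 2⟩))) (.node 2 (.node 1 (.one ⟨16867, 1, 1⟩) (.one ⟨16311, 1, 1⟩)) (.node 1 (.one ⟨4573, 1, 2⟩) (.one ⟨12415, 0, 3⟩)))) (.node 4 (.node 2 (.node 1 (.one ⟨15902, 0, 3⟩) (.one ⟨12418, 0, 3⟩)) (.node 1 (.one ⟨15899, 0, 3⟩) (.one ⟨15897, 0, 2⟩))) (.node 2 (.node 1 (.one ⟨2814, 1, 1⟩) (.one ⟨15896, 0, 3⟩)) (.node 1 (.one ⟨15165, 1, 2⟩) (.one ⟨1212, 0, 2⟩)))))))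
def par5_10_11 : Arr Par :=
  (.node 32 (.node 16 (.node 8 (.node 4 (.node 2 (.node 1 (.one ⟨1612, 0, 1⟩) (.one ⟨1687, 0, 1⟩)) (.node 1 (.one ⟨1362, 0, 1⟩) (.one ⟨9185, 0, 2⟩))) (.node 2 (.node 1 (.one ⟨9688, 0, 1⟩) (.one ⟨9739, 0, 1⟩)) (.node 1 (.one ⟨9502, 0, 1⟩) (.one ⟨14604, 0, 2⟩)))) (.node 4 (.node 2 (.node 1 (.one ⟨9835, 1, 1⟩) (.one ⟨7028, 0, 1⟩)) (.node 1 (.one ⟨11698, 1, 1⟩) (.one ⟨16871, 0, 1⟩))) (.node 2 (.node 1 (.one ⟨723, 0, 1⟩) (.one ⟨7741, 0, 3⟩)) (.node 1 (.one ⟨11360, 0, 3⟩) (.one ⟨14726, 1, 1⟩))))) (.node 8 (.node 4 (.node 2 (.node 1 (.one ⟨12815, 0, 3⟩) (.one ⟨6507, 0, 2⟩)) (.node 1 (.one ⟨11196, 0, 3⟩) (.one ⟨4134, 1, 0⟩))) (.node 2 (.node 1 (.one ⟨14924, 0, 3⟩) (.one ⟨3980, 0, 2⟩)) (.node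 1 (.one ⟨17177, 0, 2⟩) (.one ⟨8084, 0, 3⟩)))) (.node 4 (.node 2 (.node 1 (.one ⟨8350, 0, 3⟩) (.one ⟨5205, 0, 1⟩)) (.node 1 (.one ⟨4744, 0, 1⟩) (.one ⟨7484, 0, 1⟩))) (.node 2 (.node 1 (.one ⟨1273, 1, 0⟩) (.one ⟨1546, 0, 1⟩)) (.node 1 (.one ⟨2458, 0, 3⟩) (.one ⟨8450, 0, 3⟩)))))) (.node 16 (.node 8 (.node 4 (.node 2 (.node 1 (.one ⟨11901, 0, 3⟩) (.one ⟨15394, 0, 3⟩)) (.node 1 (.one ⟨2622, 0, 3⟩) (.one ⟨6812, 0, 3⟩))) (.node 2 (.node 1 (.one ⟨9976, 0, 3⟩) (.one ⟨16971, 0, 3⟩)) (.node 1 (.one ⟨8768, 1, 1⟩) (.one ⟨4210, 0, 2⟩)))) (.node 4 (.node 2 (.node 1 (.one ⟨12949, 0, 1⟩) (.one ⟨9201, 0, 1⟩)) (.node 1 (.one ⟨3451, 0, 2⟩) (.one ⟨4894, 0, 1⟩))) (.node 2 (.node 1 (.one ⟨966, 1, 2⟩) (.one ⟨11508, 0, 1⟩)) (.node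 1 (.one ⟨10861, 1, 2⟩) (.one ⟨5948, 0, 2⟩))))) (.node 8 (.node 4 (.node 2 (.node 1 (.one ⟨2009, 1, 0⟩) (.one ⟨563, 0, 1⟩)) (.node 1 (.one ⟨4787, 0, 1⟩) (.one ⟨5702, 0, 3⟩))) (.node 2 (.node 1 (.one ⟨6139, 1, 1⟩) (.one ⟨2101, 0, 2⟩)) (.node 1 (.one ⟨2493, 1, 0⟩) (.one ⟨2431, 0, 3⟩)))) (.node 4 (.node 2 (.node 1 (.one ⟨6813, 0, 3⟩) (.one ⟨15263, 0, 3⟩)) (.node 1 (.one ⟨9403, 0, 2⟩) (.one ⟨3963, 0, 3⟩))) (.node 2 (.node 1 (.one ⟨8447, 0, 3⟩) (.one ⟨17037, 0, 3⟩)) (.node 1 (.one ⟨11633, 0, 3⟩) (.one ⟨3017, 0, 2⟩)))))))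
def par5_10_12 : Arr Par :=
  (.node 32 (.node 16 (.node 8 (.node 4 (.node 2 (.node 1 (.one ⟨12397, 1, 1⟩) (.one ⟨10751, 0, 3⟩)) (.node 1 (.one ⟨6401, 0, 3⟩) (.one ⟨15856, 0, 1⟩))) (.node 2 (.node 1 (.one ⟨10273, 1, 2⟩) (.one ⟨17075, 1, 2⟩)) (.node 1 (.one ⟨13602, 0, 1⟩) (.one ⟨7292, 0, 2⟩)))) (.node 4 (.node 2 (.node 1 (.one ⟨5461, 0, 1⟩) (.one ⟨3266, 0, 3⟩)) (.node 1 (.one ⟨7336, 1, 2⟩) (.one ⟨5037, 1, 0⟩))) (.node 2 (.node 1 (.one ⟨493, 1, 0⟩) (.one ⟨3665, 0, 3⟩)) (.node 1 (.one ⟨3373, 1, 0⟩) (.one ⟨2936, 1, 0⟩))))) (.node 8 (.node 4 (.node 2 (.node 1 (.one ⟨6972, 1, 2⟩) (.one ⟨500, 1, 2⟩)) (.node 1 (.one ⟨6633, 1, 1⟩) (.one ⟨15734, 0, 2⟩))) (.node 2 (.node 1 (.one ⟨11224, 0, 1⟩) (.one ⟨10818, 0, 3⟩)) (.node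 1 (.one ⟨16297, 0, 2⟩) (.one ⟨5699, 0, 1⟩)))) (.node 4 (.node 2 (.node 1 (.one ⟨577, 0, 1⟩) (.one ⟨1370, 0, 2⟩)) (.node 1 (.one ⟨5759, 0, 1⟩) (.one ⟨9303, 0, 2⟩))) (.node 2 (.node 1 (.one ⟨13793, 0, 1⟩) (.one ⟨13859, 0, 1⟩)) (.node 1 (.one ⟨9494, 0, 1⟩) (.one ⟨2923, 1, 0⟩)))))) (.node 16 (.node 8 (.node 4 (.node 2 (.node 1 (.one ⟨149, 1, 0⟩) (.one ⟨893, 1, 0⟩)) (.node 1 (.one ⟨10134, 0, 3⟩) (.one ⟨10819, 1, 2⟩))) (.node 2 (.node 1 (.one ⟨13607, 0, 3⟩) (.one ⟨2620, 1, 0⟩)) (.node 1 (.one ⟨13227, 0, 3⟩) (.one ⟨12781, 0, 2⟩)))) (.node 4 (.node 2 (.node 1 (.one ⟨17151, 1, 2⟩) (.one ⟨15001, 0, 3⟩)) (.node 1 (.one ⟨11538, 0, 1⟩) (.one ⟨2481, 1, 0⟩))) (.node 2 (.node 1 (.one ⟨3474, 1, 0⟩) (.one ⟨7961, 0, 3⟩)) (.node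 1 (.one ⟨4440, 0, 2⟩) (.one ⟨10020, 0, 1⟩))))) (.node 8 (.node 4 (.node 2 (.node 1 (.one ⟨13447, 1, 1⟩) (.one ⟨15118, 0, 3⟩)) (.node 1 (.one ⟨7596, 0, 2⟩) (.one ⟨2987, 0, 3⟩))) (.node 2 (.node 1 (.one ⟨11522, 0, 3⟩) (.one ⟨6148, 0, 2⟩)) (.node 1 (.one ⟨3133, 1, 0⟩) (.one ⟨6777, 1, 2⟩)))) (.node 4 (.node 2 (.node 1 (.one ⟨9471, 1, 1⟩) (.one ⟨4612, 1, 0⟩)) (.node 1 (.one ⟨4584, 1, 2⟩) (.one ⟨6959, 1, 2⟩))) (.node 2 (.node 1 (.one ⟨9918, 1, 2⟩) (.one ⟨1094, 1, 0⟩)) (.node 1 (.one ⟨4180, 0, 0⟩) (.one ⟨1325, 1, 2⟩)))))))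
def par5_10_13 : Arr Par :=
  (.node 32 (.node 16 (.node 8 (.node 4 (.node 2 (.node 1 (.one ⟨8948, 0, 2⟩) (.one ⟨16591, 1, 2⟩)) (.node 1 (.one ⟨3076, 1, 0⟩) (.one ⟨698, 1, 0⟩))) (.node 2 (.node 1 (.one ⟨5031, 0, 1⟩) (.one ⟨3813, 1, 1⟩)) (.node 1 (.one ⟨5151, 1, 2⟩) (.one ⟨230, 1, 1⟩)))) (.node 4 (.node 2 (.node 1 (.one ⟨643, 1, 1⟩) (.one ⟨505, 1, 1⟩)) (.node 1 (.one ⟨897, 1, 1⟩) (.one ⟨1956, 0, 2⟩))) (.node 2 (.node 1 (.one ⟨1754, 0, 3⟩) (.one ⟨10139, 0, 1⟩)) (.node 1 (.one ⟨4851, 1, 0⟩) (.one ⟨829, 1, 0⟩))))) (.node 8 (.node 4 (.node 2 (.node 1 (.one ⟨1235, 1, 0⟩) (.one ⟨9837, 1, 2⟩)) (.node 1 (.one ⟨5321, 0, 1⟩) (.one ⟨708, 1, 0⟩))) (.node 2 (.node 1 (.one ⟨7628, 1, 2⟩) (.one ⟨6820, 1, 2⟩)) (.node 1 (.one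 ⟨4002, 0, 1⟩) (.one ⟨4002, 1, 0⟩)))) (.node 4 (.node 2 (.node 1 (.one ⟨628, 1, 0⟩) (.one ⟨9441, 1, 1⟩)) (.node 1 (.one ⟨10194, 0, 3⟩) (.one ⟨11535, 0, 1⟩))) (.node 2 (.node 1 (.one ⟨12196, 0, 2⟩) (.one ⟨4259, 0, 3⟩)) (.node 1 (.one ⟨3154, 0, 2⟩) (.one ⟨3658, 1, 0⟩)))))) (.node 16 (.node 8 (.node 4 (.node 2 (.node 1 (.one ⟨14903, 1, 1⟩) (.one ⟨16960, 0, 1⟩)) (.node 1 (.one ⟨156, 0, 3⟩) (.one ⟨1451, 0, 2⟩))) (.node 2 (.node 1 (.one ⟨16980, 0, 3⟩) (.one ⟨15109, 0, 2⟩)) (.node 1 (.one ⟨4299, 0, 3⟩) (.one ⟨8955, 1, 2⟩)))) (.node 4 (.node 2 (.node 1 (.one ⟨1316, 1, 1⟩) (.one ⟨12045, 1, 2⟩)) (.node 1 (.one ⟨14875, 1, 2⟩) (.one ⟨2160, 0, 2⟩))) (.node 2 (.node 1 (.one ⟨2678, 1, 2⟩) (.one ⟨11950, 1, 2⟩)) (.node 1 (.one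 ⟨15620, 1, 2⟩) (.one ⟨5398, 1, 2⟩))))) (.node 8 (.node 4 (.node 2 (.node 1 (.one ⟨3065, 1, 2⟩) (.one ⟨2754, 1, 0⟩)) (.node 1 (.one ⟨8412, 0, 1⟩) (.one ⟨9154, 1, 2⟩))) (.node 2 (.node 1 (.one ⟨12141, 1, 2⟩) (.one ⟨16948, 0, 2⟩)) (.node 1 (.one ⟨14894, 0, 3⟩) (.one ⟨9476, 1, 1⟩)))) (.node 4 (.node 2 (.node 1 (.one ⟨6731, 1, 2⟩) (.one ⟨5565, 1, 1⟩)) (.node 1 (.one ⟨15103, 0, 2⟩) (.one ⟨16446, 1, 2⟩))) (.node 2 (.node 1 (.one ⟨3543, 1, 2⟩) (.one ⟨593, 1, 0⟩)) (.node 1 (.one ⟨612, 0, 3⟩) (.one ⟨17188, 0, 2⟩)))))))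
def par5_10_14 : Arr Par :=
  (.node 32 (.node 16 (.node 8 (.node 4 (.node 2 (.node 1 (.one ⟨5097, 0, 2⟩) (.one ⟨4995, 0, 2⟩)) (.node 1 (.one ⟨752, 1, 0⟩) (.one ⟨1324, 1, 2⟩))) (.node 2 (.node 1 (.one ⟨7413, 1, 1⟩) (.one ⟨5513, 0, 2⟩)) (.node 1 (.one ⟨16965, 0, 3⟩) (.one ⟨10028, 0, 3⟩)))) (.node 4 (.node 2 (.node 1 (.one ⟨17183, 0, 1⟩) (.one ⟨11085, 1, 2⟩)) (.node 1 (.one ⟨11329, 0, 1⟩) (.one ⟨8107, 0, 2⟩))) (.node 2 (.node 1 (.one ⟨3497, 0, 2⟩) (.one ⟨1003, 0, 2⟩)) (.node 1 (.one ⟨11086, 1, 1⟩) (.one ⟨182, 1, 0⟩))))) (.node 8 (.node 4 (.node 2 (.node 1 (.one ⟨2020, 1, 0⟩) (.one ⟨11719, 1, 1⟩)) (.node 1 (.one ⟨488, 1, 0⟩) (.one ⟨13822, 0, 1⟩))) (.node 2 (.node 1 (.one ⟨2171, 0, 1⟩) (.one ⟨10955, 1, 2⟩)) (.node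 1 (.one ⟨14019, 0, 3⟩) (.one ⟨95, 1, 1⟩)))) (.node 4 (.node 2 (.node 1 (.one ⟨13271, 1, 1⟩) (.one ⟨5293, 1, 2⟩)) (.node 1 (.one ⟨9445, 1, 1⟩) (.one ⟨3094, 1, 2⟩))) (.node 2 (.node 1 (.one ⟨12413, 1, 1⟩) (.one ⟨4295, 1, 2⟩)) (.node 1 (.one ⟨11096, 1, 1⟩) (.one ⟨13777, 1, 1⟩)))))) (.node 16 (.node 8 (.node 4 (.node 2 (.node 1 (.one ⟨3865, 0, 1⟩) (.one ⟨6853, 1, 1⟩)) (.node 1 (.one ⟨10420, 0, 3⟩) (.one ⟨2734, 1, 0⟩))) (.node 2 (.node 1 (.one ⟨5770, 1, 1⟩) (.one ⟨9557, 0, 3⟩)) (.node 1 (.one ⟨15445, 0, 1⟩) (.one ⟨1317, 1, 1⟩)))) (.node 4 (.node 2 (.node 1 (.one ⟨1267, 0, 2⟩) (.one ⟨1422, 0, 2⟩)) (.node 1 (.one ⟨1085, 0, 2⟩) (.one ⟨5495, 1, 1⟩))) (.node 2 (.node 1 (.one ⟨9681, 0, 2⟩) (.one ⟨3050, 1, 0⟩)) (.node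 1 (.one ⟨930, 1, 0⟩) (.one ⟨16061, 0, 3⟩))))) (.node 8 (.node 4 (.node 2 (.node 1 (.one ⟨6263, 0, 3⟩) (.one ⟨160, 1, 1⟩)) (.node 1 (.one ⟨4421, 0, 2⟩) (.one ⟨9036, 0, 3⟩))) (.node 2 (.node 1 (.one ⟨15567, 1, 2⟩) (.one ⟨3328, 0, 3⟩)) (.node 1 (.one ⟨12983, 0, 3⟩) (.one ⟨6294, 1, 1⟩)))) (.node 4 (.node 2 (.node 1 (.one ⟨9329, 0, 2⟩) (.one ⟨4408, 1, 0⟩)) (.node 1 (.one ⟨4815, 0, 1⟩) (.one ⟨11235, 1, 2⟩))) (.node 2 (.node 1 (.one ⟨7626, 1, 2⟩) (.one ⟨12608, 0, 1⟩)) (.node 1 (.one ⟨2287, 1, 0⟩) (.one ⟨1857, 1, 0⟩)))))))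
def par5_10_15 : Arr Par :=
  (.node 32 (.node 16 (.node 8 (.node 4 (.node 2 (.node 1 (.one ⟨17039, 0, 1⟩) (.one ⟨15544, 1, 1⟩)) (.node 1 (.one ⟨2895, 1, 0⟩) (.one ⟨11323, 0, 1⟩))) (.node 2 (.node 1 (.one ⟨15029, 1, 2⟩) (.one ⟨3513, 0, 2⟩)) (.node 1 (.one ⟨15360, 0, 3⟩) (.one ⟨15698, 0, 1⟩)))) (.node 4 (.node 2 (.node 1 (.one ⟨6211, 1, 2⟩) (.one ⟨2169, 0, 2⟩)) (.node 1 (.one ⟨8111, 0, 2⟩) (.one ⟨5318, 1, 0⟩))) (.node 2 (.node 1 (.one ⟨1363, 1, 0⟩) (.one ⟨5098, 1, 0⟩)) (.node 1 (.one ⟨671, 1, 0⟩) (.one ⟨1199, 0, 0⟩))))) (.node 8 (.node 4 (.node 2 (.node 1 (.one ⟨2191, 0, 3⟩) (.one ⟨15102, 0, 3⟩)) (.node 1 (.one ⟨8991, 0, 1⟩) (.one ⟨700, 1, 0⟩))) (.node 2 (.node 1 (.one ⟨1532, 1, 2⟩) (.one ⟨11696, 0, 1⟩)) (.node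 1 (.one ⟨2274, 0, 2⟩) (.one ⟨12737, 1, 1⟩)))) (.node 4 (.node 2 (.node 1 (.one ⟨2974, 1, 0⟩) (.one ⟨1046, 1, 0⟩)) (.node 1 (.one ⟨16821, 0, 2⟩) (.one ⟨1550, 1, 1⟩))) (.node 2 (.node 1 (.one ⟨16361, 0, 2⟩) (.one ⟨6843, 0, 1⟩)) (.node 1 (.one ⟨9687, 0, 3⟩) (.one ⟨9452, 0, 2⟩)))))) (.node 16 (.node 8 (.node 4 (.node 2 (.node 1 (.one ⟨10512, 0, 1⟩) (.one ⟨4398, 1, 1⟩)) (.node 1 (.one ⟨13054, 1, 2⟩) (.one ⟨14829, 0, 1⟩))) (.node 2 (.node 1 (.one ⟨1531, 1, 1⟩) (.one ⟨15279, 1, 2⟩)) (.node 1 (.one ⟨2295, 1, 0⟩) (.one ⟨14938, 0, 3⟩)))) (.node 4 (.node 2 (.node 1 (.one ⟨1545, 1, 1⟩) (.one ⟨9065, 0, 3⟩)) (.node 1 (.one ⟨15565, 1, 1⟩) (.one ⟨4636, 1, 0⟩))) (.node 2 (.node 1 (.one ⟨249, 1, 2⟩) (.one ⟨3300, 1, 1⟩)) (.node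 1 (.one ⟨15571, 1, 1⟩) (.one ⟨14916, 0, 1⟩))))) (.node 8 (.node 4 (.node 2 (.node 1 (.one ⟨13526, 0, 1⟩) (.one ⟨12208, 0, 3⟩)) (.node 1 (.one ⟨3748, 1, 0⟩) (.one ⟨412, 0, 3⟩))) (.node 2 (.node 1 (.one ⟨8143, 0, 3⟩) (.one ⟨8766, 0, 1⟩)) (.node 1 (.one ⟨9263, 1, 1⟩) (.one ⟨12133, 0, 3⟩)))) (.node 4 (.node 2 (.node 1 (.one ⟨318, 1, 1⟩) (.one ⟨528, 1, 1⟩)) (.node 1 (.one ⟨4850, 0, 1⟩) (.one ⟨348, 1, 0⟩))) (.node 2 (.node 1 (.one ⟨10698, 0, 1⟩) (.one ⟨2995, 0, 1⟩)) (.node 1 (.one ⟨142, 1, 2⟩) (.one ⟨12848, 0, 3⟩)))))))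
def par5_10 : Arr Par :=
  (.node 512 (.node 256 (.node 128 (.node 64 par5_10_0 par5_10_1) (.node 64 par5_10_2 par5_10_3)) (.node 128 (.node 64 par5_10_4 par5_10_5) (.node 64 par5_10_6 par5_10_7))) (.node 256 (.node 128 (.node 64 par5_10_8 par5_10_9) (.node 64 par5_10_10 par5_10_11)) (.node 128 (.node 64 par5_10_12 par5_10_13) (.node 64 par5_10_14 par5_10_15))))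
def par5_11_0 : Arr Par :=
  (.node 32 (.node 16 (.node 8 (.node 4 (.node 2 (.node 1 (.one ⟨31, 0, 3⟩) (.one ⟨5100, 1, 1⟩)) (.node 1 (.one ⟨2696, 0, 3⟩) (.one ⟨3625, 1, 0⟩))) (.node 2 (.node 1 (.one ⟨4744, 1, 1⟩) (.one ⟨1448, 0, 3⟩)) (.node 1 (.one ⟨12895, 0, 2⟩) (.one ⟨15496, 1, 1⟩)))) (.node 4 (.node 2 (.node 1 (.one ⟨2616, 0, 0⟩) (.one ⟨1912, 1, 0⟩)) (.node 1 (.one ⟨2863, 1, 0⟩) (.one ⟨11339, 0, 1⟩))) (.node 2 (.node 1 (.one ⟨11311, 0, 2⟩) (.one ⟨12089, 0, 3⟩)) (.node 1 (.one ⟨12101, 0, 2⟩) (.one ⟨15335, 0, 3⟩))))) (.node 8 (.node 4 (.node 2 (.node 1 (.one ⟨15336, 0, 1⟩) (.one ⟨11067, 0, 3⟩)) (.node 1 (.one ⟨11070, 0, 1⟩) (.one ⟨11063, 0, 3⟩))) (.node 2 (.node 1 (.one ⟨11066, 0, 3⟩) (.one ⟨521, 1, 1⟩))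 (.node 1 (.one ⟨15342, 0, 2⟩) (.one ⟨9172, 0, 1⟩)))) (.node 4 (.node 2 (.node 1 (.one ⟨14872, 1, 2⟩) (.one ⟨9441, 0, 1⟩)) (.node 1 (.one ⟨3193, 1, 2⟩) (.one ⟨5535, 1, 2⟩))) (.node 2 (.node 1 (.one ⟨9601, 0, 1⟩) (.one ⟨16586, 1, 2⟩)) (.node 1 (.one ⟨9332, 0, 1⟩) (.one ⟨6486, 0, 3⟩)))))) (.node 16 (.node 8 (.node 4 (.node 2 (.node 1 (.one ⟨6106, 0, 3⟩) (.one ⟨13115, 0, 1⟩)) (.node 1 (.one ⟨12854, 0, 1⟩) (.one ⟨11850, 0, 3⟩))) (.node 2 (.node 1 (.one ⟨12212, 0, 3⟩) (.one ⟨6778, 0, 1⟩)) (.node 1 (.one ⟨3922, 1, 0⟩) (.one ⟨2625, 0, 2⟩)))) (.node 4 (.node 2 (.node 1 (.one ⟨7789, 0, 1⟩) (.one ⟨6946, 1, 2⟩)) (.node 1 (.one ⟨13093, 0, 2⟩) (.one ⟨16351, 1, 1⟩))) (.node 2 (.node 1 (.one ⟨9554, 0, 2⟩) (.one ⟨13106, 1,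 2⟩)) (.node 1 (.one ⟨10379, 1, 1⟩) (.one ⟨3907, 1, 1⟩))))) (.node 8 (.node 4 (.node 2 (.node 1 (.one ⟨8506, 0, 3⟩) (.one ⟨2500, 0, 0⟩)) (.node 1 (.one ⟨1611, 0, 3⟩) (.one ⟨5618, 0, 3⟩))) (.node 2 (.node 1 (.one ⟨11229, 1, 2⟩) (.one ⟨3718, 1, 0⟩)) (.node 1 (.one ⟨6824, 1, 2⟩) (.one ⟨9925, 1, 2⟩)))) (.node 4 (.node 2 (.node 1 (.one ⟨178, 0, 2⟩) (.one ⟨4229, 0, 1⟩)) (.node 1 (.one ⟨1457, 1, 0⟩) (.one ⟨2669, 1, 0⟩))) (.node 2 (.node 1 (.one ⟨14995, 0, 2⟩) (.one ⟨15416, 1, 1⟩)) (.node 1 (.one ⟨13035, 0, 1⟩) (.one ⟨7633, 1, 1⟩)))))))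
def par5_11_1 : Arr Par :=
  (.node 32 (.node 16 (.node 8 (.node 4 (.node 2 (.node 1 (.one ⟨3354, 1, 2⟩) (.one ⟨620, 1, 0⟩)) (.node 1 (.one ⟨14290, 1, 2⟩) (.one ⟨499, 1, 0⟩))) (.node 2 (.node 1 (.one ⟨752, 0, 1⟩) (.one ⟨14846, 1, 1⟩)) (.node 1 (.one ⟨12002, 1, 1⟩) (.one ⟨2452, 1, 1⟩)))) (.node 4 (.node 2 (.node 1 (.one ⟨12410, 0, 2⟩) (.one ⟨8728, 0, 2⟩)) (.node 1 (.one ⟨14087, 0, 1⟩) (.one ⟨3403, 1, 0⟩))) (.node 2 (.node 1 (.one ⟨10439, 1, 1⟩) (.one ⟨16512, 0, 3⟩)) (.node 1 (.one ⟨5839, 0, 3⟩) (.one ⟨13737, 0, 3⟩))))) (.node 8 (.node 4 (.node 2 (.node 1 (.one ⟨10203, 1, 2⟩) (.one ⟨15182, 0, 1⟩)) (.node 1 (.one ⟨14334, 0, 2⟩) (.one ⟨14461, 0, 3⟩))) (.node 2 (.node 1 (.one ⟨4458, 1, 2⟩) (.one ⟨10482, 1, 2⟩))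 (.node 1 (.one ⟨2865, 1, 0⟩) (.one ⟨13423, 0, 1⟩)))) (.node 4 (.node 2 (.node 1 (.one ⟨6844, 0, 2⟩) (.one ⟨15221, 0, 1⟩)) (.node 1 (.one ⟨4668, 0, 2⟩) (.one ⟨15227, 0, 1⟩))) (.node 2 (.node 1 (.one ⟨4680, 0, 2⟩) (.one ⟨6748, 1, 1⟩)) (.node 1 (.one ⟨6861, 0, 2⟩) (.one ⟨1151, 1, 0⟩)))))) (.node 16 (.node 8 (.node 4 (.node 2 (.node 1 (.one ⟨13712, 1, 2⟩) (.one ⟨4292, 1, 0⟩)) (.node 1 (.one ⟨7093, 0, 3⟩) (.one ⟨5176, 1, 0⟩))) (.node 2 (.node 1 (.one ⟨415, 0, 1⟩) (.one ⟨5060, 1, 0⟩)) (.node 1 (.one ⟨4501, 0, 0⟩) (.one ⟨5235, 1, 0⟩)))) (.node 4 (.node 2 (.node 1 (.one ⟨2341, 1, 0⟩) (.one ⟨16723, 1, 2⟩)) (.node 1 (.one ⟨6437, 0, 3⟩) (.one ⟨14183, 1, 2⟩))) (.node 2 (.node 1 (.one ⟨3282, 1, 0⟩) (.one ⟨1304, 1, 0⟩))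 (.node 1 (.one ⟨1233, 1, 0⟩) (.one ⟨15693, 0, 1⟩))))) (.node 8 (.node 4 (.node 2 (.node 1 (.one ⟨6877, 1, 2⟩) (.one ⟨9550, 0, 3⟩)) (.node 1 (.one ⟨9463, 0, 2⟩) (.one ⟨1221, 0, 2⟩))) (.node 2 (.node 1 (.one ⟨79, 0, 1⟩) (.one ⟨7649, 0, 2⟩)) (.node 1 (.one ⟨10076, 1, 2⟩) (.one ⟨12509, 0, 3⟩)))) (.node 4 (.node 2 (.node 1 (.one ⟨7744, 0, 1⟩) (.one ⟨14554, 0, 3⟩)) (.node 1 (.one ⟨1150, 0, 2⟩) (.one ⟨2633, 1, 0⟩))) (.node 2 (.node 1 (.one ⟨3638, 1, 2⟩) (.one ⟨16872, 1, 1⟩)) (.node 1 (.one ⟨3329, 0, 3⟩) (.one ⟨16302, 0, 3⟩)))))))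
def par5_11_2 : Arr Par :=
  (.node 32 (.node 16 (.node 8 (.node 4 (.node 2 (.node 1 (.one ⟨4563, 1, 0⟩) (.one ⟨13740, 1, 1⟩)) (.node 1 (.one ⟨2774, 1, 2⟩) (.one ⟨2650, 1, 0⟩))) (.node 2 (.node 1 (.one ⟨10674, 0, 3⟩) (.one ⟨7880, 0, 3⟩)) (.node 1 (.one ⟨7370, 0, 3⟩) (.one ⟨7784, 1, 1⟩)))) (.node 4 (.node 2 (.node 1 (.one ⟨10525, 0, 1⟩) (.one ⟨2534, 0, 2⟩)) (.node 1 (.one ⟨11593, 0, 3⟩) (.one ⟨3686, 1, 2⟩))) (.node 2 (.node 1 (.one ⟨12536, 0, 2⟩) (.one ⟨3919, 0, 3⟩)) (.node 1 (.one ⟨10252, 0, 3⟩) (.one ⟨9544, 0, 1⟩))))) (.node 8 (.node 4 (.node 2 (.node 1 (.one ⟨100, 1, 1⟩) (.one ⟨6595, 1, 2⟩)) (.node 1 (.one ⟨7754, 1, 1⟩) (.one ⟨14144, 0, 3⟩))) (.node 2 (.node 1 (.one ⟨15912, 0, 3⟩) (.one ⟨3670, 0, 1⟩)) (.node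 1 (.one ⟨6343, 1, 2⟩) (.one ⟨2243, 1, 1⟩)))) (.node 4 (.node 2 (.node 1 (.one ⟨13055, 0, 3⟩) (.one ⟨16147, 0, 3⟩)) (.node 1 (.one ⟨2341, 1, 2⟩) (.one ⟨2130, 1, 2⟩))) (.node 2 (.node 1 (.one ⟨7338, 1, 2⟩) (.one ⟨7143, 1, 2⟩)) (.node 1 (.one ⟨16679, 0, 3⟩) (.one ⟨13455, 0, 2⟩)))))) (.node 16 (.node 8 (.node 4 (.node 2 (.node 1 (.one ⟨3259, 1, 2⟩) (.one ⟨3257, 1, 2⟩)) (.node 1 (.one ⟨3255, 1, 1⟩) (.one ⟨62, 1, 1⟩))) (.node 2 (.node 1 (.one ⟨8502, 0, 2⟩) (.one ⟨7372, 0, 3⟩)) (.node 1 (.one ⟨11520, 0, 1⟩) (.one ⟨7189, 1, 2⟩)))) (.node 4 (.node 2 (.node 1 (.one ⟨10374, 1, 2⟩) (.one ⟨4953, 1, 1⟩)) (.node 1 (.one ⟨15943, 1, 1⟩) (.one ⟨15218, 0, 3⟩))) (.node 2 (.node 1 (.one ⟨14366, 0, 1⟩) (.one ⟨1310, 1, 0⟩)) (.node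 1 (.one ⟨2005, 1, 1⟩) (.one ⟨16519, 0, 1⟩))))) (.node 8 (.node 4 (.node 2 (.node 1 (.one ⟨1328, 1, 1⟩) (.one ⟨2621, 1, 0⟩)) (.node 1 (.one ⟨14271, 1, 1⟩) (.one ⟨8692, 1, 1⟩))) (.node 2 (.node 1 (.one ⟨12454, 1, 2⟩) (.one ⟨13598, 1, 1⟩)) (.node 1 (.one ⟨2644, 1, 0⟩) (.one ⟨2798, 0, 3⟩)))) (.node 4 (.node 2 (.node 1 (.one ⟨4335, 0, 1⟩) (.one ⟨5522, 0, 1⟩)) (.node 1 (.one ⟨1539, 0, 1⟩) (.one ⟨1839, 0, 1⟩))) (.node 2 (.node 1 (.one ⟨1300, 1, 0⟩) (.one ⟨11492, 1, 2⟩)) (.node 1 (.one ⟨1299, 1, 1⟩) (.one ⟨2344, 0, 0⟩)))))))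
def par5_11_3 : Arr Par :=
  (.node 32 (.node 16 (.node 8 (.node 4 (.node 2 (.node 1 (.one ⟨11481, 1, 2⟩) (.one ⟨11302, 1, 1⟩)) (.node 1 (.one ⟨2212, 1, 1⟩) (.one ⟨10971, 1, 2⟩))) (.node 2 (.node 1 (.one ⟨8814, 0, 3⟩) (.one ⟨6198, 0, 3⟩)) (.node 1 (.one ⟨1818, 0, 0⟩) (.one ⟨1546, 1, 0⟩)))) (.node 4 (.node 2 (.node 1 (.one ⟨8864, 0, 3⟩) (.one ⟨780, 1, 0⟩)) (.node 1 (.one ⟨15410, 1, 2⟩) (.one ⟨15211, 1, 1⟩))) (.node 2 (.node 1 (.one ⟨2677, 0, 3⟩) (.one ⟨754, 1, 0⟩)) (.node 1 (.one ⟨9211, 0, 1⟩) (.one ⟨5930, 0, 2⟩))))) (.node 8 (.node 4 (.node 2 (.node 1 (.one ⟨16020, 1, 2⟩) (.one ⟨8571, 0, 2⟩)) (.node 1 (.one ⟨14892, 0, 1⟩) (.one ⟨15468, 1, 2⟩))) (.node 2 (.node 1 (.one ⟨7112, 1, 1⟩) (.one ⟨15074, 0, 1⟩)) (.node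 1 (.one ⟨8410, 0, 3⟩) (.one ⟨5019, 1, 2⟩)))) (.node 4 (.node 2 (.node 1 (.one ⟨9548, 0, 3⟩) (.one ⟨9996, 0, 1⟩)) (.node 1 (.one ⟨2125, 0, 3⟩) (.one ⟨15801, 0, 1⟩))) (.node 2 (.node 1 (.one ⟨7618, 0, 3⟩) (.one ⟨3204, 1, 2⟩)) (.node 1 (.one ⟨16153, 0, 3⟩) (.one ⟨3362, 1, 2⟩)))))) (.node 16 (.node 8 (.node 4 (.node 2 (.node 1 (.one ⟨14456, 0, 1⟩) (.one ⟨1300, 1, 1⟩)) (.node 1 (.one ⟨12836, 0, 3⟩) (.one ⟨7579, 1, 1⟩))) (.node 2 (.node 1 (.one ⟨12220, 0, 1⟩) (.one ⟨6178, 1, 1⟩)) (.node 1 (.one ⟨15055, 0, 2⟩) (.one ⟨9546, 0, 1⟩)))) (.node 4 (.node 2 (.node 1 (.one ⟨1332, 1, 1⟩) (.one ⟨7896, 1, 2⟩)) (.node 1 (.one ⟨4356, 1, 2⟩) (.one ⟨16792, 1, 2⟩))) (.node 2 (.node 1 (.one ⟨595, 0, 2⟩) (.one ⟨15444, 1, 2⟩)) (.node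 1 (.one ⟨10830, 1, 2⟩) (.one ⟨14630, 1, 2⟩))))) (.node 8 (.node 4 (.node 2 (.node 1 (.one ⟨2101, 0, 0⟩) (.one ⟨11395, 1, 1⟩)) (.node 1 (.one ⟨8438, 0, 3⟩) (.one ⟨3488, 1, 1⟩))) (.node 2 (.node 1 (.one ⟨1381, 1, 0⟩) (.one ⟨14942, 0, 2⟩)) (.node 1 (.one ⟨187, 0, 2⟩) (.one ⟨9998, 0, 2⟩)))) (.node 4 (.node 2 (.node 1 (.one ⟨12993, 0, 2⟩) (.one ⟨15677, 0, 2⟩)) (.node 1 (.one ⟨14703, 0, 2⟩) (.one ⟨2705, 1, 0⟩))) (.node 2 (.node 1 (.one ⟨365, 1, 0⟩) (.one ⟨5157, 1, 0⟩)) (.node 1 (.one ⟨1323, 1, 0⟩) (.one ⟨15056, 0, 2⟩)))))))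
def par5_11_4 : Arr Par :=
  (.node 32 (.node 16 (.node 8 (.node 4 (.node 2 (.node 1 (.one ⟨5415, 1, 0⟩) (.one ⟨15431, 0, 2⟩)) (.node 1 (.one ⟨14326, 1, 2⟩) (.one ⟨2849, 1, 0⟩))) (.node 2 (.node 1 (.one ⟨5404, 0, 2⟩) (.one ⟨876, 1, 0⟩)) (.node 1 (.one ⟨2369, 1, 2⟩) (.one ⟨4632, 1, 0⟩)))) (.node 4 (.node 2 (.node 1 (.one ⟨2599, 1, 0⟩) (.one ⟨7434, 1, 1⟩)) (.node 1 (.one ⟨8507, 0, 2⟩) (.one ⟨8843, 0, 1⟩))) (.node 2 (.node 1 (.one ⟨3486, 0, 3⟩) (.one ⟨1222, 1, 0⟩)) (.node 1 (.one ⟨10618, 1, 2⟩) (.one ⟨1557, 1, 0⟩))))) (.node 8 (.node 4 (.node 2 (.node 1 (.one ⟨12677, 0, 2⟩) (.one ⟨15318, 1, 1⟩)) (.node 1 (.one ⟨4890, 1, 0⟩) (.one ⟨2686, 1, 2⟩))) (.node 2 (.node 1 (.one ⟨16797, 0, 1⟩) (.one ⟨16562, 0, 1⟩)) (.node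 1 (.one ⟨14871, 0, 1⟩) (.one ⟨3464, 1, 1⟩)))) (.node 4 (.node 2 (.node 1 (.one ⟨1146, 1, 0⟩) (.one ⟨11363, 1, 1⟩)) (.node 1 (.one ⟨2931, 1, 0⟩) (.one ⟨11865, 0, 2⟩))) (.node 2 (.node 1 (.one ⟨1161, 1, 0⟩) (.one ⟨6142, 1, 1⟩)) (.node 1 (.one ⟨6822, 0, 1⟩) (.one ⟨5053, 1, 0⟩)))))) (.node 16 (.node 8 (.node 4 (.node 2 (.node 1 (.one ⟨10303, 0, 2⟩) (.one ⟨7457, 1, 2⟩)) (.node 1 (.one ⟨3334, 1, 0⟩) (.one ⟨7000, 1, 2⟩))) (.node 2 (.node 1 (.one ⟨15058, 1, 1⟩) (.one ⟨6511, 0, 3⟩)) (.node 1 (.one ⟨2537, 1, 2⟩) (.one ⟨9349, 1, 2⟩)))) (.node 4 (.node 2 (.node 1 (.one ⟨7103, 1, 2⟩) (.one ⟨1416, 1, 0⟩)) (.node 1 (.one ⟨14213, 1, 2⟩) (.one ⟨11031, 1, 2⟩))) (.node 2 (.node 1 (.one ⟨6572, 1, 2⟩) (.one ⟨2470, 1, 2⟩)) (.node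 1 (.one ⟨14851, 1, 1⟩) (.one ⟨11957, 0, 1⟩))))) (.node 8 (.node 4 (.node 2 (.node 1 (.one ⟨11958, 0, 3⟩) (.one ⟨16139, 0, 3⟩)) (.node 1 (.one ⟨3667, 1, 0⟩) (.one ⟨16137, 0, 3⟩))) (.node 2 (.node 1 (.one ⟨8008, 1, 1⟩) (.one ⟨4320, 0, 0⟩)) (.node 1 (.one ⟨11952, 0, 2⟩) (.one ⟨16687, 1, 1⟩)))) (.node 4 (.node 2 (.node 1 (.one ⟨13582, 0, 1⟩) (.one ⟨7766, 0, 3⟩)) (.node 1 (.one ⟨4062, 1, 1⟩) (.one ⟨15613, 0, 2⟩))) (.node 2 (.node 1 (.one ⟨11821, 0, 2⟩) (.one ⟨2327, 1, 1⟩)) (.node 1 (.one ⟨997, 0, 0⟩) (.one ⟨16251, 1, 1⟩)))))))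
def par5_11_5 : Arr Par :=
  (.node 32 (.node 16 (.node 8 (.node 4 (.node 2 (.node 1 (.one ⟨583, 0, 3⟩) (.one ⟨10222, 1, 2⟩)) (.node 1 (.one ⟨3495, 1, 0⟩) (.one ⟨9827, 0, 3⟩))) (.node 2 (.node 1 (.one ⟨2105, 0, 2⟩) (.one ⟨15754, 1, 1⟩)) (.node 1 (.one ⟨10529, 0, 1⟩) (.one ⟨7355, 0, 2⟩)))) (.node 4 (.node 2 (.node 1 (.one ⟨12755, 1, 2⟩) (.one ⟨16710, 1, 2⟩)) (.node 1 (.one ⟨941, 1, 0⟩) (.one ⟨13140, 0, 3⟩))) (.node 2 (.node 1 (.one ⟨6153, 1, 2⟩) (.one ⟨1098, 1, 2⟩)) (.node 1 (.one ⟨12668, 0, 1⟩) (.one ⟨5083, 1, 2⟩))))) (.node 8 (.node 4 (.node 2 (.node 1 (.one ⟨7604, 1, 2⟩) (.one ⟨7878, 0, 2⟩)) (.node 1 (.one ⟨12720, 0, 2⟩) (.one ⟨502, 0, 2⟩))) (.node 2 (.node 1 (.one ⟨14915, 0, 2⟩) (.one ⟨4229, 1, 1⟩)) (.node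 1 (.one ⟨8517, 1, 1⟩) (.one ⟨2421, 1, 1⟩)))) (.node 4 (.node 2 (.node 1 (.one ⟨5911, 0, 2⟩) (.one ⟨6130, 0, 2⟩)) (.node 1 (.one ⟨1894, 0, 2⟩) (.one ⟨11862, 0, 1⟩))) (.node 2 (.node 1 (.one ⟨15991, 0, 2⟩) (.one ⟨15743, 0, 2⟩)) (.node 1 (.one ⟨12520, 1, 1⟩) (.one ⟨11392, 1, 1⟩)))))) (.node 16 (.node 8 (.node 4 (.node 2 (.node 1 (.one ⟨14988, 0, 2⟩) (.one ⟨16746, 0, 1⟩)) (.node 1 (.one ⟨16035, 0, 2⟩) (.one ⟨2809, 0, 3⟩))) (.node 2 (.node 1 (.one ⟨1020, 0, 2⟩) (.one ⟨3492, 1, 1⟩)) (.node 1 (.one ⟨14122, 1, 1⟩) (.one ⟨16331, 1, 2⟩)))) (.node 4 (.node 2 (.node 1 (.one ⟨968, 0, 3⟩) (.one ⟨14565, 0, 3⟩)) (.node 1 (.one ⟨5727, 1, 2⟩) (.one ⟨8176, 1, 2⟩))) (.node 2 (.node 1 (.one ⟨11676, 1, 2⟩) (.one ⟨2569, 1, 2⟩))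 (.node 1 (.one ⟨14004, 1, 1⟩) (.one ⟨4478, 0, 0⟩))))) (.node 8 (.node 4 (.node 2 (.node 1 (.one ⟨13327, 0, 2⟩) (.one ⟨3749, 1, 2⟩)) (.node 1 (.one ⟨3281, 0, 1⟩) (.one ⟨8710, 0, 1⟩))) (.node 2 (.node 1 (.one ⟨16815, 0, 2⟩) (.one ⟨1523, 1, 0⟩)) (.node 1 (.one ⟨731, 1, 0⟩) (.one ⟨3457, 1, 1⟩)))) (.node 4 (.node 2 (.node 1 (.one ⟨2090, 1, 1⟩) (.one ⟨11611, 1, 2⟩)) (.node 1 (.one ⟨13252, 1, 1⟩) (.one ⟨7684, 1, 2⟩))) (.node 2 (.node 1 (.one ⟨9894, 0, 1⟩) (.one ⟨15569, 1, 2⟩)) (.node 1 (.one ⟨2989, 1, 0⟩) (.one ⟨4598, 0, 1⟩)))))))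
def par5_11_6 : Arr Par :=
  (.node 32 (.node 16 (.node 8 (.node 4 (.node 2 (.node 1 (.one ⟨5902, 1, 1⟩) (.one ⟨3661, 1, 2⟩)) (.node 1 (.one ⟨5972, 1, 2⟩) (.one ⟨7676, 1, 2⟩))) (.node 2 (.node 1 (.one ⟨14191, 0, 1⟩) (.one ⟨369, 0, 3⟩)) (.node 1 (.one ⟨2094, 1, 1⟩) (.one ⟨1488, 1, 0⟩)))) (.node 4 (.node 2 (.node 1 (.one ⟨9439, 0, 2⟩) (.one ⟨13145, 0, 3⟩)) (.node 1 (.one ⟨13334, 0, 1⟩) (.one ⟨5477, 0, 1⟩))) (.node 2 (.node 1 (.one ⟨5375, 0, 2⟩) (.one ⟨1943, 0, 1⟩)) (.node 1 (.one ⟨14008, 1, 1⟩) (.one ⟨1755, 1, 0⟩))))) (.node 8 (.node 4 (.node 2 (.node 1 (.one ⟨9341, 0, 2⟩) (.one ⟨12471, 1, 1⟩)) (.node 1 (.one ⟨11129, 0, 2⟩) (.one ⟨3624, 0, 2⟩))) (.node 2 (.node 1 (.one ⟨2279, 1, 1⟩) (.one ⟨13951, 1, 1⟩)) (.node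 1 (.one ⟨651, 0, 2⟩) (.one ⟨6716, 0, 1⟩)))) (.node 4 (.node 2 (.node 1 (.one ⟨4539, 0, 1⟩) (.one ⟨13328, 0, 3⟩)) (.node 1 (.one ⟨8824, 1, 2⟩) (.one ⟨13196, 0, 1⟩))) (.node 2 (.node 1 (.one ⟨15502, 0, 1⟩) (.one ⟨679, 1, 2⟩)) (.node 1 (.one ⟨14097, 1, 1⟩) (.one ⟨13333, 0, 1⟩)))))) (.node 16 (.node 8 (.node 4 (.node 2 (.node 1 (.one ⟨600, 1, 0⟩) (.one ⟨8068, 1, 1⟩)) (.node 1 (.one ⟨11752, 1, 2⟩) (.one ⟨3443, 1, 1⟩))) (.node 2 (.node 1 (.one ⟨11891, 0, 3⟩) (.one ⟨1882, 0, 2⟩)) (.node 1 (.one ⟨2621, 0, 2⟩) (.one ⟨15823, 0, 1⟩)))) (.node 4 (.node 2 (.node 1 (.one ⟨10199, 0, 2⟩) (.one ⟨3615, 1, 2⟩)) (.node 1 (.one ⟨16078, 0, 2⟩) (.one ⟨442, 0, 1⟩))) (.node 2 (.node 1 (.one ⟨7032, 1, 2⟩) (.one ⟨7672, 0, 2⟩)) (.node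 1 (.one ⟨1009, 1, 0⟩) (.one ⟨10443, 1, 1⟩))))) (.node 8 (.node 4 (.node 2 (.node 1 (.one ⟨3681, 0, 0⟩) (.one ⟨16352, 0, 1⟩)) (.node 1 (.one ⟨3697, 1, 0⟩) (.one ⟨3857, 1, 0⟩))) (.node 2 (.node 1 (.one ⟨13641, 0, 3⟩) (.one ⟨3041, 1, 0⟩)) (.node 1 (.one ⟨1459, 0, 1⟩) (.one ⟨5376, 0, 2⟩)))) (.node 4 (.node 2 (.node 1 (.one ⟨15727, 1, 1⟩) (.one ⟨9669, 1, 2⟩)) (.node 1 (.one ⟨7266, 1, 2⟩) (.one ⟨7612, 1, 2⟩))) (.node 2 (.node 1 (.one ⟨13127, 1, 2⟩) (.one ⟨4856, 0, 1⟩)) (.node 1 (.one ⟨9406, 0, 2⟩) (.one ⟨7131, 0, 3⟩)))))))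
def par5_11_7 : Arr Par :=
  (.node 32 (.node 16 (.node 8 (.node 4 (.node 2 (.node 1 (.one ⟨735, 1, 2⟩) (.one ⟨7617, 1, 2⟩)) (.node 1 (.one ⟨7621, 1, 1⟩) (.one ⟨1844, 1, 0⟩))) (.node 2 (.node 1 (.one ⟨8561, 0, 2⟩) (.one ⟨17187, 0, 3⟩)) (.node 1 (.one ⟨11796, 0, 3⟩) (.one ⟨3191, 1, 0⟩)))) (.node 4 (.node 2 (.node 1 (.one ⟨16869, 1, 1⟩) (.one ⟨12368, 1, 1⟩)) (.node 1 (.one ⟨13987, 1, 1⟩) (.one ⟨11408, 0, 2⟩))) (.node 2 (.node 1 (.one ⟨8053, 0, 3⟩) (.one ⟨16121, 1, 1⟩)) (.node 1 (.one ⟨17184, 0, 2⟩) (.one ⟨10317, 0, 2⟩))))) (.node 8 (.node 4 (.node 2 (.node 1 (.one ⟨3515, 1, 1⟩) (.one ⟨1418, 1, 0⟩)) (.node 1 (.one ⟨14654, 0, 3⟩) (.one ⟨3351, 1, 2⟩))) (.node 2 (.node 1 (.one ⟨5768, 1, 2⟩) (.one ⟨4988, 0, 3⟩))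 (.node 1 (.one ⟨7127, 0, 3⟩) (.one ⟨7911, 1, 2⟩)))) (.node 4 (.node 2 (.node 1 (.one ⟨11797, 0, 2⟩) (.one ⟨1412, 0, 2⟩)) (.node 1 (.one ⟨1277, 0, 2⟩) (.one ⟨1467, 0, 2⟩))) (.node 2 (.node 1 (.one ⟨576, 0, 1⟩) (.one ⟨6271, 1, 1⟩)) (.node 1 (.one ⟨11815, 0, 1⟩) (.one ⟨1506, 1, 2⟩)))))) (.node 16 (.node 8 (.node 4 (.node 2 (.node 1 (.one ⟨3611, 0, 2⟩) (.one ⟨7783, 0, 2⟩)) (.node 1 (.one ⟨11193, 0, 1⟩) (.one ⟨3670, 1, 1⟩))) (.node 2 (.node 1 (.one ⟨16464, 1, 1⟩) (.one ⟨5615, 1, 1⟩)) (.node 1 (.one ⟨17108, 0, 2⟩) (.one ⟨434, 0, 0⟩)))) (.node 4 (.node 2 (.node 1 (.one ⟨4127, 0, 1⟩) (.one ⟨1924, 0, 3⟩)) (.node 1 (.one ⟨7782, 0, 2⟩) (.one ⟨7092, 1, 1⟩))) (.node 2 (.node 1 (.one ⟨6414, 0, 1⟩) (.one ⟨643, 1, 0⟩)) (.node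 1 (.one ⟨1768, 0, 3⟩) (.one ⟨13979, 0, 3⟩))))) (.node 8 (.node 4 (.node 2 (.node 1 (.one ⟨10108, 1, 2⟩) (.one ⟨17131, 0, 3⟩)) (.node 1 (.one ⟨5791, 0, 3⟩) (.one ⟨16108, 1, 2⟩))) (.node 2 (.node 1 (.one ⟨13499, 0, 3⟩) (.one ⟨4287, 1, 1⟩)) (.node 1 (.one ⟨16141, 1, 1⟩) (.one ⟨14350, 0, 2⟩)))) (.node 4 (.node 2 (.node 1 (.one ⟨10463, 0, 1⟩) (.one ⟨11741, 0, 2⟩)) (.node 1 (.one ⟨16063, 0, 2⟩) (.one ⟨14810, 1, 2⟩))) (.node 2 (.node 1 (.one ⟨5802, 0, 3⟩) (.one ⟨915, 1, 0⟩)) (.node 1 (.one ⟨4449, 0, 1⟩) (.one ⟨11735, 0, 3⟩)))))))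
def par5_11_8 : Arr Par :=
  (.node 32 (.node 16 (.node 8 (.node 4 (.node 2 (.node 1 (.one ⟨13978, 0, 3⟩) (.one ⟨16872, 0, 1⟩)) (.node 1 (.one ⟨11505, 0, 2⟩) (.one ⟨15784, 0, 3⟩))) (.node 2 (.node 1 (.one ⟨10106, 0, 3⟩) (.one ⟨13383, 0, 2⟩)) (.node 1 (.one ⟨15425, 0, 2⟩) (.one ⟨15693, 1, 1⟩)))) (.node 4 (.node 2 (.node 1 (.one ⟨10727, 0, 2⟩) (.one ⟨1052, 1, 0⟩)) (.node 1 (.one ⟨3626, 0, 2⟩) (.one ⟨10105, 0, 3⟩))) (.node 2 (.node 1 (.one ⟨9743, 1, 1⟩) (.one ⟨6352, 1, 1⟩)) (.node 1 (.one ⟨12399, 1, 1⟩) (.one ⟨10257, 1, 2⟩))))) (.node 8 (.node 4 (.node 2 (.node 1 (.one ⟨927, 0, 1⟩) (.one ⟨1479, 0, 1⟩)) (.node 1 (.one ⟨3817, 0, 3⟩) (.one ⟨2553, 1, 2⟩))) (.node 2 (.node 1 (.one ⟨8737, 1, 2⟩) (.one ⟨11582, 1, 1⟩))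 (.node 1 (.one ⟨15203, 1, 1⟩) (.one ⟨1574, 1, 0⟩)))) (.node 4 (.node 2 (.node 1 (.one ⟨2953, 0, 2⟩) (.one ⟨1012, 0, 3⟩)) (.node 1 (.one ⟨15709, 1, 2⟩) (.one ⟨1466, 0, 1⟩))) (.node 2 (.node 1 (.one ⟨15789, 0, 1⟩) (.one ⟨16626, 0, 1⟩)) (.node 1 (.one ⟨5196, 1, 0⟩) (.one ⟨25, 0, 1⟩)))))) (.node 16 (.node 8 (.node 4 (.node 2 (.node 1 (.one ⟨304, 0, 1⟩) (.one ⟨293, 0, 1⟩)) (.node 1 (.one ⟨99, 0, 1⟩) (.one ⟨352, 0, 1⟩))) (.node 2 (.node 1 (.one ⟨535, 0, 1⟩) (.one ⟨564, 0, 1⟩)) (.node 1 (.one ⟨320, 0, 1⟩) (.one ⟨2701, 1, 0⟩)))) (.node 4 (.node 2 (.node 1 (.one ⟨8663, 0, 3⟩) (.one ⟨2031, 0, 1⟩)) (.node 1 (.one ⟨14990, 0, 3⟩) (.one ⟨1622, 1, 0⟩))) (.node 2 (.node 1 (.one ⟨2257, 1, 0⟩) (.one ⟨7190, 1, 1⟩)) (.node 1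 (.one ⟨11452, 1, 1⟩) (.one ⟨8597, 0, 3⟩))))) (.node 8 (.node 4 (.node 2 (.node 1 (.one ⟨15839, 0, 3⟩) (.one ⟨6604, 1, 2⟩)) (.node 1 (.one ⟨2940, 0, 1⟩) (.one ⟨4546, 1, 1⟩))) (.node 2 (.node 1 (.one ⟨4612, 0, 1⟩) (.one ⟨9531, 1, 1⟩)) (.node 1 (.one ⟨14253, 0, 1⟩) (.one ⟨16611, 1, 2⟩)))) (.node 4 (.node 2 (.node 1 (.one ⟨12894, 0, 2⟩) (.one ⟨7380, 1, 1⟩)) (.node 1 (.one ⟨15655, 0, 1⟩) (.one ⟨1435, 1, 1⟩))) (.node 2 (.node 1 (.one ⟨13125, 1, 2⟩) (.one ⟨7434, 0, 1⟩)) (.node 1 (.one ⟨12921, 0, 3⟩) (.one ⟨6973, 0, 3⟩)))))))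
def par5_11_9 : Arr Par :=
  (.node 32 (.node 16 (.node 8 (.node 4 (.node 2 (.node 1 (.one ⟨17173, 0, 3⟩) (.one ⟨290, 1, 1⟩)) (.node 1 (.one ⟨1969, 1, 0⟩) (.one ⟨415, 1, 0⟩))) (.node 2 (.node 1 (.one ⟨4050, 1, 1⟩) (.one ⟨2511, 1, 0⟩)) (.node 1 (.one ⟨3875, 1, 2⟩) (.one ⟨9887, 0, 3⟩)))) (.node 4 (.node 2 (.node 1 (.one ⟨11419, 0, 3⟩) (.one ⟨11884, 1, 2⟩)) (.node 1 (.one ⟨13982, 1, 2⟩) (.one ⟨712, 1, 2⟩))) (.node 2 (.node 1 (.one ⟨7950, 1, 2⟩) (.one ⟨9222, 1, 2⟩)) (.node 1 (.one ⟨15997, 1, 2⟩) (.one ⟨14807, 1, 1⟩))))) (.node 8 (.node 4 (.node 2 (.node 1 (.one ⟨8167, 0, 2⟩) (.one ⟨7768, 1, 2⟩)) (.node 1 (.one ⟨3669, 1, 1⟩) (.one ⟨14015, 0, 2⟩))) (.node 2 (.node 1 (.one ⟨14142, 1, 1⟩) (.one ⟨14304, 0, 2⟩)) (.node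 1 (.one ⟨1244, 1, 0⟩) (.one ⟨14908, 0, 1⟩)))) (.node 4 (.node 2 (.node 1 (.one ⟨2263, 1, 1⟩) (.one ⟨1436, 1, 1⟩)) (.node 1 (.one ⟨16627, 1, 1⟩) (.one ⟨16190, 1, 2⟩))) (.node 2 (.node 1 (.one ⟨3405, 1, 1⟩) (.one ⟨2994, 1, 1⟩)) (.node 1 (.one ⟨15825, 1, 2⟩) (.one ⟨10567, 1, 1⟩)))))) (.node 16 (.node 8 (.node 4 (.node 2 (.node 1 (.one ⟨12311, 0, 1⟩) (.one ⟨3956, 0, 1⟩)) (.node 1 (.one ⟨1713, 0, 2⟩) (.one ⟨3607, 1, 0⟩))) (.node 2 (.node 1 (.one ⟨11842, 1, 1⟩) (.one ⟨10030, 0, 3⟩)) (.node 1 (.one ⟨2570, 1, 1⟩) (.one ⟨1388, 0, 1⟩)))) (.node 4 (.node 2 (.node 1 (.one ⟨173, 1, 2⟩) (.one ⟨9228, 1, 1⟩)) (.node 1 (.one ⟨9561, 0, 1⟩) (.one ⟨3670, 1, 0⟩))) (.node 2 (.node 1 (.one ⟨86, 0, 1⟩) (.one ⟨9283, 0, 1⟩)) (.node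 1 (.one ⟨2455, 0, 3⟩) (.one ⟨16056, 0, 2⟩))))) (.node 8 (.node 4 (.node 2 (.node 1 (.one ⟨11491, 0, 2⟩) (.one ⟨4237, 1, 1⟩)) (.node 1 (.one ⟨9373, 1, 1⟩) (.one ⟨3797, 1, 2⟩))) (.node 2 (.node 1 (.one ⟨10478, 1, 1⟩) (.one ⟨3767, 1, 1⟩)) (.node 1 (.one ⟨6040, 0, 1⟩) (.one ⟨1253, 0, 2⟩)))) (.node 4 (.node 2 (.node 1 (.one ⟨11934, 1, 2⟩) (.one ⟨1015, 1, 2⟩)) (.node 1 (.one ⟨11928, 1, 2⟩) (.one ⟨11931, 1, 2⟩))) (.node 2 (.node 1 (.one ⟨457, 1, 2⟩) (.one ⟨11929, 1, 2⟩)) (.node 1 (.one ⟨2236, 1, 0⟩) (.one ⟨5303, 0, 2⟩)))))))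
def par5_11_10 : Arr Par :=
  (.node 32 (.node 16 (.node 8 (.node 4 (.node 2 (.node 1 (.one ⟨5004, 1, 2⟩) (.one ⟨15160, 0, 1⟩)) (.node 1 (.one ⟨4677, 1, 0⟩) (.one ⟨5412, 0, 1⟩))) (.node 2 (.node 1 (.one ⟨12832, 0, 2⟩) (.one ⟨804, 0, 0⟩)) (.node 1 (.one ⟨6915, 0, 2⟩) (.one ⟨11181, 1, 1⟩)))) (.node 4 (.node 2 (.node 1 (.one ⟨5349, 1, 0⟩) (.one ⟨8998, 1, 2⟩)) (.node 1 (.one ⟨6797, 0, 3⟩) (.one ⟨15871, 1, 2⟩))) (.node 2 (.node 1 (.one ⟨948, 1, 0⟩) (.one ⟨2711, 1, 1⟩)) (.node 1 (.one ⟨11287, 1, 2⟩) (.one ⟨9373, 0, 1⟩))))) (.node 8 (.node 4 (.node 2 (.node 1 (.one ⟨3789, 0, 2⟩) (.one ⟨4858, 1, 0⟩)) (.node 1 (.one ⟨1802, 1, 0⟩) (.one ⟨11916, 0, 1⟩))) (.node 2 (.node 1 (.one ⟨12304, 1, 2⟩) (.one ⟨9374, 1, 1⟩)) (.node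 1 (.one ⟨2399, 0, 1⟩) (.one ⟨4401, 0, 1⟩)))) (.node 4 (.node 2 (.node 1 (.one ⟨13515, 0, 1⟩) (.one ⟨2992, 0, 1⟩)) (.node 1 (.one ⟨2449, 1, 0⟩) (.one ⟨12128, 0, 1⟩))) (.node 2 (.node 1 (.one ⟨5174, 0, 1⟩) (.one ⟨818, 1, 1⟩)) (.node 1 (.one ⟨1775, 0, 1⟩) (.one ⟨9875, 0, 3⟩)))))) (.node 16 (.node 8 (.node 4 (.node 2 (.node 1 (.one ⟨5896, 0, 2⟩) (.one ⟨9476, 0, 1⟩)) (.node 1 (.one ⟨5594, 0, 2⟩) (.one ⟨13701, 1, 2⟩))) (.node 2 (.node 1 (.one ⟨3586, 1, 1⟩) (.one ⟨613, 0, 1⟩)) (.node 1 (.one ⟨2547, 1, 0⟩) (.one ⟨6403, 1, 2⟩)))) (.node 4 (.node 2 (.node 1 (.one ⟨15907, 1, 2⟩) (.one ⟨4169, 1, 0⟩)) (.node 1 (.one ⟨10509, 0, 1⟩) (.one ⟨8538, 1, 2⟩))) (.node 2 (.node 1 (.one ⟨6206, 0, 1⟩) (.one ⟨3303, 1, 0⟩)) (.node 1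 (.one ⟨10705, 0, 1⟩) (.one ⟨11573, 0, 1⟩))))) (.node 8 (.node 4 (.node 2 (.node 1 (.one ⟨15606, 1, 1⟩) (.one ⟨4747, 1, 1⟩)) (.node 1 (.one ⟨10517, 1, 1⟩) (.one ⟨16348, 1, 2⟩))) (.node 2 (.node 1 (.one ⟨7029, 1, 2⟩) (.one ⟨1498, 1, 0⟩)) (.node 1 (.one ⟨1490, 1, 2⟩) (.one ⟨1167, 1, 1⟩)))) (.node 4 (.node 2 (.node 1 (.one ⟨11990, 1, 1⟩) (.one ⟨4171, 1, 2⟩)) (.node 1 (.one ⟨12035, 0, 1⟩) (.one ⟨3956, 1, 1⟩))) (.node 2 (.node 1 (.one ⟨1644, 0, 1⟩) (.one ⟨1920, 1, 1⟩)) (.node 1 (.one ⟨4291, 0, 1⟩) (.one ⟨16842, 0, 2⟩)))))))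
def par5_11_11 : Arr Par :=
  (.node 32 (.node 16 (.node 8 (.node 4 (.node 2 (.node 1 (.one ⟨12036, 0, 3⟩) (.one ⟨11045, 1, 1⟩)) (.node 1 (.one ⟨16307, 0, 3⟩) (.one ⟨2773, 0, 2⟩))) (.node 2 (.node 1 (.one ⟨5922, 0, 3⟩) (.one ⟨6624, 1, 1⟩)) (.node 1 (.one ⟨2050, 0, 1⟩) (.one ⟨1034, 1, 0⟩)))) (.node 4 (.node 2 (.node 1 (.one ⟨7548, 1, 2⟩) (.one ⟨3698, 1, 0⟩)) (.node 1 (.one ⟨3317, 1, 2⟩) (.one ⟨2026, 0, 0⟩))) (.node 2 (.node 1 (.one ⟨2456, 1, 0⟩) (.one ⟨16303, 0, 2⟩)) (.node 1 (.one ⟨239, 1, 0⟩) (.one ⟨1662, 1, 0⟩))))) (.node 8 (.node 4 (.node 2 (.node 1 (.one ⟨3871, 1, 0⟩) (.one ⟨378, 1, 0⟩)) (.node 1 (.one ⟨6781, 0, 2⟩) (.one ⟨860, 1, 0⟩))) (.node 2 (.node 1 (.one ⟨7167, 1, 2⟩) (.one ⟨1170, 1, 1⟩)) (.node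 1 (.one ⟨1927, 1, 0⟩) (.one ⟨12069, 0, 1⟩)))) (.node 4 (.node 2 (.node 1 (.one ⟨15611, 0, 3⟩) (.one ⟨1888, 1, 0⟩)) (.node 1 (.one ⟨2399, 1, 1⟩) (.one ⟨16306, 0, 3⟩))) (.node 2 (.node 1 (.one ⟨11245, 0, 2⟩) (.one ⟨16310, 1, 2⟩)) (.node 1 (.one ⟨1493, 1, 1⟩) (.one ⟨5404, 1, 0⟩)))))) (.node 16 (.node 8 (.node 4 (.node 2 (.node 1 (.one ⟨8174, 0, 3⟩) (.one ⟨2778, 1, 0⟩)) (.node 1 (.one ⟨432, 0, 0⟩) (.one ⟨12776, 1, 2⟩))) (.node 2 (.node 1 (.one ⟨3954, 0, 2⟩) (.one ⟨2701, 0, 1⟩)) (.node 1 (.one ⟨5925, 0, 2⟩) (.one ⟨5956, 1, 1⟩)))) (.node 4 (.node 2 (.node 1 (.one ⟨337, 1, 0⟩) (.one ⟨14012, 0, 2⟩)) (.node 1 (.one ⟨3084, 1, 0⟩) (.one ⟨10130, 0, 3⟩))) (.node 2 (.node 1 (.one ⟨11777, 1, 2⟩) (.one ⟨1044, 0, 1⟩)) (.node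 1 (.one ⟨13960, 0, 3⟩) (.one ⟨10327, 1, 1⟩))))) (.node 8 (.node 4 (.node 2 (.node 1 (.one ⟨13299, 0, 3⟩) (.one ⟨4843, 0, 2⟩)) (.node 1 (.one ⟨9564, 0, 2⟩) (.one ⟨10370, 0, 3⟩))) (.node 2 (.node 1 (.one ⟨4618, 1, 0⟩) (.one ⟨12847, 0, 1⟩)) (.node 1 (.one ⟨28, 0, 3⟩) (.one ⟨15876, 1, 1⟩)))) (.node 4 (.node 2 (.node 1 (.one ⟨10855, 0, 3⟩) (.one ⟨4669, 1, 0⟩)) (.node 1 (.one ⟨8734, 0, 2⟩) (.one ⟨3609, 0, 2⟩))) (.node 2 (.node 1 (.one ⟨2268, 1, 0⟩) (.one ⟨14186, 0, 2⟩)) (.node 1 (.one ⟨1517, 0, 3⟩) (.one ⟨1286, 0, 1⟩)))))))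
def par5_11_12 : Arr Par :=
  (.node 32 (.node 16 (.node 8 (.node 4 (.node 2 (.node 1 (.one ⟨585, 0, 1⟩) (.one ⟨3345, 1, 0⟩)) (.node 1 (.one ⟨3920, 0, 1⟩) (.one ⟨2597, 1, 0⟩))) (.node 2 (.node 1 (.one ⟨634, 1, 2⟩) (.one ⟨9437, 0, 1⟩)) (.node 1 (.one ⟨9566, 0, 1⟩) (.one ⟨3997, 1, 2⟩)))) (.node 4 (.node 2 (.node 1 (.one ⟨4643, 1, 0⟩) (.one ⟨3254, 1, 0⟩)) (.node 1 (.one ⟨12643, 1, 2⟩) (.one ⟨7223, 0, 2⟩))) (.node 2 (.node 1 (.one ⟨3484, 0, 2⟩) (.one ⟨5380, 0, 1⟩)) (.node 1 (.one ⟨11946, 1, 2⟩) (.one ⟨13953, 1, 1⟩))))) (.node 8 (.node 4 (.node 2 (.node 1 (.one ⟨9623, 1, 1⟩) (.one ⟨2020, 1, 1⟩)) (.node 1 (.one ⟨7735, 0, 1⟩) (.one ⟨16339, 1, 2⟩))) (.node 2 (.node 1 (.one ⟨16867, 0, 1⟩) (.one ⟨3973, 1, 2⟩)) (.node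 1 (.one ⟨11373, 0, 1⟩) (.one ⟨9685, 0, 3⟩)))) (.node 4 (.node 2 (.node 1 (.one ⟨16372, 1, 2⟩) (.one ⟨3107, 1, 0⟩)) (.node 1 (.one ⟨878, 1, 1⟩) (.one ⟨5835, 0, 3⟩))) (.node 2 (.node 1 (.one ⟨2195, 0, 2⟩) (.one ⟨5063, 0, 3⟩)) (.node 1 (.one ⟨9039, 0, 3⟩) (.one ⟨10033, 1, 1⟩)))))) (.node 16 (.node 8 (.node 4 (.node 2 (.node 1 (.one ⟨11985, 1, 1⟩) (.one ⟨16497, 0, 2⟩)) (.node 1 (.one ⟨9626, 1, 1⟩) (.one ⟨16448, 0, 1⟩))) (.node 2 (.node 1 (.one ⟨1642, 0, 1⟩) (.one ⟨1648, 1, 0⟩)) (.node 1 (.one ⟨3952, 1, 1⟩) (.one ⟨14617, 0, 1⟩)))) (.node 4 (.node 2 (.node 1 (.one ⟨6493, 0, 3⟩) (.one ⟨7199, 0, 2⟩)) (.node 1 (.one ⟨15395, 0, 3⟩) (.one ⟨349, 1, 1⟩))) (.node 2 (.node 1 (.one ⟨794, 1, 1⟩) (.one ⟨13144, 0, 2⟩)) (.node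 1 (.one ⟨5148, 0, 3⟩) (.one ⟨14423, 1, 1⟩))))) (.node 8 (.node 4 (.node 2 (.node 1 (.one ⟨5663, 0, 2⟩) (.one ⟨2518, 0, 1⟩)) (.node 1 (.one ⟨6479, 0, 2⟩) (.one ⟨8713, 1, 1⟩))) (.node 2 (.node 1 (.one ⟨6231, 0, 2⟩) (.one ⟨1892, 0, 2⟩)) (.node 1 (.one ⟨5946, 0, 1⟩) (.one ⟨13903, 1, 2⟩)))) (.node 4 (.node 2 (.node 1 (.one ⟨9116, 1, 2⟩) (.one ⟨9994, 1, 2⟩)) (.node 1 (.one ⟨7206, 0, 3⟩) (.one ⟨4722, 0, 3⟩))) (.node 2 (.node 1 (.one ⟨16493, 0, 2⟩) (.one ⟨3680, 1, 0⟩)) (.node 1 (.one ⟨11215, 0, 1⟩) (.one ⟨1066, 0, 0⟩)))))))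
def par5_11_13 : Arr Par :=
  (.node 32 (.node 16 (.node 8 (.node 4 (.node 2 (.node 1 (.one ⟨1171, 1, 0⟩) (.one ⟨12889, 0, 3⟩)) (.node 1 (.one ⟨114, 1, 0⟩) (.one ⟨4257, 0, 3⟩))) (.node 2 (.node 1 (.one ⟨3401, 0, 3⟩) (.one ⟨3029, 1, 1⟩)) (.node 1 (.one ⟨12194, 0, 1⟩) (.one ⟨12116, 0, 1⟩)))) (.node 4 (.node 2 (.node 1 (.one ⟨4913, 1, 2⟩) (.one ⟨4981, 1, 2⟩)) (.node 1 (.one ⟨7368, 1, 2⟩) (.one ⟨9374, 0, 1⟩))) (.node 2 (.node 1 (.one ⟨5826, 1, 1⟩) (.one ⟨4111, 0, 1⟩)) (.node 1 (.one ⟨4223, 0, 2⟩) (.one ⟨8249, 0, 1⟩))))) (.node 8 (.node 4 (.node 2 (.node 1 (.one ⟨1069, 0, 3⟩) (.one ⟨3711, 1, 0⟩)) (.node 1 (.one ⟨6836, 1, 2⟩) (.one ⟨13342, 1, 1⟩))) (.node 2 (.node 1 (.one ⟨2794, 1, 0⟩) (.one ⟨16235, 0, 1⟩)) (.node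 1 (.one ⟨2410, 1, 1⟩) (.one ⟨15722, 0, 1⟩)))) (.node 4 (.node 2 (.node 1 (.one ⟨5329, 1, 2⟩) (.one ⟨1802, 1, 1⟩)) (.node 1 (.one ⟨3150, 1, 2⟩) (.one ⟨3949, 1, 2⟩))) (.node 2 (.node 1 (.one ⟨1066, 0, 2⟩) (.one ⟨2575, 1, 2⟩)) (.node 1 (.one ⟨6430, 0, 2⟩) (.one ⟨7564, 0, 2⟩)))))) (.node 16 (.node 8 (.node 4 (.node 2 (.node 1 (.one ⟨2345, 1, 0⟩) (.one ⟨4646, 0, 2⟩)) (.node 1 (.one ⟨2585, 1, 0⟩) (.one ⟨877, 1, 0⟩))) (.node 2 (.node 1 (.one ⟨3484, 0, 0⟩) (.one ⟨10485, 1, 2⟩)) (.node 1 (.one ⟨7792, 0, 2⟩) (.one ⟨12264, 0, 2⟩)))) (.node 4 (.node 2 (.node 1 (.one ⟨10894, 0, 1⟩) (.one ⟨12397, 0, 1⟩)) (.node 1 (.one ⟨10824, 0, 1⟩) (.one ⟨11980, 1, 1⟩))) (.node 2 (.node 1 (.one ⟨9896, 1, 1⟩) (.one ⟨17164, 0, 1⟩)) (.node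 1 (.one ⟨13359, 1, 1⟩) (.one ⟨2126, 0, 1⟩))))) (.node 8 (.node 4 (.node 2 (.node 1 (.one ⟨12512, 1, 1⟩) (.one ⟨1201, 0, 2⟩)) (.node 1 (.one ⟨78, 0, 1⟩) (.one ⟨10168, 0, 1⟩))) (.node 2 (.node 1 (.one ⟨2177, 1, 0⟩) (.one ⟨9310, 0, 2⟩)) (.node 1 (.one ⟨9195, 0, 1⟩) (.one ⟨212, 1, 2⟩)))) (.node 4 (.node 2 (.node 1 (.one ⟨3943, 1, 2⟩) (.one ⟨10706, 1, 2⟩)) (.node 1 (.one ⟨11872, 1, 2⟩) (.one ⟨14747, 0, 3⟩))) (.node 2 (.node 1 (.one ⟨4048, 1, 2⟩) (.one ⟨10560, 1, 2⟩)) (.node 1 (.one ⟨11807, 1, 2⟩) (.one ⟨4643, 0, 1⟩)))))))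
def par5_11_14 : Arr Par :=
  (.node 32 (.node 16 (.node 8 (.node 4 (.node 2 (.node 1 (.one ⟨2280, 1, 2⟩) (.one ⟨5043, 0, 2⟩)) (.node 1 (.one ⟨15295, 0, 2⟩) (.one ⟨13834, 1, 2⟩))) (.node 2 (.node 1 (.one ⟨15463, 0, 1⟩) (.one ⟨3696, 0, 0⟩)) (.node 1 (.one ⟨5083, 1, 0⟩) (.one ⟨414, 1, 1⟩)))) (.node 4 (.node 2 (.node 1 (.one ⟨1032, 1, 2⟩) (.one ⟨3940, 0, 3⟩)) (.node 1 (.one ⟨4503, 0, 3⟩) (.one ⟨969, 1, 1⟩))) (.node 2 (.node 1 (.one ⟨548, 1, 2⟩) (.one ⟨4069, 1, 1⟩)) (.node 1 (.one ⟨2154, 0, 3⟩) (.one ⟨11122, 1, 2⟩))))) (.node 8 (.node 4 (.node 2 (.node 1 (.one ⟨6646, 1, 2⟩) (.one ⟨3154, 1, 0⟩)) (.node 1 (.one ⟨901, 0, 2⟩) (.one ⟨7899, 0, 2⟩))) (.node 2 (.node 1 (.one ⟨1905, 0, 1⟩) (.one ⟨5899, 0, 2⟩)) (.node 1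 (.one ⟨3623, 0, 2⟩) (.one ⟨8183, 1, 2⟩)))) (.node 4 (.node 2 (.node 1 (.one ⟨906, 0, 3⟩) (.one ⟨13710, 0, 2⟩)) (.node 1 (.one ⟨3886, 0, 2⟩) (.one ⟨6796, 0, 3⟩))) (.node 2 (.node 1 (.one ⟨13047, 0, 1⟩) (.one ⟨8536, 0, 3⟩)) (.node 1 (.one ⟨5687, 1, 2⟩) (.one ⟨8938, 1, 1⟩)))))) (.node 16 (.node 8 (.node 4 (.node 2 (.node 1 (.one ⟨13678, 0, 3⟩) (.one ⟨6694, 1, 1⟩)) (.node 1 (.one ⟨812, 1, 0⟩) (.one ⟨4418, 0, 2⟩))) (.node 2 (.node 1 (.one ⟨7516, 1, 1⟩) (.one ⟨2668, 0, 0⟩)) (.node 1 (.one ⟨17179, 0, 2⟩) (.one ⟨9092, 0, 2⟩)))) (.node 4 (.node 2 (.node 1 (.one ⟨5169, 0, 2⟩) (.one ⟨2168, 1, 0⟩)) (.node 1 (.one ⟨13671, 0, 3⟩) (.one ⟨9058, 1, 2⟩))) (.node 2 (.node 1 (.one ⟨5410, 0, 1⟩) (.one ⟨9262, 0, 1⟩)) (.node 1 (.one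 ⟨14131, 0, 1⟩) (.one ⟨12857, 0, 2⟩))))) (.node 8 (.node 4 (.node 2 (.node 1 (.one ⟨8694, 1, 2⟩) (.one ⟨12555, 1, 2⟩)) (.node 1 (.one ⟨4020, 0, 2⟩) (.one ⟨12900, 0, 2⟩))) (.node 2 (.node 1 (.one ⟨9844, 1, 2⟩) (.one ⟨1497, 0, 1⟩)) (.node 1 (.one ⟨4113, 0, 1⟩) (.one ⟨12927, 0, 3⟩)))) (.node 4 (.node 2 (.node 1 (.one ⟨11683, 0, 2⟩) (.one ⟨1992, 0, 3⟩)) (.node 1 (.one ⟨2544, 1, 1⟩) (.one ⟨10690, 0, 1⟩))) (.node 2 (.node 1 (.one ⟨1577, 1, 0⟩) (.one ⟨5191, 0, 2⟩)) (.node 1 (.one ⟨12094, 1, 2⟩) (.one ⟨14162, 0, 2⟩)))))))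
def par5_11_15 : Arr Par :=
  (.node 32 (.node 16 (.node 8 (.node 4 (.node 2 (.node 1 (.one ⟨12738, 0, 1⟩) (.one ⟨12104, 0, 3⟩)) (.node 1 (.one ⟨15576, 0, 1⟩) (.one ⟨5830, 1, 1⟩))) (.node 2 (.node 1 (.one ⟨5445, 1, 1⟩) (.one ⟨5222, 0, 0⟩)) (.node 1 (.one ⟨8343, 0, 3⟩) (.one ⟨4178, 1, 2⟩)))) (.node 4 (.node 2 (.node 1 (.one ⟨737, 1, 2⟩) (.one ⟨93, 1, 2⟩)) (.node 1 (.one ⟨4182, 1, 2⟩) (.one ⟨4176, 1, 2⟩))) (.node 2 (.node 1 (.one ⟨763, 1, 2⟩) (.one ⟨135, 1, 2⟩)) (.node 1 (.one ⟨4180, 1, 2⟩) (.one ⟨1720, 1, 0⟩))))) (.node 8 (.node 4 (.node 2 (.node 1 (.one ⟨6937, 0, 2⟩) (.one ⟨3271, 0, 1⟩)) (.node 1 (.one ⟨3122, 1, 1⟩) (.one ⟨16326, 1, 1⟩))) (.node 2 (.node 1 (.one ⟨8414, 1, 2⟩) (.one ⟨14514, 0, 2⟩)) (.node 1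 (.one ⟨1846, 0, 0⟩) (.one ⟨4454, 0, 1⟩)))) (.node 4 (.node 2 (.node 1 (.one ⟨1714, 0, 1⟩) (.one ⟨1527, 1, 0⟩)) (.node 1 (.one ⟨2420, 1, 1⟩) (.one ⟨2979, 1, 2⟩))) (.node 2 (.node 1 (.one ⟨4514, 0, 2⟩) (.one ⟨1598, 0, 3⟩)) (.node 1 (.one ⟨14218, 1, 2⟩) (.one ⟨1501, 1, 0⟩)))))) (.node 16 (.node 8 (.node 4 (.node 2 (.node 1 (.one ⟨12486, 0, 1⟩) (.one ⟨2287, 0, 2⟩)) (.node 1 (.one ⟨11316, 0, 3⟩) (.one ⟨12556, 1, 1⟩))) (.node 2 (.node 1 (.one ⟨7823, 0, 3⟩) (.one ⟨14076, 0, 2⟩)) (.node 1 (.one ⟨6992, 0, 3⟩) (.one ⟨1266, 0, 1⟩)))) (.node 4 (.node 2 (.node 1 (.one ⟨12128, 1, 1⟩) (.one ⟨1321, 1, 0⟩)) (.node 1 (.one ⟨2960, 1, 0⟩) (.one ⟨2431, 1, 0⟩))) (.node 2 (.node 1 (.one ⟨4983, 1, 0⟩) (.one ⟨5560, 1, 2⟩)) (.node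 1 (.one ⟨3609, 1, 0⟩) (.one ⟨7921, 1, 2⟩))))) (.node 8 (.node 4 (.node 2 (.node 1 (.one ⟨10472, 0, 3⟩) (.one ⟨10644, 1, 2⟩)) (.node 1 (.one ⟨14860, 0, 2⟩) (.one ⟨12731, 1, 2⟩))) (.node 2 (.node 1 (.one ⟨15329, 1, 2⟩) (.one ⟨7259, 1, 2⟩)) (.node 1 (.one ⟨4715, 1, 2⟩) (.one ⟨13177, 1, 1⟩)))) (.node 4 (.node 2 (.node 1 (.one ⟨12988, 0, 1⟩) (.one ⟨6220, 0, 3⟩)) (.node 1 (.one ⟨4852, 1, 1⟩) (.one ⟨14515, 0, 2⟩))) (.node 2 (.node 1 (.one ⟨11922, 1, 1⟩) (.one ⟨4260, 1, 1⟩)) (.node 1 (.one ⟨4535, 0, 3⟩) (.one ⟨10988, 0, 3⟩)))))))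
def par5_11 : Arr Par :=
  (.node 512 (.node 256 (.node 128 (.node 64 par5_11_0 par5_11_1) (.node 64 par5_11_2 par5_11_3)) (.node 128 (.node 64 par5_11_4 par5_11_5) (.node 64 par5_11_6 par5_11_7))) (.node 256 (.node 128 (.node 64 par5_11_8 par5_11_9) (.node 64 par5_11_10 par5_11_11)) (.node 128 (.node 64 par5_11_12 par5_11_13) (.node 64 par5_11_14 par5_11_15))))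
def par5_12_0 : Arr Par :=
  (.node 32 (.node 16 (.node 8 (.node 4 (.node 2 (.node 1 (.one ⟨10458, 0, 3⟩) (.one ⟨435, 1, 1⟩)) (.node 1 (.one ⟨12859, 0, 2⟩) (.one ⟨2382, 1, 2⟩))) (.node 2 (.node 1 (.one ⟨3885, 0, 2⟩) (.one ⟨1356, 1, 0⟩)) (.node 1 (.one ⟨3418, 0, 1⟩) (.one ⟨10312, 0, 2⟩)))) (.node 4 (.node 2 (.node 1 (.one ⟨12496, 0, 2⟩) (.one ⟨14507, 0, 1⟩)) (.node 1 (.one ⟨3401, 1, 0⟩) (.one ⟨2764, 1, 1⟩))) (.node 2 (.node 1 (.one ⟨3884, 0, 2⟩) (.one ⟨5875, 0, 2⟩)) (.node 1 (.one ⟨7913, 0, 2⟩) (.one ⟨1208, 0, 1⟩))))) (.node 8 (.node 4 (.node 2 (.node 1 (.one ⟨16363, 0, 1⟩) (.one ⟨16321, 0, 1⟩)) (.node 1 (.one ⟨1557, 0, 2⟩) (.one ⟨11812, 1, 2⟩))) (.node 2 (.node 1 (.one ⟨9300, 0, 2⟩) (.one ⟨9497, 0, 2⟩)) (.node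 1 (.one ⟨8268, 0, 1⟩) (.one ⟨2124, 1, 0⟩)))) (.node 4 (.node 2 (.node 1 (.one ⟨8044, 0, 1⟩) (.one ⟨1409, 0, 1⟩)) (.node 1 (.one ⟨12988, 1, 1⟩) (.one ⟨8001, 0, 1⟩))) (.node 2 (.node 1 (.one ⟨11925, 0, 2⟩) (.one ⟨13662, 0, 1⟩)) (.node 1 (.one ⟨286, 0, 2⟩) (.one ⟨14452, 0, 1⟩)))))) (.node 16 (.node 8 (.node 4 (.node 2 (.node 1 (.one ⟨2386, 1, 0⟩) (.one ⟨3667, 1, 2⟩)) (.node 1 (.one ⟨6487, 1, 2⟩) (.one ⟨3506, 1, 2⟩))) (.node 2 (.node 1 (.one ⟨8523, 0, 2⟩) (.one ⟨12076, 0, 2⟩)) (.node 1 (.one ⟨1119, 0, 1⟩) (.one ⟨5471, 0, 3⟩)))) (.node 4 (.node 2 (.node 1 (.one ⟨3995, 0, 2⟩) (.one ⟨9031, 0, 3⟩)) (.node 1 (.one ⟨404, 1, 0⟩) (.one ⟨352, 1, 1⟩))) (.node 2 (.node 1 (.one ⟨3058, 0, 3⟩) (.one ⟨5860, 0, 2⟩)) (.node 1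 (.one ⟨6856, 0, 3⟩) (.one ⟨14420, 0, 2⟩))))) (.node 8 (.node 4 (.node 2 (.node 1 (.one ⟨3961, 0, 3⟩) (.one ⟨4882, 1, 1⟩)) (.node 1 (.one ⟨7793, 0, 3⟩) (.one ⟨2014, 0, 2⟩))) (.node 2 (.node 1 (.one ⟨17117, 1, 2⟩) (.one ⟨6574, 0, 2⟩)) (.node 1 (.one ⟨12480, 0, 1⟩) (.one ⟨15697, 0, 1⟩)))) (.node 4 (.node 2 (.node 1 (.one ⟨14287, 0, 2⟩) (.one ⟨12507, 1, 1⟩)) (.node 1 (.one ⟨15769, 1, 1⟩) (.one ⟨10623, 0, 2⟩))) (.node 2 (.node 1 (.one ⟨11785, 0, 1⟩) (.one ⟨6049, 0, 1⟩)) (.node 1 (.one ⟨1801, 1, 0⟩) (.one ⟨12563, 0, 1⟩)))))))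
def par5_12_1 : Arr Par :=
  (.node 32 (.node 16 (.node 8 (.node 4 (.node 2 (.node 1 (.one ⟨71, 0, 1⟩) (.one ⟨1563, 0, 1⟩)) (.node 1 (.one ⟨12554, 0, 1⟩) (.one ⟨4506, 0, 1⟩))) (.node 2 (.node 1 (.one ⟨9198, 0, 2⟩) (.one ⟨9489, 0, 2⟩)) (.node 1 (.one ⟨4673, 1, 2⟩) (.one ⟨15182, 1, 1⟩)))) (.node 4 (.node 2 (.node 1 (.one ⟨6928, 1, 2⟩) (.one ⟨3625, 0, 1⟩)) (.node 1 (.one ⟨15247, 0, 2⟩) (.one ⟨15010, 1, 2⟩))) (.node 2 (.node 1 (.one ⟨1689, 1, 0⟩) (.one ⟨3310, 0, 3⟩)) (.node 1 (.one ⟨4710, 1, 2⟩) (.one ⟨4478, 0, 1⟩))))) (.node 8 (.node 4 (.node 2 (.node 1 (.one ⟨4362, 0, 0⟩) (.one ⟨14895, 0, 1⟩)) (.node 1 (.one ⟨9000, 0, 3⟩) (.one ⟨5741, 0, 2⟩))) (.node 2 (.node 1 (.one ⟨16404, 0, 3⟩) (.one ⟨3993, 1, 0⟩)) (.node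 1 (.one ⟨3080, 0, 1⟩) (.one ⟨719, 1, 0⟩)))) (.node 4 (.node 2 (.node 1 (.one ⟨16763, 0, 1⟩) (.one ⟨13862, 1, 2⟩)) (.node 1 (.one ⟨10366, 1, 2⟩) (.one ⟨1356, 0, 1⟩))) (.node 2 (.node 1 (.one ⟨8071, 1, 2⟩) (.one ⟨12166, 1, 1⟩)) (.node 1 (.one ⟨1600, 1, 0⟩) (.one ⟨514, 1, 2⟩)))))) (.node 16 (.node 8 (.node 4 (.node 2 (.node 1 (.one ⟨13090, 0, 3⟩) (.one ⟨12932, 0, 2⟩)) (.node 1 (.one ⟨3054, 1, 0⟩) (.one ⟨14966, 0, 2⟩))) (.node 2 (.node 1 (.one ⟨769, 1, 2⟩) (.one ⟨4387, 0, 3⟩)) (.node 1 (.one ⟨14782, 0, 2⟩) (.one ⟨1420, 0, 1⟩)))) (.node 4 (.node 2 (.node 1 (.one ⟨5217, 1, 1⟩) (.one ⟨12270, 0, 1⟩)) (.node 1 (.one ⟨4420, 1, 0⟩) (.one ⟨13147, 1, 2⟩))) (.node 2 (.node 1 (.one ⟨898, 1, 1⟩) (.one ⟨887, 1, 0⟩)) (.node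 1 (.one ⟨17099, 0, 2⟩) (.one ⟨184, 1, 0⟩))))) (.node 8 (.node 4 (.node 2 (.node 1 (.one ⟨837, 1, 0⟩) (.one ⟨15436, 0, 3⟩)) (.node 1 (.one ⟨5067, 0, 1⟩) (.one ⟨2830, 1, 0⟩))) (.node 2 (.node 1 (.one ⟨15773, 0, 2⟩) (.one ⟨7333, 0, 3⟩)) (.node 1 (.one ⟨13347, 0, 2⟩) (.one ⟨6183, 0, 3⟩)))) (.node 4 (.node 2 (.node 1 (.one ⟨4936, 1, 0⟩) (.one ⟨12486, 1, 1⟩)) (.node 1 (.one ⟨6502, 1, 1⟩) (.one ⟨13344, 1, 1⟩))) (.node 2 (.node 1 (.one ⟨4667, 0, 1⟩) (.one ⟨2971, 1, 0⟩)) (.node 1 (.one ⟨10087, 0, 3⟩) (.one ⟨14023, 1, 2⟩)))))))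
def par5_12_2 : Arr Par :=
  (.node 32 (.node 16 (.node 8 (.node 4 (.node 2 (.node 1 (.one ⟨12297, 1, 2⟩) (.one ⟨15492, 0, 2⟩)) (.node 1 (.one ⟨13078, 1, 2⟩) (.one ⟨15215, 1, 2⟩))) (.node 2 (.node 1 (.one ⟨10940, 0, 2⟩) (.one ⟨10942, 0, 3⟩)) (.node 1 (.one ⟨11966, 1, 2⟩) (.one ⟨6013, 1, 1⟩)))) (.node 4 (.node 2 (.node 1 (.one ⟨1575, 0, 3⟩) (.one ⟨6165, 0, 2⟩)) (.node 1 (.one ⟨9716, 0, 2⟩) (.one ⟨10070, 0, 2⟩))) (.node 2 (.node 1 (.one ⟨10681, 1, 1⟩) (.one ⟨2118, 0, 2⟩)) (.node 1 (.one ⟨8675, 1, 1⟩) (.one ⟨6603, 1, 1⟩))))) (.node 8 (.node 4 (.node 2 (.node 1 (.one ⟨12148, 1, 1⟩) (.one ⟨12239, 1, 1⟩)) (.node 1 (.one ⟨12700, 0, 1⟩) (.one ⟨4974, 0, 3⟩))) (.node 2 (.node 1 (.one ⟨5140, 1, 1⟩) (.one ⟨5442, 1, 1⟩))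 (.node 1 (.one ⟨10630, 0, 2⟩) (.one ⟨8675, 0, 1⟩)))) (.node 4 (.node 2 (.node 1 (.one ⟨4815, 0, 0⟩) (.one ⟨5698, 1, 1⟩)) (.node 1 (.one ⟨8677, 0, 2⟩) (.one ⟨8672, 0, 3⟩))) (.node 2 (.node 1 (.one ⟨8671, 0, 1⟩) (.one ⟨696, 1, 0⟩)) (.node 1 (.one ⟨8674, 0, 2⟩) (.one ⟨4597, 0, 0⟩)))))) (.node 16 (.node 8 (.node 4 (.node 2 (.node 1 (.one ⟨16194, 1, 2⟩) (.one ⟨138, 1, 0⟩)) (.node 1 (.one ⟨14203, 1, 2⟩) (.one ⟨6115, 0, 2⟩))) (.node 2 (.node 1 (.one ⟨2626, 0, 3⟩) (.one ⟨1584, 1, 0⟩)) (.node 1 (.one ⟨16707, 0, 1⟩) (.one ⟨8665, 0, 1⟩)))) (.node 4 (.node 2 (.node 1 (.one ⟨4310, 1, 2⟩) (.one ⟨15729, 1, 2⟩)) (.node 1 (.one ⟨15343, 1, 2⟩) (.one ⟨1261, 0, 2⟩))) (.node 2 (.node 1 (.one ⟨5074, 1, 2⟩) (.one ⟨1640, 1, 0⟩))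 (.node 1 (.one ⟨14532, 1, 2⟩) (.one ⟨14275, 1, 2⟩))))) (.node 8 (.node 4 (.node 2 (.node 1 (.one ⟨12987, 0, 2⟩) (.one ⟨7591, 0, 2⟩)) (.node 1 (.one ⟨1549, 1, 0⟩) (.one ⟨2927, 1, 0⟩))) (.node 2 (.node 1 (.one ⟨12393, 1, 2⟩) (.one ⟨7237, 0, 2⟩)) (.node 1 (.one ⟨3012, 1, 0⟩) (.one ⟨236, 1, 0⟩)))) (.node 4 (.node 2 (.node 1 (.one ⟨12497, 0, 1⟩) (.one ⟨706, 1, 0⟩)) (.node 1 (.one ⟨4115, 1, 1⟩) (.one ⟨9991, 1, 1⟩))) (.node 2 (.node 1 (.one ⟨4420, 1, 1⟩) (.one ⟨11837, 1, 2⟩)) (.node 1 (.one ⟨3027, 0, 1⟩) (.one ⟨13926, 0, 1⟩)))))))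
def par5_12_3 : Arr Par :=
  (.node 32 (.node 16 (.node 8 (.node 4 (.node 2 (.node 1 (.one ⟨2845, 1, 0⟩) (.one ⟨6988, 0, 1⟩)) (.node 1 (.one ⟨744, 1, 0⟩) (.one ⟨4313, 1, 2⟩))) (.node 2 (.node 1 (.one ⟨4403, 1, 0⟩) (.one ⟨13752, 0, 1⟩)) (.node 1 (.one ⟨2855, 1, 0⟩) (.one ⟨1909, 0, 2⟩)))) (.node 4 (.node 2 (.node 1 (.one ⟨3668, 1, 1⟩) (.one ⟨4024, 1, 0⟩)) (.node 1 (.one ⟨15642, 0, 3⟩) (.one ⟨11661, 1, 2⟩))) (.node 2 (.node 1 (.one ⟨10452, 1, 2⟩) (.one ⟨4401, 1, 1⟩)) (.node 1 (.one ⟨15235, 0, 3⟩) (.one ⟨4308, 0, 2⟩))))) (.node 8 (.node 4 (.node 2 (.node 1 (.one ⟨12311, 1, 1⟩) (.one ⟨1227, 0, 0⟩)) (.node 1 (.one ⟨11701, 1, 1⟩) (.one ⟨9771, 0, 1⟩))) (.node 2 (.node 1 (.one ⟨10297, 1, 2⟩) (.one ⟨1743, 0, 1⟩)) (.node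 1 (.one ⟨9604, 1, 2⟩) (.one ⟨6298, 0, 2⟩)))) (.node 4 (.node 2 (.node 1 (.one ⟨17052, 0, 1⟩) (.one ⟨10415, 0, 1⟩)) (.node 1 (.one ⟨5127, 0, 1⟩) (.one ⟨2928, 1, 0⟩))) (.node 2 (.node 1 (.one ⟨8135, 1, 1⟩) (.one ⟨2682, 1, 2⟩)) (.node 1 (.one ⟨4012, 0, 2⟩) (.one ⟨11878, 0, 2⟩)))))) (.node 16 (.node 8 (.node 4 (.node 2 (.node 1 (.one ⟨2425, 1, 0⟩) (.one ⟨835, 1, 0⟩)) (.node 1 (.one ⟨2609, 1, 0⟩) (.one ⟨1966, 1, 2⟩))) (.node 2 (.node 1 (.one ⟨11242, 0, 2⟩) (.one ⟨12270, 1, 1⟩)) (.node 1 (.one ⟨4441, 1, 2⟩) (.one ⟨13991, 0, 3⟩)))) (.node 4 (.node 2 (.node 1 (.one ⟨342, 1, 0⟩) (.one ⟨1940, 0, 0⟩)) (.node 1 (.one ⟨14337, 1, 2⟩) (.one ⟨13736, 0, 3⟩))) (.node 2 (.node 1 (.one ⟨1742, 0, 2⟩) (.one ⟨5208, 0, 3⟩)) (.node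 1 (.one ⟨16934, 0, 3⟩) (.one ⟨8556, 0, 2⟩))))) (.node 8 (.node 4 (.node 2 (.node 1 (.one ⟨7486, 0, 2⟩) (.one ⟨1250, 1, 1⟩)) (.node 1 (.one ⟨296, 1, 0⟩) (.one ⟨13501, 0, 1⟩))) (.node 2 (.node 1 (.one ⟨11093, 0, 3⟩) (.one ⟨14402, 0, 2⟩)) (.node 1 (.one ⟨15803, 0, 2⟩) (.one ⟨14405, 0, 3⟩)))) (.node 4 (.node 2 (.node 1 (.one ⟨11138, 1, 1⟩) (.one ⟨8816, 0, 3⟩)) (.node 1 (.one ⟨3913, 0, 2⟩) (.one ⟨12907, 0, 2⟩))) (.node 2 (.node 1 (.one ⟨2900, 1, 1⟩) (.one ⟨299, 0, 1⟩)) (.node 1 (.one ⟨1105, 1, 1⟩) (.one ⟨3311, 0, 2⟩)))))))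
def par5_12_4 : Arr Par :=
  (.node 32 (.node 16 (.node 8 (.node 4 (.node 2 (.node 1 (.one ⟨14768, 1, 1⟩) (.one ⟨1116, 1, 2⟩)) (.node 1 (.one ⟨8797, 0, 3⟩) (.one ⟨9133, 0, 2⟩))) (.node 2 (.node 1 (.one ⟨15121, 0, 3⟩) (.one ⟨13070, 0, 2⟩)) (.node 1 (.one ⟨16812, 1, 2⟩) (.one ⟨1317, 1, 0⟩)))) (.node 4 (.node 2 (.node 1 (.one ⟨14576, 0, 1⟩) (.one ⟨10954, 0, 2⟩)) (.node 1 (.one ⟨1866, 1, 0⟩) (.one ⟨7267, 0, 1⟩))) (.node 2 (.node 1 (.one ⟨848, 1, 0⟩) (.one ⟨2216, 1, 0⟩)) (.node 1 (.one ⟨897, 0, 1⟩) (.one ⟨2851, 1, 2⟩))))) (.node 8 (.node 4 (.node 2 (.node 1 (.one ⟨174, 0, 2⟩) (.one ⟨4398, 0, 1⟩)) (.node 1 (.one ⟨344, 1, 0⟩) (.one ⟨3081, 1, 0⟩))) (.node 2 (.node 1 (.one ⟨14217, 1, 1⟩) (.one ⟨6240, 0, 2⟩)) (.node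 1 (.one ⟨9573, 0, 3⟩) (.one ⟨13773, 1, 2⟩)))) (.node 4 (.node 2 (.node 1 (.one ⟨511, 0, 1⟩) (.one ⟨16119, 1, 1⟩)) (.node 1 (.one ⟨3336, 1, 0⟩) (.one ⟨11912, 0, 1⟩))) (.node 2 (.node 1 (.one ⟨737, 1, 0⟩) (.one ⟨16154, 0, 2⟩)) (.node 1 (.one ⟨10540, 1, 1⟩) (.one ⟨2765, 1, 1⟩)))))) (.node 16 (.node 8 (.node 4 (.node 2 (.node 1 (.one ⟨12052, 1, 2⟩) (.one ⟨12572, 1, 1⟩)) (.node 1 (.one ⟨8247, 0, 2⟩) (.one ⟨1110, 1, 1⟩))) (.node 2 (.node 1 (.one ⟨11860, 0, 2⟩) (.one ⟨14408, 0, 2⟩)) (.node 1 (.one ⟨1977, 1, 1⟩) (.one ⟨17, 0, 2⟩)))) (.node 4 (.node 2 (.node 1 (.one ⟨592, 0, 1⟩) (.one ⟨623, 0, 1⟩)) (.node 1 (.one ⟨100, 0, 1⟩) (.one ⟨6888, 1, 2⟩))) (.node 2 (.node 1 (.one ⟨7997, 1, 2⟩) (.one ⟨376, 0, 1⟩)) (.node 1 (.one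 ⟨892, 0, 1⟩) (.one ⟨11330, 0, 3⟩))))) (.node 8 (.node 4 (.node 2 (.node 1 (.one ⟨13804, 0, 3⟩) (.one ⟨12707, 1, 1⟩)) (.node 1 (.one ⟨12704, 1, 2⟩) (.one ⟨250, 1, 1⟩))) (.node 2 (.node 1 (.one ⟨996, 0, 3⟩) (.one ⟨12517, 0, 2⟩)) (.node 1 (.one ⟨16729, 0, 2⟩) (.one ⟨9336, 1, 1⟩)))) (.node 4 (.node 2 (.node 1 (.one ⟨8500, 1, 2⟩) (.one ⟨6702, 0, 3⟩)) (.node 1 (.one ⟨13107, 0, 2⟩) (.one ⟨3020, 1, 0⟩))) (.node 2 (.node 1 (.one ⟨12916, 1, 2⟩) (.one ⟨7709, 1, 2⟩)) (.node 1 (.one ⟨11041, 1, 1⟩) (.one ⟨4741, 1, 2⟩)))))))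
def par5_12_5 : Arr Par :=
  (.node 32 (.node 16 (.node 8 (.node 4 (.node 2 (.node 1 (.one ⟨2877, 1, 0⟩) (.one ⟨15392, 0, 1⟩)) (.node 1 (.one ⟨2466, 1, 0⟩) (.one ⟨1291, 0, 3⟩))) (.node 2 (.node 1 (.one ⟨8256, 0, 3⟩) (.one ⟨4541, 1, 1⟩)) (.node 1 (.one ⟨5656, 0, 2⟩) (.one ⟨1092, 0, 2⟩)))) (.node 4 (.node 2 (.node 1 (.one ⟨685, 1, 0⟩) (.one ⟨9333, 1, 2⟩)) (.node 1 (.one ⟨4813, 1, 1⟩) (.one ⟨7855, 0, 2⟩))) (.node 2 (.node 1 (.one ⟨8514, 1, 2⟩) (.one ⟨1004, 0, 2⟩)) (.node 1 (.one ⟨3821, 1, 2⟩) (.one ⟨854, 1, 0⟩))))) (.node 8 (.node 4 (.node 2 (.node 1 (.one ⟨7172, 0, 1⟩) (.one ⟨15766, 0, 3⟩)) (.node 1 (.one ⟨11639, 0, 2⟩) (.one ⟨1128, 1, 2⟩))) (.node 2 (.node 1 (.one ⟨11088, 1, 1⟩) (.one ⟨13178, 0, 1⟩)) (.node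 1 (.one ⟨7771, 1, 2⟩) (.one ⟨6591, 0, 2⟩)))) (.node 4 (.node 2 (.node 1 (.one ⟨4649, 1, 2⟩) (.one ⟨7535, 0, 2⟩)) (.node 1 (.one ⟨9639, 1, 1⟩) (.one ⟨7319, 0, 2⟩))) (.node 2 (.node 1 (.one ⟨13374, 0, 2⟩) (.one ⟨10616, 1, 2⟩)) (.node 1 (.one ⟨5311, 1, 1⟩) (.one ⟨7155, 0, 3⟩)))))) (.node 16 (.node 8 (.node 4 (.node 2 (.node 1 (.one ⟨2867, 0, 1⟩) (.one ⟨3531, 1, 0⟩)) (.node 1 (.one ⟨1015, 0, 0⟩) (.one ⟨15754, 0, 1⟩))) (.node 2 (.node 1 (.one ⟨12448, 0, 3⟩) (.one ⟨9682, 0, 2⟩)) (.node 1 (.one ⟨14625, 0, 2⟩) (.one ⟨4777, 0, 3⟩)))) (.node 4 (.node 2 (.node 1 (.one ⟨14351, 1, 1⟩) (.one ⟨1570, 0, 2⟩)) (.node 1 (.one ⟨13269, 0, 1⟩) (.one ⟨3772, 1, 0⟩))) (.node 2 (.node 1 (.one ⟨10527, 0, 1⟩) (.one ⟨854, 0, 2⟩)) (.node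 1 (.one ⟨229, 1, 1⟩) (.one ⟨168, 0, 1⟩))))) (.node 8 (.node 4 (.node 2 (.node 1 (.one ⟨10150, 0, 3⟩) (.one ⟨2568, 1, 0⟩)) (.node 1 (.one ⟨9725, 0, 3⟩) (.one ⟨3191, 1, 2⟩))) (.node 2 (.node 1 (.one ⟨2675, 1, 1⟩) (.one ⟨10038, 0, 3⟩)) (.node 1 (.one ⟨1574, 0, 2⟩) (.one ⟨15903, 0, 2⟩)))) (.node 4 (.node 2 (.node 1 (.one ⟨5592, 0, 2⟩) (.one ⟨8838, 1, 1⟩)) (.node 1 (.one ⟨14364, 1, 2⟩) (.one ⟨911, 0, 2⟩))) (.node 2 (.node 1 (.one ⟨4027, 1, 0⟩) (.one ⟨16931, 1, 2⟩)) (.node 1 (.one ⟨17070, 0, 2⟩) (.one ⟨16682, 1, 2⟩)))))))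
def par5_12_6 : Arr Par :=
  (.node 32 (.node 16 (.node 8 (.node 4 (.node 2 (.node 1 (.one ⟨16701, 0, 2⟩) (.one ⟨15287, 0, 2⟩)) (.node 1 (.one ⟨5283, 0, 2⟩) (.one ⟨6737, 0, 1⟩))) (.node 2 (.node 1 (.one ⟨13520, 1, 1⟩) (.one ⟨7738, 1, 1⟩)) (.node 1 (.one ⟨1131, 1, 2⟩) (.one ⟨4462, 0, 2⟩)))) (.node 4 (.node 2 (.node 1 (.one ⟨15348, 0, 2⟩) (.one ⟨3692, 1, 0⟩)) (.node 1 (.one ⟨2725, 0, 1⟩) (.one ⟨4608, 1, 1⟩))) (.node 2 (.node 1 (.one ⟨9245, 1, 1⟩) (.one ⟨15844, 0, 3⟩)) (.node 1 (.one ⟨2935, 0, 1⟩) (.one ⟨1390, 0, 2⟩))))) (.node 8 (.node 4 (.node 2 (.node 1 (.one ⟨12816, 1, 2⟩) (.one ⟨2226, 1, 0⟩)) (.node 1 (.one ⟨1666, 1, 1⟩) (.one ⟨7213, 0, 2⟩))) (.node 2 (.node 1 (.one ⟨4651, 1, 1⟩) (.one ⟨6780, 0, 3⟩)) (.node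 1 (.one ⟨4173, 0, 0⟩) (.one ⟨1732, 1, 2⟩)))) (.node 4 (.node 2 (.node 1 (.one ⟨16608, 0, 1⟩) (.one ⟨4104, 0, 0⟩)) (.node 1 (.one ⟨9330, 1, 2⟩) (.one ⟨6618, 1, 2⟩))) (.node 2 (.node 1 (.one ⟨2317, 1, 0⟩) (.one ⟨12544, 0, 2⟩)) (.node 1 (.one ⟨14832, 1, 2⟩) (.one ⟨12468, 0, 3⟩)))))) (.node 16 (.node 8 (.node 4 (.node 2 (.node 1 (.one ⟨12040, 0, 1⟩) (.one ⟨719, 1, 1⟩)) (.node 1 (.one ⟨299, 1, 1⟩) (.one ⟨2961, 1, 0⟩))) (.node 2 (.node 1 (.one ⟨9736, 0, 3⟩) (.one ⟨3493, 0, 0⟩)) (.node 1 (.one ⟨773, 1, 1⟩) (.one ⟨9339, 1, 1⟩)))) (.node 4 (.node 2 (.node 1 (.one ⟨9210, 0, 2⟩) (.one ⟨9891, 1, 1⟩)) (.node 1 (.one ⟨11937, 1, 2⟩) (.one ⟨1541, 0, 2⟩))) (.node 2 (.node 1 (.one ⟨8704, 1, 1⟩) (.one ⟨5661, 0, 2⟩)) (.node 1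 (.one ⟨8608, 1, 2⟩) (.one ⟨13857, 0, 3⟩))))) (.node 8 (.node 4 (.node 2 (.node 1 (.one ⟨4339, 1, 1⟩) (.one ⟨6195, 0, 1⟩)) (.node 1 (.one ⟨3907, 0, 1⟩) (.one ⟨16210, 0, 3⟩))) (.node 2 (.node 1 (.one ⟨15176, 1, 2⟩) (.one ⟨7622, 0, 3⟩)) (.node 1 (.one ⟨7989, 1, 1⟩) (.one ⟨2797, 1, 1⟩)))) (.node 4 (.node 2 (.node 1 (.one ⟨1250, 0, 1⟩) (.one ⟨9615, 0, 1⟩)) (.node 1 (.one ⟨10817, 0, 3⟩) (.one ⟨1168, 0, 1⟩))) (.node 2 (.node 1 (.one ⟨2793, 0, 3⟩) (.one ⟨10825, 0, 3⟩)) (.node 1 (.one ⟨9504, 0, 3⟩) (.one ⟨983, 1, 1⟩)))))))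
def par5_12_7 : Arr Par :=
  (.node 32 (.node 16 (.node 8 (.node 4 (.node 2 (.node 1 (.one ⟨8508, 1, 1⟩) (.one ⟨3060, 1, 0⟩)) (.node 1 (.one ⟨2552, 1, 0⟩) (.one ⟨3984, 1, 1⟩))) (.node 2 (.node 1 (.one ⟨7569, 1, 1⟩) (.one ⟨6851, 0, 2⟩)) (.node 1 (.one ⟨13521, 0, 1⟩) (.one ⟨15563, 0, 2⟩)))) (.node 4 (.node 2 (.node 1 (.one ⟨13254, 0, 1⟩) (.one ⟨12033, 1, 1⟩)) (.node 1 (.one ⟨7549, 1, 2⟩) (.one ⟨2003, 0, 1⟩))) (.node 2 (.node 1 (.one ⟨7669, 0, 1⟩) (.one ⟨1056, 1, 2⟩)) (.node 1 (.one ⟨13605, 0, 2⟩) (.one ⟨12125, 0, 3⟩))))) (.node 8 (.node 4 (.node 2 (.node 1 (.one ⟨15427, 0, 2⟩) (.one ⟨805, 0, 1⟩)) (.node 1 (.one ⟨8437, 0, 3⟩) (.one ⟨10656, 0, 1⟩))) (.node 2 (.node 1 (.one ⟨17130, 0, 1⟩) (.one ⟨3850, 0, 1⟩)) (.node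 1 (.one ⟨12361, 1, 2⟩) (.one ⟨3634, 0, 1⟩)))) (.node 4 (.node 2 (.node 1 (.one ⟨3616, 1, 2⟩) (.one ⟨11427, 0, 2⟩)) (.node 1 (.one ⟨5853, 0, 2⟩) (.one ⟨4267, 1, 1⟩))) (.node 2 (.node 1 (.one ⟨15564, 0, 1⟩) (.one ⟨13253, 0, 1⟩)) (.node 1 (.one ⟨1044, 1, 0⟩) (.one ⟨8117, 0, 3⟩)))))) (.node 16 (.node 8 (.node 4 (.node 2 (.node 1 (.one ⟨1137, 0, 1⟩) (.one ⟨9626, 0, 1⟩)) (.node 1 (.one ⟨16229, 0, 3⟩) (.one ⟨2, 0, 2⟩))) (.node 2 (.node 1 (.one ⟨8125, 0, 3⟩) (.one ⟨16238, 0, 3⟩)) (.node 1 (.one ⟨9511, 0, 1⟩) (.one ⟨3238, 1, 2⟩)))) (.node 4 (.node 2 (.node 1 (.one ⟨9228, 0, 1⟩) (.one ⟨14314, 0, 3⟩)) (.node 1 (.one ⟨3132, 0, 1⟩) (.one ⟨2587, 0, 1⟩))) (.node 2 (.node 1 (.one ⟨15636, 0, 2⟩) (.one ⟨920, 1, 1⟩)) (.node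 1 (.one ⟨6014, 0, 3⟩) (.one ⟨1860, 0, 1⟩))))) (.node 8 (.node 4 (.node 2 (.node 1 (.one ⟨5408, 1, 1⟩) (.one ⟨2940, 1, 1⟩)) (.node 1 (.one ⟨11680, 0, 1⟩) (.one ⟨16902, 1, 2⟩))) (.node 2 (.node 1 (.one ⟨1604, 0, 2⟩) (.one ⟨11904, 0, 3⟩)) (.node 1 (.one ⟨2838, 0, 2⟩) (.one ⟨2543, 1, 1⟩)))) (.node 4 (.node 2 (.node 1 (.one ⟨2698, 0, 1⟩) (.one ⟨14651, 1, 2⟩)) (.node 1 (.one ⟨3748, 1, 1⟩) (.one ⟨13393, 1, 2⟩))) (.node 2 (.node 1 (.one ⟨4837, 0, 2⟩) (.one ⟨8135, 0, 1⟩)) (.node 1 (.one ⟨7876, 0, 3⟩) (.one ⟨3688, 1, 2⟩)))))))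
def par5_12_8 : Arr Par :=
  (.node 32 (.node 16 (.node 8 (.node 4 (.node 2 (.node 1 (.one ⟨10647, 1, 1⟩) (.one ⟨2897, 1, 2⟩)) (.node 1 (.one ⟨11395, 0, 1⟩) (.one ⟨17008, 0, 2⟩))) (.node 2 (.node 1 (.one ⟨15750, 1, 2⟩) (.one ⟨4157, 0, 2⟩)) (.node 1 (.one ⟨14903, 0, 1⟩) (.one ⟨11746, 1, 2⟩)))) (.node 4 (.node 2 (.node 1 (.one ⟨16260, 0, 1⟩) (.one ⟨9657, 0, 2⟩)) (.node 1 (.one ⟨5321, 1, 1⟩) (.one ⟨8132, 0, 3⟩))) (.node 2 (.node 1 (.one ⟨7393, 0, 2⟩) (.one ⟨4604, 0, 3⟩)) (.node 1 (.one ⟨432, 0, 1⟩) (.one ⟨6410, 1, 2⟩))))) (.node 8 (.node 4 (.node 2 (.node 1 (.one ⟨8291, 0, 1⟩) (.one ⟨8790, 0, 2⟩)) (.node 1 (.one ⟨9164, 0, 3⟩) (.one ⟨6324, 1, 2⟩))) (.node 2 (.node 1 (.one ⟨13444, 0, 3⟩) (.one ⟨12025, 0, 1⟩)) (.node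 1 (.one ⟨6669, 0, 2⟩) (.one ⟨16160, 0, 1⟩)))) (.node 4 (.node 2 (.node 1 (.one ⟨8014, 0, 2⟩) (.one ⟨15093, 0, 1⟩)) (.node 1 (.one ⟨863, 1, 0⟩) (.one ⟨4632, 0, 3⟩))) (.node 2 (.node 1 (.one ⟨12810, 0, 2⟩) (.one ⟨573, 0, 1⟩)) (.node 1 (.one ⟨9732, 0, 2⟩) (.one ⟨5146, 0, 1⟩)))))) (.node 16 (.node 8 (.node 4 (.node 2 (.node 1 (.one ⟨4611, 1, 1⟩) (.one ⟨13504, 1, 1⟩)) (.node 1 (.one ⟨4445, 0, 2⟩) (.one ⟨10732, 1, 1⟩))) (.node 2 (.node 1 (.one ⟨9666, 1, 2⟩) (.one ⟨2724, 1, 1⟩)) (.node 1 (.one ⟨3106, 0, 2⟩) (.one ⟨12609, 1, 2⟩)))) (.node 4 (.node 2 (.node 1 (.one ⟨13390, 0, 3⟩) (.one ⟨15258, 0, 2⟩)) (.node 1 (.one ⟨16174, 0, 3⟩) (.one ⟨13593, 1, 2⟩))) (.node 2 (.node 1 (.one ⟨833, 0, 2⟩) (.one ⟨2705, 1, 1⟩)) (.node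 1 (.one ⟨7395, 0, 2⟩) (.one ⟨3155, 0, 0⟩))))) (.node 8 (.node 4 (.node 2 (.node 1 (.one ⟨15133, 1, 2⟩) (.one ⟨8455, 1, 2⟩)) (.node 1 (.one ⟨11090, 1, 2⟩) (.one ⟨1314, 0, 2⟩))) (.node 2 (.node 1 (.one ⟨4624, 0, 3⟩) (.one ⟨12049, 0, 2⟩)) (.node 1 (.one ⟨2653, 1, 0⟩) (.one ⟨4454, 1, 1⟩)))) (.node 4 (.node 2 (.node 1 (.one ⟨768, 0, 1⟩) (.one ⟨13028, 1, 1⟩)) (.node 1 (.one ⟨11329, 1, 1⟩) (.one ⟨7130, 1, 1⟩))) (.node 2 (.node 1 (.one ⟨8666, 1, 1⟩) (.one ⟨3178, 0, 1⟩)) (.node 1 (.one ⟨1406, 0, 2⟩) (.one ⟨3692, 1, 2⟩)))))))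
def par5_12_9 : Arr Par :=
  (.node 32 (.node 16 (.node 8 (.node 4 (.node 2 (.node 1 (.one ⟨3730, 1, 0⟩) (.one ⟨2239, 1, 0⟩)) (.node 1 (.one ⟨2289, 1, 2⟩) (.one ⟨3033, 0, 3⟩))) (.node 2 (.node 1 (.one ⟨12937, 0, 2⟩) (.one ⟨15017, 0, 3⟩)) (.node 1 (.one ⟨8480, 0, 3⟩) (.one ⟨14568, 0, 1⟩)))) (.node 4 (.node 2 (.node 1 (.one ⟨2815, 1, 0⟩) (.one ⟨732, 1, 2⟩)) (.node 1 (.one ⟨6063, 0, 1⟩) (.one ⟨10418, 0, 1⟩))) (.node 2 (.node 1 (.one ⟨2896, 0, 1⟩) (.one ⟨11467, 0, 2⟩)) (.node 1 (.one ⟨4930, 1, 1⟩) (.one ⟨16795, 1, 2⟩))))) (.node 8 (.node 4 (.node 2 (.node 1 (.one ⟨15299, 1, 2⟩) (.one ⟨8484, 0, 1⟩)) (.node 1 (.one ⟨9526, 0, 2⟩) (.one ⟨8630, 1, 1⟩))) (.node 2 (.node 1 (.one ⟨10196, 0, 1⟩) (.one ⟨767, 1, 1⟩)) (.node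 1 (.one ⟨4437, 1, 1⟩) (.one ⟨5094, 0, 3⟩)))) (.node 4 (.node 2 (.node 1 (.one ⟨9592, 0, 2⟩) (.one ⟨10969, 1, 2⟩)) (.node 1 (.one ⟨2803, 0, 1⟩) (.one ⟨10650, 0, 2⟩))) (.node 2 (.node 1 (.one ⟨5036, 0, 3⟩) (.one ⟨11483, 1, 2⟩)) (.node 1 (.one ⟨13745, 1, 1⟩) (.one ⟨13015, 1, 1⟩)))))) (.node 16 (.node 8 (.node 4 (.node 2 (.node 1 (.one ⟨7111, 1, 2⟩) (.one ⟨8347, 0, 3⟩)) (.node 1 (.one ⟨16683, 0, 1⟩) (.one ⟨15311, 1, 1⟩))) (.node 2 (.node 1 (.one ⟨5031, 1, 1⟩) (.one ⟨13717, 0, 3⟩)) (.node 1 (.one ⟨5894, 1, 2⟩) (.one ⟨15376, 0, 2⟩)))) (.node 4 (.node 2 (.node 1 (.one ⟨6361, 1, 2⟩) (.one ⟨16960, 1, 1⟩)) (.node 1 (.one ⟨1798, 1, 2⟩) (.one ⟨4782, 1, 1⟩))) (.node 2 (.node 1 (.one ⟨2092, 1, 0⟩) (.one ⟨9660, 0, 2⟩)) (.node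 1 (.one ⟨9684, 1, 2⟩) (.one ⟨11537, 0, 2⟩))))) (.node 8 (.node 4 (.node 2 (.node 1 (.one ⟨7410, 0, 2⟩) (.one ⟨16582, 0, 2⟩)) (.node 1 (.one ⟨13514, 1, 1⟩) (.one ⟨4856, 1, 1⟩))) (.node 2 (.node 1 (.one ⟨10356, 0, 1⟩) (.one ⟨629, 1, 0⟩)) (.node 1 (.one ⟨15885, 0, 2⟩) (.one ⟨10341, 0, 3⟩)))) (.node 4 (.node 2 (.node 1 (.one ⟨7459, 1, 1⟩) (.one ⟨2146, 1, 2⟩)) (.node 1 (.one ⟨4235, 1, 1⟩) (.one ⟨11097, 0, 2⟩))) (.node 2 (.node 1 (.one ⟨1321, 0, 2⟩) (.one ⟨2666, 0, 0⟩)) (.node 1 (.one ⟨7511, 1, 2⟩) (.one ⟨9721, 1, 2⟩)))))))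
def par5_12_10 : Arr Par :=
  (.node 32 (.node 16 (.node 8 (.node 4 (.node 2 (.node 1 (.one ⟨7433, 0, 1⟩) (.one ⟨8693, 1, 1⟩)) (.node 1 (.one ⟨9232, 0, 2⟩) (.one ⟨15463, 1, 1⟩))) (.node 2 (.node 1 (.one ⟨168, 1, 1⟩) (.one ⟨9673, 0, 2⟩)) (.node 1 (.one ⟨8639, 0, 3⟩) (.one ⟨1106, 1, 0⟩)))) (.node 4 (.node 2 (.node 1 (.one ⟨16293, 0, 2⟩) (.one ⟨4917, 1, 1⟩)) (.node 1 (.one ⟨15269, 0, 3⟩) (.one ⟨4318, 0, 3⟩))) (.node 2 (.node 1 (.one ⟨6187, 0, 3⟩) (.one ⟨7329, 1, 1⟩)) (.node 1 (.one ⟨13279, 1, 2⟩) (.one ⟨3702, 0, 3⟩))))) (.node 8 (.node 4 (.node 2 (.node 1 (.one ⟨9534, 0, 2⟩) (.one ⟨5462, 1, 0⟩)) (.node 1 (.one ⟨7630, 0, 3⟩) (.one ⟨8549, 0, 3⟩))) (.node 2 (.node 1 (.one ⟨8116, 1, 2⟩) (.one ⟨2848, 1, 0⟩)) (.node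 1 (.one ⟨6732, 1, 2⟩) (.one ⟨1022, 1, 0⟩)))) (.node 4 (.node 2 (.node 1 (.one ⟨8683, 1, 1⟩) (.one ⟨9627, 0, 2⟩)) (.node 1 (.one ⟨3439, 0, 3⟩) (.one ⟨177, 0, 3⟩))) (.node 2 (.node 1 (.one ⟨11564, 0, 3⟩) (.one ⟨8547, 0, 3⟩)) (.node 1 (.one ⟨16277, 0, 3⟩) (.one ⟨1576, 1, 0⟩)))))) (.node 16 (.node 8 (.node 4 (.node 2 (.node 1 (.one ⟨16640, 0, 1⟩) (.one ⟨16550, 1, 2⟩)) (.node 1 (.one ⟨16642, 0, 2⟩) (.one ⟨3540, 1, 0⟩))) (.node 2 (.node 1 (.one ⟨16644, 0, 1⟩) (.one ⟨3125, 1, 0⟩)) (.node 1 (.one ⟨16646, 0, 2⟩) (.one ⟨1317, 0, 1⟩)))) (.node 4 (.node 2 (.node 1 (.one ⟨1816, 1, 2⟩) (.one ⟨14082, 0, 1⟩)) (.node 1 (.one ⟨9528, 0, 1⟩) (.one ⟨611, 0, 1⟩))) (.node 2 (.node 1 (.one ⟨14944, 1, 2⟩) (.one ⟨14016, 0, 3⟩)) (.node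 1 (.one ⟨9242, 0, 1⟩) (.one ⟨6864, 0, 3⟩))))) (.node 8 (.node 4 (.node 2 (.node 1 (.one ⟨506, 1, 1⟩) (.one ⟨11024, 0, 3⟩)) (.node 1 (.one ⟨12787, 0, 3⟩) (.one ⟨11701, 0, 1⟩))) (.node 2 (.node 1 (.one ⟨13103, 1, 1⟩) (.one ⟨2200, 1, 0⟩)) (.node 1 (.one ⟨5617, 0, 3⟩) (.one ⟨5588, 1, 2⟩)))) (.node 4 (.node 2 (.node 1 (.one ⟨11387, 0, 1⟩) (.one ⟨16746, 1, 1⟩)) (.node 1 (.one ⟨3329, 1, 0⟩) (.one ⟨4459, 1, 1⟩))) (.node 2 (.node 1 (.one ⟨3956, 1, 0⟩) (.one ⟨11218, 1, 2⟩)) (.node 1 (.one ⟨3339, 1, 2⟩) (.one ⟨7042, 0, 3⟩)))))))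
def par5_12_11 : Arr Par :=
  (.node 32 (.node 16 (.node 8 (.node 4 (.node 2 (.node 1 (.one ⟨4739, 1, 0⟩) (.one ⟨5364, 1, 1⟩)) (.node 1 (.one ⟨443, 0, 2⟩) (.one ⟨8896, 0, 3⟩))) (.node 2 (.node 1 (.one ⟨15975, 0, 3⟩) (.one ⟨12858, 0, 2⟩)) (.node 1 (.one ⟨4296, 0, 1⟩) (.one ⟨7831, 0, 3⟩)))) (.node 4 (.node 2 (.node 1 (.one ⟨7838, 0, 2⟩) (.one ⟨7832, 0, 2⟩)) (.node 1 (.one ⟨7837, 0, 1⟩) (.one ⟨7834, 0, 3⟩))) (.node 2 (.node 1 (.one ⟨7835, 0, 1⟩) (.one ⟨8401, 1, 1⟩)) (.node 1 (.one ⟨7836, 0, 3⟩) (.one ⟨14815, 0, 2⟩))))) (.node 8 (.node 4 (.node 2 (.node 1 (.one ⟨3475, 0, 2⟩) (.one ⟨15527, 0, 2⟩)) (.node 1 (.one ⟨3019, 0, 2⟩) (.one ⟨8511, 0, 2⟩))) (.node 2 (.node 1 (.one ⟨13219, 0, 1⟩) (.one ⟨8841, 1, 1⟩)) (.node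 1 (.one ⟨12632, 0, 3⟩) (.one ⟨3605, 1, 0⟩)))) (.node 4 (.node 2 (.node 1 (.one ⟨9457, 0, 2⟩) (.one ⟨5013, 1, 1⟩)) (.node 1 (.one ⟨16954, 1, 2⟩) (.one ⟨2491, 1, 2⟩))) (.node 2 (.node 1 (.one ⟨1302, 0, 2⟩) (.one ⟨1228, 0, 2⟩)) (.node 1 (.one ⟨14182, 0, 2⟩) (.one ⟨7055, 0, 3⟩)))))) (.node 16 (.node 8 (.node 4 (.node 2 (.node 1 (.one ⟨2544, 0, 1⟩) (.one ⟨7357, 0, 2⟩)) (.node 1 (.one ⟨5075, 1, 2⟩) (.one ⟨14694, 0, 1⟩))) (.node 2 (.node 1 (.one ⟨3467, 1, 0⟩) (.one ⟨2520, 1, 0⟩)) (.node 1 (.one ⟨6260, 1, 1⟩) (.one ⟨12860, 0, 2⟩)))) (.node 4 (.node 2 (.node 1 (.one ⟨1941, 1, 2⟩) (.one ⟨16912, 0, 2⟩)) (.node 1 (.one ⟨15014, 1, 2⟩) (.one ⟨501, 1, 0⟩))) (.node 2 (.node 1 (.one ⟨6772, 0, 2⟩) (.one ⟨14690, 0, 3⟩)) (.node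 1 (.one ⟨3136, 0, 1⟩) (.one ⟨11459, 0, 3⟩))))) (.node 8 (.node 4 (.node 2 (.node 1 (.one ⟨15615, 0, 1⟩) (.one ⟨3097, 0, 0⟩)) (.node 1 (.one ⟨1279, 1, 0⟩) (.one ⟨5815, 0, 3⟩))) (.node 2 (.node 1 (.one ⟨718, 0, 1⟩) (.one ⟨10102, 0, 3⟩)) (.node 1 (.one ⟨202, 1, 0⟩) (.one ⟨3722, 1, 0⟩)))) (.node 4 (.node 2 (.node 1 (.one ⟨16444, 1, 2⟩) (.one ⟨10101, 0, 2⟩)) (.node 1 (.one ⟨14070, 1, 2⟩) (.one ⟨193, 0, 1⟩))) (.node 2 (.node 1 (.one ⟨12373, 1, 1⟩) (.one ⟨13164, 1, 1⟩)) (.node 1 (.one ⟨6478, 0, 1⟩) (.one ⟨8655, 1, 2⟩)))))))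
def par5_12_12 : Arr Par :=
  (.node 32 (.node 16 (.node 8 (.node 4 (.node 2 (.node 1 (.one ⟨1028, 0, 3⟩) (.one ⟨8895, 0, 2⟩)) (.node 1 (.one ⟨15745, 1, 1⟩) (.one ⟨5126, 0, 2⟩))) (.node 2 (.node 1 (.one ⟨11663, 0, 1⟩) (.one ⟨4260, 1, 0⟩)) (.node 1 (.one ⟨5869, 1, 2⟩) (.one ⟨10595, 0, 1⟩)))) (.node 4 (.node 2 (.node 1 (.one ⟨3515, 0, 1⟩) (.one ⟨817, 1, 2⟩)) (.node 1 (.one ⟨3696, 0, 1⟩) (.one ⟨532, 1, 1⟩))) (.node 2 (.node 1 (.one ⟨11975, 0, 1⟩) (.one ⟨950, 0, 1⟩)) (.node 1 (.one ⟨852, 1, 1⟩) (.one ⟨12970, 1, 2⟩))))) (.node 8 (.node 4 (.node 2 (.node 1 (.one ⟨4709, 1, 2⟩) (.one ⟨3289, 1, 2⟩)) (.node 1 (.one ⟨11221, 1, 2⟩) (.one ⟨10141, 1, 2⟩))) (.node 2 (.node 1 (.one ⟨2867, 1, 0⟩) (.one ⟨14891, 0, 3⟩)) (.node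 1 (.one ⟨8572, 0, 1⟩) (.one ⟨15188, 0, 1⟩)))) (.node 4 (.node 2 (.node 1 (.one ⟨14961, 0, 2⟩) (.one ⟨4757, 0, 3⟩)) (.node 1 (.one ⟨5338, 0, 3⟩) (.one ⟨13440, 0, 1⟩))) (.node 2 (.node 1 (.one ⟨12799, 0, 3⟩) (.one ⟨6884, 0, 2⟩)) (.node 1 (.one ⟨7181, 0, 3⟩) (.one ⟨14392, 1, 1⟩)))))) (.node 16 (.node 8 (.node 4 (.node 2 (.node 1 (.one ⟨9946, 0, 3⟩) (.one ⟨16882, 1, 1⟩)) (.node 1 (.one ⟨946, 1, 2⟩) (.one ⟨12610, 0, 1⟩))) (.node 2 (.node 1 (.one ⟨3799, 0, 1⟩) (.one ⟨5842, 1, 1⟩)) (.node 1 (.one ⟨2703, 0, 3⟩) (.one ⟨16003, 1, 2⟩)))) (.node 4 (.node 2 (.node 1 (.one ⟨5003, 1, 2⟩) (.one ⟨10351, 0, 3⟩)) (.node 1 (.one ⟨1166, 1, 2⟩) (.one ⟨4713, 1, 2⟩))) (.node 2 (.node 1 (.one ⟨5747, 0, 3⟩) (.one ⟨1864, 1, 2⟩)) (.node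 1 (.one ⟨14978, 1, 2⟩) (.one ⟨2593, 1, 0⟩))))) (.node 8 (.node 4 (.node 2 (.node 1 (.one ⟨4362, 1, 2⟩) (.one ⟨3206, 1, 0⟩)) (.node 1 (.one ⟨5452, 0, 1⟩) (.one ⟨6264, 1, 1⟩))) (.node 2 (.node 1 (.one ⟨4742, 0, 3⟩) (.one ⟨7013, 0, 3⟩)) (.node 1 (.one ⟨15127, 0, 3⟩) (.one ⟨280, 1, 0⟩)))) (.node 4 (.node 2 (.node 1 (.one ⟨3200, 0, 1⟩) (.one ⟨4272, 0, 0⟩)) (.node 1 (.one ⟨1192, 1, 1⟩) (.one ⟨1562, 1, 0⟩))) (.node 2 (.node 1 (.one ⟨302, 0, 1⟩) (.one ⟨11201, 0, 2⟩)) (.node 1 (.one ⟨1658, 0, 3⟩) (.one ⟨108, 1, 0⟩)))))))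
def par5_12_13 : Arr Par :=
  (.node 32 (.node 16 (.node 8 (.node 4 (.node 2 (.node 1 (.one ⟨6474, 0, 3⟩) (.one ⟨669, 1, 0⟩)) (.node 1 (.one ⟨12493, 0, 2⟩) (.one ⟨13113, 1, 1⟩))) (.node 2 (.node 1 (.one ⟨2508, 1, 1⟩) (.one ⟨15796, 0, 1⟩)) (.node 1 (.one ⟨12477, 0, 3⟩) (.one ⟨15316, 0, 1⟩)))) (.node 4 (.node 2 (.node 1 (.one ⟨7380, 0, 1⟩) (.one ⟨3233, 1, 1⟩)) (.node 1 (.one ⟨1289, 1, 1⟩) (.one ⟨3664, 1, 0⟩))) (.node 2 (.node 1 (.one ⟨14142, 0, 1⟩) (.one ⟨6384, 0, 2⟩)) (.node 1 (.one ⟨1485, 1, 0⟩) (.one ⟨1196, 1, 1⟩))))) (.node 8 (.node 4 (.node 2 (.node 1 (.one ⟨4471, 0, 3⟩) (.one ⟨16234, 0, 3⟩)) (.node 1 (.one ⟨3290, 1, 1⟩) (.one ⟨802, 0, 1⟩))) (.node 2 (.node 1 (.one ⟨17045, 1, 2⟩) (.one ⟨15759, 1, 2⟩)) (.node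 1 (.one ⟨7231, 1, 2⟩) (.one ⟨2245, 1, 0⟩)))) (.node 4 (.node 2 (.node 1 (.one ⟨262, 1, 1⟩) (.one ⟨12343, 1, 2⟩)) (.node 1 (.one ⟨8443, 0, 2⟩) (.one ⟨12925, 0, 1⟩))) (.node 2 (.node 1 (.one ⟨3312, 1, 0⟩) (.one ⟨8238, 0, 1⟩)) (.node 1 (.one ⟨13209, 0, 1⟩) (.one ⟨3959, 0, 3⟩)))))) (.node 16 (.node 8 (.node 4 (.node 2 (.node 1 (.one ⟨11896, 0, 3⟩) (.one ⟨8590, 0, 3⟩)) (.node 1 (.one ⟨17011, 0, 3⟩) (.one ⟨15626, 0, 3⟩))) (.node 2 (.node 1 (.one ⟨1290, 1, 1⟩) (.one ⟨9619, 0, 2⟩)) (.node 1 (.one ⟨2692, 0, 3⟩) (.one ⟨1200, 1, 0⟩)))) (.node 4 (.node 2 (.node 1 (.one ⟨15380, 0, 2⟩) (.one ⟨4646, 1, 0⟩)) (.node 1 (.one ⟨16400, 0, 3⟩) (.one ⟨12474, 0, 2⟩))) (.node 2 (.node 1 (.one ⟨1195, 1, 0⟩) (.one ⟨11361, 0, 1⟩)) (.node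 1 (.one ⟨2521, 1, 0⟩) (.one ⟨6808, 0, 3⟩))))) (.node 8 (.node 4 (.node 2 (.node 1 (.one ⟨9979, 0, 3⟩) (.one ⟨2438, 0, 3⟩)) (.node 1 (.one ⟨1378, 1, 1⟩) (.one ⟨13183, 1, 2⟩))) (.node 2 (.node 1 (.one ⟨2630, 0, 3⟩) (.one ⟨5506, 1, 1⟩)) (.node 1 (.one ⟨6969, 0, 3⟩) (.one ⟨8796, 0, 2⟩)))) (.node 4 (.node 2 (.node 1 (.one ⟨4601, 0, 2⟩) (.one ⟨347, 1, 0⟩)) (.node 1 (.one ⟨967, 1, 0⟩) (.one ⟨14263, 0, 1⟩))) (.node 2 (.node 1 (.one ⟨14999, 1, 2⟩) (.one ⟨6291, 0, 3⟩)) (.node 1 (.one ⟨424, 0, 1⟩) (.one ⟨8713, 0, 1⟩)))))))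
def par5_12_14 : Arr Par :=
  (.node 32 (.node 16 (.node 8 (.node 4 (.node 2 (.node 1 (.one ⟨165, 0, 2⟩) (.one ⟨15449, 0, 2⟩)) (.node 1 (.one ⟨12433, 0, 2⟩) (.one ⟨12373, 0, 1⟩))) (.node 2 (.node 1 (.one ⟨1377, 1, 1⟩) (.one ⟨1330, 0, 2⟩)) (.node 1 (.one ⟨8744, 0, 3⟩) (.one ⟨17175, 1, 2⟩)))) (.node 4 (.node 2 (.node 1 (.one ⟨3378, 1, 0⟩) (.one ⟨1933, 1, 2⟩)) (.node 1 (.one ⟨2028, 1, 0⟩) (.one ⟨14996, 1, 2⟩))) (.node 2 (.node 1 (.one ⟨2823, 1, 0⟩) (.one ⟨4153, 1, 2⟩)) (.node 1 (.one ⟨1749, 1, 0⟩) (.one ⟨13854, 0, 2⟩))))) (.node 8 (.node 4 (.node 2 (.node 1 (.one ⟨12031, 1, 2⟩) (.one ⟨15406, 1, 2⟩)) (.node 1 (.one ⟨1392, 1, 1⟩) (.one ⟨17156, 1, 2⟩))) (.node 2 (.node 1 (.one ⟨3636, 1, 1⟩) (.one ⟨10637, 0, 2⟩))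 (.node 1 (.one ⟨10666, 1, 2⟩) (.one ⟨1197, 0, 2⟩)))) (.node 4 (.node 2 (.node 1 (.one ⟨6284, 1, 1⟩) (.one ⟨2140, 0, 0⟩)) (.node 1 (.one ⟨5186, 0, 1⟩) (.one ⟨13993, 0, 3⟩))) (.node 2 (.node 1 (.one ⟨17039, 1, 1⟩) (.one ⟨8943, 0, 2⟩)) (.node 1 (.one ⟨16888, 0, 1⟩) (.one ⟨2788, 0, 3⟩)))))) (.node 16 (.node 8 (.node 4 (.node 2 (.node 1 (.one ⟨16567, 0, 2⟩) (.one ⟨16479, 0, 2⟩)) (.node 1 (.one ⟨3020, 0, 3⟩) (.one ⟨1433, 1, 0⟩))) (.node 2 (.node 1 (.one ⟨6743, 0, 2⟩) (.one ⟨6991, 0, 2⟩)) (.node 1 (.one ⟨12634, 0, 2⟩) (.one ⟨16883, 0, 3⟩)))) (.node 4 (.node 2 (.node 1 (.one ⟨2695, 1, 0⟩) (.one ⟨13614, 0, 1⟩)) (.node 1 (.one ⟨2176, 1, 0⟩) (.one ⟨13210, 1, 2⟩))) (.node 2 (.node 1 (.one ⟨4529, 0, 3⟩) (.one ⟨14855, 0,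 1⟩)) (.node 1 (.one ⟨13838, 1, 2⟩) (.one ⟨14777, 0, 1⟩))))) (.node 8 (.node 4 (.node 2 (.node 1 (.one ⟨14225, 0, 2⟩) (.one ⟨3069, 1, 2⟩)) (.node 1 (.one ⟨3643, 0, 1⟩) (.one ⟨16969, 1, 1⟩))) (.node 2 (.node 1 (.one ⟨2616, 1, 1⟩) (.one ⟨724, 0, 0⟩)) (.node 1 (.one ⟨4983, 1, 2⟩) (.one ⟨15143, 0, 2⟩)))) (.node 4 (.node 2 (.node 1 (.one ⟨5135, 1, 1⟩) (.one ⟨4088, 1, 2⟩)) (.node 1 (.one ⟨2983, 1, 1⟩) (.one ⟨5634, 0, 2⟩))) (.node 2 (.node 1 (.one ⟨9444, 0, 2⟩) (.one ⟨6064, 1, 2⟩)) (.node 1 (.one ⟨8786, 1, 1⟩) (.one ⟨14808, 0, 2⟩)))))))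
def par5_12_15 : Arr Par :=
  (.node 32 (.node 16 (.node 8 (.node 4 (.node 2 (.node 1 (.one ⟨14820, 0, 2⟩) (.one ⟨10051, 0, 2⟩)) (.node 1 (.one ⟨10043, 0, 2⟩) (.one ⟨1928, 0, 0⟩))) (.node 2 (.node 1 (.one ⟨2371, 1, 0⟩) (.one ⟨3035, 1, 0⟩)) (.node 1 (.one ⟨604, 0, 0⟩) (.one ⟨364, 1, 0⟩)))) (.node 4 (.node 2 (.node 1 (.one ⟨11489, 0, 2⟩) (.one ⟨12603, 0, 1⟩)) (.node 1 (.one ⟨16659, 0, 1⟩) (.one ⟨7707, 1, 1⟩))) (.node 2 (.node 1 (.one ⟨2257, 0, 2⟩) (.one ⟨3642, 1, 2⟩)) (.node 1 (.one ⟨7797, 0, 2⟩) (.one ⟨181, 0, 0⟩))))) (.node 8 (.node 4 (.node 2 (.node 1 (.one ⟨12665, 0, 2⟩) (.one ⟨11339, 1, 1⟩)) (.node 1 (.one ⟨8191, 0, 2⟩) (.one ⟨8217, 0, 2⟩))) (.node 2 (.node 1 (.one ⟨15523, 0, 3⟩) (.one ⟨1520, 1, 0⟩)) (.node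 1 (.one ⟨10386, 1, 1⟩) (.one ⟨1097, 1, 0⟩)))) (.node 4 (.node 2 (.node 1 (.one ⟨8869, 0, 2⟩) (.one ⟨1110, 0, 1⟩)) (.node 1 (.one ⟨16896, 0, 1⟩) (.one ⟨9524, 0, 1⟩))) (.node 2 (.node 1 (.one ⟨3920, 1, 1⟩) (.one ⟨1322, 0, 1⟩)) (.node 1 (.one ⟨12400, 1, 1⟩) (.one ⟨145, 0, 1⟩)))))) (.node 16 (.node 8 (.node 4 (.node 2 (.node 1 (.one ⟨1191, 0, 0⟩) (.one ⟨16202, 0, 1⟩)) (.node 1 (.one ⟨5341, 1, 2⟩) (.one ⟨14549, 1, 2⟩))) (.node 2 (.node 1 (.one ⟨15204, 0, 1⟩) (.one ⟨2288, 1, 1⟩)) (.node 1 (.one ⟨4789, 0, 3⟩) (.one ⟨7537, 0, 2⟩)))) (.node 4 (.node 2 (.node 1 (.one ⟨8633, 0, 2⟩) (.one ⟨12279, 0, 2⟩)) (.node 1 (.one ⟨10240, 0, 2⟩) (.one ⟨15466, 0, 2⟩))) (.node 2 (.node 1 (.one ⟨16546, 0, 3⟩) (.one ⟨11957, 1, 1⟩)) (.node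 1 (.one ⟨1194, 0, 2⟩) (.one ⟨4838, 0, 2⟩))))) (.node 8 (.node 4 (.node 2 (.node 1 (.one ⟨8221, 0, 1⟩) (.one ⟨3355, 0, 2⟩)) (.node 1 (.one ⟨5892, 0, 3⟩) (.one ⟨16041, 1, 2⟩))) (.node 2 (.node 1 (.one ⟨16461, 0, 3⟩) (.one ⟨2002, 1, 0⟩)) (.node 1 (.one ⟨15205, 0, 2⟩) (.one ⟨14398, 1, 2⟩)))) (.node 4 (.node 2 (.node 1 (.one ⟨566, 1, 0⟩) (.one ⟨5236, 1, 1⟩)) (.node 1 (.one ⟨136, 1, 2⟩) (.one ⟨43, 0, 1⟩))) (.node 2 (.node 1 (.one ⟨15880, 1, 2⟩) (.one ⟨3926, 1, 1⟩)) (.node 1 (.one ⟨13592, 0, 1⟩) (.one ⟨11817, 1, 2⟩)))))))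
def par5_12 : Arr Par :=
  (.node 512 (.node 256 (.node 128 (.node 64 par5_12_0 par5_12_1) (.node 64 par5_12_2 par5_12_3)) (.node 128 (.node 64 par5_12_4 par5_12_5) (.node 64 par5_12_6 par5_12_7))) (.node 256 (.node 128 (.node 64 par5_12_8 par5_12_9) (.node 64 par5_12_10 par5_12_11)) (.node 128 (.node 64 par5_12_12 par5_12_13) (.node 64 par5_12_14 par5_12_15))))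
def par5_13_0 : Arr Par :=
  (.node 32 (.node 16 (.node 8 (.node 4 (.node 2 (.node 1 (.one ⟨1389, 1, 0⟩) (.one ⟨13116, 1, 2⟩)) (.node 1 (.one ⟨7811, 0, 2⟩) (.one ⟨2100, 1, 1⟩))) (.node 2 (.node 1 (.one ⟨7956, 1, 2⟩) (.one ⟨1966, 1, 0⟩)) (.node 1 (.one ⟨3004, 1, 0⟩) (.one ⟨9654, 0, 3⟩)))) (.node 4 (.node 2 (.node 1 (.one ⟨5248, 1, 1⟩) (.one ⟨131, 1, 1⟩)) (.node 1 (.one ⟨12654, 0, 2⟩) (.one ⟨5253, 1, 2⟩))) (.node 2 (.node 1 (.one ⟨76, 1, 2⟩) (.one ⟨15125, 0, 2⟩)) (.node 1 (.one ⟨1017, 1, 1⟩) (.one ⟨16993, 1, 1⟩))))) (.node 8 (.node 4 (.node 2 (.node 1 (.one ⟨10671, 1, 2⟩) (.one ⟨1462, 0, 2⟩)) (.node 1 (.one ⟨1237, 0, 2⟩) (.one ⟨1086, 0, 2⟩))) (.node 2 (.node 1 (.one ⟨1421, 0, 3⟩) (.one ⟨4161, 0, 0⟩)) (.node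 1 (.one ⟨2292, 1, 0⟩) (.one ⟨17114, 0, 2⟩)))) (.node 4 (.node 2 (.node 1 (.one ⟨17112, 0, 2⟩) (.one ⟨13438, 1, 1⟩)) (.node 1 (.one ⟨14148, 1, 1⟩) (.one ⟨17115, 0, 3⟩))) (.node 2 (.node 1 (.one ⟨1964, 1, 0⟩) (.one ⟨14673, 1, 2⟩)) (.node 1 (.one ⟨2201, 1, 0⟩) (.one ⟨4413, 1, 0⟩)))))) (.node 16 (.node 8 (.node 4 (.node 2 (.node 1 (.one ⟨704, 1, 0⟩) (.one ⟨11120, 0, 3⟩)) (.node 1 (.one ⟨494, 1, 0⟩) (.one ⟨13041, 1, 1⟩))) (.node 2 (.node 1 (.one ⟨15771, 0, 2⟩) (.one ⟨11095, 1, 1⟩)) (.node 1 (.one ⟨16806, 0, 1⟩) (.one ⟨16116, 0, 2⟩)))) (.node 4 (.node 2 (.node 1 (.one ⟨1109, 1, 0⟩) (.one ⟨5797, 0, 2⟩)) (.node 1 (.one ⟨6949, 0, 3⟩) (.one ⟨9337, 0, 2⟩))) (.node 2 (.node 1 (.one ⟨11089, 0, 3⟩) (.one ⟨3737, 0, 2⟩))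 (.node 1 (.one ⟨12541, 1, 2⟩) (.one ⟨1062, 1, 0⟩))))) (.node 8 (.node 4 (.node 2 (.node 1 (.one ⟨11055, 1, 2⟩) (.one ⟨17095, 1, 2⟩)) (.node 1 (.one ⟨3115, 0, 0⟩) (.one ⟨1923, 1, 0⟩))) (.node 2 (.node 1 (.one ⟨928, 1, 1⟩) (.one ⟨2294, 1, 0⟩)) (.node 1 (.one ⟨10162, 0, 1⟩) (.one ⟨2789, 0, 1⟩)))) (.node 4 (.node 2 (.node 1 (.one ⟨3477, 0, 2⟩) (.one ⟨14975, 0, 2⟩)) (.node 1 (.one ⟨15391, 0, 2⟩) (.one ⟨8967, 0, 2⟩))) (.node 2 (.node 1 (.one ⟨8631, 0, 2⟩) (.one ⟨11040, 1, 1⟩)) (.node 1 (.one ⟨3743, 1, 1⟩) (.one ⟨8811, 1, 2⟩)))))))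
def par5_13_1 : Arr Par :=
  (.node 32 (.node 16 (.node 8 (.node 4 (.node 2 (.node 1 (.one ⟨1382, 1, 0⟩) (.one ⟨2641, 1, 1⟩)) (.node 1 (.one ⟨6543, 1, 1⟩) (.one ⟨4798, 0, 3⟩))) (.node 2 (.node 1 (.one ⟨960, 0, 3⟩) (.one ⟨15351, 0, 3⟩)) (.node 1 (.one ⟨16271, 0, 3⟩) (.one ⟨4084, 1, 1⟩)))) (.node 4 (.node 2 (.node 1 (.one ⟨3625, 1, 1⟩) (.one ⟨730, 0, 2⟩)) (.node 1 (.one ⟨3419, 1, 2⟩) (.one ⟨5564, 0, 3⟩))) (.node 2 (.node 1 (.one ⟨4987, 1, 1⟩) (.one ⟨915, 1, 1⟩)) (.node 1 (.one ⟨2249, 1, 2⟩) (.one ⟨11729, 0, 1⟩))))) (.node 8 (.node 4 (.node 2 (.node 1 (.one ⟨16347, 0, 3⟩) (.one ⟨2452, 0, 1⟩)) (.node 1 (.one ⟨14382, 1, 1⟩) (.one ⟨6213, 1, 1⟩))) (.node 2 (.node 1 (.one ⟨834, 1, 0⟩) (.one ⟨16076, 0, 3⟩)) (.node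 1 (.one ⟨12489, 0, 1⟩) (.one ⟨2797, 0, 1⟩)))) (.node 4 (.node 2 (.node 1 (.one ⟨11747, 0, 2⟩) (.one ⟨705, 1, 2⟩)) (.node 1 (.one ⟨11477, 1, 2⟩) (.one ⟨12686, 1, 2⟩))) (.node 2 (.node 1 (.one ⟨4411, 1, 1⟩) (.one ⟨1996, 0, 2⟩)) (.node 1 (.one ⟨12606, 0, 2⟩) (.one ⟨16068, 0, 2⟩)))))) (.node 16 (.node 8 (.node 4 (.node 2 (.node 1 (.one ⟨2408, 1, 0⟩) (.one ⟨1283, 0, 0⟩)) (.node 1 (.one ⟨2828, 1, 0⟩) (.one ⟨1902, 1, 0⟩))) (.node 2 (.node 1 (.one ⟨15352, 0, 2⟩) (.one ⟨755, 1, 0⟩)) (.node 1 (.one ⟨16148, 1, 2⟩) (.one ⟨1613, 0, 0⟩)))) (.node 4 (.node 2 (.node 1 (.one ⟨11969, 0, 2⟩) (.one ⟨11265, 0, 2⟩)) (.node 1 (.one ⟨6876, 0, 3⟩) (.one ⟨3782, 1, 0⟩))) (.node 2 (.node 1 (.one ⟨14578, 0, 3⟩) (.one ⟨17077, 0, 2⟩)) (.node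 1 (.one ⟨1779, 1, 0⟩) (.one ⟨3244, 1, 0⟩))))) (.node 8 (.node 4 (.node 2 (.node 1 (.one ⟨10126, 0, 2⟩) (.one ⟨6024, 0, 2⟩)) (.node 1 (.one ⟨6471, 1, 2⟩) (.one ⟨2964, 1, 0⟩))) (.node 2 (.node 1 (.one ⟨15469, 0, 2⟩) (.one ⟨3239, 0, 2⟩)) (.node 1 (.one ⟨1915, 0, 1⟩) (.one ⟨8243, 1, 2⟩)))) (.node 4 (.node 2 (.node 1 (.one ⟨8030, 1, 2⟩) (.one ⟨11357, 0, 2⟩)) (.node 1 (.one ⟨14422, 0, 3⟩) (.one ⟨7785, 0, 3⟩))) (.node 2 (.node 1 (.one ⟨4820, 0, 2⟩) (.one ⟨12802, 1, 2⟩)) (.node 1 (.one ⟨2523, 1, 0⟩) (.one ⟨5193, 0, 2⟩)))))))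
def par5_13_2 : Arr Par :=
  (.node 32 (.node 16 (.node 8 (.node 4 (.node 2 (.node 1 (.one ⟨2939, 1, 0⟩) (.one ⟨7499, 0, 3⟩)) (.node 1 (.one ⟨13257, 1, 2⟩) (.one ⟨17160, 1, 2⟩))) (.node 2 (.node 1 (.one ⟨6927, 1, 2⟩) (.one ⟨7122, 0, 3⟩)) (.node 1 (.one ⟨15071, 0, 2⟩) (.one ⟨2304, 0, 0⟩)))) (.node 4 (.node 2 (.node 1 (.one ⟨4633, 1, 2⟩) (.one ⟨11268, 0, 2⟩)) (.node 1 (.one ⟨10004, 1, 2⟩) (.one ⟨2487, 1, 1⟩))) (.node 2 (.node 1 (.one ⟨10568, 0, 3⟩) (.one ⟨13128, 1, 2⟩)) (.node 1 (.one ⟨3420, 1, 2⟩) (.one ⟨3547, 1, 1⟩))))) (.node 8 (.node 4 (.node 2 (.node 1 (.one ⟨14778, 0, 2⟩) (.one ⟨16783, 1, 2⟩)) (.node 1 (.one ⟨8773, 1, 2⟩) (.one ⟨16762, 0, 3⟩))) (.node 2 (.node 1 (.one ⟨1586, 1, 2⟩) (.one ⟨2269, 0, 3⟩))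 (.node 1 (.one ⟨5573, 0, 2⟩) (.one ⟨5831, 0, 2⟩)))) (.node 4 (.node 2 (.node 1 (.one ⟨5379, 1, 2⟩) (.one ⟨9043, 0, 3⟩)) (.node 1 (.one ⟨5378, 1, 2⟩) (.one ⟨5380, 1, 1⟩))) (.node 2 (.node 1 (.one ⟨15291, 0, 1⟩) (.one ⟨15635, 0, 2⟩)) (.node 1 (.one ⟨16088, 0, 3⟩) (.one ⟨2270, 0, 3⟩)))))) (.node 16 (.node 8 (.node 4 (.node 2 (.node 1 (.one ⟨7806, 0, 2⟩) (.one ⟨10071, 0, 2⟩)) (.node 1 (.one ⟨16328, 0, 3⟩) (.one ⟨16519, 1, 1⟩))) (.node 2 (.node 1 (.one ⟨814, 1, 0⟩) (.one ⟨3023, 1, 1⟩)) (.node 1 (.one ⟨4666, 1, 0⟩) (.one ⟨7496, 1, 2⟩)))) (.node 4 (.node 2 (.node 1 (.one ⟨15076, 1, 2⟩) (.one ⟨3178, 1, 0⟩)) (.node 1 (.one ⟨8407, 1, 2⟩) (.one ⟨2334, 1, 2⟩))) (.node 2 (.node 1 (.one ⟨39, 0, 3⟩) (.one ⟨14246, 0, 3⟩))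 (.node 1 (.one ⟨3722, 1, 2⟩) (.one ⟨16484, 1, 2⟩))))) (.node 8 (.node 4 (.node 2 (.node 1 (.one ⟨11441, 0, 1⟩) (.one ⟨11440, 0, 2⟩)) (.node 1 (.one ⟨9285, 1, 1⟩) (.one ⟨14720, 0, 1⟩))) (.node 2 (.node 1 (.one ⟨11445, 0, 2⟩) (.one ⟨11444, 0, 3⟩)) (.node 1 (.one ⟨3214, 1, 0⟩) (.one ⟨2547, 0, 1⟩)))) (.node 4 (.node 2 (.node 1 (.one ⟨11605, 0, 2⟩) (.one ⟨2170, 0, 3⟩)) (.node 1 (.one ⟨11983, 0, 1⟩) (.one ⟨8839, 1, 2⟩))) (.node 2 (.node 1 (.one ⟨3318, 1, 0⟩) (.one ⟨3712, 0, 0⟩)) (.node 1 (.one ⟨869, 0, 1⟩) (.one ⟨13635, 0, 2⟩)))))))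
def par5_13_3 : Arr Par :=
  (.node 32 (.node 16 (.node 8 (.node 4 (.node 2 (.node 1 (.one ⟨172, 1, 0⟩) (.one ⟨9284, 1, 1⟩)) (.node 1 (.one ⟨11075, 0, 1⟩) (.one ⟨6396, 1, 1⟩))) (.node 2 (.node 1 (.one ⟨3823, 0, 3⟩) (.one ⟨2477, 1, 2⟩)) (.node 1 (.one ⟨1414, 1, 0⟩) (.one ⟨5089, 1, 0⟩)))) (.node 4 (.node 2 (.node 1 (.one ⟨5440, 1, 2⟩) (.one ⟨3325, 1, 0⟩)) (.node 1 (.one ⟨2263, 1, 0⟩) (.one ⟨409, 1, 0⟩))) (.node 2 (.node 1 (.one ⟨467, 1, 0⟩) (.one ⟨634, 1, 0⟩)) (.node 1 (.one ⟨12599, 0, 2⟩) (.one ⟨15557, 0, 3⟩))))) (.node 8 (.node 4 (.node 2 (.node 1 (.one ⟨159, 1, 0⟩) (.one ⟨540, 1, 0⟩)) (.node 1 (.one ⟨14333, 1, 2⟩) (.one ⟨11990, 0, 1⟩))) (.node 2 (.node 1 (.one ⟨16601, 0, 3⟩) (.one ⟨14100, 0, 3⟩)) (.node 1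 (.one ⟨546, 1, 0⟩) (.one ⟨3606, 0, 3⟩)))) (.node 4 (.node 2 (.node 1 (.one ⟨16600, 0, 3⟩) (.one ⟨9414, 0, 2⟩)) (.node 1 (.one ⟨7040, 0, 3⟩) (.one ⟨274, 0, 3⟩))) (.node 2 (.node 1 (.one ⟨9283, 1, 1⟩) (.one ⟨11641, 0, 3⟩)) (.node 1 (.one ⟨8621, 0, 3⟩) (.one ⟨11025, 0, 3⟩)))))) (.node 16 (.node 8 (.node 4 (.node 2 (.node 1 (.one ⟨7939, 0, 2⟩) (.one ⟨7592, 0, 2⟩)) (.node 1 (.one ⟨12453, 0, 1⟩) (.one ⟨10716, 1, 2⟩))) (.node 2 (.node 1 (.one ⟨554, 1, 0⟩) (.one ⟨1996, 1, 0⟩)) (.node 1 (.one ⟨14107, 0, 1⟩) (.one ⟨8901, 1, 2⟩)))) (.node 4 (.node 2 (.node 1 (.one ⟨4813, 1, 0⟩) (.one ⟨12058, 0, 2⟩)) (.node 1 (.one ⟨10457, 1, 2⟩) (.one ⟨9286, 1, 1⟩))) (.node 2 (.node 1 (.one ⟨16694, 0, 2⟩) (.one ⟨2377, 1, 2⟩)) (.node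 1 (.one ⟨8383, 1, 1⟩) (.one ⟨10177, 0, 1⟩))))) (.node 8 (.node 4 (.node 2 (.node 1 (.one ⟨11897, 0, 3⟩) (.one ⟨13105, 0, 1⟩)) (.node 1 (.one ⟨11290, 0, 3⟩) (.one ⟨10583, 0, 1⟩))) (.node 2 (.node 1 (.one ⟨12321, 0, 3⟩) (.one ⟨12863, 0, 3⟩)) (.node 1 (.one ⟨10925, 0, 2⟩) (.one ⟨7557, 0, 2⟩)))) (.node 4 (.node 2 (.node 1 (.one ⟨880, 1, 1⟩) (.one ⟨1063, 1, 2⟩)) (.node 1 (.one ⟨7458, 0, 2⟩) (.one ⟨13364, 0, 2⟩))) (.node 2 (.node 1 (.one ⟨1043, 1, 2⟩) (.one ⟨916, 1, 1⟩)) (.node 1 (.one ⟨13306, 0, 3⟩) (.one ⟨4662, 1, 2⟩)))))))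
def par5_13_4 : Arr Par :=
  (.node 32 (.node 16 (.node 8 (.node 4 (.node 2 (.node 1 (.one ⟨17060, 0, 2⟩) (.one ⟨17030, 1, 2⟩)) (.node 1 (.one ⟨11291, 0, 3⟩) (.one ⟨12584, 1, 2⟩))) (.node 2 (.node 1 (.one ⟨6388, 0, 3⟩) (.one ⟨7944, 1, 2⟩)) (.node 1 (.one ⟨453, 1, 2⟩) (.one ⟨9438, 1, 1⟩)))) (.node 4 (.node 2 (.node 1 (.one ⟨401, 0, 3⟩) (.one ⟨15377, 0, 3⟩)) (.node 1 (.one ⟨9734, 0, 3⟩) (.one ⟨8999, 0, 3⟩))) (.node 2 (.node 1 (.one ⟨3599, 0, 3⟩) (.one ⟨16963, 0, 3⟩)) (.node 1 (.one ⟨1146, 0, 0⟩) (.one ⟨5806, 1, 1⟩))))) (.node 8 (.node 4 (.node 2 (.node 1 (.one ⟨1991, 1, 0⟩) (.one ⟨2765, 0, 1⟩)) (.node 1 (.one ⟨5443, 1, 1⟩) (.one ⟨17183, 1, 1⟩))) (.node 2 (.node 1 (.one ⟨11288, 0, 3⟩) (.one ⟨9437, 1, 1⟩)) (.node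 1 (.one ⟨14430, 0, 1⟩) (.one ⟨4591, 1, 0⟩)))) (.node 4 (.node 2 (.node 1 (.one ⟨1822, 1, 0⟩) (.one ⟨16962, 0, 1⟩)) (.node 1 (.one ⟨549, 0, 3⟩) (.one ⟨8887, 0, 3⟩))) (.node 2 (.node 1 (.one ⟨9281, 0, 2⟩) (.one ⟨6319, 1, 1⟩)) (.node 1 (.one ⟨710, 0, 0⟩) (.one ⟨13460, 0, 3⟩)))))) (.node 16 (.node 8 (.node 4 (.node 2 (.node 1 (.one ⟨2879, 1, 0⟩) (.one ⟨17057, 1, 2⟩)) (.node 1 (.one ⟨1359, 1, 0⟩) (.one ⟨7506, 0, 3⟩))) (.node 2 (.node 1 (.one ⟨11293, 0, 3⟩) (.one ⟨56, 1, 1⟩)) (.node 1 (.one ⟨390, 1, 1⟩) (.one ⟨8310, 1, 2⟩)))) (.node 4 (.node 2 (.node 1 (.one ⟨3165, 0, 0⟩) (.one ⟨2676, 1, 2⟩)) (.node 1 (.one ⟨5536, 1, 2⟩) (.one ⟨5007, 1, 0⟩))) (.node 2 (.node 1 (.one ⟨15877, 1, 2⟩) (.one ⟨12640, 1, 2⟩)) (.node 1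 (.one ⟨4970, 1, 0⟩) (.one ⟨11942, 0, 1⟩))))) (.node 8 (.node 4 (.node 2 (.node 1 (.one ⟨16956, 0, 2⟩) (.one ⟨10731, 0, 1⟩)) (.node 1 (.one ⟨412, 1, 0⟩) (.one ⟨12314, 0, 2⟩))) (.node 2 (.node 1 (.one ⟨16434, 0, 2⟩) (.one ⟨4707, 1, 2⟩)) (.node 1 (.one ⟨15152, 0, 3⟩) (.one ⟨2251, 0, 2⟩)))) (.node 4 (.node 2 (.node 1 (.one ⟨16436, 0, 3⟩) (.one ⟨1801, 1, 1⟩)) (.node 1 (.one ⟨2231, 1, 0⟩) (.one ⟨964, 1, 1⟩))) (.node 2 (.node 1 (.one ⟨473, 1, 0⟩) (.one ⟨2560, 1, 2⟩)) (.node 1 (.one ⟨14289, 0, 2⟩) (.one ⟨5270, 0, 2⟩)))))))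
def par5_13_5 : Arr Par :=
  (.node 32 (.node 16 (.node 8 (.node 4 (.node 2 (.node 1 (.one ⟨14130, 0, 2⟩) (.one ⟨2640, 1, 0⟩)) (.node 1 (.one ⟨6062, 1, 2⟩) (.one ⟨5650, 1, 1⟩))) (.node 2 (.node 1 (.one ⟨2530, 1, 2⟩) (.one ⟨9359, 0, 1⟩)) (.node 1 (.one ⟨9093, 0, 2⟩) (.one ⟨3138, 1, 2⟩)))) (.node 4 (.node 2 (.node 1 (.one ⟨7170, 1, 2⟩) (.one ⟨5764, 1, 2⟩)) (.node 1 (.one ⟨10934, 0, 3⟩) (.one ⟨8228, 1, 1⟩))) (.node 2 (.node 1 (.one ⟨13403, 0, 3⟩) (.one ⟨1017, 1, 0⟩)) (.node 1 (.one ⟨8482, 1, 2⟩) (.one ⟨7519, 0, 3⟩))))) (.node 8 (.node 4 (.node 2 (.node 1 (.one ⟨7522, 0, 2⟩) (.one ⟨1873, 1, 1⟩)) (.node 1 (.one ⟨1876, 1, 1⟩) (.one ⟨7525, 0, 2⟩))) (.node 2 (.node 1 (.one ⟨7524, 0, 1⟩) (.one ⟨1878, 1, 1⟩)) (.node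 1 (.one ⟨7523, 0, 3⟩) (.one ⟨15423, 0, 3⟩)))) (.node 4 (.node 2 (.node 1 (.one ⟨2128, 1, 2⟩) (.one ⟨1704, 1, 0⟩)) (.node 1 (.one ⟨9319, 0, 1⟩) (.one ⟨2926, 1, 1⟩))) (.node 2 (.node 1 (.one ⟨4237, 0, 1⟩) (.one ⟨6154, 1, 1⟩)) (.node 1 (.one ⟨3452, 1, 0⟩) (.one ⟨2275, 0, 2⟩)))))) (.node 16 (.node 8 (.node 4 (.node 2 (.node 1 (.one ⟨16901, 0, 1⟩) (.one ⟨15602, 0, 1⟩)) (.node 1 (.one ⟨3735, 1, 1⟩) (.one ⟨2065, 0, 0⟩))) (.node 2 (.node 1 (.one ⟨15969, 0, 3⟩) (.one ⟨3126, 1, 1⟩)) (.node 1 (.one ⟨4611, 0, 1⟩) (.one ⟨6484, 1, 2⟩)))) (.node 4 (.node 2 (.node 1 (.one ⟨6841, 0, 2⟩) (.one ⟨6084, 1, 1⟩)) (.node 1 (.one ⟨15946, 0, 2⟩) (.one ⟨4629, 1, 0⟩))) (.node 2 (.node 1 (.one ⟨3368, 0, 1⟩) (.one ⟨6855, 0, 1⟩)) (.node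 1 (.one ⟨2460, 1, 2⟩) (.one ⟨3317, 1, 0⟩))))) (.node 8 (.node 4 (.node 2 (.node 1 (.one ⟨12430, 0, 2⟩) (.one ⟨7401, 0, 2⟩)) (.node 1 (.one ⟨4246, 0, 2⟩) (.one ⟨14176, 0, 3⟩))) (.node 2 (.node 1 (.one ⟨12713, 0, 2⟩) (.one ⟨13362, 1, 1⟩)) (.node 1 (.one ⟨4751, 0, 2⟩) (.one ⟨9453, 0, 1⟩)))) (.node 4 (.node 2 (.node 1 (.one ⟨1188, 0, 1⟩) (.one ⟨2803, 1, 0⟩)) (.node 1 (.one ⟨1154, 1, 2⟩) (.one ⟨2444, 0, 3⟩))) (.node 2 (.node 1 (.one ⟨3859, 1, 2⟩) (.one ⟨9614, 0, 1⟩)) (.node 1 (.one ⟨575, 0, 1⟩) (.one ⟨12714, 0, 3⟩)))))))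
def par5_13_6 : Arr Par :=
  (.node 32 (.node 16 (.node 8 (.node 4 (.node 2 (.node 1 (.one ⟨4723, 0, 3⟩) (.one ⟨8919, 0, 3⟩)) (.node 1 (.one ⟨822, 1, 0⟩) (.one ⟨10873, 1, 2⟩))) (.node 2 (.node 1 (.one ⟨10823, 0, 3⟩) (.one ⟨15347, 0, 1⟩)) (.node 1 (.one ⟨1977, 1, 0⟩) (.one ⟨809, 0, 2⟩)))) (.node 4 (.node 2 (.node 1 (.one ⟨4043, 0, 2⟩) (.one ⟨8717, 0, 2⟩)) (.node 1 (.one ⟨7493, 0, 2⟩) (.one ⟨1947, 1, 1⟩))) (.node 2 (.node 1 (.one ⟨13237, 1, 1⟩) (.one ⟨9607, 0, 2⟩)) (.node 1 (.one ⟨13409, 1, 1⟩) (.one ⟨5828, 1, 2⟩))))) (.node 8 (.node 4 (.node 2 (.node 1 (.one ⟨4987, 0, 1⟩) (.one ⟨1766, 1, 2⟩)) (.node 1 (.one ⟨5062, 0, 2⟩) (.one ⟨13597, 0, 2⟩))) (.node 2 (.node 1 (.one ⟨10493, 0, 2⟩) (.one ⟨16324, 1, 2⟩)) (.node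 1 (.one ⟨4975, 1, 2⟩) (.one ⟨9405, 0, 2⟩)))) (.node 4 (.node 2 (.node 1 (.one ⟨14555, 0, 3⟩) (.one ⟨14880, 0, 3⟩)) (.node 1 (.one ⟨11487, 0, 3⟩) (.one ⟨1928, 1, 2⟩))) (.node 2 (.node 1 (.one ⟨16871, 1, 1⟩) (.one ⟨6295, 0, 3⟩)) (.node 1 (.one ⟨1895, 0, 3⟩) (.one ⟨10123, 1, 2⟩)))))) (.node 16 (.node 8 (.node 4 (.node 2 (.node 1 (.one ⟨4236, 0, 3⟩) (.one ⟨9075, 0, 2⟩)) (.node 1 (.one ⟨5599, 1, 2⟩) (.one ⟨6676, 0, 3⟩))) (.node 2 (.node 1 (.one ⟨8716, 0, 2⟩) (.one ⟨3862, 0, 1⟩)) (.node 1 (.one ⟨1051, 0, 3⟩) (.one ⟨2710, 0, 2⟩)))) (.node 4 (.node 2 (.node 1 (.one ⟨15480, 1, 2⟩) (.one ⟨6182, 1, 2⟩)) (.node 1 (.one ⟨5187, 0, 2⟩) (.one ⟨6904, 1, 2⟩))) (.node 2 (.node 1 (.one ⟨1089, 1, 0⟩) (.one ⟨2006, 1, 1⟩)) (.node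 1 (.one ⟨3555, 1, 0⟩) (.one ⟨2508, 0, 1⟩))))) (.node 8 (.node 4 (.node 2 (.node 1 (.one ⟨2102, 0, 1⟩) (.one ⟨2581, 1, 0⟩)) (.node 1 (.one ⟨4334, 1, 1⟩) (.one ⟨1306, 0, 3⟩))) (.node 2 (.node 1 (.one ⟨2446, 0, 3⟩) (.one ⟨10576, 0, 3⟩)) (.node 1 (.one ⟨10216, 0, 3⟩) (.one ⟨9944, 1, 2⟩)))) (.node 4 (.node 2 (.node 1 (.one ⟨3703, 1, 0⟩) (.one ⟨1316, 1, 0⟩)) (.node 1 (.one ⟨2622, 1, 0⟩) (.one ⟨6842, 0, 1⟩))) (.node 2 (.node 1 (.one ⟨16322, 0, 3⟩) (.one ⟨13193, 0, 3⟩)) (.node 1 (.one ⟨3376, 1, 0⟩) (.one ⟨14699, 0, 1⟩)))))))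
def par5_13_7 : Arr Par :=
  (.node 32 (.node 16 (.node 8 (.node 4 (.node 2 (.node 1 (.one ⟨945, 0, 1⟩) (.one ⟨689, 1, 1⟩)) (.node 1 (.one ⟨13024, 1, 2⟩) (.one ⟨8360, 0, 1⟩))) (.node 2 (.node 1 (.one ⟨13365, 0, 1⟩) (.one ⟨12167, 0, 2⟩)) (.node 1 (.one ⟨8961, 0, 1⟩) (.one ⟨16269, 0, 1⟩)))) (.node 4 (.node 2 (.node 1 (.one ⟨10928, 1, 1⟩) (.one ⟨14698, 0, 3⟩)) (.node 1 (.one ⟨2807, 0, 1⟩) (.one ⟨13987, 0, 1⟩))) (.node 2 (.node 1 (.one ⟨9392, 1, 1⟩) (.one ⟨16865, 0, 1⟩)) (.node 1 (.one ⟨2017, 1, 1⟩) (.one ⟨6945, 1, 2⟩))))) (.node 8 (.node 4 (.node 2 (.node 1 (.one ⟨3617, 1, 0⟩) (.one ⟨3627, 1, 0⟩)) (.node 1 (.one ⟨6890, 0, 3⟩) (.one ⟨1269, 1, 1⟩))) (.node 2 (.node 1 (.one ⟨7384, 0, 3⟩) (.one ⟨964, 0, 1⟩)) (.node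 1 (.one ⟨1801, 0, 1⟩) (.one ⟨10154, 1, 1⟩)))) (.node 4 (.node 2 (.node 1 (.one ⟨12142, 0, 2⟩) (.one ⟨7966, 0, 3⟩)) (.node 1 (.one ⟨1215, 1, 1⟩) (.one ⟨11350, 0, 1⟩))) (.node 2 (.node 1 (.one ⟨3477, 1, 0⟩) (.one ⟨3294, 0, 2⟩)) (.node 1 (.one ⟨6953, 0, 2⟩) (.one ⟨14700, 0, 3⟩)))))) (.node 16 (.node 8 (.node 4 (.node 2 (.node 1 (.one ⟨8363, 1, 1⟩) (.one ⟨4725, 1, 0⟩)) (.node 1 (.one ⟨15106, 0, 2⟩) (.one ⟨7544, 0, 3⟩))) (.node 2 (.node 1 (.one ⟨5374, 1, 0⟩) (.one ⟨3144, 0, 3⟩)) (.node 1 (.one ⟨7387, 0, 2⟩) (.one ⟨9141, 1, 1⟩)))) (.node 4 (.node 2 (.node 1 (.one ⟨990, 1, 2⟩) (.one ⟨666, 0, 1⟩)) (.node 1 (.one ⟨8376, 1, 1⟩) (.one ⟨13760, 1, 2⟩))) (.node 2 (.node 1 (.one ⟨5705, 1, 2⟩) (.one ⟨12861, 1, 2⟩)) (.node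 1 (.one ⟨4788, 1, 1⟩) (.one ⟨10050, 1, 1⟩))))) (.node 8 (.node 4 (.node 2 (.node 1 (.one ⟨7567, 0, 2⟩) (.one ⟨7375, 0, 3⟩)) (.node 1 (.one ⟨12984, 1, 2⟩) (.one ⟨3165, 0, 1⟩))) (.node 2 (.node 1 (.one ⟨7412, 0, 2⟩) (.one ⟨5269, 1, 2⟩)) (.node 1 (.one ⟨1320, 1, 0⟩) (.one ⟨10833, 1, 2⟩)))) (.node 4 (.node 2 (.node 1 (.one ⟨15108, 0, 3⟩) (.one ⟨11943, 0, 3⟩)) (.node 1 (.one ⟨1080, 1, 0⟩) (.one ⟨16129, 0, 3⟩))) (.node 2 (.node 1 (.one ⟨4557, 0, 2⟩) (.one ⟨5649, 0, 1⟩)) (.node 1 (.one ⟨4759, 1, 0⟩) (.one ⟨2716, 1, 0⟩)))))))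
def par5_13_8 : Arr Par :=
  (.node 32 (.node 16 (.node 8 (.node 4 (.node 2 (.node 1 (.one ⟨947, 1, 0⟩) (.one ⟨4301, 0, 3⟩)) (.node 1 (.one ⟨4991, 0, 3⟩) (.one ⟨15688, 1, 2⟩))) (.node 2 (.node 1 (.one ⟨3147, 0, 3⟩) (.one ⟨6627, 0, 2⟩)) (.node 1 (.one ⟨6272, 0, 1⟩) (.one ⟨348, 0, 1⟩)))) (.node 4 (.node 2 (.node 1 (.one ⟨1062, 0, 1⟩) (.one ⟨839, 0, 1⟩)) (.node 1 (.one ⟨95, 0, 1⟩) (.one ⟨921, 0, 1⟩))) (.node 2 (.node 1 (.one ⟨528, 0, 1⟩) (.one ⟨265, 0, 1⟩)) (.node 1 (.one ⟨690, 0, 1⟩) (.one ⟨645, 1, 1⟩))))) (.node 8 (.node 4 (.node 2 (.node 1 (.one ⟨14847, 0, 2⟩) (.one ⟨10963, 1, 1⟩)) (.node 1 (.one ⟨1226, 0, 1⟩) (.one ⟨2965, 0, 1⟩))) (.node 2 (.node 1 (.one ⟨1266, 1, 1⟩) (.one ⟨14207, 0, 1⟩)) (.node 1 (.one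 ⟨10984, 1, 2⟩) (.one ⟨16735, 0, 3⟩)))) (.node 4 (.node 2 (.node 1 (.one ⟨16736, 0, 3⟩) (.one ⟨13201, 0, 3⟩)) (.node 1 (.one ⟨13202, 0, 2⟩) (.one ⟨16738, 0, 1⟩))) (.node 2 (.node 1 (.one ⟨16737, 0, 3⟩) (.one ⟨13200, 0, 3⟩)) (.node 1 (.one ⟨1220, 1, 1⟩) (.one ⟨2060, 1, 1⟩)))))) (.node 16 (.node 8 (.node 4 (.node 2 (.node 1 (.one ⟨8985, 1, 2⟩) (.one ⟨6987, 1, 2⟩)) (.node 1 (.one ⟨235, 0, 3⟩) (.one ⟨1369, 1, 0⟩))) (.node 2 (.node 1 (.one ⟨5032, 1, 0⟩) (.one ⟨6000, 0, 3⟩)) (.node 1 (.one ⟨16623, 0, 1⟩) (.one ⟨16103, 1, 2⟩)))) (.node 4 (.node 2 (.node 1 (.one ⟨3076, 1, 1⟩) (.one ⟨5774, 1, 2⟩)) (.node 1 (.one ⟨14641, 0, 2⟩) (.one ⟨3656, 1, 1⟩))) (.node 2 (.node 1 (.one ⟨9940, 0, 2⟩) (.one ⟨9142, 1, 1⟩)) (.node 1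 (.one ⟨2327, 0, 1⟩) (.one ⟨13431, 0, 3⟩))))) (.node 8 (.node 4 (.node 2 (.node 1 (.one ⟨15672, 1, 1⟩) (.one ⟨13739, 0, 3⟩)) (.node 1 (.one ⟨10171, 1, 2⟩) (.one ⟨4171, 1, 0⟩))) (.node 2 (.node 1 (.one ⟨2498, 1, 2⟩) (.one ⟨895, 1, 0⟩)) (.node 1 (.one ⟨1410, 1, 0⟩) (.one ⟨1448, 1, 0⟩)))) (.node 4 (.node 2 (.node 1 (.one ⟨11940, 0, 2⟩) (.one ⟨9566, 1, 1⟩)) (.node 1 (.one ⟨2880, 1, 2⟩) (.one ⟨12572, 0, 1⟩))) (.node 2 (.node 1 (.one ⟨10889, 1, 1⟩) (.one ⟨2398, 1, 1⟩)) (.node 1 (.one ⟨14823, 0, 2⟩) (.one ⟨11160, 0, 2⟩)))))))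
def par5_13_9 : Arr Par :=
  (.node 32 (.node 16 (.node 8 (.node 4 (.node 2 (.node 1 (.one ⟨10865, 1, 1⟩) (.one ⟨13071, 0, 3⟩)) (.node 1 (.one ⟨8832, 0, 1⟩) (.one ⟨3287, 0, 1⟩))) (.node 2 (.node 1 (.one ⟨15111, 0, 3⟩) (.one ⟨5103, 0, 2⟩)) (.node 1 (.one ⟨16583, 0, 3⟩) (.one ⟨8865, 0, 3⟩)))) (.node 4 (.node 2 (.node 1 (.one ⟨3387, 1, 0⟩) (.one ⟨3387, 0, 2⟩)) (.node 1 (.one ⟨311, 1, 1⟩) (.one ⟨7750, 0, 3⟩))) (.node 2 (.node 1 (.one ⟨9034, 0, 3⟩) (.one ⟨1898, 0, 3⟩)) (.node 1 (.one ⟨3085, 1, 0⟩) (.one ⟨14925, 0, 1⟩))))) (.node 8 (.node 4 (.node 2 (.node 1 (.one ⟨4191, 1, 2⟩) (.one ⟨12684, 0, 2⟩)) (.node 1 (.one ⟨5385, 1, 0⟩) (.one ⟨4578, 0, 2⟩))) (.node 2 (.node 1 (.one ⟨7894, 0, 3⟩) (.one ⟨416, 1, 0⟩)) (.node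 1 (.one ⟨1700, 0, 3⟩) (.one ⟨16485, 0, 2⟩)))) (.node 4 (.node 2 (.node 1 (.one ⟨12284, 0, 2⟩) (.one ⟨7541, 0, 2⟩)) (.node 1 (.one ⟨1628, 0, 2⟩) (.one ⟨4386, 0, 3⟩))) (.node 2 (.node 1 (.one ⟨12132, 1, 1⟩) (.one ⟨9167, 0, 2⟩)) (.node 1 (.one ⟨9565, 1, 1⟩) (.one ⟨6068, 0, 1⟩)))))) (.node 16 (.node 8 (.node 4 (.node 2 (.node 1 (.one ⟨12140, 0, 2⟩) (.one ⟨16738, 1, 1⟩)) (.node 1 (.one ⟨4918, 0, 3⟩) (.one ⟨2849, 1, 1⟩))) (.node 2 (.node 1 (.one ⟨4681, 0, 1⟩) (.one ⟨3411, 1, 0⟩)) (.node 1 (.one ⟨4456, 1, 0⟩) (.one ⟨10307, 0, 1⟩)))) (.node 4 (.node 2 (.node 1 (.one ⟨1821, 1, 0⟩) (.one ⟨9649, 0, 3⟩)) (.node 1 (.one ⟨11879, 1, 2⟩) (.one ⟨12360, 0, 3⟩))) (.node 2 (.node 1 (.one ⟨3723, 0, 1⟩) (.one ⟨11720, 0, 2⟩)) (.node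 1 (.one ⟨3677, 1, 2⟩) (.one ⟨10945, 1, 2⟩))))) (.node 8 (.node 4 (.node 2 (.node 1 (.one ⟨5456, 0, 3⟩) (.one ⟨7086, 1, 1⟩)) (.node 1 (.one ⟨10989, 1, 2⟩) (.one ⟨4053, 0, 1⟩))) (.node 2 (.node 1 (.one ⟨1420, 1, 1⟩) (.one ⟨292, 1, 2⟩)) (.node 1 (.one ⟨3808, 0, 2⟩) (.one ⟨8873, 0, 3⟩)))) (.node 4 (.node 2 (.node 1 (.one ⟨3007, 0, 2⟩) (.one ⟨8508, 0, 1⟩)) (.node 1 (.one ⟨176, 1, 2⟩) (.one ⟨9543, 1, 1⟩))) (.node 2 (.node 1 (.one ⟨15665, 1, 1⟩) (.one ⟨5931, 1, 2⟩)) (.node 1 (.one ⟨7572, 0, 1⟩) (.one ⟨1480, 1, 0⟩)))))))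
def par5_13_10 : Arr Par :=
  (.node 32 (.node 16 (.node 8 (.node 4 (.node 2 (.node 1 (.one ⟨3814, 0, 1⟩) (.one ⟨3416, 1, 0⟩)) (.node 1 (.one ⟨11623, 0, 3⟩) (.one ⟨1145, 1, 1⟩))) (.node 2 (.node 1 (.one ⟨919, 1, 0⟩) (.one ⟨2372, 1, 2⟩)) (.node 1 (.one ⟨8384, 0, 2⟩) (.one ⟨15422, 1, 1⟩)))) (.node 4 (.node 2 (.node 1 (.one ⟨14674, 1, 2⟩) (.one ⟨14914, 0, 1⟩)) (.node 1 (.one ⟨7582, 1, 2⟩) (.one ⟨3240, 1, 0⟩))) (.node 2 (.node 1 (.one ⟨9068, 0, 1⟩) (.one ⟨2132, 1, 2⟩)) (.node 1 (.one ⟨2598, 1, 2⟩) (.one ⟨1927, 0, 3⟩))))) (.node 8 (.node 4 (.node 2 (.node 1 (.one ⟨1972, 0, 2⟩) (.one ⟨1415, 1, 1⟩)) (.node 1 (.one ⟨2976, 1, 0⟩) (.one ⟨624, 0, 1⟩))) (.node 2 (.node 1 (.one ⟨15119, 1, 2⟩) (.one ⟨16498, 1, 2⟩)) (.node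 1 (.one ⟨4051, 0, 3⟩) (.one ⟨1183, 0, 1⟩)))) (.node 4 (.node 2 (.node 1 (.one ⟨3630, 1, 1⟩) (.one ⟨9179, 0, 1⟩)) (.node 1 (.one ⟨7901, 1, 2⟩) (.one ⟨5900, 1, 2⟩))) (.node 2 (.node 1 (.one ⟨9340, 0, 1⟩) (.one ⟨4048, 1, 0⟩)) (.node 1 (.one ⟨85, 0, 1⟩) (.one ⟨12579, 0, 2⟩)))))) (.node 16 (.node 8 (.node 4 (.node 2 (.node 1 (.one ⟨10283, 1, 2⟩) (.one ⟨12220, 1, 1⟩)) (.node 1 (.one ⟨3614, 1, 1⟩) (.one ⟨2453, 1, 0⟩))) (.node 2 (.node 1 (.one ⟨4112, 1, 2⟩) (.one ⟨1146, 1, 1⟩)) (.node 1 (.one ⟨6305, 0, 1⟩) (.one ⟨2098, 1, 2⟩)))) (.node 4 (.node 2 (.node 1 (.one ⟨3802, 1, 0⟩) (.one ⟨9052, 1, 2⟩)) (.node 1 (.one ⟨11166, 0, 2⟩) (.one ⟨4687, 1, 0⟩))) (.node 2 (.node 1 (.one ⟨12266, 1, 1⟩) (.one ⟨17036, 1, 2⟩)) (.node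 1 (.one ⟨2269, 1, 0⟩) (.one ⟨5991, 0, 3⟩))))) (.node 8 (.node 4 (.node 2 (.node 1 (.one ⟨4065, 1, 0⟩) (.one ⟨691, 1, 1⟩)) (.node 1 (.one ⟨9030, 0, 2⟩) (.one ⟨5728, 0, 3⟩))) (.node 2 (.node 1 (.one ⟨3535, 1, 0⟩) (.one ⟨2546, 1, 0⟩)) (.node 1 (.one ⟨8966, 0, 3⟩) (.one ⟨9590, 0, 2⟩)))) (.node 4 (.node 2 (.node 1 (.one ⟨574, 1, 0⟩) (.one ⟨17005, 1, 2⟩)) (.node 1 (.one ⟨3509, 1, 2⟩) (.one ⟨5493, 1, 0⟩))) (.node 2 (.node 1 (.one ⟨9713, 1, 1⟩) (.one ⟨15353, 0, 1⟩)) (.node 1 (.one ⟨1490, 1, 0⟩) (.one ⟨10831, 1, 1⟩)))))))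
def par5_13_11 : Arr Par :=
  (.node 32 (.node 16 (.node 8 (.node 4 (.node 2 (.node 1 (.one ⟨8034, 1, 2⟩) (.one ⟨4591, 0, 1⟩)) (.node 1 (.one ⟨11646, 1, 1⟩) (.one ⟨5971, 1, 2⟩))) (.node 2 (.node 1 (.one ⟨12742, 1, 2⟩) (.one ⟨9409, 1, 1⟩)) (.node 1 (.one ⟨8617, 1, 1⟩) (.one ⟨7276, 0, 1⟩)))) (.node 4 (.node 2 (.node 1 (.one ⟨6364, 1, 2⟩) (.one ⟨587, 1, 0⟩)) (.node 1 (.one ⟨1441, 1, 1⟩) (.one ⟨8028, 1, 1⟩))) (.node 2 (.node 1 (.one ⟨9728, 1, 1⟩) (.one ⟨7274, 0, 3⟩)) (.node 1 (.one ⟨14496, 1, 2⟩) (.one ⟨7639, 0, 3⟩))))) (.node 8 (.node 4 (.node 2 (.node 1 (.one ⟨4526, 0, 3⟩) (.one ⟨7642, 0, 2⟩)) (.node 1 (.one ⟨9462, 1, 1⟩) (.one ⟨8433, 1, 1⟩))) (.node 2 (.node 1 (.one ⟨4521, 0, 2⟩) (.one ⟨7645, 0, 3⟩)) (.node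 1 (.one ⟨4520, 0, 3⟩) (.one ⟨1246, 1, 0⟩)))) (.node 4 (.node 2 (.node 1 (.one ⟨6081, 0, 1⟩) (.one ⟨15354, 0, 3⟩)) (.node 1 (.one ⟨6094, 0, 3⟩) (.one ⟨826, 0, 3⟩))) (.node 2 (.node 1 (.one ⟨11560, 0, 3⟩) (.one ⟨1139, 0, 2⟩)) (.node 1 (.one ⟨11556, 0, 2⟩) (.one ⟨3818, 0, 3⟩)))))) (.node 16 (.node 8 (.node 4 (.node 2 (.node 1 (.one ⟨4588, 0, 1⟩) (.one ⟨12168, 0, 3⟩)) (.node 1 (.one ⟨13453, 0, 3⟩) (.one ⟨14564, 0, 3⟩))) (.node 2 (.node 1 (.one ⟨3200, 1, 1⟩) (.one ⟨5629, 0, 3⟩)) (.node 1 (.one ⟨911, 1, 0⟩) (.one ⟨9583, 0, 1⟩)))) (.node 4 (.node 2 (.node 1 (.one ⟨4687, 1, 2⟩) (.one ⟨10575, 0, 2⟩)) (.node 1 (.one ⟨1456, 1, 1⟩) (.one ⟨9246, 0, 1⟩))) (.node 2 (.node 1 (.one ⟨2562, 0, 1⟩) (.one ⟨1011, 1, 0⟩)) (.node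 1 (.one ⟨63, 0, 2⟩) (.one ⟨1008, 1, 0⟩))))) (.node 8 (.node 4 (.node 2 (.node 1 (.one ⟨8054, 0, 2⟩) (.one ⟨14772, 0, 2⟩)) (.node 1 (.one ⟨13046, 0, 1⟩) (.one ⟨2551, 1, 0⟩))) (.node 2 (.node 1 (.one ⟨3300, 1, 0⟩) (.one ⟨16317, 1, 2⟩)) (.node 1 (.one ⟨12945, 0, 1⟩) (.one ⟨8497, 0, 1⟩)))) (.node 4 (.node 2 (.node 1 (.one ⟨16251, 0, 1⟩) (.one ⟨11463, 0, 1⟩)) (.node 1 (.one ⟨1627, 0, 1⟩) (.one ⟨4865, 0, 1⟩))) (.node 2 (.node 1 (.one ⟨1455, 1, 1⟩) (.one ⟨363, 1, 2⟩)) (.node 1 (.one ⟨6067, 0, 2⟩) (.one ⟨4170, 1, 2⟩)))))))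
def par5_13_12 : Arr Par :=
  (.node 32 (.node 16 (.node 8 (.node 4 (.node 2 (.node 1 (.one ⟨15009, 0, 3⟩) (.one ⟨4705, 0, 3⟩)) (.node 1 (.one ⟨5206, 1, 0⟩) (.one ⟨15598, 1, 1⟩))) (.node 2 (.node 1 (.one ⟨1627, 1, 1⟩) (.one ⟨859, 0, 2⟩)) (.node 1 (.one ⟨9461, 1, 1⟩) (.one ⟨2751, 1, 0⟩)))) (.node 4 (.node 2 (.node 1 (.one ⟨4925, 1, 0⟩) (.one ⟨16622, 1, 2⟩)) (.node 1 (.one ⟨15807, 0, 2⟩) (.one ⟨14744, 0, 3⟩))) (.node 2 (.node 1 (.one ⟨8842, 0, 1⟩) (.one ⟨1394, 0, 2⟩)) (.node 1 (.one ⟨12056, 0, 3⟩) (.one ⟨16048, 1, 1⟩))))) (.node 8 (.node 4 (.node 2 (.node 1 (.one ⟨8115, 0, 2⟩) (.one ⟨2527, 1, 0⟩)) (.node 1 (.one ⟨9407, 1, 1⟩) (.one ⟨13142, 0, 3⟩))) (.node 2 (.node 1 (.one ⟨6020, 1, 2⟩) (.one ⟨14839, 0, 1⟩))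 (.node 1 (.one ⟨190, 1, 2⟩) (.one ⟨7166, 1, 1⟩)))) (.node 4 (.node 2 (.node 1 (.one ⟨9236, 0, 2⟩) (.one ⟨15291, 1, 1⟩)) (.node 1 (.one ⟨2760, 0, 1⟩) (.one ⟨1173, 1, 0⟩))) (.node 2 (.node 1 (.one ⟨14423, 0, 1⟩) (.one ⟨1258, 1, 0⟩)) (.node 1 (.one ⟨1442, 1, 1⟩) (.one ⟨6853, 0, 1⟩)))))) (.node 16 (.node 8 (.node 4 (.node 2 (.node 1 (.one ⟨2717, 0, 2⟩) (.one ⟨1698, 1, 0⟩)) (.node 1 (.one ⟨7927, 0, 3⟩) (.one ⟨6971, 1, 1⟩))) (.node 2 (.node 1 (.one ⟨8124, 0, 2⟩) (.one ⟨7448, 0, 2⟩)) (.node 1 (.one ⟨1006, 0, 2⟩) (.one ⟨9113, 0, 1⟩)))) (.node 4 (.node 2 (.node 1 (.one ⟨10745, 1, 2⟩) (.one ⟨2535, 1, 0⟩)) (.node 1 (.one ⟨3713, 1, 0⟩) (.one ⟨8875, 0, 3⟩))) (.node 2 (.node 1 (.one ⟨7505, 0, 3⟩) (.one ⟨3461, 0, 2⟩)) (.node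 1 (.one ⟨5184, 0, 1⟩) (.one ⟨15851, 0, 3⟩))))) (.node 8 (.node 4 (.node 2 (.node 1 (.one ⟨13427, 0, 1⟩) (.one ⟨11543, 0, 2⟩)) (.node 1 (.one ⟨15491, 1, 1⟩) (.one ⟨3262, 1, 0⟩))) (.node 2 (.node 1 (.one ⟨1656, 1, 0⟩) (.one ⟨11384, 1, 2⟩)) (.node 1 (.one ⟨10402, 0, 2⟩) (.one ⟨11077, 0, 2⟩)))) (.node 4 (.node 2 (.node 1 (.one ⟨8923, 0, 3⟩) (.one ⟨11437, 0, 1⟩)) (.node 1 (.one ⟨8643, 0, 3⟩) (.one ⟨7110, 0, 3⟩))) (.node 2 (.node 1 (.one ⟨13019, 0, 3⟩) (.one ⟨6940, 0, 3⟩)) (.node 1 (.one ⟨398, 1, 0⟩) (.one ⟨12268, 1, 1⟩)))))))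
def par5_13_13 : Arr Par :=
  (.node 32 (.node 16 (.node 8 (.node 4 (.node 2 (.node 1 (.one ⟨17165, 1, 2⟩) (.one ⟨1166, 1, 0⟩)) (.node 1 (.one ⟨13762, 0, 3⟩) (.one ⟨16225, 1, 2⟩))) (.node 2 (.node 1 (.one ⟨605, 1, 0⟩) (.one ⟨1583, 1, 2⟩)) (.node 1 (.one ⟨381, 1, 0⟩) (.one ⟨2209, 0, 2⟩)))) (.node 4 (.node 2 (.node 1 (.one ⟨2093, 1, 0⟩) (.one ⟨598, 0, 2⟩)) (.node 1 (.one ⟨4122, 0, 3⟩) (.one ⟨1310, 0, 1⟩))) (.node 2 (.node 1 (.one ⟨4056, 0, 3⟩) (.one ⟨13977, 1, 2⟩)) (.node 1 (.one ⟨4238, 0, 2⟩) (.one ⟨447, 1, 1⟩))))) (.node 8 (.node 4 (.node 2 (.node 1 (.one ⟨15317, 1, 2⟩) (.one ⟨11250, 0, 1⟩)) (.node 1 (.one ⟨15207, 1, 1⟩) (.one ⟨15515, 1, 2⟩))) (.node 2 (.node 1 (.one ⟨11947, 0, 3⟩) (.one ⟨5545, 0, 3⟩)) (.node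 1 (.one ⟨2456, 0, 2⟩) (.one ⟨5824, 1, 1⟩)))) (.node 4 (.node 2 (.node 1 (.one ⟨15063, 0, 3⟩) (.one ⟨16981, 0, 3⟩)) (.node 1 (.one ⟨15556, 0, 2⟩) (.one ⟨2293, 1, 0⟩))) (.node 2 (.node 1 (.one ⟨3855, 0, 1⟩) (.one ⟨3619, 1, 2⟩)) (.node 1 (.one ⟨12315, 1, 2⟩) (.one ⟨13501, 1, 1⟩)))))) (.node 16 (.node 8 (.node 4 (.node 2 (.node 1 (.one ⟨8659, 1, 2⟩) (.one ⟨5579, 0, 2⟩)) (.node 1 (.one ⟨12423, 0, 2⟩) (.one ⟨5038, 0, 2⟩))) (.node 2 (.node 1 (.one ⟨2126, 1, 0⟩) (.one ⟨7247, 0, 2⟩)) (.node 1 (.one ⟨16816, 1, 1⟩) (.one ⟨8505, 0, 1⟩)))) (.node 4 (.node 2 (.node 1 (.one ⟨1843, 0, 1⟩) (.one ⟨221, 1, 2⟩)) (.node 1 (.one ⟨11243, 1, 1⟩) (.one ⟨7569, 0, 1⟩))) (.node 2 (.node 1 (.one ⟨4339, 0, 1⟩) (.one ⟨5934, 1, 2⟩)) (.node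 1 (.one ⟨9462, 0, 1⟩) (.one ⟨5028, 1, 0⟩))))) (.node 8 (.node 4 (.node 2 (.node 1 (.one ⟨10381, 0, 3⟩) (.one ⟨13312, 1, 1⟩)) (.node 1 (.one ⟨4235, 0, 1⟩) (.one ⟨2046, 1, 2⟩))) (.node 2 (.node 1 (.one ⟨12115, 0, 2⟩) (.one ⟨8732, 1, 2⟩)) (.node 1 (.one ⟨2641, 0, 1⟩) (.one ⟨4052, 1, 1⟩)))) (.node 4 (.node 2 (.node 1 (.one ⟨3947, 1, 2⟩) (.one ⟨3769, 1, 0⟩)) (.node 1 (.one ⟨10785, 0, 2⟩) (.one ⟨14392, 0, 1⟩))) (.node 2 (.node 1 (.one ⟨12480, 1, 1⟩) (.one ⟨1741, 1, 1⟩)) (.node 1 (.one ⟨3688, 1, 0⟩) (.one ⟨3354, 1, 0⟩)))))))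
def par5_13_14 : Arr Par :=
  (.node 32 (.node 16 (.node 8 (.node 4 (.node 2 (.node 1 (.one ⟨1891, 1, 0⟩) (.one ⟨6092, 1, 1⟩)) (.node 1 (.one ⟨9053, 1, 1⟩) (.one ⟨11026, 0, 2⟩))) (.node 2 (.node 1 (.one ⟨7066, 0, 3⟩) (.one ⟨6543, 0, 1⟩)) (.node 1 (.one ⟨10769, 0, 3⟩) (.one ⟨12001, 1, 1⟩)))) (.node 4 (.node 2 (.node 1 (.one ⟨8957, 0, 3⟩) (.one ⟨1673, 1, 0⟩)) (.node 1 (.one ⟨4941, 0, 1⟩) (.one ⟨8952, 0, 1⟩))) (.node 2 (.node 1 (.one ⟨1608, 1, 1⟩) (.one ⟨1950, 1, 1⟩)) (.node 1 (.one ⟨8953, 0, 2⟩) (.one ⟨6597, 0, 2⟩))))) (.node 8 (.node 4 (.node 2 (.node 1 (.one ⟨10896, 0, 2⟩) (.one ⟨1785, 1, 1⟩)) (.node 1 (.one ⟨1786, 1, 1⟩) (.one ⟨54, 1, 1⟩))) (.node 2 (.node 1 (.one ⟨3839, 0, 3⟩) (.one ⟨590, 1, 0⟩)) (.node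 1 (.one ⟨3536, 1, 0⟩) (.one ⟨11615, 0, 2⟩)))) (.node 4 (.node 2 (.node 1 (.one ⟨6871, 1, 2⟩) (.one ⟨901, 1, 0⟩)) (.node 1 (.one ⟨11575, 0, 2⟩) (.one ⟨9321, 0, 2⟩))) (.node 2 (.node 1 (.one ⟨1500, 0, 2⟩) (.one ⟨604, 0, 2⟩)) (.node 1 (.one ⟨9473, 0, 2⟩) (.one ⟨3945, 1, 2⟩)))))) (.node 16 (.node 8 (.node 4 (.node 2 (.node 1 (.one ⟨9516, 0, 2⟩) (.one ⟨4253, 1, 2⟩)) (.node 1 (.one ⟨1853, 1, 2⟩) (.one ⟨2137, 1, 2⟩))) (.node 2 (.node 1 (.one ⟨49, 0, 3⟩) (.one ⟨1806, 1, 2⟩)) (.node 1 (.one ⟨4086, 1, 2⟩) (.one ⟨8653, 1, 1⟩)))) (.node 4 (.node 2 (.node 1 (.one ⟨4388, 0, 3⟩) (.one ⟨1994, 0, 3⟩)) (.node 1 (.one ⟨7574, 0, 3⟩) (.one ⟨2914, 1, 0⟩))) (.node 2 (.node 1 (.one ⟨2094, 1, 0⟩) (.one ⟨3756, 1, 0⟩)) (.node 1 (.one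 ⟨6865, 1, 2⟩) (.one ⟨4287, 0, 1⟩))))) (.node 8 (.node 4 (.node 2 (.node 1 (.one ⟨8661, 0, 3⟩) (.one ⟨3081, 0, 1⟩)) (.node 1 (.one ⟨6518, 0, 2⟩) (.one ⟨12783, 1, 2⟩))) (.node 2 (.node 1 (.one ⟨867, 0, 2⟩) (.one ⟨15204, 1, 1⟩)) (.node 1 (.one ⟨5246, 0, 3⟩) (.one ⟨1216, 1, 0⟩)))) (.node 4 (.node 2 (.node 1 (.one ⟨2533, 0, 3⟩) (.one ⟨4963, 0, 3⟩)) (.node 1 (.one ⟨9468, 0, 1⟩) (.one ⟨12890, 1, 2⟩))) (.node 2 (.node 1 (.one ⟨16426, 0, 3⟩) (.one ⟨14955, 0, 1⟩)) (.node 1 (.one ⟨7603, 0, 3⟩) (.one ⟨3493, 1, 0⟩)))))))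
def par5_13_15 : Arr Par :=
  (.node 32 (.node 16 (.node 8 (.node 4 (.node 2 (.node 1 (.one ⟨1043, 1, 0⟩) (.one ⟨2352, 1, 0⟩)) (.node 1 (.one ⟨6084, 0, 1⟩) (.one ⟨4623, 0, 1⟩))) (.node 2 (.node 1 (.one ⟨8662, 0, 2⟩) (.one ⟨6631, 0, 2⟩)) (.node 1 (.one ⟨3076, 0, 1⟩) (.one ⟨15495, 0, 3⟩)))) (.node 4 (.node 2 (.node 1 (.one ⟨15309, 0, 1⟩) (.one ⟨16235, 1, 1⟩)) (.node 1 (.one ⟨5619, 0, 1⟩) (.one ⟨3507, 1, 0⟩))) (.node 2 (.node 1 (.one ⟨6713, 0, 1⟩) (.one ⟨14317, 0, 1⟩)) (.node 1 (.one ⟨10824, 1, 1⟩) (.one ⟨4948, 1, 1⟩))))) (.node 8 (.node 4 (.node 2 (.node 1 (.one ⟨15333, 0, 3⟩) (.one ⟨9045, 1, 1⟩)) (.node 1 (.one ⟨12992, 0, 1⟩) (.one ⟨8555, 0, 3⟩))) (.node 2 (.node 1 (.one ⟨637, 1, 0⟩) (.one ⟨3203, 0, 3⟩)) (.node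 1 (.one ⟨6206, 1, 1⟩) (.one ⟨3447, 1, 0⟩)))) (.node 4 (.node 2 (.node 1 (.one ⟨7311, 0, 2⟩) (.one ⟨7298, 0, 3⟩)) (.node 1 (.one ⟨5603, 1, 2⟩) (.one ⟨3371, 1, 2⟩))) (.node 2 (.node 1 (.one ⟨2749, 1, 2⟩) (.one ⟨2277, 1, 1⟩)) (.node 1 (.one ⟨1262, 0, 2⟩) (.one ⟨4519, 1, 0⟩)))))) (.node 16 (.node 8 (.node 4 (.node 2 (.node 1 (.one ⟨10463, 1, 1⟩) (.one ⟨3223, 1, 0⟩)) (.node 1 (.one ⟨3259, 1, 0⟩) (.one ⟨13742, 1, 1⟩))) (.node 2 (.node 1 (.one ⟨11551, 0, 1⟩) (.one ⟨14180, 1, 1⟩)) (.node 1 (.one ⟨13481, 0, 1⟩) (.one ⟨3487, 1, 0⟩)))) (.node 4 (.node 2 (.node 1 (.one ⟨1296, 1, 0⟩) (.one ⟨3166, 0, 2⟩)) (.node 1 (.one ⟨14656, 1, 2⟩) (.one ⟨16633, 0, 3⟩))) (.node 2 (.node 1 (.one ⟨4764, 1, 2⟩) (.one ⟨4716, 1, 0⟩)) (.node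 1 (.one ⟨1400, 1, 0⟩) (.one ⟨10878, 1, 2⟩))))) (.node 8 (.node 4 (.node 2 (.node 1 (.one ⟨6069, 1, 1⟩) (.one ⟨72, 0, 1⟩)) (.node 1 (.one ⟨96, 0, 1⟩) (.one ⟨910, 0, 1⟩))) (.node 2 (.node 1 (.one ⟨889, 0, 1⟩) (.one ⟨643, 0, 1⟩)) (.node 1 (.one ⟨689, 0, 1⟩) (.one ⟨1300, 0, 1⟩)))) (.node 4 (.node 2 (.node 1 (.one ⟨16699, 0, 1⟩) (.one ⟨2913, 0, 2⟩)) (.node 1 (.one ⟨12908, 1, 1⟩) (.one ⟨8846, 0, 1⟩))) (.node 2 (.node 1 (.one ⟨10678, 0, 2⟩) (.one ⟨8295, 0, 1⟩)) (.node 1 (.one ⟨16264, 1, 1⟩) (.one ⟨16049, 1, 2⟩)))))))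
def par5_13 : Arr Par :=
  (.node 512 (.node 256 (.node 128 (.node 64 par5_13_0 par5_13_1) (.node 64 par5_13_2 par5_13_3)) (.node 128 (.node 64 par5_13_4 par5_13_5) (.node 64 par5_13_6 par5_13_7))) (.node 256 (.node 128 (.node 64 par5_13_8 par5_13_9) (.node 64 par5_13_10 par5_13_11)) (.node 128 (.node 64 par5_13_12 par5_13_13) (.node 64 par5_13_14 par5_13_15))))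
def par5_14_0 : Arr Par :=
  (.node 32 (.node 16 (.node 8 (.node 4 (.node 2 (.node 1 (.one ⟨1158, 1, 0⟩) (.one ⟨3514, 0, 1⟩)) (.node 1 (.one ⟨8368, 0, 1⟩) (.one ⟨6746, 1, 1⟩))) (.node 2 (.node 1 (.one ⟨1728, 1, 0⟩) (.one ⟨3669, 0, 1⟩)) (.node 1 (.one ⟨8667, 0, 1⟩) (.one ⟨904, 1, 0⟩)))) (.node 4 (.node 2 (.node 1 (.one ⟨6287, 0, 3⟩) (.one ⟨16133, 0, 3⟩)) (.node 1 (.one ⟨89, 1, 1⟩) (.one ⟨2443, 0, 3⟩))) (.node 2 (.node 1 (.one ⟨92, 1, 2⟩) (.one ⟨12559, 0, 3⟩)) (.node 1 (.one ⟨6305, 1, 1⟩) (.one ⟨4481, 1, 0⟩))))) (.node 8 (.node 4 (.node 2 (.node 1 (.one ⟨9633, 0, 2⟩) (.one ⟨206, 0, 2⟩)) (.node 1 (.one ⟨14954, 0, 3⟩) (.one ⟨15331, 0, 3⟩))) (.node 2 (.node 1 (.one ⟨2486, 0, 3⟩) (.one ⟨10667, 0, 1⟩)) (.node 1 (.one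 ⟨7293, 0, 3⟩) (.one ⟨15346, 0, 3⟩)))) (.node 4 (.node 2 (.node 1 (.one ⟨5280, 0, 2⟩) (.one ⟨13134, 0, 1⟩)) (.node 1 (.one ⟨7343, 0, 3⟩) (.one ⟨5078, 1, 2⟩))) (.node 2 (.node 1 (.one ⟨17010, 0, 1⟩) (.one ⟨8825, 0, 3⟩)) (.node 1 (.one ⟨4341, 1, 0⟩) (.one ⟨2256, 0, 0⟩)))))) (.node 16 (.node 8 (.node 4 (.node 2 (.node 1 (.one ⟨15220, 1, 2⟩) (.one ⟨2371, 1, 2⟩)) (.node 1 (.one ⟨4474, 0, 2⟩) (.one ⟨3590, 1, 1⟩))) (.node 2 (.node 1 (.one ⟨2015, 0, 3⟩) (.one ⟨2903, 1, 0⟩)) (.node 1 (.one ⟨16555, 1, 2⟩) (.one ⟨2085, 1, 1⟩)))) (.node 4 (.node 2 (.node 1 (.one ⟨9050, 0, 2⟩) (.one ⟨789, 1, 0⟩)) (.node 1 (.one ⟨4900, 0, 2⟩) (.one ⟨4898, 0, 1⟩))) (.node 2 (.node 1 (.one ⟨1099, 1, 0⟩) (.one ⟨9053, 0, 1⟩)) (.node 1 (.one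 ⟨3151, 1, 0⟩) (.one ⟨3356, 0, 0⟩))))) (.node 8 (.node 4 (.node 2 (.node 1 (.one ⟨871, 1, 0⟩) (.one ⟨1794, 0, 2⟩)) (.node 1 (.one ⟨2213, 1, 0⟩) (.one ⟨7473, 0, 1⟩))) (.node 2 (.node 1 (.one ⟨8257, 0, 3⟩) (.one ⟨2881, 0, 3⟩)) (.node 1 (.one ⟨1068, 1, 0⟩) (.one ⟨953, 1, 0⟩)))) (.node 4 (.node 2 (.node 1 (.one ⟨703, 1, 0⟩) (.one ⟨16674, 0, 1⟩)) (.node 1 (.one ⟨14286, 0, 2⟩) (.one ⟨2950, 0, 1⟩))) (.node 2 (.node 1 (.one ⟨9253, 1, 2⟩) (.one ⟨5276, 1, 2⟩)) (.node 1 (.one ⟨3826, 0, 1⟩) (.one ⟨4487, 0, 2⟩)))))))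
def par5_14_1 : Arr Par :=
  (.node 32 (.node 16 (.node 8 (.node 4 (.node 2 (.node 1 (.one ⟨9322, 0, 2⟩) (.one ⟨593, 0, 2⟩)) (.node 1 (.one ⟨2618, 1, 1⟩) (.one ⟨3648, 1, 0⟩))) (.node 2 (.node 1 (.one ⟨4691, 1, 2⟩) (.one ⟨3714, 1, 2⟩)) (.node 1 (.one ⟨1129, 0, 2⟩) (.one ⟨304, 1, 0⟩)))) (.node 4 (.node 2 (.node 1 (.one ⟨14303, 1, 1⟩) (.one ⟨1213, 0, 0⟩)) (.node 1 (.one ⟨10762, 1, 1⟩) (.one ⟨6378, 0, 1⟩))) (.node 2 (.node 1 (.one ⟨1358, 1, 1⟩) (.one ⟨6030, 1, 1⟩)) (.node 1 (.one ⟨6164, 1, 2⟩) (.one ⟨3102, 0, 1⟩))))) (.node 8 (.node 4 (.node 2 (.node 1 (.one ⟨1356, 1, 1⟩) (.one ⟨2011, 0, 2⟩)) (.node 1 (.one ⟨8448, 0, 3⟩) (.one ⟨2507, 1, 2⟩))) (.node 2 (.node 1 (.one ⟨14191, 1, 1⟩) (.one ⟨4550, 1, 1⟩)) (.node 1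 (.one ⟨16945, 1, 2⟩) (.one ⟨504, 1, 0⟩)))) (.node 4 (.node 2 (.node 1 (.one ⟨3733, 1, 2⟩) (.one ⟨11813, 1, 2⟩)) (.node 1 (.one ⟨12710, 0, 2⟩) (.one ⟨834, 1, 1⟩))) (.node 2 (.node 1 (.one ⟨1544, 1, 0⟩) (.one ⟨2662, 1, 1⟩)) (.node 1 (.one ⟨1827, 1, 0⟩) (.one ⟨2379, 1, 2⟩)))))) (.node 16 (.node 8 (.node 4 (.node 2 (.node 1 (.one ⟨12829, 1, 2⟩) (.one ⟨5516, 1, 1⟩)) (.node 1 (.one ⟨3052, 0, 2⟩) (.one ⟨13044, 1, 2⟩))) (.node 2 (.node 1 (.one ⟨2319, 1, 0⟩) (.one ⟨9250, 1, 1⟩)) (.node 1 (.one ⟨1589, 1, 0⟩) (.one ⟨9972, 0, 3⟩)))) (.node 4 (.node 2 (.node 1 (.one ⟨7339, 1, 2⟩) (.one ⟨6806, 0, 1⟩)) (.node 1 (.one ⟨15136, 0, 3⟩) (.one ⟨13048, 0, 3⟩))) (.node 2 (.node 1 (.one ⟨14473, 1, 2⟩) (.one ⟨7849, 0, 1⟩)) (.node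 1 (.one ⟨16171, 0, 3⟩) (.one ⟨353, 1, 2⟩))))) (.node 8 (.node 4 (.node 2 (.node 1 (.one ⟨15860, 0, 2⟩) (.one ⟨687, 1, 1⟩)) (.node 1 (.one ⟨7885, 0, 2⟩) (.one ⟨9900, 0, 2⟩))) (.node 2 (.node 1 (.one ⟨3055, 1, 0⟩) (.one ⟨1862, 0, 3⟩)) (.node 1 (.one ⟨393, 1, 2⟩) (.one ⟨14615, 1, 2⟩)))) (.node 4 (.node 2 (.node 1 (.one ⟨2657, 1, 0⟩) (.one ⟨16897, 0, 1⟩)) (.node 1 (.one ⟨3113, 0, 2⟩) (.one ⟨2751, 0, 1⟩))) (.node 2 (.node 1 (.one ⟨17079, 0, 2⟩) (.one ⟨10282, 1, 2⟩)) (.node 1 (.one ⟨1751, 1, 0⟩) (.one ⟨17080, 0, 1⟩)))))))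
def par5_14_2 : Arr Par :=
  (.node 32 (.node 16 (.node 8 (.node 4 (.node 2 (.node 1 (.one ⟨3761, 0, 1⟩) (.one ⟨10701, 0, 3⟩)) (.node 1 (.one ⟨1111, 1, 0⟩) (.one ⟨1776, 0, 1⟩))) (.node 2 (.node 1 (.one ⟨144, 1, 1⟩) (.one ⟨8449, 0, 3⟩)) (.node 1 (.one ⟨12130, 0, 1⟩) (.one ⟨1702, 1, 2⟩)))) (.node 4 (.node 2 (.node 1 (.one ⟨6268, 0, 3⟩) (.one ⟨8228, 0, 1⟩)) (.node 1 (.one ⟨15146, 0, 3⟩) (.one ⟨5106, 0, 1⟩))) (.node 2 (.node 1 (.one ⟨9975, 0, 3⟩) (.one ⟨11864, 0, 2⟩)) (.node 1 (.one ⟨3288, 0, 1⟩) (.one ⟨9078, 0, 2⟩))))) (.node 8 (.node 4 (.node 2 (.node 1 (.one ⟨3637, 1, 0⟩) (.one ⟨8936, 0, 3⟩)) (.node 1 (.one ⟨5692, 1, 2⟩) (.one ⟨884, 0, 3⟩))) (.node 2 (.node 1 (.one ⟨8723, 0, 1⟩) (.one ⟨2207, 0, 1⟩)) (.node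 1 (.one ⟨8396, 0, 2⟩) (.one ⟨1827, 0, 3⟩)))) (.node 4 (.node 2 (.node 1 (.one ⟨10753, 1, 1⟩) (.one ⟨5754, 0, 1⟩)) (.node 1 (.one ⟨2532, 1, 0⟩) (.one ⟨681, 1, 2⟩))) (.node 2 (.node 1 (.one ⟨2445, 0, 3⟩) (.one ⟨5642, 0, 3⟩)) (.node 1 (.one ⟨683, 1, 1⟩) (.one ⟨4224, 0, 1⟩)))))) (.node 16 (.node 8 (.node 4 (.node 2 (.node 1 (.one ⟨8543, 0, 1⟩) (.one ⟨612, 1, 0⟩)) (.node 1 (.one ⟨6088, 0, 3⟩) (.one ⟨560, 0, 3⟩))) (.node 2 (.node 1 (.one ⟨7185, 0, 1⟩) (.one ⟨4793, 0, 3⟩)) (.node 1 (.one ⟨8162, 0, 3⟩) (.one ⟨9851, 0, 2⟩)))) (.node 4 (.node 2 (.node 1 (.one ⟨138, 1, 1⟩) (.one ⟨10740, 1, 1⟩)) (.node 1 (.one ⟨385, 1, 2⟩) (.one ⟨3612, 1, 0⟩))) (.node 2 (.node 1 (.one ⟨197, 1, 1⟩) (.one ⟨3296, 1, 0⟩)) (.node 1 (.one ⟨474,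 1, 1⟩) (.one ⟨685, 1, 1⟩))))) (.node 8 (.node 4 (.node 2 (.node 1 (.one ⟨16887, 0, 2⟩) (.one ⟨2247, 1, 2⟩)) (.node 1 (.one ⟨9181, 1, 1⟩) (.one ⟨12350, 1, 1⟩))) (.node 2 (.node 1 (.one ⟨3712, 1, 2⟩) (.one ⟨11785, 1, 1⟩)) (.node 1 (.one ⟨7904, 0, 1⟩) (.one ⟨6678, 0, 3⟩)))) (.node 4 (.node 2 (.node 1 (.one ⟨778, 0, 3⟩) (.one ⟨4044, 0, 2⟩)) (.node 1 (.one ⟨1852, 1, 0⟩) (.one ⟨4057, 0, 1⟩))) (.node 2 (.node 1 (.one ⟨8937, 0, 2⟩) (.one ⟨13693, 1, 2⟩)) (.node 1 (.one ⟨1215, 0, 1⟩) (.one ⟨8328, 1, 1⟩)))))))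
def par5_14_3 : Arr Par :=
  (.node 32 (.node 16 (.node 8 (.node 4 (.node 2 (.node 1 (.one ⟨9179, 1, 1⟩) (.one ⟨14336, 1, 1⟩)) (.node 1 (.one ⟨10788, 0, 2⟩) (.one ⟨9643, 0, 3⟩))) (.node 2 (.node 1 (.one ⟨1610, 0, 1⟩) (.one ⟨2286, 0, 3⟩)) (.node 1 (.one ⟨2235, 1, 1⟩) (.one ⟨5684, 0, 2⟩)))) (.node 4 (.node 2 (.node 1 (.one ⟨447, 0, 1⟩) (.one ⟨12224, 1, 2⟩)) (.node 1 (.one ⟨11366, 0, 1⟩) (.one ⟨11371, 0, 3⟩))) (.node 2 (.node 1 (.one ⟨3586, 1, 0⟩) (.one ⟨1087, 0, 1⟩)) (.node 1 (.one ⟨1108, 1, 0⟩) (.one ⟨2656, 0, 1⟩))))) (.node 8 (.node 4 (.node 2 (.node 1 (.one ⟨1472, 1, 1⟩) (.one ⟨6767, 0, 3⟩)) (.node 1 (.one ⟨10750, 1, 2⟩) (.one ⟨674, 0, 1⟩))) (.node 2 (.node 1 (.one ⟨16918, 1, 2⟩) (.one ⟨7491, 0, 1⟩)) (.node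 1 (.one ⟨10540, 0, 1⟩) (.one ⟨15160, 1, 1⟩)))) (.node 4 (.node 2 (.node 1 (.one ⟨15532, 0, 1⟩) (.one ⟨9178, 1, 2⟩)) (.node 1 (.one ⟨10348, 1, 2⟩) (.one ⟨7115, 1, 2⟩))) (.node 2 (.node 1 (.one ⟨6634, 1, 2⟩) (.one ⟨9508, 0, 2⟩)) (.node 1 (.one ⟨1245, 1, 0⟩) (.one ⟨3727, 0, 1⟩)))))) (.node 16 (.node 8 (.node 4 (.node 2 (.node 1 (.one ⟨15828, 1, 1⟩) (.one ⟨627, 0, 2⟩)) (.node 1 (.one ⟨5701, 0, 1⟩) (.one ⟨10221, 0, 2⟩))) (.node 2 (.node 1 (.one ⟨15334, 1, 2⟩) (.one ⟨4415, 1, 2⟩)) (.node 1 (.one ⟨1475, 1, 1⟩) (.one ⟨2479, 1, 0⟩)))) (.node 4 (.node 2 (.node 1 (.one ⟨1065, 1, 0⟩) (.one ⟨13344, 0, 1⟩)) (.node 1 (.one ⟨1296, 0, 1⟩) (.one ⟨6366, 0, 2⟩))) (.node 2 (.node 1 (.one ⟨3418, 1, 0⟩) (.one ⟨13478, 1, 1⟩)) (.node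 1 (.one ⟨5830, 0, 1⟩) (.one ⟨14412, 0, 2⟩))))) (.node 8 (.node 4 (.node 2 (.node 1 (.one ⟨517, 1, 0⟩) (.one ⟨3445, 1, 0⟩)) (.node 1 (.one ⟨12369, 1, 2⟩) (.one ⟨8688, 0, 3⟩))) (.node 2 (.node 1 (.one ⟨5209, 1, 1⟩) (.one ⟨7857, 0, 1⟩)) (.node 1 (.one ⟨11076, 1, 2⟩) (.one ⟨2581, 1, 2⟩)))) (.node 4 (.node 2 (.node 1 (.one ⟨9586, 1, 1⟩) (.one ⟨7308, 1, 1⟩)) (.node 1 (.one ⟨6656, 0, 2⟩) (.one ⟨9932, 1, 2⟩))) (.node 2 (.node 1 (.one ⟨2306, 1, 2⟩) (.one ⟨14644, 1, 2⟩)) (.node 1 (.one ⟨7543, 1, 2⟩) (.one ⟨1031, 0, 1⟩)))))))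
def par5_14_4 : Arr Par :=
  (.node 32 (.node 16 (.node 8 (.node 4 (.node 2 (.node 1 (.one ⟨3724, 0, 0⟩) (.one ⟨9320, 0, 1⟩)) (.node 1 (.one ⟨17068, 0, 2⟩) (.one ⟨8798, 0, 2⟩))) (.node 2 (.node 1 (.one ⟨1825, 0, 2⟩) (.one ⟨16839, 0, 3⟩)) (.node 1 (.one ⟨9877, 0, 2⟩) (.one ⟨316, 1, 0⟩)))) (.node 4 (.node 2 (.node 1 (.one ⟨10760, 1, 1⟩) (.one ⟨3410, 1, 0⟩)) (.node 1 (.one ⟨14305, 1, 1⟩) (.one ⟨11455, 0, 1⟩))) (.node 2 (.node 1 (.one ⟨1079, 1, 1⟩) (.one ⟨1911, 1, 1⟩)) (.node 1 (.one ⟨6136, 1, 1⟩) (.one ⟨9481, 0, 1⟩))))) (.node 8 (.node 4 (.node 2 (.node 1 (.one ⟨5824, 0, 1⟩) (.one ⟨2350, 1, 1⟩)) (.node 1 (.one ⟨15353, 1, 1⟩) (.one ⟨11023, 0, 1⟩))) (.node 2 (.node 1 (.one ⟨9583, 1, 1⟩) (.one ⟨13844, 0, 2⟩)) (.node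 1 (.one ⟨7276, 1, 1⟩) (.one ⟨2754, 0, 1⟩)))) (.node 4 (.node 2 (.node 1 (.one ⟨4741, 0, 0⟩) (.one ⟨3444, 1, 0⟩)) (.node 1 (.one ⟨9360, 0, 1⟩) (.one ⟨14447, 0, 3⟩))) (.node 2 (.node 1 (.one ⟨15841, 0, 1⟩) (.one ⟨8402, 0, 1⟩)) (.node 1 (.one ⟨7321, 0, 2⟩) (.one ⟨4546, 0, 1⟩)))))) (.node 16 (.node 8 (.node 4 (.node 2 (.node 1 (.one ⟨1105, 0, 1⟩) (.one ⟨6288, 1, 1⟩)) (.node 1 (.one ⟨9355, 0, 1⟩) (.one ⟨1392, 0, 1⟩))) (.node 2 (.node 1 (.one ⟨4608, 0, 1⟩) (.one ⟨9596, 0, 1⟩)) (.node 1 (.one ⟨12709, 0, 1⟩) (.one ⟨11062, 0, 1⟩)))) (.node 4 (.node 2 (.node 1 (.one ⟨8488, 1, 1⟩) (.one ⟨4333, 0, 2⟩)) (.node 1 (.one ⟨2832, 1, 0⟩) (.one ⟨2817, 1, 0⟩))) (.node 2 (.node 1 (.one ⟨882, 1, 0⟩) (.one ⟨14230, 0, 1⟩)) (.node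 1 (.one ⟨11810, 1, 2⟩) (.one ⟨2970, 1, 0⟩))))) (.node 8 (.node 4 (.node 2 (.node 1 (.one ⟨3313, 1, 2⟩) (.one ⟨13925, 1, 1⟩)) (.node 1 (.one ⟨15762, 0, 1⟩) (.one ⟨2871, 1, 0⟩))) (.node 2 (.node 1 (.one ⟨3589, 0, 1⟩) (.one ⟨12047, 0, 2⟩)) (.node 1 (.one ⟨10511, 0, 1⟩) (.one ⟨13047, 1, 1⟩)))) (.node 4 (.node 2 (.node 1 (.one ⟨6939, 1, 2⟩) (.one ⟨2731, 1, 0⟩)) (.node 1 (.one ⟨8002, 0, 2⟩) (.one ⟨17090, 0, 1⟩))) (.node 2 (.node 1 (.one ⟨11328, 0, 3⟩) (.one ⟨13856, 0, 3⟩)) (.node 1 (.one ⟨1518, 1, 2⟩) (.one ⟨580, 1, 0⟩)))))))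
def par5_14_5 : Arr Par :=
  (.node 32 (.node 16 (.node 8 (.node 4 (.node 2 (.node 1 (.one ⟨6408, 0, 1⟩) (.one ⟨16094, 0, 3⟩)) (.node 1 (.one ⟨10073, 0, 3⟩) (.one ⟨7464, 0, 3⟩))) (.node 2 (.node 1 (.one ⟨11213, 1, 1⟩) (.one ⟨11169, 0, 2⟩)) (.node 1 (.one ⟨16298, 1, 2⟩) (.one ⟨14607, 1, 2⟩)))) (.node 4 (.node 2 (.node 1 (.one ⟨16718, 0, 2⟩) (.one ⟨1638, 1, 2⟩)) (.node 1 (.one ⟨15297, 1, 2⟩) (.one ⟨15188, 1, 1⟩))) (.node 2 (.node 1 (.one ⟨9422, 0, 2⟩) (.one ⟨10066, 0, 3⟩)) (.node 1 (.one ⟨14574, 1, 2⟩) (.one ⟨3428, 0, 1⟩))))) (.node 8 (.node 4 (.node 2 (.node 1 (.one ⟨7156, 0, 1⟩) (.one ⟨8512, 0, 1⟩)) (.node 1 (.one ⟨4814, 0, 1⟩) (.one ⟨13547, 0, 2⟩))) (.node 2 (.node 1 (.one ⟨16906, 0, 2⟩) (.one ⟨6930, 1, 1⟩))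 (.node 1 (.one ⟨10821, 0, 2⟩) (.one ⟨193, 1, 1⟩)))) (.node 4 (.node 2 (.node 1 (.one ⟨1752, 0, 3⟩) (.one ⟨3089, 1, 0⟩)) (.node 1 (.one ⟨9735, 0, 3⟩) (.one ⟨4277, 0, 3⟩))) (.node 2 (.node 1 (.one ⟨122, 1, 1⟩) (.one ⟨12467, 0, 1⟩)) (.node 1 (.one ⟨383, 1, 1⟩) (.one ⟨14843, 0, 3⟩)))))) (.node 16 (.node 8 (.node 4 (.node 2 (.node 1 (.one ⟨8008, 0, 1⟩) (.one ⟨1076, 0, 1⟩)) (.node 1 (.one ⟨14552, 1, 2⟩) (.one ⟨14835, 0, 1⟩))) (.node 2 (.node 1 (.one ⟨13752, 1, 1⟩) (.one ⟨532, 0, 1⟩)) (.node 1 (.one ⟨3684, 0, 0⟩) (.one ⟨1077, 0, 2⟩)))) (.node 4 (.node 2 (.node 1 (.one ⟨11194, 1, 2⟩) (.one ⟨13802, 0, 2⟩)) (.node 1 (.one ⟨14327, 1, 2⟩) (.one ⟨3470, 1, 0⟩))) (.node 2 (.node 1 (.one ⟨15951, 1, 2⟩) (.one ⟨1244, 0, 2⟩))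 (.node 1 (.one ⟨580, 0, 2⟩) (.one ⟨1915, 1, 1⟩))))) (.node 8 (.node 4 (.node 2 (.node 1 (.one ⟨50, 0, 3⟩) (.one ⟨11714, 0, 2⟩)) (.node 1 (.one ⟨12806, 1, 2⟩) (.one ⟨10146, 0, 3⟩))) (.node 2 (.node 1 (.one ⟨3234, 0, 3⟩) (.one ⟨13448, 0, 3⟩)) (.node 1 (.one ⟨15722, 1, 1⟩) (.one ⟨1491, 0, 2⟩)))) (.node 4 (.node 2 (.node 1 (.one ⟨13192, 1, 1⟩) (.one ⟨9480, 0, 2⟩)) (.node 1 (.one ⟨2612, 0, 3⟩) (.one ⟨1530, 0, 2⟩))) (.node 2 (.node 1 (.one ⟨3174, 1, 0⟩) (.one ⟨9363, 0, 2⟩)) (.node 1 (.one ⟨10083, 1, 1⟩) (.one ⟨16525, 0, 2⟩)))))))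
def par5_14_6 : Arr Par :=
  (.node 32 (.node 16 (.node 8 (.node 4 (.node 2 (.node 1 (.one ⟨3751, 1, 0⟩) (.one ⟨13494, 0, 1⟩)) (.node 1 (.one ⟨16524, 0, 3⟩) (.one ⟨16521, 0, 1⟩))) (.node 2 (.node 1 (.one ⟨13487, 0, 3⟩) (.one ⟨13490, 0, 2⟩)) (.node 1 (.one ⟨1076, 1, 0⟩) (.one ⟨10319, 1, 1⟩)))) (.node 4 (.node 2 (.node 1 (.one ⟨1079, 0, 1⟩) (.one ⟨15661, 0, 1⟩)) (.node 1 (.one ⟨15172, 0, 3⟩) (.one ⟨6602, 1, 2⟩))) (.node 2 (.node 1 (.one ⟨2157, 1, 0⟩) (.one ⟨11344, 0, 3⟩)) (.node 1 (.one ⟨11539, 0, 3⟩) (.one ⟨2968, 1, 1⟩))))) (.node 8 (.node 4 (.node 2 (.node 1 (.one ⟨410, 0, 3⟩) (.one ⟨12948, 0, 3⟩)) (.node 1 (.one ⟨6431, 0, 3⟩) (.one ⟨3515, 1, 0⟩))) (.node 2 (.node 1 (.one ⟨12271, 0, 3⟩) (.one ⟨3442, 0, 3⟩))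 (.node 1 (.one ⟨16134, 0, 3⟩) (.one ⟨15078, 1, 2⟩)))) (.node 4 (.node 2 (.node 1 (.one ⟨7498, 1, 2⟩) (.one ⟨14890, 1, 2⟩)) (.node 1 (.one ⟨7126, 1, 2⟩) (.one ⟨10279, 1, 2⟩))) (.node 2 (.node 1 (.one ⟨15755, 0, 3⟩) (.one ⟨9892, 1, 2⟩)) (.node 1 (.one ⟨2312, 1, 2⟩) (.one ⟨5170, 1, 2⟩)))))) (.node 16 (.node 8 (.node 4 (.node 2 (.node 1 (.one ⟨7736, 0, 3⟩) (.one ⟨1480, 0, 1⟩)) (.node 1 (.one ⟨1929, 0, 1⟩) (.one ⟨9811, 0, 1⟩))) (.node 2 (.node 1 (.one ⟨4886, 0, 0⟩) (.one ⟨1943, 1, 0⟩)) (.node 1 (.one ⟨15685, 0, 2⟩) (.one ⟨5071, 1, 2⟩)))) (.node 4 (.node 2 (.node 1 (.one ⟨97, 1, 1⟩) (.one ⟨12160, 0, 3⟩)) (.node 1 (.one ⟨5857, 0, 2⟩) (.one ⟨4685, 0, 3⟩))) (.node 2 (.node 1 (.one ⟨15389, 0, 2⟩) (.one ⟨9898, 0, 3⟩))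 (.node 1 (.one ⟨3358, 1, 0⟩) (.one ⟨5133, 1, 2⟩))))) (.node 8 (.node 4 (.node 2 (.node 1 (.one ⟨3210, 1, 0⟩) (.one ⟨952, 0, 1⟩)) (.node 1 (.one ⟨12545, 0, 3⟩) (.one ⟨8166, 0, 3⟩))) (.node 2 (.node 1 (.one ⟨1323, 1, 1⟩) (.one ⟨10184, 0, 3⟩)) (.node 1 (.one ⟨3916, 0, 2⟩) (.one ⟨11008, 0, 2⟩)))) (.node 4 (.node 2 (.node 1 (.one ⟨14861, 1, 1⟩) (.one ⟨3823, 1, 0⟩)) (.node 1 (.one ⟨14855, 1, 1⟩) (.one ⟨10022, 0, 1⟩))) (.node 2 (.node 1 (.one ⟨9846, 0, 3⟩) (.one ⟨12166, 0, 1⟩)) (.node 1 (.one ⟨541, 1, 1⟩) (.one ⟨11244, 0, 3⟩)))))))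
def par5_14_7 : Arr Par :=
  (.node 32 (.node 16 (.node 8 (.node 4 (.node 2 (.node 1 (.one ⟨7053, 1, 1⟩) (.one ⟨7214, 0, 3⟩)) (.node 1 (.one ⟨13702, 1, 1⟩) (.one ⟨11820, 0, 1⟩))) (.node 2 (.node 1 (.one ⟨13618, 0, 1⟩) (.one ⟨9485, 1, 1⟩)) (.node 1 (.one ⟨1598, 1, 0⟩) (.one ⟨8329, 0, 2⟩)))) (.node 4 (.node 2 (.node 1 (.one ⟨1184, 1, 0⟩) (.one ⟨9449, 1, 1⟩)) (.node 1 (.one ⟨9265, 0, 2⟩) (.one ⟨9225, 1, 2⟩))) (.node 2 (.node 1 (.one ⟨14361, 1, 2⟩) (.one ⟨3282, 1, 1⟩)) (.node 1 (.one ⟨82, 0, 1⟩) (.one ⟨9161, 0, 2⟩))))) (.node 8 (.node 4 (.node 2 (.node 1 (.one ⟨9447, 1, 2⟩) (.one ⟨4663, 0, 2⟩)) (.node 1 (.one ⟨15950, 0, 2⟩) (.one ⟨7151, 1, 1⟩))) (.node 2 (.node 1 (.one ⟨119, 1, 2⟩) (.one ⟨6749, 1, 2⟩)) (.node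 1 (.one ⟨2462, 1, 2⟩) (.one ⟨1073, 1, 0⟩)))) (.node 4 (.node 2 (.node 1 (.one ⟨2966, 1, 1⟩) (.one ⟨3097, 1, 2⟩)) (.node 1 (.one ⟨13584, 0, 1⟩) (.one ⟨4548, 1, 2⟩))) (.node 2 (.node 1 (.one ⟨5027, 0, 2⟩) (.one ⟨1164, 1, 0⟩)) (.node 1 (.one ⟨4864, 1, 1⟩) (.one ⟨6723, 1, 1⟩)))))) (.node 16 (.node 8 (.node 4 (.node 2 (.node 1 (.one ⟨5446, 1, 0⟩) (.one ⟨8729, 0, 3⟩)) (.node 1 (.one ⟨2321, 1, 0⟩) (.one ⟨9289, 0, 2⟩))) (.node 2 (.node 1 (.one ⟨10119, 1, 1⟩) (.one ⟨5842, 0, 1⟩)) (.node 1 (.one ⟨8752, 0, 3⟩) (.one ⟨11182, 1, 1⟩)))) (.node 4 (.node 2 (.node 1 (.one ⟨2435, 1, 0⟩) (.one ⟨13611, 1, 1⟩)) (.node 1 (.one ⟨3541, 1, 0⟩) (.one ⟨3544, 1, 0⟩))) (.node 2 (.node 1 (.one ⟨11654, 0, 2⟩) (.one ⟨1002, 1, 0⟩)) (.node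 1 (.one ⟨7459, 0, 1⟩) (.one ⟨9482, 1, 1⟩))))) (.node 8 (.node 4 (.node 2 (.node 1 (.one ⟨4062, 0, 1⟩) (.one ⟨11655, 1, 1⟩)) (.node 1 (.one ⟨10875, 1, 2⟩) (.one ⟨3075, 1, 0⟩))) (.node 2 (.node 1 (.one ⟨2531, 0, 1⟩) (.one ⟨1942, 1, 1⟩)) (.node 1 (.one ⟨3340, 1, 0⟩) (.one ⟨4468, 1, 0⟩)))) (.node 4 (.node 2 (.node 1 (.one ⟨2018, 0, 3⟩) (.one ⟨6202, 1, 2⟩)) (.node 1 (.one ⟨9453, 1, 1⟩) (.one ⟨11400, 1, 2⟩))) (.node 2 (.node 1 (.one ⟨6705, 1, 2⟩) (.one ⟨13951, 0, 1⟩)) (.node 1 (.one ⟨3753, 1, 0⟩) (.one ⟨1326, 1, 1⟩)))))))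
def par5_14_8 : Arr Par :=
  (.node 32 (.node 16 (.node 8 (.node 4 (.node 2 (.node 1 (.one ⟨11075, 1, 1⟩) (.one ⟨1286, 1, 0⟩)) (.node 1 (.one ⟨2162, 0, 0⟩) (.one ⟨1768, 1, 0⟩))) (.node 2 (.node 1 (.one ⟨6974, 0, 3⟩) (.one ⟨6451, 0, 2⟩)) (.node 1 (.one ⟨15854, 1, 2⟩) (.one ⟨990, 1, 0⟩)))) (.node 4 (.node 2 (.node 1 (.one ⟨545, 1, 2⟩) (.one ⟨14777, 1, 1⟩)) (.node 1 (.one ⟨5641, 0, 3⟩) (.one ⟨2952, 0, 3⟩))) (.node 2 (.node 1 (.one ⟨544, 1, 1⟩) (.one ⟨3209, 1, 0⟩)) (.node 1 (.one ⟨16429, 0, 3⟩) (.one ⟨1280, 0, 3⟩))))) (.node 8 (.node 4 (.node 2 (.node 1 (.one ⟨5299, 0, 3⟩) (.one ⟨6773, 1, 1⟩)) (.node 1 (.one ⟨8370, 0, 3⟩) (.one ⟨2857, 1, 0⟩))) (.node 2 (.node 1 (.one ⟨461, 0, 2⟩) (.one ⟨3990, 1, 0⟩)) (.node 1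 (.one ⟨1637, 1, 0⟩) (.one ⟨3494, 1, 0⟩)))) (.node 4 (.node 2 (.node 1 (.one ⟨7533, 0, 1⟩) (.one ⟨7244, 0, 3⟩)) (.node 1 (.one ⟨11349, 0, 3⟩) (.one ⟨6030, 0, 1⟩))) (.node 2 (.node 1 (.one ⟨10140, 0, 3⟩) (.one ⟨9841, 0, 3⟩)) (.node 1 (.one ⟨17063, 1, 1⟩) (.one ⟨2388, 1, 2⟩)))))) (.node 16 (.node 8 (.node 4 (.node 2 (.node 1 (.one ⟨9451, 1, 2⟩) (.one ⟨10529, 1, 1⟩)) (.node 1 (.one ⟨1173, 0, 2⟩) (.one ⟨6828, 1, 2⟩))) (.node 2 (.node 1 (.one ⟨3649, 1, 0⟩) (.one ⟨11188, 0, 3⟩)) (.node 1 (.one ⟨7178, 1, 2⟩) (.one ⟨4131, 0, 1⟩)))) (.node 4 (.node 2 (.node 1 (.one ⟨1535, 0, 1⟩) (.one ⟨3617, 0, 1⟩)) (.node 1 (.one ⟨2277, 0, 1⟩) (.one ⟨11830, 1, 2⟩))) (.node 2 (.node 1 (.one ⟨3152, 1, 0⟩) (.one ⟨13442, 0, 3⟩)) (.node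 1 (.one ⟨7714, 1, 2⟩) (.one ⟨3058, 1, 0⟩))))) (.node 8 (.node 4 (.node 2 (.node 1 (.one ⟨3011, 1, 1⟩) (.one ⟨15002, 1, 2⟩)) (.node 1 (.one ⟨3987, 1, 1⟩) (.one ⟨13609, 0, 3⟩))) (.node 2 (.node 1 (.one ⟨5521, 1, 1⟩) (.one ⟨17155, 1, 2⟩)) (.node 1 (.one ⟨507, 1, 1⟩) (.one ⟨3642, 1, 0⟩)))) (.node 4 (.node 2 (.node 1 (.one ⟨13591, 1, 1⟩) (.one ⟨5657, 0, 3⟩)) (.node 1 (.one ⟨8442, 0, 2⟩) (.one ⟨11165, 0, 3⟩))) (.node 2 (.node 1 (.one ⟨3461, 1, 0⟩) (.one ⟨19, 1, 1⟩)) (.node 1 (.one ⟨4000, 1, 1⟩) (.one ⟨7677, 0, 3⟩)))))))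
def par5_14_9 : Arr Par :=
  (.node 32 (.node 16 (.node 8 (.node 4 (.node 2 (.node 1 (.one ⟨5245, 1, 1⟩) (.one ⟨8372, 1, 1⟩)) (.node 1 (.one ⟨1811, 1, 0⟩) (.one ⟨7985, 1, 1⟩))) (.node 2 (.node 1 (.one ⟨3795, 1, 0⟩) (.one ⟨5238, 0, 3⟩)) (.node 1 (.one ⟨4335, 1, 1⟩) (.one ⟨13391, 1, 2⟩)))) (.node 4 (.node 2 (.node 1 (.one ⟨14677, 0, 2⟩) (.one ⟨10192, 0, 1⟩)) (.node 1 (.one ⟨7651, 1, 2⟩) (.one ⟨8003, 1, 1⟩))) (.node 2 (.node 1 (.one ⟨4094, 1, 2⟩) (.one ⟨2825, 1, 0⟩)) (.node 1 (.one ⟨13340, 1, 1⟩) (.one ⟨15565, 0, 1⟩))))) (.node 8 (.node 4 (.node 2 (.node 1 (.one ⟨11273, 0, 1⟩) (.one ⟨438, 1, 2⟩)) (.node 1 (.one ⟨2864, 0, 2⟩) (.one ⟨3637, 0, 1⟩))) (.node 2 (.node 1 (.one ⟨7667, 0, 1⟩) (.one ⟨12042, 0, 3⟩)) (.node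 1 (.one ⟨7546, 1, 2⟩) (.one ⟨10468, 0, 2⟩)))) (.node 4 (.node 2 (.node 1 (.one ⟨2956, 0, 2⟩) (.one ⟨2214, 0, 3⟩)) (.node 1 (.one ⟨2008, 1, 2⟩) (.one ⟨15602, 1, 1⟩))) (.node 2 (.node 1 (.one ⟨14869, 1, 1⟩) (.one ⟨2723, 1, 2⟩)) (.node 1 (.one ⟨189, 1, 1⟩) (.one ⟨12463, 0, 3⟩)))))) (.node 16 (.node 8 (.node 4 (.node 2 (.node 1 (.one ⟨2005, 0, 1⟩) (.one ⟨15219, 1, 2⟩)) (.node 1 (.one ⟨5849, 0, 1⟩) (.one ⟨3620, 1, 2⟩))) (.node 2 (.node 1 (.one ⟨15566, 0, 1⟩) (.one ⟨4701, 0, 1⟩)) (.node 1 (.one ⟨11274, 0, 1⟩) (.one ⟨15206, 1, 2⟩)))) (.node 4 (.node 2 (.node 1 (.one ⟨229, 0, 1⟩) (.one ⟨4635, 0, 2⟩)) (.node 1 (.one ⟨11635, 1, 2⟩) (.one ⟨1619, 0, 0⟩))) (.node 2 (.node 1 (.one ⟨6237, 1, 2⟩) (.one ⟨4862, 1, 2⟩)) (.node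 1 (.one ⟨16914, 0, 2⟩) (.one ⟨6516, 1, 1⟩))))) (.node 8 (.node 4 (.node 2 (.node 1 (.one ⟨6365, 0, 2⟩) (.one ⟨11533, 1, 1⟩)) (.node 1 (.one ⟨9803, 0, 2⟩) (.one ⟨6752, 0, 3⟩))) (.node 2 (.node 1 (.one ⟨14821, 1, 2⟩) (.one ⟨11392, 0, 1⟩)) (.node 1 (.one ⟨808, 1, 1⟩) (.one ⟨9625, 0, 1⟩)))) (.node 4 (.node 2 (.node 1 (.one ⟨14102, 0, 3⟩) (.one ⟨9409, 0, 1⟩)) (.node 1 (.one ⟨14069, 0, 3⟩) (.one ⟨1, 0, 1⟩))) (.node 2 (.node 1 (.one ⟨5957, 0, 3⟩) (.one ⟨1175, 0, 1⟩)) (.node 1 (.one ⟨14932, 1, 2⟩) (.one ⟨14367, 1, 1⟩)))))))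
def par5_14_10 : Arr Par :=
  (.node 32 (.node 16 (.node 8 (.node 4 (.node 2 (.node 1 (.one ⟨9616, 0, 1⟩) (.one ⟨13401, 0, 3⟩)) (.node 1 (.one ⟨9418, 0, 1⟩) (.one ⟨1249, 0, 1⟩))) (.node 2 (.node 1 (.one ⟨5369, 0, 3⟩) (.one ⟨1146, 0, 1⟩)) (.node 1 (.one ⟨5403, 0, 3⟩) (.one ⟨2108, 0, 2⟩)))) (.node 4 (.node 2 (.node 1 (.one ⟨10490, 0, 2⟩) (.one ⟨3348, 1, 2⟩)) (.node 1 (.one ⟨10608, 0, 3⟩) (.one ⟨4492, 0, 1⟩))) (.node 2 (.node 1 (.one ⟨16776, 1, 1⟩) (.one ⟨3917, 0, 3⟩)) (.node 1 (.one ⟨8082, 1, 2⟩) (.one ⟨10809, 0, 2⟩))))) (.node 8 (.node 4 (.node 2 (.node 1 (.one ⟨8139, 0, 2⟩) (.one ⟨2236, 0, 3⟩)) (.node 1 (.one ⟨16450, 0, 1⟩) (.one ⟨5795, 1, 1⟩))) (.node 2 (.node 1 (.one ⟨7762, 0, 1⟩) (.one ⟨8331, 1, 1⟩)) (.node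 1 (.one ⟨11174, 1, 2⟩) (.one ⟨6567, 0, 1⟩)))) (.node 4 (.node 2 (.node 1 (.one ⟨96, 1, 1⟩) (.one ⟨8312, 1, 2⟩)) (.node 1 (.one ⟨1945, 0, 1⟩) (.one ⟨10435, 0, 1⟩))) (.node 2 (.node 1 (.one ⟨13824, 1, 1⟩) (.one ⟨6718, 0, 3⟩)) (.node 1 (.one ⟨13788, 0, 1⟩) (.one ⟨4452, 0, 3⟩)))))) (.node 16 (.node 8 (.node 4 (.node 2 (.node 1 (.one ⟨16627, 0, 1⟩) (.one ⟨11598, 1, 2⟩)) (.node 1 (.one ⟨3498, 0, 1⟩) (.one ⟨16265, 0, 3⟩))) (.node 2 (.node 1 (.one ⟨3202, 1, 0⟩) (.one ⟨13301, 1, 1⟩)) (.node 1 (.one ⟨15429, 0, 1⟩) (.one ⟨15171, 0, 2⟩)))) (.node 4 (.node 2 (.node 1 (.one ⟨5660, 0, 3⟩) (.one ⟨4818, 1, 2⟩)) (.node 1 (.one ⟨4137, 0, 3⟩) (.one ⟨7882, 0, 3⟩))) (.node 2 (.node 1 (.one ⟨17109, 0, 3⟩) (.one ⟨2694, 0, 1⟩)) (.node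 1 (.one ⟨11159, 0, 2⟩) (.one ⟨6262, 1, 2⟩))))) (.node 8 (.node 4 (.node 2 (.node 1 (.one ⟨13782, 1, 2⟩) (.one ⟨9628, 0, 2⟩)) (.node 1 (.one ⟨10527, 1, 1⟩) (.one ⟨15524, 0, 2⟩))) (.node 2 (.node 1 (.one ⟨4188, 0, 0⟩) (.one ⟨15461, 0, 1⟩)) (.node 1 (.one ⟨2779, 1, 2⟩) (.one ⟨11389, 0, 2⟩)))) (.node 4 (.node 2 (.node 1 (.one ⟨5409, 0, 2⟩) (.one ⟨14133, 0, 3⟩)) (.node 1 (.one ⟨5399, 1, 2⟩) (.one ⟨15892, 0, 2⟩))) (.node 2 (.node 1 (.one ⟨6026, 0, 3⟩) (.one ⟨13505, 0, 2⟩)) (.node 1 (.one ⟨3197, 0, 2⟩) (.one ⟨4117, 1, 2⟩)))))))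
def par5_14_11 : Arr Par :=
  (.node 32 (.node 16 (.node 8 (.node 4 (.node 2 (.node 1 (.one ⟨7164, 1, 1⟩) (.one ⟨2663, 1, 1⟩)) (.node 1 (.one ⟨9269, 0, 2⟩) (.one ⟨10929, 1, 2⟩))) (.node 2 (.node 1 (.one ⟨610, 0, 1⟩) (.one ⟨12765, 1, 2⟩)) (.node 1 (.one ⟨1217, 0, 2⟩) (.one ⟨437, 1, 0⟩)))) (.node 4 (.node 2 (.node 1 (.one ⟨14251, 0, 1⟩) (.one ⟨9226, 0, 3⟩)) (.node 1 (.one ⟨864, 0, 0⟩) (.one ⟨15605, 0, 3⟩))) (.node 2 (.node 1 (.one ⟨11052, 1, 1⟩) (.one ⟨2724, 0, 1⟩)) (.node 1 (.one ⟨11438, 0, 2⟩) (.one ⟨5744, 1, 1⟩))))) (.node 8 (.node 4 (.node 2 (.node 1 (.one ⟨6612, 1, 1⟩) (.one ⟨5720, 0, 1⟩)) (.node 1 (.one ⟨1482, 1, 0⟩) (.one ⟨6195, 1, 1⟩))) (.node 2 (.node 1 (.one ⟨7356, 1, 1⟩) (.one ⟨10195, 1, 2⟩)) (.node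 1 (.one ⟨1998, 0, 2⟩) (.one ⟨12753, 1, 2⟩)))) (.node 4 (.node 2 (.node 1 (.one ⟨5051, 0, 2⟩) (.one ⟨3785, 0, 2⟩)) (.node 1 (.one ⟨1731, 1, 2⟩) (.one ⟨14548, 0, 3⟩))) (.node 2 (.node 1 (.one ⟨4783, 0, 2⟩) (.one ⟨1101, 1, 2⟩)) (.node 1 (.one ⟨14841, 0, 3⟩) (.one ⟨10204, 1, 1⟩)))))) (.node 16 (.node 8 (.node 4 (.node 2 (.node 1 (.one ⟨2830, 0, 3⟩) (.one ⟨16243, 1, 2⟩)) (.node 1 (.one ⟨4699, 1, 0⟩) (.one ⟨4459, 0, 1⟩))) (.node 2 (.node 1 (.one ⟨9212, 0, 1⟩) (.one ⟨11637, 0, 1⟩)) (.node 1 (.one ⟨2589, 0, 1⟩) (.one ⟨15337, 0, 3⟩)))) (.node 4 (.node 2 (.node 1 (.one ⟨11068, 0, 3⟩) (.one ⟨2756, 1, 1⟩)) (.node 1 (.one ⟨11069, 0, 1⟩) (.one ⟨15339, 0, 3⟩))) (.node 2 (.node 1 (.one ⟨11064, 0, 2⟩) (.one ⟨15340, 0, 3⟩))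 (.node 1 (.one ⟨11065, 0, 1⟩) (.one ⟨3792, 1, 0⟩))))) (.node 8 (.node 4 (.node 2 (.node 1 (.one ⟨5241, 0, 2⟩) (.one ⟨14380, 1, 1⟩)) (.node 1 (.one ⟨13280, 0, 1⟩) (.one ⟨11909, 1, 1⟩))) (.node 2 (.node 1 (.one ⟨328, 0, 2⟩) (.one ⟨2063, 1, 0⟩)) (.node 1 (.one ⟨9632, 0, 3⟩) (.one ⟨13334, 1, 1⟩)))) (.node 4 (.node 2 (.node 1 (.one ⟨4647, 0, 3⟩) (.one ⟨7014, 1, 2⟩)) (.node 1 (.one ⟨14634, 0, 1⟩) (.one ⟨14686, 0, 2⟩))) (.node 2 (.node 1 (.one ⟨6015, 1, 2⟩) (.one ⟨4364, 0, 1⟩)) (.node 1 (.one ⟨11991, 1, 2⟩) (.one ⟨12131, 1, 1⟩)))))))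
def par5_14_12 : Arr Par :=
  (.node 32 (.node 16 (.node 8 (.node 4 (.node 2 (.node 1 (.one ⟨15374, 1, 2⟩) (.one ⟨14754, 1, 2⟩)) (.node 1 (.one ⟨11631, 1, 1⟩) (.one ⟨17130, 1, 1⟩))) (.node 2 (.node 1 (.one ⟨10679, 1, 2⟩) (.one ⟨10075, 1, 1⟩)) (.node 1 (.one ⟨959, 0, 2⟩) (.one ⟨5920, 1, 2⟩)))) (.node 4 (.node 2 (.node 1 (.one ⟨2938, 0, 0⟩) (.one ⟨5313, 1, 1⟩)) (.node 1 (.one ⟨9056, 0, 1⟩) (.one ⟨5234, 1, 1⟩))) (.node 2 (.node 1 (.one ⟨4412, 1, 2⟩) (.one ⟨5967, 1, 2⟩)) (.node 1 (.one ⟨6637, 1, 2⟩) (.one ⟨40, 0, 1⟩))))) (.node 8 (.node 4 (.node 2 (.node 1 (.one ⟨11104, 0, 2⟩) (.one ⟨14646, 1, 2⟩)) (.node 1 (.one ⟨3921, 1, 2⟩) (.one ⟨2853, 1, 1⟩))) (.node 2 (.node 1 (.one ⟨9810, 0, 3⟩) (.one ⟨619, 1, 1⟩)) (.node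 1 (.one ⟨16880, 1, 2⟩) (.one ⟨6875, 1, 2⟩)))) (.node 4 (.node 2 (.node 1 (.one ⟨9150, 0, 1⟩) (.one ⟨13129, 0, 2⟩)) (.node 1 (.one ⟨9292, 0, 1⟩) (.one ⟨1446, 0, 1⟩))) (.node 2 (.node 1 (.one ⟨5088, 0, 3⟩) (.one ⟨1382, 0, 1⟩)) (.node 1 (.one ⟨5084, 0, 1⟩) (.one ⟨2831, 1, 2⟩)))))) (.node 16 (.node 8 (.node 4 (.node 2 (.node 1 (.one ⟨696, 1, 2⟩) (.one ⟨1053, 1, 2⟩)) (.node 1 (.one ⟨2836, 1, 2⟩) (.one ⟨13532, 0, 2⟩))) (.node 2 (.node 1 (.one ⟨726, 1, 2⟩) (.one ⟨1044, 1, 1⟩)) (.node 1 (.one ⟨2835, 1, 2⟩) (.one ⟨11437, 1, 1⟩)))) (.node 4 (.node 2 (.node 1 (.one ⟨2523, 1, 1⟩) (.one ⟨7566, 0, 1⟩)) (.node 1 (.one ⟨14627, 1, 2⟩) (.one ⟨14609, 0, 2⟩))) (.node 2 (.node 1 (.one ⟨13998, 1, 1⟩) (.one ⟨4140, 0, 2⟩)) (.node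 1 (.one ⟨13478, 0, 1⟩) (.one ⟨9079, 0, 3⟩))))) (.node 8 (.node 4 (.node 2 (.node 1 (.one ⟨14013, 1, 2⟩) (.one ⟨11546, 1, 1⟩)) (.node 1 (.one ⟨11236, 0, 2⟩) (.one ⟨7198, 0, 1⟩))) (.node 2 (.node 1 (.one ⟨9874, 1, 2⟩) (.one ⟨15294, 1, 2⟩)) (.node 1 (.one ⟨13378, 0, 2⟩) (.one ⟨11219, 0, 1⟩)))) (.node 4 (.node 2 (.node 1 (.one ⟨3181, 1, 0⟩) (.one ⟨14884, 0, 1⟩)) (.node 1 (.one ⟨3207, 1, 0⟩) (.one ⟨1232, 0, 1⟩))) (.node 2 (.node 1 (.one ⟨5444, 0, 2⟩) (.one ⟨6319, 0, 1⟩)) (.node 1 (.one ⟨8526, 0, 1⟩) (.one ⟨8624, 1, 1⟩)))))))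
def par5_14_13 : Arr Par :=
  (.node 32 (.node 16 (.node 8 (.node 4 (.node 2 (.node 1 (.one ⟨10534, 1, 2⟩) (.one ⟨17157, 0, 1⟩)) (.node 1 (.one ⟨16932, 0, 3⟩) (.one ⟨16676, 1, 1⟩))) (.node 2 (.node 1 (.one ⟨2232, 1, 2⟩) (.one ⟨12247, 1, 2⟩)) (.node 1 (.one ⟨3278, 1, 0⟩) (.one ⟨15173, 0, 3⟩)))) (.node 4 (.node 2 (.node 1 (.one ⟨1265, 0, 1⟩) (.one ⟨14180, 0, 1⟩)) (.node 1 (.one ⟨3414, 0, 3⟩) (.one ⟨7532, 0, 3⟩))) (.node 2 (.node 1 (.one ⟨9947, 0, 1⟩) (.one ⟨5688, 0, 3⟩)) (.node 1 (.one ⟨959, 1, 0⟩) (.one ⟨6448, 0, 2⟩))))) (.node 8 (.node 4 (.node 2 (.node 1 (.one ⟨4453, 1, 0⟩) (.one ⟨13841, 0, 2⟩)) (.node 1 (.one ⟨1616, 0, 2⟩) (.one ⟨8624, 0, 1⟩))) (.node 2 (.node 1 (.one ⟨4863, 1, 0⟩) (.one ⟨16939, 0, 1⟩))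 (.node 1 (.one ⟨11709, 1, 2⟩) (.one ⟨5300, 0, 3⟩)))) (.node 4 (.node 2 (.node 1 (.one ⟨3393, 0, 3⟩) (.one ⟨984, 0, 3⟩)) (.node 1 (.one ⟨2000, 1, 2⟩) (.one ⟨4785, 1, 0⟩))) (.node 2 (.node 1 (.one ⟨2604, 1, 0⟩) (.one ⟨6002, 0, 3⟩)) (.node 1 (.one ⟨8039, 0, 3⟩) (.one ⟨11359, 1, 1⟩)))))) (.node 16 (.node 8 (.node 4 (.node 2 (.node 1 (.one ⟨14544, 0, 2⟩) (.one ⟨14537, 0, 3⟩)) (.node 1 (.one ⟨8690, 0, 1⟩) (.one ⟨1135, 1, 0⟩))) (.node 2 (.node 1 (.one ⟨2834, 1, 0⟩) (.one ⟨13226, 1, 1⟩)) (.node 1 (.one ⟨1550, 0, 1⟩) (.one ⟨3001, 1, 0⟩)))) (.node 4 (.node 2 (.node 1 (.one ⟨3582, 1, 0⟩) (.one ⟨4711, 1, 0⟩)) (.node 1 (.one ⟨14540, 0, 1⟩) (.one ⟨845, 1, 0⟩))) (.node 2 (.node 1 (.one ⟨14577, 0, 1⟩) (.one ⟨12214, 1, 2⟩))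 (.node 1 (.one ⟨3424, 1, 0⟩) (.one ⟨1441, 0, 1⟩))))) (.node 8 (.node 4 (.node 2 (.node 1 (.one ⟨12766, 1, 1⟩) (.one ⟨9430, 0, 1⟩)) (.node 1 (.one ⟨4676, 1, 2⟩) (.one ⟨3276, 0, 1⟩))) (.node 2 (.node 1 (.one ⟨1294, 0, 1⟩) (.one ⟨5120, 1, 0⟩)) (.node 1 (.one ⟨9145, 0, 1⟩) (.one ⟨2376, 1, 2⟩)))) (.node 4 (.node 2 (.node 1 (.one ⟨3099, 0, 1⟩) (.one ⟨1123, 1, 0⟩)) (.node 1 (.one ⟨4213, 1, 1⟩) (.one ⟨1267, 1, 0⟩))) (.node 2 (.node 1 (.one ⟨11257, 0, 2⟩) (.one ⟨12873, 0, 3⟩)) (.node 1 (.one ⟨12749, 0, 3⟩) (.one ⟨16282, 0, 3⟩)))))))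
def par5_14_14 : Arr Par :=
  (.node 32 (.node 16 (.node 8 (.node 4 (.node 2 (.node 1 (.one ⟨8640, 1, 2⟩) (.one ⟨3248, 0, 0⟩)) (.node 1 (.one ⟨10346, 1, 1⟩) (.one ⟨14693, 1, 2⟩))) (.node 2 (.node 1 (.one ⟨15066, 0, 3⟩) (.one ⟨4311, 1, 0⟩)) (.node 1 (.one ⟨5297, 0, 3⟩) (.one ⟨8394, 1, 2⟩)))) (.node 4 (.node 2 (.node 1 (.one ⟨3698, 0, 0⟩) (.one ⟨6251, 0, 3⟩)) (.node 1 (.one ⟨13104, 0, 3⟩) (.one ⟨16991, 0, 1⟩))) (.node 2 (.node 1 (.one ⟨2432, 0, 3⟩) (.one ⟨5689, 0, 3⟩)) (.node 1 (.one ⟨12866, 0, 3⟩) (.one ⟨99, 1, 1⟩))))) (.node 8 (.node 4 (.node 2 (.node 1 (.one ⟨181, 0, 3⟩) (.one ⟨14148, 0, 1⟩)) (.node 1 (.one ⟨8667, 1, 1⟩) (.one ⟨5561, 0, 1⟩))) (.node 2 (.node 1 (.one ⟨16367, 0, 2⟩) (.one ⟨9063, 1, 1⟩)) (.node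 1 (.one ⟨3676, 1, 2⟩) (.one ⟨3510, 1, 2⟩)))) (.node 4 (.node 2 (.node 1 (.one ⟨813, 0, 2⟩) (.one ⟨3121, 1, 2⟩)) (.node 1 (.one ⟨2964, 1, 1⟩) (.one ⟨14504, 0, 2⟩))) (.node 2 (.node 1 (.one ⟨5294, 0, 1⟩) (.one ⟨1519, 1, 0⟩)) (.node 1 (.one ⟨1101, 1, 0⟩) (.one ⟨3267, 1, 2⟩)))))) (.node 16 (.node 8 (.node 4 (.node 2 (.node 1 (.one ⟨2442, 1, 0⟩) (.one ⟨14850, 0, 1⟩)) (.node 1 (.one ⟨11909, 0, 1⟩) (.one ⟨2069, 1, 2⟩))) (.node 2 (.node 1 (.one ⟨9541, 0, 1⟩) (.one ⟨6533, 1, 2⟩)) (.node 1 (.one ⟨14210, 0, 2⟩) (.one ⟨2929, 0, 1⟩)))) (.node 4 (.node 2 (.node 1 (.one ⟨615, 1, 2⟩) (.one ⟨7135, 0, 3⟩)) (.node 1 (.one ⟨13413, 0, 1⟩) (.one ⟨1028, 1, 0⟩))) (.node 2 (.node 1 (.one ⟨969, 0, 1⟩) (.one ⟨11976, 0, 3⟩)) (.node 1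 (.one ⟨909, 1, 1⟩) (.one ⟨6311, 0, 1⟩))))) (.node 8 (.node 4 (.node 2 (.node 1 (.one ⟨6315, 0, 3⟩) (.one ⟨4263, 1, 2⟩)) (.node 1 (.one ⟨6313, 0, 2⟩) (.one ⟨16504, 1, 2⟩))) (.node 2 (.node 1 (.one ⟨6316, 0, 3⟩) (.one ⟨5940, 1, 1⟩)) (.node 1 (.one ⟨7186, 1, 2⟩) (.one ⟨8118, 1, 1⟩)))) (.node 4 (.node 2 (.node 1 (.one ⟨10739, 0, 1⟩) (.one ⟨4807, 0, 3⟩)) (.node 1 (.one ⟨8736, 1, 2⟩) (.one ⟨2873, 1, 0⟩))) (.node 2 (.node 1 (.one ⟨3888, 1, 2⟩) (.one ⟨5029, 1, 1⟩)) (.node 1 (.one ⟨1355, 0, 1⟩) (.one ⟨11527, 1, 1⟩)))))))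
def par5_14_15 : Arr Par :=
  (.node 32 (.node 16 (.node 8 (.node 4 (.node 2 (.node 1 (.one ⟨6916, 0, 3⟩) (.one ⟨8630, 0, 1⟩)) (.node 1 (.one ⟨10361, 0, 2⟩) (.one ⟨12382, 0, 1⟩))) (.node 2 (.node 1 (.one ⟨6744, 0, 2⟩) (.one ⟨17178, 1, 1⟩)) (.node 1 (.one ⟨11751, 1, 1⟩) (.one ⟨14185, 0, 3⟩)))) (.node 4 (.node 2 (.node 1 (.one ⟨14077, 0, 3⟩) (.one ⟨5125, 1, 1⟩)) (.node 1 (.one ⟨5481, 0, 3⟩) (.one ⟨12585, 1, 2⟩))) (.node 2 (.node 1 (.one ⟨13307, 1, 2⟩) (.one ⟨1454, 1, 0⟩)) (.node 1 (.one ⟨14468, 0, 2⟩) (.one ⟨3539, 1, 0⟩))))) (.node 8 (.node 4 (.node 2 (.node 1 (.one ⟨13921, 0, 2⟩) (.one ⟨997, 1, 0⟩)) (.node 1 (.one ⟨11318, 0, 3⟩) (.one ⟨2675, 0, 1⟩))) (.node 2 (.node 1 (.one ⟨3491, 1, 0⟩) (.one ⟨6990, 0, 1⟩))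 (.node 1 (.one ⟨1954, 1, 0⟩) (.one ⟨2366, 0, 2⟩)))) (.node 4 (.node 2 (.node 1 (.one ⟨10238, 0, 2⟩) (.one ⟨10614, 0, 2⟩)) (.node 1 (.one ⟨664, 0, 1⟩) (.one ⟨7218, 1, 2⟩))) (.node 2 (.node 1 (.one ⟨848, 1, 2⟩) (.one ⟨8355, 0, 2⟩)) (.node 1 (.one ⟨130, 1, 1⟩) (.one ⟨1331, 0, 1⟩)))))) (.node 16 (.node 8 (.node 4 (.node 2 (.node 1 (.one ⟨8929, 1, 2⟩) (.one ⟨67, 0, 1⟩)) (.node 1 (.one ⟨6245, 0, 3⟩) (.one ⟨3320, 1, 2⟩))) (.node 2 (.node 1 (.one ⟨9450, 0, 1⟩) (.one ⟨14729, 1, 2⟩)) (.node 1 (.one ⟨9181, 0, 1⟩) (.one ⟨11488, 1, 2⟩)))) (.node 4 (.node 2 (.node 1 (.one ⟨1617, 1, 0⟩) (.one ⟨15764, 1, 2⟩)) (.node 1 (.one ⟨15081, 0, 2⟩) (.one ⟨15940, 1, 2⟩))) (.node 2 (.node 1 (.one ⟨10286, 1, 2⟩) (.one ⟨11285, 0, 2⟩))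 (.node 1 (.one ⟨16897, 1, 1⟩) (.one ⟨4912, 0, 1⟩))))) (.node 8 (.node 4 (.node 2 (.node 1 (.one ⟨7802, 1, 2⟩) (.one ⟨13171, 0, 3⟩)) (.node 1 (.one ⟨14187, 1, 2⟩) (.one ⟨4070, 1, 0⟩))) (.node 2 (.node 1 (.one ⟨11517, 1, 1⟩) (.one ⟨6463, 0, 2⟩)) (.node 1 (.one ⟨5205, 1, 1⟩) (.one ⟨12342, 1, 2⟩)))) (.node 4 (.node 2 (.node 1 (.one ⟨5119, 1, 1⟩) (.one ⟨1271, 1, 0⟩)) (.node 1 (.one ⟨7312, 1, 2⟩) (.one ⟨7638, 1, 2⟩))) (.node 2 (.node 1 (.one ⟨16659, 1, 1⟩) (.one ⟨1181, 0, 2⟩)) (.node 1 (.one ⟨10944, 1, 2⟩) (.one ⟨2466, 0, 2⟩)))))))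
def par5_14 : Arr Par :=
  (.node 512 (.node 256 (.node 128 (.node 64 par5_14_0 par5_14_1) (.node 64 par5_14_2 par5_14_3)) (.node 128 (.node 64 par5_14_4 par5_14_5) (.node 64 par5_14_6 par5_14_7))) (.node 256 (.node 128 (.node 64 par5_14_8 par5_14_9) (.node 64 par5_14_10 par5_14_11)) (.node 128 (.node 64 par5_14_12 par5_14_13) (.node 64 par5_14_14 par5_14_15))))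
def par5_15_0 : Arr Par :=
  (.node 32 (.node 16 (.node 8 (.node 4 (.node 2 (.node 1 (.one ⟨15266, 1, 2⟩) (.one ⟨10726, 1, 2⟩)) (.node 1 (.one ⟨2133, 1, 2⟩) (.one ⟨2641, 1, 0⟩))) (.node 2 (.node 1 (.one ⟨3264, 1, 2⟩) (.one ⟨10609, 0, 1⟩)) (.node 1 (.one ⟨14068, 1, 1⟩) (.one ⟨5751, 0, 1⟩)))) (.node 4 (.node 2 (.node 1 (.one ⟨2182, 1, 0⟩) (.one ⟨5953, 0, 2⟩)) (.node 1 (.one ⟨7524, 1, 1⟩) (.one ⟨1245, 0, 1⟩))) (.node 2 (.node 1 (.one ⟨13867, 0, 2⟩) (.one ⟨2212, 0, 1⟩)) (.node 1 (.one ⟨14039, 0, 1⟩) (.one ⟨4167, 1, 1⟩))))) (.node 8 (.node 4 (.node 2 (.node 1 (.one ⟨16939, 1, 1⟩) (.one ⟨7960, 1, 2⟩)) (.node 1 (.one ⟨8746, 0, 3⟩) (.one ⟨8386, 0, 3⟩))) (.node 2 (.node 1 (.one ⟨12229, 1, 1⟩) (.one ⟨13061, 0, 1⟩))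 (.node 1 (.one ⟨9122, 0, 1⟩) (.one ⟨1837, 0, 2⟩)))) (.node 4 (.node 2 (.node 1 (.one ⟨6025, 1, 2⟩) (.one ⟨7868, 1, 1⟩)) (.node 1 (.one ⟨11674, 0, 3⟩) (.one ⟨7172, 1, 1⟩))) (.node 2 (.node 1 (.one ⟨1782, 1, 1⟩) (.one ⟨3607, 1, 1⟩)) (.node 1 (.one ⟨8762, 1, 2⟩) (.one ⟨14639, 1, 1⟩)))))) (.node 16 (.node 8 (.node 4 (.node 2 (.node 1 (.one ⟨1621, 0, 0⟩) (.one ⟨11305, 0, 3⟩)) (.node 1 (.one ⟨15882, 1, 2⟩) (.one ⟨444, 1, 2⟩))) (.node 2 (.node 1 (.one ⟨11743, 0, 3⟩) (.one ⟨10551, 0, 3⟩)) (.node 1 (.one ⟨9169, 0, 2⟩) (.one ⟨2261, 0, 3⟩)))) (.node 4 (.node 2 (.node 1 (.one ⟨7987, 0, 1⟩) (.one ⟨3324, 0, 2⟩)) (.node 1 (.one ⟨8510, 0, 1⟩) (.one ⟨554, 1, 2⟩))) (.node 2 (.node 1 (.one ⟨5521, 0, 1⟩) (.one ⟨538, 1, 0⟩)) (.node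 1 (.one ⟨4337, 0, 1⟩) (.one ⟨14284, 1, 2⟩))))) (.node 8 (.node 4 (.node 2 (.node 1 (.one ⟨1336, 1, 1⟩) (.one ⟨7012, 1, 1⟩)) (.node 1 (.one ⟨13255, 0, 1⟩) (.one ⟨17025, 1, 2⟩))) (.node 2 (.node 1 (.one ⟨14419, 0, 3⟩) (.one ⟨10932, 0, 2⟩)) (.node 1 (.one ⟨12348, 1, 2⟩) (.one ⟨13188, 0, 2⟩)))) (.node 4 (.node 2 (.node 1 (.one ⟨2763, 1, 0⟩) (.one ⟨2930, 1, 0⟩)) (.node 1 (.one ⟨10304, 0, 2⟩) (.one ⟨1107, 1, 0⟩))) (.node 2 (.node 1 (.one ⟨15547, 0, 3⟩) (.one ⟨5574, 1, 1⟩)) (.node 1 (.one ⟨3883, 1, 0⟩) (.one ⟨12219, 1, 2⟩)))))))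
def par5_15_1 : Arr Par :=
  (.node 32 (.node 16 (.node 8 (.node 4 (.node 2 (.node 1 (.one ⟨186, 0, 2⟩) (.one ⟨4106, 1, 1⟩)) (.node 1 (.one ⟨8636, 1, 1⟩) (.one ⟨15453, 1, 1⟩))) (.node 2 (.node 1 (.one ⟨8469, 0, 2⟩) (.one ⟨1460, 1, 0⟩)) (.node 1 (.one ⟨1310, 1, 1⟩) (.one ⟨6074, 1, 1⟩)))) (.node 4 (.node 2 (.node 1 (.one ⟨2284, 1, 0⟩) (.one ⟨11671, 1, 2⟩)) (.node 1 (.one ⟨1725, 0, 2⟩) (.one ⟨6323, 0, 2⟩))) (.node 2 (.node 1 (.one ⟨11439, 1, 2⟩) (.one ⟨5314, 1, 2⟩)) (.node 1 (.one ⟨15117, 0, 3⟩) (.one ⟨4087, 0, 2⟩))))) (.node 8 (.node 4 (.node 2 (.node 1 (.one ⟨2084, 1, 0⟩) (.one ⟨15920, 1, 2⟩)) (.node 1 (.one ⟨13408, 1, 1⟩) (.one ⟨15060, 0, 2⟩))) (.node 2 (.node 1 (.one ⟨13346, 0, 1⟩) (.one ⟨994, 1, 0⟩)) (.node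 1 (.one ⟨17053, 0, 1⟩) (.one ⟨10597, 1, 1⟩)))) (.node 4 (.node 2 (.node 1 (.one ⟨5978, 0, 2⟩) (.one ⟨1309, 1, 1⟩)) (.node 1 (.one ⟨2129, 1, 2⟩) (.one ⟨7059, 1, 1⟩))) (.node 2 (.node 1 (.one ⟨14295, 0, 1⟩) (.one ⟨1175, 1, 0⟩)) (.node 1 (.one ⟨10544, 0, 3⟩) (.one ⟨14052, 0, 2⟩)))))) (.node 16 (.node 8 (.node 4 (.node 2 (.node 1 (.one ⟨3665, 1, 0⟩) (.one ⟨11275, 1, 2⟩)) (.node 1 (.one ⟨2506, 0, 3⟩) (.one ⟨1057, 0, 3⟩))) (.node 2 (.node 1 (.one ⟨3394, 0, 3⟩) (.one ⟨2393, 1, 0⟩)) (.node 1 (.one ⟨14298, 0, 3⟩) (.one ⟨4998, 1, 0⟩)))) (.node 4 (.node 2 (.node 1 (.one ⟨1340, 1, 1⟩) (.one ⟨6254, 1, 1⟩)) (.node 1 (.one ⟨17052, 1, 1⟩) (.one ⟨3425, 0, 3⟩))) (.node 2 (.node 1 (.one ⟨12375, 0, 1⟩) (.one ⟨15050, 1, 1⟩)) (.node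 1 (.one ⟨2614, 0, 3⟩) (.one ⟨11892, 0, 2⟩))))) (.node 8 (.node 4 (.node 2 (.node 1 (.one ⟨9202, 1, 1⟩) (.one ⟨8586, 0, 1⟩)) (.node 1 (.one ⟨6112, 1, 2⟩) (.one ⟨11515, 1, 1⟩))) (.node 2 (.node 1 (.one ⟨14190, 1, 2⟩) (.one ⟨7325, 1, 2⟩)) (.node 1 (.one ⟨15059, 0, 2⟩) (.one ⟨13881, 0, 2⟩)))) (.node 4 (.node 2 (.node 1 (.one ⟨15456, 0, 1⟩) (.one ⟨2587, 1, 0⟩)) (.node 1 (.one ⟨816, 0, 1⟩) (.one ⟨13265, 0, 2⟩))) (.node 2 (.node 1 (.one ⟨11599, 0, 3⟩) (.one ⟨7701, 0, 2⟩)) (.node 1 (.one ⟨8795, 0, 1⟩) (.one ⟨12422, 0, 3⟩)))))))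
def par5_15_2 : Arr Par :=
  (.node 32 (.node 16 (.node 8 (.node 4 (.node 2 (.node 1 (.one ⟨15895, 0, 3⟩) (.one ⟨12419, 0, 3⟩)) (.node 1 (.one ⟨15898, 0, 2⟩) (.one ⟨1630, 1, 0⟩))) (.node 2 (.node 1 (.one ⟨9206, 1, 1⟩) (.one ⟨15901, 0, 2⟩)) (.node 1 (.one ⟨12416, 0, 3⟩) (.one ⟨6697, 1, 2⟩)))) (.node 4 (.node 2 (.node 1 (.one ⟨3987, 1, 0⟩) (.one ⟨7450, 1, 2⟩)) (.node 1 (.one ⟨2861, 0, 3⟩) (.one ⟨8787, 0, 2⟩))) (.node 2 (.node 1 (.one ⟨5753, 1, 2⟩) (.one ⟨403, 1, 0⟩)) (.node 1 (.one ⟨1441, 1, 0⟩) (.one ⟨7242, 0, 3⟩))))) (.node 8 (.node 4 (.node 2 (.node 1 (.one ⟨11348, 0, 3⟩) (.one ⟨1737, 0, 1⟩)) (.node 1 (.one ⟨13679, 0, 1⟩) (.one ⟨3691, 1, 0⟩))) (.node 2 (.node 1 (.one ⟨15659, 0, 1⟩) (.one ⟨6044, 0, 3⟩)) (.node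 1 (.one ⟨10124, 0, 1⟩) (.one ⟨9336, 0, 1⟩)))) (.node 4 (.node 2 (.node 1 (.one ⟨1328, 0, 1⟩) (.one ⟨3482, 1, 2⟩)) (.node 1 (.one ⟨16130, 0, 3⟩) (.one ⟨9613, 0, 1⟩))) (.node 2 (.node 1 (.one ⟨600, 0, 1⟩) (.one ⟨14928, 1, 2⟩)) (.node 1 (.one ⟨7224, 1, 2⟩) (.one ⟨753, 0, 0⟩)))))) (.node 16 (.node 8 (.node 4 (.node 2 (.node 1 (.one ⟨12807, 0, 3⟩) (.one ⟨16149, 0, 2⟩)) (.node 1 (.one ⟨10524, 0, 2⟩) (.one ⟨7414, 1, 2⟩))) (.node 2 (.node 1 (.one ⟨10525, 1, 1⟩) (.one ⟨9608, 0, 2⟩)) (.node 1 (.one ⟨16409, 0, 2⟩) (.one ⟨10799, 1, 1⟩)))) (.node 4 (.node 2 (.node 1 (.one ⟨11554, 1, 1⟩) (.one ⟨2748, 1, 1⟩)) (.node 1 (.one ⟨3509, 1, 0⟩) (.one ⟨9201, 1, 1⟩))) (.node 2 (.node 1 (.one ⟨3044, 1, 0⟩) (.one ⟨5447, 0, 0⟩)) (.node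 1 (.one ⟨2578, 1, 1⟩) (.one ⟨8476, 1, 1⟩))))) (.node 8 (.node 4 (.node 2 (.node 1 (.one ⟨10408, 0, 1⟩) (.one ⟨1523, 1, 2⟩)) (.node 1 (.one ⟨4156, 0, 3⟩) (.one ⟨11493, 0, 2⟩))) (.node 2 (.node 1 (.one ⟨16062, 0, 3⟩) (.one ⟨5198, 0, 3⟩)) (.node 1 (.one ⟨5933, 0, 3⟩) (.one ⟨3372, 1, 1⟩)))) (.node 4 (.node 2 (.node 1 (.one ⟨371, 1, 0⟩) (.one ⟨15519, 0, 1⟩)) (.node 1 (.one ⟨3638, 1, 0⟩) (.one ⟨12102, 1, 2⟩))) (.node 2 (.node 1 (.one ⟨16198, 0, 3⟩) (.one ⟨1708, 0, 3⟩)) (.node 1 (.one ⟨12779, 1, 2⟩) (.one ⟨9202, 0, 1⟩)))))))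
def par5_15_3 : Arr Par :=
  (.node 32 (.node 16 (.node 8 (.node 4 (.node 2 (.node 1 (.one ⟨15577, 1, 2⟩) (.one ⟨5467, 0, 3⟩)) (.node 1 (.one ⟨1524, 1, 1⟩) (.one ⟨16684, 1, 2⟩))) (.node 2 (.node 1 (.one ⟨8436, 1, 1⟩) (.one ⟨3929, 1, 2⟩)) (.node 1 (.one ⟨8779, 0, 2⟩) (.one ⟨13918, 0, 2⟩)))) (.node 4 (.node 2 (.node 1 (.one ⟨13923, 0, 2⟩) (.one ⟨11836, 0, 3⟩)) (.node 1 (.one ⟨11844, 0, 2⟩) (.one ⟨11368, 1, 1⟩))) (.node 2 (.node 1 (.one ⟨2741, 1, 0⟩) (.one ⟨3032, 1, 0⟩)) (.node 1 (.one ⟨936, 1, 0⟩) (.one ⟨8503, 0, 1⟩))))) (.node 8 (.node 4 (.node 2 (.node 1 (.one ⟨1536, 1, 1⟩) (.one ⟨7985, 0, 1⟩)) (.node 1 (.one ⟨3011, 0, 1⟩) (.one ⟨2191, 1, 0⟩))) (.node 2 (.node 1 (.one ⟨405, 1, 2⟩) (.one ⟨16492, 0, 2⟩)) (.node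 1 (.one ⟨9537, 0, 1⟩) (.one ⟨16257, 0, 3⟩)))) (.node 4 (.node 2 (.node 1 (.one ⟨2751, 0, 0⟩) (.one ⟨10035, 0, 1⟩)) (.node 1 (.one ⟨13708, 0, 2⟩) (.one ⟨12675, 1, 2⟩))) (.node 2 (.node 1 (.one ⟨2872, 1, 1⟩) (.one ⟨1709, 0, 3⟩)) (.node 1 (.one ⟨6102, 0, 3⟩) (.one ⟨5273, 0, 3⟩)))))) (.node 16 (.node 8 (.node 4 (.node 2 (.node 1 (.one ⟨5274, 0, 3⟩) (.one ⟨10532, 1, 2⟩)) (.node 1 (.one ⟨8576, 0, 3⟩) (.one ⟨1539, 1, 1⟩))) (.node 2 (.node 1 (.one ⟨5277, 0, 3⟩) (.one ⟨8580, 0, 3⟩)) (.node 1 (.one ⟨3570, 1, 1⟩) (.one ⟨3806, 1, 0⟩)))) (.node 4 (.node 2 (.node 1 (.one ⟨9259, 0, 2⟩) (.one ⟨9364, 0, 2⟩)) (.node 1 (.one ⟨1122, 0, 2⟩) (.one ⟨9857, 0, 2⟩))) (.node 2 (.node 1 (.one ⟨14753, 1, 2⟩) (.one ⟨14311, 1, 1⟩)) (.node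 1 (.one ⟨4584, 1, 0⟩) (.one ⟨1380, 0, 2⟩))))) (.node 8 (.node 4 (.node 2 (.node 1 (.one ⟨442, 0, 0⟩) (.one ⟨5397, 0, 1⟩)) (.node 1 (.one ⟨963, 1, 0⟩) (.one ⟨3892, 1, 0⟩))) (.node 2 (.node 1 (.one ⟨3010, 0, 3⟩) (.one ⟨4732, 1, 2⟩)) (.node 1 (.one ⟨2769, 1, 0⟩) (.one ⟨10237, 0, 1⟩)))) (.node 4 (.node 2 (.node 1 (.one ⟨3456, 1, 0⟩) (.one ⟨10545, 0, 3⟩)) (.node 1 (.one ⟨9678, 1, 1⟩) (.one ⟨11450, 1, 2⟩))) (.node 2 (.node 1 (.one ⟨9275, 1, 1⟩) (.one ⟨7575, 1, 1⟩)) (.node 1 (.one ⟨5918, 1, 2⟩) (.one ⟨507, 1, 0⟩)))))))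
def par5_15_4 : Arr Par :=
  (.node 32 (.node 16 (.node 8 (.node 4 (.node 2 (.node 1 (.one ⟨12025, 1, 1⟩) (.one ⟨6441, 1, 2⟩)) (.node 1 (.one ⟨16775, 0, 2⟩) (.one ⟨3453, 1, 0⟩))) (.node 2 (.node 1 (.one ⟨16730, 0, 1⟩) (.one ⟨13029, 0, 1⟩)) (.node 1 (.one ⟨3227, 1, 0⟩) (.one ⟨13170, 0, 2⟩)))) (.node 4 (.node 2 (.node 1 (.one ⟨11258, 1, 2⟩) (.one ⟨11261, 1, 2⟩)) (.node 1 (.one ⟨11260, 1, 2⟩) (.one ⟨108, 1, 1⟩))) (.node 2 (.node 1 (.one ⟨503, 1, 2⟩) (.one ⟨926, 1, 2⟩)) (.node 1 (.one ⟨739, 1, 1⟩) (.one ⟨15536, 1, 2⟩))))) (.node 8 (.node 4 (.node 2 (.node 1 (.one ⟨1624, 1, 1⟩) (.one ⟨15174, 0, 1⟩)) (.node 1 (.one ⟨15000, 0, 2⟩) (.one ⟨9272, 1, 1⟩))) (.node 2 (.node 1 (.one ⟨7536, 1, 1⟩) (.one ⟨5393, 0, 1⟩)) (.node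 1 (.one ⟨4695, 0, 3⟩) (.one ⟨14634, 1, 1⟩)))) (.node 4 (.node 2 (.node 1 (.one ⟨2732, 1, 0⟩) (.one ⟨14833, 0, 2⟩)) (.node 1 (.one ⟨4726, 1, 2⟩) (.one ⟨4731, 1, 0⟩))) (.node 2 (.node 1 (.one ⟨9436, 0, 3⟩) (.one ⟨6723, 0, 1⟩)) (.node 1 (.one ⟨4447, 0, 3⟩) (.one ⟨102, 1, 1⟩)))))) (.node 16 (.node 8 (.node 4 (.node 2 (.node 1 (.one ⟨1042, 1, 1⟩) (.one ⟨4683, 1, 0⟩)) (.node 1 (.one ⟨3382, 1, 0⟩) (.one ⟨1705, 0, 2⟩))) (.node 2 (.node 1 (.one ⟨11282, 1, 2⟩) (.one ⟨10080, 0, 2⟩)) (.node 1 (.one ⟨2148, 0, 2⟩) (.one ⟨844, 0, 0⟩)))) (.node 4 (.node 2 (.node 1 (.one ⟨14826, 1, 1⟩) (.one ⟨12323, 0, 3⟩)) (.node 1 (.one ⟨10436, 0, 1⟩) (.one ⟨2104, 1, 0⟩))) (.node 2 (.node 1 (.one ⟨11948, 1, 2⟩) (.one ⟨3516, 1, 0⟩)) (.node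 1 (.one ⟨2690, 1, 2⟩) (.one ⟨17195, 0, 1⟩))))) (.node 8 (.node 4 (.node 2 (.node 1 (.one ⟨2425, 0, 2⟩) (.one ⟨741, 0, 0⟩)) (.node 1 (.one ⟨5453, 1, 2⟩) (.one ⟨10207, 0, 2⟩))) (.node 2 (.node 1 (.one ⟨3296, 1, 2⟩) (.one ⟨8914, 0, 3⟩)) (.node 1 (.one ⟨3634, 1, 1⟩) (.one ⟨7062, 0, 2⟩)))) (.node 4 (.node 2 (.node 1 (.one ⟨1386, 1, 0⟩) (.one ⟨17194, 0, 3⟩)) (.node 1 (.one ⟨11376, 0, 3⟩) (.one ⟨5005, 0, 3⟩))) (.node 2 (.node 1 (.one ⟨6706, 0, 3⟩) (.one ⟨5190, 1, 1⟩)) (.node 1 (.one ⟨12013, 1, 2⟩) (.one ⟨15208, 0, 1⟩)))))))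
def par5_15_5 : Arr Par :=
  (.node 32 (.node 16 (.node 8 (.node 4 (.node 2 (.node 1 (.one ⟨3523, 1, 1⟩) (.one ⟨14618, 1, 2⟩)) (.node 1 (.one ⟨14914, 1, 1⟩) (.one ⟨2332, 0, 2⟩))) (.node 2 (.node 1 (.one ⟨5752, 1, 2⟩) (.one ⟨12382, 1, 1⟩)) (.node 1 (.one ⟨13035, 1, 1⟩) (.one ⟨8012, 0, 1⟩)))) (.node 4 (.node 2 (.node 1 (.one ⟨3738, 0, 1⟩) (.one ⟨654, 0, 3⟩)) (.node 1 (.one ⟨5914, 0, 2⟩) (.one ⟨17129, 0, 3⟩))) (.node 2 (.node 1 (.one ⟨13564, 0, 3⟩) (.one ⟨1715, 1, 0⟩)) (.node 1 (.one ⟨15326, 0, 2⟩) (.one ⟨366, 0, 2⟩))))) (.node 8 (.node 4 (.node 2 (.node 1 (.one ⟨5001, 0, 2⟩) (.one ⟨4301, 1, 0⟩)) (.node 1 (.one ⟨2064, 1, 0⟩) (.one ⟨4298, 0, 3⟩))) (.node 2 (.node 1 (.one ⟨3137, 0, 2⟩) (.one ⟨9175, 0, 2⟩)) (.node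 1 (.one ⟨13058, 0, 2⟩) (.one ⟨346, 0, 1⟩)))) (.node 4 (.node 2 (.node 1 (.one ⟨327, 0, 1⟩) (.one ⟨777, 0, 1⟩)) (.node 1 (.one ⟨795, 0, 1⟩) (.one ⟨5438, 1, 2⟩))) (.node 2 (.node 1 (.one ⟨531, 0, 1⟩) (.one ⟨655, 0, 1⟩)) (.node 1 (.one ⟨13980, 1, 2⟩) (.one ⟨8018, 1, 1⟩)))))) (.node 16 (.node 8 (.node 4 (.node 2 (.node 1 (.one ⟨10083, 0, 1⟩) (.one ⟨17196, 0, 1⟩)) (.node 1 (.one ⟨1429, 0, 2⟩) (.one ⟨347, 1, 1⟩))) (.node 2 (.node 1 (.one ⟨5461, 1, 1⟩) (.one ⟨17144, 0, 3⟩)) (.node 1 (.one ⟨413, 0, 1⟩) (.one ⟨14566, 0, 2⟩)))) (.node 4 (.node 2 (.node 1 (.one ⟨12786, 1, 2⟩) (.one ⟨11363, 0, 1⟩)) (.node 1 (.one ⟨3513, 1, 0⟩) (.one ⟨793, 0, 3⟩))) (.node 2 (.node 1 (.one ⟨8676, 1, 2⟩) (.one ⟨9751, 1, 2⟩)) (.node 1 (.one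 ⟨8081, 0, 3⟩) (.one ⟨987, 1, 0⟩))))) (.node 8 (.node 4 (.node 2 (.node 1 (.one ⟨6551, 0, 1⟩) (.one ⟨1531, 0, 1⟩)) (.node 1 (.one ⟨15318, 0, 1⟩) (.one ⟨15264, 0, 1⟩))) (.node 2 (.node 1 (.one ⟨1618, 0, 3⟩) (.one ⟨6454, 0, 2⟩)) (.node 1 (.one ⟨10292, 1, 1⟩) (.one ⟨9120, 0, 1⟩)))) (.node 4 (.node 2 (.node 1 (.one ⟨17078, 0, 2⟩) (.one ⟨11802, 0, 3⟩)) (.node 1 (.one ⟨3659, 0, 2⟩) (.one ⟨180, 0, 3⟩))) (.node 2 (.node 1 (.one ⟨9749, 0, 2⟩) (.one ⟨15214, 0, 1⟩)) (.node 1 (.one ⟨2066, 1, 1⟩) (.one ⟨14655, 1, 1⟩)))))))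
def par5_15_6 : Arr Par :=
  (.node 32 (.node 16 (.node 8 (.node 4 (.node 2 (.node 1 (.one ⟨44, 0, 3⟩) (.one ⟨3786, 1, 0⟩)) (.node 1 (.one ⟨10367, 0, 3⟩) (.one ⟨3662, 0, 3⟩))) (.node 2 (.node 1 (.one ⟨14955, 1, 1⟩) (.one ⟨12366, 0, 3⟩)) (.node 1 (.one ⟨2711, 0, 1⟩) (.one ⟨10710, 1, 2⟩)))) (.node 4 (.node 2 (.node 1 (.one ⟨4254, 1, 2⟩) (.one ⟨9419, 0, 2⟩)) (.node 1 (.one ⟨3199, 1, 0⟩) (.one ⟨10269, 1, 2⟩))) (.node 2 (.node 1 (.one ⟨3729, 1, 2⟩) (.one ⟨3844, 0, 3⟩)) (.node 1 (.one ⟨12086, 1, 2⟩) (.one ⟨6694, 0, 1⟩))))) (.node 8 (.node 4 (.node 2 (.node 1 (.one ⟨3593, 1, 0⟩) (.one ⟨5362, 1, 1⟩)) (.node 1 (.one ⟨2771, 1, 0⟩) (.one ⟨7959, 1, 2⟩))) (.node 2 (.node 1 (.one ⟨953, 0, 1⟩) (.one ⟨9746, 0, 2⟩)) (.node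 1 (.one ⟨7501, 1, 2⟩) (.one ⟨4619, 0, 3⟩)))) (.node 4 (.node 2 (.node 1 (.one ⟨11475, 0, 3⟩) (.one ⟨3391, 1, 0⟩)) (.node 1 (.one ⟨10344, 0, 3⟩) (.one ⟨10305, 1, 1⟩))) (.node 2 (.node 1 (.one ⟨2986, 0, 2⟩) (.one ⟨12095, 1, 1⟩)) (.node 1 (.one ⟨1820, 0, 2⟩) (.one ⟨8424, 0, 3⟩)))))) (.node 16 (.node 8 (.node 4 (.node 2 (.node 1 (.one ⟨8903, 0, 3⟩) (.one ⟨4773, 0, 3⟩)) (.node 1 (.one ⟨5181, 0, 3⟩) (.one ⟨3214, 0, 3⟩))) (.node 2 (.node 1 (.one ⟨2862, 0, 3⟩) (.one ⟨7102, 0, 3⟩)) (.node 1 (.one ⟨6786, 0, 3⟩) (.one ⟨15371, 1, 2⟩)))) (.node 4 (.node 2 (.node 1 (.one ⟨14946, 1, 2⟩) (.one ⟨581, 0, 2⟩)) (.node 1 (.one ⟨9474, 0, 2⟩) (.one ⟨9251, 0, 2⟩))) (.node 2 (.node 1 (.one ⟨1521, 0, 2⟩) (.one ⟨3587, 1, 0⟩)) (.node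 1 (.one ⟨16269, 1, 1⟩) (.one ⟨12620, 0, 3⟩))))) (.node 8 (.node 4 (.node 2 (.node 1 (.one ⟨6721, 0, 2⟩) (.one ⟨16206, 0, 1⟩)) (.node 1 (.one ⟨3166, 0, 0⟩) (.one ⟨4588, 1, 1⟩))) (.node 2 (.node 1 (.one ⟨374, 1, 0⟩) (.one ⟨11834, 1, 2⟩)) (.node 1 (.one ⟨13111, 1, 1⟩) (.one ⟨4431, 0, 1⟩)))) (.node 4 (.node 2 (.node 1 (.one ⟨4782, 0, 1⟩) (.one ⟨5342, 1, 0⟩)) (.node 1 (.one ⟨9720, 0, 2⟩) (.one ⟨11313, 1, 1⟩))) (.node 2 (.node 1 (.one ⟨12618, 0, 2⟩) (.one ⟨3450, 0, 2⟩)) (.node 1 (.one ⟨767, 0, 1⟩) (.one ⟨16029, 1, 1⟩)))))))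
def par5_15_7 : Arr Par :=
  (.node 32 (.node 16 (.node 8 (.node 4 (.node 2 (.node 1 (.one ⟨9636, 1, 2⟩) (.one ⟨10364, 0, 3⟩)) (.node 1 (.one ⟨1292, 0, 2⟩) (.one ⟨16513, 0, 1⟩))) (.node 2 (.node 1 (.one ⟨8751, 0, 3⟩) (.one ⟨13467, 0, 2⟩)) (.node 1 (.one ⟨3306, 1, 0⟩) (.one ⟨6835, 0, 3⟩)))) (.node 4 (.node 2 (.node 1 (.one ⟨14769, 1, 2⟩) (.one ⟨8338, 0, 2⟩)) (.node 1 (.one ⟨1426, 0, 2⟩) (.one ⟨13806, 0, 2⟩))) (.node 2 (.node 1 (.one ⟨12540, 0, 2⟩) (.one ⟨3782, 1, 2⟩)) (.node 1 (.one ⟨11145, 0, 3⟩) (.one ⟨189, 1, 0⟩))))) (.node 8 (.node 4 (.node 2 (.node 1 (.one ⟨11065, 1, 1⟩) (.one ⟨13121, 0, 1⟩)) (.node 1 (.one ⟨8938, 0, 1⟩) (.one ⟨5870, 0, 3⟩))) (.node 2 (.node 1 (.one ⟨2995, 1, 0⟩) (.one ⟨7190, 0, 1⟩)) (.node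 1 (.one ⟨11372, 0, 1⟩) (.one ⟨8517, 0, 1⟩)))) (.node 4 (.node 2 (.node 1 (.one ⟨5455, 1, 0⟩) (.one ⟨3301, 1, 2⟩)) (.node 1 (.one ⟨6748, 0, 1⟩) (.one ⟨5833, 0, 2⟩))) (.node 2 (.node 1 (.one ⟨7805, 1, 2⟩) (.one ⟨16876, 1, 1⟩)) (.node 1 (.one ⟨9157, 1, 1⟩) (.one ⟨9646, 1, 2⟩)))))) (.node 16 (.node 8 (.node 4 (.node 2 (.node 1 (.one ⟨17181, 0, 1⟩) (.one ⟨3690, 0, 0⟩)) (.node 1 (.one ⟨11081, 0, 2⟩) (.one ⟨1071, 1, 0⟩))) (.node 2 (.node 1 (.one ⟨7981, 1, 2⟩) (.one ⟨9428, 0, 3⟩)) (.node 1 (.one ⟨15477, 0, 3⟩) (.one ⟨9533, 1, 2⟩)))) (.node 4 (.node 2 (.node 1 (.one ⟨12706, 0, 2⟩) (.one ⟨14330, 0, 2⟩)) (.node 1 (.one ⟨8496, 1, 2⟩) (.one ⟨3811, 1, 2⟩))) (.node 2 (.node 1 (.one ⟨10993, 1, 2⟩) (.one ⟨7715, 1, 2⟩)) (.node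 1 (.one ⟨13514, 0, 1⟩) (.one ⟨15891, 1, 2⟩))))) (.node 8 (.node 4 (.node 2 (.node 1 (.one ⟨3770, 1, 0⟩) (.one ⟨13235, 0, 2⟩)) (.node 1 (.one ⟨8866, 0, 2⟩) (.one ⟨2285, 0, 1⟩))) (.node 2 (.node 1 (.one ⟨885, 1, 1⟩) (.one ⟨52, 1, 1⟩)) (.node 1 (.one ⟨3837, 0, 2⟩) (.one ⟨1461, 0, 2⟩)))) (.node 4 (.node 2 (.node 1 (.one ⟨1238, 0, 2⟩) (.one ⟨16079, 0, 1⟩)) (.node 1 (.one ⟨6735, 1, 2⟩) (.one ⟨1909, 1, 0⟩))) (.node 2 (.node 1 (.one ⟨16090, 0, 2⟩) (.one ⟨9520, 1, 1⟩)) (.node 1 (.one ⟨1477, 0, 2⟩) (.one ⟨5135, 0, 1⟩)))))))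
def par5_15_8 : Arr Par :=
  (.node 32 (.node 16 (.node 8 (.node 4 (.node 2 (.node 1 (.one ⟨5136, 0, 3⟩) (.one ⟨1725, 1, 0⟩)) (.node 1 (.one ⟨5137, 0, 2⟩) (.one ⟨5140, 0, 1⟩))) (.node 2 (.node 1 (.one ⟨1609, 1, 0⟩) (.one ⟨5141, 0, 1⟩)) (.node 1 (.one ⟨5142, 0, 2⟩) (.one ⟨3830, 0, 1⟩)))) (.node 4 (.node 2 (.node 1 (.one ⟨2945, 0, 1⟩) (.one ⟨11548, 0, 1⟩)) (.node 1 (.one ⟨12239, 0, 1⟩) (.one ⟨2374, 0, 2⟩))) (.node 2 (.node 1 (.one ⟨5153, 0, 2⟩) (.one ⟨9361, 1, 1⟩)) (.node 1 (.one ⟨9599, 0, 2⟩) (.one ⟨4740, 0, 3⟩))))) (.node 8 (.node 4 (.node 2 (.node 1 (.one ⟨5268, 0, 3⟩) (.one ⟨13567, 0, 3⟩)) (.node 1 (.one ⟨13095, 0, 3⟩) (.one ⟨15571, 0, 1⟩))) (.node 2 (.node 1 (.one ⟨15856, 1, 1⟩) (.one ⟨6784, 0, 3⟩)) (.node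 1 (.one ⟨376, 1, 1⟩) (.one ⟨3857, 1, 2⟩)))) (.node 4 (.node 2 (.node 1 (.one ⟨16454, 1, 2⟩) (.one ⟨9524, 1, 1⟩)) (.node 1 (.one ⟨6988, 1, 1⟩) (.one ⟨9919, 1, 2⟩))) (.node 2 (.node 1 (.one ⟨15491, 0, 1⟩) (.one ⟨3525, 1, 1⟩)) (.node 1 (.one ⟨16685, 1, 2⟩) (.one ⟨3081, 1, 1⟩)))))) (.node 16 (.node 8 (.node 4 (.node 2 (.node 1 (.one ⟨4734, 0, 3⟩) (.one ⟨2853, 0, 1⟩)) (.node 1 (.one ⟨1424, 1, 1⟩) (.one ⟨9743, 0, 1⟩))) (.node 2 (.node 1 (.one ⟨4880, 1, 0⟩) (.one ⟨7587, 1, 1⟩)) (.node 1 (.one ⟨11648, 0, 2⟩) (.one ⟨348, 1, 1⟩)))) (.node 4 (.node 2 (.node 1 (.one ⟨7758, 1, 2⟩) (.one ⟨15309, 1, 1⟩)) (.node 1 (.one ⟨13234, 1, 2⟩) (.one ⟨7307, 1, 2⟩))) (.node 2 (.node 1 (.one ⟨5231, 1, 1⟩) (.one ⟨9362, 1, 1⟩)) (.node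 1 (.one ⟨17146, 0, 3⟩) (.one ⟨14413, 0, 2⟩))))) (.node 8 (.node 4 (.node 2 (.node 1 (.one ⟨15275, 0, 1⟩) (.one ⟨15603, 1, 1⟩)) (.node 1 (.one ⟨5416, 0, 2⟩) (.one ⟨15840, 1, 2⟩))) (.node 2 (.node 1 (.one ⟨5512, 1, 2⟩) (.one ⟨5095, 1, 1⟩)) (.node 1 (.one ⟨16023, 1, 2⟩) (.one ⟨6301, 0, 3⟩)))) (.node 4 (.node 2 (.node 1 (.one ⟨13675, 0, 1⟩) (.one ⟨1515, 0, 3⟩)) (.node 1 (.one ⟨7571, 1, 1⟩) (.one ⟨5090, 0, 3⟩))) (.node 2 (.node 1 (.one ⟨12705, 0, 2⟩) (.one ⟨207, 1, 1⟩)) (.node 1 (.one ⟨13131, 1, 1⟩) (.one ⟨16162, 0, 1⟩)))))))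
def par5_15_9 : Arr Par :=
  (.node 32 (.node 16 (.node 8 (.node 4 (.node 2 (.node 1 (.one ⟨3492, 0, 1⟩) (.one ⟨13285, 0, 2⟩)) (.node 1 (.one ⟨5866, 0, 2⟩) (.one ⟨8397, 1, 1⟩))) (.node 2 (.node 1 (.one ⟨300, 0, 1⟩) (.one ⟨11728, 0, 2⟩)) (.node 1 (.one ⟨7516, 0, 1⟩) (.one ⟨2755, 1, 0⟩)))) (.node 4 (.node 2 (.node 1 (.one ⟨5243, 1, 1⟩) (.one ⟨14728, 1, 2⟩)) (.node 1 (.one ⟨8374, 1, 1⟩) (.one ⟨11082, 0, 2⟩))) (.node 2 (.node 1 (.one ⟨2738, 1, 1⟩) (.one ⟨2015, 1, 0⟩)) (.node 1 (.one ⟨7288, 1, 1⟩) (.one ⟨13251, 0, 1⟩))))) (.node 8 (.node 4 (.node 2 (.node 1 (.one ⟨11272, 0, 1⟩) (.one ⟨15134, 1, 2⟩)) (.node 1 (.one ⟨8484, 1, 1⟩) (.one ⟨3636, 0, 1⟩))) (.node 2 (.node 1 (.one ⟨2006, 0, 1⟩) (.one ⟨14227, 0, 2⟩)) (.node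 1 (.one ⟨16046, 0, 1⟩) (.one ⟨7078, 0, 1⟩)))) (.node 4 (.node 2 (.node 1 (.one ⟨3047, 1, 0⟩) (.one ⟨12562, 0, 1⟩)) (.node 1 (.one ⟨14649, 1, 1⟩) (.one ⟨10497, 1, 2⟩))) (.node 2 (.node 1 (.one ⟨4190, 0, 3⟩) (.one ⟨8979, 0, 3⟩)) (.node 1 (.one ⟨14897, 0, 3⟩) (.one ⟨5848, 0, 1⟩)))))) (.node 16 (.node 8 (.node 4 (.node 2 (.node 1 (.one ⟨16221, 1, 2⟩) (.one ⟨12034, 1, 2⟩)) (.node 1 (.one ⟨15861, 0, 2⟩) (.one ⟨11271, 0, 2⟩))) (.node 2 (.node 1 (.one ⟨13252, 0, 1⟩) (.one ⟨935, 1, 2⟩)) (.node 1 (.one ⟨5081, 0, 2⟩) (.one ⟨26, 1, 2⟩)))) (.node 4 (.node 2 (.node 1 (.one ⟨9953, 0, 2⟩) (.one ⟨10624, 0, 2⟩)) (.node 1 (.one ⟨13389, 0, 2⟩) (.one ⟨3800, 1, 2⟩))) (.node 2 (.node 1 (.one ⟨2317, 0, 1⟩) (.one ⟨646, 0, 2⟩)) (.node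 1 (.one ⟨4602, 0, 3⟩) (.one ⟨13906, 0, 1⟩))))) (.node 8 (.node 4 (.node 2 (.node 1 (.one ⟨7438, 0, 3⟩) (.one ⟨16678, 0, 3⟩)) (.node 1 (.one ⟨8330, 1, 2⟩) (.one ⟨11472, 0, 3⟩))) (.node 2 (.node 1 (.one ⟨2056, 0, 2⟩) (.one ⟨12028, 0, 1⟩)) (.node 1 (.one ⟨4664, 0, 3⟩) (.one ⟨2259, 1, 1⟩)))) (.node 4 (.node 2 (.node 1 (.one ⟨9514, 0, 1⟩) (.one ⟨3531, 0, 3⟩)) (.node 1 (.one ⟨36, 0, 2⟩) (.one ⟨9408, 0, 3⟩))) (.node 2 (.node 1 (.one ⟨11628, 0, 3⟩) (.one ⟨1255, 0, 1⟩)) (.node 1 (.one ⟨3516, 0, 3⟩) (.one ⟨9505, 0, 1⟩)))))))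
def par5_15_10 : Arr Par :=
  (.node 32 (.node 16 (.node 8 (.node 4 (.node 2 (.node 1 (.one ⟨15407, 0, 3⟩) (.one ⟨1169, 0, 3⟩)) (.node 1 (.one ⟨7376, 0, 3⟩) (.one ⟨9415, 0, 1⟩))) (.node 2 (.node 1 (.one ⟨15433, 0, 3⟩) (.one ⟨1143, 0, 1⟩)) (.node 1 (.one ⟨7400, 0, 3⟩) (.one ⟨10264, 0, 1⟩)))) (.node 4 (.node 2 (.node 1 (.one ⟨10629, 0, 3⟩) (.one ⟨16406, 0, 3⟩)) (.node 1 (.one ⟨16167, 0, 3⟩) (.one ⟨12111, 1, 2⟩))) (.node 2 (.node 1 (.one ⟨464, 0, 2⟩) (.one ⟨4817, 1, 2⟩)) (.node 1 (.one ⟨8131, 0, 3⟩) (.one ⟨425, 0, 1⟩))))) (.node 8 (.node 4 (.node 2 (.node 1 (.one ⟨10082, 0, 2⟩) (.one ⟨10799, 0, 1⟩)) (.node 1 (.one ⟨10192, 1, 1⟩) (.one ⟨346, 1, 1⟩))) (.node 2 (.node 1 (.one ⟨14757, 0, 1⟩) (.one ⟨14084, 0, 2⟩))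 (.node 1 (.one ⟨17122, 1, 1⟩) (.one ⟨9098, 0, 1⟩)))) (.node 4 (.node 2 (.node 1 (.one ⟨11470, 1, 2⟩) (.one ⟨6751, 0, 1⟩)) (.node 1 (.one ⟨2113, 1, 2⟩) (.one ⟨8971, 1, 2⟩))) (.node 2 (.node 1 (.one ⟨3117, 0, 2⟩) (.one ⟨1456, 1, 0⟩)) (.node 1 (.one ⟨5157, 0, 2⟩) (.one ⟨6134, 0, 2⟩)))))) (.node 16 (.node 8 (.node 4 (.node 2 (.node 1 (.one ⟨15156, 0, 3⟩) (.one ⟨11504, 0, 1⟩)) (.node 1 (.one ⟨16781, 1, 2⟩) (.one ⟨3349, 1, 1⟩))) (.node 2 (.node 1 (.one ⟨2937, 1, 2⟩) (.one ⟨8935, 0, 2⟩)) (.node 1 (.one ⟨13263, 1, 1⟩) (.one ⟨12340, 0, 3⟩)))) (.node 4 (.node 2 (.node 1 (.one ⟨3249, 1, 1⟩) (.one ⟨10432, 0, 1⟩)) (.node 1 (.one ⟨13038, 1, 2⟩) (.one ⟨15382, 1, 2⟩))) (.node 2 (.node 1 (.one ⟨13783, 0, 2⟩) (.one ⟨5493, 0,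 1⟩)) (.node 1 (.one ⟨3108, 0, 0⟩) (.one ⟨3574, 0, 1⟩))))) (.node 8 (.node 4 (.node 2 (.node 1 (.one ⟨3202, 0, 0⟩) (.one ⟨5620, 0, 1⟩)) (.node 1 (.one ⟨802, 1, 1⟩) (.one ⟨9362, 0, 1⟩))) (.node 2 (.node 1 (.one ⟨15496, 0, 1⟩) (.one ⟨15866, 0, 3⟩)) (.node 1 (.one ⟨13194, 0, 1⟩) (.one ⟨15867, 0, 1⟩)))) (.node 4 (.node 2 (.node 1 (.one ⟨7185, 1, 1⟩) (.one ⟨3654, 1, 2⟩)) (.node 1 (.one ⟨8589, 0, 2⟩) (.one ⟨6334, 0, 1⟩))) (.node 2 (.node 1 (.one ⟨2618, 0, 1⟩) (.one ⟨16938, 1, 2⟩)) (.node 1 (.one ⟨5756, 1, 2⟩) (.one ⟨14272, 1, 1⟩)))))))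
def par5_15_11 : Arr Par :=
  (.node 32 (.node 16 (.node 8 (.node 4 (.node 2 (.node 1 (.one ⟨4115, 0, 1⟩) (.one ⟨3142, 0, 2⟩)) (.node 1 (.one ⟨11132, 0, 3⟩) (.one ⟨11799, 1, 1⟩))) (.node 2 (.node 1 (.one ⟨5767, 1, 1⟩) (.one ⟨10733, 0, 2⟩)) (.node 1 (.one ⟨10233, 1, 2⟩) (.one ⟨6004, 0, 2⟩)))) (.node 4 (.node 2 (.node 1 (.one ⟨7120, 1, 2⟩) (.one ⟨15131, 1, 2⟩)) (.node 1 (.one ⟨5482, 1, 1⟩) (.one ⟨6329, 1, 1⟩))) (.node 2 (.node 1 (.one ⟨11659, 1, 2⟩) (.one ⟨3417, 0, 1⟩)) (.node 1 (.one ⟨14109, 1, 1⟩) (.one ⟨4654, 1, 0⟩))))) (.node 8 (.node 4 (.node 2 (.node 1 (.one ⟨3096, 1, 1⟩) (.one ⟨15789, 1, 1⟩)) (.node 1 (.one ⟨10814, 1, 2⟩) (.one ⟨2012, 0, 2⟩))) (.node 2 (.node 1 (.one ⟨1741, 0, 1⟩) (.one ⟨2163, 1, 0⟩))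 (.node 1 (.one ⟨7713, 0, 2⟩) (.one ⟨3557, 1, 2⟩)))) (.node 4 (.node 2 (.node 1 (.one ⟨5707, 1, 2⟩) (.one ⟨3230, 0, 2⟩)) (.node 1 (.one ⟨11993, 1, 1⟩) (.one ⟨7655, 1, 1⟩))) (.node 2 (.node 1 (.one ⟨114, 1, 2⟩) (.one ⟨10460, 1, 2⟩)) (.node 1 (.one ⟨16215, 1, 2⟩) (.one ⟨11069, 1, 1⟩)))))) (.node 16 (.node 8 (.node 4 (.node 2 (.node 1 (.one ⟨3092, 0, 3⟩) (.one ⟨6852, 0, 3⟩)) (.node 1 (.one ⟨3601, 0, 3⟩) (.one ⟨14620, 1, 2⟩))) (.node 2 (.node 1 (.one ⟨16441, 1, 2⟩) (.one ⟨4992, 0, 1⟩)) (.node 1 (.one ⟨7984, 1, 1⟩) (.one ⟨9250, 0, 1⟩)))) (.node 4 (.node 2 (.node 1 (.one ⟨3715, 1, 0⟩) (.one ⟨13565, 0, 2⟩)) (.node 1 (.one ⟨5287, 0, 2⟩) (.one ⟨13324, 0, 3⟩))) (.node 2 (.node 1 (.one ⟨5516, 0, 1⟩) (.one ⟨5970, 1, 2⟩))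 (.node 1 (.one ⟨664, 1, 1⟩) (.one ⟨11501, 0, 3⟩))))) (.node 8 (.node 4 (.node 2 (.node 1 (.one ⟨338, 0, 1⟩) (.one ⟨11211, 0, 1⟩)) (.node 1 (.one ⟨2039, 0, 1⟩) (.one ⟨3699, 0, 1⟩))) (.node 2 (.node 1 (.one ⟨400, 1, 1⟩) (.one ⟨3604, 0, 3⟩)) (.node 1 (.one ⟨13410, 0, 1⟩) (.one ⟨1234, 1, 0⟩)))) (.node 4 (.node 2 (.node 1 (.one ⟨10831, 0, 1⟩) (.one ⟨4939, 1, 0⟩)) (.node 1 (.one ⟨5469, 1, 2⟩) (.one ⟨13984, 0, 3⟩))) (.node 2 (.node 1 (.one ⟨6737, 1, 1⟩) (.one ⟨15140, 0, 3⟩)) (.node 1 (.one ⟨8781, 0, 3⟩) (.one ⟨3186, 0, 2⟩)))))))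
def par5_15_12 : Arr Par :=
  (.node 32 (.node 16 (.node 8 (.node 4 (.node 2 (.node 1 (.one ⟨7924, 1, 2⟩) (.one ⟨12971, 1, 2⟩)) (.node 1 (.one ⟨15044, 1, 2⟩) (.one ⟨8073, 1, 2⟩))) (.node 2 (.node 1 (.one ⟨1759, 1, 2⟩) (.one ⟨14976, 1, 2⟩)) (.node 1 (.one ⟨12729, 1, 2⟩) (.one ⟨8849, 1, 2⟩)))) (.node 4 (.node 2 (.node 1 (.one ⟨16385, 0, 2⟩) (.one ⟨15705, 1, 2⟩)) (.node 1 (.one ⟨11572, 0, 2⟩) (.one ⟨5333, 1, 2⟩))) (.node 2 (.node 1 (.one ⟨11570, 0, 1⟩) (.one ⟨2504, 1, 0⟩)) (.node 1 (.one ⟨16389, 0, 1⟩) (.one ⟨8377, 0, 2⟩))))) (.node 8 (.node 4 (.node 2 (.node 1 (.one ⟨16223, 0, 2⟩) (.one ⟨16054, 1, 2⟩)) (.node 1 (.one ⟨12183, 0, 3⟩) (.one ⟨13277, 1, 2⟩))) (.node 2 (.node 1 (.one ⟨147, 0, 1⟩) (.one ⟨11463, 1,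 1⟩)) (.node 1 (.one ⟨11200, 1, 2⟩) (.one ⟨14384, 1, 1⟩)))) (.node 4 (.node 2 (.node 1 (.one ⟨3312, 0, 3⟩) (.one ⟨3335, 1, 2⟩)) (.node 1 (.one ⟨1978, 1, 1⟩) (.one ⟨7703, 1, 2⟩))) (.node 2 (.node 1 (.one ⟨1050, 0, 1⟩) (.one ⟨9916, 0, 2⟩)) (.node 1 (.one ⟨13050, 0, 3⟩) (.one ⟨11905, 1, 2⟩)))))) (.node 16 (.node 8 (.node 4 (.node 2 (.node 1 (.one ⟨4809, 1, 0⟩) (.one ⟨497, 0, 2⟩)) (.node 1 (.one ⟨971, 1, 0⟩) (.one ⟨15518, 0, 3⟩))) (.node 2 (.node 1 (.one ⟨5468, 0, 2⟩) (.one ⟨10748, 0, 1⟩)) (.node 1 (.one ⟨14025, 1, 1⟩) (.one ⟨3416, 1, 2⟩)))) (.node 4 (.node 2 (.node 1 (.one ⟨3594, 1, 1⟩) (.one ⟨963, 0, 2⟩)) (.node 1 (.one ⟨11502, 0, 3⟩) (.one ⟨5391, 1, 2⟩))) (.node 2 (.node 1 (.one ⟨345, 1, 1⟩) (.one ⟨1989, 1,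 1⟩)) (.node 1 (.one ⟨5291, 1, 2⟩) (.one ⟨5237, 0, 3⟩))))) (.node 8 (.node 4 (.node 2 (.node 1 (.one ⟨15041, 0, 2⟩) (.one ⟨9505, 1, 1⟩)) (.node 1 (.one ⟨16416, 0, 2⟩) (.one ⟨8203, 0, 1⟩))) (.node 2 (.node 1 (.one ⟨6414, 1, 1⟩) (.one ⟨6638, 0, 2⟩)) (.node 1 (.one ⟨13377, 0, 2⟩) (.one ⟨8051, 1, 2⟩)))) (.node 4 (.node 2 (.node 1 (.one ⟨10625, 1, 2⟩) (.one ⟨7363, 0, 1⟩)) (.node 1 (.one ⟨1810, 1, 0⟩) (.one ⟨3443, 0, 1⟩))) (.node 2 (.node 1 (.one ⟨7723, 0, 3⟩) (.one ⟨6508, 1, 2⟩)) (.node 1 (.one ⟨8812, 0, 1⟩) (.one ⟨523, 1, 0⟩)))))))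
def par5_15_13 : Arr Par :=
  (.node 32 (.node 16 (.node 8 (.node 4 (.node 2 (.node 1 (.one ⟨12482, 1, 1⟩) (.one ⟨9506, 1, 1⟩)) (.node 1 (.one ⟨16621, 0, 1⟩) (.one ⟨4293, 0, 1⟩))) (.node 2 (.node 1 (.one ⟨15323, 0, 3⟩) (.one ⟨4436, 1, 1⟩)) (.node 1 (.one ⟨1813, 1, 2⟩) (.one ⟨16391, 1, 1⟩)))) (.node 4 (.node 2 (.node 1 (.one ⟨4588, 1, 0⟩) (.one ⟨1664, 1, 0⟩)) (.node 1 (.one ⟨1795, 1, 0⟩) (.one ⟨8313, 0, 2⟩))) (.node 2 (.node 1 (.one ⟨15039, 0, 3⟩) (.one ⟨7264, 0, 3⟩)) (.node 1 (.one ⟨2781, 1, 0⟩) (.one ⟨7605, 1, 2⟩))))) (.node 8 (.node 4 (.node 2 (.node 1 (.one ⟨1090, 0, 2⟩) (.one ⟨8171, 1, 2⟩)) (.node 1 (.one ⟨9611, 1, 2⟩) (.one ⟨4228, 1, 2⟩))) (.node 2 (.node 1 (.one ⟨12735, 0, 2⟩) (.one ⟨3820, 1, 2⟩)) (.node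 1 (.one ⟨239, 0, 2⟩) (.one ⟨851, 0, 1⟩)))) (.node 4 (.node 2 (.node 1 (.one ⟨920, 0, 1⟩) (.one ⟨891, 0, 1⟩)) (.node 1 (.one ⟨874, 0, 1⟩) (.one ⟨630, 0, 1⟩))) (.node 2 (.node 1 (.one ⟨9845, 1, 2⟩) (.one ⟨691, 0, 1⟩)) (.node 1 (.one ⟨603, 0, 1⟩) (.one ⟨8360, 1, 1⟩)))))) (.node 16 (.node 8 (.node 4 (.node 2 (.node 1 (.one ⟨597, 0, 3⟩) (.one ⟨17139, 0, 1⟩)) (.node 1 (.one ⟨3735, 0, 0⟩) (.one ⟨12171, 0, 2⟩))) (.node 2 (.node 1 (.one ⟨8151, 1, 2⟩) (.one ⟨10247, 1, 2⟩)) (.node 1 (.one ⟨13687, 1, 2⟩) (.one ⟨11630, 0, 2⟩)))) (.node 4 (.node 2 (.node 1 (.one ⟨868, 1, 0⟩) (.one ⟨16051, 1, 2⟩)) (.node 1 (.one ⟨8032, 1, 2⟩) (.one ⟨740, 1, 0⟩))) (.node 2 (.node 1 (.one ⟨3306, 0, 2⟩) (.one ⟨9503, 1, 1⟩)) (.node 1 (.one ⟨509,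 1, 2⟩) (.one ⟨15843, 0, 1⟩))))) (.node 8 (.node 4 (.node 2 (.node 1 (.one ⟨5359, 1, 1⟩) (.one ⟨949, 0, 0⟩)) (.node 1 (.one ⟨5155, 0, 2⟩) (.one ⟨2726, 0, 1⟩))) (.node 2 (.node 1 (.one ⟨1117, 1, 1⟩) (.one ⟨15603, 0, 1⟩)) (.node 1 (.one ⟨14945, 0, 3⟩) (.one ⟨12562, 1, 1⟩)))) (.node 4 (.node 2 (.node 1 (.one ⟨17029, 1, 2⟩) (.one ⟨2561, 1, 1⟩)) (.node 1 (.one ⟨7270, 1, 2⟩) (.one ⟨2726, 1, 0⟩))) (.node 2 (.node 1 (.one ⟨12508, 0, 2⟩) (.one ⟨4988, 1, 0⟩)) (.node 1 (.one ⟨8264, 0, 2⟩) (.one ⟨14895, 1, 1⟩)))))))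
def par5_15_14 : Arr Par :=
  (.node 32 (.node 16 (.node 8 (.node 4 (.node 2 (.node 1 (.one ⟨4594, 0, 2⟩) (.one ⟨12586, 1, 2⟩)) (.node 1 (.one ⟨8352, 0, 3⟩) (.one ⟨1257, 1, 1⟩))) (.node 2 (.node 1 (.one ⟨3392, 1, 0⟩) (.one ⟨7551, 0, 2⟩)) (.node 1 (.one ⟨16311, 0, 1⟩) (.one ⟨1858, 1, 0⟩)))) (.node 4 (.node 2 (.node 1 (.one ⟨3037, 1, 0⟩) (.one ⟨2451, 1, 2⟩)) (.node 1 (.one ⟨17006, 0, 2⟩) (.one ⟨16239, 1, 2⟩))) (.node 2 (.node 1 (.one ⟨3610, 1, 2⟩) (.one ⟨1807, 1, 0⟩)) (.node 1 (.one ⟨3974, 1, 2⟩) (.one ⟨1108, 1, 2⟩))))) (.node 8 (.node 4 (.node 2 (.node 1 (.one ⟨15202, 1, 2⟩) (.one ⟨1483, 1, 0⟩)) (.node 1 (.one ⟨4889, 1, 2⟩) (.one ⟨2467, 1, 2⟩))) (.node 2 (.node 1 (.one ⟨14849, 1, 1⟩) (.one ⟨15741, 1, 2⟩)) (.node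 1 (.one ⟨5130, 1, 2⟩) (.one ⟨4185, 0, 2⟩)))) (.node 4 (.node 2 (.node 1 (.one ⟨12530, 1, 1⟩) (.one ⟨1256, 1, 1⟩)) (.node 1 (.one ⟨9862, 1, 2⟩) (.one ⟨478, 1, 1⟩))) (.node 2 (.node 1 (.one ⟨15546, 0, 1⟩) (.one ⟨4203, 1, 1⟩)) (.node 1 (.one ⟨12551, 1, 1⟩) (.one ⟨12552, 1, 2⟩)))))) (.node 16 (.node 8 (.node 4 (.node 2 (.node 1 (.one ⟨4953, 0, 1⟩) (.one ⟨4810, 0, 3⟩)) (.node 1 (.one ⟨3147, 1, 0⟩) (.one ⟨9482, 0, 1⟩))) (.node 2 (.node 1 (.one ⟨13074, 0, 3⟩) (.one ⟨203, 1, 1⟩)) (.node 1 (.one ⟨10074, 0, 3⟩) (.one ⟨12445, 1, 1⟩)))) (.node 4 (.node 2 (.node 1 (.one ⟨9118, 1, 1⟩) (.one ⟨1114, 1, 1⟩)) (.node 1 (.one ⟨6971, 0, 1⟩) (.one ⟨9361, 0, 1⟩))) (.node 2 (.node 1 (.one ⟨11074, 1, 1⟩) (.one ⟨16273, 1, 1⟩)) (.node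 1 (.one ⟨5286, 1, 2⟩) (.one ⟨11374, 1, 1⟩))))) (.node 8 (.node 4 (.node 2 (.node 1 (.one ⟨1522, 0, 2⟩) (.one ⟨1130, 0, 2⟩)) (.node 1 (.one ⟨9901, 1, 2⟩) (.one ⟨12748, 1, 2⟩))) (.node 2 (.node 1 (.one ⟨3525, 1, 0⟩) (.one ⟨590, 0, 2⟩)) (.node 1 (.one ⟨11985, 0, 1⟩) (.one ⟨3106, 0, 0⟩)))) (.node 4 (.node 2 (.node 1 (.one ⟨10372, 0, 3⟩) (.one ⟨10379, 0, 1⟩)) (.node 1 (.one ⟨16270, 0, 3⟩) (.one ⟨2566, 1, 0⟩))) (.node 2 (.node 1 (.one ⟨16341, 1, 1⟩) (.one ⟨7742, 0, 1⟩)) (.node 1 (.one ⟨1176, 1, 1⟩) (.one ⟨7035, 0, 1⟩)))))))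
def par5_15_15 : Arr Par :=
  (.node 32 (.node 16 (.node 8 (.node 4 (.node 2 (.node 1 (.one ⟨2990, 1, 0⟩) (.one ⟨1905, 1, 0⟩)) (.node 1 (.one ⟨5612, 1, 2⟩) (.one ⟨3575, 1, 0⟩))) (.node 2 (.node 1 (.one ⟨11313, 0, 1⟩) (.one ⟨2672, 0, 1⟩)) (.node 1 (.one ⟨2058, 1, 0⟩) (.one ⟨8735, 0, 2⟩)))) (.node 4 (.node 2 (.node 1 (.one ⟨1502, 1, 2⟩) (.one ⟨13245, 0, 3⟩)) (.node 1 (.one ⟨8446, 0, 2⟩) (.one ⟨3405, 0, 1⟩))) (.node 2 (.node 1 (.one ⟨14934, 0, 3⟩) (.one ⟨14848, 0, 2⟩)) (.node 1 (.one ⟨3153, 0, 1⟩) (.one ⟨8113, 0, 2⟩))))) (.node 8 (.node 4 (.node 2 (.node 1 (.one ⟨3643, 1, 1⟩) (.one ⟨1177, 1, 1⟩)) (.node 1 (.one ⟨4005, 0, 1⟩) (.one ⟨4890, 0, 1⟩))) (.node 2 (.node 1 (.one ⟨14312, 1, 1⟩) (.one ⟨5296, 1, 0⟩)) (.node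 1 (.one ⟨10653, 1, 2⟩) (.one ⟨2977, 0, 3⟩)))) (.node 4 (.node 2 (.node 1 (.one ⟨11988, 0, 3⟩) (.one ⟨12738, 1, 1⟩)) (.node 1 (.one ⟨1829, 1, 2⟩) (.one ⟨3356, 1, 2⟩))) (.node 2 (.node 1 (.one ⟨570, 0, 1⟩) (.one ⟨4438, 0, 3⟩)) (.node 1 (.one ⟨3038, 1, 0⟩) (.one ⟨1643, 1, 0⟩)))))) (.node 16 (.node 8 (.node 4 (.node 2 (.node 1 (.one ⟨1535, 1, 0⟩) (.one ⟨1497, 1, 1⟩)) (.node 1 (.one ⟨15162, 0, 1⟩) (.one ⟨1493, 0, 1⟩))) (.node 2 (.node 1 (.one ⟨16687, 0, 1⟩) (.one ⟨11982, 1, 1⟩)) (.node 1 (.one ⟨10431, 0, 3⟩) (.one ⟨16325, 1, 2⟩)))) (.node 4 (.node 2 (.node 1 (.one ⟨4978, 1, 2⟩) (.one ⟨16392, 1, 1⟩)) (.node 1 (.one ⟨12413, 0, 1⟩) (.one ⟨4157, 1, 0⟩))) (.node 2 (.node 1 (.one ⟨11307, 0, 2⟩) (.one ⟨1492, 1, 0⟩)) (.node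 1 (.one ⟨5030, 0, 2⟩) (.one ⟨455, 1, 1⟩))))) (.node 8 (.node 4 (.node 2 (.node 1 (.one ⟨9928, 0, 3⟩) (.one ⟨12057, 1, 1⟩)) (.node 1 (.one ⟨810, 1, 2⟩) (.one ⟨930, 1, 1⟩))) (.node 2 (.node 1 (.one ⟨12298, 0, 1⟩) (.one ⟨3939, 0, 2⟩)) (.node 1 (.one ⟨265, 1, 1⟩) (.one ⟨4603, 0, 2⟩)))) (.node 4 (.node 2 (.node 1 (.one ⟨14795, 0, 3⟩) (.one ⟨16443, 0, 3⟩)) (.node 1 (.one ⟨2781, 0, 2⟩) (.one ⟨5073, 0, 3⟩))) (.node 2 (.node 1 (.one ⟨15421, 0, 2⟩) (.one ⟨16825, 0, 2⟩)) (.node 1 (.one ⟨3338, 0, 3⟩) (.one ⟨16135, 0, 3⟩)))))))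
def par5_15 : Arr Par :=
  (.node 512 (.node 256 (.node 128 (.node 64 par5_15_0 par5_15_1) (.node 64 par5_15_2 par5_15_3)) (.node 128 (.node 64 par5_15_4 par5_15_5) (.node 64 par5_15_6 par5_15_7))) (.node 256 (.node 128 (.node 64 par5_15_8 par5_15_9) (.node 64 par5_15_10 par5_15_11)) (.node 128 (.node 64 par5_15_12 par5_15_13) (.node 64 par5_15_14 par5_15_15))))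
def par5_16_0 : Arr Par :=
  (.node 32 (.node 16 (.node 8 (.node 4 (.node 2 (.node 1 (.one ⟨11954, 0, 2⟩) (.one ⟨795, 1, 1⟩)) (.node 1 (.one ⟨11953, 0, 2⟩) (.one ⟨16141, 0, 1⟩))) (.node 2 (.node 1 (.one ⟨11956, 0, 3⟩) (.one ⟨2555, 1, 0⟩)) (.node 1 (.one ⟨11955, 0, 3⟩) (.one ⟨2398, 1, 0⟩)))) (.node 4 (.node 2 (.node 1 (.one ⟨431, 1, 0⟩) (.one ⟨2499, 1, 0⟩)) (.node 1 (.one ⟨122, 0, 1⟩) (.one ⟨4108, 0, 0⟩))) (.node 2 (.node 1 (.one ⟨1637, 0, 1⟩) (.one ⟨1463, 1, 0⟩)) (.node 1 (.one ⟨7092, 0, 1⟩) (.one ⟨17010, 1, 1⟩))))) (.node 8 (.node 4 (.node 2 (.node 1 (.one ⟨11248, 1, 2⟩) (.one ⟨8586, 1, 1⟩)) (.node 1 (.one ⟨3080, 1, 1⟩) (.one ⟨2689, 1, 1⟩))) (.node 2 (.node 1 (.one ⟨8320, 1, 2⟩) (.one ⟨9617, 1, 1⟩)) (.node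 1 (.one ⟨15905, 1, 2⟩) (.one ⟨12172, 0, 3⟩)))) (.node 4 (.node 2 (.node 1 (.one ⟨458, 1, 0⟩) (.one ⟨14567, 1, 1⟩)) (.node 1 (.one ⟨9279, 0, 3⟩) (.one ⟨1211, 0, 0⟩))) (.node 2 (.node 1 (.one ⟨774, 0, 1⟩) (.one ⟨4119, 0, 1⟩)) (.node 1 (.one ⟨8397, 0, 1⟩) (.one ⟨6405, 1, 2⟩)))))) (.node 16 (.node 8 (.node 4 (.node 2 (.node 1 (.one ⟨8952, 1, 1⟩) (.one ⟨14796, 0, 3⟩)) (.node 1 (.one ⟨13522, 0, 3⟩) (.one ⟨9616, 1, 1⟩))) (.node 2 (.node 1 (.one ⟨8280, 0, 2⟩) (.one ⟨6903, 0, 3⟩)) (.node 1 (.one ⟨5053, 0, 2⟩) (.one ⟨12774, 1, 2⟩)))) (.node 4 (.node 2 (.node 1 (.one ⟨14767, 0, 3⟩) (.one ⟨6920, 1, 2⟩)) (.node 1 (.one ⟨3148, 1, 2⟩) (.one ⟨14346, 0, 2⟩))) (.node 2 (.node 1 (.one ⟨6496, 1, 2⟩) (.one ⟨15992, 1, 2⟩)) (.node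 1 (.one ⟨12032, 1, 2⟩) (.one ⟨1112, 0, 2⟩))))) (.node 8 (.node 4 (.node 2 (.node 1 (.one ⟨13801, 1, 2⟩) (.one ⟨15255, 0, 3⟩)) (.node 1 (.one ⟨4967, 1, 1⟩) (.one ⟨15272, 0, 3⟩))) (.node 2 (.node 1 (.one ⟨9041, 1, 2⟩) (.one ⟨194, 0, 2⟩)) (.node 1 (.one ⟨10415, 1, 1⟩) (.one ⟨16402, 0, 2⟩)))) (.node 4 (.node 2 (.node 1 (.one ⟨578, 0, 2⟩) (.one ⟨16408, 0, 1⟩)) (.node 1 (.one ⟨1113, 0, 1⟩) (.one ⟨4675, 1, 2⟩))) (.node 2 (.node 1 (.one ⟨1400, 0, 1⟩) (.one ⟨16371, 0, 2⟩)) (.node 1 (.one ⟨1316, 0, 1⟩) (.one ⟨16913, 1, 2⟩)))))))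
def par5_16_1 : Arr Par :=
  (.node 32 (.node 16 (.node 8 (.node 4 (.node 2 (.node 1 (.one ⟨4604, 1, 0⟩) (.one ⟨10848, 1, 2⟩)) (.node 1 (.one ⟨2430, 1, 0⟩) (.one ⟨3248, 1, 2⟩))) (.node 2 (.node 1 (.one ⟨16286, 0, 2⟩) (.one ⟨5740, 0, 3⟩)) (.node 1 (.one ⟨11138, 0, 1⟩) (.one ⟨10511, 1, 1⟩)))) (.node 4 (.node 2 (.node 1 (.one ⟨14167, 0, 2⟩) (.one ⟨16547, 1, 2⟩)) (.node 1 (.one ⟨13506, 1, 2⟩) (.one ⟨6475, 0, 3⟩))) (.node 2 (.node 1 (.one ⟨9046, 1, 2⟩) (.one ⟨6204, 1, 2⟩)) (.node 1 (.one ⟨16811, 0, 2⟩) (.one ⟨15239, 0, 3⟩))))) (.node 8 (.node 4 (.node 2 (.node 1 (.one ⟨1942, 0, 0⟩) (.one ⟨7323, 0, 3⟩)) (.node 1 (.one ⟨5340, 1, 2⟩) (.one ⟨10412, 0, 3⟩))) (.node 2 (.node 1 (.one ⟨12409, 0, 2⟩) (.one ⟨2256, 0, 3⟩))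 (.node 1 (.one ⟨4269, 0, 3⟩) (.one ⟨14189, 0, 3⟩)))) (.node 4 (.node 2 (.node 1 (.one ⟨8177, 0, 3⟩) (.one ⟨4327, 0, 2⟩)) (.node 1 (.one ⟨9404, 0, 2⟩) (.one ⟨14665, 0, 3⟩))) (.node 2 (.node 1 (.one ⟨9109, 0, 3⟩) (.one ⟨5282, 0, 3⟩)) (.node 1 (.one ⟨11071, 0, 3⟩) (.one ⟨10432, 1, 1⟩)))))) (.node 16 (.node 8 (.node 4 (.node 2 (.node 1 (.one ⟨1320, 0, 2⟩) (.one ⟨17105, 0, 2⟩)) (.node 1 (.one ⟨693, 1, 1⟩) (.one ⟨13219, 1, 1⟩))) (.node 2 (.node 1 (.one ⟨5506, 0, 1⟩) (.one ⟨4923, 1, 1⟩)) (.node 1 (.one ⟨4904, 1, 1⟩) (.one ⟨11987, 1, 1⟩)))) (.node 4 (.node 2 (.node 1 (.one ⟨3119, 1, 0⟩) (.one ⟨1397, 0, 2⟩)) (.node 1 (.one ⟨7437, 0, 1⟩) (.one ⟨15180, 1, 2⟩))) (.node 2 (.node 1 (.one ⟨2173, 1, 1⟩) (.one ⟨16594, 1, 1⟩))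 (.node 1 (.one ⟨4130, 1, 1⟩) (.one ⟨5331, 1, 2⟩))))) (.node 8 (.node 4 (.node 2 (.node 1 (.one ⟨14073, 1, 2⟩) (.one ⟨5182, 1, 1⟩)) (.node 1 (.one ⟨137, 0, 1⟩) (.one ⟨13352, 0, 1⟩))) (.node 2 (.node 1 (.one ⟨2748, 0, 1⟩) (.one ⟨16192, 0, 2⟩)) (.node 1 (.one ⟨5878, 0, 3⟩) (.one ⟨16789, 1, 2⟩)))) (.node 4 (.node 2 (.node 1 (.one ⟨10049, 0, 1⟩) (.one ⟨1104, 0, 2⟩)) (.node 1 (.one ⟨11984, 1, 1⟩) (.one ⟨15535, 0, 2⟩))) (.node 2 (.node 1 (.one ⟨4131, 1, 1⟩) (.one ⟨12087, 0, 3⟩)) (.node 1 (.one ⟨7349, 0, 1⟩) (.one ⟨8486, 1, 2⟩)))))))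
def par5_16_2 : Arr Par :=
  (.node 32 (.node 16 (.node 8 (.node 4 (.node 2 (.node 1 (.one ⟨15090, 1, 2⟩) (.one ⟨979, 0, 0⟩)) (.node 1 (.one ⟨8973, 0, 2⟩) (.one ⟨9593, 0, 2⟩))) (.node 2 (.node 1 (.one ⟨3225, 0, 3⟩) (.one ⟨7705, 0, 3⟩)) (.node 1 (.one ⟨16937, 0, 1⟩) (.one ⟨520, 1, 0⟩)))) (.node 4 (.node 2 (.node 1 (.one ⟨14726, 0, 1⟩) (.one ⟨2760, 0, 0⟩)) (.node 1 (.one ⟨11442, 0, 2⟩) (.one ⟨11443, 0, 2⟩))) (.node 2 (.node 1 (.one ⟨5891, 1, 2⟩) (.one ⟨4851, 1, 1⟩)) (.node 1 (.one ⟨11446, 0, 1⟩) (.one ⟨5977, 0, 3⟩))))) (.node 8 (.node 4 (.node 2 (.node 1 (.one ⟨13384, 0, 2⟩) (.one ⟨16866, 0, 3⟩)) (.node 1 (.one ⟨5127, 1, 1⟩) (.one ⟨14010, 0, 3⟩))) (.node 2 (.node 1 (.one ⟨12130, 1, 1⟩) (.one ⟨3824, 1, 1⟩)) (.node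 1 (.one ⟨9239, 0, 2⟩) (.one ⟨7409, 0, 1⟩)))) (.node 4 (.node 2 (.node 1 (.one ⟨6818, 0, 2⟩) (.one ⟨2370, 0, 3⟩)) (.node 1 (.one ⟨13304, 1, 1⟩) (.one ⟨15167, 0, 2⟩))) (.node 2 (.node 1 (.one ⟨14760, 0, 2⟩) (.one ⟨6566, 1, 1⟩)) (.node 1 (.one ⟨9641, 0, 2⟩) (.one ⟨10057, 1, 1⟩)))))) (.node 16 (.node 8 (.node 4 (.node 2 (.node 1 (.one ⟨1041, 1, 2⟩) (.one ⟨15530, 0, 1⟩)) (.node 1 (.one ⟨14072, 1, 2⟩) (.one ⟨6069, 0, 1⟩))) (.node 2 (.node 1 (.one ⟨3836, 0, 1⟩) (.one ⟨12259, 0, 2⟩)) (.node 1 (.one ⟨14572, 0, 1⟩) (.one ⟨14788, 1, 2⟩)))) (.node 4 (.node 2 (.node 1 (.one ⟨11658, 1, 2⟩) (.one ⟨3589, 1, 0⟩)) (.node 1 (.one ⟨1311, 0, 2⟩) (.one ⟨3185, 0, 1⟩))) (.node 2 (.node 1 (.one ⟨3923, 0, 3⟩) (.one ⟨3890, 1, 2⟩)) (.node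 1 (.one ⟨7251, 1, 1⟩) (.one ⟨12249, 1, 1⟩))))) (.node 8 (.node 4 (.node 2 (.node 1 (.one ⟨1735, 1, 0⟩) (.one ⟨6136, 0, 1⟩)) (.node 1 (.one ⟨1455, 1, 0⟩) (.one ⟨14132, 0, 1⟩))) (.node 2 (.node 1 (.one ⟨3412, 0, 1⟩) (.one ⟨1358, 0, 1⟩)) (.node 1 (.one ⟨15168, 0, 3⟩) (.one ⟨6822, 1, 1⟩)))) (.node 4 (.node 2 (.node 1 (.one ⟨12607, 0, 3⟩) (.one ⟨2706, 0, 3⟩)) (.node 1 (.one ⟨11232, 1, 2⟩) (.one ⟨8904, 1, 2⟩))) (.node 2 (.node 1 (.one ⟨14386, 1, 1⟩) (.one ⟨2406, 1, 0⟩)) (.node 1 (.one ⟨12629, 1, 2⟩) (.one ⟨10822, 0, 3⟩)))))))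
def par5_16_3 : Arr Par :=
  (.node 32 (.node 16 (.node 8 (.node 4 (.node 2 (.node 1 (.one ⟨7745, 0, 3⟩) (.one ⟨3998, 0, 2⟩)) (.node 1 (.one ⟨15385, 0, 2⟩) (.one ⟨16892, 0, 3⟩))) (.node 2 (.node 1 (.one ⟨2282, 0, 3⟩) (.one ⟨5861, 0, 2⟩)) (.node 1 (.one ⟨921, 1, 1⟩) (.one ⟨6402, 1, 2⟩)))) (.node 4 (.node 2 (.node 1 (.one ⟨1124, 1, 1⟩) (.one ⟨14103, 0, 2⟩)) (.node 1 (.one ⟨7445, 0, 1⟩) (.one ⟨4011, 1, 1⟩))) (.node 2 (.node 1 (.one ⟨7791, 1, 1⟩) (.one ⟨9224, 0, 2⟩)) (.node 1 (.one ⟨17007, 1, 1⟩) (.one ⟨12551, 0, 1⟩))))) (.node 8 (.node 4 (.node 2 (.node 1 (.one ⟨337, 0, 3⟩) (.one ⟨9327, 1, 1⟩)) (.node 1 (.one ⟨2110, 1, 0⟩) (.one ⟨10183, 0, 2⟩))) (.node 2 (.node 1 (.one ⟨3906, 0, 3⟩) (.one ⟨11799, 0, 1⟩)) (.node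 1 (.one ⟨5611, 1, 1⟩) (.one ⟨331, 1, 1⟩)))) (.node 4 (.node 2 (.node 1 (.one ⟨16653, 1, 2⟩) (.one ⟨208, 1, 2⟩)) (.node 1 (.one ⟨16652, 1, 2⟩) (.one ⟨632, 1, 2⟩))) (.node 2 (.node 1 (.one ⟨16647, 1, 2⟩) (.one ⟨4159, 0, 3⟩)) (.node 1 (.one ⟨16650, 1, 2⟩) (.one ⟨4279, 1, 0⟩)))))) (.node 16 (.node 8 (.node 4 (.node 2 (.node 1 (.one ⟨1225, 1, 0⟩) (.one ⟨16209, 0, 3⟩)) (.node 1 (.one ⟨11915, 0, 3⟩) (.one ⟨7361, 0, 1⟩))) (.node 2 (.node 1 (.one ⟨3029, 0, 1⟩) (.one ⟨6460, 0, 2⟩)) (.node 1 (.one ⟨4590, 1, 2⟩) (.one ⟨9285, 0, 1⟩)))) (.node 4 (.node 2 (.node 1 (.one ⟨8170, 0, 1⟩) (.one ⟨66, 0, 1⟩)) (.node 1 (.one ⟨16211, 0, 3⟩) (.one ⟨240, 1, 2⟩))) (.node 2 (.node 1 (.one ⟨9434, 0, 1⟩) (.one ⟨1814, 1, 0⟩)) (.node 1 (.one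 ⟨1453, 0, 1⟩) (.one ⟨1443, 0, 0⟩))))) (.node 8 (.node 4 (.node 2 (.node 1 (.one ⟨1275, 0, 1⟩) (.one ⟨16518, 1, 2⟩)) (.node 1 (.one ⟨2994, 1, 0⟩) (.one ⟨2135, 1, 0⟩))) (.node 2 (.node 1 (.one ⟨3026, 0, 1⟩) (.one ⟨8431, 0, 3⟩)) (.node 1 (.one ⟨12951, 0, 1⟩) (.one ⟨4655, 1, 2⟩)))) (.node 4 (.node 2 (.node 1 (.one ⟨14471, 0, 3⟩) (.one ⟨5974, 1, 2⟩)) (.node 1 (.one ⟨12768, 1, 2⟩) (.one ⟨9220, 1, 2⟩))) (.node 2 (.node 1 (.one ⟨8528, 1, 2⟩) (.one ⟨16617, 1, 2⟩)) (.node 1 (.one ⟨16926, 0, 2⟩) (.one ⟨12959, 0, 1⟩)))))))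
def par5_16_4 : Arr Par :=
  (.node 32 (.node 16 (.node 8 (.node 4 (.node 2 (.node 1 (.one ⟨3644, 1, 0⟩) (.one ⟨12961, 0, 3⟩)) (.node 1 (.one ⟨4914, 1, 1⟩) (.one ⟨12963, 0, 1⟩))) (.node 2 (.node 1 (.one ⟨1685, 1, 0⟩) (.one ⟨12965, 0, 1⟩)) (.node 1 (.one ⟨9332, 1, 1⟩) (.one ⟨4849, 0, 1⟩)))) (.node 4 (.node 2 (.node 1 (.one ⟨851, 1, 1⟩) (.one ⟨2437, 0, 3⟩)) (.node 1 (.one ⟨12131, 0, 1⟩) (.one ⟨275, 1, 2⟩))) (.node 2 (.node 1 (.one ⟨3765, 0, 1⟩) (.one ⟨13511, 0, 1⟩)) (.node 1 (.one ⟨3480, 0, 1⟩) (.one ⟨15267, 0, 3⟩))))) (.node 8 (.node 4 (.node 2 (.node 1 (.one ⟨9238, 1, 1⟩) (.one ⟨10770, 0, 2⟩)) (.node 1 (.one ⟨7320, 1, 1⟩) (.one ⟨4944, 1, 0⟩))) (.node 2 (.node 1 (.one ⟨7801, 0, 1⟩) (.one ⟨16323, 0, 1⟩)) (.node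 1 (.one ⟨12461, 1, 1⟩) (.one ⟨12655, 1, 2⟩)))) (.node 4 (.node 2 (.node 1 (.one ⟨1119, 1, 1⟩) (.one ⟨14824, 1, 1⟩)) (.node 1 (.one ⟨7826, 1, 2⟩) (.one ⟨2713, 1, 2⟩))) (.node 2 (.node 1 (.one ⟨7807, 0, 2⟩) (.one ⟨8319, 1, 2⟩)) (.node 1 (.one ⟨7808, 0, 2⟩) (.one ⟨8534, 1, 1⟩)))))) (.node 16 (.node 8 (.node 4 (.node 2 (.node 1 (.one ⟨15209, 1, 1⟩) (.one ⟨9838, 0, 1⟩)) (.node 1 (.one ⟨4383, 0, 0⟩) (.one ⟨5231, 1, 0⟩))) (.node 2 (.node 1 (.one ⟨3096, 1, 0⟩) (.one ⟨12381, 0, 2⟩)) (.node 1 (.one ⟨9151, 1, 2⟩) (.one ⟨10682, 1, 2⟩)))) (.node 4 (.node 2 (.node 1 (.one ⟨16280, 0, 2⟩) (.one ⟨7142, 0, 1⟩)) (.node 1 (.one ⟨3952, 0, 1⟩) (.one ⟨3131, 1, 0⟩))) (.node 2 (.node 1 (.one ⟨13956, 0, 1⟩) (.one ⟨8393, 0, 1⟩)) (.node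 1 (.one ⟨5463, 1, 2⟩) (.one ⟨2183, 1, 0⟩))))) (.node 8 (.node 4 (.node 2 (.node 1 (.one ⟨9806, 0, 1⟩) (.one ⟨14925, 1, 1⟩)) (.node 1 (.one ⟨8671, 1, 1⟩) (.one ⟨6250, 0, 3⟩))) (.node 2 (.node 1 (.one ⟨15961, 1, 2⟩) (.one ⟨14662, 0, 3⟩)) (.node 1 (.one ⟨10894, 1, 1⟩) (.one ⟨3736, 1, 0⟩)))) (.node 4 (.node 2 (.node 1 (.one ⟨5837, 0, 3⟩) (.one ⟨3903, 1, 1⟩)) (.node 1 (.one ⟨5171, 0, 3⟩) (.one ⟨433, 1, 0⟩))) (.node 2 (.node 1 (.one ⟨1949, 0, 3⟩) (.one ⟨922, 1, 1⟩)) (.node 1 (.one ⟨9107, 0, 2⟩) (.one ⟨6911, 0, 2⟩)))))))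
def par5_16_5 : Arr Par :=
  (.node 32 (.node 16 (.node 8 (.node 4 (.node 2 (.node 1 (.one ⟨17048, 0, 2⟩) (.one ⟨14577, 1, 1⟩)) (.node 1 (.one ⟨4134, 0, 3⟩) (.one ⟨788, 1, 0⟩))) (.node 2 (.node 1 (.one ⟨14916, 1, 1⟩) (.one ⟨9118, 0, 1⟩)) (.node 1 (.one ⟨14849, 0, 1⟩) (.one ⟨1465, 1, 0⟩)))) (.node 4 (.node 2 (.node 1 (.one ⟨950, 1, 1⟩) (.one ⟨1792, 0, 0⟩)) (.node 1 (.one ⟨256, 1, 1⟩) (.one ⟨989, 1, 0⟩))) (.node 2 (.node 1 (.one ⟨445, 1, 1⟩) (.one ⟨12039, 0, 3⟩)) (.node 1 (.one ⟨841, 1, 1⟩) (.one ⟨2110, 0, 2⟩))))) (.node 8 (.node 4 (.node 2 (.node 1 (.one ⟨2429, 0, 3⟩) (.one ⟨8105, 0, 3⟩)) (.node 1 (.one ⟨11979, 1, 1⟩) (.one ⟨8334, 0, 1⟩))) (.node 2 (.node 1 (.one ⟨7654, 0, 3⟩) (.one ⟨2546, 0, 2⟩)) (.node 1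 (.one ⟨13764, 1, 2⟩) (.one ⟨7409, 1, 1⟩)))) (.node 4 (.node 2 (.node 1 (.one ⟨10522, 1, 2⟩) (.one ⟨3781, 1, 1⟩)) (.node 1 (.one ⟨1295, 1, 0⟩) (.one ⟨6792, 0, 2⟩))) (.node 2 (.node 1 (.one ⟨5546, 0, 2⟩) (.one ⟨11327, 0, 2⟩)) (.node 1 (.one ⟨16782, 0, 2⟩) (.one ⟨12964, 1, 2⟩)))))) (.node 16 (.node 8 (.node 4 (.node 2 (.node 1 (.one ⟨8148, 1, 2⟩) (.one ⟨3273, 1, 2⟩)) (.node 1 (.one ⟨3350, 1, 0⟩) (.one ⟨7204, 1, 2⟩))) (.node 2 (.node 1 (.one ⟨9738, 1, 2⟩) (.one ⟨16499, 1, 2⟩)) (.node 1 (.one ⟨1387, 1, 0⟩) (.one ⟨8387, 0, 3⟩)))) (.node 4 (.node 2 (.node 1 (.one ⟨12697, 0, 1⟩) (.one ⟨9038, 1, 2⟩)) (.node 1 (.one ⟨2920, 1, 0⟩) (.one ⟨2747, 0, 1⟩))) (.node 2 (.node 1 (.one ⟨14831, 0, 2⟩) (.one ⟨276, 0, 1⟩)) (.node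 1 (.one ⟨13659, 0, 2⟩) (.one ⟨7125, 1, 2⟩))))) (.node 8 (.node 4 (.node 2 (.node 1 (.one ⟨14889, 1, 2⟩) (.one ⟨16947, 1, 2⟩)) (.node 1 (.one ⟨2118, 1, 0⟩) (.one ⟨41, 0, 3⟩))) (.node 2 (.node 1 (.one ⟨6381, 0, 3⟩) (.one ⟨11768, 1, 2⟩)) (.node 1 (.one ⟨8894, 0, 3⟩) (.one ⟨4875, 1, 1⟩)))) (.node 4 (.node 2 (.node 1 (.one ⟨4812, 1, 0⟩) (.one ⟨13236, 0, 2⟩)) (.node 1 (.one ⟨4874, 1, 2⟩) (.one ⟨1421, 1, 0⟩))) (.node 2 (.node 1 (.one ⟨12153, 0, 3⟩) (.one ⟨6070, 0, 2⟩)) (.node 1 (.one ⟨5606, 0, 3⟩) (.one ⟨4947, 1, 1⟩)))))))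
def par5_16_6 : Arr Par :=
  (.node 32 (.node 16 (.node 8 (.node 4 (.node 2 (.node 1 (.one ⟨9260, 0, 2⟩) (.one ⟨9366, 0, 2⟩)) (.node 1 (.one ⟨4302, 1, 2⟩) (.one ⟨3499, 1, 2⟩))) (.node 2 (.node 1 (.one ⟨9314, 0, 2⟩) (.one ⟨9479, 0, 2⟩)) (.node 1 (.one ⟨900, 1, 0⟩) (.one ⟨8709, 1, 1⟩)))) (.node 4 (.node 2 (.node 1 (.one ⟨723, 1, 0⟩) (.one ⟨15666, 0, 3⟩)) (.node 1 (.one ⟨3610, 1, 0⟩) (.one ⟨167, 0, 2⟩))) (.node 2 (.node 1 (.one ⟨14508, 0, 2⟩) (.one ⟨5345, 0, 1⟩)) (.node 1 (.one ⟨6065, 1, 1⟩) (.one ⟨7752, 0, 1⟩))))) (.node 8 (.node 4 (.node 2 (.node 1 (.one ⟨734, 0, 3⟩) (.one ⟨13707, 0, 2⟩)) (.node 1 (.one ⟨11650, 0, 3⟩) (.one ⟨2355, 1, 1⟩))) (.node 2 (.node 1 (.one ⟨15926, 0, 3⟩) (.one ⟨3656, 0, 1⟩)) (.node 1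 (.one ⟨6080, 0, 3⟩) (.one ⟨15662, 0, 3⟩)))) (.node 4 (.node 2 (.node 1 (.one ⟨5604, 0, 1⟩) (.one ⟨9885, 0, 1⟩)) (.node 1 (.one ⟨3413, 0, 3⟩) (.one ⟨13742, 0, 1⟩))) (.node 2 (.node 1 (.one ⟨7531, 0, 3⟩) (.one ⟨2417, 1, 0⟩)) (.node 1 (.one ⟨1756, 0, 3⟩) (.one ⟨9037, 0, 1⟩)))))) (.node 16 (.node 8 (.node 4 (.node 2 (.node 1 (.one ⟨4568, 0, 3⟩) (.one ⟨11466, 0, 3⟩)) (.node 1 (.one ⟨14805, 0, 3⟩) (.one ⟨13040, 1, 2⟩))) (.node 2 (.node 1 (.one ⟨7331, 0, 2⟩) (.one ⟨12098, 1, 1⟩)) (.node 1 (.one ⟨2773, 1, 0⟩) (.one ⟨8041, 0, 3⟩)))) (.node 4 (.node 2 (.node 1 (.one ⟨11139, 0, 3⟩) (.one ⟨14901, 0, 3⟩)) (.node 1 (.one ⟨3657, 0, 3⟩) (.one ⟨16730, 1, 1⟩))) (.node 2 (.node 1 (.one ⟨451, 0, 1⟩) (.one ⟨5760, 0, 2⟩)) (.node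 1 (.one ⟨12905, 0, 2⟩) (.one ⟨17001, 1, 1⟩))))) (.node 8 (.node 4 (.node 2 (.node 1 (.one ⟨1307, 1, 0⟩) (.one ⟨9600, 0, 2⟩)) (.node 1 (.one ⟨2550, 1, 2⟩) (.one ⟨13278, 0, 2⟩))) (.node 2 (.node 1 (.one ⟨8927, 0, 2⟩) (.one ⟨13255, 1, 1⟩)) (.node 1 (.one ⟨7236, 0, 2⟩) (.one ⟨5119, 0, 1⟩)))) (.node 4 (.node 2 (.node 1 (.one ⟨8832, 1, 1⟩) (.one ⟨16521, 1, 1⟩)) (.node 1 (.one ⟨15554, 0, 2⟩) (.one ⟨14951, 0, 3⟩))) (.node 2 (.node 1 (.one ⟨15939, 0, 2⟩) (.one ⟨117, 0, 2⟩)) (.node 1 (.one ⟨12652, 1, 2⟩) (.one ⟨9697, 0, 3⟩)))))))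
def par5_16_7 : Arr Par :=
  (.node 32 (.node 16 (.node 8 (.node 4 (.node 2 (.node 1 (.one ⟨7085, 1, 2⟩) (.one ⟨13612, 0, 3⟩)) (.node 1 (.one ⟨9026, 0, 3⟩) (.one ⟨17148, 0, 3⟩))) (.node 2 (.node 1 (.one ⟨5457, 0, 2⟩) (.one ⟨13959, 0, 2⟩)) (.node 1 (.one ⟨3279, 1, 0⟩) (.one ⟨7599, 1, 2⟩)))) (.node 4 (.node 2 (.node 1 (.one ⟨5080, 1, 2⟩) (.one ⟨9029, 0, 1⟩)) (.node 1 (.one ⟨4814, 1, 1⟩) (.one ⟨12739, 0, 2⟩))) (.node 2 (.node 1 (.one ⟨7858, 0, 2⟩) (.one ⟨803, 0, 2⟩)) (.node 1 (.one ⟨14913, 0, 2⟩) (.one ⟨14593, 1, 2⟩))))) (.node 8 (.node 4 (.node 2 (.node 1 (.one ⟨9535, 0, 2⟩) (.one ⟨10000, 1, 2⟩)) (.node 1 (.one ⟨9209, 0, 2⟩) (.one ⟨14517, 0, 2⟩))) (.node 2 (.node 1 (.one ⟨1297, 0, 2⟩) (.one ⟨14573, 0, 2⟩)) (.node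 1 (.one ⟨1224, 0, 2⟩) (.one ⟨4964, 0, 2⟩)))) (.node 4 (.node 2 (.node 1 (.one ⟨15678, 0, 3⟩) (.one ⟨14735, 0, 2⟩)) (.node 1 (.one ⟨1934, 0, 2⟩) (.one ⟨14998, 0, 3⟩))) (.node 2 (.node 1 (.one ⟨236, 0, 2⟩) (.one ⟨4763, 0, 3⟩)) (.node 1 (.one ⟨15960, 0, 1⟩) (.one ⟨13415, 1, 1⟩)))))) (.node 16 (.node 8 (.node 4 (.node 2 (.node 1 (.one ⟨7090, 0, 3⟩) (.one ⟨2846, 1, 0⟩)) (.node 1 (.one ⟨12792, 1, 2⟩) (.one ⟨1083, 1, 0⟩))) (.node 2 (.node 1 (.one ⟨11325, 0, 2⟩) (.one ⟨2212, 1, 0⟩)) (.node 1 (.one ⟨11197, 1, 2⟩) (.one ⟨2854, 1, 0⟩)))) (.node 4 (.node 2 (.node 1 (.one ⟨2047, 1, 0⟩) (.one ⟨16495, 0, 3⟩)) (.node 1 (.one ⟨13625, 0, 2⟩) (.one ⟨13196, 1, 1⟩))) (.node 2 (.node 1 (.one ⟨3643, 0, 0⟩) (.one ⟨1120, 1, 0⟩)) (.node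 1 (.one ⟨2383, 1, 0⟩) (.one ⟨14857, 0, 2⟩))))) (.node 8 (.node 4 (.node 2 (.node 1 (.one ⟨13177, 0, 1⟩) (.one ⟨8778, 1, 2⟩)) (.node 1 (.one ⟨4081, 1, 0⟩) (.one ⟨14631, 1, 2⟩))) (.node 2 (.node 1 (.one ⟨14826, 0, 1⟩) (.one ⟨1425, 0, 2⟩)) (.node 1 (.one ⟨8192, 0, 3⟩) (.one ⟨2102, 1, 1⟩)))) (.node 4 (.node 2 (.node 1 (.one ⟨3266, 0, 0⟩) (.one ⟨3683, 1, 0⟩)) (.node 1 (.one ⟨6963, 1, 2⟩) (.one ⟨8154, 1, 2⟩))) (.node 2 (.node 1 (.one ⟨6575, 1, 2⟩) (.one ⟨4260, 0, 1⟩)) (.node 1 (.one ⟨7248, 0, 2⟩) (.one ⟨7285, 1, 1⟩)))))))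
def par5_16_8 : Arr Par :=
  (.node 32 (.node 16 (.node 8 (.node 4 (.node 2 (.node 1 (.one ⟨3774, 1, 0⟩) (.one ⟨4255, 1, 0⟩)) (.node 1 (.one ⟨16714, 0, 2⟩) (.one ⟨16033, 1, 2⟩))) (.node 2 (.node 1 (.one ⟨12681, 0, 1⟩) (.one ⟨3794, 1, 0⟩)) (.node 1 (.one ⟨17178, 0, 1⟩) (.one ⟨7751, 1, 2⟩)))) (.node 4 (.node 2 (.node 1 (.one ⟨1319, 0, 1⟩) (.one ⟨14681, 0, 1⟩)) (.node 1 (.one ⟨3276, 1, 1⟩) (.one ⟨6592, 0, 1⟩))) (.node 2 (.node 1 (.one ⟨3189, 1, 0⟩) (.one ⟨9238, 0, 1⟩)) (.node 1 (.one ⟨9351, 0, 1⟩) (.one ⟨6769, 0, 1⟩))))) (.node 8 (.node 4 (.node 2 (.node 1 (.one ⟨5339, 1, 1⟩) (.one ⟨4785, 0, 1⟩)) (.node 1 (.one ⟨13280, 1, 1⟩) (.one ⟨909, 0, 1⟩))) (.node 2 (.node 1 (.one ⟨16072, 0, 3⟩) (.one ⟨7635, 0, 1⟩)) (.node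 1 (.one ⟨10154, 0, 1⟩) (.one ⟨13634, 0, 3⟩)))) (.node 4 (.node 2 (.node 1 (.one ⟨3213, 0, 3⟩) (.one ⟨9675, 0, 3⟩)) (.node 1 (.one ⟨7100, 0, 3⟩) (.one ⟨8292, 0, 3⟩))) (.node 2 (.node 1 (.one ⟨13098, 0, 3⟩) (.one ⟨8802, 1, 1⟩)) (.node 1 (.one ⟨260, 1, 1⟩) (.one ⟨5014, 1, 1⟩)))))) (.node 16 (.node 8 (.node 4 (.node 2 (.node 1 (.one ⟨15934, 0, 2⟩) (.one ⟨8422, 0, 2⟩)) (.node 1 (.one ⟨8063, 1, 1⟩) (.one ⟨5190, 0, 1⟩))) (.node 2 (.node 1 (.one ⟨3441, 1, 2⟩) (.one ⟨2396, 1, 0⟩)) (.node 1 (.one ⟨15831, 1, 2⟩) (.one ⟨8415, 0, 2⟩)))) (.node 4 (.node 2 (.node 1 (.one ⟨4206, 0, 3⟩) (.one ⟨1373, 0, 0⟩)) (.node 1 (.one ⟨12447, 0, 1⟩) (.one ⟨938, 1, 0⟩))) (.node 2 (.node 1 (.one ⟨9960, 0, 3⟩) (.one ⟨7320, 0, 1⟩)) (.node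 1 (.one ⟨15949, 1, 1⟩) (.one ⟨13481, 1, 1⟩))))) (.node 8 (.node 4 (.node 2 (.node 1 (.one ⟨4570, 0, 2⟩) (.one ⟨13076, 0, 1⟩)) (.node 1 (.one ⟨4623, 1, 1⟩) (.one ⟨12057, 0, 1⟩))) (.node 2 (.node 1 (.one ⟨2526, 1, 1⟩) (.one ⟨3226, 1, 0⟩)) (.node 1 (.one ⟨4203, 0, 1⟩) (.one ⟨9073, 0, 3⟩)))) (.node 4 (.node 2 (.node 1 (.one ⟨13363, 0, 1⟩) (.one ⟨9177, 0, 2⟩)) (.node 1 (.one ⟨5565, 0, 1⟩) (.one ⟨709, 0, 3⟩))) (.node 2 (.node 1 (.one ⟨917, 1, 1⟩) (.one ⟨5131, 1, 0⟩)) (.node 1 (.one ⟨3414, 1, 0⟩) (.one ⟨19, 0, 1⟩)))))))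
def par5_16_9 : Arr Par :=
  (.node 32 (.node 16 (.node 8 (.node 4 (.node 2 (.node 1 (.one ⟨1723, 1, 0⟩) (.one ⟨3999, 1, 0⟩)) (.node 1 (.one ⟨1444, 1, 0⟩) (.one ⟨9834, 1, 2⟩))) (.node 2 (.node 1 (.one ⟨8909, 1, 2⟩) (.one ⟨12624, 1, 2⟩)) (.node 1 (.one ⟨1430, 0, 2⟩) (.one ⟨17100, 0, 1⟩)))) (.node 4 (.node 2 (.node 1 (.one ⟨10926, 0, 1⟩) (.one ⟨2237, 1, 0⟩)) (.node 1 (.one ⟨620, 1, 1⟩) (.one ⟨1944, 1, 2⟩))) (.node 2 (.node 1 (.one ⟨17031, 0, 2⟩) (.one ⟨11048, 0, 3⟩)) (.node 1 (.one ⟨205, 1, 0⟩) (.one ⟨4949, 1, 2⟩))))) (.node 8 (.node 4 (.node 2 (.node 1 (.one ⟨12123, 0, 3⟩) (.one ⟨17043, 0, 1⟩)) (.node 1 (.one ⟨5435, 1, 2⟩) (.one ⟨12825, 1, 2⟩))) (.node 2 (.node 1 (.one ⟨2721, 1, 2⟩) (.one ⟨1930, 1, 2⟩)) (.node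 1 (.one ⟨13254, 1, 1⟩) (.one ⟨8710, 1, 1⟩)))) (.node 4 (.node 2 (.node 1 (.one ⟨1492, 0, 2⟩) (.one ⟨2402, 1, 0⟩)) (.node 1 (.one ⟨9966, 0, 1⟩) (.one ⟨9365, 0, 2⟩))) (.node 2 (.node 1 (.one ⟨3773, 1, 0⟩) (.one ⟨6012, 1, 2⟩)) (.node 1 (.one ⟨1121, 0, 2⟩) (.one ⟨4168, 1, 0⟩)))))) (.node 16 (.node 8 (.node 4 (.node 2 (.node 1 (.one ⟨3743, 1, 0⟩) (.one ⟨3272, 1, 0⟩)) (.node 1 (.one ⟨3250, 0, 3⟩) (.one ⟨6222, 0, 3⟩))) (.node 2 (.node 1 (.one ⟨8255, 0, 3⟩) (.one ⟨12522, 0, 3⟩)) (.node 1 (.one ⟨10484, 0, 3⟩) (.one ⟨155, 0, 3⟩)))) (.node 4 (.node 2 (.node 1 (.one ⟨6180, 1, 2⟩) (.one ⟨1719, 1, 0⟩)) (.node 1 (.one ⟨2948, 1, 0⟩) (.one ⟨14239, 0, 3⟩))) (.node 2 (.node 1 (.one ⟨9724, 0, 3⟩) (.one ⟨12364, 0, 1⟩)) (.node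 1 (.one ⟨13419, 1, 1⟩) (.one ⟨2678, 0, 0⟩))))) (.node 8 (.node 4 (.node 2 (.node 1 (.one ⟨9425, 1, 1⟩) (.one ⟨11250, 1, 1⟩)) (.node 1 (.one ⟨1592, 1, 0⟩) (.one ⟨3016, 1, 2⟩))) (.node 2 (.node 1 (.one ⟨5744, 0, 1⟩) (.one ⟨13698, 0, 1⟩)) (.node 1 (.one ⟨2718, 1, 1⟩) (.one ⟨4352, 0, 3⟩)))) (.node 4 (.node 2 (.node 1 (.one ⟨4353, 0, 3⟩) (.one ⟨4351, 0, 3⟩)) (.node 1 (.one ⟨4354, 0, 2⟩) (.one ⟨4358, 0, 3⟩))) (.node 2 (.node 1 (.one ⟨4355, 0, 1⟩) (.one ⟨304, 1, 1⟩)) (.node 1 (.one ⟨2625, 1, 0⟩) (.one ⟨766, 1, 2⟩)))))))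
def par5_16_10 : Arr Par :=
  (.node 32 (.node 16 (.node 8 (.node 4 (.node 2 (.node 1 (.one ⟨6197, 0, 3⟩) (.one ⟨1384, 0, 1⟩)) (.node 1 (.one ⟨1450, 0, 1⟩) (.one ⟨4689, 1, 2⟩))) (.node 2 (.node 1 (.one ⟨6288, 0, 1⟩) (.one ⟨1285, 0, 1⟩)) (.node 1 (.one ⟨594, 0, 1⟩) (.one ⟨13511, 1, 1⟩)))) (.node 4 (.node 2 (.node 1 (.one ⟨12394, 0, 1⟩) (.one ⟨12267, 0, 1⟩)) (.node 1 (.one ⟨263, 1, 0⟩) (.one ⟨13878, 0, 1⟩))) (.node 2 (.node 1 (.one ⟨10928, 0, 1⟩) (.one ⟨17149, 1, 2⟩)) (.node 1 (.one ⟨13753, 0, 1⟩) (.one ⟨1367, 1, 0⟩))))) (.node 8 (.node 4 (.node 2 (.node 1 (.one ⟨4797, 0, 1⟩) (.one ⟨9711, 1, 2⟩)) (.node 1 (.one ⟨14837, 0, 2⟩) (.one ⟨1364, 0, 0⟩))) (.node 2 (.node 1 (.one ⟨8989, 1, 1⟩) (.one ⟨3255, 0, 1⟩)) (.node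 1 (.one ⟨12630, 0, 3⟩) (.one ⟨4152, 0, 3⟩)))) (.node 4 (.node 2 (.node 1 (.one ⟨8203, 1, 1⟩) (.one ⟨12821, 1, 2⟩)) (.node 1 (.one ⟨7116, 0, 3⟩) (.one ⟨8609, 0, 1⟩))) (.node 2 (.node 1 (.one ⟨2561, 1, 0⟩) (.one ⟨3160, 1, 0⟩)) (.node 1 (.one ⟨1443, 0, 3⟩) (.one ⟨13602, 1, 1⟩)))))) (.node 16 (.node 8 (.node 4 (.node 2 (.node 1 (.one ⟨2860, 0, 3⟩) (.one ⟨14391, 0, 1⟩)) (.node 1 (.one ⟨7096, 0, 1⟩) (.one ⟨4319, 0, 2⟩))) (.node 2 (.node 1 (.one ⟨839, 1, 1⟩) (.one ⟨13600, 1, 1⟩)) (.node 1 (.one ⟨16635, 0, 3⟩) (.one ⟨2156, 1, 0⟩)))) (.node 4 (.node 2 (.node 1 (.one ⟨11561, 0, 1⟩) (.one ⟨6440, 1, 1⟩)) (.node 1 (.one ⟨15821, 0, 3⟩) (.one ⟨4493, 0, 2⟩))) (.node 2 (.node 1 (.one ⟨3222, 1, 1⟩) (.one ⟨756, 1, 0⟩)) (.node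 1 (.one ⟨9426, 1, 1⟩) (.one ⟨7487, 0, 2⟩))))) (.node 8 (.node 4 (.node 2 (.node 1 (.one ⟨568, 0, 2⟩) (.one ⟨15447, 0, 2⟩)) (.node 1 (.one ⟨10153, 0, 2⟩) (.one ⟨5234, 0, 1⟩))) (.node 2 (.node 1 (.one ⟨8096, 0, 1⟩) (.one ⟨1285, 1, 1⟩)) (.node 1 (.one ⟨13143, 1, 1⟩) (.one ⟨15336, 1, 1⟩)))) (.node 4 (.node 2 (.node 1 (.one ⟨811, 1, 0⟩) (.one ⟨3725, 1, 2⟩)) (.node 1 (.one ⟨1184, 1, 1⟩) (.one ⟨8027, 1, 2⟩))) (.node 2 (.node 1 (.one ⟨5881, 1, 2⟩) (.one ⟨1301, 0, 2⟩)) (.node 1 (.one ⟨1537, 0, 2⟩) (.one ⟨10470, 0, 2⟩)))))))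
def par5_16_11 : Arr Par :=
  (.node 32 (.node 16 (.node 8 (.node 4 (.node 2 (.node 1 (.one ⟨10274, 0, 3⟩) (.one ⟨15643, 0, 1⟩)) (.node 1 (.one ⟨776, 0, 0⟩) (.one ⟨2549, 0, 3⟩))) (.node 2 (.node 1 (.one ⟨8986, 1, 2⟩) (.one ⟨17080, 1, 1⟩)) (.node 1 (.one ⟨10593, 1, 1⟩) (.one ⟨1080, 0, 1⟩)))) (.node 4 (.node 2 (.node 1 (.one ⟨1945, 1, 1⟩) (.one ⟨283, 1, 0⟩)) (.node 1 (.one ⟨12139, 0, 2⟩) (.one ⟨13411, 1, 1⟩))) (.node 2 (.node 1 (.one ⟨2050, 1, 0⟩) (.one ⟨945, 1, 1⟩)) (.node 1 (.one ⟨13149, 1, 2⟩) (.one ⟨1188, 1, 1⟩))))) (.node 8 (.node 4 (.node 2 (.node 1 (.one ⟨14194, 1, 2⟩) (.one ⟨5257, 1, 1⟩)) (.node 1 (.one ⟨17132, 1, 2⟩) (.one ⟨15368, 1, 1⟩))) (.node 2 (.node 1 (.one ⟨3437, 1, 1⟩) (.one ⟨15829, 1, 2⟩))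 (.node 1 (.one ⟨3696, 1, 1⟩) (.one ⟨13338, 0, 2⟩)))) (.node 4 (.node 2 (.node 1 (.one ⟨2933, 1, 1⟩) (.one ⟨13337, 0, 2⟩)) (.node 1 (.one ⟨1286, 1, 1⟩) (.one ⟨13132, 1, 2⟩))) (.node 2 (.node 1 (.one ⟨13341, 0, 3⟩) (.one ⟨13340, 0, 1⟩)) (.node 1 (.one ⟨13342, 0, 1⟩) (.one ⟨6489, 0, 1⟩)))))) (.node 16 (.node 8 (.node 4 (.node 2 (.node 1 (.one ⟨5185, 0, 2⟩) (.one ⟨6114, 0, 3⟩)) (.node 1 (.one ⟨1003, 1, 0⟩) (.one ⟨5397, 1, 1⟩))) (.node 2 (.node 1 (.one ⟨16992, 0, 1⟩) (.one ⟨10176, 0, 3⟩)) (.node 1 (.one ⟨16464, 0, 1⟩) (.one ⟨3845, 1, 0⟩)))) (.node 4 (.node 2 (.node 1 (.one ⟨11863, 1, 2⟩) (.one ⟨8459, 1, 2⟩)) (.node 1 (.one ⟨3389, 1, 0⟩) (.one ⟨7378, 1, 2⟩))) (.node 2 (.node 1 (.one ⟨16607, 0, 1⟩) (.one ⟨1464, 0,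 1⟩)) (.node 1 (.one ⟨6674, 0, 1⟩) (.one ⟨455, 0, 1⟩))))) (.node 8 (.node 4 (.node 2 (.node 1 (.one ⟨11458, 0, 2⟩) (.one ⟨14784, 0, 2⟩)) (.node 1 (.one ⟨4959, 1, 0⟩) (.one ⟨5220, 0, 0⟩))) (.node 2 (.node 1 (.one ⟨12255, 1, 1⟩) (.one ⟨5096, 0, 3⟩)) (.node 1 (.one ⟨11911, 0, 2⟩) (.one ⟨1718, 0, 2⟩)))) (.node 4 (.node 2 (.node 1 (.one ⟨12444, 1, 2⟩) (.one ⟨12188, 1, 2⟩)) (.node 1 (.one ⟨6582, 1, 2⟩) (.one ⟨4062, 1, 0⟩))) (.node 2 (.node 1 (.one ⟨17161, 1, 2⟩) (.one ⟨3168, 0, 1⟩)) (.node 1 (.one ⟨16957, 0, 1⟩) (.one ⟨9906, 0, 1⟩)))))))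
def par5_16_12 : Arr Par :=
  (.node 23 (.node 11 (.node 5 (.node 2 (.node 1 (.one ⟨9756, 0, 3⟩) (.one ⟨7534, 0, 3⟩)) (.node 1 (.one ⟨4258, 1, 2⟩) (.node 1 (.one ⟨1460, 0, 1⟩) (.one ⟨1911, 0, 1⟩)))) (.node 3 (.node 1 (.one ⟨3220, 1, 0⟩) (.node 1 (.one ⟨15660, 0, 3⟩) (.one ⟨1476, 0, 1⟩))) (.node 1 (.one ⟨12265, 0, 1⟩) (.node 1 (.one ⟨7012, 0, 1⟩) (.one ⟨16969, 0, 1⟩))))) (.node 6 (.node 3 (.node 1 (.one ⟨2193, 0, 3⟩) (.node 1 (.one ⟨4736, 1, 0⟩) (.one ⟨6698, 0, 1⟩))) (.node 1 (.one ⟨332, 1, 0⟩) (.node 1 (.one ⟨13860, 1, 1⟩) (.one ⟨13539, 0, 3⟩)))) (.node 3 (.node 1 (.one ⟨11262, 0, 3⟩) (.node 1 (.one ⟨2421, 0, 1⟩) (.one ⟨2761, 0, 3⟩))) (.node 1 (.one ⟨9754, 0, 2⟩) (.node 1 (.one ⟨11792, 1, 2⟩) (.one ⟨1388,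 1, 1⟩)))))) (.node 12 (.node 6 (.node 3 (.node 1 (.one ⟨15600, 0, 1⟩) (.node 1 (.one ⟨12760, 0, 3⟩) (.one ⟨1404, 1, 1⟩))) (.node 1 (.one ⟨3635, 1, 0⟩) (.node 1 (.one ⟨16408, 1, 1⟩) (.one ⟨14254, 0, 3⟩)))) (.node 3 (.node 1 (.one ⟨1934, 1, 0⟩) (.node 1 (.one ⟨10662, 1, 2⟩) (.one ⟨3235, 1, 0⟩))) (.node 1 (.one ⟨14373, 1, 1⟩) (.node 1 (.one ⟨5024, 1, 2⟩) (.one ⟨1075, 0, 1⟩))))) (.node 6 (.node 3 (.node 1 (.one ⟨17170, 1, 2⟩) (.node 1 (.one ⟨10535, 1, 1⟩) (.one ⟨8742, 1, 1⟩))) (.node 1 (.one ⟨1387, 1, 1⟩) (.node 1 (.one ⟨1486, 0, 2⟩) (.one ⟨1078, 0, 2⟩)))) (.node 3 (.node 1 (.one ⟨15720, 0, 3⟩) (.node 1 (.one ⟨6887, 1, 2⟩) (.one ⟨3533, 0, 0⟩))) (.node 1 (.one ⟨1536, 1, 0⟩) (.node 1 (.one ⟨586, 0, 2⟩) (.one ⟨1399,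 1, 1⟩)))))))
def par5_16 : Arr Par :=
  (.node 384 (.node 192 (.node 64 par5_16_0 (.node 64 par5_16_1 par5_16_2)) (.node 64 par5_16_3 (.node 64 par5_16_4 par5_16_5))) (.node 192 (.node 64 par5_16_6 (.node 64 par5_16_7 par5_16_8)) (.node 128 (.node 64 par5_16_9 par5_16_10) (.node 64 par5_16_11 par5_16_12))))
def par5 : Arr Par :=
  (.node 8192 (.node 4096 (.node 2048 (.node 1024 par5_0 par5_1) (.node 1024 par5_2 par5_3)) (.node 2048 (.node 1024 par5_4 par5_5) (.node 1024 par5_6 par5_7))) (.node 4096 (.node 2048 (.node 1024 par5_8 par5_9) (.node 1024 par5_10 par5_11)) (.node 2048 (.node 1024 par5_12 par5_13) (.node 1024 par5_14 (.node 1024 par5_15 par5_16)))))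

end CfsgLib.ThIndex62.Data
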