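import Cfsg.Agent.ThIndex62.Closure

/-! Orbit forest of node 6 on the points. -/

set_option autoImplicit false
set_option maxRecDepth 100000

namespace CfsgLib.ThIndex62.Data

open CfsgLib.ThModel83

def par6_0_0 : Arr Par :=
  (.node 32 (.node 16 (.node 8 (.node 4 (.node 2 (.node 1 (.one ⟨7945, 1, 2⟩) (.one ⟨1593, 1, 0⟩)) (.node 1 (.one ⟨12771, 1, 2⟩) (.one ⟨9399, 0, 4⟩))) (.node 2 (.node 1 (.one ⟨10262, 2, 5⟩) (.one ⟨16406, 2, 4⟩)) (.node 1 (.one ⟨8252, 1, 5⟩) (.one ⟨3654, 1, 0⟩)))) (.node 4 (.node 2 (.node 1 (.one ⟨4559, 1, 4⟩) (.one ⟨9933, 0, 2⟩)) (.node 1 (.one ⟨10455, 2, 5⟩) (.one ⟨1982, 2, 6⟩))) (.node 2 (.node 1 (.one ⟨3942, 0, 2⟩) (.one ⟨5004, 1, 0⟩)) (.node 1 (.one ⟨15748, 2, 2⟩) (.one ⟨8234, 2,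 6⟩))))) (.node 8 (.node 4 (.node 2 (.node 1 (.one ⟨8759, 2, 2⟩) (.one ⟨8738, 2, 5⟩)) (.node 1 (.one ⟨17169, 2, 5⟩) (.one ⟨16959, 1, 5⟩))) (.node 2 (.node 1 (.one ⟨8366, 2, 6⟩) (.one ⟨13233, 2, 5⟩)) (.node 1 (.one ⟨12295, 0, 2⟩) (.one ⟨6996, 2, 5⟩)))) (.node 4 (.node 2 (.node 1 (.one ⟨4388, 0, 2⟩) (.one ⟨8900, 2, 5⟩)) (.node 1 (.one ⟨6615, 0, 5⟩) (.one ⟨2066, 2, 5⟩))) (.node 2 (.node 1 (.one ⟨12022, 1, 4⟩) (.one ⟨14457, 0, 2⟩)) (.node 1 (.one ⟨16260, 2, 5⟩) (.one ⟨11264, 1, 4⟩)))))) (.node 16 (.node 8 (.node 4 (.node 2 (.node 1 (.one ⟨2403, 2, 3⟩) (.one ⟨13457, 2, 4⟩)) (.node 1 (.one ⟨2129, 0, 2⟩) (.one ⟨9218, 1, 2⟩))) (.node 2 (.node 1 (.one ⟨15994, 1, 2⟩) (.one ⟨6925, 1, 2⟩)) (.node 1 (.one ⟨4660, 1, 2⟩) (.one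 ⟨9849, 0, 2⟩)))) (.node 4 (.node 2 (.node 1 (.one ⟨13972, 0, 5⟩) (.one ⟨2156, 0, 2⟩)) (.node 1 (.one ⟨5729, 2, 3⟩) (.one ⟨15308, 0, 5⟩))) (.node 2 (.node 1 (.one ⟨7953, 0, 4⟩) (.one ⟨4393, 1, 5⟩)) (.node 1 (.one ⟨12180, 0, 2⟩) (.one ⟨15688, 0, 2⟩))))) (.node 8 (.node 4 (.node 2 (.node 1 (.one ⟨10892, 0, 5⟩) (.one ⟨4505, 0, 3⟩)) (.node 1 (.one ⟨14704, 1, 4⟩) (.one ⟨1257, 0, 1⟩))) (.node 2 (.node 1 (.one ⟨12010, 2, 6⟩) (.one ⟨1794, 2, 2⟩)) (.node 1 (.one ⟨12521, 2, 6⟩) (.one ⟨2036, 0, 2⟩)))) (.node 4 (.node 2 (.node 1 (.one ⟨13875, 2, 6⟩) (.one ⟨9511, 0, 1⟩)) (.node 1 (.one ⟨1168, 0, 1⟩) (.one ⟨4074, 0, 2⟩))) (.node 2 (.node 1 (.one ⟨6234, 1, 4⟩) (.one ⟨8760, 1, 4⟩)) (.node 1 (.one ⟨14005, 2, 3⟩) (.one ⟨14062,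 1, 2⟩)))))))
def par6_0_1 : Arr Par :=
  (.node 32 (.node 16 (.node 8 (.node 4 (.node 2 (.node 1 (.one ⟨1880, 1, 0⟩) (.one ⟨2085, 1, 0⟩)) (.node 1 (.one ⟨5163, 1, 0⟩) (.one ⟨565, 1, 0⟩))) (.node 2 (.node 1 (.one ⟨2603, 1, 2⟩) (.one ⟨1342, 1, 0⟩)) (.node 1 (.one ⟨4287, 1, 0⟩) (.one ⟨3826, 1, 0⟩)))) (.node 4 (.node 2 (.node 1 (.one ⟨7095, 0, 5⟩) (.one ⟨482, 1, 0⟩)) (.node 1 (.one ⟨6282, 1, 2⟩) (.one ⟨4402, 0, 2⟩))) (.node 2 (.node 1 (.one ⟨7507, 2, 3⟩) (.one ⟨4788, 1, 0⟩)) (.node 1 (.one ⟨248, 1, 0⟩) (.one ⟨572, 1, 0⟩))))) (.node 8 (.node 4 (.node 2 (.node 1 (.one ⟨4103, 1, 2⟩) (.one ⟨4250, 1, 0⟩)) (.node 1 (.one ⟨4883, 1, 0⟩) (.one ⟨2582, 1, 0⟩))) (.node 2 (.node 1 (.one ⟨999, 1, 0⟩) (.one ⟨2648, 1, 0⟩)) (.node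 1 (.one ⟨327, 1, 0⟩) (.one ⟨5926, 1, 2⟩)))) (.node 4 (.node 2 (.node 1 (.one ⟨3795, 1, 2⟩) (.one ⟨13994, 2, 5⟩)) (.node 1 (.one ⟨13347, 2, 2⟩) (.one ⟨13653, 2, 2⟩))) (.node 2 (.node 1 (.one ⟨1202, 1, 1⟩) (.one ⟨3973, 2, 3⟩)) (.node 1 (.one ⟨2835, 0, 2⟩) (.one ⟨16809, 2, 5⟩)))))) (.node 16 (.node 8 (.node 4 (.node 2 (.node 1 (.one ⟨16973, 2, 5⟩) (.one ⟨9209, 2, 5⟩)) (.node 1 (.one ⟨10634, 2, 5⟩) (.one ⟨12206, 2, 5⟩))) (.node 2 (.node 1 (.one ⟨11871, 2, 5⟩) (.one ⟨15548, 2, 5⟩)) (.node 1 (.one ⟨14747, 2, 5⟩) (.one ⟨4084, 2, 4⟩)))) (.node 4 (.node 2 (.node 1 (.one ⟨4342, 2, 6⟩) (.one ⟨2440, 1, 4⟩)) (.node 1 (.one ⟨9984, 2, 3⟩) (.one ⟨1038, 0, 2⟩))) (.node 2 (.node 1 (.one ⟨10855, 0, 5⟩) (.one ⟨11031, 0, 2⟩)) (.node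 1 (.one ⟨13987, 2, 4⟩) (.one ⟨6379, 2, 3⟩))))) (.node 8 (.node 4 (.node 2 (.node 1 (.one ⟨468, 0, 4⟩) (.one ⟨1766, 2, 2⟩)) (.node 1 (.one ⟨8558, 1, 4⟩) (.one ⟨4675, 2, 4⟩))) (.node 2 (.node 1 (.one ⟨14752, 0, 4⟩) (.one ⟨4784, 2, 3⟩)) (.node 1 (.one ⟨7551, 2, 5⟩) (.one ⟨16091, 0, 3⟩)))) (.node 4 (.node 2 (.node 1 (.one ⟨8455, 0, 3⟩) (.one ⟨5227, 2, 3⟩)) (.node 1 (.one ⟨3172, 2, 4⟩) (.one ⟨15256, 0, 4⟩))) (.node 2 (.node 1 (.one ⟨13694, 2, 2⟩) (.one ⟨12791, 0, 4⟩)) (.node 1 (.one ⟨9046, 0, 3⟩) (.one ⟨6382, 2, 3⟩)))))))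
def par6_0_2 : Arr Par :=
  (.node 32 (.node 16 (.node 8 (.node 4 (.node 2 (.node 1 (.one ⟨10307, 0, 3⟩) (.one ⟨10573, 2, 3⟩)) (.node 1 (.one ⟨14750, 2, 3⟩) (.one ⟨3037, 2, 3⟩))) (.node 2 (.node 1 (.one ⟨6673, 1, 4⟩) (.one ⟨15271, 0, 2⟩)) (.node 1 (.one ⟨9707, 2, 4⟩) (.one ⟨11960, 2, 2⟩)))) (.node 4 (.node 2 (.node 1 (.one ⟨12765, 2, 5⟩) (.one ⟨13973, 0, 5⟩)) (.node 1 (.one ⟨10893, 0, 5⟩) (.one ⟨12162, 2, 2⟩))) (.node 2 (.node 1 (.one ⟨12699, 1, 5⟩) (.one ⟨14470, 0, 2⟩)) (.node 1 (.one ⟨1715, 0, 4⟩) (.one ⟨15060, 0, 4⟩))))) (.node 8 (.node 4 (.node 2 (.node 1 (.one ⟨8105, 0, 5⟩) (.one ⟨13279, 1, 4⟩)) (.node 1 (.one ⟨41, 2, 3⟩) (.one ⟨10293, 2, 4⟩))) (.node 2 (.node 1 (.one ⟨14245, 2, 3⟩) (.one ⟨10233, 0, 5⟩))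 (.node 1 (.one ⟨6489, 0, 3⟩) (.one ⟨5462, 2, 6⟩)))) (.node 4 (.node 2 (.node 1 (.one ⟨5727, 2, 5⟩) (.one ⟨6303, 2, 5⟩)) (.node 1 (.one ⟨7902, 2, 2⟩) (.one ⟨5533, 0, 3⟩))) (.node 2 (.node 1 (.one ⟨11106, 1, 4⟩) (.one ⟨5074, 0, 2⟩)) (.node 1 (.one ⟨16262, 2, 4⟩) (.one ⟨257, 2, 5⟩)))))) (.node 16 (.node 8 (.node 4 (.node 2 (.node 1 (.one ⟨16400, 2, 5⟩) (.one ⟨8278, 0, 4⟩)) (.node 1 (.one ⟨1372, 2, 4⟩) (.one ⟨11834, 0, 3⟩))) (.node 2 (.node 1 (.one ⟨2967, 2, 4⟩) (.one ⟨9757, 2, 5⟩)) (.node 1 (.one ⟨8722, 1, 3⟩) (.one ⟨1342, 2, 3⟩)))) (.node 4 (.node 2 (.node 1 (.one ⟨6874, 2, 5⟩) (.one ⟨10945, 0, 4⟩)) (.node 1 (.one ⟨11010, 2, 5⟩) (.one ⟨3929, 2, 4⟩))) (.node 2 (.node 1 (.one ⟨12354, 0, 2⟩) (.one ⟨852, 2, 5⟩))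 (.node 1 (.one ⟨6063, 2, 5⟩) (.one ⟨15972, 2, 4⟩))))) (.node 8 (.node 4 (.node 2 (.node 1 (.one ⟨5832, 0, 3⟩) (.one ⟨16539, 0, 5⟩)) (.node 1 (.one ⟨15289, 0, 3⟩) (.one ⟨11990, 2, 4⟩))) (.node 2 (.node 1 (.one ⟨15511, 2, 6⟩) (.one ⟨7132, 0, 3⟩)) (.node 1 (.one ⟨5600, 2, 2⟩) (.one ⟨12995, 0, 4⟩)))) (.node 4 (.node 2 (.node 1 (.one ⟨4420, 0, 3⟩) (.one ⟨15334, 2, 2⟩)) (.node 1 (.one ⟨4788, 2, 5⟩) (.one ⟨3831, 2, 2⟩))) (.node 2 (.node 1 (.one ⟨14944, 2, 4⟩) (.one ⟨15329, 2, 2⟩)) (.node 1 (.one ⟨7738, 1, 4⟩) (.one ⟨7933, 0, 4⟩)))))))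
def par6_0_3 : Arr Par :=
  (.node 32 (.node 16 (.node 8 (.node 4 (.node 2 (.node 1 (.one ⟨11327, 0, 3⟩) (.one ⟨3747, 2, 5⟩)) (.node 1 (.one ⟨13571, 2, 3⟩) (.one ⟨9684, 0, 3⟩))) (.node 2 (.node 1 (.one ⟨7835, 0, 3⟩) (.one ⟨5496, 1, 3⟩)) (.node 1 (.one ⟨11099, 0, 3⟩) (.one ⟨1058, 0, 4⟩)))) (.node 4 (.node 2 (.node 1 (.one ⟨7993, 0, 4⟩) (.one ⟨4647, 2, 4⟩)) (.node 1 (.one ⟨2723, 0, 3⟩) (.one ⟨11706, 0, 3⟩))) (.node 2 (.node 1 (.one ⟨2265, 0, 2⟩) (.one ⟨6769, 2, 2⟩)) (.node 1 (.one ⟨6067, 2, 3⟩) (.one ⟨13737, 0, 5⟩))))) (.node 8 (.node 4 (.node 2 (.node 1 (.one ⟨2171, 2, 4⟩) (.one ⟨2895, 2, 5⟩)) (.node 1 (.one ⟨317, 2, 5⟩) (.one ⟨9752, 2, 2⟩))) (.node 2 (.node 1 (.one ⟨726, 2, 5⟩) (.one ⟨13237, 2, 5⟩)) (.node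 1 (.one ⟨668, 0, 2⟩) (.one ⟨12305, 0, 2⟩)))) (.node 4 (.node 2 (.node 1 (.one ⟨13549, 2, 4⟩) (.one ⟨3148, 2, 2⟩)) (.node 1 (.one ⟨5295, 2, 3⟩) (.one ⟨4448, 2, 4⟩))) (.node 2 (.node 1 (.one ⟨7291, 0, 3⟩) (.one ⟨8104, 0, 3⟩)) (.node 1 (.one ⟨1942, 2, 4⟩) (.one ⟨2840, 0, 3⟩)))))) (.node 16 (.node 8 (.node 4 (.node 2 (.node 1 (.one ⟨13831, 2, 4⟩) (.one ⟨5130, 0, 2⟩)) (.node 1 (.one ⟨3934, 2, 5⟩) (.one ⟨550, 0, 2⟩))) (.node 2 (.node 1 (.one ⟨11012, 2, 5⟩) (.one ⟨9229, 2, 2⟩)) (.node 1 (.one ⟨6794, 1, 4⟩) (.one ⟨17186, 0, 3⟩)))) (.node 4 (.node 2 (.node 1 (.one ⟨199, 0, 5⟩) (.one ⟨6204, 2, 6⟩)) (.node 1 (.one ⟨15690, 0, 3⟩) (.one ⟨4072, 0, 5⟩))) (.node 2 (.node 1 (.one ⟨3835, 2, 5⟩) (.one ⟨3385, 0, 3⟩)) (.node 1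 (.one ⟨8499, 2, 1⟩) (.one ⟨6065, 2, 4⟩))))) (.node 8 (.node 4 (.node 2 (.node 1 (.one ⟨614, 2, 5⟩) (.one ⟨9391, 0, 1⟩)) (.node 1 (.one ⟨1137, 0, 5⟩) (.one ⟨13146, 2, 5⟩))) (.node 2 (.node 1 (.one ⟨7331, 2, 2⟩) (.one ⟨8260, 2, 3⟩)) (.node 1 (.one ⟨12157, 2, 3⟩) (.one ⟨2144, 0, 3⟩)))) (.node 4 (.node 2 (.node 1 (.one ⟨12188, 0, 3⟩) (.one ⟨1092, 0, 3⟩)) (.node 1 (.one ⟨12291, 0, 5⟩) (.one ⟨14524, 0, 2⟩))) (.node 2 (.node 1 (.one ⟨15093, 2, 3⟩) (.one ⟨2736, 2, 6⟩)) (.node 1 (.one ⟨2867, 2, 3⟩) (.one ⟨4590, 0, 3⟩)))))))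
def par6_0_4 : Arr Par :=
  (.node 32 (.node 16 (.node 8 (.node 4 (.node 2 (.node 1 (.one ⟨6274, 1, 3⟩) (.one ⟨12530, 2, 4⟩)) (.node 1 (.one ⟨1125, 2, 5⟩) (.one ⟨11277, 2, 2⟩))) (.node 2 (.node 1 (.one ⟨8962, 2, 2⟩) (.one ⟨15795, 2, 2⟩)) (.node 1 (.one ⟨453, 1, 0⟩) (.one ⟨12293, 0, 4⟩)))) (.node 4 (.node 2 (.node 1 (.one ⟨12500, 1, 5⟩) (.one ⟨10849, 0, 5⟩)) (.node 1 (.one ⟨6945, 1, 5⟩) (.one ⟨15225, 0, 5⟩))) (.node 2 (.node 1 (.one ⟨6751, 2, 3⟩) (.one ⟨6888, 2, 3⟩)) (.node 1 (.one ⟨5141, 2, 5⟩) (.one ⟨5523, 2, 6⟩))))) (.node 8 (.node 4 (.node 2 (.node 1 (.one ⟨3681, 0, 3⟩) (.one ⟨13346, 0, 4⟩)) (.node 1 (.one ⟨13531, 1, 4⟩) (.one ⟨10470, 0, 4⟩))) (.node 2 (.node 1 (.one ⟨2429, 0, 4⟩) (.one ⟨2420, 0, 4⟩)) (.node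 1 (.one ⟨3078, 0, 5⟩) (.one ⟨7635, 2, 5⟩)))) (.node 4 (.node 2 (.node 1 (.one ⟨8497, 2, 3⟩) (.one ⟨15287, 0, 3⟩)) (.node 1 (.one ⟨14813, 0, 4⟩) (.one ⟨13113, 0, 3⟩))) (.node 2 (.node 1 (.one ⟨5110, 0, 4⟩) (.one ⟨8331, 0, 4⟩)) (.node 1 (.one ⟨15538, 0, 4⟩) (.one ⟨8523, 2, 4⟩)))))) (.node 16 (.node 8 (.node 4 (.node 2 (.node 1 (.one ⟨13774, 2, 4⟩) (.one ⟨3843, 2, 3⟩)) (.node 1 (.one ⟨10296, 0, 5⟩) (.one ⟨3395, 1, 5⟩))) (.node 2 (.node 1 (.one ⟨6651, 0, 5⟩) (.one ⟨1667, 0, 5⟩)) (.node 1 (.one ⟨13483, 2, 3⟩) (.one ⟨13461, 2, 5⟩)))) (.node 4 (.node 2 (.node 1 (.one ⟨12351, 0, 5⟩) (.one ⟨10944, 0, 2⟩)) (.node 1 (.one ⟨763, 2, 5⟩) (.one ⟨12541, 1, 4⟩))) (.node 2 (.node 1 (.one ⟨15971, 2, 2⟩) (.one ⟨6530, 2, 5⟩)) (.node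 1 (.one ⟨13313, 0, 3⟩) (.one ⟨16755, 2, 3⟩))))) (.node 8 (.node 4 (.node 2 (.node 1 (.one ⟨8097, 0, 5⟩) (.one ⟨6331, 0, 3⟩)) (.node 1 (.one ⟨12321, 0, 3⟩) (.one ⟨9653, 0, 5⟩))) (.node 2 (.node 1 (.one ⟨2240, 1, 4⟩) (.one ⟨1695, 0, 2⟩)) (.node 1 (.one ⟨5537, 0, 5⟩) (.one ⟨8864, 2, 5⟩)))) (.node 4 (.node 2 (.node 1 (.one ⟨10876, 0, 4⟩) (.one ⟨12155, 2, 5⟩)) (.node 1 (.one ⟨8558, 0, 4⟩) (.one ⟨15633, 0, 2⟩))) (.node 2 (.node 1 (.one ⟨15769, 0, 4⟩) (.one ⟨4929, 1, 4⟩)) (.node 1 (.one ⟨1886, 0, 4⟩) (.one ⟨14649, 0, 4⟩)))))))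
def par6_0_5 : Arr Par :=
  (.node 32 (.node 16 (.node 8 (.node 4 (.node 2 (.node 1 (.one ⟨14763, 2, 5⟩) (.one ⟨6962, 2, 5⟩)) (.node 1 (.one ⟨4189, 2, 5⟩) (.one ⟨12383, 0, 5⟩))) (.node 2 (.node 1 (.one ⟨2161, 2, 5⟩) (.one ⟨6069, 0, 4⟩)) (.node 1 (.one ⟨16943, 2, 5⟩) (.one ⟨9125, 2, 5⟩)))) (.node 4 (.node 2 (.node 1 (.one ⟨16199, 2, 3⟩) (.one ⟨8261, 2, 3⟩)) (.node 1 (.one ⟨179, 2, 5⟩) (.one ⟨1700, 0, 5⟩))) (.node 2 (.node 1 (.one ⟨2054, 0, 4⟩) (.one ⟨6595, 2, 4⟩)) (.node 1 (.one ⟨4885, 0, 4⟩) (.one ⟨13540, 0, 4⟩))))) (.node 8 (.node 4 (.node 2 (.node 1 (.one ⟨11821, 2, 3⟩) (.one ⟨5687, 2, 6⟩)) (.node 1 (.one ⟨2740, 1, 0⟩) (.one ⟨12743, 2, 2⟩))) (.node 2 (.node 1 (.one ⟨3179, 0, 4⟩) (.one ⟨4353, 0, 3⟩)) (.node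 1 (.one ⟨1709, 2, 2⟩) (.one ⟨15830, 0, 5⟩)))) (.node 4 (.node 2 (.node 1 (.one ⟨15199, 2, 3⟩) (.one ⟨3780, 2, 5⟩)) (.node 1 (.one ⟨12268, 2, 5⟩) (.one ⟨15032, 2, 5⟩))) (.node 2 (.node 1 (.one ⟨2067, 0, 2⟩) (.one ⟨8894, 2, 3⟩)) (.node 1 (.one ⟨16453, 2, 5⟩) (.one ⟨10445, 2, 5⟩)))))) (.node 16 (.node 8 (.node 4 (.node 2 (.node 1 (.one ⟨7637, 0, 4⟩) (.one ⟨13485, 2, 3⟩)) (.node 1 (.one ⟨15758, 2, 5⟩) (.one ⟨10878, 0, 5⟩))) (.node 2 (.node 1 (.one ⟨10900, 2, 4⟩) (.one ⟨13988, 2, 3⟩)) (.node 1 (.one ⟨8869, 2, 5⟩) (.one ⟨3845, 2, 3⟩)))) (.node 4 (.node 2 (.node 1 (.one ⟨2861, 2, 3⟩) (.one ⟨1736, 0, 5⟩)) (.node 1 (.one ⟨13541, 0, 1⟩) (.one ⟨8108, 0, 3⟩))) (.node 2 (.node 1 (.one ⟨9378, 2, 4⟩) (.one ⟨15756, 2, 3⟩))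 (.node 1 (.one ⟨6491, 0, 5⟩) (.one ⟨10236, 0, 5⟩))))) (.node 8 (.node 4 (.node 2 (.node 1 (.one ⟨12323, 0, 5⟩) (.one ⟨13229, 2, 5⟩)) (.node 1 (.one ⟨4360, 2, 4⟩) (.one ⟨2595, 1, 2⟩))) (.node 2 (.node 1 (.one ⟨6083, 2, 3⟩) (.one ⟨5574, 2, 3⟩)) (.node 1 (.one ⟨8892, 2, 3⟩) (.one ⟨1178, 0, 1⟩)))) (.node 4 (.node 2 (.node 1 (.one ⟨1247, 0, 5⟩) (.one ⟨16873, 2, 2⟩)) (.node 1 (.one ⟨9393, 0, 4⟩) (.one ⟨2409, 1, 3⟩))) (.node 2 (.node 1 (.one ⟨2732, 2, 4⟩) (.one ⟨131, 0, 4⟩)) (.node 1 (.one ⟨3336, 2, 2⟩) (.one ⟨13377, 2, 4⟩)))))))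
def par6_0_6 : Arr Par :=
  (.node 32 (.node 16 (.node 8 (.node 4 (.node 2 (.node 1 (.one ⟨12070, 2, 2⟩) (.one ⟨2625, 2, 4⟩)) (.node 1 (.one ⟨12711, 0, 2⟩) (.one ⟨6020, 2, 4⟩))) (.node 2 (.node 1 (.one ⟨10436, 0, 1⟩) (.one ⟨1989, 2, 3⟩)) (.node 1 (.one ⟨5429, 0, 3⟩) (.one ⟨14025, 2, 5⟩)))) (.node 4 (.node 2 (.node 1 (.one ⟨6436, 1, 4⟩) (.one ⟨16758, 2, 3⟩)) (.node 1 (.one ⟨12156, 2, 3⟩) (.one ⟨9040, 0, 3⟩))) (.node 2 (.node 1 (.one ⟨15840, 0, 3⟩) (.one ⟨7997, 0, 5⟩)) (.node 1 (.one ⟨7773, 2, 4⟩) (.one ⟨15948, 0, 3⟩))))) (.node 8 (.node 4 (.node 2 (.node 1 (.one ⟨10747, 1, 4⟩) (.one ⟨2062, 0, 2⟩)) (.node 1 (.one ⟨14785, 0, 5⟩) (.one ⟨6805, 0, 4⟩))) (.node 2 (.node 1 (.one ⟨13626, 0, 4⟩) (.one ⟨16090, 0, 3⟩))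 (.node 1 (.one ⟨3150, 2, 2⟩) (.one ⟨208, 2, 5⟩)))) (.node 4 (.node 2 (.node 1 (.one ⟨16402, 2, 5⟩) (.one ⟨5435, 0, 2⟩)) (.node 1 (.one ⟨1023, 0, 2⟩) (.one ⟨16869, 1, 4⟩))) (.node 2 (.node 1 (.one ⟨13688, 2, 2⟩) (.one ⟨3685, 0, 3⟩)) (.node 1 (.one ⟨3000, 2, 5⟩) (.one ⟨5018, 2, 4⟩)))))) (.node 16 (.node 8 (.node 4 (.node 2 (.node 1 (.one ⟨14932, 2, 2⟩) (.one ⟨5429, 2, 3⟩)) (.node 1 (.one ⟨8756, 0, 3⟩) (.one ⟨13982, 2, 2⟩))) (.node 2 (.node 1 (.one ⟨8868, 2, 4⟩) (.one ⟨4426, 2, 5⟩)) (.node 1 (.one ⟨10861, 0, 4⟩) (.one ⟨92, 0, 2⟩)))) (.node 4 (.node 2 (.node 1 (.one ⟨10001, 0, 3⟩) (.one ⟨4928, 2, 5⟩)) (.node 1 (.one ⟨11797, 0, 3⟩) (.one ⟨10772, 2, 4⟩))) (.node 2 (.node 1 (.one ⟨7367, 2, 2⟩) (.one ⟨10301, 0, 5⟩))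 (.node 1 (.one ⟨8045, 1, 5⟩) (.one ⟨15617, 1, 5⟩))))) (.node 8 (.node 4 (.node 2 (.node 1 (.one ⟨6650, 0, 5⟩) (.one ⟨11287, 2, 4⟩)) (.node 1 (.one ⟨6440, 0, 5⟩) (.one ⟨1663, 0, 5⟩))) (.node 2 (.node 1 (.one ⟨4184, 1, 5⟩) (.one ⟨15024, 1, 5⟩)) (.node 1 (.one ⟨9141, 1, 1⟩) (.one ⟨14460, 0, 5⟩)))) (.node 4 (.node 2 (.node 1 (.one ⟨17045, 2, 5⟩) (.one ⟨988, 0, 5⟩)) (.node 1 (.one ⟨10208, 2, 4⟩) (.one ⟨12994, 1, 4⟩))) (.node 2 (.node 1 (.one ⟨7896, 2, 5⟩) (.one ⟨4333, 2, 4⟩)) (.node 1 (.one ⟨13743, 0, 3⟩) (.one ⟨6094, 0, 3⟩)))))))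
def par6_0_7 : Arr Par :=
  (.node 32 (.node 16 (.node 8 (.node 4 (.node 2 (.node 1 (.one ⟨4651, 2, 4⟩) (.one ⟨14059, 0, 3⟩)) (.node 1 (.one ⟨1027, 2, 5⟩) (.one ⟨12550, 0, 4⟩))) (.node 2 (.node 1 (.one ⟨7912, 2, 4⟩) (.one ⟨11463, 2, 5⟩)) (.node 1 (.one ⟨9128, 1, 3⟩) (.one ⟨11445, 2, 4⟩)))) (.node 4 (.node 2 (.node 1 (.one ⟨14567, 2, 5⟩) (.one ⟨9191, 2, 4⟩)) (.node 1 (.one ⟨1385, 2, 4⟩) (.one ⟨1759, 2, 2⟩))) (.node 2 (.node 1 (.one ⟨13626, 1, 4⟩) (.one ⟨9175, 2, 3⟩)) (.node 1 (.one ⟨14074, 2, 4⟩) (.one ⟨10383, 0, 5⟩))))) (.node 8 (.node 4 (.node 2 (.node 1 (.one ⟨16012, 1, 5⟩) (.one ⟨10363, 2, 2⟩)) (.node 1 (.one ⟨14299, 1, 5⟩) (.one ⟨9408, 2, 5⟩))) (.node 2 (.node 1 (.one ⟨12273, 2, 3⟩) (.one ⟨386, 2, 3⟩))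 (.node 1 (.one ⟨11334, 0, 3⟩) (.one ⟨2390, 2, 4⟩)))) (.node 4 (.node 2 (.node 1 (.one ⟨12909, 0, 2⟩) (.one ⟨8206, 2, 2⟩)) (.node 1 (.one ⟨2903, 0, 4⟩) (.one ⟨5424, 0, 3⟩))) (.node 2 (.node 1 (.one ⟨665, 0, 4⟩) (.one ⟨11245, 2, 4⟩)) (.node 1 (.one ⟨4673, 2, 5⟩) (.one ⟨17188, 0, 3⟩)))))) (.node 16 (.node 8 (.node 4 (.node 2 (.node 1 (.one ⟨16175, 2, 2⟩) (.one ⟨14048, 0, 3⟩)) (.node 1 (.one ⟨16414, 0, 3⟩) (.one ⟨6797, 2, 4⟩))) (.node 2 (.node 1 (.one ⟨10020, 2, 4⟩) (.one ⟨12259, 2, 3⟩)) (.node 1 (.one ⟨3999, 1, 4⟩) (.one ⟨10841, 0, 4⟩)))) (.node 4 (.node 2 (.node 1 (.one ⟨16201, 2, 5⟩) (.one ⟨13846, 2, 3⟩)) (.node 1 (.one ⟨8109, 0, 3⟩) (.one ⟨6992, 2, 5⟩))) (.node 2 (.node 1 (.one ⟨636, 2, 5⟩) (.one ⟨6592, 2,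 5⟩)) (.node 1 (.one ⟨1696, 0, 4⟩) (.one ⟨998, 0, 4⟩))))) (.node 8 (.node 4 (.node 2 (.node 1 (.one ⟨2017, 2, 3⟩) (.one ⟨11467, 2, 3⟩)) (.node 1 (.one ⟨925, 0, 5⟩) (.one ⟨8817, 1, 5⟩))) (.node 2 (.node 1 (.one ⟨15305, 0, 5⟩) (.one ⟨10889, 0, 5⟩)) (.node 1 (.one ⟨10538, 2, 5⟩) (.one ⟨4478, 2, 3⟩)))) (.node 4 (.node 2 (.node 1 (.one ⟨9042, 0, 3⟩) (.one ⟨4994, 1, 3⟩)) (.node 1 (.one ⟨4688, 2, 2⟩) (.one ⟨13962, 0, 5⟩))) (.node 2 (.node 1 (.one ⟨1042, 0, 4⟩) (.one ⟨8441, 2, 4⟩)) (.node 1 (.one ⟨13547, 0, 3⟩) (.one ⟨4900, 2, 5⟩)))))))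
def par6_0_8 : Arr Par :=
  (.node 32 (.node 16 (.node 8 (.node 4 (.node 2 (.node 1 (.one ⟨12994, 0, 4⟩) (.one ⟨22, 2, 3⟩)) (.node 1 (.one ⟨8523, 0, 4⟩) (.one ⟨3341, 2, 2⟩))) (.node 2 (.node 1 (.one ⟨10248, 2, 4⟩) (.one ⟨15203, 2, 5⟩)) (.node 1 (.one ⟨11794, 0, 3⟩) (.one ⟨10540, 2, 5⟩)))) (.node 4 (.node 2 (.node 1 (.one ⟨9444, 2, 3⟩) (.one ⟨14461, 0, 5⟩)) (.node 1 (.one ⟨845, 0, 5⟩) (.one ⟨2034, 0, 5⟩))) (.node 2 (.node 1 (.one ⟨14618, 0, 2⟩) (.one ⟨3036, 2, 5⟩)) (.node 1 (.one ⟨7359, 0, 4⟩) (.one ⟨2615, 0, 4⟩))))) (.node 8 (.node 4 (.node 2 (.node 1 (.one ⟨5529, 0, 3⟩) (.one ⟨8226, 0, 4⟩)) (.node 1 (.one ⟨10572, 2, 3⟩) (.one ⟨7127, 0, 5⟩))) (.node 2 (.node 1 (.one ⟨15235, 0, 4⟩) (.one ⟨1686, 1, 4⟩)) (.node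 1 (.one ⟨14452, 2, 5⟩) (.one ⟨2067, 2, 2⟩)))) (.node 4 (.node 2 (.node 1 (.one ⟨545, 0, 2⟩) (.one ⟨800, 2, 5⟩)) (.node 1 (.one ⟨13238, 2, 5⟩) (.one ⟨17113, 2, 5⟩))) (.node 2 (.node 1 (.one ⟨9905, 0, 2⟩) (.one ⟨16669, 0, 3⟩)) (.node 1 (.one ⟨6747, 2, 3⟩) (.one ⟨9514, 0, 3⟩)))))) (.node 16 (.node 8 (.node 4 (.node 2 (.node 1 (.one ⟨1169, 0, 5⟩) (.one ⟨1374, 1, 1⟩)) (.node 1 (.one ⟨5253, 2, 2⟩) (.one ⟨11066, 0, 3⟩))) (.node 2 (.node 1 (.one ⟨5792, 1, 3⟩) (.one ⟨13594, 1, 4⟩)) (.node 1 (.one ⟨1564, 1, 1⟩) (.one ⟨17016, 2, 2⟩)))) (.node 4 (.node 2 (.node 1 (.one ⟨9259, 2, 2⟩) (.one ⟨7664, 2, 2⟩)) (.node 1 (.one ⟨13802, 0, 3⟩) (.one ⟨8274, 0, 4⟩))) (.node 2 (.node 1 (.one ⟨5438, 0, 5⟩) (.one ⟨681, 0, 2⟩)) (.node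 1 (.one ⟨14016, 2, 5⟩) (.one ⟨11034, 0, 4⟩))))) (.node 8 (.node 4 (.node 2 (.node 1 (.one ⟨5858, 0, 5⟩) (.one ⟨15928, 0, 3⟩)) (.node 1 (.one ⟨14629, 0, 2⟩) (.one ⟨15852, 0, 3⟩))) (.node 2 (.node 1 (.one ⟨14425, 0, 5⟩) (.one ⟨14246, 2, 3⟩)) (.node 1 (.one ⟨46, 2, 3⟩) (.one ⟨12307, 2, 5⟩)))) (.node 4 (.node 2 (.node 1 (.one ⟨5692, 2, 6⟩) (.one ⟨15516, 2, 2⟩)) (.node 1 (.one ⟨7895, 2, 4⟩) (.one ⟨8271, 0, 1⟩))) (.node 2 (.node 1 (.one ⟨5206, 0, 3⟩) (.one ⟨6891, 2, 2⟩)) (.node 1 (.one ⟨13342, 2, 4⟩) (.one ⟨1914, 1, 0⟩)))))))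
def par6_0_9 : Arr Par :=
  (.node 32 (.node 16 (.node 8 (.node 4 (.node 2 (.node 1 (.one ⟨4090, 1, 0⟩) (.one ⟨285, 1, 0⟩)) (.node 1 (.one ⟨16440, 1, 2⟩) (.one ⟨2057, 1, 0⟩))) (.node 2 (.node 1 (.one ⟨14702, 1, 2⟩) (.one ⟨15785, 1, 2⟩)) (.node 1 (.one ⟨4032, 1, 0⟩) (.one ⟨10754, 2, 4⟩)))) (.node 4 (.node 2 (.node 1 (.one ⟨498, 1, 0⟩) (.one ⟨531, 1, 0⟩)) (.node 1 (.one ⟨17197, 1, 2⟩) (.one ⟨2029, 1, 0⟩))) (.node 2 (.node 1 (.one ⟨253, 1, 0⟩) (.one ⟨1938, 1, 0⟩)) (.node 1 (.one ⟨16309, 1, 2⟩) (.one ⟨10395, 1, 2⟩))))) (.node 8 (.node 4 (.node 2 (.node 1 (.one ⟨1259, 1, 0⟩) (.one ⟨14401, 1, 2⟩)) (.node 1 (.one ⟨2115, 1, 0⟩) (.one ⟨11500, 1, 2⟩))) (.node 2 (.node 1 (.one ⟨12731, 0, 2⟩) (.one ⟨4935, 2, 5⟩)) (.node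 1 (.one ⟨16771, 2, 3⟩) (.one ⟨11395, 2, 3⟩)))) (.node 4 (.node 2 (.node 1 (.one ⟨2307, 1, 0⟩) (.one ⟨3836, 1, 0⟩)) (.node 1 (.one ⟨225, 1, 0⟩) (.one ⟨5366, 1, 0⟩))) (.node 2 (.node 1 (.one ⟨14237, 1, 2⟩) (.one ⟨2117, 1, 0⟩)) (.node 1 (.one ⟨401, 1, 0⟩) (.one ⟨241, 1, 0⟩)))))) (.node 16 (.node 8 (.node 4 (.node 2 (.node 1 (.one ⟨361, 1, 0⟩) (.one ⟨16131, 0, 5⟩)) (.node 1 (.one ⟨1208, 1, 0⟩) (.one ⟨356, 1, 0⟩))) (.node 2 (.node 1 (.one ⟨15792, 0, 4⟩) (.one ⟨7852, 0, 4⟩)) (.node 1 (.one ⟨8748, 1, 4⟩) (.one ⟨6174, 1, 4⟩)))) (.node 4 (.node 2 (.node 1 (.one ⟨16316, 2, 4⟩) (.one ⟨13624, 0, 4⟩)) (.node 1 (.one ⟨3758, 1, 4⟩) (.one ⟨9225, 2, 5⟩))) (.node 2 (.node 1 (.one ⟨16087, 0, 3⟩) (.one ⟨6226, 0, 5⟩)) (.node 1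 (.one ⟨7180, 2, 2⟩) (.one ⟨15307, 0, 5⟩))))) (.node 8 (.node 4 (.node 2 (.node 1 (.one ⟨13971, 0, 5⟩) (.one ⟨8792, 1, 5⟩)) (.node 1 (.one ⟨112, 0, 5⟩) (.one ⟨8517, 2, 3⟩))) (.node 2 (.node 1 (.one ⟨3492, 2, 3⟩) (.one ⟨7950, 0, 2⟩)) (.node 1 (.one ⟨4351, 0, 5⟩) (.one ⟨12, 2, 3⟩)))) (.node 4 (.node 2 (.node 1 (.one ⟨1203, 2, 4⟩) (.one ⟨14244, 2, 4⟩)) (.node 1 (.one ⟨909, 2, 5⟩) (.one ⟨6773, 2, 4⟩))) (.node 2 (.node 1 (.one ⟨3952, 2, 4⟩) (.one ⟨2922, 1, 4⟩)) (.node 1 (.one ⟨14778, 2, 4⟩) (.one ⟨1761, 2, 2⟩)))))))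
def par6_0_10 : Arr Par :=
  (.node 32 (.node 16 (.node 8 (.node 4 (.node 2 (.node 1 (.one ⟨3502, 0, 1⟩) (.one ⟨3181, 0, 4⟩)) (.node 1 (.one ⟨49, 2, 4⟩) (.one ⟨6337, 0, 5⟩))) (.node 2 (.node 1 (.one ⟨476, 0, 5⟩) (.one ⟨10389, 0, 5⟩)) (.node 1 (.one ⟨13974, 0, 5⟩) (.one ⟨5395, 0, 3⟩)))) (.node 4 (.node 2 (.node 1 (.one ⟨2942, 0, 3⟩) (.one ⟨13542, 0, 5⟩)) (.node 1 (.one ⟨11055, 0, 3⟩) (.one ⟨4077, 0, 3⟩))) (.node 2 (.node 1 (.one ⟨14622, 0, 3⟩) (.one ⟨16109, 0, 5⟩)) (.node 1 (.one ⟨381, 0, 5⟩) (.one ⟨10520, 2, 5⟩))))) (.node 8 (.node 4 (.node 2 (.node 1 (.one ⟨2494, 2, 5⟩) (.one ⟨10198, 2, 5⟩)) (.node 1 (.one ⟨8495, 0, 4⟩) (.one ⟨6640, 2, 5⟩))) (.node 2 (.node 1 (.one ⟨15077, 2, 5⟩) (.one ⟨7510, 2, 5⟩)) (.node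 1 (.one ⟨15488, 2, 3⟩) (.one ⟨9682, 0, 3⟩)))) (.node 4 (.node 2 (.node 1 (.one ⟨294, 0, 4⟩) (.one ⟨6437, 2, 3⟩)) (.node 1 (.one ⟨11491, 2, 3⟩) (.one ⟨13128, 2, 2⟩))) (.node 2 (.node 1 (.one ⟨9197, 1, 1⟩) (.one ⟨3519, 2, 2⟩)) (.node 1 (.one ⟨7360, 2, 2⟩) (.one ⟨810, 2, 5⟩)))))) (.node 16 (.node 8 (.node 4 (.node 2 (.node 1 (.one ⟨4677, 2, 5⟩) (.one ⟨7933, 1, 4⟩)) (.node 1 (.one ⟨14547, 1, 4⟩) (.one ⟨9957, 1, 4⟩))) (.node 2 (.node 1 (.one ⟨6670, 0, 4⟩) (.one ⟨5116, 0, 5⟩)) (.node 1 (.one ⟨3038, 2, 5⟩) (.one ⟨11333, 0, 3⟩)))) (.node 4 (.node 2 (.node 1 (.one ⟨15771, 2, 2⟩) (.one ⟨9307, 1, 1⟩)) (.node 1 (.one ⟨1533, 2, 3⟩) (.one ⟨11289, 2, 2⟩))) (.node 2 (.node 1 (.one ⟨13539, 0, 4⟩) (.one ⟨9082, 2, 5⟩)) (.node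 1 (.one ⟨8411, 2, 5⟩) (.one ⟨10574, 2, 5⟩))))) (.node 8 (.node 4 (.node 2 (.node 1 (.one ⟨9458, 2, 5⟩) (.one ⟨11935, 2, 5⟩)) (.node 1 (.one ⟨12142, 2, 5⟩) (.one ⟨7020, 2, 5⟩))) (.node 2 (.node 1 (.one ⟨7432, 2, 5⟩) (.one ⟨4707, 1, 4⟩)) (.node 1 (.one ⟨6507, 0, 3⟩) (.one ⟨14226, 2, 4⟩)))) (.node 4 (.node 2 (.node 1 (.one ⟨1562, 2, 4⟩) (.one ⟨10101, 2, 4⟩)) (.node 1 (.one ⟨14928, 2, 4⟩) (.one ⟨12288, 0, 4⟩))) (.node 2 (.node 1 (.one ⟨14100, 2, 3⟩) (.one ⟨2107, 1, 0⟩)) (.node 1 (.one ⟨5690, 2, 2⟩) (.one ⟨4770, 0, 5⟩)))))))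
def par6_0_11 : Arr Par :=
  (.node 32 (.node 16 (.node 8 (.node 4 (.node 2 (.node 1 (.one ⟨16140, 0, 4⟩) (.one ⟨16264, 1, 4⟩)) (.node 1 (.one ⟨11426, 2, 4⟩) (.one ⟨15294, 0, 3⟩))) (.node 2 (.node 1 (.one ⟨16341, 2, 3⟩) (.one ⟨13548, 0, 3⟩)) (.node 1 (.one ⟨8501, 2, 5⟩) (.one ⟨6260, 2, 4⟩)))) (.node 4 (.node 2 (.node 1 (.one ⟨8211, 0, 4⟩) (.one ⟨12320, 0, 5⟩)) (.node 1 (.one ⟨9648, 0, 3⟩) (.one ⟨7684, 0, 5⟩))) (.node 2 (.node 1 (.one ⟨5733, 2, 4⟩) (.one ⟨9751, 2, 2⟩)) (.node 1 (.one ⟨14435, 0, 3⟩) (.one ⟨11458, 2, 4⟩))))) (.node 8 (.node 4 (.node 2 (.node 1 (.one ⟨11297, 0, 3⟩) (.one ⟨12739, 0, 3⟩)) (.node 1 (.one ⟨3351, 0, 3⟩) (.one ⟨4798, 0, 3⟩))) (.node 2 (.node 1 (.one ⟨14810, 0, 4⟩) (.one ⟨11070, 0, 4⟩))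 (.node 1 (.one ⟨9723, 2, 4⟩) (.one ⟨2644, 2, 3⟩)))) (.node 4 (.node 2 (.node 1 (.one ⟨11793, 0, 3⟩) (.one ⟨145, 2, 5⟩)) (.node 1 (.one ⟨2900, 2, 5⟩) (.one ⟨8552, 0, 4⟩))) (.node 2 (.node 1 (.one ⟨5530, 0, 3⟩) (.one ⟨10116, 2, 2⟩)) (.node 1 (.one ⟨9839, 2, 4⟩) (.one ⟨902, 0, 4⟩)))))) (.node 16 (.node 8 (.node 4 (.node 2 (.node 1 (.one ⟨17190, 0, 3⟩) (.one ⟨2717, 0, 3⟩)) (.node 1 (.one ⟨16113, 0, 2⟩) (.one ⟨5871, 2, 2⟩))) (.node 2 (.node 1 (.one ⟨6202, 2, 5⟩) (.one ⟨4075, 0, 1⟩)) (.node 1 (.one ⟨508, 0, 5⟩) (.one ⟨4389, 0, 3⟩)))) (.node 4 (.node 2 (.node 1 (.one ⟨3441, 1, 4⟩) (.one ⟨768, 0, 4⟩)) (.node 1 (.one ⟨11845, 0, 4⟩) (.one ⟨8461, 0, 3⟩))) (.node 2 (.node 1 (.one ⟨9341, 2, 3⟩) (.one ⟨2839, 0, 4⟩)) (.node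 1 (.one ⟨16652, 0, 2⟩) (.one ⟨1692, 0, 5⟩))))) (.node 8 (.node 4 (.node 2 (.node 1 (.one ⟨11683, 2, 3⟩) (.one ⟨5543, 0, 2⟩)) (.node 1 (.one ⟨16280, 2, 2⟩) (.one ⟨15262, 0, 4⟩))) (.node 2 (.node 1 (.one ⟨4180, 0, 2⟩) (.one ⟨2199, 2, 4⟩)) (.node 1 (.one ⟨11481, 0, 3⟩) (.one ⟨3348, 0, 3⟩)))) (.node 4 (.node 2 (.node 1 (.one ⟨5006, 0, 2⟩) (.one ⟨12721, 0, 3⟩)) (.node 1 (.one ⟨6771, 2, 5⟩) (.one ⟨4436, 2, 4⟩))) (.node 2 (.node 1 (.one ⟨5599, 2, 2⟩) (.one ⟨880, 0, 4⟩)) (.node 1 (.one ⟨674, 2, 5⟩) (.one ⟨7834, 0, 3⟩)))))))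
def par6_0_12 : Arr Par :=
  (.node 32 (.node 16 (.node 8 (.node 4 (.node 2 (.node 1 (.one ⟨16633, 2, 3⟩) (.one ⟨3846, 2, 3⟩)) (.node 1 (.one ⟨15226, 0, 5⟩) (.one ⟨13776, 0, 5⟩))) (.node 2 (.node 1 (.one ⟨1641, 1, 5⟩) (.one ⟨6446, 0, 5⟩)) (.node 1 (.one ⟨9600, 2, 3⟩) (.one ⟨13486, 2, 5⟩)))) (.node 4 (.node 2 (.node 1 (.one ⟨10711, 2, 3⟩) (.one ⟨15705, 1, 4⟩)) (.node 1 (.one ⟨2592, 0, 2⟩) (.one ⟨6555, 2, 3⟩))) (.node 2 (.node 1 (.one ⟨10249, 0, 4⟩) (.one ⟨10004, 0, 3⟩)) (.node 1 (.one ⟨7633, 2, 5⟩) (.one ⟨7129, 0, 3⟩))))) (.node 8 (.node 4 (.node 2 (.node 1 (.one ⟨75, 2, 3⟩) (.one ⟨7330, 0, 4⟩)) (.node 1 (.one ⟨15292, 0, 5⟩) (.one ⟨12791, 1, 4⟩))) (.node 2 (.node 1 (.one ⟨10603, 0, 4⟩) (.one ⟨4630, 2, 3⟩)) (.node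 1 (.one ⟨11773, 2, 3⟩) (.one ⟨14351, 2, 3⟩)))) (.node 4 (.node 2 (.node 1 (.one ⟨2582, 2, 5⟩) (.one ⟨7602, 2, 3⟩)) (.node 1 (.one ⟨8262, 2, 3⟩) (.one ⟨9649, 0, 5⟩))) (.node 2 (.node 1 (.one ⟨8096, 0, 5⟩) (.one ⟨7686, 0, 3⟩)) (.node 1 (.one ⟨2400, 2, 5⟩) (.one ⟨6526, 2, 4⟩)))))) (.node 16 (.node 8 (.node 4 (.node 2 (.node 1 (.one ⟨10035, 2, 4⟩) (.one ⟨10377, 1, 4⟩)) (.node 1 (.one ⟨16669, 2, 3⟩) (.one ⟨2896, 2, 4⟩))) (.node 2 (.node 1 (.one ⟨400, 2, 5⟩) (.one ⟨16918, 2, 4⟩)) (.node 1 (.one ⟨12992, 0, 4⟩) (.one ⟨7916, 2, 5⟩)))) (.node 4 (.node 2 (.node 1 (.one ⟨16667, 0, 4⟩) (.one ⟨13693, 2, 6⟩)) (.node 1 (.one ⟨1427, 1, 4⟩) (.one ⟨3686, 0, 3⟩))) (.node 2 (.node 1 (.one ⟨9182, 1, 5⟩) (.one ⟨15256, 1, 4⟩)) (.node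 1 (.one ⟨7175, 2, 4⟩) (.one ⟨4409, 2, 4⟩))))) (.node 8 (.node 4 (.node 2 (.node 1 (.one ⟨7464, 0, 4⟩) (.one ⟨10763, 0, 4⟩)) (.node 1 (.one ⟨13549, 0, 4⟩) (.one ⟨10879, 1, 4⟩))) (.node 2 (.node 1 (.one ⟨16757, 2, 3⟩) (.one ⟨4628, 2, 3⟩)) (.node 1 (.one ⟨11076, 0, 3⟩) (.one ⟨2761, 0, 5⟩)))) (.node 4 (.node 2 (.node 1 (.one ⟨5401, 0, 3⟩) (.one ⟨13214, 0, 3⟩)) (.node 1 (.one ⟨16456, 0, 5⟩) (.one ⟨9416, 0, 1⟩))) (.node 2 (.node 1 (.one ⟨1820, 2, 2⟩) (.one ⟨9506, 0, 1⟩)) (.node 1 (.one ⟨11284, 2, 2⟩) (.one ⟨11798, 0, 3⟩)))))))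
def par6_0_13 : Arr Par :=
  (.node 32 (.node 16 (.node 8 (.node 4 (.node 2 (.node 1 (.one ⟨2760, 0, 4⟩) (.one ⟨12844, 1, 5⟩)) (.node 1 (.one ⟨6443, 0, 5⟩) (.one ⟨15223, 0, 5⟩))) (.node 2 (.node 1 (.one ⟨16449, 1, 5⟩) (.one ⟨7217, 2, 2⟩)) (.node 1 (.one ⟨13124, 2, 2⟩) (.one ⟨9394, 0, 5⟩)))) (.node 4 (.node 2 (.node 1 (.one ⟨13249, 2, 2⟩) (.one ⟨10522, 1, 4⟩)) (.node 1 (.one ⟨12293, 1, 4⟩) (.one ⟨12922, 2, 4⟩))) (.node 2 (.node 1 (.one ⟨12911, 0, 5⟩) (.one ⟨246, 0, 4⟩)) (.node 1 (.one ⟨3145, 2, 2⟩) (.one ⟨10541, 2, 5⟩))))) (.node 8 (.node 4 (.node 2 (.node 1 (.one ⟨15757, 2, 3⟩) (.one ⟨1817, 0, 4⟩)) (.node 1 (.one ⟨7072, 0, 4⟩) (.one ⟨16094, 0, 4⟩))) (.node 2 (.node 1 (.one ⟨5894, 1, 4⟩) (.one ⟨8893, 2, 3⟩))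 (.node 1 (.one ⟨14568, 2, 5⟩) (.one ⟨8102, 0, 5⟩)))) (.node 4 (.node 2 (.node 1 (.one ⟨6328, 0, 5⟩) (.one ⟨14014, 2, 3⟩)) (.node 1 (.one ⟨6494, 0, 5⟩) (.one ⟨13166, 2, 5⟩))) (.node 2 (.node 1 (.one ⟨9842, 2, 6⟩) (.one ⟨12255, 2, 5⟩)) (.node 1 (.one ⟨6041, 2, 4⟩) (.one ⟨1249, 0, 1⟩)))))) (.node 16 (.node 8 (.node 4 (.node 2 (.node 1 (.one ⟨15420, 2, 2⟩) (.one ⟨11569, 2, 2⟩)) (.node 1 (.one ⟨5221, 2, 5⟩) (.one ⟨1189, 2, 3⟩))) (.node 2 (.node 1 (.one ⟨8298, 0, 5⟩) (.one ⟨1152, 2, 5⟩)) (.node 1 (.one ⟨4629, 2, 3⟩) (.one ⟨16418, 2, 4⟩)))) (.node 4 (.node 2 (.node 1 (.one ⟨9366, 2, 2⟩) (.one ⟨16887, 2, 5⟩)) (.node 1 (.one ⟨9504, 0, 5⟩) (.one ⟨7812, 2, 2⟩))) (.node 2 (.node 1 (.one ⟨7457, 0, 3⟩) (.one ⟨16781, 0, 3⟩))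 (.node 1 (.one ⟨15255, 0, 5⟩) (.one ⟨8546, 0, 3⟩))))) (.node 8 (.node 4 (.node 2 (.node 1 (.one ⟨8259, 2, 3⟩) (.one ⟨15332, 2, 4⟩)) (.node 1 (.one ⟨8509, 2, 6⟩) (.one ⟨12774, 0, 2⟩))) (.node 2 (.node 1 (.one ⟨10413, 0, 2⟩) (.one ⟨2846, 0, 5⟩)) (.node 1 (.one ⟨4627, 2, 3⟩) (.one ⟨10410, 2, 4⟩)))) (.node 4 (.node 2 (.node 1 (.one ⟨7411, 2, 5⟩) (.one ⟨15586, 2, 5⟩)) (.node 1 (.one ⟨12090, 2, 5⟩) (.one ⟨4253, 2, 5⟩))) (.node 2 (.node 1 (.one ⟨4789, 0, 4⟩) (.one ⟨2097, 2, 5⟩)) (.node 1 (.one ⟨8423, 2, 5⟩) (.one ⟨16756, 2, 5⟩)))))))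
def par6_0_14 : Arr Par :=
  (.node 32 (.node 16 (.node 8 (.node 4 (.node 2 (.node 1 (.one ⟨360, 0, 4⟩) (.one ⟨12191, 2, 4⟩)) (.node 1 (.one ⟨11328, 0, 3⟩) (.one ⟨1107, 2, 4⟩))) (.node 2 (.node 1 (.one ⟨13408, 1, 1⟩) (.one ⟨9427, 2, 3⟩)) (.node 1 (.one ⟨465, 0, 3⟩) (.one ⟨5602, 2, 4⟩)))) (.node 4 (.node 2 (.node 1 (.one ⟨7290, 2, 6⟩) (.one ⟨4814, 2, 3⟩)) (.node 1 (.one ⟨16521, 2, 5⟩) (.one ⟨16128, 1, 4⟩))) (.node 2 (.node 1 (.one ⟨8891, 2, 3⟩) (.one ⟨16915, 1, 4⟩)) (.node 1 (.one ⟨9683, 0, 5⟩) (.one ⟨4553, 0, 4⟩))))) (.node 8 (.node 4 (.node 2 (.node 1 (.one ⟨9574, 1, 4⟩) (.one ⟨13484, 2, 3⟩)) (.node 1 (.one ⟨15755, 2, 3⟩) (.one ⟨12334, 2, 5⟩))) (.node 2 (.node 1 (.one ⟨3844, 2, 3⟩) (.one ⟨15486, 2, 5⟩)) (.node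 1 (.one ⟨6888, 0, 3⟩) (.one ⟨11289, 0, 2⟩)))) (.node 4 (.node 2 (.node 1 (.one ⟨17163, 2, 5⟩) (.one ⟨2899, 0, 4⟩)) (.node 1 (.one ⟨10508, 2, 5⟩) (.one ⟨15515, 2, 2⟩))) (.node 2 (.node 1 (.one ⟨9492, 2, 4⟩) (.one ⟨194, 0, 4⟩)) (.node 1 (.one ⟨12053, 2, 4⟩) (.one ⟨17173, 0, 4⟩)))))) (.node 16 (.node 8 (.node 4 (.node 2 (.node 1 (.one ⟨4352, 0, 3⟩) (.one ⟨14436, 0, 3⟩)) (.node 1 (.one ⟨1434, 2, 3⟩) (.one ⟨13050, 2, 4⟩))) (.node 2 (.node 1 (.one ⟨17139, 2, 5⟩) (.one ⟨16904, 0, 3⟩)) (.node 1 (.one ⟨6840, 0, 3⟩) (.one ⟨5833, 0, 3⟩)))) (.node 4 (.node 2 (.node 1 (.one ⟨15693, 0, 5⟩) (.one ⟨2031, 0, 5⟩)) (.node 1 (.one ⟨765, 0, 5⟩) (.one ⟨16103, 0, 2⟩))) (.node 2 (.node 1 (.one ⟨1764, 2, 6⟩) (.one ⟨6154, 2, 4⟩)) (.node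 1 (.one ⟨3264, 2, 5⟩) (.one ⟨11292, 2, 2⟩))))) (.node 8 (.node 4 (.node 2 (.node 1 (.one ⟨9574, 0, 4⟩) (.one ⟨13803, 0, 3⟩)) (.node 1 (.one ⟨6877, 2, 5⟩) (.one ⟨1651, 0, 2⟩))) (.node 2 (.node 1 (.one ⟨7134, 0, 3⟩) (.one ⟨1452, 2, 4⟩)) (.node 1 (.one ⟨1963, 1, 0⟩) (.one ⟨9304, 2, 4⟩)))) (.node 4 (.node 2 (.node 1 (.one ⟨14769, 1, 4⟩) (.one ⟨15967, 2, 5⟩)) (.node 1 (.one ⟨5339, 2, 4⟩) (.one ⟨14430, 0, 1⟩))) (.node 2 (.node 1 (.one ⟨10535, 2, 5⟩) (.one ⟨11469, 2, 4⟩)) (.node 1 (.one ⟨14572, 2, 5⟩) (.one ⟨15200, 2, 5⟩)))))))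
def par6_0_15 : Arr Par :=
  (.node 32 (.node 16 (.node 8 (.node 4 (.node 2 (.node 1 (.one ⟨13380, 1, 4⟩) (.one ⟨9094, 0, 3⟩)) (.node 1 (.one ⟨4964, 0, 3⟩) (.one ⟨13159, 2, 4⟩))) (.node 2 (.node 1 (.one ⟨13781, 0, 5⟩) (.one ⟨10851, 0, 5⟩)) (.node 1 (.one ⟨1664, 0, 5⟩) (.one ⟨9871, 1, 5⟩)))) (.node 4 (.node 2 (.node 1 (.one ⟨16137, 2, 5⟩) (.one ⟨10342, 2, 3⟩)) (.node 1 (.one ⟨8242, 2, 5⟩) (.one ⟨7177, 2, 2⟩))) (.node 2 (.node 1 (.one ⟨16139, 0, 3⟩) (.one ⟨8274, 1, 4⟩)) (.node 1 (.one ⟨6213, 2, 5⟩) (.one ⟨16900, 0, 3⟩))))) (.node 8 (.node 4 (.node 2 (.node 1 (.one ⟨6860, 0, 3⟩) (.one ⟨14665, 0, 3⟩)) (.node 1 (.one ⟨5521, 0, 4⟩) (.one ⟨3178, 0, 4⟩))) (.node 2 (.node 1 (.one ⟨5741, 2, 2⟩) (.one ⟨7526, 0, 3⟩)) (.node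 1 (.one ⟨13687, 2, 6⟩) (.one ⟨1405, 2, 5⟩)))) (.node 4 (.node 2 (.node 1 (.one ⟨1151, 2, 4⟩) (.one ⟨7368, 2, 4⟩)) (.node 1 (.one ⟨7317, 0, 4⟩) (.one ⟨1995, 2, 4⟩))) (.node 2 (.node 1 (.one ⟨908, 0, 4⟩) (.one ⟨4687, 2, 4⟩)) (.node 1 (.one ⟨3179, 1, 4⟩) (.one ⟨14431, 2, 5⟩)))))) (.node 16 (.node 8 (.node 4 (.node 2 (.node 1 (.one ⟨8436, 1, 4⟩) (.one ⟨6620, 0, 5⟩)) (.node 1 (.one ⟨6340, 0, 5⟩) (.one ⟨15543, 1, 5⟩))) (.node 2 (.node 1 (.one ⟨745, 0, 5⟩) (.one ⟨7041, 2, 5⟩)) (.node 1 (.one ⟨139, 0, 3⟩) (.one ⟨1032, 2, 3⟩)))) (.node 4 (.node 2 (.node 1 (.one ⟨10386, 0, 5⟩) (.one ⟨4290, 1, 5⟩)) (.node 1 (.one ⟨6621, 0, 5⟩) (.one ⟨896, 0, 5⟩))) (.node 2 (.node 1 (.one ⟨15204, 2, 4⟩) (.one ⟨11465, 2, 5⟩)) (.node 1 (.one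 ⟨12257, 2, 5⟩) (.one ⟨6021, 0, 4⟩))))) (.node 8 (.node 4 (.node 2 (.node 1 (.one ⟨6834, 0, 4⟩) (.one ⟨13225, 2, 2⟩)) (.node 1 (.one ⟨12949, 2, 4⟩) (.one ⟨10237, 0, 5⟩))) (.node 2 (.node 1 (.one ⟨16555, 2, 5⟩) (.one ⟨14549, 2, 4⟩)) (.node 1 (.one ⟨16197, 2, 2⟩) (.one ⟨8734, 0, 3⟩)))) (.node 4 (.node 2 (.node 1 (.one ⟨10571, 2, 3⟩) (.one ⟨6380, 2, 3⟩)) (.node 1 (.one ⟨3035, 2, 3⟩) (.one ⟨14748, 2, 3⟩))) (.node 2 (.node 1 (.one ⟨13161, 2, 1⟩) (.one ⟨9615, 0, 3⟩)) (.node 1 (.one ⟨1167, 0, 4⟩) (.one ⟨1, 0, 1⟩)))))))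
def par6_0 : Arr Par :=
  (.node 512 (.node 256 (.node 128 (.node 64 par6_0_0 par6_0_1) (.node 64 par6_0_2 par6_0_3)) (.node 128 (.node 64 par6_0_4 par6_0_5) (.node 64 par6_0_6 par6_0_7))) (.node 256 (.node 128 (.node 64 par6_0_8 par6_0_9) (.node 64 par6_0_10 par6_0_11)) (.node 128 (.node 64 par6_0_12 par6_0_13) (.node 64 par6_0_14 par6_0_15))))
def par6_1_0 : Arr Par :=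
  (.node 32 (.node 16 (.node 8 (.node 4 (.node 2 (.node 1 (.one ⟨9902, 2, 2⟩) (.one ⟨16202, 2, 5⟩)) (.node 1 (.one ⟨5800, 2, 4⟩) (.one ⟨1184, 1, 4⟩))) (.node 2 (.node 1 (.one ⟨13122, 0, 4⟩) (.one ⟨8293, 0, 4⟩)) (.node 1 (.one ⟨15640, 0, 4⟩) (.one ⟨2301, 0, 4⟩)))) (.node 4 (.node 2 (.node 1 (.one ⟨14793, 0, 2⟩) (.one ⟨7513, 0, 3⟩)) (.node 1 (.one ⟨15251, 0, 3⟩) (.one ⟨8555, 0, 5⟩))) (.node 2 (.node 1 (.one ⟨6794, 2, 4⟩) (.one ⟨5850, 2, 2⟩)) (.node 1 (.one ⟨9490, 1, 1⟩) (.one ⟨9618, 0, 5⟩))))) (.node 8 (.node 4 (.node 2 (.node 1 (.one ⟨5564, 2, 2⟩) (.one ⟨13806, 0, 3⟩)) (.node 1 (.one ⟨14243, 2, 3⟩) (.one ⟨9, 2, 3⟩))) (.node 2 (.node 1 (.one ⟨8212, 2, 4⟩) (.one ⟨3335, 2, 6⟩)) (.node 1 (.one ⟨39, 2, 3⟩) (.one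 ⟨13956, 2, 3⟩)))) (.node 4 (.node 2 (.node 1 (.one ⟨7509, 2, 3⟩) (.one ⟨11631, 2, 4⟩)) (.node 1 (.one ⟨14380, 2, 5⟩) (.one ⟨6039, 0, 2⟩))) (.node 2 (.node 1 (.one ⟨7990, 2, 6⟩) (.one ⟨16232, 2, 3⟩)) (.node 1 (.one ⟨15952, 2, 4⟩) (.one ⟨14948, 2, 6⟩)))))) (.node 16 (.node 8 (.node 4 (.node 2 (.node 1 (.one ⟨16094, 2, 4⟩) (.one ⟨14931, 2, 4⟩)) (.node 1 (.one ⟨14749, 2, 3⟩) (.one ⟨14013, 2, 6⟩))) (.node 2 (.node 1 (.one ⟨12948, 2, 5⟩) (.one ⟨664, 0, 5⟩)) (.node 1 (.one ⟨4383, 0, 5⟩) (.one ⟨6381, 2, 5⟩)))) (.node 4 (.node 2 (.node 1 (.one ⟨10325, 2, 4⟩) (.one ⟨15340, 0, 5⟩)) (.node 1 (.one ⟨3820, 2, 3⟩) (.one ⟨6417, 2, 6⟩))) (.node 2 (.node 1 (.one ⟨4518, 2, 4⟩) (.one ⟨8770, 2, 2⟩)) (.node 1 (.one ⟨5789, 2, 4⟩)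 (.one ⟨12737, 2, 6⟩))))) (.node 8 (.node 4 (.node 2 (.node 1 (.one ⟨12545, 0, 4⟩) (.one ⟨15353, 2, 5⟩)) (.node 1 (.one ⟨16273, 2, 4⟩) (.one ⟨16780, 2, 3⟩))) (.node 2 (.node 1 (.one ⟨14057, 2, 5⟩) (.one ⟨1672, 0, 4⟩)) (.node 1 (.one ⟨7295, 0, 5⟩) (.one ⟨12292, 2, 4⟩)))) (.node 4 (.node 2 (.node 1 (.one ⟨11484, 2, 4⟩) (.one ⟨7118, 0, 4⟩)) (.node 1 (.one ⟨4794, 2, 5⟩) (.one ⟨16227, 2, 4⟩))) (.node 2 (.node 1 (.one ⟨15252, 2, 5⟩) (.one ⟨16421, 0, 3⟩)) (.node 1 (.one ⟨13094, 0, 3⟩) (.one ⟨5350, 2, 4⟩)))))))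
def par6_1_1 : Arr Par :=
  (.node 32 (.node 16 (.node 8 (.node 4 (.node 2 (.node 1 (.one ⟨8974, 2, 5⟩) (.one ⟨1339, 2, 5⟩)) (.node 1 (.one ⟨6101, 2, 4⟩) (.one ⟨7390, 1, 2⟩))) (.node 2 (.node 1 (.one ⟨14783, 0, 2⟩) (.one ⟨11632, 2, 4⟩)) (.node 1 (.one ⟨15922, 2, 4⟩) (.one ⟨2563, 2, 5⟩)))) (.node 4 (.node 2 (.node 1 (.one ⟨2428, 2, 5⟩) (.one ⟨15718, 2, 5⟩)) (.node 1 (.one ⟨16165, 2, 4⟩) (.one ⟨8118, 2, 5⟩))) (.node 2 (.node 1 (.one ⟨2198, 1, 3⟩) (.one ⟨10204, 2, 5⟩)) (.node 1 (.one ⟨9286, 2, 5⟩) (.one ⟨8733, 1, 2⟩))))) (.node 8 (.node 4 (.node 2 (.node 1 (.one ⟨16505, 1, 4⟩) (.one ⟨6853, 2, 4⟩)) (.node 1 (.one ⟨6399, 1, 4⟩) (.one ⟨8947, 2, 3⟩))) (.node 2 (.node 1 (.one ⟨1608, 1, 4⟩) (.one ⟨9943, 2, 4⟩)) (.node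 1 (.one ⟨2781, 2, 4⟩) (.one ⟨6105, 2, 5⟩)))) (.node 4 (.node 2 (.node 1 (.one ⟨6249, 0, 3⟩) (.one ⟨16252, 2, 5⟩)) (.node 1 (.one ⟨9080, 2, 4⟩) (.one ⟨10097, 1, 4⟩))) (.node 2 (.node 1 (.one ⟨2294, 0, 4⟩) (.one ⟨3600, 0, 4⟩)) (.node 1 (.one ⟨12414, 2, 4⟩) (.one ⟨4488, 2, 5⟩)))))) (.node 16 (.node 8 (.node 4 (.node 2 (.node 1 (.one ⟨1104, 1, 0⟩) (.one ⟨16990, 1, 2⟩)) (.node 1 (.one ⟨15594, 1, 3⟩) (.one ⟨1468, 1, 0⟩))) (.node 2 (.node 1 (.one ⟨15296, 2, 3⟩) (.one ⟨15801, 2, 4⟩)) (.node 1 (.one ⟨4644, 1, 1⟩) (.one ⟨16038, 2, 3⟩)))) (.node 4 (.node 2 (.node 1 (.one ⟨2214, 2, 5⟩) (.one ⟨14406, 1, 2⟩)) (.node 1 (.one ⟨4790, 0, 4⟩) (.one ⟨16315, 1, 1⟩))) (.node 2 (.node 1 (.one ⟨10762, 0, 1⟩) (.one ⟨2647, 2, 3⟩)) (.node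 1 (.one ⟨4063, 0, 4⟩) (.one ⟨16631, 0, 4⟩))))) (.node 8 (.node 4 (.node 2 (.node 1 (.one ⟨2803, 2, 4⟩) (.one ⟨16634, 0, 4⟩)) (.node 1 (.one ⟨16638, 0, 4⟩) (.one ⟨14045, 1, 2⟩))) (.node 2 (.node 1 (.one ⟨8548, 1, 5⟩) (.one ⟨565, 2, 4⟩)) (.node 1 (.one ⟨2875, 2, 3⟩) (.one ⟨16005, 1, 4⟩)))) (.node 4 (.node 2 (.node 1 (.one ⟨2442, 0, 4⟩) (.one ⟨2443, 0, 4⟩)) (.node 1 (.one ⟨2440, 0, 4⟩) (.one ⟨15286, 2, 6⟩))) (.node 2 (.node 1 (.one ⟨14585, 2, 5⟩) (.one ⟨5278, 2, 6⟩)) (.node 1 (.one ⟨4520, 2, 4⟩) (.one ⟨15680, 0, 3⟩)))))))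
def par6_1_2 : Arr Par :=
  (.node 32 (.node 16 (.node 8 (.node 4 (.node 2 (.node 1 (.one ⟨13162, 2, 4⟩) (.one ⟨13165, 2, 6⟩)) (.node 1 (.one ⟨13160, 2, 6⟩) (.one ⟨850, 2, 5⟩))) (.node 2 (.node 1 (.one ⟨50, 2, 5⟩) (.one ⟨613, 2, 5⟩)) (.node 1 (.one ⟨319, 2, 5⟩) (.one ⟨16313, 0, 4⟩)))) (.node 4 (.node 2 (.node 1 (.one ⟨7051, 2, 3⟩) (.one ⟨9399, 1, 4⟩)) (.node 1 (.one ⟨16237, 0, 4⟩) (.one ⟨10253, 0, 4⟩))) (.node 2 (.node 1 (.one ⟨7907, 2, 3⟩) (.one ⟨9618, 1, 5⟩)) (.node 1 (.one ⟨9705, 0, 4⟩) (.one ⟨12271, 0, 3⟩))))) (.node 8 (.node 4 (.node 2 (.node 1 (.one ⟨3015, 1, 0⟩) (.one ⟨12274, 0, 4⟩)) (.node 1 (.one ⟨11101, 2, 4⟩) (.one ⟨535, 0, 3⟩))) (.node 2 (.node 1 (.one ⟨10069, 1, 2⟩) (.one ⟨4526, 2, 5⟩)) (.node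 1 (.one ⟨13199, 2, 6⟩) (.one ⟨6789, 0, 4⟩)))) (.node 4 (.node 2 (.node 1 (.one ⟨2292, 2, 4⟩) (.one ⟨6787, 0, 4⟩)) (.node 1 (.one ⟨1220, 1, 0⟩) (.one ⟨8575, 2, 4⟩))) (.node 2 (.node 1 (.one ⟨15899, 2, 6⟩) (.one ⟨15357, 1, 5⟩)) (.node 1 (.one ⟨820, 2, 4⟩) (.one ⟨12114, 2, 4⟩)))))) (.node 16 (.node 8 (.node 4 (.node 2 (.node 1 (.one ⟨3881, 0, 3⟩) (.one ⟨9775, 1, 2⟩)) (.node 1 (.one ⟨9833, 0, 4⟩) (.one ⟨3255, 1, 0⟩))) (.node 2 (.node 1 (.one ⟨2800, 1, 0⟩) (.one ⟨2239, 2, 2⟩)) (.node 1 (.one ⟨10512, 2, 4⟩) (.one ⟨1372, 1, 0⟩)))) (.node 4 (.node 2 (.node 1 (.one ⟨3802, 2, 5⟩) (.one ⟨8061, 2, 4⟩)) (.node 1 (.one ⟨16013, 2, 5⟩) (.one ⟨2594, 0, 5⟩))) (.node 2 (.node 1 (.one ⟨12190, 0, 4⟩) (.one ⟨5637, 2, 6⟩)) (.node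 1 (.one ⟨13998, 2, 4⟩) (.one ⟨4049, 1, 1⟩))))) (.node 8 (.node 4 (.node 2 (.node 1 (.one ⟨2096, 0, 3⟩) (.one ⟨12145, 1, 2⟩)) (.node 1 (.one ⟨3926, 1, 0⟩) (.one ⟨2916, 0, 3⟩))) (.node 2 (.node 1 (.one ⟨3404, 0, 2⟩) (.one ⟨10872, 1, 2⟩)) (.node 1 (.one ⟨295, 1, 0⟩) (.one ⟨2127, 1, 2⟩)))) (.node 4 (.node 2 (.node 1 (.one ⟨1651, 1, 0⟩) (.one ⟨13349, 0, 3⟩)) (.node 1 (.one ⟨12784, 0, 3⟩) (.one ⟨4734, 1, 0⟩))) (.node 2 (.node 1 (.one ⟨10943, 1, 2⟩) (.one ⟨11701, 2, 4⟩)) (.node 1 (.one ⟨11965, 0, 3⟩) (.one ⟨3275, 2, 5⟩)))))))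
def par6_1_3 : Arr Par :=
  (.node 32 (.node 16 (.node 8 (.node 4 (.node 2 (.node 1 (.one ⟨6291, 2, 5⟩) (.one ⟨8032, 2, 5⟩)) (.node 1 (.one ⟨4913, 2, 5⟩) (.one ⟨8905, 2, 5⟩))) (.node 2 (.node 1 (.one ⟨3922, 2, 4⟩) (.one ⟨4500, 0, 4⟩)) (.node 1 (.one ⟨6885, 2, 2⟩) (.one ⟨10474, 2, 2⟩)))) (.node 4 (.node 2 (.node 1 (.one ⟨15217, 2, 2⟩) (.one ⟨491, 1, 0⟩)) (.node 1 (.one ⟨1379, 1, 0⟩) (.one ⟨16187, 2, 2⟩))) (.node 2 (.node 1 (.one ⟨13156, 2, 3⟩) (.one ⟨12801, 0, 4⟩)) (.node 1 (.one ⟨6822, 2, 5⟩) (.one ⟨16407, 2, 3⟩))))) (.node 8 (.node 4 (.node 2 (.node 1 (.one ⟨5392, 2, 5⟩) (.one ⟨4395, 0, 5⟩)) (.node 1 (.one ⟨9704, 0, 3⟩) (.one ⟨12186, 2, 4⟩))) (.node 2 (.node 1 (.one ⟨12160, 0, 4⟩) (.one ⟨13330, 1, 5⟩)) (.node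 1 (.one ⟨5281, 2, 1⟩) (.one ⟨11075, 2, 5⟩)))) (.node 4 (.node 2 (.node 1 (.one ⟨6092, 2, 5⟩) (.one ⟨2766, 2, 4⟩)) (.node 1 (.one ⟨13749, 2, 4⟩) (.one ⟨14667, 2, 4⟩))) (.node 2 (.node 1 (.one ⟨4192, 0, 4⟩) (.one ⟨6862, 2, 5⟩)) (.node 1 (.one ⟨9934, 2, 5⟩) (.one ⟨7098, 0, 4⟩)))))) (.node 16 (.node 8 (.node 4 (.node 2 (.node 1 (.one ⟨7096, 0, 4⟩) (.one ⟨514, 1, 0⟩)) (.node 1 (.one ⟨9994, 2, 4⟩) (.one ⟨5273, 2, 6⟩))) (.node 2 (.node 1 (.one ⟨5808, 1, 2⟩) (.one ⟨15281, 2, 3⟩)) (.node 1 (.one ⟨7425, 2, 4⟩) (.one ⟨11854, 0, 4⟩)))) (.node 4 (.node 2 (.node 1 (.one ⟨9222, 1, 4⟩) (.one ⟨2032, 1, 0⟩)) (.node 1 (.one ⟨11851, 0, 4⟩) (.one ⟨4371, 1, 2⟩))) (.node 2 (.node 1 (.one ⟨870, 2, 4⟩) (.one ⟨7646, 2, 5⟩)) (.node 1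 (.one ⟨15902, 2, 5⟩) (.one ⟨11709, 2, 5⟩))))) (.node 8 (.node 4 (.node 2 (.node 1 (.one ⟨6073, 1, 5⟩) (.one ⟨13537, 2, 4⟩)) (.node 1 (.one ⟨1579, 1, 0⟩) (.one ⟨8539, 0, 4⟩))) (.node 2 (.node 1 (.one ⟨9520, 0, 1⟩) (.one ⟨3345, 2, 3⟩)) (.node 1 (.one ⟨16905, 2, 5⟩) (.one ⟨5628, 2, 2⟩)))) (.node 4 (.node 2 (.node 1 (.one ⟨11660, 2, 5⟩) (.one ⟨4375, 0, 4⟩)) (.node 1 (.one ⟨9110, 2, 5⟩) (.one ⟨15932, 2, 6⟩))) (.node 2 (.node 1 (.one ⟨15820, 0, 4⟩) (.one ⟨8283, 0, 3⟩)) (.node 1 (.one ⟨11194, 0, 3⟩) (.one ⟨9491, 0, 4⟩)))))))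
def par6_1_4 : Arr Par :=
  (.node 32 (.node 16 (.node 8 (.node 4 (.node 2 (.node 1 (.one ⟨69, 2, 1⟩) (.one ⟨1885, 1, 0⟩)) (.node 1 (.one ⟨8613, 2, 5⟩) (.one ⟨8316, 0, 4⟩))) (.node 2 (.node 1 (.one ⟨1470, 2, 5⟩) (.one ⟨4141, 1, 0⟩)) (.node 1 (.one ⟨1932, 1, 0⟩) (.one ⟨7545, 0, 2⟩)))) (.node 4 (.node 2 (.node 1 (.one ⟨1271, 2, 3⟩) (.one ⟨4308, 1, 0⟩)) (.node 1 (.one ⟨2355, 1, 0⟩) (.one ⟨12687, 0, 5⟩))) (.node 2 (.node 1 (.one ⟨15845, 0, 3⟩) (.one ⟨3148, 1, 0⟩)) (.node 1 (.one ⟨14368, 0, 5⟩) (.one ⟨5297, 0, 4⟩))))) (.node 8 (.node 4 (.node 2 (.node 1 (.one ⟨7880, 0, 2⟩) (.one ⟨5344, 2, 2⟩)) (.node 1 (.one ⟨10560, 2, 2⟩) (.one ⟨7623, 2, 5⟩))) (.node 2 (.node 1 (.one ⟨14639, 2, 6⟩) (.one ⟨16398, 2, 2⟩)) (.node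 1 (.one ⟨7550, 2, 2⟩) (.one ⟨9182, 0, 5⟩)))) (.node 4 (.node 2 (.node 1 (.one ⟨15181, 0, 4⟩) (.one ⟨3394, 1, 0⟩)) (.node 1 (.one ⟨3921, 2, 5⟩) (.one ⟨1685, 2, 3⟩))) (.node 2 (.node 1 (.one ⟨12825, 2, 2⟩) (.one ⟨15361, 0, 3⟩)) (.node 1 (.one ⟨16884, 2, 3⟩) (.one ⟨5378, 2, 5⟩)))))) (.node 16 (.node 8 (.node 4 (.node 2 (.node 1 (.one ⟨15136, 0, 4⟩) (.one ⟨6192, 2, 4⟩)) (.node 1 (.one ⟨12851, 1, 4⟩) (.one ⟨1703, 1, 4⟩))) (.node 2 (.node 1 (.one ⟨16934, 2, 4⟩) (.one ⟨11230, 2, 3⟩)) (.node 1 (.one ⟨11758, 0, 3⟩) (.one ⟨16904, 1, 3⟩)))) (.node 4 (.node 2 (.node 1 (.one ⟨14682, 2, 6⟩) (.one ⟨12924, 1, 4⟩)) (.node 1 (.one ⟨13277, 1, 4⟩) (.one ⟨12816, 2, 4⟩))) (.node 2 (.node 1 (.one ⟨14544, 0, 4⟩) (.one ⟨5827, 1, 4⟩))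 (.node 1 (.one ⟨14762, 2, 4⟩) (.one ⟨5135, 1, 0⟩))))) (.node 8 (.node 4 (.node 2 (.node 1 (.one ⟨2706, 2, 4⟩) (.one ⟨8019, 2, 2⟩)) (.node 1 (.one ⟨6835, 2, 5⟩) (.one ⟨12111, 2, 5⟩))) (.node 2 (.node 1 (.one ⟨11303, 2, 4⟩) (.one ⟨16486, 2, 4⟩)) (.node 1 (.one ⟨8023, 0, 4⟩) (.one ⟨2286, 1, 0⟩)))) (.node 4 (.node 2 (.node 1 (.one ⟨7175, 1, 4⟩) (.one ⟨12343, 2, 6⟩)) (.node 1 (.one ⟨11544, 2, 4⟩) (.one ⟨7368, 1, 4⟩))) (.node 2 (.node 1 (.one ⟨11106, 2, 4⟩) (.one ⟨5216, 2, 4⟩)) (.node 1 (.one ⟨2335, 2, 2⟩) (.one ⟨4239, 0, 3⟩)))))))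
def par6_1_5 : Arr Par :=
  (.node 32 (.node 16 (.node 8 (.node 4 (.node 2 (.node 1 (.one ⟨15198, 0, 5⟩) (.one ⟨9237, 0, 1⟩)) (.node 1 (.one ⟨16276, 2, 5⟩) (.one ⟨4146, 1, 0⟩))) (.node 2 (.node 1 (.one ⟨15947, 2, 5⟩) (.one ⟨15099, 2, 5⟩)) (.node 1 (.one ⟨5004, 2, 5⟩) (.one ⟨15851, 2, 4⟩)))) (.node 4 (.node 2 (.node 1 (.one ⟨13655, 0, 4⟩) (.one ⟨6077, 1, 2⟩)) (.node 1 (.one ⟨8248, 0, 3⟩) (.one ⟨16898, 2, 3⟩))) (.node 2 (.node 1 (.one ⟨3358, 2, 5⟩) (.one ⟨3938, 2, 5⟩)) (.node 1 (.one ⟨14426, 2, 4⟩) (.one ⟨6152, 0, 3⟩))))) (.node 8 (.node 4 (.node 2 (.node 1 (.one ⟨2988, 0, 3⟩) (.one ⟨10858, 1, 2⟩)) (.node 1 (.one ⟨1603, 1, 0⟩) (.one ⟨1971, 0, 3⟩))) (.node 2 (.node 1 (.one ⟨10120, 1, 1⟩) (.one ⟨2288, 1, 0⟩)) (.node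 1 (.one ⟨1698, 1, 2⟩) (.one ⟨16506, 0, 3⟩)))) (.node 4 (.node 2 (.node 1 (.one ⟨11665, 0, 2⟩) (.one ⟨1951, 1, 0⟩)) (.node 1 (.one ⟨11033, 1, 2⟩) (.one ⟨6827, 2, 4⟩))) (.node 2 (.node 1 (.one ⟨15916, 0, 3⟩) (.one ⟨2049, 1, 2⟩)) (.node 1 (.one ⟨2077, 1, 0⟩) (.one ⟨3774, 0, 3⟩)))))) (.node 16 (.node 8 (.node 4 (.node 2 (.node 1 (.one ⟨9187, 0, 4⟩) (.one ⟨1425, 1, 0⟩)) (.node 1 (.one ⟨4103, 1, 0⟩) (.one ⟨5518, 0, 3⟩))) (.node 2 (.node 1 (.one ⟨64, 2, 1⟩) (.one ⟨2151, 1, 0⟩)) (.node 1 (.one ⟨1539, 1, 0⟩) (.one ⟨3996, 1, 0⟩)))) (.node 4 (.node 2 (.node 1 (.one ⟨15411, 0, 5⟩) (.one ⟨2699, 0, 3⟩)) (.node 1 (.one ⟨12032, 0, 2⟩) (.one ⟨736, 1, 4⟩))) (.node 2 (.node 1 (.one ⟨13930, 0, 3⟩) (.one ⟨3008, 0, 2⟩)) (.node 1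 (.one ⟨1456, 2, 3⟩) (.one ⟨3353, 1, 0⟩))))) (.node 8 (.node 4 (.node 2 (.node 1 (.one ⟨9030, 2, 4⟩) (.one ⟨949, 2, 5⟩)) (.node 1 (.one ⟨14093, 1, 4⟩) (.one ⟨7387, 2, 4⟩))) (.node 2 (.node 1 (.one ⟨12330, 2, 6⟩) (.one ⟨9959, 0, 4⟩)) (.node 1 (.one ⟨5020, 1, 4⟩) (.one ⟨5659, 0, 4⟩)))) (.node 4 (.node 2 (.node 1 (.one ⟨13926, 2, 4⟩) (.one ⟨8944, 2, 5⟩)) (.node 1 (.one ⟨5698, 1, 4⟩) (.one ⟨1456, 0, 3⟩))) (.node 2 (.node 1 (.one ⟨16603, 0, 4⟩) (.one ⟨8711, 1, 4⟩)) (.node 1 (.one ⟨16349, 0, 3⟩) (.one ⟨960, 2, 5⟩)))))))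
def par6_1_6 : Arr Par :=
  (.node 32 (.node 16 (.node 8 (.node 4 (.node 2 (.node 1 (.one ⟨13647, 0, 4⟩) (.one ⟨16445, 2, 5⟩)) (.node 1 (.one ⟨3657, 0, 4⟩) (.one ⟨15397, 0, 3⟩))) (.node 2 (.node 1 (.one ⟨9774, 0, 5⟩) (.one ⟨6846, 2, 5⟩)) (.node 1 (.one ⟨7995, 2, 4⟩) (.one ⟨2722, 2, 3⟩)))) (.node 4 (.node 2 (.node 1 (.one ⟨5402, 2, 2⟩) (.one ⟨9352, 0, 5⟩)) (.node 1 (.one ⟨2350, 2, 5⟩) (.one ⟨12178, 2, 3⟩))) (.node 2 (.node 1 (.one ⟨11296, 2, 4⟩) (.one ⟨13686, 0, 3⟩)) (.node 1 (.one ⟨11252, 0, 4⟩) (.one ⟨11743, 2, 4⟩))))) (.node 8 (.node 4 (.node 2 (.node 1 (.one ⟨2922, 2, 4⟩) (.one ⟨16894, 2, 4⟩)) (.node 1 (.one ⟨15818, 1, 3⟩) (.one ⟨16370, 0, 3⟩))) (.node 2 (.node 1 (.one ⟨16153, 0, 4⟩) (.one ⟨16334, 2, 6⟩))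 (.node 1 (.one ⟨7493, 2, 5⟩) (.one ⟨3695, 1, 0⟩)))) (.node 4 (.node 2 (.node 1 (.one ⟨4000, 2, 6⟩) (.one ⟨12839, 2, 5⟩)) (.node 1 (.one ⟨1647, 2, 2⟩) (.one ⟨10554, 2, 5⟩))) (.node 2 (.node 1 (.one ⟨5602, 1, 4⟩) (.one ⟨11776, 2, 5⟩)) (.node 1 (.one ⟨2943, 2, 4⟩) (.one ⟨1555, 0, 4⟩)))))) (.node 16 (.node 8 (.node 4 (.node 2 (.node 1 (.one ⟨16617, 0, 2⟩) (.one ⟨2707, 1, 0⟩)) (.node 1 (.one ⟨3241, 1, 0⟩) (.one ⟨1416, 2, 3⟩))) (.node 2 (.node 1 (.one ⟨73, 2, 1⟩) (.one ⟨2795, 0, 5⟩)) (.node 1 (.one ⟨2842, 1, 0⟩) (.one ⟨8316, 1, 4⟩)))) (.node 4 (.node 2 (.node 1 (.one ⟨15599, 0, 3⟩) (.one ⟨2003, 1, 0⟩)) (.node 1 (.one ⟨2441, 1, 0⟩) (.one ⟨11173, 0, 3⟩))) (.node 2 (.node 1 (.one ⟨7760, 0, 3⟩) (.one ⟨16696, 2, 6⟩))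 (.node 1 (.one ⟨663, 1, 4⟩) (.one ⟨12299, 2, 5⟩))))) (.node 8 (.node 4 (.node 2 (.node 1 (.one ⟨9059, 2, 2⟩) (.one ⟨8544, 2, 4⟩)) (.node 1 (.one ⟨12424, 0, 3⟩) (.one ⟨2268, 2, 5⟩))) (.node 2 (.node 1 (.one ⟨15259, 2, 4⟩) (.one ⟨5568, 0, 5⟩)) (.node 1 (.one ⟨16358, 0, 4⟩) (.one ⟨16383, 0, 4⟩)))) (.node 4 (.node 2 (.node 1 (.one ⟨12725, 2, 5⟩) (.one ⟨5669, 0, 3⟩)) (.node 1 (.one ⟨1883, 1, 0⟩) (.one ⟨2344, 2, 5⟩))) (.node 2 (.node 1 (.one ⟨2941, 2, 3⟩) (.one ⟨1399, 0, 5⟩)) (.node 1 (.one ⟨14049, 2, 4⟩) (.one ⟨14630, 2, 5⟩)))))))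
def par6_1_7 : Arr Par :=
  (.node 32 (.node 16 (.node 8 (.node 4 (.node 2 (.node 1 (.one ⟨11139, 0, 4⟩) (.one ⟨3463, 1, 5⟩)) (.node 1 (.one ⟨11561, 2, 5⟩) (.one ⟨10786, 0, 4⟩))) (.node 2 (.node 1 (.one ⟨7462, 2, 5⟩) (.one ⟨16568, 0, 3⟩)) (.node 1 (.one ⟨1317, 0, 4⟩) (.one ⟨15842, 2, 3⟩)))) (.node 4 (.node 2 (.node 1 (.one ⟨1088, 2, 6⟩) (.one ⟨12414, 0, 4⟩)) (.node 1 (.one ⟨7215, 0, 4⟩) (.one ⟨11058, 2, 4⟩))) (.node 2 (.node 1 (.one ⟨8551, 2, 4⟩) (.one ⟨5581, 0, 3⟩)) (.node 1 (.one ⟨472, 2, 3⟩) (.one ⟨11464, 0, 4⟩))))) (.node 8 (.node 4 (.node 2 (.node 1 (.one ⟨3061, 1, 2⟩) (.one ⟨6868, 2, 3⟩)) (.node 1 (.one ⟨4075, 1, 1⟩) (.one ⟨14711, 1, 3⟩))) (.node 2 (.node 1 (.one ⟨16984, 1, 2⟩) (.one ⟨716, 1, 0⟩)) (.node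 1 (.one ⟨2073, 2, 5⟩) (.one ⟨571, 1, 2⟩)))) (.node 4 (.node 2 (.node 1 (.one ⟨6778, 2, 4⟩) (.one ⟨4517, 1, 0⟩)) (.node 1 (.one ⟨10254, 1, 1⟩) (.one ⟨16308, 1, 1⟩))) (.node 2 (.node 1 (.one ⟨6114, 2, 3⟩) (.one ⟨5681, 0, 1⟩)) (.node 1 (.one ⟨14531, 2, 3⟩) (.one ⟨7398, 1, 3⟩)))))) (.node 16 (.node 8 (.node 4 (.node 2 (.node 1 (.one ⟨16581, 0, 4⟩) (.one ⟨4296, 0, 4⟩)) (.node 1 (.one ⟨14225, 0, 5⟩) (.one ⟨4862, 0, 4⟩))) (.node 2 (.node 1 (.one ⟨15104, 1, 4⟩) (.one ⟨1354, 0, 4⟩)) (.node 1 (.one ⟨16184, 0, 4⟩) (.one ⟨1546, 2, 6⟩)))) (.node 4 (.node 2 (.node 1 (.one ⟨5179, 1, 5⟩) (.one ⟨4708, 0, 3⟩)) (.node 1 (.one ⟨16773, 2, 5⟩) (.one ⟨5250, 2, 4⟩))) (.node 2 (.node 1 (.one ⟨9112, 2, 4⟩) (.one ⟨10430, 2, 6⟩)) (.node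 1 (.one ⟨14518, 2, 6⟩) (.one ⟨10236, 1, 5⟩))))) (.node 8 (.node 4 (.node 2 (.node 1 (.one ⟨14601, 0, 1⟩) (.one ⟨6251, 2, 3⟩)) (.node 1 (.one ⟨16304, 1, 2⟩) (.one ⟨14923, 0, 4⟩))) (.node 2 (.node 1 (.one ⟨1205, 1, 0⟩) (.one ⟨4841, 0, 4⟩)) (.node 1 (.one ⟨2602, 1, 3⟩) (.one ⟨12833, 2, 3⟩)))) (.node 4 (.node 2 (.node 1 (.one ⟨13019, 0, 4⟩) (.one ⟨15591, 1, 1⟩)) (.node 1 (.one ⟨11754, 2, 4⟩) (.one ⟨1604, 2, 5⟩))) (.node 2 (.node 1 (.one ⟨1645, 0, 4⟩) (.one ⟨5305, 1, 2⟩)) (.node 1 (.one ⟨3219, 0, 4⟩) (.one ⟨2014, 1, 0⟩)))))))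
def par6_1_8 : Arr Par :=
  (.node 32 (.node 16 (.node 8 (.node 4 (.node 2 (.node 1 (.one ⟨3274, 2, 5⟩) (.one ⟨13170, 2, 3⟩)) (.node 1 (.one ⟨7447, 2, 4⟩) (.one ⟨11235, 2, 4⟩))) (.node 2 (.node 1 (.one ⟨1606, 1, 0⟩) (.one ⟨15315, 2, 5⟩)) (.node 1 (.one ⟨1427, 0, 4⟩) (.one ⟨16025, 2, 2⟩)))) (.node 4 (.node 2 (.node 1 (.one ⟨2137, 2, 2⟩) (.one ⟨9838, 2, 5⟩)) (.node 1 (.one ⟨7628, 2, 5⟩) (.one ⟨10011, 2, 2⟩))) (.node 2 (.node 1 (.one ⟨16792, 0, 4⟩) (.one ⟨2179, 1, 0⟩)) (.node 1 (.one ⟨14951, 0, 4⟩) (.one ⟨3790, 2, 3⟩))))) (.node 8 (.node 4 (.node 2 (.node 1 (.one ⟨16746, 2, 4⟩) (.one ⟨2820, 2, 3⟩)) (.node 1 (.one ⟨1907, 1, 0⟩) (.one ⟨1588, 0, 3⟩))) (.node 2 (.node 1 (.one ⟨7228, 0, 3⟩) (.one ⟨12306, 1, 2⟩)) (.node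 1 (.one ⟨1697, 1, 2⟩) (.one ⟨10874, 1, 2⟩)))) (.node 4 (.node 2 (.node 1 (.one ⟨5433, 1, 2⟩) (.one ⟨12475, 0, 3⟩)) (.node 1 (.one ⟨16697, 0, 3⟩) (.one ⟨1525, 1, 0⟩))) (.node 2 (.node 1 (.one ⟨3499, 1, 0⟩) (.one ⟨16038, 0, 3⟩)) (.node 1 (.one ⟨13477, 0, 2⟩) (.one ⟨3139, 2, 6⟩)))))) (.node 16 (.node 8 (.node 4 (.node 2 (.node 1 (.one ⟨6367, 2, 2⟩) (.one ⟨12513, 2, 4⟩)) (.node 1 (.one ⟨6259, 0, 4⟩) (.one ⟨8389, 0, 4⟩))) (.node 2 (.node 1 (.one ⟨4634, 0, 3⟩) (.one ⟨14979, 2, 2⟩)) (.node 1 (.one ⟨10047, 2, 4⟩) (.one ⟨16293, 2, 3⟩)))) (.node 4 (.node 2 (.node 1 (.one ⟨12113, 0, 4⟩) (.one ⟨9293, 0, 1⟩)) (.node 1 (.one ⟨4930, 0, 4⟩) (.one ⟨5619, 2, 1⟩))) (.node 2 (.node 1 (.one ⟨2104, 2, 1⟩) (.one ⟨12139, 2, 3⟩)) (.node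 1 (.one ⟨16391, 2, 1⟩) (.one ⟨12168, 2, 4⟩))))) (.node 8 (.node 4 (.node 2 (.node 1 (.one ⟨16581, 2, 4⟩) (.one ⟨12149, 2, 2⟩)) (.node 1 (.one ⟨6576, 1, 1⟩) (.one ⟨3334, 2, 4⟩))) (.node 2 (.node 1 (.one ⟨5961, 2, 2⟩) (.one ⟨6690, 1, 3⟩)) (.node 1 (.one ⟨475, 1, 4⟩) (.one ⟨9294, 0, 1⟩)))) (.node 4 (.node 2 (.node 1 (.one ⟨15026, 1, 3⟩) (.one ⟨10711, 1, 3⟩)) (.node 1 (.one ⟨3562, 1, 4⟩) (.one ⟨5463, 0, 4⟩))) (.node 2 (.node 1 (.one ⟨4915, 0, 4⟩) (.one ⟨827, 1, 2⟩)) (.node 1 (.one ⟨5164, 0, 4⟩) (.one ⟨14712, 2, 5⟩)))))))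
def par6_1_9 : Arr Par :=
  (.node 32 (.node 16 (.node 8 (.node 4 (.node 2 (.node 1 (.one ⟨14550, 0, 4⟩) (.one ⟨10688, 1, 2⟩)) (.node 1 (.one ⟨9905, 1, 2⟩) (.one ⟨3797, 2, 4⟩))) (.node 2 (.node 1 (.one ⟨16767, 2, 4⟩) (.one ⟨6217, 1, 2⟩)) (.node 1 (.one ⟨14158, 0, 2⟩) (.one ⟨2638, 1, 1⟩)))) (.node 4 (.node 2 (.node 1 (.one ⟨16271, 0, 3⟩) (.one ⟨13758, 1, 1⟩)) (.node 1 (.one ⟨105, 2, 5⟩) (.one ⟨12572, 2, 6⟩))) (.node 2 (.node 1 (.one ⟨3485, 1, 0⟩) (.one ⟨8591, 0, 3⟩)) (.node 1 (.one ⟨776, 2, 4⟩) (.one ⟨4600, 2, 3⟩))))) (.node 8 (.node 4 (.node 2 (.node 1 (.one ⟨11567, 2, 4⟩) (.one ⟨5505, 0, 2⟩)) (.node 1 (.one ⟨9414, 2, 5⟩) (.one ⟨1636, 2, 5⟩))) (.node 2 (.node 1 (.one ⟨10915, 2, 3⟩) (.one ⟨7276, 0, 5⟩)) (.node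 1 (.one ⟨16162, 0, 3⟩) (.one ⟨13172, 0, 4⟩)))) (.node 4 (.node 2 (.node 1 (.one ⟨10117, 2, 5⟩) (.one ⟨5997, 2, 6⟩)) (.node 1 (.one ⟨5226, 2, 3⟩) (.one ⟨4931, 0, 2⟩))) (.node 2 (.node 1 (.one ⟨5144, 2, 5⟩) (.one ⟨16969, 2, 1⟩)) (.node 1 (.one ⟨9928, 2, 5⟩) (.one ⟨1661, 2, 4⟩)))))) (.node 16 (.node 8 (.node 4 (.node 2 (.node 1 (.one ⟨3206, 2, 4⟩) (.one ⟨14784, 2, 4⟩)) (.node 1 (.one ⟨12214, 0, 2⟩) (.one ⟨10159, 2, 4⟩))) (.node 2 (.node 1 (.one ⟨11556, 2, 4⟩) (.one ⟨6926, 2, 5⟩)) (.node 1 (.one ⟨8147, 0, 3⟩) (.one ⟨1488, 2, 3⟩)))) (.node 4 (.node 2 (.node 1 (.one ⟨8562, 0, 4⟩) (.one ⟨9722, 0, 4⟩)) (.node 1 (.one ⟨15890, 2, 5⟩) (.one ⟨7777, 2, 5⟩))) (.node 2 (.node 1 (.one ⟨9753, 0, 3⟩) (.one ⟨9251, 2, 3⟩)) (.node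 1 (.one ⟨9314, 2, 4⟩) (.one ⟨7465, 1, 1⟩))))) (.node 8 (.node 4 (.node 2 (.node 1 (.one ⟨12770, 2, 3⟩) (.one ⟨7005, 2, 5⟩)) (.node 1 (.one ⟨9596, 0, 1⟩) (.one ⟨6269, 1, 1⟩))) (.node 2 (.node 1 (.one ⟨6457, 2, 4⟩) (.one ⟨12171, 2, 5⟩)) (.node 1 (.one ⟨3758, 2, 4⟩) (.one ⟨3235, 2, 4⟩)))) (.node 4 (.node 2 (.node 1 (.one ⟨8811, 0, 3⟩) (.one ⟨7365, 0, 3⟩)) (.node 1 (.one ⟨13118, 1, 4⟩) (.one ⟨13387, 0, 3⟩))) (.node 2 (.node 1 (.one ⟨6559, 2, 3⟩) (.one ⟨3674, 0, 3⟩)) (.node 1 (.one ⟨11504, 0, 3⟩) (.one ⟨12289, 0, 4⟩)))))))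
def par6_1_10 : Arr Par :=
  (.node 32 (.node 16 (.node 8 (.node 4 (.node 2 (.node 1 (.one ⟨12287, 0, 4⟩) (.one ⟨1965, 2, 3⟩)) (.node 1 (.one ⟨181, 0, 4⟩) (.one ⟨12292, 0, 4⟩))) (.node 2 (.node 1 (.one ⟨12294, 0, 4⟩) (.one ⟨783, 0, 4⟩)) (.node 1 (.one ⟨948, 0, 4⟩) (.one ⟨6540, 0, 4⟩)))) (.node 4 (.node 2 (.node 1 (.one ⟨11225, 2, 3⟩) (.one ⟨4978, 0, 2⟩)) (.node 1 (.one ⟨9762, 2, 4⟩) (.one ⟨3562, 2, 4⟩))) (.node 2 (.node 1 (.one ⟨2994, 2, 1⟩) (.one ⟨11366, 0, 2⟩)) (.node 1 (.one ⟨2690, 2, 4⟩) (.one ⟨5899, 2, 3⟩))))) (.node 8 (.node 4 (.node 2 (.node 1 (.one ⟨9310, 2, 3⟩) (.one ⟨4176, 0, 2⟩)) (.node 1 (.one ⟨3602, 1, 4⟩) (.one ⟨12363, 1, 3⟩))) (.node 2 (.node 1 (.one ⟨1674, 2, 5⟩) (.one ⟨10778, 1, 2⟩)) (.node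 1 (.one ⟨733, 0, 3⟩) (.one ⟨12122, 2, 3⟩)))) (.node 4 (.node 2 (.node 1 (.one ⟨8813, 0, 4⟩) (.one ⟨3781, 1, 4⟩)) (.node 1 (.one ⟨6539, 0, 4⟩) (.one ⟨13431, 2, 2⟩))) (.node 2 (.node 1 (.one ⟨4977, 0, 4⟩) (.one ⟨13356, 0, 4⟩)) (.node 1 (.one ⟨12331, 1, 4⟩) (.one ⟨5825, 1, 1⟩)))))) (.node 16 (.node 8 (.node 4 (.node 2 (.node 1 (.one ⟨10967, 2, 3⟩) (.one ⟨66, 0, 1⟩)) (.node 1 (.one ⟨65, 0, 1⟩) (.one ⟨16326, 2, 4⟩))) (.node 2 (.node 1 (.one ⟨1142, 0, 4⟩) (.one ⟨64, 0, 1⟩)) (.node 1 (.one ⟨9385, 1, 1⟩) (.one ⟨14829, 0, 3⟩)))) (.node 4 (.node 2 (.node 1 (.one ⟨8820, 2, 4⟩) (.one ⟨3595, 2, 5⟩)) (.node 1 (.one ⟨16769, 2, 3⟩) (.one ⟨2730, 2, 2⟩))) (.node 2 (.node 1 (.one ⟨15523, 2, 4⟩) (.one ⟨9212, 2, 1⟩)) (.node 1 (.one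 ⟨6858, 2, 4⟩) (.one ⟨2320, 1, 2⟩))))) (.node 8 (.node 4 (.node 2 (.node 1 (.one ⟨6342, 2, 4⟩) (.one ⟨11874, 1, 2⟩)) (.node 1 (.one ⟨3212, 1, 0⟩) (.one ⟨8897, 2, 3⟩))) (.node 2 (.node 1 (.one ⟨8740, 2, 5⟩) (.one ⟨2552, 2, 5⟩)) (.node 1 (.one ⟨973, 2, 5⟩) (.one ⟨10230, 0, 4⟩)))) (.node 4 (.node 2 (.node 1 (.one ⟨2943, 0, 4⟩) (.one ⟨2748, 0, 3⟩)) (.node 1 (.one ⟨9541, 0, 1⟩) (.one ⟨14964, 2, 5⟩))) (.node 2 (.node 1 (.one ⟨9778, 2, 5⟩) (.one ⟨14814, 2, 4⟩)) (.node 1 (.one ⟨8749, 0, 4⟩) (.one ⟨5801, 0, 1⟩)))))))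
def par6_1_11 : Arr Par :=
  (.node 32 (.node 16 (.node 8 (.node 4 (.node 2 (.node 1 (.one ⟨3664, 0, 1⟩) (.one ⟨8276, 2, 4⟩)) (.node 1 (.one ⟨4808, 0, 1⟩) (.one ⟨12456, 2, 3⟩))) (.node 2 (.node 1 (.one ⟨8125, 2, 3⟩) (.one ⟨8408, 0, 4⟩)) (.node 1 (.one ⟨2023, 2, 3⟩) (.one ⟨16315, 2, 1⟩)))) (.node 4 (.node 2 (.node 1 (.one ⟨5091, 0, 4⟩) (.one ⟨16634, 2, 4⟩)) (.node 1 (.one ⟨12051, 2, 4⟩) (.one ⟨190, 2, 5⟩))) (.node 2 (.node 1 (.one ⟨7542, 2, 3⟩) (.one ⟨3162, 2, 2⟩)) (.node 1 (.one ⟨6022, 2, 5⟩) (.one ⟨1382, 2, 1⟩))))) (.node 8 (.node 4 (.node 2 (.node 1 (.one ⟨7390, 0, 2⟩) (.one ⟨2005, 2, 5⟩)) (.node 1 (.one ⟨12702, 1, 4⟩) (.one ⟨11479, 1, 3⟩))) (.node 2 (.node 1 (.one ⟨3180, 2, 4⟩) (.one ⟨4554, 1, 5⟩)) (.node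 1 (.one ⟨9630, 1, 5⟩) (.one ⟨1535, 0, 1⟩)))) (.node 4 (.node 2 (.node 1 (.one ⟨5525, 2, 4⟩) (.one ⟨14476, 2, 5⟩)) (.node 1 (.one ⟨11148, 0, 4⟩) (.one ⟨6415, 2, 5⟩))) (.node 2 (.node 1 (.one ⟨9620, 2, 4⟩) (.one ⟨13466, 0, 4⟩)) (.node 1 (.one ⟨13576, 2, 3⟩) (.one ⟨608, 1, 1⟩)))))) (.node 16 (.node 8 (.node 4 (.node 2 (.node 1 (.one ⟨16852, 0, 2⟩) (.one ⟨1327, 1, 1⟩)) (.node 1 (.one ⟨8022, 0, 2⟩) (.one ⟨5437, 2, 2⟩))) (.node 2 (.node 1 (.one ⟨637, 2, 5⟩) (.one ⟨1868, 0, 2⟩)) (.node 1 (.one ⟨1187, 1, 1⟩) (.one ⟨4625, 0, 5⟩)))) (.node 4 (.node 2 (.node 1 (.one ⟨13918, 2, 3⟩) (.one ⟨11836, 2, 4⟩)) (.node 1 (.one ⟨11235, 0, 4⟩) (.one ⟨11844, 2, 4⟩))) (.node 2 (.node 1 (.one ⟨12460, 2, 3⟩) (.one ⟨14348, 2, 3⟩)) (.node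 1 (.one ⟨13923, 2, 5⟩) (.one ⟨7588, 2, 3⟩))))) (.node 8 (.node 4 (.node 2 (.node 1 (.one ⟨4228, 1, 0⟩) (.one ⟨8685, 2, 2⟩)) (.node 1 (.one ⟨6543, 2, 5⟩) (.one ⟨9981, 0, 2⟩))) (.node 2 (.node 1 (.one ⟨2501, 1, 0⟩) (.one ⟨16473, 2, 5⟩)) (.node 1 (.one ⟨14502, 2, 5⟩) (.one ⟨2442, 1, 4⟩)))) (.node 4 (.node 2 (.node 1 (.one ⟨9218, 0, 2⟩) (.one ⟨11743, 0, 4⟩)) (.node 1 (.one ⟨8386, 0, 5⟩) (.one ⟨11854, 1, 4⟩))) (.node 2 (.node 1 (.one ⟨15196, 2, 4⟩) (.one ⟨7701, 2, 3⟩)) (.node 1 (.one ⟨13701, 0, 4⟩) (.one ⟨1421, 0, 4⟩)))))))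
def par6_1_12 : Arr Par :=
  (.node 32 (.node 16 (.node 8 (.node 4 (.node 2 (.node 1 (.one ⟨8486, 0, 2⟩) (.one ⟨7790, 0, 3⟩)) (.node 1 (.one ⟨8572, 2, 1⟩) (.one ⟨3284, 2, 3⟩))) (.node 2 (.node 1 (.one ⟨11374, 2, 1⟩) (.one ⟨4063, 2, 4⟩)) (.node 1 (.one ⟨16300, 0, 4⟩) (.one ⟨4206, 1, 0⟩)))) (.node 4 (.node 2 (.node 1 (.one ⟨13972, 1, 5⟩) (.one ⟨15024, 0, 5⟩)) (.node 1 (.one ⟨5767, 2, 4⟩) (.one ⟨13927, 2, 4⟩))) (.node 2 (.node 1 (.one ⟨112, 1, 5⟩) (.one ⟨1664, 1, 5⟩)) (.node 1 (.one ⟨5680, 0, 1⟩) (.one ⟨9455, 0, 4⟩))))) (.node 8 (.node 4 (.node 2 (.node 1 (.one ⟨3230, 2, 4⟩) (.one ⟨2272, 0, 4⟩)) (.node 1 (.one ⟨8341, 2, 4⟩) (.one ⟨11895, 2, 4⟩))) (.node 2 (.node 1 (.one ⟨10012, 0, 2⟩) (.one ⟨14860, 2, 4⟩)) (.node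 1 (.one ⟨2590, 0, 4⟩) (.one ⟨9384, 0, 3⟩)))) (.node 4 (.node 2 (.node 1 (.one ⟨2275, 0, 3⟩) (.one ⟨15026, 2, 3⟩)) (.node 1 (.one ⟨5085, 0, 3⟩) (.one ⟨10304, 0, 4⟩))) (.node 2 (.node 1 (.one ⟨3759, 2, 1⟩) (.one ⟨7334, 1, 4⟩)) (.node 1 (.one ⟨4585, 0, 5⟩) (.one ⟨13870, 2, 5⟩)))))) (.node 16 (.node 8 (.node 4 (.node 2 (.node 1 (.one ⟨9453, 2, 5⟩) (.one ⟨4443, 2, 5⟩)) (.node 1 (.one ⟨8292, 2, 5⟩) (.one ⟨10752, 0, 4⟩))) (.node 2 (.node 1 (.one ⟨2629, 0, 3⟩) (.one ⟨10515, 2, 5⟩)) (.node 1 (.one ⟨14347, 2, 5⟩) (.one ⟨8528, 0, 2⟩)))) (.node 4 (.node 2 (.node 1 (.one ⟨9642, 2, 5⟩) (.one ⟨14206, 0, 5⟩)) (.node 1 (.one ⟨13304, 0, 3⟩) (.one ⟨7138, 2, 5⟩))) (.node 2 (.node 1 (.one ⟨7317, 2, 4⟩) (.one ⟨3376, 0, 5⟩)) (.node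 1 (.one ⟨7798, 0, 3⟩) (.one ⟨9950, 2, 4⟩))))) (.node 8 (.node 4 (.node 2 (.node 1 (.one ⟨1398, 2, 5⟩) (.one ⟨5158, 0, 4⟩)) (.node 1 (.one ⟨9232, 2, 5⟩) (.one ⟨4230, 1, 0⟩))) (.node 2 (.node 1 (.one ⟨10132, 0, 4⟩) (.one ⟨9937, 2, 4⟩)) (.node 1 (.one ⟨1314, 2, 5⟩) (.one ⟨2018, 0, 5⟩)))) (.node 4 (.node 2 (.node 1 (.one ⟨1903, 1, 1⟩) (.one ⟨9547, 1, 1⟩)) (.node 1 (.one ⟨13455, 2, 6⟩) (.one ⟨13460, 2, 3⟩))) (.node 2 (.node 1 (.one ⟨815, 2, 5⟩) (.one ⟨162, 2, 5⟩)) (.node 1 (.one ⟨13456, 2, 5⟩) (.one ⟨16983, 1, 4⟩)))))))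
def par6_1_13 : Arr Par :=
  (.node 32 (.node 16 (.node 8 (.node 4 (.node 2 (.node 1 (.one ⟨8815, 0, 3⟩) (.one ⟨4614, 0, 5⟩)) (.node 1 (.one ⟨4247, 2, 5⟩) (.one ⟨7870, 1, 5⟩))) (.node 2 (.node 1 (.one ⟨14259, 0, 3⟩) (.one ⟨9211, 0, 3⟩)) (.node 1 (.one ⟨14453, 1, 4⟩) (.one ⟨11455, 0, 4⟩)))) (.node 4 (.node 2 (.node 1 (.one ⟨579, 1, 1⟩) (.one ⟨4632, 2, 3⟩)) (.node 1 (.one ⟨16161, 2, 3⟩) (.one ⟨5681, 2, 1⟩))) (.node 2 (.node 1 (.one ⟨10998, 2, 1⟩) (.one ⟨4470, 2, 3⟩)) (.node 1 (.one ⟨16828, 2, 3⟩) (.one ⟨10096, 2, 4⟩))))) (.node 8 (.node 4 (.node 2 (.node 1 (.one ⟨10235, 0, 5⟩) (.one ⟨8713, 2, 6⟩)) (.node 1 (.one ⟨988, 1, 5⟩) (.one ⟨16104, 1, 5⟩))) (.node 2 (.node 1 (.one ⟨16443, 2, 5⟩) (.one ⟨7681, 1, 5⟩)) (.node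 1 (.one ⟨2538, 1, 3⟩) (.one ⟨10034, 0, 4⟩)))) (.node 4 (.node 2 (.node 1 (.one ⟨10823, 2, 3⟩) (.one ⟨15404, 2, 4⟩)) (.node 1 (.one ⟨16463, 2, 3⟩) (.one ⟨3288, 2, 5⟩))) (.node 2 (.node 1 (.one ⟨4852, 2, 1⟩) (.one ⟨6012, 0, 4⟩)) (.node 1 (.one ⟨6699, 2, 3⟩) (.one ⟨5964, 2, 4⟩)))))) (.node 16 (.node 8 (.node 4 (.node 2 (.node 1 (.one ⟨14923, 2, 4⟩) (.one ⟨6370, 2, 4⟩)) (.node 1 (.one ⟨15529, 2, 5⟩) (.one ⟨10313, 0, 1⟩))) (.node 2 (.node 1 (.one ⟨2229, 2, 4⟩) (.one ⟨11176, 2, 6⟩)) (.node 1 (.one ⟨2220, 2, 4⟩) (.one ⟨6073, 0, 5⟩)))) (.node 4 (.node 2 (.node 1 (.one ⟨7511, 2, 6⟩) (.one ⟨11519, 0, 4⟩)) (.node 1 (.one ⟨13944, 0, 2⟩) (.one ⟨2267, 2, 4⟩))) (.node 2 (.node 1 (.one ⟨5143, 2, 4⟩) (.one ⟨16415, 2, 4⟩)) (.node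 1 (.one ⟨15588, 2, 4⟩) (.one ⟨1929, 1, 0⟩))))) (.node 8 (.node 4 (.node 2 (.node 1 (.one ⟨1896, 1, 0⟩) (.one ⟨1974, 1, 0⟩)) (.node 1 (.one ⟨15228, 2, 5⟩) (.one ⟨10462, 2, 5⟩))) (.node 2 (.node 1 (.one ⟨842, 2, 5⟩) (.one ⟨2558, 0, 4⟩)) (.node 1 (.one ⟨8741, 2, 5⟩) (.one ⟨13203, 0, 4⟩)))) (.node 4 (.node 2 (.node 1 (.one ⟨1009, 2, 3⟩) (.one ⟨305, 2, 4⟩)) (.node 1 (.one ⟨9383, 0, 4⟩) (.one ⟨4554, 0, 5⟩))) (.node 2 (.node 1 (.one ⟨6559, 1, 3⟩) (.one ⟨12682, 0, 4⟩)) (.node 1 (.one ⟨2300, 0, 4⟩) (.one ⟨8530, 2, 4⟩)))))))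
def par6_1_14 : Arr Par :=
  (.node 32 (.node 16 (.node 8 (.node 4 (.node 2 (.node 1 (.one ⟨1214, 0, 4⟩) (.one ⟨7505, 0, 5⟩)) (.node 1 (.one ⟨5982, 2, 3⟩) (.one ⟨5994, 2, 5⟩))) (.node 2 (.node 1 (.one ⟨5987, 2, 4⟩) (.one ⟨8557, 2, 4⟩)) (.node 1 (.one ⟨8550, 2, 3⟩) (.one ⟨4806, 0, 4⟩)))) (.node 4 (.node 2 (.node 1 (.one ⟨10473, 2, 3⟩) (.one ⟨15522, 2, 5⟩)) (.node 1 (.one ⟨8711, 2, 4⟩) (.one ⟨3744, 2, 4⟩))) (.node 2 (.node 1 (.one ⟨10378, 2, 3⟩) (.one ⟨15257, 2, 4⟩)) (.node 1 (.one ⟨8543, 2, 3⟩) (.one ⟨5951, 0, 1⟩))))) (.node 8 (.node 4 (.node 2 (.node 1 (.one ⟨3585, 0, 1⟩) (.one ⟨6813, 2, 3⟩)) (.node 1 (.one ⟨11000, 2, 3⟩) (.one ⟨7049, 0, 1⟩))) (.node 2 (.node 1 (.one ⟨12289, 2, 4⟩) (.one ⟨8547, 2, 3⟩)) (.node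 1 (.one ⟨12957, 2, 3⟩) (.one ⟨15251, 2, 3⟩)))) (.node 4 (.node 2 (.node 1 (.one ⟨4923, 1, 4⟩) (.one ⟨902, 2, 4⟩)) (.node 1 (.one ⟨8546, 2, 3⟩) (.one ⟨1092, 2, 3⟩))) (.node 2 (.node 1 (.one ⟨8553, 2, 5⟩) (.one ⟨15261, 2, 5⟩)) (.node 1 (.one ⟨12295, 2, 2⟩) (.one ⟨7322, 2, 4⟩)))))) (.node 16 (.node 8 (.node 4 (.node 2 (.node 1 (.one ⟨744, 2, 5⟩) (.one ⟨8540, 2, 5⟩)) (.node 1 (.one ⟨4336, 2, 4⟩) (.one ⟨4373, 2, 6⟩))) (.node 2 (.node 1 (.one ⟨8506, 2, 6⟩) (.one ⟨1171, 2, 4⟩)) (.node 1 (.one ⟨7293, 2, 6⟩) (.one ⟨6673, 0, 4⟩)))) (.node 4 (.node 2 (.node 1 (.one ⟨10377, 0, 4⟩) (.one ⟨954, 2, 5⟩)) (.node 1 (.one ⟨6834, 1, 4⟩) (.one ⟨13057, 0, 4⟩))) (.node 2 (.node 1 (.one ⟨12324, 2, 4⟩) (.one ⟨1591, 0, 2⟩)) (.node 1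 (.one ⟨12913, 2, 5⟩) (.one ⟨13172, 2, 4⟩))))) (.node 8 (.node 4 (.node 2 (.node 1 (.one ⟨10913, 1, 3⟩) (.one ⟨15145, 2, 6⟩)) (.node 1 (.one ⟨15566, 2, 5⟩) (.one ⟨2230, 2, 2⟩))) (.node 2 (.node 1 (.one ⟨3769, 0, 4⟩) (.one ⟨8040, 2, 4⟩)) (.node 1 (.one ⟨2995, 0, 1⟩) (.one ⟨4834, 0, 2⟩)))) (.node 4 (.node 2 (.node 1 (.one ⟨9486, 2, 1⟩) (.one ⟨2774, 2, 4⟩)) (.node 1 (.one ⟨14721, 2, 5⟩) (.one ⟨2396, 0, 5⟩))) (.node 2 (.node 1 (.one ⟨2488, 0, 2⟩) (.one ⟨5781, 2, 4⟩)) (.node 1 (.one ⟨9669, 2, 5⟩) (.one ⟨8706, 1, 1⟩)))))))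
def par6_1_15 : Arr Par :=
  (.node 32 (.node 16 (.node 8 (.node 4 (.node 2 (.node 1 (.one ⟨4815, 0, 4⟩) (.one ⟨3468, 1, 4⟩)) (.node 1 (.one ⟨14231, 0, 4⟩) (.one ⟨4620, 1, 4⟩))) (.node 2 (.node 1 (.one ⟨14247, 0, 3⟩) (.one ⟨6135, 0, 2⟩)) (.node 1 (.one ⟨5844, 2, 2⟩) (.one ⟨1136, 2, 5⟩)))) (.node 4 (.node 2 (.node 1 (.one ⟨12217, 1, 3⟩) (.one ⟨2747, 2, 4⟩)) (.node 1 (.one ⟨38, 2, 3⟩) (.one ⟨12840, 0, 3⟩))) (.node 2 (.node 1 (.one ⟨9409, 2, 5⟩) (.one ⟨9391, 2, 1⟩)) (.node 1 (.one ⟨10841, 2, 4⟩) (.one ⟨9291, 0, 1⟩))))) (.node 8 (.node 4 (.node 2 (.node 1 (.one ⟨3680, 2, 3⟩) (.one ⟨11558, 2, 3⟩)) (.node 1 (.one ⟨2434, 2, 3⟩) (.one ⟨7761, 2, 6⟩))) (.node 2 (.node 1 (.one ⟨16765, 2, 5⟩) (.one ⟨6456, 2, 4⟩)) (.node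 1 (.one ⟨10643, 0, 4⟩) (.one ⟨6749, 2, 3⟩)))) (.node 4 (.node 2 (.node 1 (.one ⟨11543, 0, 3⟩) (.one ⟨2869, 2, 3⟩)) (.node 1 (.one ⟨155, 2, 4⟩) (.one ⟨2889, 2, 5⟩))) (.node 2 (.node 1 (.one ⟨1796, 0, 2⟩) (.one ⟨6725, 2, 5⟩)) (.node 1 (.one ⟨6077, 2, 2⟩) (.one ⟨4490, 0, 2⟩)))))) (.node 16 (.node 8 (.node 4 (.node 2 (.node 1 (.one ⟨3400, 2, 5⟩) (.one ⟨11414, 0, 2⟩)) (.node 1 (.one ⟨6261, 0, 4⟩) (.one ⟨13060, 0, 4⟩))) (.node 2 (.node 1 (.one ⟨14202, 2, 5⟩) (.one ⟨14981, 2, 5⟩)) (.node 1 (.one ⟨8461, 2, 3⟩) (.one ⟨11261, 0, 2⟩)))) (.node 4 (.node 2 (.node 1 (.one ⟨9981, 1, 2⟩) (.one ⟨15449, 2, 3⟩)) (.node 1 (.one ⟨9501, 2, 3⟩) (.one ⟨13854, 2, 5⟩))) (.node 2 (.node 1 (.one ⟨11227, 2, 4⟩) (.one ⟨2438, 2, 3⟩)) (.node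 1 (.one ⟨13066, 0, 2⟩) (.one ⟨13311, 0, 4⟩))))) (.node 8 (.node 4 (.node 2 (.node 1 (.one ⟨129, 0, 4⟩) (.one ⟨6875, 2, 5⟩)) (.node 1 (.one ⟨13318, 0, 4⟩) (.one ⟨914, 0, 4⟩))) (.node 2 (.node 1 (.one ⟨65, 2, 1⟩) (.one ⟨803, 2, 5⟩)) (.node 1 (.one ⟨289, 0, 4⟩) (.one ⟨15557, 2, 3⟩)))) (.node 4 (.node 2 (.node 1 (.one ⟨16898, 0, 3⟩) (.one ⟨4508, 1, 2⟩)) (.node 1 (.one ⟨9463, 0, 3⟩) (.one ⟨12742, 2, 6⟩))) (.node 2 (.node 1 (.one ⟨13002, 0, 3⟩) (.one ⟨11248, 2, 3⟩)) (.node 1 (.one ⟨11811, 2, 5⟩) (.one ⟨4915, 2, 4⟩)))))))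
def par6_1 : Arr Par :=
  (.node 512 (.node 256 (.node 128 (.node 64 par6_1_0 par6_1_1) (.node 64 par6_1_2 par6_1_3)) (.node 128 (.node 64 par6_1_4 par6_1_5) (.node 64 par6_1_6 par6_1_7))) (.node 256 (.node 128 (.node 64 par6_1_8 par6_1_9) (.node 64 par6_1_10 par6_1_11)) (.node 128 (.node 64 par6_1_12 par6_1_13) (.node 64 par6_1_14 par6_1_15))))
def par6_2_0 : Arr Par :=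
  (.node 32 (.node 16 (.node 8 (.node 4 (.node 2 (.node 1 (.one ⟨81, 0, 1⟩) (.one ⟨84, 0, 1⟩)) (.node 1 (.one ⟨11182, 2, 4⟩) (.one ⟨16605, 2, 5⟩))) (.node 2 (.node 1 (.one ⟨83, 0, 1⟩) (.one ⟨82, 0, 1⟩)) (.node 1 (.one ⟨7006, 2, 3⟩) (.one ⟨15698, 2, 2⟩)))) (.node 4 (.node 2 (.node 1 (.one ⟨1780, 2, 1⟩) (.one ⟨12492, 2, 4⟩)) (.node 1 (.one ⟨5537, 1, 5⟩) (.one ⟨14643, 0, 4⟩))) (.node 2 (.node 1 (.one ⟨7904, 2, 5⟩) (.one ⟨14266, 2, 5⟩)) (.node 1 (.one ⟨13408, 0, 1⟩) (.one ⟨1772, 2, 4⟩))))) (.node 8 (.node 4 (.node 2 (.node 1 (.one ⟨2778, 2, 4⟩) (.one ⟨373, 0, 4⟩)) (.node 1 (.one ⟨11305, 0, 4⟩) (.one ⟨4131, 2, 1⟩))) (.node 2 (.node 1 (.one ⟨5258, 2, 4⟩) (.one ⟨10968, 2, 3⟩)) (.node 1 (.one ⟨9966, 2, 5⟩) (.one ⟨4646,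 2, 4⟩)))) (.node 4 (.node 2 (.node 1 (.one ⟨9910, 0, 2⟩) (.one ⟨14399, 2, 4⟩)) (.node 1 (.one ⟨2213, 2, 3⟩) (.one ⟨14233, 2, 4⟩))) (.node 2 (.node 1 (.one ⟨9903, 1, 2⟩) (.one ⟨5307, 2, 6⟩)) (.node 1 (.one ⟨9886, 1, 2⟩) (.one ⟨6857, 2, 5⟩)))))) (.node 16 (.node 8 (.node 4 (.node 2 (.node 1 (.one ⟨5260, 1, 4⟩) (.one ⟨13639, 0, 4⟩)) (.node 1 (.one ⟨6609, 2, 1⟩) (.one ⟨3630, 1, 4⟩))) (.node 2 (.node 1 (.one ⟨5788, 2, 1⟩) (.one ⟨6081, 2, 1⟩)) (.node 1 (.one ⟨11280, 0, 4⟩) (.one ⟨9047, 2, 3⟩)))) (.node 4 (.node 2 (.node 1 (.one ⟨10865, 2, 6⟩) (.one ⟨15927, 2, 6⟩)) (.node 1 (.one ⟨2443, 2, 4⟩) (.one ⟨14490, 2, 6⟩))) (.node 2 (.node 1 (.one ⟨3639, 2, 5⟩) (.one ⟨6713, 2, 4⟩)) (.node 1 (.one ⟨372, 0, 4⟩) (.one ⟨3916,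 2, 5⟩))))) (.node 8 (.node 4 (.node 2 (.node 1 (.one ⟨6519, 2, 2⟩) (.one ⟨3193, 2, 4⟩)) (.node 1 (.one ⟨9036, 2, 4⟩) (.one ⟨7025, 1, 2⟩))) (.node 2 (.node 1 (.one ⟨11273, 2, 4⟩) (.one ⟨14603, 2, 5⟩)) (.node 1 (.one ⟨11964, 2, 4⟩) (.one ⟨9324, 1, 2⟩)))) (.node 4 (.node 2 (.node 1 (.one ⟨306, 1, 0⟩) (.one ⟨11588, 1, 2⟩)) (.node 1 (.one ⟨4501, 1, 2⟩) (.one ⟨16438, 2, 5⟩))) (.node 2 (.node 1 (.one ⟨8735, 2, 5⟩) (.one ⟨460, 2, 5⟩)) (.node 1 (.one ⟨16435, 0, 4⟩) (.one ⟨4994, 0, 3⟩)))))))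
def par6_2_1 : Arr Par :=
  (.node 32 (.node 16 (.node 8 (.node 4 (.node 2 (.node 1 (.one ⟨11290, 0, 3⟩) (.one ⟨6527, 0, 4⟩)) (.node 1 (.one ⟨15773, 0, 4⟩) (.one ⟨16941, 0, 3⟩))) (.node 2 (.node 1 (.one ⟨17, 2, 6⟩) (.one ⟨2406, 2, 5⟩)) (.node 1 (.one ⟨2405, 2, 3⟩) (.one ⟨16362, 2, 4⟩)))) (.node 4 (.node 2 (.node 1 (.one ⟨5014, 2, 4⟩) (.one ⟨1573, 2, 3⟩)) (.node 1 (.one ⟨15351, 2, 3⟩) (.one ⟨12998, 2, 4⟩))) (.node 2 (.node 1 (.one ⟨3379, 0, 3⟩) (.one ⟨4197, 0, 4⟩)) (.node 1 (.one ⟨9667, 2, 4⟩) (.one ⟨86, 0, 1⟩))))) (.node 8 (.node 4 (.node 2 (.node 1 (.one ⟨3122, 2, 5⟩) (.one ⟨16253, 1, 1⟩)) (.node 1 (.one ⟨1365, 1, 1⟩) (.one ⟨9302, 1, 1⟩))) (.node 2 (.node 1 (.one ⟨15209, 2, 4⟩) (.one ⟨13750, 2, 5⟩)) (.node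 1 (.one ⟨85, 0, 1⟩) (.one ⟨8113, 2, 3⟩)))) (.node 4 (.node 2 (.node 1 (.one ⟨2965, 2, 5⟩) (.one ⟨6127, 1, 1⟩)) (.node 1 (.one ⟨4068, 0, 4⟩) (.one ⟨4037, 2, 5⟩))) (.node 2 (.node 1 (.one ⟨6909, 2, 2⟩) (.one ⟨11839, 2, 4⟩)) (.node 1 (.one ⟨15355, 2, 4⟩) (.one ⟨6861, 2, 5⟩)))))) (.node 16 (.node 8 (.node 4 (.node 2 (.node 1 (.one ⟨7360, 0, 2⟩) (.one ⟨11292, 0, 2⟩)) (.node 1 (.one ⟨682, 2, 4⟩) (.one ⟨2699, 2, 3⟩))) (.node 2 (.node 1 (.one ⟨11284, 0, 2⟩) (.one ⟨7368, 0, 4⟩)) (.node 1 (.one ⟨7436, 2, 4⟩) (.one ⟨9411, 2, 4⟩)))) (.node 4 (.node 2 (.node 1 (.one ⟨2741, 2, 4⟩) (.one ⟨10844, 2, 6⟩)) (.node 1 (.one ⟨983, 2, 6⟩) (.one ⟨7984, 2, 2⟩))) (.node 2 (.node 1 (.one ⟨10314, 0, 1⟩) (.one ⟨752, 0, 4⟩)) (.node 1 (.one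 ⟨16082, 2, 4⟩) (.one ⟨11295, 2, 3⟩))))) (.node 8 (.node 4 (.node 2 (.node 1 (.one ⟨8587, 0, 3⟩) (.one ⟨8841, 2, 4⟩)) (.node 1 (.one ⟨15666, 2, 2⟩) (.one ⟨4755, 2, 4⟩))) (.node 2 (.node 1 (.one ⟨2678, 0, 3⟩) (.one ⟨14696, 2, 5⟩)) (.node 1 (.one ⟨11950, 0, 3⟩) (.one ⟨8255, 0, 5⟩)))) (.node 4 (.node 2 (.node 1 (.one ⟨14808, 2, 4⟩) (.one ⟨15358, 2, 3⟩)) (.node 1 (.one ⟨10043, 2, 4⟩) (.one ⟨11156, 1, 3⟩))) (.node 2 (.node 1 (.one ⟨14820, 2, 4⟩) (.one ⟨11891, 0, 3⟩)) (.node 1 (.one ⟨10051, 2, 3⟩) (.one ⟨13069, 0, 2⟩)))))))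
def par6_2_2 : Arr Par :=
  (.node 32 (.node 16 (.node 8 (.node 4 (.node 2 (.node 1 (.one ⟨11928, 0, 2⟩) (.one ⟨11254, 2, 4⟩)) (.node 1 (.one ⟨1361, 2, 3⟩) (.one ⟨10985, 0, 2⟩))) (.node 2 (.node 1 (.one ⟨10195, 0, 4⟩) (.one ⟨2435, 1, 2⟩)) (.node 1 (.one ⟨11258, 0, 2⟩) (.one ⟨4232, 1, 1⟩)))) (.node 4 (.node 2 (.node 1 (.one ⟨12733, 2, 4⟩) (.one ⟨4977, 2, 4⟩)) (.node 1 (.one ⟨9292, 0, 1⟩) (.one ⟨8417, 2, 4⟩))) (.node 2 (.node 1 (.one ⟨2974, 0, 2⟩) (.one ⟨11538, 0, 4⟩)) (.node 1 (.one ⟨16670, 2, 4⟩) (.one ⟨2124, 2, 4⟩))))) (.node 8 (.node 4 (.node 2 (.node 1 (.one ⟨5893, 2, 4⟩) (.one ⟨13814, 2, 4⟩)) (.node 1 (.one ⟨10059, 2, 4⟩) (.one ⟨2616, 2, 4⟩))) (.node 2 (.node 1 (.one ⟨6362, 2, 5⟩) (.one ⟨14489, 2, 6⟩))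 (.node 1 (.one ⟨13033, 0, 2⟩) (.one ⟨2105, 2, 3⟩)))) (.node 4 (.node 2 (.node 1 (.one ⟨15939, 2, 2⟩) (.one ⟨15798, 2, 3⟩)) (.node 1 (.one ⟨283, 2, 4⟩) (.one ⟨16089, 2, 4⟩))) (.node 2 (.node 1 (.one ⟨1884, 2, 2⟩) (.one ⟨1821, 2, 5⟩)) (.node 1 (.one ⟨15774, 2, 3⟩) (.one ⟨4210, 1, 0⟩)))))) (.node 16 (.node 8 (.node 4 (.node 2 (.node 1 (.one ⟨9351, 0, 1⟩) (.one ⟨7461, 2, 3⟩)) (.node 1 (.one ⟨2749, 1, 5⟩) (.one ⟨2591, 1, 2⟩))) (.node 2 (.node 1 (.one ⟨5657, 0, 2⟩) (.one ⟨5722, 0, 2⟩)) (.node 1 (.one ⟨5303, 2, 4⟩) (.one ⟨169, 1, 0⟩)))) (.node 4 (.node 2 (.node 1 (.one ⟨1799, 0, 1⟩) (.one ⟨13627, 2, 4⟩)) (.node 1 (.one ⟨7697, 0, 1⟩) (.one ⟨15354, 2, 3⟩))) (.node 2 (.node 1 (.one ⟨10882, 2, 3⟩) (.one ⟨6924, 2, 3⟩))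 (.node 1 (.one ⟨3396, 2, 3⟩) (.one ⟨8169, 0, 1⟩))))) (.node 8 (.node 4 (.node 2 (.node 1 (.one ⟨2483, 2, 3⟩) (.one ⟨166, 1, 0⟩)) (.node 1 (.one ⟨9217, 2, 3⟩) (.one ⟨4096, 2, 3⟩))) (.node 2 (.node 1 (.one ⟨8842, 0, 1⟩) (.one ⟨11899, 2, 3⟩)) (.node 1 (.one ⟨3287, 0, 1⟩) (.one ⟨2524, 2, 4⟩)))) (.node 4 (.node 2 (.node 1 (.one ⟨6027, 2, 4⟩) (.one ⟨16760, 2, 4⟩)) (.node 1 (.one ⟨6562, 0, 3⟩) (.one ⟨9780, 2, 4⟩))) (.node 2 (.node 1 (.one ⟨14444, 2, 4⟩) (.one ⟨8801, 2, 4⟩)) (.node 1 (.one ⟨4593, 2, 4⟩) (.one ⟨3585, 1, 1⟩)))))))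
def par6_2_3 : Arr Par :=
  (.node 32 (.node 16 (.node 8 (.node 4 (.node 2 (.node 1 (.one ⟨2489, 0, 3⟩) (.one ⟨10110, 0, 4⟩)) (.node 1 (.one ⟨14686, 2, 5⟩) (.one ⟨9083, 2, 6⟩))) (.node 2 (.node 1 (.one ⟨4975, 2, 5⟩) (.one ⟨4364, 2, 5⟩)) (.node 1 (.one ⟨12967, 0, 4⟩) (.one ⟨1434, 0, 3⟩)))) (.node 4 (.node 2 (.node 1 (.one ⟨9023, 2, 5⟩) (.one ⟨1995, 0, 4⟩)) (.node 1 (.one ⟨12412, 2, 5⟩) (.one ⟨14759, 2, 3⟩))) (.node 2 (.node 1 (.one ⟨1632, 2, 5⟩) (.one ⟨728, 2, 4⟩)) (.node 1 (.one ⟨14684, 2, 5⟩) (.one ⟨6178, 2, 2⟩))))) (.node 8 (.node 4 (.node 2 (.node 1 (.one ⟨10203, 2, 4⟩) (.one ⟨7447, 0, 4⟩)) (.node 1 (.one ⟨15081, 2, 5⟩) (.one ⟨13004, 2, 4⟩))) (.node 2 (.node 1 (.one ⟨15487, 0, 4⟩) (.one ⟨16033, 2, 4⟩)) (.node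 1 (.one ⟨15479, 0, 2⟩) (.one ⟨16359, 2, 4⟩)))) (.node 4 (.node 2 (.node 1 (.one ⟨16325, 2, 3⟩) (.one ⟨1391, 1, 1⟩)) (.node 1 (.one ⟨8291, 2, 5⟩) (.one ⟨9499, 2, 3⟩))) (.node 2 (.node 1 (.one ⟨9297, 2, 4⟩) (.one ⟨1214, 2, 4⟩)) (.node 1 (.one ⟨1551, 2, 4⟩) (.one ⟨14913, 2, 5⟩)))))) (.node 16 (.node 8 (.node 4 (.node 2 (.node 1 (.one ⟨17114, 2, 3⟩) (.one ⟨12333, 2, 6⟩)) (.node 1 (.one ⟨9922, 2, 6⟩) (.one ⟨16819, 2, 2⟩))) (.node 2 (.node 1 (.one ⟨14681, 2, 5⟩) (.one ⟨9584, 2, 5⟩)) (.node 1 (.one ⟨11972, 2, 2⟩) (.one ⟨14766, 2, 4⟩)))) (.node 4 (.node 2 (.node 1 (.one ⟨6424, 0, 5⟩) (.one ⟨10916, 2, 4⟩)) (.node 1 (.one ⟨10839, 2, 6⟩) (.one ⟨10287, 2, 3⟩))) (.node 2 (.node 1 (.one ⟨10380, 2, 4⟩) (.one ⟨905, 0, 4⟩))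 (.node 1 (.one ⟨14473, 2, 6⟩) (.one ⟨6489, 2, 3⟩))))) (.node 8 (.node 4 (.node 2 (.node 1 (.one ⟨8754, 0, 4⟩) (.one ⟨16409, 0, 3⟩)) (.node 1 (.one ⟨15807, 0, 3⟩) (.one ⟨11099, 2, 3⟩))) (.node 2 (.node 1 (.one ⟨6208, 0, 3⟩) (.one ⟨13301, 2, 5⟩)) (.node 1 (.one ⟨14770, 0, 3⟩) (.one ⟨5688, 2, 3⟩)))) (.node 4 (.node 2 (.node 1 (.one ⟨697, 2, 5⟩) (.one ⟨218, 2, 4⟩)) (.node 1 (.one ⟨5691, 2, 3⟩) (.one ⟨1650, 1, 2⟩))) (.node 2 (.node 1 (.one ⟨5689, 2, 3⟩) (.one ⟨5694, 2, 3⟩)) (.node 1 (.one ⟨474, 2, 5⟩) (.one ⟨11711, 0, 4⟩)))))))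
def par6_2_4 : Arr Par :=
  (.node 32 (.node 16 (.node 8 (.node 4 (.node 2 (.node 1 (.one ⟨5682, 2, 3⟩) (.one ⟨8949, 2, 4⟩)) (.node 1 (.one ⟨8355, 2, 5⟩) (.one ⟨3955, 0, 4⟩))) (.node 2 (.node 1 (.one ⟨4021, 0, 4⟩) (.one ⟨12595, 2, 4⟩)) (.node 1 (.one ⟨7, 0, 1⟩) (.one ⟨8305, 1, 1⟩)))) (.node 4 (.node 2 (.node 1 (.one ⟨10313, 1, 1⟩) (.one ⟨11917, 1, 4⟩)) (.node 1 (.one ⟨489, 2, 4⟩) (.one ⟨2719, 0, 3⟩))) (.node 2 (.node 1 (.one ⟨14488, 1, 4⟩) (.one ⟨2703, 0, 4⟩)) (.node 1 (.one ⟨10735, 0, 4⟩) (.one ⟨5589, 2, 4⟩))))) (.node 8 (.node 4 (.node 2 (.node 1 (.one ⟨5679, 0, 1⟩) (.one ⟨3762, 2, 4⟩)) (.node 1 (.one ⟨6369, 2, 4⟩) (.one ⟨7688, 2, 5⟩))) (.node 2 (.node 1 (.one ⟨2570, 2, 4⟩) (.one ⟨2221, 2, 4⟩)) (.node 1 (.one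 ⟨8188, 2, 6⟩) (.one ⟨8385, 0, 5⟩)))) (.node 4 (.node 2 (.node 1 (.one ⟨4103, 0, 2⟩) (.one ⟨16051, 0, 2⟩)) (.node 1 (.one ⟨10846, 2, 4⟩) (.one ⟨13136, 2, 3⟩))) (.node 2 (.node 1 (.one ⟨4053, 2, 5⟩) (.one ⟨12229, 2, 5⟩)) (.node 1 (.one ⟨14305, 1, 1⟩) (.one ⟨8834, 1, 1⟩)))))) (.node 16 (.node 8 (.node 4 (.node 2 (.node 1 (.one ⟨8658, 0, 2⟩) (.one ⟨12974, 0, 3⟩)) (.node 1 (.one ⟨7194, 2, 6⟩) (.one ⟨8946, 2, 3⟩))) (.node 2 (.node 1 (.one ⟨2409, 2, 3⟩) (.one ⟨13138, 0, 5⟩)) (.node 1 (.one ⟨14982, 2, 5⟩) (.one ⟨13220, 2, 2⟩)))) (.node 4 (.node 2 (.node 1 (.one ⟨7716, 2, 4⟩) (.one ⟨3991, 0, 4⟩)) (.node 1 (.one ⟨16468, 0, 2⟩) (.one ⟨15158, 2, 4⟩))) (.node 2 (.node 1 (.one ⟨5888, 0, 2⟩) (.one ⟨13369, 2, 6⟩)) (.node 1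 (.one ⟨15384, 0, 4⟩) (.one ⟨13, 2, 1⟩))))) (.node 8 (.node 4 (.node 2 (.node 1 (.one ⟨9128, 0, 3⟩) (.one ⟨2864, 0, 4⟩)) (.node 1 (.one ⟨7169, 0, 4⟩) (.one ⟨892, 2, 5⟩))) (.node 2 (.node 1 (.one ⟨12635, 0, 3⟩) (.one ⟨15365, 0, 4⟩)) (.node 1 (.one ⟨11004, 0, 4⟩) (.one ⟨1759, 0, 2⟩)))) (.node 4 (.node 2 (.node 1 (.one ⟨1022, 2, 5⟩) (.one ⟨4015, 2, 5⟩)) (.node 1 (.one ⟨15412, 0, 3⟩) (.one ⟨9161, 2, 3⟩))) (.node 2 (.node 1 (.one ⟨1794, 0, 2⟩) (.one ⟨12246, 2, 4⟩)) (.node 1 (.one ⟨7217, 0, 2⟩) (.one ⟨14514, 2, 3⟩)))))))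
def par6_2_5 : Arr Par :=
  (.node 32 (.node 16 (.node 8 (.node 4 (.node 2 (.node 1 (.one ⟨5466, 0, 3⟩) (.one ⟨5659, 2, 4⟩)) (.node 1 (.one ⟨11003, 2, 3⟩) (.one ⟨8264, 0, 4⟩))) (.node 2 (.node 1 (.one ⟨9486, 1, 1⟩) (.one ⟨10623, 2, 3⟩)) (.node 1 (.one ⟨7216, 2, 4⟩) (.one ⟨7, 1, 1⟩)))) (.node 4 (.node 2 (.node 1 (.one ⟨8949, 0, 4⟩) (.one ⟨11933, 0, 5⟩)) (.node 1 (.one ⟨16198, 2, 5⟩) (.one ⟨15422, 2, 2⟩))) (.node 2 (.node 1 (.one ⟨7057, 2, 5⟩) (.one ⟨17081, 2, 5⟩)) (.node 1 (.one ⟨12595, 0, 4⟩) (.one ⟨6520, 2, 3⟩))))) (.node 8 (.node 4 (.node 2 (.node 1 (.one ⟨4232, 0, 1⟩) (.one ⟨7473, 0, 1⟩)) (.node 1 (.one ⟨7157, 0, 1⟩) (.one ⟨4369, 2, 3⟩))) (.node 2 (.node 1 (.one ⟨8057, 2, 3⟩) (.one ⟨14554, 2, 3⟩)) (.node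 1 (.one ⟨10066, 2, 3⟩) (.one ⟨13845, 0, 2⟩)))) (.node 4 (.node 2 (.node 1 (.one ⟨11601, 2, 4⟩) (.one ⟨6310, 0, 2⟩)) (.node 1 (.one ⟨1549, 1, 1⟩) (.one ⟨10483, 0, 2⟩))) (.node 2 (.node 1 (.one ⟨12557, 2, 4⟩) (.one ⟨1383, 0, 1⟩)) (.node 1 (.one ⟨4064, 2, 4⟩) (.one ⟨2390, 0, 4⟩)))))) (.node 16 (.node 8 (.node 4 (.node 2 (.node 1 (.one ⟨14226, 0, 4⟩) (.one ⟨4655, 2, 5⟩)) (.node 1 (.one ⟨11437, 2, 5⟩) (.one ⟨15479, 2, 2⟩))) (.node 2 (.node 1 (.one ⟨10772, 0, 4⟩) (.one ⟨5672, 2, 2⟩)) (.node 1 (.one ⟨16190, 2, 4⟩) (.one ⟨7431, 0, 4⟩)))) (.node 4 (.node 2 (.node 1 (.one ⟨8661, 0, 2⟩) (.one ⟨7598, 0, 2⟩)) (.node 1 (.one ⟨8370, 0, 4⟩) (.one ⟨11727, 2, 5⟩))) (.node 2 (.node 1 (.one ⟨14794, 2, 3⟩) (.one ⟨11331, 2, 3⟩))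 (.node 1 (.one ⟨16349, 2, 3⟩) (.one ⟨2446, 2, 3⟩))))) (.node 8 (.node 4 (.node 2 (.node 1 (.one ⟨14752, 2, 4⟩) (.one ⟨13757, 2, 5⟩)) (.node 1 (.one ⟨3208, 2, 3⟩) (.one ⟨5640, 2, 3⟩))) (.node 2 (.node 1 (.one ⟨17185, 0, 3⟩) (.one ⟨10400, 2, 5⟩)) (.node 1 (.one ⟨6790, 2, 3⟩) (.one ⟨5751, 0, 1⟩)))) (.node 4 (.node 2 (.node 1 (.one ⟨5790, 0, 4⟩) (.one ⟨3765, 2, 1⟩)) (.node 1 (.one ⟨8828, 2, 3⟩) (.one ⟨13992, 0, 4⟩))) (.node 2 (.node 1 (.one ⟨176, 1, 4⟩) (.one ⟨10933, 2, 3⟩)) (.node 1 (.one ⟨9678, 0, 2⟩) (.one ⟨5325, 2, 4⟩)))))))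
def par6_2_6 : Arr Par :=
  (.node 32 (.node 16 (.node 8 (.node 4 (.node 2 (.node 1 (.one ⟨8288, 0, 2⟩) (.one ⟨5698, 2, 4⟩)) (.node 1 (.one ⟨16304, 0, 2⟩) (.one ⟨9556, 0, 1⟩))) (.node 2 (.node 1 (.one ⟨5177, 0, 5⟩) (.one ⟨17144, 2, 3⟩)) (.node 1 (.one ⟨13336, 0, 2⟩) (.one ⟨12150, 0, 2⟩)))) (.node 4 (.node 2 (.node 1 (.one ⟨16, 0, 3⟩) (.one ⟨12146, 0, 2⟩)) (.node 1 (.one ⟨667, 0, 3⟩) (.one ⟨91, 0, 3⟩))) (.node 2 (.node 1 (.one ⟨12149, 0, 2⟩) (.one ⟨682, 0, 4⟩)) (.node 1 (.one ⟨12145, 0, 2⟩) (.one ⟨7283, 2, 2⟩))))) (.node 8 (.node 4 (.node 2 (.node 1 (.one ⟨4559, 0, 4⟩) (.one ⟨5624, 2, 3⟩)) (.node 1 (.one ⟨4149, 2, 5⟩) (.one ⟨5556, 2, 6⟩))) (.node 2 (.node 1 (.one ⟨4280, 2, 5⟩) (.one ⟨1686, 0, 4⟩)) (.node 1 (.one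 ⟨5013, 2, 4⟩) (.one ⟨3867, 2, 5⟩)))) (.node 4 (.node 2 (.node 1 (.one ⟨13089, 2, 5⟩) (.one ⟨3189, 2, 6⟩)) (.node 1 (.one ⟨11856, 0, 2⟩) (.one ⟨10876, 2, 4⟩))) (.node 2 (.node 1 (.one ⟨545, 2, 2⟩) (.one ⟨13945, 0, 3⟩)) (.node 1 (.one ⟨5536, 2, 5⟩) (.one ⟨4154, 1, 0⟩)))))) (.node 16 (.node 8 (.node 4 (.node 2 (.node 1 (.one ⟨5477, 2, 4⟩) (.one ⟨6973, 0, 4⟩)) (.node 1 (.one ⟨6655, 0, 4⟩) (.one ⟨9639, 2, 6⟩))) (.node 2 (.node 1 (.one ⟨5292, 2, 4⟩) (.one ⟨5323, 2, 4⟩)) (.node 1 (.one ⟨10054, 2, 5⟩) (.one ⟨12505, 0, 4⟩)))) (.node 4 (.node 2 (.node 1 (.one ⟨3689, 0, 4⟩) (.one ⟨1205, 2, 3⟩)) (.node 1 (.one ⟨7808, 2, 4⟩) (.one ⟨12062, 0, 4⟩))) (.node 2 (.node 1 (.one ⟨2106, 2, 3⟩) (.one ⟨12058, 2, 4⟩)) (.node 1 (.one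 ⟨14468, 2, 4⟩) (.one ⟨7801, 2, 5⟩))))) (.node 8 (.node 4 (.node 2 (.node 1 (.one ⟨789, 2, 4⟩) (.one ⟨7881, 2, 5⟩)) (.node 1 (.one ⟨2166, 2, 4⟩) (.one ⟨9229, 0, 2⟩))) (.node 2 (.node 1 (.one ⟨6555, 0, 3⟩) (.one ⟨4687, 0, 4⟩)) (.node 1 (.one ⟨15590, 2, 5⟩) (.one ⟨8490, 2, 5⟩)))) (.node 4 (.node 2 (.node 1 (.one ⟨8693, 2, 1⟩) (.one ⟨16075, 2, 2⟩)) (.node 1 (.one ⟨15695, 2, 5⟩) (.one ⟨3137, 0, 4⟩))) (.node 2 (.node 1 (.one ⟨14859, 2, 3⟩) (.one ⟨5917, 2, 4⟩)) (.node 1 (.one ⟨5952, 2, 4⟩) (.one ⟨6274, 0, 3⟩)))))))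
def par6_2_7 : Arr Par :=
  (.node 32 (.node 16 (.node 8 (.node 4 (.node 2 (.node 1 (.one ⟨6201, 2, 5⟩) (.one ⟨10113, 1, 2⟩)) (.node 1 (.one ⟨12007, 0, 3⟩) (.one ⟨9982, 0, 3⟩))) (.node 2 (.node 1 (.one ⟨10989, 0, 4⟩) (.one ⟨8582, 0, 4⟩)) (.node 1 (.one ⟨4, 2, 6⟩) (.one ⟨13508, 2, 5⟩)))) (.node 4 (.node 2 (.node 1 (.one ⟨15615, 0, 4⟩) (.one ⟨6999, 0, 3⟩)) (.node 1 (.one ⟨15418, 0, 4⟩) (.one ⟨2362, 0, 4⟩))) (.node 2 (.node 1 (.one ⟨13743, 1, 3⟩) (.one ⟨2537, 0, 2⟩)) (.node 1 (.one ⟨13579, 2, 3⟩) (.one ⟨1941, 2, 4⟩))))) (.node 8 (.node 4 (.node 2 (.node 1 (.one ⟨17191, 2, 4⟩) (.one ⟨148, 2, 4⟩)) (.node 1 (.one ⟨1431, 0, 1⟩) (.one ⟨14409, 0, 1⟩))) (.node 2 (.node 1 (.one ⟨6525, 2, 4⟩) (.one ⟨12702, 2, 4⟩)) (.node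 1 (.one ⟨6261, 2, 4⟩) (.one ⟨17034, 2, 3⟩)))) (.node 4 (.node 2 (.node 1 (.one ⟨15415, 0, 2⟩) (.one ⟨16841, 2, 4⟩)) (.node 1 (.one ⟨1558, 2, 3⟩) (.one ⟨5318, 2, 5⟩))) (.node 2 (.node 1 (.one ⟨14119, 2, 3⟩) (.one ⟨6713, 0, 4⟩)) (.node 1 (.one ⟨14169, 2, 5⟩) (.one ⟨12439, 2, 5⟩)))))) (.node 16 (.node 8 (.node 4 (.node 2 (.node 1 (.one ⟨513, 2, 4⟩) (.one ⟨13337, 2, 5⟩)) (.node 1 (.one ⟨3001, 2, 5⟩) (.one ⟨2996, 0, 4⟩))) (.node 2 (.node 1 (.one ⟨3766, 0, 2⟩) (.one ⟨16991, 2, 3⟩)) (.node 1 (.one ⟨7033, 2, 3⟩) (.one ⟨15420, 0, 2⟩)))) (.node 4 (.node 2 (.node 1 (.one ⟨11432, 0, 5⟩) (.one ⟨2653, 1, 1⟩)) (.node 1 (.one ⟨13653, 0, 2⟩) (.one ⟨1766, 0, 2⟩))) (.node 2 (.node 1 (.one ⟨14902, 2, 4⟩) (.one ⟨7175, 0, 4⟩)) (.node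 1 (.one ⟨3145, 0, 2⟩) (.one ⟨8449, 0, 4⟩))))) (.node 8 (.node 4 (.node 2 (.node 1 (.one ⟨7708, 2, 4⟩) (.one ⟨4849, 2, 5⟩)) (.node 1 (.one ⟨5642, 2, 4⟩) (.one ⟨10050, 2, 4⟩))) (.node 2 (.node 1 (.one ⟨16604, 2, 4⟩) (.one ⟨11946, 2, 4⟩)) (.node 1 (.one ⟨14961, 2, 4⟩) (.one ⟨16355, 2, 2⟩)))) (.node 4 (.node 2 (.node 1 (.one ⟨4315, 1, 4⟩) (.one ⟨5618, 2, 5⟩)) (.node 1 (.one ⟨14813, 1, 4⟩) (.one ⟨14425, 1, 5⟩))) (.node 2 (.node 1 (.one ⟨13540, 1, 4⟩) (.one ⟨5016, 1, 4⟩)) (.node 1 (.one ⟨3663, 2, 3⟩) (.one ⟨6337, 1, 5⟩)))))))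
def par6_2_8 : Arr Par :=
  (.node 32 (.node 16 (.node 8 (.node 4 (.node 2 (.node 1 (.one ⟨13776, 1, 5⟩) (.one ⟨1503, 2, 4⟩)) (.node 1 (.one ⟨12399, 2, 4⟩) (.one ⟨9655, 2, 4⟩))) (.node 2 (.node 1 (.one ⟨2104, 0, 1⟩) (.one ⟨10301, 1, 5⟩)) (.node 1 (.one ⟨925, 1, 5⟩) (.one ⟨4513, 0, 1⟩)))) (.node 4 (.node 2 (.node 1 (.one ⟨4049, 0, 1⟩) (.one ⟨11188, 2, 3⟩)) (.node 1 (.one ⟨14885, 2, 3⟩) (.one ⟨5106, 0, 1⟩))) (.node 2 (.node 1 (.one ⟨5368, 0, 1⟩) (.one ⟨16600, 2, 3⟩)) (.node 1 (.one ⟨13528, 2, 3⟩) (.one ⟨10606, 2, 6⟩))))) (.node 8 (.node 4 (.node 2 (.node 1 (.one ⟨3984, 2, 4⟩) (.one ⟨11731, 2, 4⟩)) (.node 1 (.one ⟨11633, 0, 3⟩) (.one ⟨3201, 2, 4⟩))) (.node 2 (.node 1 (.one ⟨13452, 2, 3⟩) (.one ⟨3745, 1, 5⟩)) (.node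 1 (.one ⟨10956, 2, 4⟩) (.one ⟨2103, 2, 3⟩)))) (.node 4 (.node 2 (.node 1 (.one ⟨11686, 2, 3⟩) (.one ⟨11621, 2, 5⟩)) (.node 1 (.one ⟨1992, 2, 4⟩) (.one ⟨426, 2, 4⟩))) (.node 2 (.node 1 (.one ⟨11755, 2, 3⟩) (.one ⟨11819, 2, 5⟩)) (.node 1 (.one ⟨1601, 2, 3⟩) (.one ⟨9555, 0, 1⟩)))))) (.node 16 (.node 8 (.node 4 (.node 2 (.node 1 (.one ⟨15112, 0, 1⟩) (.one ⟨3401, 2, 2⟩)) (.node 1 (.one ⟨14799, 2, 4⟩) (.one ⟨7556, 0, 1⟩))) (.node 2 (.node 1 (.one ⟨2463, 0, 1⟩) (.one ⟨6979, 2, 6⟩)) (.node 1 (.one ⟨11365, 2, 4⟩) (.one ⟨9096, 0, 3⟩)))) (.node 4 (.node 2 (.node 1 (.one ⟨11875, 0, 4⟩) (.one ⟨4214, 2, 4⟩)) (.node 1 (.one ⟨3160, 0, 2⟩) (.one ⟨1208, 0, 1⟩))) (.node 2 (.node 1 (.one ⟨16660, 2, 5⟩) (.one ⟨13526, 0, 4⟩)) (.node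 1 (.one ⟨4887, 2, 5⟩) (.one ⟨627, 0, 4⟩))))) (.node 8 (.node 4 (.node 2 (.node 1 (.one ⟨8083, 0, 3⟩) (.one ⟨1445, 2, 6⟩)) (.node 1 (.one ⟨15502, 2, 6⟩) (.one ⟨16639, 2, 3⟩))) (.node 2 (.node 1 (.one ⟨12339, 0, 4⟩) (.one ⟨9894, 2, 6⟩)) (.node 1 (.one ⟨7150, 2, 6⟩) (.one ⟨14095, 2, 3⟩)))) (.node 4 (.node 2 (.node 1 (.one ⟨5931, 1, 3⟩) (.one ⟨10083, 0, 4⟩)) (.node 1 (.one ⟨14692, 2, 3⟩) (.one ⟨1995, 1, 4⟩))) (.node 2 (.node 1 (.one ⟨679, 2, 4⟩) (.one ⟨2929, 2, 1⟩)) (.node 1 (.one ⟨1721, 0, 4⟩) (.one ⟨17074, 2, 5⟩)))))))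
def par6_2_9 : Arr Par :=
  (.node 32 (.node 16 (.node 8 (.node 4 (.node 2 (.node 1 (.one ⟨12238, 2, 3⟩) (.one ⟨6590, 2, 3⟩)) (.node 1 (.one ⟨12930, 0, 4⟩) (.one ⟨8080, 0, 4⟩))) (.node 2 (.node 1 (.one ⟨15017, 0, 5⟩) (.one ⟨14918, 2, 2⟩)) (.node 1 (.one ⟨9911, 2, 2⟩) (.one ⟨12891, 2, 4⟩)))) (.node 4 (.node 2 (.node 1 (.one ⟨15056, 2, 4⟩) (.one ⟨11554, 2, 4⟩)) (.node 1 (.one ⟨17069, 2, 5⟩) (.one ⟨4262, 2, 4⟩))) (.node 2 (.node 1 (.one ⟨943, 0, 3⟩) (.one ⟨1656, 2, 4⟩)) (.node 1 (.one ⟨2188, 1, 0⟩) (.one ⟨8169, 1, 1⟩))))) (.node 8 (.node 4 (.node 2 (.node 1 (.one ⟨9215, 2, 6⟩) (.one ⟨4602, 0, 4⟩)) (.node 1 (.one ⟨15730, 0, 4⟩) (.one ⟨15721, 0, 2⟩))) (.node 2 (.node 1 (.one ⟨6686, 2, 2⟩) (.one ⟨5911, 2, 4⟩)) (.node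 1 (.one ⟨7054, 2, 4⟩) (.one ⟨3454, 0, 2⟩)))) (.node 4 (.node 2 (.node 1 (.one ⟨15418, 2, 4⟩) (.one ⟨13247, 2, 4⟩)) (.node 1 (.one ⟨6607, 2, 5⟩) (.one ⟨7665, 2, 5⟩))) (.node 2 (.node 1 (.one ⟨10498, 2, 3⟩) (.one ⟨4765, 1, 0⟩)) (.node 1 (.one ⟨929, 1, 4⟩) (.one ⟨10389, 1, 5⟩)))))) (.node 16 (.node 8 (.node 4 (.node 2 (.node 1 (.one ⟨5711, 2, 4⟩) (.one ⟨896, 1, 5⟩)) (.node 1 (.one ⟨5943, 0, 1⟩) (.one ⟨6352, 2, 4⟩))) (.node 2 (.node 1 (.one ⟨6945, 0, 5⟩) (.one ⟨13951, 2, 4⟩)) (.node 1 (.one ⟨15617, 0, 5⟩) (.one ⟨11132, 0, 4⟩)))) (.node 4 (.node 2 (.node 1 (.one ⟨16069, 2, 5⟩) (.one ⟨12107, 0, 4⟩)) (.node 1 (.one ⟨1226, 2, 1⟩) (.one ⟨5482, 2, 5⟩))) (.node 2 (.node 1 (.one ⟨14845, 2, 3⟩) (.one ⟨10762, 1, 1⟩)) (.node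 1 (.one ⟨4957, 2, 4⟩) (.one ⟨12198, 2, 4⟩))))) (.node 8 (.node 4 (.node 2 (.node 1 (.one ⟨16325, 1, 3⟩) (.one ⟨1880, 2, 4⟩)) (.node 1 (.one ⟨11460, 2, 4⟩) (.one ⟨12543, 2, 5⟩))) (.node 2 (.node 1 (.one ⟨5020, 2, 4⟩) (.one ⟨981, 2, 4⟩)) (.node 1 (.one ⟨11430, 2, 2⟩) (.one ⟨1449, 1, 1⟩)))) (.node 4 (.node 2 (.node 1 (.one ⟨4988, 2, 5⟩) (.one ⟨2429, 2, 4⟩)) (.node 1 (.one ⟨9565, 1, 1⟩) (.one ⟨601, 1, 1⟩))) (.node 2 (.node 1 (.one ⟨6805, 2, 4⟩) (.one ⟨8331, 2, 4⟩)) (.node 1 (.one ⟨13799, 2, 3⟩) (.one ⟨11642, 2, 3⟩)))))))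
def par6_2_10 : Arr Par :=
  (.node 32 (.node 16 (.node 8 (.node 4 (.node 2 (.node 1 (.one ⟨14255, 0, 3⟩) (.one ⟨7107, 2, 6⟩)) (.node 1 (.one ⟨8924, 2, 3⟩) (.one ⟨2499, 2, 4⟩))) (.node 2 (.node 1 (.one ⟨4508, 2, 2⟩) (.one ⟨11056, 1, 4⟩)) (.node 1 (.one ⟨14980, 2, 3⟩) (.one ⟨262, 2, 1⟩)))) (.node 4 (.node 2 (.node 1 (.one ⟨5984, 2, 5⟩) (.one ⟨6961, 2, 3⟩)) (.node 1 (.one ⟨2818, 2, 4⟩) (.one ⟨6639, 2, 2⟩))) (.node 2 (.node 1 (.one ⟨2890, 2, 4⟩) (.one ⟨2098, 2, 5⟩)) (.node 1 (.one ⟨5712, 2, 2⟩) (.one ⟨412, 2, 3⟩))))) (.node 8 (.node 4 (.node 2 (.node 1 (.one ⟨784, 2, 4⟩) (.one ⟨382, 2, 3⟩)) (.node 1 (.one ⟨753, 2, 3⟩) (.one ⟨10084, 0, 4⟩))) (.node 2 (.node 1 (.one ⟨9747, 2, 4⟩) (.one ⟨9746, 2, 4⟩)) (.node 1 (.one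 ⟨2936, 0, 3⟩) (.one ⟨12804, 0, 4⟩)))) (.node 4 (.node 2 (.node 1 (.one ⟨7951, 0, 4⟩) (.one ⟨14966, 0, 5⟩)) (.node 1 (.one ⟨344, 0, 4⟩) (.one ⟨3664, 1, 1⟩))) (.node 2 (.node 1 (.one ⟨15076, 0, 2⟩) (.one ⟨4263, 2, 2⟩)) (.node 1 (.one ⟨12926, 0, 4⟩) (.one ⟨16309, 2, 2⟩)))))) (.node 16 (.node 8 (.node 4 (.node 2 (.node 1 (.one ⟨4282, 2, 2⟩) (.one ⟨5003, 2, 2⟩)) (.node 1 (.one ⟨16617, 2, 2⟩) (.one ⟨12800, 0, 2⟩))) (.node 2 (.node 1 (.one ⟨7318, 2, 3⟩) (.one ⟨12682, 1, 4⟩)) (.node 1 (.one ⟨15073, 0, 4⟩) (.one ⟨8305, 0, 1⟩)))) (.node 4 (.node 2 (.node 1 (.one ⟨119, 0, 0⟩) (.one ⟨8994, 0, 1⟩)) (.node 1 (.one ⟨3192, 0, 1⟩) (.one ⟨13151, 2, 3⟩))) (.node 2 (.node 1 (.one ⟨5032, 2, 3⟩) (.one ⟨14974, 2, 3⟩)) (.node 1 (.one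 ⟨7298, 2, 3⟩) (.one ⟨9236, 2, 5⟩))))) (.node 8 (.node 4 (.node 2 (.node 1 (.one ⟨9533, 2, 5⟩) (.one ⟨6510, 2, 4⟩)) (.node 1 (.one ⟨5198, 0, 3⟩) (.one ⟨6500, 2, 3⟩))) (.node 2 (.node 1 (.one ⟨6467, 2, 4⟩) (.one ⟨9345, 2, 3⟩)) (.node 1 (.one ⟨9592, 2, 5⟩) (.one ⟨2780, 2, 5⟩)))) (.node 4 (.node 2 (.node 1 (.one ⟨2424, 0, 5⟩) (.one ⟨1047, 0, 4⟩)) (.node 1 (.one ⟨1187, 0, 1⟩) (.one ⟨16747, 1, 3⟩))) (.node 2 (.node 1 (.one ⟨5310, 2, 2⟩) (.one ⟨1880, 0, 4⟩)) (.node 1 (.one ⟨13272, 2, 5⟩) (.one ⟨14459, 0, 5⟩)))))))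
def par6_2_11 : Arr Par :=
  (.node 32 (.node 16 (.node 8 (.node 4 (.node 2 (.node 1 (.one ⟨14462, 0, 5⟩) (.one ⟨4701, 2, 6⟩)) (.node 1 (.one ⟨14455, 0, 5⟩) (.one ⟨300, 0, 3⟩))) (.node 2 (.node 1 (.one ⟨5922, 2, 3⟩) (.one ⟨10153, 2, 6⟩)) (.node 1 (.one ⟨12848, 2, 3⟩) (.one ⟨5645, 2, 3⟩)))) (.node 4 (.node 2 (.node 1 (.one ⟨5528, 0, 3⟩) (.one ⟨5532, 0, 4⟩)) (.node 1 (.one ⟨16428, 2, 3⟩) (.one ⟨2439, 2, 3⟩))) (.node 2 (.node 1 (.one ⟨4885, 2, 4⟩) (.one ⟨11506, 2, 5⟩)) (.node 1 (.one ⟨11849, 2, 3⟩) (.one ⟨5512, 0, 3⟩))))) (.node 8 (.node 4 (.node 2 (.node 1 (.one ⟨8414, 2, 5⟩) (.one ⟨14071, 2, 2⟩)) (.node 1 (.one ⟨14940, 1, 5⟩) (.one ⟨6527, 1, 4⟩))) (.node 2 (.node 1 (.one ⟨9263, 0, 3⟩) (.one ⟨8361, 0, 3⟩)) (.node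 1 (.one ⟨7746, 0, 3⟩) (.one ⟨3817, 0, 4⟩)))) (.node 4 (.node 2 (.node 1 (.one ⟨12485, 2, 4⟩) (.one ⟨4932, 2, 4⟩)) (.node 1 (.one ⟨12740, 1, 3⟩) (.one ⟨7872, 1, 1⟩))) (.node 2 (.node 1 (.one ⟨8297, 2, 4⟩) (.one ⟨8359, 0, 3⟩)) (.node 1 (.one ⟨8697, 2, 5⟩) (.one ⟨394, 2, 4⟩)))))) (.node 16 (.node 8 (.node 4 (.node 2 (.node 1 (.one ⟨8635, 2, 4⟩) (.one ⟨9034, 2, 4⟩)) (.node 1 (.one ⟨2387, 2, 4⟩) (.one ⟨1327, 0, 1⟩))) (.node 2 (.node 1 (.one ⟨6523, 2, 4⟩) (.one ⟨6157, 2, 4⟩)) (.node 1 (.one ⟨4723, 2, 3⟩) (.one ⟨245, 2, 4⟩)))) (.node 4 (.node 2 (.node 1 (.one ⟨8661, 2, 2⟩) (.one ⟨10629, 2, 4⟩)) (.node 1 (.one ⟨2826, 0, 5⟩) (.one ⟨4500, 2, 4⟩))) (.node 2 (.node 1 (.one ⟨7218, 2, 4⟩) (.one ⟨11570, 2, 4⟩)) (.node 1 (.one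 ⟨14987, 2, 4⟩) (.one ⟨1360, 0, 4⟩))))) (.node 8 (.node 4 (.node 2 (.node 1 (.one ⟨6694, 0, 4⟩) (.one ⟨16938, 2, 4⟩)) (.node 1 (.one ⟨5306, 2, 2⟩) (.one ⟨14267, 0, 3⟩))) (.node 2 (.node 1 (.one ⟨11278, 0, 4⟩) (.one ⟨7434, 0, 4⟩)) (.node 1 (.one ⟨2364, 0, 3⟩) (.one ⟨2793, 0, 5⟩)))) (.node 4 (.node 2 (.node 1 (.one ⟨4482, 2, 4⟩) (.one ⟨16161, 0, 3⟩)) (.node 1 (.one ⟨13361, 2, 6⟩) (.one ⟨5476, 2, 5⟩))) (.node 2 (.node 1 (.one ⟨16131, 1, 5⟩) (.one ⟨10825, 0, 4⟩)) (.node 1 (.one ⟨15149, 2, 2⟩) (.one ⟨9754, 2, 4⟩)))))))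
def par6_2_12 : Arr Par :=
  (.node 32 (.node 16 (.node 8 (.node 4 (.node 2 (.node 1 (.one ⟨987, 2, 5⟩) (.one ⟨454, 2, 4⟩)) (.node 1 (.one ⟨9755, 2, 3⟩) (.one ⟨6686, 0, 2⟩))) (.node 2 (.node 1 (.one ⟨6705, 0, 2⟩) (.one ⟨9753, 2, 3⟩)) (.node 1 (.one ⟨986, 2, 5⟩) (.one ⟨16230, 2, 4⟩)))) (.node 4 (.node 2 (.node 1 (.one ⟨11581, 2, 4⟩) (.one ⟨16949, 1, 1⟩)) (.node 1 (.one ⟨6373, 0, 4⟩) (.one ⟨7926, 2, 5⟩))) (.node 2 (.node 1 (.one ⟨4334, 2, 5⟩) (.one ⟨10751, 2, 4⟩)) (.node 1 (.one ⟨4244, 0, 3⟩) (.one ⟨2997, 1, 1⟩))))) (.node 8 (.node 4 (.node 2 (.node 1 (.one ⟨11885, 0, 2⟩) (.one ⟨15249, 2, 2⟩)) (.node 1 (.one ⟨7310, 2, 2⟩) (.one ⟨13513, 1, 1⟩))) (.node 2 (.node 1 (.one ⟨10696, 1, 1⟩) (.one ⟨12956, 2, 4⟩)) (.node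 1 (.one ⟨4839, 2, 4⟩) (.one ⟨11568, 2, 3⟩)))) (.node 4 (.node 2 (.node 1 (.one ⟨3487, 2, 2⟩) (.one ⟨13390, 2, 4⟩)) (.node 1 (.one ⟨1450, 2, 1⟩) (.one ⟨24, 0, 3⟩))) (.node 2 (.node 1 (.one ⟨8936, 2, 3⟩) (.one ⟨14453, 0, 4⟩)) (.node 1 (.one ⟨14448, 0, 4⟩) (.one ⟨15101, 2, 4⟩)))))) (.node 16 (.node 8 (.node 4 (.node 2 (.node 1 (.one ⟨1203, 0, 4⟩) (.one ⟨4284, 2, 4⟩)) (.node 1 (.one ⟨16418, 0, 4⟩) (.one ⟨1679, 2, 4⟩))) (.node 2 (.node 1 (.one ⟨13956, 0, 3⟩) (.one ⟨16406, 0, 4⟩)) (.node 1 (.one ⟨16232, 1, 3⟩) (.one ⟨829, 0, 2⟩)))) (.node 4 (.node 2 (.node 1 (.one ⟨10874, 0, 2⟩) (.one ⟨11689, 2, 3⟩)) (.node 1 (.one ⟨10871, 0, 2⟩) (.one ⟨10873, 0, 2⟩))) (.node 2 (.node 1 (.one ⟨838, 0, 3⟩) (.one ⟨10872, 0, 2⟩)) (.node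 1 (.one ⟨865, 0, 3⟩) (.one ⟨3744, 0, 4⟩))))) (.node 8 (.node 4 (.node 2 (.node 1 (.one ⟨6710, 0, 3⟩) (.one ⟨5434, 2, 6⟩)) (.node 1 (.one ⟨4578, 2, 6⟩) (.one ⟨1695, 2, 2⟩))) (.node 2 (.node 1 (.one ⟨2717, 2, 3⟩) (.one ⟨681, 2, 2⟩)) (.node 1 (.one ⟨2627, 2, 5⟩) (.one ⟨11597, 2, 5⟩)))) (.node 4 (.node 2 (.node 1 (.one ⟨16609, 2, 4⟩) (.one ⟨9264, 0, 3⟩)) (.node 1 (.one ⟨6714, 0, 3⟩) (.one ⟨15878, 0, 2⟩))) (.node 2 (.node 1 (.one ⟨3219, 1, 4⟩) (.one ⟨5835, 2, 5⟩)) (.node 1 (.one ⟨2939, 2, 3⟩) (.one ⟨2000, 2, 4⟩)))))))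
def par6_2_13 : Arr Par :=
  (.node 32 (.node 16 (.node 8 (.node 4 (.node 2 (.node 1 (.one ⟨2719, 2, 3⟩) (.one ⟨11138, 2, 4⟩)) (.node 1 (.one ⟨11513, 2, 6⟩) (.one ⟨3633, 2, 4⟩))) (.node 2 (.node 1 (.one ⟨4343, 2, 3⟩) (.one ⟨13029, 2, 5⟩)) (.node 1 (.one ⟨13420, 2, 5⟩) (.one ⟨221, 2, 4⟩)))) (.node 4 (.node 2 (.node 1 (.one ⟨5297, 2, 4⟩) (.one ⟨11822, 2, 4⟩)) (.node 1 (.one ⟨11246, 2, 3⟩) (.one ⟨5060, 0, 4⟩))) (.node 2 (.node 1 (.one ⟨3913, 2, 5⟩) (.one ⟨5026, 0, 2⟩)) (.node 1 (.one ⟨10612, 2, 4⟩) (.one ⟨2292, 1, 4⟩))))) (.node 8 (.node 4 (.node 2 (.node 1 (.one ⟨4993, 0, 3⟩) (.one ⟨10078, 0, 4⟩)) (.node 1 (.one ⟨4983, 0, 3⟩) (.one ⟨3346, 2, 3⟩))) (.node 2 (.node 1 (.one ⟨10061, 1, 4⟩) (.one ⟨8319, 2, 5⟩)) (.node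 1 (.one ⟨790, 0, 4⟩) (.one ⟨4235, 2, 3⟩)))) (.node 4 (.node 2 (.node 1 (.one ⟨6815, 0, 4⟩) (.one ⟨1224, 2, 3⟩)) (.node 1 (.one ⟨8499, 0, 1⟩) (.one ⟨1231, 0, 4⟩))) (.node 2 (.node 1 (.one ⟨3880, 0, 4⟩) (.one ⟨1537, 2, 4⟩)) (.node 1 (.one ⟨9545, 2, 3⟩) (.one ⟨6034, 0, 2⟩)))))) (.node 16 (.node 8 (.node 4 (.node 2 (.node 1 (.one ⟨16682, 0, 3⟩) (.one ⟨6617, 2, 5⟩)) (.node 1 (.one ⟨5705, 2, 5⟩) (.one ⟨3328, 2, 5⟩))) (.node 2 (.node 1 (.one ⟨2223, 2, 2⟩) (.one ⟨2775, 2, 5⟩)) (.node 1 (.one ⟨1098, 2, 5⟩) (.one ⟨217, 2, 3⟩)))) (.node 4 (.node 2 (.node 1 (.one ⟨15123, 1, 5⟩) (.one ⟨9479, 0, 4⟩)) (.node 1 (.one ⟨14642, 0, 3⟩) (.one ⟨7923, 0, 5⟩))) (.node 2 (.node 1 (.one ⟨12165, 2, 5⟩) (.one ⟨12160, 2, 4⟩)) (.node 1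 (.one ⟨12166, 2, 5⟩) (.one ⟨1139, 1, 0⟩))))) (.node 8 (.node 4 (.node 2 (.node 1 (.one ⟨6546, 2, 5⟩) (.one ⟨2222, 1, 0⟩)) (.node 1 (.one ⟨16471, 2, 3⟩) (.one ⟨9974, 2, 3⟩))) (.node 2 (.node 1 (.one ⟨8812, 2, 5⟩) (.one ⟨3716, 1, 0⟩)) (.node 1 (.one ⟨14045, 2, 2⟩) (.one ⟨15818, 2, 3⟩)))) (.node 4 (.node 2 (.node 1 (.one ⟨12971, 2, 2⟩) (.one ⟨15469, 0, 4⟩)) (.node 1 (.one ⟨12146, 2, 2⟩) (.one ⟨12771, 2, 2⟩))) (.node 2 (.node 1 (.one ⟨1734, 0, 4⟩) (.one ⟨12032, 2, 2⟩)) (.node 1 (.one ⟨7955, 0, 2⟩) (.one ⟨2630, 0, 3⟩)))))))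
def par6_2_14 : Arr Par :=
  (.node 32 (.node 16 (.node 8 (.node 4 (.node 2 (.node 1 (.one ⟨4219, 1, 4⟩) (.one ⟨11141, 2, 2⟩)) (.node 1 (.one ⟨16508, 2, 3⟩) (.one ⟨12930, 2, 4⟩))) (.node 2 (.node 1 (.one ⟨13088, 0, 3⟩) (.one ⟨1188, 0, 1⟩)) (.node 1 (.one ⟨9078, 2, 3⟩) (.one ⟨14284, 2, 5⟩)))) (.node 4 (.node 2 (.node 1 (.one ⟨14775, 0, 2⟩) (.one ⟨8482, 2, 5⟩)) (.node 1 (.one ⟨2316, 2, 5⟩) (.one ⟨9172, 2, 5⟩))) (.node 2 (.node 1 (.one ⟨14963, 0, 4⟩) (.one ⟨5152, 2, 5⟩)) (.node 1 (.one ⟨8693, 1, 1⟩) (.one ⟨15223, 1, 5⟩))))) (.node 8 (.node 4 (.node 2 (.node 1 (.one ⟨1359, 0, 4⟩) (.one ⟨9871, 0, 5⟩)) (.node 1 (.one ⟨5135, 2, 4⟩) (.one ⟨13119, 2, 4⟩))) (.node 2 (.node 1 (.one ⟨10892, 1, 5⟩) (.one ⟨4735, 2, 4⟩))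 (.node 1 (.one ⟨14299, 0, 5⟩) (.one ⟨8721, 2, 3⟩)))) (.node 4 (.node 2 (.node 1 (.one ⟨11156, 2, 3⟩) (.one ⟨16569, 0, 4⟩)) (.node 1 (.one ⟨11023, 2, 1⟩) (.one ⟨223, 2, 4⟩))) (.node 2 (.node 1 (.one ⟨9746, 0, 4⟩) (.one ⟨1791, 2, 5⟩)) (.node 1 (.one ⟨6207, 1, 1⟩) (.one ⟨10619, 0, 4⟩)))))) (.node 16 (.node 8 (.node 4 (.node 2 (.node 1 (.one ⟨10988, 0, 4⟩) (.one ⟨8702, 2, 5⟩)) (.node 1 (.one ⟨4358, 2, 4⟩) (.one ⟨15363, 1, 4⟩))) (.node 2 (.node 1 (.one ⟨10522, 0, 4⟩) (.one ⟨2209, 0, 4⟩)) (.node 1 (.one ⟨14520, 2, 3⟩) (.one ⟨9301, 0, 3⟩)))) (.node 4 (.node 2 (.node 1 (.one ⟨9998, 0, 4⟩) (.one ⟨3822, 0, 3⟩)) (.node 1 (.one ⟨3598, 0, 5⟩) (.one ⟨2999, 0, 3⟩))) (.node 2 (.node 1 (.one ⟨6522, 2, 2⟩) (.one ⟨12600, 0, 3⟩))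 (.node 1 (.one ⟨13040, 0, 3⟩) (.one ⟨2639, 2, 2⟩))))) (.node 8 (.node 4 (.node 2 (.node 1 (.one ⟨15250, 2, 4⟩) (.one ⟨12953, 2, 2⟩)) (.node 1 (.one ⟨3026, 1, 0⟩) (.one ⟨1871, 1, 0⟩))) (.node 2 (.node 1 (.one ⟨225, 2, 3⟩) (.one ⟨1920, 1, 0⟩)) (.node 1 (.one ⟨13375, 2, 4⟩) (.one ⟨15698, 0, 2⟩)))) (.node 4 (.node 2 (.node 1 (.one ⟨933, 2, 4⟩) (.one ⟨934, 2, 4⟩)) (.node 1 (.one ⟨14241, 2, 5⟩) (.one ⟨4093, 0, 5⟩))) (.node 2 (.node 1 (.one ⟨12492, 0, 4⟩) (.one ⟨1780, 0, 1⟩)) (.node 1 (.one ⟨10453, 1, 4⟩) (.one ⟨13944, 1, 2⟩)))))))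
def par6_2_15 : Arr Par :=
  (.node 32 (.node 16 (.node 8 (.node 4 (.node 2 (.node 1 (.one ⟨13614, 0, 1⟩) (.one ⟨14364, 2, 5⟩)) (.node 1 (.one ⟨605, 2, 1⟩) (.one ⟨14376, 2, 4⟩))) (.node 2 (.node 1 (.one ⟨1104, 2, 5⟩) (.one ⟨6267, 2, 4⟩)) (.node 1 (.one ⟨9243, 2, 5⟩) (.one ⟨5965, 2, 4⟩)))) (.node 4 (.node 2 (.node 1 (.one ⟨5587, 2, 4⟩) (.one ⟨11982, 2, 4⟩)) (.node 1 (.one ⟨12437, 2, 5⟩) (.one ⟨2574, 2, 4⟩))) (.node 2 (.node 1 (.one ⟨2224, 2, 4⟩) (.one ⟨15712, 2, 5⟩)) (.node 1 (.one ⟨15963, 2, 3⟩) (.one ⟨1566, 0, 3⟩))))) (.node 8 (.node 4 (.node 2 (.node 1 (.one ⟨12495, 2, 5⟩) (.one ⟨3427, 0, 3⟩)) (.node 1 (.one ⟨4600, 0, 3⟩) (.one ⟨2510, 0, 4⟩))) (.node 2 (.node 1 (.one ⟨3593, 0, 3⟩) (.one ⟨2804, 0, 5⟩)) (.node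 1 (.one ⟨2831, 2, 2⟩) (.one ⟨1802, 2, 5⟩)))) (.node 4 (.node 2 (.node 1 (.one ⟨14903, 2, 5⟩) (.one ⟨4274, 0, 2⟩)) (.node 1 (.one ⟨8989, 2, 5⟩) (.one ⟨9892, 0, 2⟩))) (.node 2 (.node 1 (.one ⟨8120, 2, 4⟩) (.one ⟨1501, 0, 2⟩)) (.node 1 (.one ⟨14064, 2, 4⟩) (.one ⟨3134, 2, 5⟩)))))) (.node 16 (.node 8 (.node 4 (.node 2 (.node 1 (.one ⟨11265, 0, 5⟩) (.one ⟨5674, 0, 5⟩)) (.node 1 (.one ⟨7155, 0, 5⟩) (.one ⟨13428, 2, 3⟩))) (.node 2 (.node 1 (.one ⟨9881, 0, 5⟩) (.one ⟨7415, 0, 5⟩)) (.node 1 (.one ⟨13291, 2, 6⟩) (.one ⟨2661, 2, 5⟩)))) (.node 4 (.node 2 (.node 1 (.one ⟨9250, 0, 1⟩) (.one ⟨2904, 2, 5⟩)) (.node 1 (.one ⟨7800, 2, 3⟩) (.one ⟨5430, 2, 5⟩))) (.node 2 (.node 1 (.one ⟨6221, 2, 3⟩) (.one ⟨3648, 2, 4⟩)) (.node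 1 (.one ⟨6738, 2, 3⟩) (.one ⟨11483, 2, 3⟩))))) (.node 8 (.node 4 (.node 2 (.node 1 (.one ⟨4217, 1, 4⟩) (.one ⟨7320, 2, 4⟩)) (.node 1 (.one ⟨3447, 2, 5⟩) (.one ⟨3526, 1, 0⟩))) (.node 2 (.node 1 (.one ⟨2544, 0, 5⟩) (.one ⟨11975, 0, 1⟩)) (.node 1 (.one ⟨12933, 0, 5⟩) (.one ⟨6265, 2, 5⟩)))) (.node 4 (.node 2 (.node 1 (.one ⟨3496, 1, 2⟩) (.one ⟨12916, 2, 5⟩)) (.node 1 (.one ⟨13363, 0, 4⟩) (.one ⟨7554, 0, 4⟩))) (.node 2 (.node 1 (.one ⟨1336, 2, 5⟩) (.one ⟨13305, 0, 3⟩)) (.node 1 (.one ⟨17012, 2, 5⟩) (.one ⟨2424, 1, 5⟩)))))))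
def par6_2 : Arr Par :=
  (.node 512 (.node 256 (.node 128 (.node 64 par6_2_0 par6_2_1) (.node 64 par6_2_2 par6_2_3)) (.node 128 (.node 64 par6_2_4 par6_2_5) (.node 64 par6_2_6 par6_2_7))) (.node 256 (.node 128 (.node 64 par6_2_8 par6_2_9) (.node 64 par6_2_10 par6_2_11)) (.node 128 (.node 64 par6_2_12 par6_2_13) (.node 64 par6_2_14 par6_2_15))))
def par6_3_0 : Arr Par :=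
  (.node 32 (.node 16 (.node 8 (.node 4 (.node 2 (.node 1 (.one ⟨7030, 2, 5⟩) (.one ⟨3294, 2, 4⟩)) (.node 1 (.one ⟨15671, 2, 5⟩) (.one ⟨13225, 0, 2⟩))) (.node 2 (.node 1 (.one ⟨1973, 2, 5⟩) (.one ⟨6405, 2, 5⟩)) (.node 1 (.one ⟨10410, 0, 4⟩) (.one ⟨10686, 2, 5⟩)))) (.node 4 (.node 2 (.node 1 (.one ⟨10714, 2, 3⟩) (.one ⟨1186, 2, 5⟩)) (.node 1 (.one ⟨961, 0, 4⟩) (.one ⟨10695, 2, 3⟩))) (.node 2 (.node 1 (.one ⟨10734, 2, 4⟩) (.one ⟨608, 2, 1⟩)) (.node 1 (.one ⟨14988, 0, 5⟩) (.one ⟨10293, 0, 4⟩))))) (.node 8 (.node 4 (.node 2 (.node 1 (.one ⟨16579, 2, 6⟩) (.one ⟨16928, 2, 5⟩)) (.node 1 (.one ⟨2671, 2, 5⟩) (.one ⟨11692, 2, 5⟩))) (.node 2 (.node 1 (.one ⟨12162, 0, 2⟩) (.one ⟨7191, 2, 3⟩)) (.node 1 (.one ⟨9600, 0, 3⟩)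 (.one ⟨4378, 1, 0⟩)))) (.node 4 (.node 2 (.node 1 (.one ⟨8951, 2, 4⟩) (.one ⟨15543, 0, 5⟩)) (.node 1 (.one ⟨10851, 1, 5⟩) (.one ⟨3395, 0, 5⟩))) (.node 2 (.node 1 (.one ⟨6615, 1, 5⟩) (.one ⟨7063, 2, 4⟩)) (.node 1 (.one ⟨17001, 2, 4⟩) (.one ⟨6712, 1, 4⟩)))))) (.node 16 (.node 8 (.node 4 (.node 2 (.node 1 (.one ⟨7976, 1, 4⟩) (.one ⟨10078, 1, 4⟩)) (.node 1 (.one ⟨217, 0, 3⟩) (.one ⟨3330, 0, 3⟩))) (.node 2 (.node 1 (.one ⟨5433, 2, 2⟩) (.one ⟨10121, 1, 4⟩)) (.node 1 (.one ⟨12785, 1, 5⟩) (.one ⟨12972, 2, 5⟩)))) (.node 4 (.node 2 (.node 1 (.one ⟨6490, 0, 5⟩) (.one ⟨3373, 2, 5⟩)) (.node 1 (.one ⟨5707, 2, 5⟩) (.one ⟨12322, 1, 5⟩))) (.node 2 (.node 1 (.one ⟨424, 0, 4⟩) (.one ⟨781, 0, 4⟩)) (.node 1 (.one ⟨4071, 1, 5⟩)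 (.one ⟨10927, 2, 4⟩))))) (.node 8 (.node 4 (.node 2 (.node 1 (.one ⟨10849, 1, 5⟩) (.one ⟨10889, 1, 5⟩)) (.node 1 (.one ⟨12642, 2, 4⟩) (.one ⟨4767, 2, 4⟩))) (.node 2 (.node 1 (.one ⟨1641, 0, 5⟩) (.one ⟨6621, 1, 5⟩)) (.node 1 (.one ⟨2983, 2, 4⟩) (.one ⟨10748, 2, 5⟩)))) (.node 4 (.node 2 (.node 1 (.one ⟨12428, 0, 4⟩) (.one ⟨3253, 2, 4⟩)) (.node 1 (.one ⟨15382, 0, 4⟩) (.one ⟨5488, 1, 2⟩))) (.node 2 (.node 1 (.one ⟨8749, 2, 4⟩) (.one ⟨2702, 0, 3⟩)) (.node 1 (.one ⟨15891, 2, 4⟩) (.one ⟨16500, 2, 4⟩)))))))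
def par6_3_1 : Arr Par :=
  (.node 32 (.node 16 (.node 8 (.node 4 (.node 2 (.node 1 (.one ⟨10655, 2, 5⟩) (.one ⟨14140, 0, 3⟩)) (.node 1 (.one ⟨5661, 0, 5⟩) (.one ⟨4454, 0, 5⟩))) (.node 2 (.node 1 (.one ⟨9008, 2, 6⟩) (.one ⟨10487, 0, 3⟩)) (.node 1 (.one ⟨4573, 2, 5⟩) (.one ⟨15396, 2, 4⟩)))) (.node 4 (.node 2 (.node 1 (.one ⟨17175, 2, 5⟩) (.one ⟨9454, 1, 1⟩)) (.node 1 (.one ⟨8020, 0, 3⟩) (.one ⟨13020, 0, 2⟩))) (.node 2 (.node 1 (.one ⟨584, 1, 1⟩) (.one ⟨1867, 0, 2⟩)) (.node 1 (.one ⟨9335, 1, 1⟩) (.one ⟨6521, 2, 1⟩))))) (.node 8 (.node 4 (.node 2 (.node 1 (.one ⟨9359, 0, 1⟩) (.one ⟨5216, 0, 4⟩)) (.node 1 (.one ⟨4057, 2, 1⟩) (.one ⟨7328, 0, 4⟩))) (.node 2 (.node 1 (.one ⟨16588, 1, 4⟩) (.one ⟨8929, 1, 4⟩)) (.node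 1 (.one ⟨7465, 2, 1⟩) (.one ⟨2863, 1, 5⟩)))) (.node 4 (.node 2 (.node 1 (.one ⟨9490, 2, 1⟩) (.one ⟨14803, 0, 5⟩)) (.node 1 (.one ⟨16253, 2, 1⟩) (.one ⟨1977, 2, 5⟩))) (.node 2 (.node 1 (.one ⟨356, 2, 5⟩) (.one ⟨8362, 2, 5⟩)) (.node 1 (.one ⟨8238, 2, 6⟩) (.one ⟨5604, 0, 3⟩)))))) (.node 16 (.node 8 (.node 4 (.node 2 (.node 1 (.one ⟨17037, 0, 3⟩) (.one ⟨15303, 2, 5⟩)) (.node 1 (.one ⟨13348, 0, 3⟩) (.one ⟨10415, 0, 3⟩))) (.node 2 (.node 1 (.one ⟨4769, 0, 3⟩) (.one ⟨14419, 0, 4⟩)) (.node 1 (.one ⟨7215, 2, 4⟩) (.one ⟨6432, 2, 3⟩)))) (.node 4 (.node 2 (.node 1 (.one ⟨3103, 2, 5⟩) (.one ⟨16636, 2, 3⟩)) (.node 1 (.one ⟨13805, 0, 3⟩) (.one ⟨13800, 0, 3⟩))) (.node 2 (.node 1 (.one ⟨557, 2, 3⟩) (.one ⟨13801, 0, 3⟩)) (.node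 1 (.one ⟨13570, 2, 3⟩) (.one ⟨5046, 2, 4⟩))))) (.node 8 (.node 4 (.node 2 (.node 1 (.one ⟨11851, 1, 4⟩) (.one ⟨14374, 0, 3⟩)) (.node 1 (.one ⟨15197, 2, 3⟩) (.one ⟨12394, 0, 5⟩))) (.node 2 (.node 1 (.one ⟨7945, 0, 2⟩) (.one ⟨12370, 0, 5⟩)) (.node 1 (.one ⟨1747, 2, 4⟩) (.one ⟨13937, 0, 3⟩)))) (.node 4 (.node 2 (.node 1 (.one ⟨246, 1, 0⟩) (.one ⟨9536, 0, 3⟩)) (.node 1 (.one ⟨11722, 2, 3⟩) (.one ⟨10135, 1, 2⟩))) (.node 2 (.node 1 (.one ⟨16780, 0, 3⟩) (.one ⟨15742, 2, 4⟩)) (.node 1 (.one ⟨13810, 1, 5⟩) (.one ⟨9841, 0, 3⟩)))))))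
def par6_3_2 : Arr Par :=
  (.node 32 (.node 16 (.node 8 (.node 4 (.node 2 (.node 1 (.one ⟨7346, 0, 3⟩) (.one ⟨15774, 0, 3⟩)) (.node 1 (.one ⟨5080, 0, 3⟩) (.one ⟨12510, 0, 3⟩))) (.node 2 (.node 1 (.one ⟨2911, 2, 3⟩) (.one ⟨13647, 2, 4⟩)) (.node 1 (.one ⟨2938, 0, 3⟩) (.one ⟨5077, 0, 2⟩)))) (.node 4 (.node 2 (.node 1 (.one ⟨5072, 0, 2⟩) (.one ⟨875, 0, 3⟩)) (.node 1 (.one ⟨7468, 2, 4⟩) (.one ⟨5071, 0, 2⟩))) (.node 2 (.node 1 (.one ⟨5078, 0, 2⟩) (.one ⟨11487, 2, 6⟩)) (.node 1 (.one ⟨2535, 2, 3⟩) (.one ⟨8479, 0, 2⟩))))) (.node 8 (.node 4 (.node 2 (.node 1 (.one ⟨8765, 2, 5⟩) (.one ⟨2874, 1, 4⟩)) (.node 1 (.one ⟨5197, 2, 4⟩) (.one ⟨5069, 0, 3⟩))) (.node 2 (.node 1 (.one ⟨15580, 0, 3⟩) (.one ⟨12217, 0, 3⟩)) (.node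 1 (.one ⟨12059, 2, 5⟩) (.one ⟨11494, 2, 5⟩)))) (.node 4 (.node 2 (.node 1 (.one ⟨12837, 2, 6⟩) (.one ⟨5194, 2, 4⟩)) (.node 1 (.one ⟨5058, 0, 2⟩) (.one ⟨554, 2, 4⟩))) (.node 2 (.node 1 (.one ⟨4489, 2, 4⟩) (.one ⟨11820, 2, 5⟩)) (.node 1 (.one ⟨10491, 2, 3⟩) (.one ⟨12391, 2, 5⟩)))))) (.node 16 (.node 8 (.node 4 (.node 2 (.node 1 (.one ⟨2300, 2, 4⟩) (.one ⟨1587, 2, 5⟩)) (.node 1 (.one ⟨11782, 2, 4⟩) (.one ⟨2403, 0, 3⟩))) (.node 2 (.node 1 (.one ⟨7118, 2, 4⟩) (.one ⟨6580, 2, 5⟩)) (.node 1 (.one ⟨16593, 2, 5⟩) (.one ⟨4322, 2, 4⟩)))) (.node 4 (.node 2 (.node 1 (.one ⟨4265, 0, 2⟩) (.one ⟨7178, 0, 3⟩)) (.node 1 (.one ⟨2224, 0, 4⟩) (.one ⟨12854, 2, 5⟩))) (.node 2 (.node 1 (.one ⟨9178, 0, 5⟩) (.one ⟨2804, 1, 5⟩)) (.node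 1 (.one ⟨9222, 2, 4⟩) (.one ⟨13696, 2, 3⟩))))) (.node 8 (.node 4 (.node 2 (.node 1 (.one ⟨4085, 0, 4⟩) (.one ⟨15838, 2, 4⟩)) (.node 1 (.one ⟨16994, 1, 3⟩) (.one ⟨4389, 1, 3⟩))) (.node 2 (.node 1 (.one ⟨4820, 0, 4⟩) (.one ⟨7371, 1, 3⟩)) (.node 1 (.one ⟨4284, 0, 4⟩) (.one ⟨13140, 0, 5⟩)))) (.node 4 (.node 2 (.node 1 (.one ⟨9222, 0, 4⟩) (.one ⟨1124, 2, 4⟩)) (.node 1 (.one ⟨15455, 2, 4⟩) (.one ⟨15613, 0, 3⟩))) (.node 2 (.node 1 (.one ⟨15994, 0, 2⟩) (.one ⟨15469, 2, 4⟩)) (.node 1 (.one ⟨6438, 1, 4⟩) (.one ⟨9104, 0, 5⟩)))))))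
def par6_3_3 : Arr Par :=
  (.node 32 (.node 16 (.node 8 (.node 4 (.node 2 (.node 1 (.one ⟨5802, 2, 4⟩) (.one ⟨7254, 2, 5⟩)) (.node 1 (.one ⟨1581, 0, 4⟩) (.one ⟨1629, 0, 2⟩))) (.node 2 (.node 1 (.one ⟨11764, 0, 5⟩) (.one ⟨13880, 2, 4⟩)) (.node 1 (.one ⟨9018, 0, 5⟩) (.one ⟨12894, 2, 4⟩)))) (.node 4 (.node 2 (.node 1 (.one ⟨13208, 2, 5⟩) (.one ⟨8356, 2, 5⟩)) (.node 1 (.one ⟨2943, 1, 4⟩) (.one ⟨16676, 1, 4⟩))) (.node 2 (.node 1 (.one ⟨10331, 2, 5⟩) (.one ⟨7522, 2, 5⟩)) (.node 1 (.one ⟨6565, 1, 4⟩) (.one ⟨8671, 0, 4⟩))))) (.node 8 (.node 4 (.node 2 (.node 1 (.one ⟨5347, 2, 4⟩) (.one ⟨16030, 2, 2⟩)) (.node 1 (.one ⟨7369, 1, 3⟩) (.one ⟨8829, 1, 3⟩))) (.node 2 (.node 1 (.one ⟨12823, 0, 2⟩) (.one ⟨13154, 2, 5⟩)) (.node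 1 (.one ⟨736, 2, 4⟩) (.one ⟨338, 1, 0⟩)))) (.node 4 (.node 2 (.node 1 (.one ⟨2240, 0, 4⟩) (.one ⟨618, 2, 5⟩)) (.node 1 (.one ⟨11418, 0, 4⟩) (.one ⟨12038, 0, 2⟩))) (.node 2 (.node 1 (.one ⟨13978, 2, 5⟩) (.one ⟨13976, 2, 5⟩)) (.node 1 (.one ⟨13979, 2, 3⟩) (.one ⟨4665, 0, 4⟩)))))) (.node 16 (.node 8 (.node 4 (.node 2 (.node 1 (.one ⟨8197, 2, 3⟩) (.one ⟨4684, 0, 1⟩)) (.node 1 (.one ⟨11906, 2, 3⟩) (.one ⟨7855, 0, 5⟩))) (.node 2 (.node 1 (.one ⟨11161, 0, 4⟩) (.one ⟨3225, 2, 5⟩)) (.node 1 (.one ⟨16560, 2, 5⟩) (.one ⟨3054, 2, 4⟩)))) (.node 4 (.node 2 (.node 1 (.one ⟨4732, 2, 4⟩) (.one ⟨2473, 2, 4⟩)) (.node 1 (.one ⟨6312, 0, 4⟩) (.one ⟨11999, 2, 2⟩))) (.node 2 (.node 1 (.one ⟨490, 1, 4⟩) (.one ⟨6280, 0, 4⟩)) (.node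 1 (.one ⟨10886, 2, 4⟩) (.one ⟨9072, 0, 3⟩))))) (.node 8 (.node 4 (.node 2 (.node 1 (.one ⟨5771, 2, 6⟩) (.one ⟨13488, 2, 5⟩)) (.node 1 (.one ⟨6464, 2, 2⟩) (.one ⟨9949, 2, 5⟩))) (.node 2 (.node 1 (.one ⟨8675, 2, 5⟩) (.one ⟨10448, 2, 5⟩)) (.node 1 (.one ⟨534, 1, 0⟩) (.one ⟨2448, 2, 5⟩)))) (.node 4 (.node 2 (.node 1 (.one ⟨15152, 2, 4⟩) (.one ⟨9982, 2, 3⟩)) (.node 1 (.one ⟨7086, 2, 4⟩) (.one ⟨8960, 2, 4⟩))) (.node 2 (.node 1 (.one ⟨12050, 2, 4⟩) (.one ⟨16635, 2, 4⟩)) (.node 1 (.one ⟨1879, 1, 5⟩) (.one ⟨12975, 2, 4⟩)))))))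
def par6_3_4 : Arr Par :=
  (.node 32 (.node 16 (.node 8 (.node 4 (.node 2 (.node 1 (.one ⟨10008, 2, 4⟩) (.one ⟨15804, 0, 4⟩)) (.node 1 (.one ⟨7957, 0, 2⟩) (.one ⟨1928, 0, 4⟩))) (.node 2 (.node 1 (.one ⟨9975, 2, 4⟩) (.one ⟨6658, 2, 4⟩)) (.node 1 (.one ⟨9545, 0, 3⟩) (.one ⟨7792, 0, 5⟩)))) (.node 4 (.node 2 (.node 1 (.one ⟨9180, 1, 1⟩) (.one ⟨252, 0, 4⟩)) (.node 1 (.one ⟨7450, 2, 3⟩) (.one ⟨7825, 0, 2⟩))) (.node 2 (.node 1 (.one ⟨6496, 0, 2⟩) (.one ⟨77, 1, 1⟩)) (.node 1 (.one ⟨16962, 2, 6⟩) (.one ⟨11500, 2, 2⟩))))) (.node 8 (.node 4 (.node 2 (.node 1 (.one ⟨10104, 2, 2⟩) (.one ⟨7545, 2, 2⟩)) (.node 1 (.one ⟨5974, 2, 2⟩) (.one ⟨12924, 0, 4⟩))) (.node 2 (.node 1 (.one ⟨14959, 0, 2⟩) (.one ⟨13355, 2, 4⟩)) (.node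 1 (.one ⟨11664, 2, 2⟩) (.one ⟨2056, 0, 2⟩)))) (.node 4 (.node 2 (.node 1 (.one ⟨11666, 2, 5⟩) (.one ⟨3066, 2, 5⟩)) (.node 1 (.one ⟨898, 1, 4⟩) (.one ⟨10894, 2, 5⟩))) (.node 2 (.node 1 (.one ⟨10305, 2, 4⟩) (.one ⟨5345, 2, 4⟩)) (.node 1 (.one ⟨3804, 2, 4⟩) (.one ⟨15560, 2, 5⟩)))))) (.node 16 (.node 8 (.node 4 (.node 2 (.node 1 (.one ⟨5442, 2, 3⟩) (.one ⟨14138, 2, 5⟩)) (.node 1 (.one ⟨3635, 2, 4⟩) (.one ⟨9993, 2, 3⟩))) (.node 2 (.node 1 (.one ⟨8069, 2, 2⟩) (.one ⟨11512, 2, 4⟩)) (.node 1 (.one ⟨9072, 2, 3⟩) (.one ⟨176, 0, 4⟩)))) (.node 4 (.node 2 (.node 1 (.one ⟨14174, 2, 5⟩) (.one ⟨14814, 0, 4⟩)) (.node 1 (.one ⟨14811, 0, 4⟩) (.one ⟨14808, 0, 4⟩))) (.node 2 (.node 1 (.one ⟨14809, 0, 4⟩) (.one ⟨935, 0, 4⟩)) (.node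 1 (.one ⟨9955, 2, 3⟩) (.one ⟨10230, 2, 4⟩))))) (.node 8 (.node 4 (.node 2 (.node 1 (.one ⟨15477, 2, 4⟩) (.one ⟨7480, 2, 5⟩)) (.node 1 (.one ⟨1395, 2, 5⟩) (.one ⟨11317, 0, 2⟩))) (.node 2 (.node 1 (.one ⟨10616, 2, 4⟩) (.one ⟨2442, 2, 4⟩)) (.node 1 (.one ⟨6974, 2, 4⟩) (.one ⟨2183, 2, 2⟩)))) (.node 4 (.node 2 (.node 1 (.one ⟨15403, 2, 5⟩) (.one ⟨3154, 0, 2⟩)) (.node 1 (.one ⟨13311, 2, 4⟩) (.one ⟨5851, 0, 4⟩))) (.node 2 (.node 1 (.one ⟨11483, 0, 3⟩) (.one ⟨10050, 0, 4⟩)) (.node 1 (.one ⟨5453, 2, 4⟩) (.one ⟨10608, 2, 4⟩)))))))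
def par6_3_5 : Arr Par :=
  (.node 32 (.node 16 (.node 8 (.node 4 (.node 2 (.node 1 (.one ⟨7328, 2, 4⟩) (.one ⟨9090, 0, 3⟩)) (.node 1 (.one ⟨2536, 2, 6⟩) (.one ⟨5854, 0, 4⟩))) (.node 2 (.node 1 (.one ⟨14184, 0, 2⟩) (.one ⟨10631, 2, 4⟩)) (.node 1 (.one ⟨7323, 2, 4⟩) (.one ⟨3192, 2, 1⟩)))) (.node 4 (.node 2 (.node 1 (.one ⟨7235, 1, 4⟩) (.one ⟨8994, 2, 1⟩)) (.node 1 (.one ⟨16590, 1, 4⟩) (.one ⟨5848, 0, 4⟩))) (.node 2 (.node 1 (.one ⟨2728, 2, 1⟩) (.one ⟨11623, 0, 4⟩)) (.node 1 (.one ⟨8305, 2, 1⟩) (.one ⟨4420, 1, 3⟩))))) (.node 8 (.node 4 (.node 2 (.node 1 (.one ⟨1692, 1, 5⟩) (.one ⟨1736, 1, 5⟩)) (.node 1 (.one ⟨4383, 1, 5⟩) (.one ⟨9358, 0, 4⟩))) (.node 2 (.node 1 (.one ⟨7179, 0, 4⟩) (.one ⟨4925, 0, 4⟩)) (.node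 1 (.one ⟨16366, 0, 4⟩) (.one ⟨11603, 2, 5⟩)))) (.node 4 (.node 2 (.node 1 (.one ⟨10342, 0, 3⟩) (.one ⟨9944, 2, 5⟩)) (.node 1 (.one ⟨10351, 2, 3⟩) (.one ⟨4333, 0, 4⟩))) (.node 2 (.node 1 (.one ⟨3907, 2, 5⟩) (.one ⟨9175, 0, 3⟩)) (.node 1 (.one ⟨2631, 2, 5⟩) (.one ⟨2787, 1, 2⟩)))))) (.node 16 (.node 8 (.node 4 (.node 2 (.node 1 (.one ⟨331, 0, 0⟩) (.one ⟨3980, 2, 6⟩)) (.node 1 (.one ⟨13309, 2, 5⟩) (.one ⟨11789, 0, 2⟩))) (.node 2 (.node 1 (.one ⟨12358, 2, 5⟩) (.one ⟨15404, 0, 4⟩)) (.node 1 (.one ⟨1038, 2, 2⟩) (.one ⟨4080, 2, 4⟩)))) (.node 4 (.node 2 (.node 1 (.one ⟨863, 2, 2⟩) (.one ⟨1983, 2, 2⟩)) (.node 1 (.one ⟨11397, 0, 3⟩) (.one ⟨12096, 2, 4⟩))) (.node 2 (.node 1 (.one ⟨9445, 2, 1⟩) (.one ⟨5702, 0, 4⟩)) (.node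 1 (.one ⟨4916, 0, 3⟩) (.one ⟨9298, 2, 3⟩))))) (.node 8 (.node 4 (.node 2 (.node 1 (.one ⟨7872, 0, 1⟩) (.one ⟨9161, 0, 3⟩)) (.node 1 (.one ⟨2970, 0, 2⟩) (.one ⟨5411, 1, 0⟩))) (.node 2 (.node 1 (.one ⟨11646, 2, 4⟩) (.one ⟨4680, 0, 4⟩)) (.node 1 (.one ⟨11736, 0, 4⟩) (.one ⟨15373, 2, 4⟩)))) (.node 4 (.node 2 (.node 1 (.one ⟨8686, 1, 2⟩) (.one ⟨7866, 0, 3⟩)) (.node 1 (.one ⟨16496, 2, 5⟩) (.one ⟨11977, 2, 5⟩))) (.node 2 (.node 1 (.one ⟨6528, 1, 3⟩) (.one ⟨13839, 0, 4⟩)) (.node 1 (.one ⟨9565, 2, 1⟩) (.one ⟨12481, 0, 2⟩)))))))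
def par6_3_6 : Arr Par :=
  (.node 32 (.node 16 (.node 8 (.node 4 (.node 2 (.node 1 (.one ⟨6556, 0, 3⟩) (.one ⟨13243, 2, 5⟩)) (.node 1 (.one ⟨9764, 2, 4⟩) (.one ⟨13846, 1, 3⟩))) (.node 2 (.node 1 (.one ⟨4881, 2, 4⟩) (.one ⟨3689, 2, 4⟩)) (.node 1 (.one ⟨16398, 0, 2⟩) (.one ⟨2226, 0, 4⟩)))) (.node 4 (.node 2 (.node 1 (.one ⟨14938, 0, 3⟩) (.one ⟨9220, 2, 5⟩)) (.node 1 (.one ⟨13887, 0, 4⟩) (.one ⟨14127, 2, 5⟩))) (.node 2 (.node 1 (.one ⟨14864, 0, 3⟩) (.one ⟨2509, 2, 3⟩)) (.node 1 (.one ⟨1458, 1, 4⟩) (.one ⟨10702, 2, 4⟩))))) (.node 8 (.node 4 (.node 2 (.node 1 (.one ⟨329, 2, 4⟩) (.one ⟨9717, 2, 5⟩)) (.node 1 (.one ⟨2734, 2, 4⟩) (.one ⟨6524, 2, 6⟩))) (.node 2 (.node 1 (.one ⟨1191, 0, 1⟩) (.one ⟨5785, 2, 4⟩)) (.node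 1 (.one ⟨13645, 0, 5⟩) (.one ⟨5184, 0, 3⟩)))) (.node 4 (.node 2 (.node 1 (.one ⟨8781, 2, 3⟩) (.one ⟨10831, 2, 6⟩)) (.node 1 (.one ⟨1224, 0, 3⟩) (.one ⟨12583, 2, 5⟩))) (.node 2 (.node 1 (.one ⟨12044, 1, 2⟩) (.one ⟨4965, 0, 4⟩)) (.node 1 (.one ⟨2722, 0, 3⟩) (.one ⟨9362, 0, 1⟩)))))) (.node 16 (.node 8 (.node 4 (.node 2 (.node 1 (.one ⟨13677, 2, 2⟩) (.one ⟨3729, 2, 2⟩)) (.node 1 (.one ⟨2208, 1, 2⟩) (.one ⟨2874, 2, 4⟩))) (.node 2 (.node 1 (.one ⟨2906, 2, 2⟩) (.one ⟨16549, 2, 2⟩)) (.node 1 (.one ⟨16515, 2, 4⟩) (.one ⟨14548, 2, 5⟩)))) (.node 4 (.node 2 (.node 1 (.one ⟨9442, 0, 1⟩) (.one ⟨15237, 2, 4⟩)) (.node 1 (.one ⟨12363, 0, 3⟩) (.one ⟨5187, 0, 3⟩))) (.node 2 (.node 1 (.one ⟨16544, 2, 5⟩) (.one ⟨479, 2, 4⟩)) (.node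 1 (.one ⟨1890, 1, 0⟩) (.one ⟨13, 1, 1⟩))))) (.node 8 (.node 4 (.node 2 (.node 1 (.one ⟨14468, 0, 4⟩) (.one ⟨4525, 2, 5⟩)) (.node 1 (.one ⟨7808, 0, 4⟩) (.one ⟨7859, 2, 5⟩))) (.node 2 (.node 1 (.one ⟨606, 1, 1⟩) (.one ⟨10806, 2, 5⟩)) (.node 1 (.one ⟨12058, 0, 4⟩) (.one ⟨11026, 0, 3⟩)))) (.node 4 (.node 2 (.node 1 (.one ⟨15082, 0, 3⟩) (.one ⟨16407, 0, 3⟩)) (.node 1 (.one ⟨12522, 0, 5⟩) (.one ⟨5466, 2, 3⟩))) (.node 2 (.node 1 (.one ⟨5843, 0, 4⟩) (.one ⟨3069, 2, 4⟩)) (.node 1 (.one ⟨14917, 2, 6⟩) (.one ⟨16308, 2, 1⟩)))))))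
def par6_3_7 : Arr Par :=
  (.node 32 (.node 16 (.node 8 (.node 4 (.node 2 (.node 1 (.one ⟨1658, 2, 5⟩) (.one ⟨4519, 2, 5⟩)) (.node 1 (.one ⟨13805, 2, 3⟩) (.one ⟨12474, 2, 4⟩))) (.node 2 (.node 1 (.one ⟨5894, 2, 4⟩) (.one ⟨8357, 2, 6⟩)) (.node 1 (.one ⟨9263, 2, 3⟩) (.one ⟨3492, 0, 3⟩)))) (.node 4 (.node 2 (.node 1 (.one ⟨6726, 2, 5⟩) (.one ⟨15151, 2, 5⟩)) (.node 1 (.one ⟨794, 2, 4⟩) (.one ⟨15971, 0, 2⟩))) (.node 2 (.node 1 (.one ⟨15589, 2, 4⟩) (.one ⟨7015, 2, 4⟩)) (.node 1 (.one ⟨10732, 2, 5⟩) (.one ⟨3255, 2, 6⟩))))) (.node 8 (.node 4 (.node 2 (.node 1 (.one ⟨9159, 2, 6⟩) (.one ⟨7096, 2, 4⟩)) (.node 1 (.one ⟨13767, 2, 6⟩) (.one ⟨12124, 0, 3⟩))) (.node 2 (.node 1 (.one ⟨5744, 2, 6⟩) (.one ⟨6570, 0, 3⟩)) (.node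 1 (.one ⟨1384, 2, 6⟩) (.one ⟨15041, 0, 4⟩)))) (.node 4 (.node 2 (.node 1 (.one ⟨13526, 2, 4⟩) (.one ⟨741, 1, 2⟩)) (.node 1 (.one ⟨4667, 2, 6⟩) (.one ⟨15361, 2, 3⟩))) (.node 2 (.node 1 (.one ⟨4033, 2, 5⟩) (.one ⟨6973, 2, 4⟩)) (.node 1 (.one ⟨11733, 2, 5⟩) (.one ⟨13115, 2, 4⟩)))))) (.node 16 (.node 8 (.node 4 (.node 2 (.node 1 (.one ⟨15466, 2, 5⟩) (.one ⟨16180, 2, 5⟩)) (.node 1 (.one ⟨10336, 2, 4⟩) (.one ⟨11575, 2, 5⟩))) (.node 2 (.node 1 (.one ⟨13675, 2, 4⟩) (.one ⟨620, 1, 4⟩)) (.node 1 (.one ⟨10852, 2, 5⟩) (.one ⟨4284, 1, 4⟩)))) (.node 4 (.node 2 (.node 1 (.one ⟨8306, 1, 3⟩) (.one ⟨5630, 1, 4⟩)) (.node 1 (.one ⟨4607, 0, 3⟩) (.one ⟨11641, 2, 6⟩))) (.node 2 (.node 1 (.one ⟨12044, 2, 2⟩) (.one ⟨12591, 0, 4⟩))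 (.node 1 (.one ⟨6762, 2, 4⟩) (.one ⟨10620, 1, 2⟩))))) (.node 8 (.node 4 (.node 2 (.node 1 (.one ⟨8966, 2, 5⟩) (.one ⟨620, 2, 4⟩)) (.node 1 (.one ⟨12347, 2, 2⟩) (.one ⟨16375, 2, 4⟩))) (.node 2 (.node 1 (.one ⟨5560, 2, 5⟩) (.one ⟨16829, 0, 3⟩)) (.node 1 (.one ⟨3118, 1, 0⟩) (.one ⟨5629, 2, 5⟩)))) (.node 4 (.node 2 (.node 1 (.one ⟨6923, 2, 5⟩) (.one ⟨3703, 2, 4⟩)) (.node 1 (.one ⟨12123, 0, 4⟩) (.one ⟨10869, 2, 4⟩))) (.node 2 (.node 1 (.one ⟨10126, 2, 4⟩) (.one ⟨2222, 0, 4⟩)) (.node 1 (.one ⟨8202, 0, 3⟩) (.one ⟨15333, 2, 4⟩)))))))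
def par6_3_8 : Arr Par :=
  (.node 32 (.node 16 (.node 8 (.node 4 (.node 2 (.node 1 (.one ⟨13893, 0, 2⟩) (.one ⟨268, 1, 0⟩)) (.node 1 (.one ⟨9178, 1, 5⟩) (.one ⟨256, 2, 4⟩))) (.node 2 (.node 1 (.one ⟨2000, 0, 4⟩) (.one ⟨15328, 2, 5⟩)) (.node 1 (.one ⟨2340, 0, 4⟩) (.one ⟨16304, 2, 2⟩)))) (.node 4 (.node 2 (.node 1 (.one ⟨10970, 0, 3⟩) (.one ⟨10692, 2, 2⟩)) (.node 1 (.one ⟨6690, 0, 3⟩) (.one ⟨8796, 2, 4⟩))) (.node 2 (.node 1 (.one ⟨10975, 2, 3⟩) (.one ⟨14263, 0, 4⟩)) (.node 1 (.one ⟨2002, 0, 4⟩) (.one ⟨4370, 2, 3⟩))))) (.node 8 (.node 4 (.node 2 (.node 1 (.one ⟨2055, 0, 3⟩) (.one ⟨5384, 0, 2⟩)) (.node 1 (.one ⟨6159, 0, 3⟩) (.one ⟨8881, 0, 2⟩))) (.node 2 (.node 1 (.one ⟨5220, 2, 4⟩) (.one ⟨4359, 2, 3⟩)) (.node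 1 (.one ⟨5628, 0, 2⟩) (.one ⟨7453, 2, 2⟩)))) (.node 4 (.node 2 (.node 1 (.one ⟨12513, 0, 4⟩) (.one ⟨6425, 0, 4⟩)) (.node 1 (.one ⟨11421, 2, 5⟩) (.one ⟨15915, 2, 2⟩))) (.node 2 (.node 1 (.one ⟨8881, 2, 2⟩) (.one ⟨13287, 2, 3⟩)) (.node 1 (.one ⟨3603, 2, 3⟩) (.one ⟨9291, 1, 1⟩)))))) (.node 16 (.node 8 (.node 4 (.node 2 (.node 1 (.one ⟨15792, 2, 4⟩) (.one ⟨15640, 2, 4⟩)) (.node 1 (.one ⟨1289, 1, 1⟩) (.one ⟨9551, 1, 4⟩))) (.node 2 (.node 1 (.one ⟨5180, 2, 5⟩) (.one ⟨1886, 2, 4⟩)) (.node 1 (.one ⟨6027, 0, 4⟩) (.one ⟨15628, 2, 6⟩)))) (.node 4 (.node 2 (.node 1 (.one ⟨15674, 0, 3⟩) (.one ⟨6599, 2, 5⟩)) (.node 1 (.one ⟨4029, 0, 3⟩) (.one ⟨6657, 0, 5⟩))) (.node 2 (.node 1 (.one ⟨14463, 0, 3⟩) (.one ⟨7347, 2, 4⟩)) (.node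 1 (.one ⟨1222, 0, 3⟩) (.one ⟨4247, 1, 0⟩))))) (.node 8 (.node 4 (.node 2 (.node 1 (.one ⟨12622, 2, 4⟩) (.one ⟨14363, 2, 3⟩)) (.node 1 (.one ⟨14537, 2, 5⟩) (.one ⟨11459, 2, 3⟩))) (.node 2 (.node 1 (.one ⟨11428, 2, 6⟩) (.one ⟨15793, 2, 4⟩)) (.node 1 (.one ⟨16093, 2, 3⟩) (.one ⟨4136, 2, 4⟩)))) (.node 4 (.node 2 (.node 1 (.one ⟨11407, 0, 3⟩) (.one ⟨15106, 2, 3⟩)) (.node 1 (.one ⟨13275, 2, 4⟩) (.one ⟨17004, 2, 4⟩))) (.node 2 (.node 1 (.one ⟨11160, 2, 4⟩) (.one ⟨2030, 2, 3⟩)) (.node 1 (.one ⟨8129, 2, 3⟩) (.one ⟨5750, 2, 4⟩)))))))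
def par6_3_9 : Arr Par :=
  (.node 32 (.node 16 (.node 8 (.node 4 (.node 2 (.node 1 (.one ⟨5288, 1, 3⟩) (.one ⟨2647, 1, 3⟩)) (.node 1 (.one ⟨6358, 2, 4⟩) (.one ⟨12118, 0, 4⟩))) (.node 2 (.node 1 (.one ⟨4993, 1, 3⟩) (.one ⟨24, 1, 3⟩)) (.node 1 (.one ⟨11179, 0, 4⟩) (.one ⟨10356, 2, 4⟩)))) (.node 4 (.node 2 (.node 1 (.one ⟨6787, 2, 4⟩) (.one ⟨13527, 2, 3⟩)) (.node 1 (.one ⟨7871, 2, 5⟩) (.one ⟨2362, 2, 4⟩))) (.node 2 (.node 1 (.one ⟨14737, 2, 6⟩) (.one ⟨5375, 2, 5⟩)) (.node 1 (.one ⟨16047, 2, 2⟩) (.one ⟨2375, 2, 2⟩))))) (.node 8 (.node 4 (.node 2 (.node 1 (.one ⟨228, 1, 0⟩) (.one ⟨2941, 0, 3⟩)) (.node 1 (.one ⟨7856, 2, 6⟩) (.one ⟨7807, 0, 3⟩))) (.node 2 (.node 1 (.one ⟨6762, 1, 4⟩) (.one ⟨10643, 2, 4⟩)) (.node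 1 (.one ⟨14439, 2, 6⟩) (.one ⟨12013, 2, 5⟩)))) (.node 4 (.node 2 (.node 1 (.one ⟨14914, 2, 5⟩) (.one ⟨12767, 0, 4⟩)) (.node 1 (.one ⟨5436, 2, 2⟩) (.one ⟨16207, 2, 5⟩))) (.node 2 (.node 1 (.one ⟨11092, 2, 3⟩) (.one ⟨1373, 2, 3⟩)) (.node 1 (.one ⟨9025, 2, 4⟩) (.one ⟨9249, 2, 2⟩)))))) (.node 16 (.node 8 (.node 4 (.node 2 (.node 1 (.one ⟨571, 0, 2⟩) (.one ⟨4892, 2, 2⟩)) (.node 1 (.one ⟨11189, 2, 5⟩) (.one ⟨3754, 2, 4⟩))) (.node 2 (.node 1 (.one ⟨10688, 2, 2⟩) (.one ⟨11069, 2, 2⟩)) (.node 1 (.one ⟨5382, 2, 2⟩) (.one ⟨14340, 2, 4⟩)))) (.node 4 (.node 2 (.node 1 (.one ⟨4947, 1, 3⟩) (.one ⟨13130, 2, 3⟩)) (.node 1 (.one ⟨4799, 1, 4⟩) (.one ⟨16760, 0, 4⟩))) (.node 2 (.node 1 (.one ⟨16775, 0, 3⟩) (.one ⟨8743, 0, 2⟩))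 (.node 1 (.one ⟨8472, 1, 4⟩) (.one ⟨14040, 2, 2⟩))))) (.node 8 (.node 4 (.node 2 (.node 1 (.one ⟨4332, 1, 0⟩) (.one ⟨5810, 2, 3⟩)) (.node 1 (.one ⟨6809, 0, 2⟩) (.one ⟨3599, 0, 4⟩))) (.node 2 (.node 1 (.one ⟨16474, 2, 2⟩) (.one ⟨16122, 2, 3⟩)) (.node 1 (.one ⟨8683, 2, 5⟩) (.one ⟨15577, 2, 3⟩)))) (.node 4 (.node 2 (.node 1 (.one ⟨6053, 2, 5⟩) (.one ⟨11646, 0, 4⟩)) (.node 1 (.one ⟨3614, 0, 4⟩) (.one ⟨11654, 0, 4⟩))) (.node 2 (.node 1 (.one ⟨14704, 2, 4⟩) (.one ⟨3630, 0, 4⟩)) (.node 1 (.one ⟨4563, 2, 5⟩) (.one ⟨12621, 2, 5⟩)))))))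
def par6_3_10 : Arr Par :=
  (.node 32 (.node 16 (.node 8 (.node 4 (.node 2 (.node 1 (.one ⟨3172, 0, 4⟩) (.one ⟨707, 2, 4⟩)) (.node 1 (.one ⟨11082, 2, 5⟩) (.one ⟨7407, 2, 3⟩))) (.node 2 (.node 1 (.one ⟨14581, 2, 5⟩) (.one ⟨16250, 2, 5⟩)) (.node 1 (.one ⟨9086, 2, 5⟩) (.one ⟨9955, 1, 3⟩)))) (.node 4 (.node 2 (.node 1 (.one ⟨9084, 2, 4⟩) (.one ⟨3965, 2, 4⟩)) (.node 1 (.one ⟨5549, 2, 4⟩) (.one ⟨9550, 0, 4⟩))) (.node 2 (.node 1 (.one ⟨9830, 0, 4⟩) (.one ⟨9489, 2, 4⟩)) (.node 1 (.one ⟨11080, 2, 4⟩) (.one ⟨9815, 2, 4⟩))))) (.node 8 (.node 4 (.node 2 (.node 1 (.one ⟨12844, 0, 5⟩) (.one ⟨14599, 0, 1⟩)) (.node 1 (.one ⟨745, 1, 5⟩) (.one ⟨16959, 0, 5⟩))) (.node 2 (.node 1 (.one ⟨10447, 2, 4⟩) (.one ⟨6440, 1, 5⟩)) (.node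 1 (.one ⟨12471, 2, 4⟩) (.one ⟨11032, 2, 2⟩)))) (.node 4 (.node 2 (.node 1 (.one ⟨6925, 2, 2⟩) (.one ⟨6496, 2, 2⟩)) (.node 1 (.one ⟨10644, 2, 2⟩) (.one ⟨7787, 2, 5⟩))) (.node 2 (.node 1 (.one ⟨2220, 0, 4⟩) (.one ⟨13244, 2, 2⟩)) (.node 1 (.one ⟨10097, 0, 4⟩) (.one ⟨648, 2, 4⟩)))))) (.node 16 (.node 8 (.node 4 (.node 2 (.node 1 (.one ⟨10568, 2, 3⟩) (.one ⟨14583, 0, 4⟩)) (.node 1 (.one ⟨12874, 0, 4⟩) (.one ⟨647, 2, 4⟩))) (.node 2 (.node 1 (.one ⟨10567, 2, 5⟩) (.one ⟨2578, 1, 4⟩)) (.node 1 (.one ⟨650, 2, 4⟩) (.one ⟨16432, 2, 5⟩)))) (.node 4 (.node 2 (.node 1 (.one ⟨7824, 2, 5⟩) (.one ⟨7784, 0, 3⟩)) (.node 1 (.one ⟨11546, 0, 3⟩) (.one ⟨3964, 2, 5⟩))) (.node 2 (.node 1 (.one ⟨13358, 2, 5⟩) (.one ⟨13286, 0, 3⟩)) (.node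 1 (.one ⟨6107, 0, 3⟩) (.one ⟨464, 1, 0⟩))))) (.node 8 (.node 4 (.node 2 (.node 1 (.one ⟨10069, 2, 2⟩) (.one ⟨9716, 2, 4⟩)) (.node 1 (.one ⟨157, 2, 3⟩) (.one ⟨15139, 0, 2⟩))) (.node 2 (.node 1 (.one ⟨10340, 2, 3⟩) (.one ⟨711, 1, 0⟩)) (.node 1 (.one ⟨3574, 0, 1⟩) (.one ⟨16049, 2, 4⟩)))) (.node 4 (.node 2 (.node 1 (.one ⟨11854, 2, 4⟩) (.one ⟨15082, 2, 3⟩)) (.node 1 (.one ⟨11165, 2, 4⟩) (.one ⟨8447, 2, 5⟩))) (.node 2 (.node 1 (.one ⟨4749, 2, 4⟩) (.one ⟨5647, 2, 5⟩)) (.node 1 (.one ⟨16957, 0, 2⟩) (.one ⟨8453, 2, 3⟩)))))))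
def par6_3_11 : Arr Par :=
  (.node 32 (.node 16 (.node 8 (.node 4 (.node 2 (.node 1 (.one ⟨15816, 2, 5⟩) (.one ⟨7172, 0, 5⟩)) (.node 1 (.one ⟨15392, 0, 3⟩) (.one ⟨6584, 0, 4⟩))) (.node 2 (.node 1 (.one ⟨5172, 2, 4⟩) (.one ⟨9736, 0, 3⟩)) (.node 1 (.one ⟨1574, 0, 5⟩) (.one ⟨11251, 0, 2⟩)))) (.node 4 (.node 2 (.node 1 (.one ⟨16408, 2, 3⟩) (.one ⟨6604, 2, 5⟩)) (.node 1 (.one ⟨11930, 0, 4⟩) (.one ⟨1117, 2, 5⟩))) (.node 2 (.node 1 (.one ⟨8954, 2, 3⟩) (.one ⟨14190, 2, 5⟩)) (.node 1 (.one ⟨16819, 0, 2⟩) (.one ⟨3449, 2, 4⟩))))) (.node 8 (.node 4 (.node 2 (.node 1 (.one ⟨3649, 2, 4⟩) (.one ⟨3800, 1, 0⟩)) (.node 1 (.one ⟨2982, 2, 4⟩) (.one ⟨9302, 0, 1⟩))) (.node 2 (.node 1 (.one ⟨2469, 2, 5⟩) (.one ⟨16492, 0, 3⟩)) (.node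 1 (.one ⟨6730, 0, 2⟩) (.one ⟨999, 2, 4⟩)))) (.node 4 (.node 2 (.node 1 (.one ⟨124, 2, 3⟩) (.one ⟨756, 2, 3⟩)) (.node 1 (.one ⟨1521, 0, 4⟩) (.one ⟨12378, 2, 3⟩))) (.node 2 (.node 1 (.one ⟨17150, 0, 3⟩) (.one ⟨12376, 2, 5⟩)) (.node 1 (.one ⟨12381, 2, 4⟩) (.one ⟨7042, 0, 4⟩)))))) (.node 16 (.node 8 (.node 4 (.node 2 (.node 1 (.one ⟨1781, 2, 6⟩) (.one ⟨6993, 0, 4⟩)) (.node 1 (.one ⟨13847, 0, 4⟩) (.one ⟨12835, 0, 4⟩))) (.node 2 (.node 1 (.one ⟨3758, 0, 4⟩) (.one ⟨14937, 2, 5⟩)) (.node 1 (.one ⟨3645, 0, 4⟩) (.one ⟨2514, 1, 2⟩)))) (.node 4 (.node 2 (.node 1 (.one ⟨11088, 2, 5⟩) (.one ⟨5206, 2, 3⟩)) (.node 1 (.one ⟨13011, 0, 2⟩) (.one ⟨5435, 2, 2⟩))) (.node 2 (.node 1 (.one ⟨12354, 2, 2⟩) (.one ⟨550, 2, 2⟩)) (.node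 1 (.one ⟨16063, 0, 2⟩) (.one ⟨5192, 0, 4⟩))))) (.node 8 (.node 4 (.node 2 (.node 1 (.one ⟨4392, 0, 3⟩) (.one ⟨2608, 1, 4⟩)) (.node 1 (.one ⟨14136, 2, 5⟩) (.one ⟨9445, 0, 1⟩))) (.node 2 (.node 1 (.one ⟨2305, 1, 0⟩) (.one ⟨7200, 2, 3⟩)) (.node 1 (.one ⟨4344, 2, 2⟩) (.one ⟨9360, 2, 1⟩)))) (.node 4 (.node 2 (.node 1 (.one ⟨15841, 2, 6⟩) (.one ⟨15806, 2, 5⟩)) (.node 1 (.one ⟨9634, 2, 4⟩) (.one ⟨7321, 2, 4⟩))) (.node 2 (.node 1 (.one ⟨8646, 0, 4⟩) (.one ⟨5202, 2, 5⟩)) (.node 1 (.one ⟨12941, 0, 3⟩) (.one ⟨5200, 2, 5⟩)))))))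
def par6_3_12 : Arr Par :=
  (.node 32 (.node 16 (.node 8 (.node 4 (.node 2 (.node 1 (.one ⟨11697, 2, 4⟩) (.one ⟨5883, 2, 5⟩)) (.node 1 (.one ⟨15583, 2, 5⟩) (.one ⟨10560, 0, 2⟩))) (.node 2 (.node 1 (.one ⟨2310, 0, 2⟩) (.one ⟨3874, 0, 2⟩)) (.node 1 (.one ⟨11609, 0, 2⟩) (.one ⟨5678, 2, 3⟩)))) (.node 4 (.node 2 (.node 1 (.one ⟨11243, 2, 5⟩) (.one ⟨15295, 2, 3⟩)) (.node 1 (.one ⟨405, 2, 4⟩) (.one ⟨14762, 0, 4⟩))) (.node 2 (.node 1 (.one ⟨15803, 2, 3⟩) (.one ⟨11685, 2, 5⟩)) (.node 1 (.one ⟨8939, 2, 3⟩) (.one ⟨1922, 0, 4⟩))))) (.node 8 (.node 4 (.node 2 (.node 1 (.one ⟨10737, 0, 4⟩) (.one ⟨9876, 1, 1⟩)) (.node 1 (.one ⟨6766, 2, 4⟩) (.one ⟨1228, 0, 4⟩))) (.node 2 (.node 1 (.one ⟨10422, 0, 4⟩) (.one ⟨10781, 2, 4⟩))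 (.node 1 (.one ⟨16385, 2, 4⟩) (.one ⟨1508, 2, 5⟩)))) (.node 4 (.node 2 (.node 1 (.one ⟨8707, 2, 4⟩) (.one ⟨5816, 2, 5⟩)) (.node 1 (.one ⟨9683, 1, 5⟩) (.one ⟨8647, 2, 4⟩))) (.node 2 (.node 1 (.one ⟨1682, 2, 5⟩) (.one ⟨6234, 0, 4⟩)) (.node 1 (.one ⟨5683, 2, 6⟩) (.one ⟨16335, 2, 4⟩)))))) (.node 16 (.node 8 (.node 4 (.node 2 (.node 1 (.one ⟨4393, 0, 5⟩) (.one ⟨1667, 1, 5⟩)) (.node 1 (.one ⟨10759, 0, 1⟩) (.one ⟨4184, 0, 5⟩))) (.node 2 (.node 1 (.one ⟨14375, 2, 4⟩) (.one ⟨7935, 2, 4⟩)) (.node 1 (.one ⟨11712, 0, 4⟩) (.one ⟨10775, 2, 5⟩)))) (.node 4 (.node 2 (.node 1 (.one ⟨2721, 2, 3⟩) (.one ⟨9563, 2, 2⟩)) (.node 1 (.one ⟨1379, 2, 4⟩) (.one ⟨2676, 2, 5⟩))) (.node 2 (.node 1 (.one ⟨10765, 2, 6⟩) (.one ⟨1287, 2, 3⟩))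 (.node 1 (.one ⟨9135, 2, 4⟩) (.one ⟨11262, 2, 4⟩))))) (.node 8 (.node 4 (.node 2 (.node 1 (.one ⟨8341, 0, 4⟩) (.one ⟨3230, 0, 4⟩)) (.node 1 (.one ⟨14079, 2, 5⟩) (.one ⟨11895, 0, 4⟩))) (.node 2 (.node 1 (.one ⟨3687, 2, 5⟩) (.one ⟨8795, 2, 5⟩)) (.node 1 (.one ⟨14860, 0, 4⟩) (.one ⟨13973, 1, 5⟩)))) (.node 4 (.node 2 (.node 1 (.one ⟨11823, 2, 4⟩) (.one ⟨4471, 2, 4⟩)) (.node 1 (.one ⟨8817, 0, 5⟩) (.one ⟨476, 1, 5⟩))) (.node 2 (.node 1 (.one ⟨1815, 2, 4⟩) (.one ⟨14407, 0, 1⟩)) (.node 1 (.one ⟨10386, 1, 5⟩) (.one ⟨1562, 0, 4⟩)))))))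
def par6_3_13 : Arr Par :=
  (.node 32 (.node 16 (.node 8 (.node 4 (.node 2 (.node 1 (.one ⟨16280, 0, 2⟩) (.one ⟨11789, 2, 2⟩)) (.node 1 (.one ⟨1789, 2, 4⟩) (.one ⟨10391, 2, 4⟩))) (.node 2 (.node 1 (.one ⟨4511, 2, 3⟩) (.one ⟨10510, 2, 2⟩)) (.node 1 (.one ⟨14100, 0, 3⟩) (.one ⟨15725, 2, 3⟩)))) (.node 4 (.node 2 (.node 1 (.one ⟨15624, 2, 3⟩) (.one ⟨12538, 1, 4⟩)) (.node 1 (.one ⟨728, 1, 4⟩) (.one ⟨9080, 1, 4⟩))) (.node 2 (.node 1 (.one ⟨14774, 1, 4⟩) (.one ⟨16927, 2, 3⟩)) (.node 1 (.one ⟨14054, 2, 5⟩) (.one ⟨14099, 2, 5⟩))))) (.node 8 (.node 4 (.node 2 (.node 1 (.one ⟨8608, 2, 5⟩) (.one ⟨7169, 1, 4⟩)) (.node 1 (.one ⟨8592, 2, 3⟩) (.one ⟨6061, 2, 5⟩))) (.node 2 (.node 1 (.one ⟨16666, 2, 5⟩) (.one ⟨6043, 2, 3⟩))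 (.node 1 (.one ⟨16680, 2, 3⟩) (.one ⟨2969, 1, 5⟩)))) (.node 4 (.node 2 (.node 1 (.one ⟨58, 1, 2⟩) (.one ⟨13404, 0, 3⟩)) (.node 1 (.one ⟨1767, 2, 6⟩) (.one ⟨7780, 2, 4⟩))) (.node 2 (.node 1 (.one ⟨7976, 2, 4⟩) (.one ⟨4202, 2, 5⟩)) (.node 1 (.one ⟨10936, 0, 4⟩) (.one ⟨7117, 2, 5⟩)))))) (.node 16 (.node 8 (.node 4 (.node 2 (.node 1 (.one ⟨8092, 2, 4⟩) (.one ⟨3010, 2, 2⟩)) (.node 1 (.one ⟨666, 0, 4⟩) (.one ⟨7734, 2, 6⟩))) (.node 2 (.node 1 (.one ⟨7568, 2, 4⟩) (.one ⟨4159, 2, 4⟩)) (.node 1 (.one ⟨5553, 1, 1⟩) (.one ⟨1044, 2, 5⟩)))) (.node 4 (.node 2 (.node 1 (.one ⟨10464, 1, 1⟩) (.one ⟨12745, 0, 4⟩)) (.node 1 (.one ⟨3321, 0, 4⟩) (.one ⟨12513, 1, 4⟩))) (.node 2 (.node 1 (.one ⟨14022, 2, 5⟩) (.one ⟨2741, 0, 4⟩)) (.node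 1 (.one ⟨3909, 1, 0⟩) (.one ⟨15547, 2, 3⟩))))) (.node 8 (.node 4 (.node 2 (.node 1 (.one ⟨16682, 1, 3⟩) (.one ⟨16380, 2, 4⟩)) (.node 1 (.one ⟨5118, 2, 5⟩) (.one ⟨13188, 2, 3⟩))) (.node 2 (.node 1 (.one ⟨3840, 0, 5⟩) (.one ⟨10304, 2, 4⟩)) (.node 1 (.one ⟨16964, 1, 3⟩) (.one ⟨17098, 0, 2⟩)))) (.node 4 (.node 2 (.node 1 (.one ⟨13169, 2, 3⟩) (.one ⟨12336, 1, 4⟩)) (.node 1 (.one ⟨14148, 2, 3⟩) (.one ⟨12347, 0, 2⟩))) (.node 2 (.node 1 (.one ⟨11058, 0, 4⟩) (.one ⟨13853, 2, 3⟩)) (.node 1 (.one ⟨14926, 2, 3⟩) (.one ⟨7310, 0, 2⟩)))))))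
def par6_3_14 : Arr Par :=
  (.node 32 (.node 16 (.node 8 (.node 4 (.node 2 (.node 1 (.one ⟨13313, 2, 3⟩) (.one ⟨7950, 2, 2⟩)) (.node 1 (.one ⟨8112, 1, 5⟩) (.one ⟨10564, 1, 2⟩))) (.node 2 (.node 1 (.one ⟨2569, 0, 4⟩) (.one ⟨11725, 0, 2⟩)) (.node 1 (.one ⟨8455, 2, 3⟩) (.one ⟨9320, 2, 5⟩)))) (.node 4 (.node 2 (.node 1 (.one ⟨17033, 0, 5⟩) (.one ⟨9863, 2, 3⟩)) (.node 1 (.one ⟨3209, 1, 4⟩) (.one ⟨15382, 2, 4⟩))) (.node 2 (.node 1 (.one ⟨6350, 0, 5⟩) (.one ⟨15457, 2, 5⟩)) (.node 1 (.one ⟨13102, 1, 4⟩) (.one ⟨9591, 2, 4⟩))))) (.node 8 (.node 4 (.node 2 (.node 1 (.one ⟨5932, 0, 3⟩) (.one ⟨13701, 2, 4⟩)) (.node 1 (.one ⟨1315, 2, 5⟩) (.one ⟨13736, 2, 5⟩))) (.node 2 (.node 1 (.one ⟨13608, 0, 4⟩) (.one ⟨9025, 0, 4⟩))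 (.node 1 (.one ⟨5652, 2, 4⟩) (.one ⟨6428, 2, 3⟩)))) (.node 4 (.node 2 (.node 1 (.one ⟨8623, 2, 5⟩) (.one ⟨5991, 2, 3⟩)) (.node 1 (.one ⟨8878, 2, 4⟩) (.one ⟨12328, 1, 4⟩))) (.node 2 (.node 1 (.one ⟨9780, 0, 4⟩) (.one ⟨11140, 0, 4⟩)) (.node 1 (.one ⟨4306, 0, 4⟩) (.one ⟨4826, 0, 3⟩)))))) (.node 16 (.node 8 (.node 4 (.node 2 (.node 1 (.one ⟨3906, 0, 5⟩) (.one ⟨94, 2, 3⟩)) (.node 1 (.one ⟨7736, 0, 4⟩) (.one ⟨4137, 0, 5⟩))) (.node 2 (.node 1 (.one ⟨4217, 2, 4⟩) (.one ⟨4219, 2, 4⟩)) (.node 1 (.one ⟨8961, 0, 3⟩) (.one ⟨5473, 2, 4⟩)))) (.node 4 (.node 2 (.node 1 (.one ⟨12118, 2, 4⟩) (.one ⟨13209, 2, 5⟩)) (.node 1 (.one ⟨4161, 2, 4⟩) (.one ⟨11039, 2, 5⟩))) (.node 2 (.node 1 (.one ⟨1207, 2, 3⟩) (.one ⟨2776, 2, 5⟩)) (.node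 1 (.one ⟨16000, 0, 4⟩) (.one ⟨4161, 0, 4⟩))))) (.node 8 (.node 4 (.node 2 (.node 1 (.one ⟨7338, 2, 4⟩) (.one ⟨1882, 2, 4⟩)) (.node 1 (.one ⟨11424, 2, 3⟩) (.one ⟨51, 2, 2⟩))) (.node 2 (.node 1 (.one ⟨11457, 2, 5⟩) (.one ⟨13881, 2, 3⟩)) (.node 1 (.one ⟨7553, 2, 4⟩) (.one ⟨2547, 0, 5⟩)))) (.node 4 (.node 2 (.node 1 (.one ⟨7073, 2, 6⟩) (.one ⟨12404, 2, 5⟩)) (.node 1 (.one ⟨2621, 2, 2⟩) (.one ⟨10595, 0, 4⟩))) (.node 2 (.node 1 (.one ⟨2593, 0, 3⟩) (.one ⟨6884, 2, 2⟩)) (.node 1 (.one ⟨16805, 2, 3⟩) (.one ⟨8306, 0, 3⟩)))))))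
def par6_3_15 : Arr Par :=
  (.node 32 (.node 16 (.node 8 (.node 4 (.node 2 (.node 1 (.one ⟨16412, 0, 3⟩) (.one ⟨5011, 2, 4⟩)) (.node 1 (.one ⟨515, 0, 3⟩) (.one ⟨4538, 1, 4⟩))) (.node 2 (.node 1 (.one ⟨7865, 1, 4⟩) (.one ⟨1622, 1, 4⟩)) (.node 1 (.one ⟨2935, 0, 4⟩) (.one ⟨1486, 2, 4⟩)))) (.node 4 (.node 2 (.node 1 (.one ⟨16009, 2, 4⟩) (.one ⟨13885, 2, 5⟩)) (.node 1 (.one ⟨4144, 0, 4⟩) (.one ⟨13704, 1, 2⟩))) (.node 2 (.node 1 (.one ⟨13729, 2, 6⟩) (.one ⟨10845, 0, 2⟩)) (.node 1 (.one ⟨1718, 2, 6⟩) (.one ⟨3849, 0, 4⟩))))) (.node 8 (.node 4 (.node 2 (.node 1 (.one ⟨10311, 0, 1⟩) (.one ⟨245, 1, 0⟩)) (.node 1 (.one ⟨12500, 0, 5⟩) (.one ⟨13974, 1, 5⟩))) (.node 2 (.node 1 (.one ⟨14272, 2, 4⟩) (.one ⟨7903, 2, 4⟩)) (.node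 1 (.one ⟨6446, 1, 5⟩) (.one ⟨13386, 0, 4⟩)))) (.node 4 (.node 2 (.node 1 (.one ⟨4234, 2, 3⟩) (.one ⟨4449, 0, 0⟩)) (.node 1 (.one ⟨8435, 0, 4⟩) (.one ⟨3060, 2, 6⟩))) (.node 2 (.node 1 (.one ⟨15533, 2, 4⟩) (.one ⟨2591, 0, 2⟩)) (.node 1 (.one ⟨12702, 0, 4⟩) (.one ⟨6118, 2, 3⟩)))))) (.node 16 (.node 8 (.node 4 (.node 2 (.node 1 (.one ⟨8997, 2, 3⟩) (.one ⟨11684, 2, 4⟩)) (.node 1 (.one ⟨11492, 2, 5⟩) (.one ⟨15153, 2, 5⟩))) (.node 2 (.node 1 (.one ⟨15921, 2, 3⟩) (.one ⟨5296, 2, 5⟩)) (.node 1 (.one ⟨176, 2, 4⟩) (.one ⟨821, 0, 4⟩)))) (.node 4 (.node 2 (.node 1 (.one ⟨11957, 0, 4⟩) (.one ⟨15954, 2, 5⟩)) (.node 1 (.one ⟨592, 2, 1⟩) (.one ⟨4327, 1, 0⟩))) (.node 2 (.node 1 (.one ⟨769, 0, 4⟩) (.one ⟨238, 2, 2⟩)) (.node 1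 (.one ⟨393, 0, 4⟩) (.one ⟨10147, 2, 2⟩))))) (.node 8 (.node 4 (.node 2 (.node 1 (.one ⟨13583, 0, 3⟩) (.one ⟨5487, 0, 4⟩)) (.node 1 (.one ⟨16151, 1, 4⟩) (.one ⟨14063, 2, 4⟩))) (.node 2 (.node 1 (.one ⟨13607, 0, 3⟩) (.one ⟨5511, 0, 3⟩)) (.node 1 (.one ⟨14303, 1, 1⟩) (.one ⟨16133, 2, 4⟩)))) (.node 4 (.node 2 (.node 1 (.one ⟨16026, 2, 4⟩) (.one ⟨9979, 2, 3⟩)) (.node 1 (.one ⟨10251, 2, 4⟩) (.one ⟨1740, 2, 4⟩))) (.node 2 (.node 1 (.one ⟨1485, 2, 4⟩) (.one ⟨7606, 2, 4⟩)) (.node 1 (.one ⟨7802, 2, 4⟩) (.one ⟨8339, 0, 5⟩)))))))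
def par6_3 : Arr Par :=
  (.node 512 (.node 256 (.node 128 (.node 64 par6_3_0 par6_3_1) (.node 64 par6_3_2 par6_3_3)) (.node 128 (.node 64 par6_3_4 par6_3_5) (.node 64 par6_3_6 par6_3_7))) (.node 256 (.node 128 (.node 64 par6_3_8 par6_3_9) (.node 64 par6_3_10 par6_3_11)) (.node 128 (.node 64 par6_3_12 par6_3_13) (.node 64 par6_3_14 par6_3_15))))
def par6_4_0 : Arr Par :=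
  (.node 32 (.node 16 (.node 8 (.node 4 (.node 2 (.node 1 (.one ⟨11931, 0, 2⟩) (.one ⟨6450, 0, 2⟩)) (.node 1 (.one ⟨15587, 2, 5⟩) (.one ⟨12222, 1, 5⟩))) (.node 2 (.node 1 (.one ⟨7537, 2, 2⟩) (.one ⟨10488, 0, 2⟩)) (.node 1 (.one ⟨5675, 0, 2⟩) (.one ⟨9195, 0, 1⟩)))) (.node 4 (.node 2 (.node 1 (.one ⟨4090, 0, 5⟩) (.one ⟨11301, 2, 3⟩)) (.node 1 (.one ⟨5123, 2, 3⟩) (.one ⟨16301, 2, 5⟩))) (.node 2 (.node 1 (.one ⟨3759, 0, 1⟩) (.one ⟨3812, 2, 5⟩)) (.node 1 (.one ⟨6351, 0, 2⟩) (.one ⟨11663, 2, 5⟩))))) (.node 8 (.node 4 (.node 2 (.node 1 (.one ⟨6346, 1, 1⟩) (.one ⟨10679, 2, 2⟩)) (.node 1 (.one ⟨4363, 2, 4⟩) (.one ⟨10715, 2, 2⟩))) (.node 2 (.node 1 (.one ⟨4296, 2, 4⟩) (.one ⟨13058, 0, 4⟩)) (.node 1 (.one ⟨1335, 2, 1⟩)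 (.one ⟨9603, 2, 5⟩)))) (.node 4 (.node 2 (.node 1 (.one ⟨7867, 0, 4⟩) (.one ⟨3628, 2, 4⟩)) (.node 1 (.one ⟨3593, 2, 3⟩) (.one ⟨1338, 2, 5⟩))) (.node 2 (.node 1 (.one ⟨600, 2, 1⟩) (.one ⟨11665, 2, 2⟩)) (.node 1 (.one ⟨11636, 2, 3⟩) (.one ⟨3469, 2, 4⟩)))))) (.node 16 (.node 8 (.node 4 (.node 2 (.node 1 (.one ⟨6396, 2, 4⟩) (.one ⟨8584, 0, 4⟩)) (.node 1 (.one ⟨9295, 0, 4⟩) (.one ⟨2403, 1, 0⟩))) (.node 2 (.node 1 (.one ⟨15881, 0, 2⟩) (.one ⟨4417, 2, 4⟩)) (.node 1 (.one ⟨8886, 2, 3⟩) (.one ⟨5684, 2, 6⟩)))) (.node 4 (.node 2 (.node 1 (.one ⟨7033, 0, 3⟩) (.one ⟨4939, 0, 4⟩)) (.node 1 (.one ⟨13590, 2, 2⟩) (.one ⟨11888, 0, 2⟩))) (.node 2 (.node 1 (.one ⟨15149, 1, 2⟩) (.one ⟨13969, 2, 5⟩)) (.node 1 (.one ⟨12823, 2, 2⟩)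 (.one ⟨15276, 0, 5⟩))))) (.node 8 (.node 4 (.node 2 (.node 1 (.one ⟨3484, 2, 3⟩) (.one ⟨6034, 2, 2⟩)) (.node 1 (.one ⟨757, 0, 5⟩) (.one ⟨2195, 2, 5⟩))) (.node 2 (.node 1 (.one ⟨4178, 0, 2⟩) (.one ⟨16604, 1, 4⟩)) (.node 1 (.one ⟨15268, 0, 2⟩) (.one ⟨4447, 2, 4⟩)))) (.node 4 (.node 2 (.node 1 (.one ⟨4248, 2, 5⟩) (.one ⟨1716, 2, 6⟩)) (.node 1 (.one ⟨16915, 0, 4⟩) (.one ⟨4374, 2, 3⟩))) (.node 2 (.node 1 (.one ⟨4515, 2, 4⟩) (.one ⟨8760, 0, 4⟩)) (.node 1 (.one ⟨1787, 2, 5⟩) (.one ⟨1014, 0, 3⟩)))))))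
def par6_4_1 : Arr Par :=
  (.node 32 (.node 16 (.node 8 (.node 4 (.node 2 (.node 1 (.one ⟨15209, 1, 4⟩) (.one ⟨14825, 0, 3⟩)) (.node 1 (.one ⟨3827, 0, 2⟩) (.one ⟨6424, 1, 5⟩))) (.node 2 (.node 1 (.one ⟨15822, 2, 5⟩) (.one ⟨12640, 2, 2⟩)) (.node 1 (.one ⟨11721, 2, 3⟩) (.one ⟨16582, 2, 4⟩)))) (.node 4 (.node 2 (.node 1 (.one ⟨15911, 2, 4⟩) (.one ⟨11257, 2, 5⟩)) (.node 1 (.one ⟨10792, 2, 4⟩) (.one ⟨17060, 2, 4⟩))) (.node 2 (.node 1 (.one ⟨16374, 2, 4⟩) (.one ⟨3677, 0, 4⟩)) (.node 1 (.one ⟨3854, 0, 4⟩) (.one ⟨1580, 2, 2⟩))))) (.node 8 (.node 4 (.node 2 (.node 1 (.one ⟨2994, 1, 1⟩) (.one ⟨9714, 2, 2⟩)) (.node 1 (.one ⟨3759, 1, 1⟩) (.one ⟨10065, 2, 4⟩))) (.node 2 (.node 1 (.one ⟨4852, 1, 1⟩) (.one ⟨2447, 0, 3⟩))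 (.node 1 (.one ⟨1780, 1, 1⟩) (.one ⟨1491, 2, 4⟩)))) (.node 4 (.node 2 (.node 1 (.one ⟨4201, 0, 4⟩) (.one ⟨7692, 2, 5⟩)) (.node 1 (.one ⟨12284, 0, 4⟩) (.one ⟨12316, 0, 4⟩))) (.node 2 (.node 1 (.one ⟨15779, 2, 5⟩) (.one ⟨7695, 2, 4⟩)) (.node 1 (.one ⟨9317, 2, 4⟩) (.one ⟨708, 0, 4⟩)))))) (.node 16 (.node 8 (.node 4 (.node 2 (.node 1 (.one ⟨10278, 2, 3⟩) (.one ⟨15919, 2, 5⟩)) (.node 1 (.one ⟨15232, 0, 4⟩) (.one ⟨16462, 2, 5⟩))) (.node 2 (.node 1 (.one ⟨9786, 1, 3⟩) (.one ⟨9537, 2, 3⟩)) (.node 1 (.one ⟨10834, 2, 5⟩) (.one ⟨14578, 2, 5⟩)))) (.node 4 (.node 2 (.node 1 (.one ⟨7092, 0, 1⟩) (.one ⟨3188, 2, 3⟩)) (.node 1 (.one ⟨14787, 0, 4⟩) (.one ⟨8889, 0, 5⟩))) (.node 2 (.node 1 (.one ⟨9028, 2, 5⟩) (.one ⟨17077, 2,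 3⟩)) (.node 1 (.one ⟨11969, 2, 4⟩) (.one ⟨1347, 0, 1⟩))))) (.node 8 (.node 4 (.node 2 (.node 1 (.one ⟨14194, 2, 4⟩) (.one ⟨6756, 2, 3⟩)) (.node 1 (.one ⟨10903, 0, 4⟩) (.one ⟨6913, 2, 6⟩))) (.node 2 (.node 1 (.one ⟨10816, 0, 4⟩) (.one ⟨1620, 0, 4⟩)) (.node 1 (.one ⟨13734, 2, 3⟩) (.one ⟨7198, 2, 4⟩)))) (.node 4 (.node 2 (.node 1 (.one ⟨4143, 2, 6⟩) (.one ⟨15726, 0, 3⟩)) (.node 1 (.one ⟨13702, 2, 6⟩) (.one ⟨14561, 0, 3⟩))) (.node 2 (.node 1 (.one ⟨1294, 2, 6⟩) (.one ⟨11302, 2, 4⟩)) (.node 1 (.one ⟨16367, 2, 5⟩) (.one ⟨3609, 2, 5⟩)))))))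
def par6_4_2 : Arr Par :=
  (.node 32 (.node 16 (.node 8 (.node 4 (.node 2 (.node 1 (.one ⟨4304, 0, 0⟩) (.one ⟨2787, 0, 2⟩)) (.node 1 (.one ⟨12791, 2, 4⟩) (.one ⟨7272, 0, 4⟩))) (.node 2 (.node 1 (.one ⟨1699, 2, 5⟩) (.one ⟨10877, 2, 5⟩)) (.node 1 (.one ⟨92, 2, 2⟩) (.one ⟨5337, 0, 4⟩)))) (.node 4 (.node 2 (.node 1 (.one ⟨324, 1, 0⟩) (.one ⟨16986, 2, 6⟩)) (.node 1 (.one ⟨640, 1, 2⟩) (.one ⟨17104, 0, 2⟩))) (.node 2 (.node 1 (.one ⟨14153, 0, 3⟩) (.one ⟨8818, 0, 4⟩)) (.node 1 (.one ⟨14158, 1, 2⟩) (.one ⟨12900, 2, 2⟩))))) (.node 8 (.node 4 (.node 2 (.node 1 (.one ⟨2299, 2, 3⟩) (.one ⟨5478, 0, 4⟩)) (.node 1 (.one ⟨12405, 2, 4⟩) (.one ⟨12800, 2, 2⟩))) (.node 2 (.node 1 (.one ⟨2425, 2, 2⟩) (.one ⟨2988, 2, 3⟩)) (.node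 1 (.one ⟨12477, 2, 5⟩) (.one ⟨2234, 1, 4⟩)))) (.node 4 (.node 2 (.node 1 (.one ⟨3582, 1, 4⟩) (.one ⟨8867, 2, 5⟩)) (.node 1 (.one ⟨8870, 2, 2⟩) (.one ⟨1047, 2, 4⟩))) (.node 2 (.node 1 (.one ⟨900, 2, 2⟩) (.one ⟨572, 2, 4⟩)) (.node 1 (.one ⟨387, 2, 5⟩) (.one ⟨16168, 0, 3⟩)))))) (.node 16 (.node 8 (.node 4 (.node 2 (.node 1 (.one ⟨14500, 0, 3⟩) (.one ⟨1919, 2, 5⟩)) (.node 1 (.one ⟨16078, 0, 3⟩) (.one ⟨4292, 0, 3⟩))) (.node 2 (.node 1 (.one ⟨1585, 0, 3⟩) (.one ⟨6647, 2, 5⟩)) (.node 1 (.one ⟨4230, 0, 3⟩) (.one ⟨9429, 1, 1⟩)))) (.node 4 (.node 2 (.node 1 (.one ⟨9556, 1, 1⟩) (.one ⟨1377, 1, 1⟩)) (.node 1 (.one ⟨1442, 1, 1⟩) (.one ⟨12694, 2, 5⟩))) (.node 2 (.node 1 (.one ⟨2615, 2, 4⟩) (.one ⟨10763, 2, 4⟩)) (.node 1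 (.one ⟨4758, 2, 5⟩) (.one ⟨3014, 2, 6⟩))))) (.node 8 (.node 4 (.node 2 (.node 1 (.one ⟨1846, 2, 6⟩) (.one ⟨4191, 2, 5⟩)) (.node 1 (.one ⟨4131, 0, 1⟩) (.one ⟨7148, 2, 5⟩))) (.node 2 (.node 1 (.one ⟨1305, 0, 1⟩) (.one ⟨7727, 2, 5⟩)) (.node 1 (.one ⟨4840, 0, 4⟩) (.one ⟨13118, 2, 4⟩)))) (.node 4 (.node 2 (.node 1 (.one ⟨1343, 1, 4⟩) (.one ⟨10111, 2, 6⟩)) (.node 1 (.one ⟨73, 1, 1⟩) (.one ⟨9874, 2, 5⟩))) (.node 2 (.node 1 (.one ⟨14249, 0, 3⟩) (.one ⟨13380, 2, 4⟩)) (.node 1 (.one ⟨9079, 2, 6⟩) (.one ⟨604, 2, 3⟩)))))))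
def par6_4_3 : Arr Par :=
  (.node 32 (.node 16 (.node 8 (.node 4 (.node 2 (.node 1 (.one ⟨9878, 2, 5⟩) (.one ⟨15164, 0, 4⟩)) (.node 1 (.one ⟨12453, 0, 4⟩) (.one ⟨12422, 0, 4⟩))) (.node 2 (.node 1 (.one ⟨1499, 2, 2⟩) (.one ⟨1788, 2, 5⟩)) (.node 1 (.one ⟨9477, 2, 4⟩) (.one ⟨12952, 0, 4⟩)))) (.node 4 (.node 2 (.node 1 (.one ⟨10519, 2, 3⟩) (.one ⟨5238, 2, 5⟩)) (.node 1 (.one ⟨14541, 2, 5⟩) (.one ⟨16810, 2, 4⟩))) (.node 2 (.node 1 (.one ⟨126, 2, 4⟩) (.one ⟨12798, 2, 5⟩)) (.node 1 (.one ⟨6110, 2, 5⟩) (.one ⟨595, 2, 3⟩))))) (.node 8 (.node 4 (.node 2 (.node 1 (.one ⟨9213, 2, 4⟩) (.one ⟨4829, 0, 4⟩)) (.node 1 (.one ⟨16772, 2, 3⟩) (.one ⟨1415, 0, 4⟩))) (.node 2 (.node 1 (.one ⟨8720, 2, 3⟩) (.one ⟨13053, 1, 4⟩)) (.node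 1 (.one ⟨15211, 1, 1⟩) (.one ⟨4415, 2, 5⟩)))) (.node 4 (.node 2 (.node 1 (.one ⟨16763, 2, 5⟩) (.one ⟨9237, 2, 1⟩)) (.node 1 (.one ⟨7231, 2, 4⟩) (.one ⟨10500, 0, 3⟩))) (.node 2 (.node 1 (.one ⟨12561, 2, 5⟩) (.one ⟨15274, 2, 2⟩)) (.node 1 (.one ⟨1659, 2, 4⟩) (.one ⟨17059, 1, 2⟩)))))) (.node 16 (.node 8 (.node 4 (.node 2 (.node 1 (.one ⟨5477, 0, 4⟩) (.one ⟨12559, 2, 5⟩)) (.node 1 (.one ⟨16423, 2, 3⟩) (.one ⟨3290, 2, 5⟩))) (.node 2 (.node 1 (.one ⟨7106, 2, 5⟩) (.one ⟨11676, 2, 5⟩)) (.node 1 (.one ⟨15780, 2, 5⟩) (.one ⟨12954, 0, 3⟩)))) (.node 4 (.node 2 (.node 1 (.one ⟨12447, 2, 3⟩) (.one ⟨3592, 1, 4⟩)) (.node 1 (.one ⟨3735, 0, 3⟩) (.one ⟨4375, 2, 4⟩))) (.node 2 (.node 1 (.one ⟨13860, 0, 3⟩) (.one ⟨6950, 0, 3⟩))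 (.node 1 (.one ⟨14565, 0, 4⟩) (.one ⟨11448, 1, 3⟩))))) (.node 8 (.node 4 (.node 2 (.node 1 (.one ⟨9526, 2, 3⟩) (.one ⟨14027, 2, 4⟩)) (.node 1 (.one ⟨5113, 0, 4⟩) (.one ⟨5638, 0, 5⟩))) (.node 2 (.node 1 (.one ⟨611, 2, 1⟩) (.one ⟨6062, 2, 5⟩)) (.node 1 (.one ⟨1325, 2, 5⟩) (.one ⟨571, 2, 2⟩)))) (.node 4 (.node 2 (.node 1 (.one ⟨1549, 2, 1⟩) (.one ⟨4104, 2, 6⟩)) (.node 1 (.one ⟨640, 0, 2⟩) (.one ⟨16774, 2, 4⟩))) (.node 2 (.node 1 (.one ⟨10409, 0, 2⟩) (.one ⟨15595, 2, 6⟩)) (.node 1 (.one ⟨6039, 1, 2⟩) (.one ⟨13559, 0, 4⟩)))))))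
def par6_4_4 : Arr Par :=
  (.node 32 (.node 16 (.node 8 (.node 4 (.node 2 (.node 1 (.one ⟨3048, 2, 2⟩) (.one ⟨12150, 2, 2⟩)) (.node 1 (.one ⟨13474, 2, 5⟩) (.one ⟨15121, 2, 5⟩))) (.node 2 (.node 1 (.one ⟨13739, 2, 4⟩) (.one ⟨9016, 2, 3⟩)) (.node 1 (.one ⟨8131, 2, 3⟩) (.one ⟨10135, 2, 2⟩)))) (.node 4 (.node 2 (.node 1 (.one ⟨16927, 0, 3⟩) (.one ⟨8802, 0, 4⟩)) (.node 1 (.one ⟨16895, 0, 3⟩) (.one ⟨16911, 0, 3⟩))) (.node 2 (.node 1 (.one ⟨15101, 1, 4⟩) (.one ⟨17011, 2, 5⟩)) (.node 1 (.one ⟨14092, 2, 2⟩) (.one ⟨14086, 2, 5⟩))))) (.node 8 (.node 4 (.node 2 (.node 1 (.one ⟨7471, 2, 3⟩) (.one ⟨5544, 0, 2⟩)) (.node 1 (.one ⟨4182, 0, 2⟩) (.one ⟨16253, 0, 1⟩))) (.node 2 (.node 1 (.one ⟨10239, 2, 3⟩) (.one ⟨134, 0, 5⟩))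 (.node 1 (.one ⟨2836, 0, 2⟩) (.one ⟨3462, 2, 3⟩)))) (.node 4 (.node 2 (.node 1 (.one ⟨14831, 2, 5⟩) (.one ⟨16584, 2, 6⟩)) (.node 1 (.one ⟨5162, 2, 5⟩) (.one ⟨7908, 2, 3⟩))) (.node 2 (.node 1 (.one ⟨11998, 2, 3⟩) (.one ⟨10674, 2, 3⟩)) (.node 1 (.one ⟨3346, 0, 3⟩) (.one ⟨2844, 0, 4⟩)))))) (.node 16 (.node 8 (.node 4 (.node 2 (.node 1 (.one ⟨12746, 2, 5⟩) (.one ⟨349, 0, 4⟩)) (.node 1 (.one ⟨2841, 0, 5⟩) (.one ⟨12745, 2, 4⟩))) (.node 2 (.node 1 (.one ⟨603, 2, 1⟩) (.one ⟨2842, 0, 2⟩)) (.node 1 (.one ⟨565, 0, 4⟩) (.one ⟨1721, 2, 4⟩)))) (.node 4 (.node 2 (.node 1 (.one ⟨5505, 2, 2⟩) (.one ⟨9581, 0, 4⟩)) (.node 1 (.one ⟨14440, 2, 5⟩) (.one ⟨15021, 0, 4⟩))) (.node 2 (.node 1 (.one ⟨10776, 2, 3⟩) (.one ⟨12328, 0, 4⟩))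 (.node 1 (.one ⟨4159, 0, 4⟩) (.one ⟨14354, 2, 3⟩))))) (.node 8 (.node 4 (.node 2 (.node 1 (.one ⟨14259, 2, 3⟩) (.one ⟨3489, 2, 3⟩)) (.node 1 (.one ⟨3443, 2, 1⟩) (.one ⟨15091, 2, 3⟩))) (.node 2 (.node 1 (.one ⟨15139, 2, 2⟩) (.one ⟨506, 2, 3⟩)) (.node 1 (.one ⟨1449, 2, 1⟩) (.one ⟨14873, 2, 5⟩)))) (.node 4 (.node 2 (.node 1 (.one ⟨11368, 1, 1⟩) (.one ⟨382, 0, 3⟩)) (.node 1 (.one ⟨11166, 2, 6⟩) (.one ⟨15557, 0, 3⟩))) (.node 2 (.node 1 (.one ⟨15108, 2, 3⟩) (.one ⟨10881, 2, 3⟩)) (.node 1 (.one ⟨16263, 1, 1⟩) (.one ⟨13746, 0, 4⟩)))))))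
def par6_4_5 : Arr Par :=
  (.node 32 (.node 16 (.node 8 (.node 4 (.node 2 (.node 1 (.one ⟨9495, 0, 4⟩) (.one ⟨4101, 2, 3⟩)) (.node 1 (.one ⟨15572, 2, 5⟩) (.one ⟨14129, 2, 4⟩))) (.node 2 (.node 1 (.one ⟨3401, 0, 2⟩) (.one ⟨15561, 0, 4⟩)) (.node 1 (.one ⟨11479, 0, 3⟩) (.one ⟨14343, 0, 4⟩)))) (.node 4 (.node 2 (.node 1 (.one ⟨57, 1, 2⟩) (.one ⟨11985, 2, 5⟩)) (.node 1 (.one ⟨4790, 1, 4⟩) (.one ⟨8419, 2, 4⟩))) (.node 2 (.node 1 (.one ⟨15184, 2, 1⟩) (.one ⟨9722, 2, 4⟩)) (.node 1 (.one ⟨3956, 2, 6⟩) (.one ⟨8850, 0, 5⟩))))) (.node 8 (.node 4 (.node 2 (.node 1 (.one ⟨9193, 0, 4⟩) (.one ⟨14736, 2, 3⟩)) (.node 1 (.one ⟨2635, 2, 5⟩) (.one ⟨7346, 2, 3⟩))) (.node 2 (.node 1 (.one ⟨7758, 1, 3⟩) (.one ⟨6376, 0, 5⟩)) (.node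 1 (.one ⟨5509, 2, 3⟩) (.one ⟨3978, 2, 5⟩)))) (.node 4 (.node 2 (.node 1 (.one ⟨9675, 2, 4⟩) (.one ⟨8176, 2, 5⟩)) (.node 1 (.one ⟨13907, 2, 5⟩) (.one ⟨4593, 0, 4⟩))) (.node 2 (.node 1 (.one ⟨15220, 2, 5⟩) (.one ⟨12827, 0, 4⟩)) (.node 1 (.one ⟨11436, 2, 5⟩) (.one ⟨15646, 1, 3⟩)))))) (.node 16 (.node 8 (.node 4 (.node 2 (.node 1 (.one ⟨8494, 1, 3⟩) (.one ⟨1579, 0, 2⟩)) (.node 1 (.one ⟨2315, 1, 4⟩) (.one ⟨8815, 1, 3⟩))) (.node 2 (.node 1 (.one ⟨935, 2, 4⟩) (.one ⟨14862, 0, 3⟩)) (.node 1 (.one ⟨15938, 2, 4⟩) (.one ⟨5446, 1, 2⟩)))) (.node 4 (.node 2 (.node 1 (.one ⟨15146, 2, 6⟩) (.one ⟨1497, 0, 1⟩)) (.node 1 (.one ⟨10227, 2, 3⟩) (.one ⟨9531, 2, 5⟩))) (.node 2 (.node 1 (.one ⟨2963, 2, 5⟩) (.one ⟨9986, 0, 3⟩)) (.node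 1 (.one ⟨6052, 2, 5⟩) (.one ⟨9015, 2, 5⟩))))) (.node 8 (.node 4 (.node 2 (.node 1 (.one ⟨2779, 2, 2⟩) (.one ⟨8745, 2, 2⟩)) (.node 1 (.one ⟨1765, 1, 3⟩) (.one ⟨11675, 2, 2⟩))) (.node 2 (.node 1 (.one ⟨14586, 2, 4⟩) (.one ⟨11981, 2, 2⟩)) (.node 1 (.one ⟨14184, 2, 2⟩) (.one ⟨13136, 1, 3⟩)))) (.node 4 (.node 2 (.node 1 (.one ⟨6039, 2, 2⟩) (.one ⟨9107, 0, 5⟩)) (.node 1 (.one ⟨880, 2, 4⟩) (.one ⟨12731, 2, 2⟩))) (.node 2 (.node 1 (.one ⟨14435, 2, 3⟩) (.one ⟨5963, 0, 4⟩)) (.node 1 (.one ⟨5465, 0, 2⟩) (.one ⟨7902, 0, 2⟩)))))))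
def par6_4_6 : Arr Par :=
  (.node 32 (.node 16 (.node 8 (.node 4 (.node 2 (.node 1 (.one ⟨1760, 1, 3⟩) (.one ⟨76, 2, 4⟩)) (.node 1 (.one ⟨1989, 0, 3⟩) (.one ⟨6747, 0, 3⟩))) (.node 2 (.node 1 (.one ⟨6751, 0, 3⟩) (.one ⟨7711, 2, 4⟩)) (.node 1 (.one ⟨16333, 2, 5⟩) (.one ⟨3284, 0, 3⟩)))) (.node 4 (.node 2 (.node 1 (.one ⟨961, 1, 4⟩) (.one ⟨16834, 0, 3⟩)) (.node 1 (.one ⟨15603, 0, 1⟩) (.one ⟨1296, 0, 3⟩))) (.node 2 (.node 1 (.one ⟨11033, 2, 2⟩) (.one ⟨15904, 0, 3⟩)) (.node 1 (.one ⟨7121, 2, 5⟩) (.one ⟨4064, 0, 4⟩))))) (.node 8 (.node 4 (.node 2 (.node 1 (.one ⟨3977, 2, 4⟩) (.one ⟨7557, 2, 4⟩)) (.node 1 (.one ⟨11634, 0, 4⟩) (.one ⟨4205, 0, 4⟩))) (.node 2 (.node 1 (.one ⟨9380, 2, 3⟩) (.one ⟨13, 0, 1⟩)) (.node 1 (.one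 ⟨11697, 0, 4⟩) (.one ⟨3983, 2, 5⟩)))) (.node 4 (.node 2 (.node 1 (.one ⟨10742, 0, 4⟩) (.one ⟨10760, 0, 2⟩)) (.node 1 (.one ⟨14418, 2, 4⟩) (.one ⟨10863, 2, 5⟩))) (.node 2 (.node 1 (.one ⟨1225, 0, 1⟩) (.one ⟨218, 0, 4⟩)) (.node 1 (.one ⟨8370, 2, 4⟩) (.one ⟨863, 1, 2⟩)))))) (.node 16 (.node 8 (.node 4 (.node 2 (.node 1 (.one ⟨4085, 1, 4⟩) (.one ⟨4298, 1, 0⟩)) (.node 1 (.one ⟨13171, 2, 5⟩) (.one ⟨3967, 1, 3⟩))) (.node 2 (.node 1 (.one ⟨1762, 1, 3⟩) (.one ⟨12498, 1, 3⟩)) (.node 1 (.one ⟨9969, 1, 3⟩) (.one ⟨10440, 1, 4⟩)))) (.node 4 (.node 2 (.node 1 (.one ⟨4872, 2, 3⟩) (.one ⟨3700, 2, 3⟩)) (.node 1 (.one ⟨13543, 2, 5⟩) (.one ⟨2979, 2, 5⟩))) (.node 2 (.node 1 (.one ⟨10682, 2, 5⟩) (.one ⟨11204, 2, 4⟩)) (.node 1 (.one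 ⟨1818, 2, 4⟩) (.one ⟨7757, 2, 3⟩))))) (.node 8 (.node 4 (.node 2 (.node 1 (.one ⟨3960, 0, 4⟩) (.one ⟨7690, 0, 4⟩)) (.node 1 (.one ⟨5035, 2, 2⟩) (.one ⟨2008, 1, 0⟩))) (.node 2 (.node 1 (.one ⟨720, 1, 0⟩) (.one ⟨5230, 2, 6⟩)) (.node 1 (.one ⟨309, 2, 3⟩) (.one ⟨10079, 2, 5⟩)))) (.node 4 (.node 2 (.node 1 (.one ⟨6010, 2, 5⟩) (.one ⟨11510, 0, 4⟩)) (.node 1 (.one ⟨3493, 0, 3⟩) (.one ⟨13176, 2, 2⟩))) (.node 2 (.node 1 (.one ⟨8930, 2, 2⟩) (.one ⟨1648, 2, 4⟩)) (.node 1 (.one ⟨13794, 2, 4⟩) (.one ⟨6651, 1, 5⟩)))))))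
def par6_4_7 : Arr Par :=
  (.node 32 (.node 16 (.node 8 (.node 4 (.node 2 (.node 1 (.one ⟨15308, 1, 5⟩) (.one ⟨13255, 2, 4⟩)) (.node 1 (.one ⟨3023, 2, 4⟩) (.one ⟨16449, 0, 5⟩))) (.node 2 (.node 1 (.one ⟨8792, 0, 5⟩) (.one ⟨3407, 2, 4⟩)) (.node 1 (.one ⟨12959, 2, 4⟩) (.one ⟨7179, 2, 4⟩)))) (.node 4 (.node 2 (.node 1 (.one ⟨7176, 2, 3⟩) (.one ⟨7178, 2, 3⟩)) (.node 1 (.one ⟨11514, 0, 4⟩) (.one ⟨10832, 0, 3⟩))) (.node 2 (.node 1 (.one ⟨719, 2, 5⟩) (.one ⟨950, 2, 1⟩)) (.node 1 (.one ⟨505, 2, 4⟩) (.one ⟨16114, 0, 3⟩))))) (.node 8 (.node 4 (.node 2 (.node 1 (.one ⟨11090, 0, 3⟩) (.one ⟨6224, 2, 5⟩)) (.node 1 (.one ⟨14311, 2, 5⟩) (.one ⟨1277, 0, 4⟩))) (.node 2 (.node 1 (.one ⟨8438, 0, 4⟩) (.one ⟨12339, 2, 4⟩)) (.node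 1 (.one ⟨9139, 1, 4⟩) (.one ⟨12190, 2, 4⟩)))) (.node 4 (.node 2 (.node 1 (.one ⟨16727, 2, 4⟩) (.one ⟨8800, 2, 6⟩)) (.node 1 (.one ⟨6166, 0, 3⟩) (.one ⟨8264, 2, 4⟩))) (.node 2 (.node 1 (.one ⟨4712, 2, 5⟩) (.one ⟨13601, 2, 4⟩)) (.node 1 (.one ⟨15857, 2, 2⟩) (.one ⟨5169, 2, 5⟩)))))) (.node 16 (.node 8 (.node 4 (.node 2 (.node 1 (.one ⟨7944, 0, 2⟩) (.one ⟨7420, 2, 3⟩)) (.node 1 (.one ⟨16125, 0, 5⟩) (.one ⟨6960, 0, 5⟩))) (.node 2 (.node 1 (.one ⟨5782, 2, 5⟩) (.one ⟨6789, 1, 4⟩)) (.node 1 (.one ⟨9810, 0, 4⟩) (.one ⟨14713, 2, 2⟩)))) (.node 4 (.node 2 (.node 1 (.one ⟨2148, 0, 3⟩) (.one ⟨11511, 0, 4⟩)) (.node 1 (.one ⟨1927, 2, 5⟩) (.one ⟨9459, 2, 4⟩))) (.node 2 (.node 1 (.one ⟨14048, 1, 3⟩) (.one ⟨11302, 0, 4⟩)) (.node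 1 (.one ⟨2082, 0, 2⟩) (.one ⟨12106, 2, 5⟩))))) (.node 8 (.node 4 (.node 2 (.node 1 (.one ⟨6347, 2, 3⟩) (.one ⟨4670, 2, 3⟩)) (.node 1 (.one ⟨15124, 0, 4⟩) (.one ⟨14821, 2, 4⟩))) (.node 2 (.node 1 (.one ⟨4857, 2, 5⟩) (.one ⟨6238, 2, 2⟩)) (.node 1 (.one ⟨3539, 0, 4⟩) (.one ⟨2246, 1, 5⟩)))) (.node 4 (.node 2 (.node 1 (.one ⟨13244, 0, 2⟩) (.one ⟨13176, 1, 2⟩)) (.node 1 (.one ⟨9663, 2, 3⟩) (.one ⟨13871, 0, 3⟩))) (.node 2 (.node 1 (.one ⟨1557, 2, 3⟩) (.one ⟨7009, 2, 5⟩)) (.node 1 (.one ⟨4002, 0, 5⟩) (.one ⟨3795, 2, 2⟩)))))))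
def par6_4_8 : Arr Par :=
  (.node 32 (.node 16 (.node 8 (.node 4 (.node 2 (.node 1 (.one ⟨5432, 2, 2⟩) (.one ⟨15994, 2, 2⟩)) (.node 1 (.one ⟨17197, 2, 2⟩) (.one ⟨1938, 0, 4⟩))) (.node 2 (.node 1 (.one ⟨7470, 2, 4⟩) (.one ⟨9276, 2, 6⟩)) (.node 1 (.one ⟨5270, 0, 4⟩) (.one ⟨3743, 2, 5⟩)))) (.node 4 (.node 2 (.node 1 (.one ⟨12446, 2, 5⟩) (.one ⟨631, 2, 4⟩)) (.node 1 (.one ⟨10289, 2, 5⟩) (.one ⟨10695, 0, 3⟩))) (.node 2 (.node 1 (.one ⟨4854, 0, 3⟩) (.one ⟨10379, 2, 4⟩)) (.node 1 (.one ⟨1634, 2, 3⟩) (.one ⟨5049, 2, 5⟩))))) (.node 8 (.node 4 (.node 2 (.node 1 (.one ⟨1751, 0, 2⟩) (.one ⟨2272, 2, 4⟩)) (.node 1 (.one ⟨5613, 2, 5⟩) (.one ⟨2669, 0, 2⟩))) (.node 2 (.node 1 (.one ⟨11588, 0, 2⟩) (.one ⟨2320, 0, 2⟩)) (.node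 1 (.one ⟨11768, 0, 2⟩) (.one ⟨15282, 2, 4⟩)))) (.node 4 (.node 2 (.node 1 (.one ⟨14801, 2, 2⟩) (.one ⟨4930, 1, 4⟩)) (.node 1 (.one ⟨6760, 2, 2⟩) (.one ⟨1974, 2, 2⟩))) (.node 2 (.node 1 (.one ⟨2525, 2, 5⟩) (.one ⟨10062, 2, 2⟩)) (.node 1 (.one ⟨6677, 1, 3⟩) (.one ⟨4467, 0, 3⟩)))))) (.node 16 (.node 8 (.node 4 (.node 2 (.node 1 (.one ⟨12618, 2, 4⟩) (.one ⟨9118, 2, 4⟩)) (.node 1 (.one ⟨5876, 0, 5⟩) (.one ⟨14854, 2, 5⟩))) (.node 2 (.node 1 (.one ⟨3780, 1, 0⟩) (.one ⟨7500, 0, 4⟩)) (.node 1 (.one ⟨3448, 2, 3⟩) (.one ⟨17112, 2, 3⟩)))) (.node 4 (.node 2 (.node 1 (.one ⟨4235, 0, 3⟩) (.one ⟨12976, 2, 5⟩)) (.node 1 (.one ⟨303, 2, 4⟩) (.one ⟨5401, 1, 3⟩))) (.node 2 (.node 1 (.one ⟨2208, 0, 2⟩) (.one ⟨9351, 2, 1⟩)) (.node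 1 (.one ⟨4936, 2, 5⟩) (.one ⟨2206, 0, 4⟩))))) (.node 8 (.node 4 (.node 2 (.node 1 (.one ⟨3646, 0, 4⟩) (.one ⟨14098, 0, 4⟩)) (.node 1 (.one ⟨2264, 2, 4⟩) (.one ⟨11675, 0, 2⟩))) (.node 2 (.node 1 (.one ⟨9307, 0, 1⟩) (.one ⟨4412, 2, 4⟩)) (.node 1 (.one ⟨2855, 2, 3⟩) (.one ⟨14801, 1, 2⟩)))) (.node 4 (.node 2 (.node 1 (.one ⟨13317, 2, 4⟩) (.one ⟨5719, 2, 3⟩)) (.node 1 (.one ⟨17179, 2, 4⟩) (.one ⟨8709, 2, 5⟩))) (.node 2 (.node 1 (.one ⟨14332, 2, 4⟩) (.one ⟨4731, 2, 4⟩)) (.node 1 (.one ⟨9942, 0, 2⟩) (.one ⟨11468, 2, 5⟩)))))))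
def par6_4_9 : Arr Par :=
  (.node 32 (.node 16 (.node 8 (.node 4 (.node 2 (.node 1 (.one ⟨526, 2, 5⟩) (.one ⟨11464, 2, 4⟩)) (.node 1 (.one ⟨1030, 2, 5⟩) (.one ⟨5155, 0, 3⟩))) (.node 2 (.node 1 (.one ⟨816, 2, 5⟩) (.one ⟨11470, 2, 4⟩)) (.node 1 (.one ⟨286, 2, 5⟩) (.one ⟨10128, 2, 5⟩)))) (.node 4 (.node 2 (.node 1 (.one ⟨14269, 2, 3⟩) (.one ⟨13666, 2, 4⟩)) (.node 1 (.one ⟨10675, 2, 4⟩) (.one ⟨14942, 2, 4⟩))) (.node 2 (.node 1 (.one ⟨681, 1, 0⟩) (.one ⟨10820, 2, 4⟩)) (.node 1 (.one ⟨15569, 2, 4⟩) (.one ⟨15348, 0, 3⟩))))) (.node 8 (.node 4 (.node 2 (.node 1 (.one ⟨13196, 0, 1⟩) (.one ⟨818, 2, 5⟩)) (.node 1 (.one ⟨284, 2, 5⟩) (.one ⟨3837, 2, 6⟩))) (.node 2 (.node 1 (.one ⟨3833, 2, 6⟩) (.one ⟨787, 2, 5⟩)) (.node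 1 (.one ⟨12645, 0, 4⟩) (.one ⟨1726, 2, 5⟩)))) (.node 4 (.node 2 (.node 1 (.one ⟨4549, 2, 5⟩) (.one ⟨12856, 2, 4⟩)) (.node 1 (.one ⟨9141, 2, 1⟩) (.one ⟨6619, 2, 5⟩))) (.node 2 (.node 1 (.one ⟨7817, 2, 5⟩) (.one ⟨8480, 0, 5⟩)) (.node 1 (.one ⟨14846, 2, 5⟩) (.one ⟨7655, 2, 5⟩)))))) (.node 16 (.node 8 (.node 4 (.node 2 (.node 1 (.one ⟨5361, 2, 5⟩) (.one ⟨16029, 2, 5⟩)) (.node 1 (.one ⟨1493, 0, 1⟩) (.one ⟨16482, 0, 3⟩))) (.node 2 (.node 1 (.one ⟨7585, 0, 2⟩) (.one ⟨15157, 2, 5⟩)) (.node 1 (.one ⟨9985, 2, 5⟩) (.one ⟨3641, 0, 4⟩)))) (.node 4 (.node 2 (.node 1 (.one ⟨4476, 0, 4⟩) (.one ⟨9416, 1, 1⟩)) (.node 1 (.one ⟨6399, 2, 4⟩) (.one ⟨4259, 2, 4⟩))) (.node 2 (.node 1 (.one ⟨11672, 0, 4⟩) (.one ⟨10618, 0, 4⟩)) (.node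 1 (.one ⟨10118, 0, 4⟩) (.one ⟨1216, 2, 6⟩))))) (.node 8 (.node 4 (.node 2 (.node 1 (.one ⟨7650, 2, 4⟩) (.one ⟨16022, 0, 3⟩)) (.node 1 (.one ⟨14717, 2, 2⟩) (.one ⟨4706, 0, 2⟩))) (.node 2 (.node 1 (.one ⟨7463, 2, 5⟩) (.one ⟨10494, 2, 2⟩)) (.node 1 (.one ⟨16178, 2, 6⟩) (.one ⟨7233, 2, 2⟩)))) (.node 4 (.node 2 (.node 1 (.one ⟨4287, 2, 4⟩) (.one ⟨5066, 2, 4⟩)) (.node 1 (.one ⟨16828, 0, 3⟩) (.one ⟨14122, 0, 3⟩))) (.node 2 (.node 1 (.one ⟨9386, 2, 3⟩) (.one ⟨11044, 2, 2⟩)) (.node 1 (.one ⟨15904, 1, 3⟩) (.one ⟨14513, 1, 3⟩)))))))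
def par6_4_10 : Arr Par :=
  (.node 32 (.node 16 (.node 8 (.node 4 (.node 2 (.node 1 (.one ⟨1631, 2, 5⟩) (.one ⟨14613, 2, 2⟩)) (.node 1 (.one ⟨16190, 0, 4⟩) (.one ⟨14471, 2, 3⟩))) (.node 2 (.node 1 (.one ⟨15858, 0, 5⟩) (.one ⟨1477, 0, 4⟩)) (.node 1 (.one ⟨14717, 0, 2⟩) (.one ⟨9689, 2, 3⟩)))) (.node 4 (.node 2 (.node 1 (.one ⟨12929, 2, 3⟩) (.one ⟨5248, 0, 4⟩)) (.node 1 (.one ⟨5893, 1, 4⟩) (.one ⟨13415, 2, 1⟩))) (.node 2 (.node 1 (.one ⟨10759, 2, 1⟩) (.one ⟨7023, 2, 3⟩)) (.node 1 (.one ⟨7872, 2, 1⟩) (.one ⟨8147, 2, 3⟩))))) (.node 8 (.node 4 (.node 2 (.node 1 (.one ⟨17099, 2, 3⟩) (.one ⟨10311, 2, 1⟩)) (.node 1 (.one ⟨16543, 1, 4⟩) (.one ⟨9627, 2, 3⟩))) (.node 2 (.node 1 (.one ⟨2995, 2, 1⟩) (.one ⟨7728, 2, 3⟩))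 (.node 1 (.one ⟨3194, 0, 4⟩) (.one ⟨1306, 2, 6⟩)))) (.node 4 (.node 2 (.node 1 (.one ⟨1516, 2, 5⟩) (.one ⟨3792, 2, 5⟩)) (.node 1 (.one ⟨3771, 2, 6⟩) (.one ⟨10475, 2, 6⟩))) (.node 2 (.node 1 (.one ⟨10434, 2, 5⟩) (.one ⟨12301, 2, 5⟩)) (.node 1 (.one ⟨12319, 2, 6⟩) (.one ⟨11163, 1, 3⟩)))))) (.node 16 (.node 8 (.node 4 (.node 2 (.node 1 (.one ⟨1278, 0, 4⟩) (.one ⟨11035, 2, 2⟩)) (.node 1 (.one ⟨4903, 0, 4⟩) (.one ⟨3069, 0, 4⟩))) (.node 2 (.node 1 (.one ⟨4307, 2, 5⟩) (.one ⟨3706, 0, 5⟩)) (.node 1 (.one ⟨4879, 0, 4⟩) (.one ⟨5631, 2, 2⟩)))) (.node 4 (.node 2 (.node 1 (.one ⟨11121, 2, 4⟩) (.one ⟨12617, 2, 5⟩)) (.node 1 (.one ⟨8103, 2, 3⟩) (.one ⟨10607, 2, 5⟩))) (.node 2 (.node 1 (.one ⟨7363, 2, 4⟩) (.one ⟨14352, 0,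 3⟩)) (.node 1 (.one ⟨12088, 2, 4⟩) (.one ⟨6959, 2, 5⟩))))) (.node 8 (.node 4 (.node 2 (.node 1 (.one ⟨5888, 1, 2⟩) (.one ⟨16447, 0, 4⟩)) (.node 1 (.one ⟨776, 0, 4⟩) (.one ⟨4584, 2, 4⟩))) (.node 2 (.node 1 (.one ⟨1041, 1, 4⟩) (.one ⟨16897, 2, 3⟩)) (.node 1 (.one ⟨12898, 0, 3⟩) (.one ⟨2720, 2, 3⟩)))) (.node 4 (.node 2 (.node 1 (.one ⟨5808, 0, 2⟩) (.one ⟨11612, 2, 6⟩)) (.node 1 (.one ⟨12906, 2, 4⟩) (.one ⟨3022, 2, 4⟩))) (.node 2 (.node 1 (.one ⟨2014, 2, 3⟩) (.one ⟨13265, 2, 5⟩)) (.node 1 (.one ⟨1676, 0, 2⟩) (.one ⟨2939, 0, 3⟩)))))))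
def par6_4_11 : Arr Par :=
  (.node 32 (.node 16 (.node 8 (.node 4 (.node 2 (.node 1 (.one ⟨6025, 2, 5⟩) (.one ⟨4856, 2, 4⟩)) (.node 1 (.one ⟨10931, 0, 3⟩) (.one ⟨13039, 2, 3⟩))) (.node 2 (.node 1 (.one ⟨1234, 1, 4⟩) (.one ⟨1354, 1, 4⟩)) (.node 1 (.one ⟨13937, 2, 3⟩) (.one ⟨4964, 2, 3⟩)))) (.node 4 (.node 2 (.node 1 (.one ⟨289, 0, 0⟩) (.one ⟨2453, 2, 5⟩)) (.node 1 (.one ⟨11196, 2, 5⟩) (.one ⟨1023, 2, 2⟩))) (.node 2 (.node 1 (.one ⟨10861, 2, 4⟩) (.one ⟨6354, 1, 5⟩)) (.node 1 (.one ⟨12305, 2, 2⟩) (.one ⟨717, 2, 3⟩))))) (.node 8 (.node 4 (.node 2 (.node 1 (.one ⟨846, 2, 3⟩) (.one ⟨189, 2, 3⟩)) (.node 1 (.one ⟨9256, 0, 4⟩) (.one ⟨2087, 2, 4⟩))) (.node 2 (.node 1 (.one ⟨14262, 0, 3⟩) (.one ⟨11225, 0, 3⟩)) (.node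 1 (.one ⟨2094, 2, 5⟩) (.one ⟨14593, 2, 5⟩)))) (.node 4 (.node 2 (.node 1 (.one ⟨11645, 2, 3⟩) (.one ⟨11951, 2, 5⟩)) (.node 1 (.one ⟨14158, 2, 2⟩) (.one ⟨2948, 1, 4⟩))) (.node 2 (.node 1 (.one ⟨17093, 2, 5⟩) (.one ⟨16782, 2, 3⟩)) (.node 1 (.one ⟨11253, 2, 5⟩) (.one ⟨8289, 2, 5⟩)))))) (.node 16 (.node 8 (.node 4 (.node 2 (.node 1 (.one ⟨8159, 2, 4⟩) (.one ⟨6485, 1, 3⟩)) (.node 1 (.one ⟨1612, 2, 1⟩) (.one ⟨5184, 2, 3⟩))) (.node 2 (.node 1 (.one ⟨5314, 2, 6⟩) (.one ⟨6627, 2, 5⟩)) (.node 1 (.one ⟨7012, 2, 5⟩) (.one ⟨14410, 2, 3⟩)))) (.node 4 (.node 2 (.node 1 (.one ⟨11244, 2, 3⟩) (.one ⟨6781, 2, 3⟩)) (.node 1 (.one ⟨12091, 0, 4⟩) (.one ⟨1993, 2, 5⟩))) (.node 2 (.node 1 (.one ⟨6915, 2, 3⟩) (.one ⟨11493, 2, 4⟩)) (.node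 1 (.one ⟨5708, 0, 4⟩) (.one ⟨14495, 2, 2⟩))))) (.node 8 (.node 4 (.node 2 (.node 1 (.one ⟨16472, 2, 3⟩) (.one ⟨16604, 0, 4⟩)) (.node 1 (.one ⟨1032, 1, 0⟩) (.one ⟨4782, 1, 0⟩))) (.node 2 (.node 1 (.one ⟨1832, 1, 0⟩) (.one ⟨8811, 2, 3⟩)) (.node 1 (.one ⟨5808, 2, 2⟩) (.one ⟨10083, 2, 4⟩)))) (.node 4 (.node 2 (.node 1 (.one ⟨2012, 2, 3⟩) (.one ⟨1458, 0, 4⟩)) (.node 1 (.one ⟨8472, 0, 4⟩) (.one ⟨4217, 0, 4⟩))) (.node 2 (.node 1 (.one ⟨14787, 2, 4⟩) (.one ⟨15312, 2, 2⟩)) (.node 1 (.one ⟨16572, 0, 3⟩) (.one ⟨6943, 2, 4⟩)))))))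
def par6_4_12 : Arr Par :=
  (.node 32 (.node 16 (.node 8 (.node 4 (.node 2 (.node 1 (.one ⟨8252, 0, 5⟩) (.one ⟨15655, 2, 4⟩)) (.node 1 (.one ⟨16012, 0, 5⟩) (.one ⟨16519, 2, 4⟩))) (.node 2 (.node 1 (.one ⟨15307, 1, 5⟩) (.one ⟨8786, 2, 4⟩)) (.node 1 (.one ⟨6620, 1, 5⟩) (.one ⟨5931, 0, 3⟩)))) (.node 4 (.node 2 (.node 1 (.one ⟨4713, 0, 2⟩) (.one ⟨16631, 1, 4⟩)) (.node 1 (.one ⟨9262, 2, 5⟩) (.one ⟨3801, 0, 4⟩))) (.node 2 (.node 1 (.one ⟨6899, 0, 2⟩) (.one ⟨6787, 1, 4⟩)) (.node 1 (.one ⟨3691, 1, 5⟩) (.one ⟨5227, 0, 3⟩))))) (.node 8 (.node 4 (.node 2 (.node 1 (.one ⟨11247, 2, 5⟩) (.one ⟨1831, 2, 3⟩)) (.node 1 (.one ⟨6301, 2, 5⟩) (.one ⟨11491, 0, 3⟩))) (.node 2 (.node 1 (.one ⟨2849, 2, 5⟩) (.one ⟨10352, 2, 3⟩)) (.node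 1 (.one ⟨13755, 2, 5⟩) (.one ⟨4638, 2, 4⟩)))) (.node 4 (.node 2 (.node 1 (.one ⟨12541, 0, 4⟩) (.one ⟨10557, 2, 5⟩)) (.node 1 (.one ⟨12051, 0, 4⟩) (.one ⟨13941, 0, 4⟩))) (.node 2 (.node 1 (.one ⟨1446, 2, 1⟩) (.one ⟨10885, 2, 5⟩)) (.node 1 (.one ⟨13363, 2, 4⟩) (.one ⟨10230, 1, 4⟩)))))) (.node 16 (.node 8 (.node 4 (.node 2 (.node 1 (.one ⟨9552, 0, 1⟩) (.one ⟨447, 2, 4⟩)) (.node 1 (.one ⟨448, 2, 5⟩) (.one ⟨446, 2, 4⟩))) (.node 2 (.node 1 (.one ⟨449, 2, 4⟩) (.one ⟨6378, 2, 5⟩)) (.node 1 (.one ⟨5225, 0, 4⟩) (.one ⟨6614, 2, 3⟩)))) (.node 4 (.node 2 (.node 1 (.one ⟨3613, 0, 4⟩) (.one ⟨9601, 0, 1⟩)) (.node 1 (.one ⟨3539, 1, 4⟩) (.one ⟨2806, 2, 4⟩))) (.node 2 (.node 1 (.one ⟨13253, 2, 5⟩) (.one ⟨2362, 1, 4⟩)) (.node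 1 (.one ⟨5224, 0, 4⟩) (.one ⟨6793, 2, 5⟩))))) (.node 8 (.node 4 (.node 2 (.node 1 (.one ⟨790, 2, 4⟩) (.one ⟨6792, 2, 4⟩)) (.node 1 (.one ⟨2343, 0, 3⟩) (.one ⟨11564, 0, 3⟩))) (.node 2 (.node 1 (.one ⟨6798, 2, 2⟩) (.one ⟨541, 2, 4⟩)) (.node 1 (.one ⟨3803, 0, 4⟩) (.one ⟨4608, 0, 3⟩)))) (.node 4 (.node 2 (.node 1 (.one ⟨14385, 0, 3⟩) (.one ⟨11906, 0, 3⟩)) (.node 1 (.one ⟨13175, 2, 3⟩) (.one ⟨16971, 0, 3⟩))) (.node 2 (.node 1 (.one ⟨10295, 2, 5⟩) (.one ⟨8270, 0, 3⟩)) (.node 1 (.one ⟨16383, 2, 4⟩) (.one ⟨16391, 0, 1⟩)))))))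
def par6_4_13 : Arr Par :=
  (.node 32 (.node 16 (.node 8 (.node 4 (.node 2 (.node 1 (.one ⟨15427, 0, 4⟩) (.one ⟨10492, 0, 3⟩)) (.node 1 (.one ⟨13448, 0, 3⟩) (.one ⟨10436, 2, 1⟩))) (.node 2 (.node 1 (.one ⟨14865, 0, 3⟩) (.one ⟨9777, 0, 4⟩)) (.node 1 (.one ⟨13053, 0, 4⟩) (.one ⟨10993, 2, 4⟩)))) (.node 4 (.node 2 (.node 1 (.one ⟨7733, 2, 4⟩) (.one ⟨1608, 0, 4⟩)) (.node 1 (.one ⟨1950, 0, 3⟩) (.one ⟨6803, 2, 3⟩))) (.node 2 (.node 1 (.one ⟨4304, 0, 5⟩) (.one ⟨12254, 0, 3⟩)) (.node 1 (.one ⟨8731, 2, 3⟩) (.one ⟨6710, 2, 3⟩))))) (.node 8 (.node 4 (.node 2 (.node 1 (.one ⟨510, 2, 4⟩) (.one ⟨16326, 0, 4⟩)) (.node 1 (.one ⟨9551, 0, 4⟩) (.one ⟨12799, 0, 2⟩))) (.node 2 (.node 1 (.one ⟨1577, 2, 2⟩) (.one ⟨15106, 0, 3⟩))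 (.node 1 (.one ⟨10320, 1, 3⟩) (.one ⟨16325, 0, 3⟩)))) (.node 4 (.node 2 (.node 1 (.one ⟨3418, 2, 4⟩) (.one ⟨3156, 2, 5⟩)) (.node 1 (.one ⟨4850, 2, 1⟩) (.one ⟨2910, 0, 4⟩))) (.node 2 (.node 1 (.one ⟨3560, 2, 4⟩) (.one ⟨3693, 2, 3⟩)) (.node 1 (.one ⟨2688, 2, 4⟩) (.one ⟨9637, 0, 5⟩)))))) (.node 16 (.node 8 (.node 4 (.node 2 (.node 1 (.one ⟨328, 0, 4⟩) (.one ⟨3857, 2, 2⟩)) (.node 1 (.one ⟨6988, 2, 3⟩) (.one ⟨1660, 0, 4⟩))) (.node 2 (.node 1 (.one ⟨15215, 2, 2⟩) (.one ⟨4539, 0, 3⟩)) (.node 1 (.one ⟨15540, 2, 4⟩) (.one ⟨12670, 2, 5⟩)))) (.node 4 (.node 2 (.node 1 (.one ⟨6764, 2, 2⟩) (.one ⟨14591, 2, 6⟩)) (.node 1 (.one ⟨4504, 2, 5⟩) (.one ⟨16630, 2, 5⟩))) (.node 2 (.node 1 (.one ⟨3045, 2, 6⟩) (.one ⟨10368, 2, 5⟩))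 (.node 1 (.one ⟨8216, 2, 6⟩) (.one ⟨17136, 2, 4⟩))))) (.node 8 (.node 4 (.node 2 (.node 1 (.one ⟨15847, 0, 3⟩) (.one ⟨778, 2, 3⟩)) (.node 1 (.one ⟨10998, 1, 1⟩) (.one ⟨2906, 1, 2⟩))) (.node 2 (.node 1 (.one ⟨17141, 2, 5⟩) (.one ⟨17137, 2, 4⟩)) (.node 1 (.one ⟨103, 2, 5⟩) (.one ⟨375, 2, 2⟩)))) (.node 4 (.node 2 (.node 1 (.one ⟨12413, 2, 5⟩) (.one ⟨4362, 2, 4⟩)) (.node 1 (.one ⟨9181, 2, 1⟩) (.one ⟨2263, 2, 5⟩))) (.node 2 (.node 1 (.one ⟨7314, 0, 4⟩) (.one ⟨3696, 2, 1⟩)) (.node 1 (.one ⟨10323, 2, 2⟩) (.one ⟨8641, 0, 4⟩)))))))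
def par6_4_14 : Arr Par :=
  (.node 32 (.node 16 (.node 8 (.node 4 (.node 2 (.node 1 (.one ⟨7453, 0, 2⟩) (.one ⟨13357, 0, 2⟩)) (.node 1 (.one ⟨11081, 0, 2⟩) (.one ⟨4404, 2, 3⟩))) (.node 2 (.node 1 (.one ⟨7166, 2, 5⟩) (.one ⟨8270, 2, 3⟩)) (.node 1 (.one ⟨3364, 2, 3⟩) (.one ⟨1399, 1, 5⟩)))) (.node 4 (.node 2 (.node 1 (.one ⟨1552, 2, 5⟩) (.one ⟨9500, 2, 2⟩)) (.node 1 (.one ⟨10171, 2, 4⟩) (.one ⟨582, 1, 1⟩))) (.node 2 (.node 1 (.one ⟨1363, 2, 4⟩) (.one ⟨9383, 2, 4⟩)) (.node 1 (.one ⟨9347, 1, 1⟩) (.one ⟨6699, 1, 3⟩))))) (.node 8 (.node 4 (.node 2 (.node 1 (.one ⟨9775, 0, 2⟩) (.one ⟨216, 1, 0⟩)) (.node 1 (.one ⟨1388, 0, 4⟩) (.one ⟨6593, 0, 3⟩))) (.node 2 (.node 1 (.one ⟨15209, 0, 4⟩) (.one ⟨7178, 1, 3⟩)) (.node 1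 (.one ⟨7397, 0, 3⟩) (.one ⟨2009, 0, 4⟩)))) (.node 4 (.node 2 (.node 1 (.one ⟨6300, 0, 3⟩) (.one ⟨4138, 0, 3⟩)) (.node 1 (.one ⟨7907, 0, 3⟩) (.one ⟨8699, 0, 3⟩))) (.node 2 (.node 1 (.one ⟨5146, 0, 3⟩) (.one ⟨7380, 0, 3⟩)) (.node 1 (.one ⟨2869, 0, 3⟩) (.one ⟨9358, 1, 4⟩)))))) (.node 16 (.node 8 (.node 4 (.node 2 (.node 1 (.one ⟨2420, 1, 4⟩) (.one ⟨4925, 1, 4⟩)) (.node 1 (.one ⟨13541, 1, 1⟩) (.one ⟨10382, 2, 5⟩))) (.node 2 (.node 1 (.one ⟨7179, 1, 4⟩) (.one ⟨7997, 1, 5⟩)) (.node 1 (.one ⟨16366, 1, 4⟩) (.one ⟨11076, 1, 3⟩)))) (.node 4 (.node 2 (.node 1 (.one ⟨7612, 0, 2⟩) (.one ⟨14408, 2, 3⟩)) (.node 1 (.one ⟨7319, 2, 4⟩) (.one ⟨1612, 0, 1⟩))) (.node 2 (.node 1 (.one ⟨12892, 1, 4⟩) (.one ⟨16662, 1, 4⟩)) (.node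 1 (.one ⟨10832, 2, 3⟩) (.one ⟨8351, 0, 4⟩))))) (.node 8 (.node 4 (.node 2 (.node 1 (.one ⟨15155, 2, 5⟩) (.one ⟨3442, 2, 3⟩)) (.node 1 (.one ⟨7721, 2, 5⟩) (.one ⟨14830, 2, 5⟩))) (.node 2 (.node 1 (.one ⟨12275, 2, 3⟩) (.one ⟨8208, 2, 5⟩)) (.node 1 (.one ⟨2952, 2, 3⟩) (.one ⟨14527, 2, 5⟩)))) (.node 4 (.node 2 (.node 1 (.one ⟨1319, 2, 4⟩) (.one ⟨17111, 2, 4⟩)) (.node 1 (.one ⟨4588, 2, 4⟩) (.one ⟨1666, 2, 5⟩))) (.node 2 (.node 1 (.one ⟨14600, 2, 4⟩) (.one ⟨4725, 2, 3⟩)) (.node 1 (.one ⟨395, 1, 4⟩) (.one ⟨12291, 1, 5⟩)))))))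
def par6_4_15 : Arr Par :=
  (.node 32 (.node 16 (.node 8 (.node 4 (.node 2 (.node 1 (.one ⟨1635, 2, 5⟩) (.one ⟨8308, 1, 2⟩)) (.node 1 (.one ⟨8271, 1, 1⟩) (.one ⟨1661, 1, 4⟩))) (.node 2 (.node 1 (.one ⟨10376, 2, 3⟩) (.one ⟨4538, 2, 4⟩)) (.node 1 (.one ⟨13714, 1, 4⟩) (.one ⟨11892, 2, 4⟩)))) (.node 4 (.node 2 (.node 1 (.one ⟨12920, 2, 4⟩) (.one ⟨14775, 2, 2⟩)) (.node 1 (.one ⟨12244, 0, 3⟩) (.one ⟨8563, 2, 4⟩))) (.node 2 (.node 1 (.one ⟨7672, 2, 5⟩) (.one ⟨58, 2, 2⟩)) (.node 1 (.one ⟨2970, 2, 2⟩) (.one ⟨1206, 1, 1⟩))))) (.node 8 (.node 4 (.node 2 (.node 1 (.one ⟨588, 0, 1⟩) (.one ⟨9630, 0, 5⟩)) (.node 1 (.one ⟨16397, 1, 1⟩) (.one ⟨3102, 2, 5⟩))) (.node 2 (.node 1 (.one ⟨12480, 2, 4⟩) (.one ⟨589, 0, 1⟩)) (.node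 1 (.one ⟨9379, 1, 1⟩) (.one ⟨3476, 1, 2⟩)))) (.node 4 (.node 2 (.node 1 (.one ⟨668, 2, 2⟩) (.one ⟨9574, 2, 4⟩)) (.node 1 (.one ⟨1696, 2, 4⟩) (.one ⟨9050, 0, 4⟩))) (.node 2 (.node 1 (.one ⟨4151, 2, 5⟩) (.one ⟨5819, 0, 2⟩)) (.node 1 (.one ⟨4398, 2, 5⟩) (.one ⟨14027, 0, 4⟩)))))) (.node 16 (.node 8 (.node 4 (.node 2 (.node 1 (.one ⟨15132, 1, 4⟩) (.one ⟨6860, 1, 3⟩)) (.node 1 (.one ⟨7288, 2, 6⟩) (.one ⟨1606, 2, 3⟩))) (.node 2 (.node 1 (.one ⟨9636, 2, 5⟩) (.one ⟨10714, 0, 3⟩)) (.node 1 (.one ⟨12887, 1, 4⟩) (.one ⟨9488, 0, 4⟩)))) (.node 4 (.node 2 (.node 1 (.one ⟨7840, 2, 4⟩) (.one ⟨7843, 2, 4⟩)) (.node 1 (.one ⟨7841, 2, 6⟩) (.one ⟨55, 2, 3⟩))) (.node 2 (.node 1 (.one ⟨8229, 0, 4⟩) (.one ⟨784, 0, 4⟩)) (.node 1 (.one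 ⟨5104, 0, 4⟩) (.one ⟨13893, 1, 2⟩))))) (.node 8 (.node 4 (.node 2 (.node 1 (.one ⟨3340, 2, 3⟩) (.one ⟨3337, 2, 5⟩)) (.node 1 (.one ⟨4234, 1, 0⟩) (.one ⟨3338, 2, 4⟩))) (.node 2 (.node 1 (.one ⟨10869, 0, 4⟩) (.one ⟨122, 2, 5⟩)) (.node 1 (.one ⟨3339, 2, 3⟩) (.one ⟨11969, 0, 4⟩)))) (.node 4 (.node 2 (.node 1 (.one ⟨9563, 0, 2⟩) (.one ⟨10244, 2, 3⟩)) (.node 1 (.one ⟨11677, 2, 5⟩) (.one ⟨3645, 2, 4⟩))) (.node 2 (.node 1 (.one ⟨11601, 0, 4⟩) (.one ⟨13752, 2, 4⟩)) (.node 1 (.one ⟨16048, 2, 4⟩) (.one ⟨12613, 2, 5⟩)))))))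
def par6_4 : Arr Par :=
  (.node 512 (.node 256 (.node 128 (.node 64 par6_4_0 par6_4_1) (.node 64 par6_4_2 par6_4_3)) (.node 128 (.node 64 par6_4_4 par6_4_5) (.node 64 par6_4_6 par6_4_7))) (.node 256 (.node 128 (.node 64 par6_4_8 par6_4_9) (.node 64 par6_4_10 par6_4_11)) (.node 128 (.node 64 par6_4_12 par6_4_13) (.node 64 par6_4_14 par6_4_15))))
def par6_5_0 : Arr Par :=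
  (.node 32 (.node 16 (.node 8 (.node 4 (.node 2 (.node 1 (.one ⟨5426, 2, 4⟩) (.one ⟨12132, 2, 5⟩)) (.node 1 (.one ⟨14769, 0, 4⟩) (.one ⟨2595, 2, 2⟩))) (.node 2 (.node 1 (.one ⟨9897, 2, 4⟩) (.one ⟨11025, 0, 4⟩)) (.node 1 (.one ⟨14989, 0, 3⟩) (.one ⟨16976, 2, 5⟩)))) (.node 4 (.node 2 (.node 1 (.one ⟨5701, 2, 4⟩) (.one ⟨7137, 2, 5⟩)) (.node 1 (.one ⟨12484, 1, 1⟩) (.one ⟨585, 0, 1⟩))) (.node 2 (.node 1 (.one ⟨584, 0, 1⟩) (.one ⟨9389, 1, 1⟩)) (.node 1 (.one ⟨587, 0, 1⟩) (.one ⟨15871, 1, 3⟩))))) (.node 8 (.node 4 (.node 2 (.node 1 (.one ⟨6420, 2, 4⟩) (.one ⟨14388, 2, 3⟩)) (.node 1 (.one ⟨4781, 2, 4⟩) (.one ⟨12023, 0, 5⟩))) (.node 2 (.node 1 (.one ⟨2692, 0, 3⟩) (.one ⟨1638, 2, 4⟩)) (.node 1 (.one ⟨15878, 1, 2⟩) (.one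 ⟨14868, 0, 3⟩)))) (.node 4 (.node 2 (.node 1 (.one ⟨9091, 1, 4⟩) (.one ⟨6452, 1, 4⟩)) (.node 1 (.one ⟨12145, 2, 2⟩) (.one ⟨14258, 0, 5⟩))) (.node 2 (.node 1 (.one ⟨16386, 0, 3⟩) (.one ⟨11227, 1, 4⟩)) (.node 1 (.one ⟨12723, 2, 5⟩) (.one ⟨8345, 2, 5⟩)))))) (.node 16 (.node 8 (.node 4 (.node 2 (.node 1 (.one ⟨8589, 0, 4⟩) (.one ⟨15814, 2, 4⟩)) (.node 1 (.one ⟨10767, 2, 4⟩) (.one ⟨16821, 2, 2⟩))) (.node 2 (.node 1 (.one ⟨11024, 2, 4⟩) (.one ⟨16030, 1, 2⟩)) (.node 1 (.one ⟨3267, 2, 3⟩) (.one ⟨1479, 0, 4⟩)))) (.node 4 (.node 2 (.node 1 (.one ⟨3800, 0, 4⟩) (.one ⟨7458, 2, 3⟩)) (.node 1 (.one ⟨7629, 0, 4⟩) (.one ⟨16391, 1, 1⟩))) (.node 2 (.node 1 (.one ⟨1297, 2, 3⟩) (.one ⟨1542, 2, 5⟩)) (.node 1 (.one ⟨9550, 2, 4⟩)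 (.one ⟨6967, 0, 3⟩))))) (.node 8 (.node 4 (.node 2 (.node 1 (.one ⟨4983, 2, 3⟩) (.one ⟨6510, 0, 4⟩)) (.node 1 (.one ⟨14320, 2, 5⟩) (.one ⟨7144, 2, 6⟩))) (.node 2 (.node 1 (.one ⟨3345, 0, 3⟩) (.one ⟨7279, 0, 3⟩)) (.node 1 (.one ⟨11409, 2, 3⟩) (.one ⟨201, 0, 5⟩)))) (.node 4 (.node 2 (.node 1 (.one ⟨16882, 0, 4⟩) (.one ⟨13382, 2, 4⟩)) (.node 1 (.one ⟨17013, 2, 5⟩) (.one ⟨7650, 0, 4⟩))) (.node 2 (.node 1 (.one ⟨11213, 0, 4⟩) (.one ⟨3703, 0, 4⟩)) (.node 1 (.one ⟨16416, 2, 5⟩) (.one ⟨1856, 2, 4⟩)))))))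
def par6_5_1 : Arr Par :=
  (.node 32 (.node 16 (.node 8 (.node 4 (.node 2 (.node 1 (.one ⟨4266, 2, 2⟩) (.one ⟨13109, 0, 2⟩)) (.node 1 (.one ⟨9052, 2, 4⟩) (.one ⟨10414, 0, 2⟩))) (.node 2 (.node 1 (.one ⟨12908, 2, 4⟩) (.one ⟨12802, 0, 2⟩)) (.node 1 (.one ⟨15866, 2, 4⟩) (.one ⟨12892, 0, 4⟩)))) (.node 4 (.node 2 (.node 1 (.one ⟨9615, 2, 3⟩) (.one ⟨9503, 2, 5⟩)) (.node 1 (.one ⟨8587, 1, 3⟩) (.one ⟨14478, 2, 5⟩))) (.node 2 (.node 1 (.one ⟨1138, 2, 5⟩) (.one ⟨2, 2, 3⟩)) (.node 1 (.one ⟨14470, 2, 2⟩) (.one ⟨2825, 2, 2⟩))))) (.node 8 (.node 4 (.node 2 (.node 1 (.one ⟨14706, 1, 4⟩) (.one ⟨117, 0, 4⟩)) (.node 1 (.one ⟨196, 1, 4⟩) (.one ⟨9233, 2, 5⟩))) (.node 2 (.node 1 (.one ⟨4294, 2, 5⟩) (.one ⟨7227, 2, 6⟩)) (.node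 1 (.one ⟨16615, 2, 2⟩) (.one ⟨15447, 2, 3⟩)))) (.node 4 (.node 2 (.node 1 (.one ⟨3527, 0, 4⟩) (.one ⟨11509, 2, 4⟩)) (.node 1 (.one ⟨16050, 2, 5⟩) (.one ⟨10619, 2, 4⟩))) (.node 2 (.node 1 (.one ⟨13106, 0, 3⟩) (.one ⟨1975, 1, 3⟩)) (.node 1 (.one ⟨12755, 2, 5⟩) (.one ⟨3179, 2, 4⟩)))))) (.node 16 (.node 8 (.node 4 (.node 2 (.node 1 (.one ⟨16781, 2, 3⟩) (.one ⟨2421, 2, 6⟩)) (.node 1 (.one ⟨15928, 2, 3⟩) (.one ⟨13624, 2, 4⟩))) (.node 2 (.node 1 (.one ⟨4505, 2, 3⟩) (.one ⟨14813, 2, 4⟩)) (.node 1 (.one ⟨5401, 2, 3⟩) (.one ⟨3247, 2, 4⟩)))) (.node 4 (.node 2 (.node 1 (.one ⟨10761, 2, 3⟩) (.one ⟨6479, 2, 3⟩)) (.node 1 (.one ⟨2958, 0, 2⟩) (.one ⟨13893, 2, 2⟩))) (.node 2 (.node 1 (.one ⟨6982, 2, 4⟩) (.one ⟨11038, 2, 2⟩))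 (.node 1 (.one ⟨4565, 0, 5⟩) (.one ⟨1372, 0, 4⟩))))) (.node 8 (.node 4 (.node 2 (.node 1 (.one ⟨10313, 2, 1⟩) (.one ⟨2017, 0, 3⟩)) (.node 1 (.one ⟨14904, 2, 5⟩) (.one ⟨8569, 2, 5⟩))) (.node 2 (.node 1 (.one ⟨3069, 1, 4⟩) (.one ⟨3944, 2, 2⟩)) (.node 1 (.one ⟨11741, 2, 4⟩) (.one ⟨1406, 2, 4⟩)))) (.node 4 (.node 2 (.node 1 (.one ⟨8923, 0, 4⟩) (.one ⟨9240, 2, 5⟩)) (.node 1 (.one ⟨8852, 0, 3⟩) (.one ⟨2580, 2, 4⟩))) (.node 2 (.node 1 (.one ⟨9588, 2, 3⟩) (.one ⟨10561, 2, 4⟩)) (.node 1 (.one ⟨63, 2, 3⟩) (.one ⟨4305, 2, 5⟩)))))))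
def par6_5_2 : Arr Par :=
  (.node 32 (.node 16 (.node 8 (.node 4 (.node 2 (.node 1 (.one ⟨15554, 2, 3⟩) (.one ⟨11127, 2, 6⟩)) (.node 1 (.one ⟨3738, 0, 3⟩) (.one ⟨5189, 2, 3⟩))) (.node 2 (.node 1 (.one ⟨14952, 0, 2⟩) (.one ⟨9502, 2, 1⟩)) (.node 1 (.one ⟨8483, 2, 2⟩) (.one ⟨3449, 1, 4⟩)))) (.node 4 (.node 2 (.node 1 (.one ⟨3772, 0, 5⟩) (.one ⟨15631, 2, 5⟩)) (.node 1 (.one ⟨16376, 0, 3⟩) (.one ⟨4850, 0, 1⟩))) (.node 2 (.node 1 (.one ⟨10542, 0, 3⟩) (.one ⟨16844, 0, 5⟩)) (.node 1 (.one ⟨5671, 0, 3⟩) (.one ⟨14391, 2, 3⟩))))) (.node 8 (.node 4 (.node 2 (.node 1 (.one ⟨7170, 2, 5⟩) (.one ⟨9897, 0, 4⟩)) (.node 1 (.one ⟨11644, 2, 5⟩) (.one ⟨6800, 2, 5⟩))) (.node 2 (.node 1 (.one ⟨15857, 0, 2⟩) (.one ⟨12038, 2, 2⟩))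 (.node 1 (.one ⟨5268, 2, 3⟩) (.one ⟨2458, 2, 3⟩)))) (.node 4 (.node 2 (.node 1 (.one ⟨15495, 2, 5⟩) (.one ⟨14724, 2, 5⟩)) (.node 1 (.one ⟨1477, 2, 4⟩) (.one ⟨5310, 0, 2⟩))) (.node 2 (.node 1 (.one ⟨17187, 2, 5⟩) (.one ⟨16802, 2, 4⟩)) (.node 1 (.one ⟨1539, 0, 5⟩) (.one ⟨3478, 2, 6⟩)))))) (.node 16 (.node 8 (.node 4 (.node 2 (.node 1 (.one ⟨15150, 2, 6⟩) (.one ⟨2225, 1, 0⟩)) (.node 1 (.one ⟨16477, 1, 5⟩) (.one ⟨3912, 0, 4⟩))) (.node 2 (.node 1 (.one ⟨2790, 2, 4⟩) (.one ⟨11609, 2, 2⟩)) (.node 1 (.one ⟨8162, 2, 6⟩) (.one ⟨2777, 2, 5⟩)))) (.node 4 (.node 2 (.node 1 (.one ⟨10363, 0, 2⟩) (.one ⟨13924, 2, 5⟩)) (.node 1 (.one ⟨4958, 2, 5⟩) (.one ⟨11445, 0, 4⟩))) (.node 2 (.node 1 (.one ⟨9076, 1, 3⟩) (.one ⟨11245, 0,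 4⟩)) (.node 1 (.one ⟨14767, 2, 3⟩) (.one ⟨2423, 1, 2⟩))))) (.node 8 (.node 4 (.node 2 (.node 1 (.one ⟨7307, 2, 4⟩) (.one ⟨7291, 2, 3⟩)) (.node 1 (.one ⟨7324, 2, 4⟩) (.one ⟨35, 2, 3⟩))) (.node 2 (.node 1 (.one ⟨1167, 2, 4⟩) (.one ⟨1249, 2, 1⟩)) (.node 1 (.one ⟨1135, 2, 5⟩) (.one ⟨6754, 0, 3⟩)))) (.node 4 (.node 2 (.node 1 (.one ⟨3766, 1, 2⟩) (.one ⟨7484, 0, 1⟩)) (.node 1 (.one ⟨10698, 0, 1⟩) (.one ⟨3767, 0, 5⟩))) (.node 2 (.node 1 (.one ⟨5122, 2, 5⟩) (.one ⟨3908, 0, 4⟩)) (.node 1 (.one ⟨16949, 0, 1⟩) (.one ⟨3107, 2, 4⟩)))))))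
def par6_5_3 : Arr Par :=
  (.node 32 (.node 16 (.node 8 (.node 4 (.node 2 (.node 1 (.one ⟨17168, 2, 5⟩) (.one ⟨6097, 2, 5⟩)) (.node 1 (.one ⟨12444, 2, 5⟩) (.one ⟨15309, 2, 5⟩))) (.node 2 (.node 1 (.one ⟨4802, 2, 4⟩) (.one ⟨10377, 2, 4⟩)) (.node 1 (.one ⟨7753, 2, 4⟩) (.one ⟨4395, 1, 5⟩)))) (.node 4 (.node 2 (.node 1 (.one ⟨211, 2, 3⟩) (.one ⟨639, 2, 3⟩)) (.node 1 (.one ⟨15879, 0, 4⟩) (.one ⟨6902, 0, 3⟩))) (.node 2 (.node 1 (.one ⟨10188, 2, 4⟩) (.one ⟨10184, 2, 3⟩)) (.node 1 (.one ⟨15604, 0, 3⟩) (.one ⟨10972, 0, 3⟩))))) (.node 8 (.node 4 (.node 2 (.node 1 (.one ⟨2144, 1, 3⟩) (.one ⟨10916, 0, 4⟩)) (.node 1 (.one ⟨9305, 0, 4⟩) (.one ⟨7004, 0, 3⟩))) (.node 2 (.node 1 (.one ⟨5936, 0, 4⟩) (.one ⟨6692, 0, 3⟩)) (.node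 1 (.one ⟨10411, 2, 2⟩) (.one ⟨14618, 2, 2⟩)))) (.node 4 (.node 2 (.node 1 (.one ⟨5070, 0, 3⟩) (.one ⟨17140, 0, 3⟩)) (.node 1 (.one ⟨14090, 0, 4⟩) (.one ⟨2198, 0, 3⟩))) (.node 2 (.node 1 (.one ⟨5513, 0, 3⟩) (.one ⟨16981, 2, 5⟩)) (.node 1 (.one ⟨2036, 2, 2⟩) (.one ⟨9443, 2, 5⟩)))))) (.node 16 (.node 8 (.node 4 (.node 2 (.node 1 (.one ⟨14867, 1, 1⟩) (.one ⟨16781, 1, 3⟩)) (.node 1 (.one ⟨67, 2, 1⟩) (.one ⟨11642, 1, 3⟩))) (.node 2 (.node 1 (.one ⟨12346, 2, 4⟩) (.one ⟨4366, 2, 3⟩)) (.node 1 (.one ⟨2408, 0, 3⟩) (.one ⟨12130, 0, 1⟩)))) (.node 4 (.node 2 (.node 1 (.one ⟨5140, 0, 4⟩) (.one ⟨1540, 0, 1⟩)) (.node 1 (.one ⟨1340, 2, 5⟩) (.one ⟨7952, 2, 5⟩))) (.node 2 (.node 1 (.one ⟨11170, 0, 5⟩) (.one ⟨10718, 2, 5⟩)) (.node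 1 (.one ⟨15171, 2, 5⟩) (.one ⟨13343, 2, 4⟩))))) (.node 8 (.node 4 (.node 2 (.node 1 (.one ⟨9387, 0, 4⟩) (.one ⟨11535, 2, 4⟩)) (.node 1 (.one ⟨4833, 2, 4⟩) (.one ⟨15225, 1, 5⟩))) (.node 2 (.node 1 (.one ⟨12699, 0, 5⟩) (.one ⟨15305, 1, 5⟩)) (.node 1 (.one ⟨6650, 1, 5⟩) (.one ⟨12501, 0, 3⟩)))) (.node 4 (.node 2 (.node 1 (.one ⟨247, 0, 0⟩) (.one ⟨8733, 0, 2⟩)) (.node 1 (.one ⟨393, 2, 4⟩) (.one ⟨15842, 0, 3⟩))) (.node 2 (.node 1 (.one ⟨6102, 2, 3⟩) (.one ⟨12226, 2, 5⟩)) (.node 1 (.one ⟨15295, 0, 3⟩) (.one ⟨1451, 2, 4⟩)))))))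
def par6_5_4 : Arr Par :=
  (.node 32 (.node 16 (.node 8 (.node 4 (.node 2 (.node 1 (.one ⟨9428, 2, 2⟩) (.one ⟨3441, 2, 4⟩)) (.node 1 (.one ⟨4570, 0, 4⟩) (.one ⟨11549, 2, 5⟩))) (.node 2 (.node 1 (.one ⟨3494, 2, 5⟩) (.one ⟨4032, 0, 4⟩)) (.node 1 (.one ⟨66, 2, 1⟩) (.one ⟨10330, 2, 5⟩)))) (.node 4 (.node 2 (.node 1 (.one ⟨9285, 2, 1⟩) (.one ⟨5891, 2, 4⟩)) (.node 1 (.one ⟨3701, 0, 4⟩) (.one ⟨5271, 2, 4⟩))) (.node 2 (.node 1 (.one ⟨4851, 2, 1⟩) (.one ⟨3926, 0, 4⟩)) (.node 1 (.one ⟨16825, 2, 5⟩) (.one ⟨9237, 1, 1⟩))))) (.node 8 (.node 4 (.node 2 (.node 1 (.one ⟨9491, 2, 4⟩) (.one ⟨1561, 2, 4⟩)) (.node 1 (.one ⟨8231, 2, 3⟩) (.one ⟨7851, 0, 2⟩))) (.node 2 (.node 1 (.one ⟨9192, 2, 4⟩) (.one ⟨71, 2, 1⟩)) (.node 1 (.one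 ⟨8181, 2, 5⟩) (.one ⟨11440, 2, 5⟩)))) (.node 4 (.node 2 (.node 1 (.one ⟨6984, 2, 5⟩) (.one ⟨12692, 0, 2⟩)) (.node 1 (.one ⟨701, 0, 1⟩) (.one ⟨14317, 2, 3⟩))) (.node 2 (.node 1 (.one ⟨1043, 2, 4⟩) (.one ⟨7939, 2, 4⟩)) (.node 1 (.one ⟨12443, 2, 5⟩) (.one ⟨5126, 0, 4⟩)))))) (.node 16 (.node 8 (.node 4 (.node 2 (.node 1 (.one ⟨1210, 0, 4⟩) (.one ⟨150, 2, 4⟩)) (.node 1 (.one ⟨7468, 0, 4⟩) (.one ⟨7450, 0, 3⟩))) (.node 2 (.node 1 (.one ⟨7821, 0, 4⟩) (.one ⟨716, 2, 5⟩)) (.node 1 (.one ⟨366, 2, 6⟩) (.one ⟨10275, 1, 4⟩)))) (.node 4 (.node 2 (.node 1 (.one ⟨459, 0, 3⟩) (.one ⟨6359, 2, 4⟩)) (.node 1 (.one ⟨7810, 0, 3⟩) (.one ⟨16036, 1, 4⟩))) (.node 2 (.node 1 (.one ⟨11042, 0, 3⟩) (.one ⟨8730, 0, 3⟩)) (.node 1 (.one ⟨3947,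 2, 5⟩) (.one ⟨8149, 2, 5⟩))))) (.node 8 (.node 4 (.node 2 (.node 1 (.one ⟨13001, 2, 2⟩) (.one ⟨2331, 2, 4⟩)) (.node 1 (.one ⟨1009, 0, 3⟩) (.one ⟨2072, 2, 3⟩))) (.node 2 (.node 1 (.one ⟨15164, 2, 4⟩) (.one ⟨7962, 2, 2⟩)) (.node 1 (.one ⟨305, 0, 4⟩) (.one ⟨15865, 2, 4⟩)))) (.node 4 (.node 2 (.node 1 (.one ⟨602, 0, 1⟩) (.one ⟨600, 0, 1⟩)) (.node 1 (.one ⟨16933, 2, 5⟩) (.one ⟨11363, 2, 1⟩))) (.node 2 (.node 1 (.one ⟨601, 0, 1⟩) (.one ⟨603, 0, 1⟩)) (.node 1 (.one ⟨9411, 0, 4⟩) (.one ⟨2814, 2, 3⟩)))))))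
def par6_5_5 : Arr Par :=
  (.node 32 (.node 16 (.node 8 (.node 4 (.node 2 (.node 1 (.one ⟨15535, 0, 5⟩) (.one ⟨503, 0, 4⟩)) (.node 1 (.one ⟨14406, 2, 2⟩) (.one ⟨7277, 2, 2⟩))) (.node 2 (.node 1 (.one ⟨15164, 1, 4⟩) (.one ⟨8591, 1, 3⟩)) (.node 1 (.one ⟨9613, 0, 1⟩) (.one ⟨9893, 2, 3⟩)))) (.node 4 (.node 2 (.node 1 (.one ⟨2946, 2, 4⟩) (.one ⟨5450, 2, 4⟩)) (.node 1 (.one ⟨6941, 1, 3⟩) (.one ⟨9564, 0, 4⟩))) (.node 2 (.node 1 (.one ⟨13106, 1, 3⟩) (.one ⟨16993, 1, 3⟩)) (.node 1 (.one ⟨14122, 1, 3⟩) (.one ⟨3416, 2, 4⟩))))) (.node 8 (.node 4 (.node 2 (.node 1 (.one ⟨8023, 2, 4⟩) (.one ⟨14328, 2, 4⟩)) (.node 1 (.one ⟨12664, 2, 6⟩) (.one ⟨2836, 2, 2⟩))) (.node 2 (.node 1 (.one ⟨8222, 2, 5⟩) (.one ⟨7773, 0, 4⟩)) (.node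 1 (.one ⟨14849, 0, 5⟩) (.one ⟨7757, 0, 3⟩)))) (.node 4 (.node 2 (.node 1 (.one ⟨2847, 2, 5⟩) (.one ⟨9454, 2, 1⟩)) (.node 1 (.one ⟨2312, 2, 2⟩) (.one ⟨9973, 0, 3⟩))) (.node 2 (.node 1 (.one ⟨16164, 1, 2⟩) (.one ⟨11153, 0, 3⟩)) (.node 1 (.one ⟨11566, 1, 5⟩) (.one ⟨4207, 0, 2⟩)))))) (.node 16 (.node 8 (.node 4 (.node 2 (.node 1 (.one ⟨8603, 0, 4⟩) (.one ⟨5395, 2, 3⟩)) (.node 1 (.one ⟨9849, 2, 2⟩) (.one ⟨14807, 2, 6⟩))) (.node 2 (.node 1 (.one ⟨8278, 2, 4⟩) (.one ⟨15948, 2, 3⟩)) (.node 1 (.one ⟨7457, 2, 3⟩) (.one ⟨15226, 1, 5⟩)))) (.node 4 (.node 2 (.node 1 (.one ⟨8391, 2, 4⟩) (.one ⟨4290, 0, 5⟩)) (.node 1 (.one ⟨6831, 2, 4⟩) (.one ⟨6387, 0, 4⟩))) (.node 2 (.node 1 (.one ⟨10893, 1, 5⟩) (.one ⟨7527, 2, 4⟩)) (.node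 1 (.one ⟨8045, 0, 5⟩) (.one ⟨14602, 2, 3⟩))))) (.node 8 (.node 4 (.node 2 (.node 1 (.one ⟨1549, 0, 1⟩) (.one ⟨16455, 2, 5⟩)) (.node 1 (.one ⟨5198, 2, 3⟩) (.one ⟨5298, 2, 5⟩))) (.node 2 (.node 1 (.one ⟨13590, 0, 2⟩) (.one ⟨272, 2, 4⟩)) (.node 1 (.one ⟨14465, 2, 3⟩) (.one ⟨16057, 0, 4⟩)))) (.node 4 (.node 2 (.node 1 (.one ⟨14508, 0, 2⟩) (.one ⟨4287, 0, 4⟩)) (.node 1 (.one ⟨1444, 0, 2⟩) (.one ⟨10500, 2, 3⟩))) (.node 2 (.node 1 (.one ⟨17086, 2, 3⟩) (.one ⟨16706, 2, 3⟩)) (.node 1 (.one ⟨9551, 2, 4⟩) (.one ⟨4260, 0, 4⟩)))))))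
def par6_5_6 : Arr Par :=
  (.node 32 (.node 16 (.node 8 (.node 4 (.node 2 (.node 1 (.one ⟨17067, 2, 4⟩) (.one ⟨9201, 0, 1⟩)) (.node 1 (.one ⟨13487, 0, 4⟩) (.one ⟨12806, 2, 5⟩))) (.node 2 (.node 1 (.one ⟨5336, 1, 4⟩) (.one ⟨7666, 1, 2⟩)) (.node 1 (.one ⟨16075, 0, 2⟩) (.one ⟨14401, 2, 2⟩)))) (.node 4 (.node 2 (.node 1 (.one ⟨3158, 2, 2⟩) (.one ⟨14798, 2, 2⟩)) (.node 1 (.one ⟨1536, 2, 6⟩) (.one ⟨6717, 0, 4⟩))) (.node 2 (.node 1 (.one ⟨11763, 0, 5⟩) (.one ⟨5020, 0, 4⟩)) (.node 1 (.one ⟨14702, 2, 2⟩) (.one ⟨2330, 2, 5⟩))))) (.node 8 (.node 4 (.node 2 (.node 1 (.one ⟨2298, 2, 4⟩) (.one ⟨10373, 2, 3⟩)) (.node 1 (.one ⟨5865, 0, 3⟩) (.one ⟨9231, 2, 5⟩))) (.node 2 (.node 1 (.one ⟨9530, 2, 5⟩) (.one ⟨1741, 0, 3⟩)) (.node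 1 (.one ⟨1116, 2, 5⟩) (.one ⟨2484, 2, 4⟩)))) (.node 4 (.node 2 (.node 1 (.one ⟨11910, 2, 2⟩) (.one ⟨4698, 2, 2⟩)) (.node 1 (.one ⟨11378, 2, 2⟩) (.one ⟨11996, 2, 5⟩))) (.node 2 (.node 1 (.one ⟨1779, 2, 3⟩) (.one ⟨10961, 2, 2⟩)) (.node 1 (.one ⟨5502, 2, 5⟩) (.one ⟨1211, 1, 1⟩)))))) (.node 16 (.node 8 (.node 4 (.node 2 (.node 1 (.one ⟨8626, 2, 4⟩) (.one ⟨9398, 0, 4⟩)) (.node 1 (.one ⟨1554, 1, 1⟩) (.one ⟨592, 0, 1⟩))) (.node 2 (.node 1 (.one ⟨2659, 2, 5⟩) (.one ⟨12237, 2, 5⟩)) (.node 1 (.one ⟨594, 0, 1⟩) (.one ⟨10597, 1, 1⟩)))) (.node 4 (.node 2 (.node 1 (.one ⟨13411, 1, 1⟩) (.one ⟨5033, 2, 4⟩)) (.node 1 (.one ⟨13017, 2, 2⟩) (.one ⟨9708, 2, 4⟩))) (.node 2 (.node 1 (.one ⟨4532, 1, 1⟩) (.one ⟨15179, 2, 3⟩)) (.node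 1 (.one ⟨7250, 2, 4⟩) (.one ⟨15310, 2, 4⟩))))) (.node 8 (.node 4 (.node 2 (.node 1 (.one ⟨1501, 1, 2⟩) (.one ⟨4610, 1, 0⟩)) (.node 1 (.one ⟨3668, 2, 5⟩) (.one ⟨3199, 1, 4⟩))) (.node 2 (.node 1 (.one ⟨17172, 2, 5⟩) (.one ⟨990, 2, 5⟩)) (.node 1 (.one ⟨2551, 2, 3⟩) (.one ⟨15256, 2, 4⟩)))) (.node 4 (.node 2 (.node 1 (.one ⟨11554, 1, 4⟩) (.one ⟨15251, 1, 3⟩)) (.node 1 (.one ⟨2405, 0, 3⟩) (.one ⟨194, 2, 4⟩))) (.node 2 (.node 1 (.one ⟨13541, 2, 1⟩) (.one ⟨3348, 2, 3⟩)) (.node 1 (.one ⟨11706, 2, 3⟩) (.one ⟨9293, 2, 1⟩)))))))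
def par6_5_7 : Arr Par :=
  (.node 32 (.node 16 (.node 8 (.node 4 (.node 2 (.node 1 (.one ⟨2388, 0, 4⟩) (.one ⟨2718, 2, 5⟩)) (.node 1 (.one ⟨11218, 0, 5⟩) (.one ⟨4662, 2, 4⟩))) (.node 2 (.node 1 (.one ⟨11398, 2, 4⟩) (.one ⟨13538, 2, 4⟩)) (.node 1 (.one ⟨2958, 2, 2⟩) (.one ⟨198, 2, 4⟩)))) (.node 4 (.node 2 (.node 1 (.one ⟨13349, 2, 3⟩) (.one ⟨15541, 2, 2⟩)) (.node 1 (.one ⟨8107, 2, 4⟩) (.one ⟨10689, 0, 3⟩))) (.node 2 (.node 1 (.one ⟨15773, 2, 4⟩) (.one ⟨10077, 2, 2⟩)) (.node 1 (.one ⟨5388, 2, 2⟩) (.one ⟨8518, 0, 1⟩))))) (.node 8 (.node 4 (.node 2 (.node 1 (.one ⟨3095, 0, 1⟩) (.one ⟨7849, 0, 1⟩)) (.node 1 (.one ⟨7998, 2, 4⟩) (.one ⟨14297, 2, 3⟩))) (.node 2 (.node 1 (.one ⟨5989, 2, 3⟩) (.one ⟨11707, 2, 3⟩)) (.node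 1 (.one ⟨3959, 2, 3⟩) (.one ⟨3488, 0, 3⟩)))) (.node 4 (.node 2 (.node 1 (.one ⟨469, 0, 4⟩) (.one ⟨6514, 0, 4⟩)) (.node 1 (.one ⟨855, 2, 6⟩) (.one ⟨13562, 2, 4⟩))) (.node 2 (.node 1 (.one ⟨7853, 0, 4⟩) (.one ⟨13559, 2, 4⟩)) (.node 1 (.one ⟨4552, 0, 4⟩) (.one ⟨9442, 1, 1⟩)))))) (.node 16 (.node 8 (.node 4 (.node 2 (.node 1 (.one ⟨1191, 1, 1⟩) (.one ⟨2628, 2, 6⟩)) (.node 1 (.one ⟨11865, 0, 3⟩) (.one ⟨12716, 0, 2⟩))) (.node 2 (.node 1 (.one ⟨1698, 2, 2⟩) (.one ⟨4404, 0, 3⟩)) (.node 1 (.one ⟨791, 0, 4⟩) (.one ⟨1123, 1, 1⟩)))) (.node 4 (.node 2 (.node 1 (.one ⟨15260, 2, 4⟩) (.one ⟨11705, 2, 3⟩)) (.node 1 (.one ⟨1677, 1, 3⟩) (.one ⟨5389, 2, 5⟩))) (.node 2 (.node 1 (.one ⟨15109, 0, 3⟩) (.one ⟨17117, 2, 4⟩)) (.node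 1 (.one ⟨5634, 2, 6⟩) (.one ⟨13887, 2, 4⟩))))) (.node 8 (.node 4 (.node 2 (.node 1 (.one ⟨14369, 0, 5⟩) (.one ⟨14353, 0, 3⟩)) (.node 1 (.one ⟨17149, 2, 4⟩) (.one ⟨891, 1, 0⟩))) (.node 2 (.node 1 (.one ⟨5259, 2, 2⟩) (.one ⟨7095, 1, 5⟩)) (.node 1 (.one ⟨14143, 2, 5⟩) (.one ⟨7278, 2, 5⟩)))) (.node 4 (.node 2 (.node 1 (.one ⟨14719, 2, 2⟩) (.one ⟨8153, 2, 5⟩)) (.node 1 (.one ⟨13395, 0, 5⟩) (.one ⟨13922, 2, 5⟩))) (.node 2 (.node 1 (.one ⟨338, 0, 1⟩) (.one ⟨11210, 0, 4⟩)) (.node 1 (.one ⟨3700, 0, 3⟩) (.one ⟨1120, 2, 1⟩)))))))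
def par6_5_8 : Arr Par :=
  (.node 32 (.node 16 (.node 8 (.node 4 (.node 2 (.node 1 (.one ⟨16417, 0, 3⟩) (.one ⟨14036, 0, 5⟩)) (.node 1 (.one ⟨8128, 0, 5⟩) (.one ⟨10427, 0, 5⟩))) (.node 2 (.node 1 (.one ⟨3696, 0, 1⟩) (.one ⟨2550, 0, 5⟩)) (.node 1 (.one ⟨10195, 2, 4⟩) (.one ⟨11032, 0, 2⟩)))) (.node 4 (.node 2 (.node 1 (.one ⟨11038, 0, 2⟩) (.one ⟨546, 0, 3⟩)) (.node 1 (.one ⟨680, 0, 3⟩) (.one ⟨2488, 2, 2⟩))) (.node 2 (.node 1 (.one ⟨11479, 2, 3⟩) (.one ⟨11033, 0, 2⟩)) (.node 1 (.one ⟨11035, 0, 2⟩) (.one ⟨13692, 2, 4⟩))))) (.node 8 (.node 4 (.node 2 (.node 1 (.one ⟨6583, 0, 3⟩) (.one ⟨320, 1, 0⟩)) (.node 1 (.one ⟨9451, 1, 5⟩) (.one ⟨415, 2, 5⟩))) (.node 2 (.node 1 (.one ⟨13691, 2, 3⟩) (.one ⟨13689, 2, 3⟩)) (.node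 1 (.one ⟨752, 2, 4⟩) (.one ⟨12216, 0, 2⟩)))) (.node 4 (.node 2 (.node 1 (.one ⟨1634, 0, 3⟩) (.one ⟨1206, 2, 1⟩)) (.node 1 (.one ⟨8365, 2, 5⟩) (.one ⟨16229, 2, 3⟩))) (.node 2 (.node 1 (.one ⟨12427, 0, 3⟩) (.one ⟨7886, 2, 4⟩)) (.node 1 (.one ⟨17118, 0, 4⟩) (.one ⟨13912, 2, 5⟩)))))) (.node 16 (.node 8 (.node 4 (.node 2 (.node 1 (.one ⟨8035, 2, 2⟩) (.one ⟨11414, 2, 2⟩)) (.node 1 (.one ⟨10357, 0, 4⟩) (.one ⟨6146, 2, 2⟩))) (.node 2 (.node 1 (.one ⟨12841, 0, 4⟩) (.one ⟨3436, 2, 2⟩)) (.node 1 (.one ⟨5066, 0, 4⟩) (.one ⟨4748, 2, 2⟩)))) (.node 4 (.node 2 (.node 1 (.one ⟨13517, 1, 1⟩) (.one ⟨10699, 1, 1⟩)) (.node 1 (.one ⟨12591, 2, 4⟩) (.one ⟨4851, 1, 1⟩))) (.node 2 (.node 1 (.one ⟨15582, 2, 2⟩) (.one ⟨7585, 2, 2⟩)) (.node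 1 (.one ⟨15128, 0, 2⟩) (.one ⟨2068, 1, 0⟩))))) (.node 8 (.node 4 (.node 2 (.node 1 (.one ⟨4399, 1, 0⟩) (.one ⟨1985, 1, 0⟩)) (.node 1 (.one ⟨2310, 1, 2⟩) (.one ⟨10456, 2, 5⟩))) (.node 2 (.node 1 (.one ⟨2557, 2, 5⟩) (.one ⟨10261, 2, 5⟩)) (.node 1 (.one ⟨114, 2, 5⟩) (.one ⟨13135, 0, 5⟩)))) (.node 4 (.node 2 (.node 1 (.one ⟨5539, 2, 2⟩) (.one ⟨11378, 0, 2⟩)) (.node 1 (.one ⟨1431, 1, 1⟩) (.one ⟨6282, 0, 2⟩))) (.node 2 (.node 1 (.one ⟨549, 2, 5⟩) (.one ⟨2624, 2, 4⟩)) (.node 1 (.one ⟨15040, 0, 2⟩) (.one ⟨4648, 2, 4⟩)))))))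
def par6_5_9 : Arr Par :=
  (.node 32 (.node 16 (.node 8 (.node 4 (.node 2 (.node 1 (.one ⟨2298, 1, 0⟩) (.one ⟨4649, 2, 6⟩)) (.node 1 (.one ⟨9103, 0, 3⟩) (.one ⟨4649, 1, 0⟩))) (.node 2 (.node 1 (.one ⟨4653, 2, 2⟩) (.one ⟨5285, 0, 3⟩)) (.node 1 (.one ⟨4652, 2, 3⟩) (.one ⟨3146, 1, 4⟩)))) (.node 4 (.node 2 (.node 1 (.one ⟨8245, 1, 4⟩) (.one ⟨6712, 2, 4⟩)) (.node 1 (.one ⟨8278, 1, 4⟩) (.one ⟨15497, 2, 4⟩))) (.node 2 (.node 1 (.one ⟨11370, 2, 3⟩) (.one ⟨8615, 1, 4⟩)) (.node 1 (.one ⟨1318, 1, 4⟩) (.one ⟨4590, 1, 3⟩))))) (.node 8 (.node 4 (.node 2 (.node 1 (.one ⟨3502, 1, 1⟩) (.one ⟨5116, 1, 5⟩)) (.node 1 (.one ⟨3078, 1, 5⟩) (.one ⟨13065, 0, 4⟩))) (.node 2 (.node 1 (.one ⟨8346, 0, 4⟩) (.one ⟨3235, 0, 4⟩)) (.node 1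 (.one ⟨13692, 0, 4⟩) (.one ⟨10773, 0, 2⟩)))) (.node 4 (.node 2 (.node 1 (.one ⟨7925, 2, 4⟩) (.one ⟨12062, 2, 4⟩)) (.node 1 (.one ⟨15174, 0, 1⟩) (.one ⟨6709, 0, 2⟩))) (.node 2 (.node 1 (.one ⟨4357, 2, 4⟩) (.one ⟨15762, 2, 4⟩)) (.node 1 (.one ⟨7049, 1, 1⟩) (.one ⟨14343, 1, 4⟩)))))) (.node 16 (.node 8 (.node 4 (.node 2 (.node 1 (.one ⟨6737, 2, 5⟩) (.one ⟨15037, 2, 2⟩)) (.node 1 (.one ⟨9930, 2, 5⟩) (.one ⟨11941, 2, 6⟩))) (.node 2 (.node 1 (.one ⟨16647, 2, 5⟩) (.one ⟨5998, 1, 3⟩)) (.node 1 (.one ⟨3543, 2, 5⟩) (.one ⟨15889, 0, 5⟩)))) (.node 4 (.node 2 (.node 1 (.one ⟨11548, 0, 1⟩) (.one ⟨6013, 2, 4⟩)) (.node 1 (.one ⟨10332, 2, 5⟩) (.one ⟨8375, 1, 5⟩))) (.node 2 (.node 1 (.one ⟨13809, 2, 4⟩) (.one ⟨9267, 2, 1⟩)) (.node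 1 (.one ⟨6539, 2, 4⟩) (.one ⟨12600, 2, 3⟩))))) (.node 8 (.node 4 (.node 2 (.node 1 (.one ⟨7795, 0, 5⟩) (.one ⟨12991, 2, 4⟩)) (.node 1 (.one ⟨2121, 0, 4⟩) (.one ⟨15785, 0, 2⟩))) (.node 2 (.node 1 (.one ⟨2561, 2, 5⟩) (.one ⟨9469, 2, 4⟩)) (.node 1 (.one ⟨2346, 2, 3⟩) (.one ⟨1960, 1, 0⟩)))) (.node 4 (.node 2 (.node 1 (.one ⟨16036, 2, 4⟩) (.one ⟨3182, 2, 4⟩)) (.node 1 (.one ⟨10751, 0, 4⟩) (.one ⟨10242, 2, 4⟩))) (.node 2 (.node 1 (.one ⟨16674, 2, 3⟩) (.one ⟨2343, 2, 3⟩)) (.node 1 (.one ⟨8921, 2, 4⟩) (.one ⟨14564, 2, 3⟩)))))))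
def par6_5_10 : Arr Par :=
  (.node 32 (.node 16 (.node 8 (.node 4 (.node 2 (.node 1 (.one ⟨16813, 1, 4⟩) (.one ⟨231, 1, 4⟩)) (.node 1 (.one ⟨13744, 2, 5⟩) (.one ⟨15414, 2, 5⟩))) (.node 2 (.node 1 (.one ⟨12544, 0, 4⟩) (.one ⟨3757, 1, 4⟩)) (.node 1 (.one ⟨12557, 0, 4⟩) (.one ⟨8151, 1, 3⟩)))) (.node 4 (.node 2 (.node 1 (.one ⟨13360, 2, 4⟩) (.one ⟨4555, 2, 4⟩)) (.node 1 (.one ⟨16891, 0, 3⟩) (.one ⟨12547, 0, 5⟩))) (.node 2 (.node 1 (.one ⟨5827, 0, 4⟩) (.one ⟨12867, 2, 3⟩)) (.node 1 (.one ⟨1572, 2, 4⟩) (.one ⟨3598, 1, 5⟩))))) (.node 8 (.node 4 (.node 2 (.node 1 (.one ⟨9561, 2, 5⟩) (.one ⟨4068, 2, 4⟩)) (.node 1 (.one ⟨11846, 2, 4⟩) (.one ⟨17029, 0, 2⟩))) (.node 2 (.node 1 (.one ⟨6325, 0, 5⟩) (.one ⟨3339, 0, 3⟩))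 (.node 1 (.one ⟨4466, 2, 4⟩) (.one ⟨6609, 0, 1⟩)))) (.node 4 (.node 2 (.node 1 (.one ⟨2418, 2, 4⟩) (.one ⟨4479, 2, 3⟩)) (.node 1 (.one ⟨7946, 2, 3⟩) (.one ⟨6081, 0, 1⟩))) (.node 2 (.node 1 (.one ⟨167, 1, 0⟩) (.one ⟨5814, 2, 3⟩)) (.node 1 (.one ⟨2348, 2, 3⟩) (.one ⟨6536, 0, 2⟩)))))) (.node 16 (.node 8 (.node 4 (.node 2 (.node 1 (.one ⟨12172, 0, 2⟩) (.one ⟨9558, 0, 4⟩)) (.node 1 (.one ⟨7984, 0, 2⟩) (.one ⟨2447, 2, 3⟩))) (.node 2 (.node 1 (.one ⟨1388, 2, 4⟩) (.one ⟨6281, 2, 3⟩)) (.node 1 (.one ⟨5806, 2, 4⟩) (.one ⟨13394, 1, 3⟩)))) (.node 4 (.node 2 (.node 1 (.one ⟨11153, 1, 3⟩) (.one ⟨235, 1, 0⟩)) (.node 1 (.one ⟨15818, 0, 3⟩) (.one ⟨8626, 0, 4⟩))) (.node 2 (.node 1 (.one ⟨3149, 1, 3⟩) (.one ⟨241, 1, 2⟩)) (.node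 1 (.one ⟨7534, 0, 3⟩) (.one ⟨4808, 1, 1⟩))))) (.node 8 (.node 4 (.node 2 (.node 1 (.one ⟨12554, 0, 1⟩) (.one ⟨10943, 2, 2⟩)) (.node 1 (.one ⟨2208, 2, 2⟩) (.one ⟨16567, 2, 5⟩))) (.node 2 (.node 1 (.one ⟨8087, 2, 5⟩) (.one ⟨4711, 2, 5⟩)) (.node 1 (.one ⟨6538, 0, 2⟩) (.one ⟨7049, 2, 1⟩)))) (.node 4 (.node 2 (.node 1 (.one ⟨13062, 1, 4⟩) (.one ⟨16894, 0, 4⟩)) (.node 1 (.one ⟨4681, 2, 5⟩) (.one ⟨5951, 2, 1⟩))) (.node 2 (.node 1 (.one ⟨10728, 1, 4⟩) (.one ⟨17022, 0, 4⟩)) (.node 1 (.one ⟨3585, 2, 1⟩) (.one ⟨11525, 2, 5⟩)))))))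
def par6_5_11 : Arr Par :=
  (.node 32 (.node 16 (.node 8 (.node 4 (.node 2 (.node 1 (.one ⟨884, 2, 3⟩) (.one ⟨1563, 1, 0⟩)) (.node 1 (.one ⟨11520, 2, 1⟩) (.one ⟨11071, 0, 3⟩))) (.node 2 (.node 1 (.one ⟨11519, 2, 4⟩) (.one ⟨11526, 2, 6⟩)) (.node 1 (.one ⟨14670, 0, 4⟩) (.one ⟨1520, 2, 2⟩)))) (.node 4 (.node 2 (.node 1 (.one ⟨16658, 2, 2⟩) (.one ⟨9131, 2, 2⟩)) (.node 1 (.one ⟨10403, 2, 5⟩) (.one ⟨11778, 2, 4⟩))) (.node 2 (.node 1 (.one ⟨6666, 2, 5⟩) (.one ⟨3374, 0, 4⟩)) (.node 1 (.one ⟨4200, 2, 2⟩) (.one ⟨15938, 0, 4⟩))))) (.node 8 (.node 4 (.node 2 (.node 1 (.one ⟨4751, 0, 4⟩) (.one ⟨497, 0, 4⟩)) (.node 1 (.one ⟨14821, 1, 4⟩) (.one ⟨15501, 0, 3⟩))) (.node 2 (.node 1 (.one ⟨3192, 1, 1⟩) (.one ⟨5448, 0, 5⟩)) (.node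 1 (.one ⟨9586, 2, 5⟩) (.one ⟨12893, 2, 4⟩)))) (.node 4 (.node 2 (.node 1 (.one ⟨1296, 2, 3⟩) (.one ⟨8805, 2, 5⟩)) (.node 1 (.one ⟨14403, 2, 1⟩) (.one ⟨8450, 2, 3⟩))) (.node 2 (.node 1 (.one ⟨13919, 2, 5⟩) (.one ⟨13302, 2, 5⟩)) (.node 1 (.one ⟨2328, 2, 3⟩) (.one ⟨8084, 2, 3⟩)))))) (.node 16 (.node 8 (.node 4 (.node 2 (.node 1 (.one ⟨3878, 2, 5⟩) (.one ⟨14762, 1, 4⟩)) (.node 1 (.one ⟨11365, 0, 4⟩) (.one ⟨8452, 2, 3⟩))) (.node 2 (.node 1 (.one ⟨6537, 0, 4⟩) (.one ⟨16581, 1, 4⟩)) (.node 1 (.one ⟨5702, 2, 4⟩) (.one ⟨13473, 2, 2⟩)))) (.node 4 (.node 2 (.node 1 (.one ⟨1622, 2, 4⟩) (.one ⟨6450, 2, 2⟩)) (.node 1 (.one ⟨16468, 2, 2⟩) (.one ⟨3908, 2, 4⟩))) (.node 2 (.node 1 (.one ⟨10984, 2, 4⟩) (.one ⟨12713, 0, 4⟩)) (.node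 1 (.one ⟨7862, 2, 6⟩) (.one ⟨1225, 2, 1⟩))))) (.node 8 (.node 4 (.node 2 (.node 1 (.one ⟨12177, 2, 1⟩) (.one ⟨9270, 0, 3⟩)) (.node 1 (.one ⟨3214, 2, 4⟩) (.one ⟨10779, 2, 3⟩))) (.node 2 (.node 1 (.one ⟨3646, 2, 4⟩) (.one ⟨5305, 2, 2⟩)) (.node 1 (.one ⟨11136, 2, 4⟩) (.one ⟨8807, 2, 4⟩)))) (.node 4 (.node 2 (.node 1 (.one ⟨14178, 2, 5⟩) (.one ⟨17181, 2, 4⟩)) (.node 1 (.one ⟨5817, 2, 5⟩) (.one ⟨13494, 2, 4⟩))) (.node 2 (.node 1 (.one ⟨1391, 2, 1⟩) (.one ⟨5265, 2, 5⟩)) (.node 1 (.one ⟨9996, 2, 4⟩) (.one ⟨10307, 2, 3⟩)))))))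
def par6_5_12 : Arr Par :=
  (.node 32 (.node 16 (.node 8 (.node 4 (.node 2 (.node 1 (.one ⟨8687, 0, 1⟩) (.one ⟨6329, 2, 4⟩)) (.node 1 (.one ⟨11135, 0, 4⟩) (.one ⟨9648, 2, 3⟩))) (.node 2 (.node 1 (.one ⟨13787, 2, 5⟩) (.one ⟨12019, 0, 3⟩)) (.node 1 (.one ⟨13070, 0, 3⟩) (.one ⟨6448, 0, 3⟩)))) (.node 4 (.node 2 (.node 1 (.one ⟨16516, 0, 4⟩) (.one ⟨2245, 2, 6⟩)) (.node 1 (.one ⟨10639, 2, 5⟩) (.one ⟨12181, 1, 2⟩))) (.node 2 (.node 1 (.one ⟨1547, 0, 3⟩) (.one ⟨5254, 0, 3⟩)) (.node 1 (.one ⟨7877, 2, 6⟩) (.one ⟨7380, 2, 3⟩))))) (.node 8 (.node 4 (.node 2 (.node 1 (.one ⟨15132, 2, 4⟩) (.one ⟨7886, 0, 4⟩)) (.node 1 (.one ⟨5701, 0, 4⟩) (.one ⟨2177, 2, 5⟩))) (.node 2 (.node 1 (.one ⟨11410, 0, 4⟩) (.one ⟨10565, 2, 5⟩))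 (.node 1 (.one ⟨16022, 1, 3⟩) (.one ⟨11608, 1, 3⟩)))) (.node 4 (.node 2 (.node 1 (.one ⟨4664, 2, 5⟩) (.one ⟨12007, 1, 3⟩)) (.node 1 (.one ⟨15690, 1, 3⟩) (.one ⟨2408, 1, 3⟩))) (.node 2 (.node 1 (.one ⟨9139, 0, 4⟩) (.one ⟨59, 1, 3⟩)) (.node 1 (.one ⟨11741, 0, 4⟩) (.one ⟨9384, 2, 3⟩)))))) (.node 16 (.node 8 (.node 4 (.node 2 (.node 1 (.one ⟨12552, 2, 5⟩) (.one ⟨4483, 2, 4⟩)) (.node 1 (.one ⟨1364, 2, 2⟩) (.one ⟨9344, 1, 4⟩))) (.node 2 (.node 1 (.one ⟨9295, 2, 4⟩) (.one ⟨1213, 2, 5⟩)) (.node 1 (.one ⟨1365, 0, 1⟩) (.one ⟨9415, 2, 5⟩)))) (.node 4 (.node 2 (.node 1 (.one ⟨6494, 1, 5⟩) (.one ⟨9511, 2, 1⟩)) (.node 1 (.one ⟨9401, 2, 5⟩) (.one ⟨13236, 0, 2⟩))) (.node 2 (.node 1 (.one ⟨4180, 2, 2⟩) (.one ⟨4196, 2, 4⟩))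 (.node 1 (.one ⟨11556, 0, 4⟩) (.one ⟨11117, 2, 5⟩))))) (.node 8 (.node 4 (.node 2 (.node 1 (.one ⟨8999, 2, 3⟩) (.one ⟨13678, 2, 4⟩)) (.node 1 (.one ⟨4328, 2, 4⟩) (.one ⟨6891, 1, 2⟩))) (.node 2 (.node 1 (.one ⟨10757, 2, 6⟩) (.one ⟨4929, 2, 4⟩)) (.node 1 (.one ⟨15380, 2, 5⟩) (.one ⟨4225, 1, 0⟩)))) (.node 4 (.node 2 (.node 1 (.one ⟨9849, 1, 2⟩) (.one ⟨1665, 2, 4⟩)) (.node 1 (.one ⟨10092, 2, 4⟩) (.one ⟨3167, 1, 4⟩))) (.node 2 (.node 1 (.one ⟨17167, 2, 5⟩) (.one ⟨10256, 2, 6⟩)) (.node 1 (.one ⟨443, 2, 5⟩) (.one ⟨297, 0, 0⟩)))))))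
def par6_5_13 : Arr Par :=
  (.node 32 (.node 16 (.node 8 (.node 4 (.node 2 (.node 1 (.one ⟨10797, 0, 3⟩) (.one ⟨14895, 2, 6⟩)) (.node 1 (.one ⟨12587, 2, 4⟩) (.one ⟨9929, 1, 2⟩))) (.node 2 (.node 1 (.one ⟨13876, 0, 3⟩) (.one ⟨10149, 0, 4⟩)) (.node 1 (.one ⟨9269, 0, 3⟩) (.one ⟨5009, 0, 1⟩)))) (.node 4 (.node 2 (.node 1 (.one ⟨14427, 2, 4⟩) (.one ⟨5649, 0, 1⟩)) (.node 1 (.one ⟨168, 0, 0⟩) (.one ⟨11385, 2, 3⟩))) (.node 2 (.node 1 (.one ⟨14669, 2, 3⟩) (.one ⟨9005, 2, 3⟩)) (.node 1 (.one ⟨4659, 2, 3⟩) (.one ⟨5409, 2, 5⟩))))) (.node 8 (.node 4 (.node 2 (.node 1 (.one ⟨11114, 2, 5⟩) (.one ⟨9441, 2, 3⟩)) (.node 1 (.one ⟨3052, 0, 4⟩) (.one ⟨4083, 2, 5⟩))) (.node 2 (.node 1 (.one ⟨9165, 2, 5⟩) (.one ⟨15627, 0, 4⟩)) (.node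 1 (.one ⟨65, 1, 1⟩) (.one ⟨10656, 0, 4⟩)))) (.node 4 (.node 2 (.node 1 (.one ⟨12965, 0, 4⟩) (.one ⟨5412, 2, 5⟩)) (.node 1 (.one ⟨10498, 0, 3⟩) (.one ⟨7882, 2, 5⟩))) (.node 2 (.node 1 (.one ⟨10326, 2, 5⟩) (.one ⟨15258, 2, 4⟩)) (.node 1 (.one ⟨8069, 1, 2⟩) (.one ⟨3820, 0, 3⟩)))))) (.node 16 (.node 8 (.node 4 (.node 2 (.node 1 (.one ⟨15490, 2, 4⟩) (.one ⟨8179, 2, 5⟩)) (.node 1 (.one ⟨16079, 2, 5⟩) (.one ⟨10638, 2, 3⟩))) (.node 2 (.node 1 (.one ⟨353, 2, 4⟩) (.one ⟨14932, 0, 2⟩)) (.node 1 (.one ⟨14944, 0, 4⟩) (.one ⟨8209, 2, 2⟩)))) (.node 4 (.node 2 (.node 1 (.one ⟨6986, 2, 4⟩) (.one ⟨2857, 2, 4⟩)) (.node 1 (.one ⟨4411, 2, 4⟩) (.one ⟨8785, 2, 4⟩))) (.node 2 (.node 1 (.one ⟨11777, 0, 4⟩) (.one ⟨992, 2, 5⟩)) (.node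 1 (.one ⟨9140, 0, 2⟩) (.one ⟨10350, 2, 5⟩))))) (.node 8 (.node 4 (.node 2 (.node 1 (.one ⟨16957, 2, 2⟩) (.one ⟨17019, 0, 4⟩)) (.node 1 (.one ⟨7666, 0, 2⟩) (.one ⟨6568, 2, 4⟩))) (.node 2 (.node 1 (.one ⟨5498, 2, 3⟩) (.one ⟨11373, 0, 4⟩)) (.node 1 (.one ⟨4683, 2, 5⟩) (.one ⟨4045, 0, 3⟩)))) (.node 4 (.node 2 (.node 1 (.one ⟨2265, 2, 2⟩) (.one ⟨3351, 2, 3⟩)) (.node 1 (.one ⟨15262, 2, 4⟩) (.one ⟨14613, 0, 2⟩))) (.node 2 (.node 1 (.one ⟨14665, 2, 3⟩) (.one ⟨13743, 2, 3⟩)) (.node 1 (.one ⟨998, 2, 4⟩) (.one ⟨8127, 2, 6⟩)))))))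
def par6_5_14 : Arr Par :=
  (.node 32 (.node 16 (.node 8 (.node 4 (.node 2 (.node 1 (.one ⟨6402, 2, 4⟩) (.one ⟨16173, 2, 4⟩)) (.node 1 (.one ⟨14188, 2, 5⟩) (.one ⟨7667, 0, 1⟩))) (.node 2 (.node 1 (.one ⟨639, 0, 3⟩) (.one ⟨4138, 2, 3⟩)) (.node 1 (.one ⟨12673, 0, 4⟩) (.one ⟨14453, 2, 4⟩)))) (.node 4 (.node 2 (.node 1 (.one ⟨442, 2, 5⟩) (.one ⟨14609, 0, 4⟩)) (.node 1 (.one ⟨8224, 0, 4⟩) (.one ⟨24, 2, 3⟩))) (.node 2 (.node 1 (.one ⟨13191, 1, 4⟩) (.one ⟨743, 2, 4⟩)) (.node 1 (.one ⟨14448, 2, 4⟩) (.one ⟨9400, 2, 5⟩))))) (.node 8 (.node 4 (.node 2 (.node 1 (.one ⟨9418, 2, 5⟩) (.one ⟨1175, 2, 5⟩)) (.node 1 (.one ⟨1257, 2, 1⟩) (.one ⟨13525, 2, 4⟩))) (.node 2 (.node 1 (.one ⟨4428, 0, 2⟩) (.one ⟨5445, 2, 4⟩)) (.node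 1 (.one ⟨5454, 2, 4⟩) (.one ⟨10022, 0, 1⟩)))) (.node 4 (.node 2 (.node 1 (.one ⟨14968, 2, 4⟩) (.one ⟨6611, 2, 3⟩)) (.node 1 (.one ⟨8994, 1, 1⟩) (.one ⟨14611, 0, 2⟩))) (.node 2 (.node 1 (.one ⟨15341, 2, 4⟩) (.one ⟨7561, 2, 2⟩)) (.node 1 (.one ⟨315, 2, 3⟩) (.one ⟨7813, 0, 4⟩)))))) (.node 16 (.node 8 (.node 4 (.node 2 (.node 1 (.one ⟨7857, 2, 5⟩) (.one ⟨12349, 1, 4⟩)) (.node 1 (.one ⟨2207, 2, 1⟩) (.one ⟨9476, 0, 4⟩))) (.node 2 (.node 1 (.one ⟨1816, 0, 4⟩) (.one ⟨5258, 1, 4⟩)) (.node 1 (.one ⟨8706, 2, 1⟩) (.one ⟨15410, 2, 3⟩)))) (.node 4 (.node 2 (.node 1 (.one ⟨14670, 2, 4⟩) (.one ⟨10254, 0, 1⟩)) (.node 1 (.one ⟨7559, 2, 5⟩) (.one ⟨2759, 2, 4⟩))) (.node 2 (.node 1 (.one ⟨3123, 2, 5⟩) (.one ⟨7802, 0, 4⟩)) (.node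 1 (.one ⟨11001, 2, 4⟩) (.one ⟨5914, 2, 4⟩))))) (.node 8 (.node 4 (.node 2 (.node 1 (.one ⟨14952, 2, 2⟩) (.one ⟨8721, 0, 3⟩)) (.node 1 (.one ⟨10275, 0, 4⟩) (.one ⟨14078, 1, 2⟩))) (.node 2 (.node 1 (.one ⟨2505, 2, 4⟩) (.one ⟨3738, 2, 3⟩)) (.node 1 (.one ⟨12849, 2, 5⟩) (.one ⟨10408, 0, 5⟩)))) (.node 4 (.node 2 (.node 1 (.one ⟨16003, 2, 5⟩) (.one ⟨5786, 0, 4⟩)) (.node 1 (.one ⟨12423, 2, 6⟩) (.one ⟨8794, 2, 5⟩))) (.node 2 (.node 1 (.one ⟨6967, 2, 3⟩) (.one ⟨2638, 0, 1⟩)) (.node 1 (.one ⟨3388, 2, 4⟩) (.one ⟨13220, 0, 2⟩)))))))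
def par6_5_15 : Arr Par :=
  (.node 32 (.node 16 (.node 8 (.node 4 (.node 2 (.node 1 (.one ⟨15778, 2, 6⟩) (.one ⟨340, 1, 0⟩)) (.node 1 (.one ⟨6507, 2, 3⟩) (.one ⟨10944, 2, 2⟩))) (.node 2 (.node 1 (.one ⟨11036, 2, 5⟩) (.one ⟨5127, 2, 6⟩)) (.node 1 (.one ⟨5076, 2, 5⟩) (.one ⟨5518, 2, 3⟩)))) (.node 4 (.node 2 (.node 1 (.one ⟨14498, 1, 5⟩) (.one ⟨14045, 0, 2⟩)) (.node 1 (.one ⟨5859, 0, 4⟩) (.one ⟨8652, 0, 2⟩))) (.node 2 (.node 1 (.one ⟨16461, 0, 4⟩) (.one ⟨5260, 2, 4⟩)) (.node 1 (.one ⟨4989, 0, 2⟩) (.one ⟨16673, 2, 5⟩))))) (.node 8 (.node 4 (.node 2 (.node 1 (.one ⟨1327, 2, 1⟩) (.one ⟨11410, 1, 4⟩)) (.node 1 (.one ⟨12501, 2, 3⟩) (.one ⟨6090, 1, 5⟩))) (.node 2 (.node 1 (.one ⟨1730, 2, 2⟩) (.one ⟨15577, 0, 3⟩)) (.node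 1 (.one ⟨12248, 2, 2⟩) (.one ⟨1375, 2, 4⟩)))) (.node 4 (.node 2 (.node 1 (.one ⟨15604, 2, 3⟩) (.one ⟨11122, 0, 4⟩)) (.node 1 (.one ⟨9278, 0, 3⟩) (.one ⟨1444, 2, 2⟩))) (.node 2 (.node 1 (.one ⟨15629, 2, 5⟩) (.one ⟨10693, 0, 5⟩)) (.node 1 (.one ⟨9139, 2, 4⟩) (.one ⟨9938, 2, 3⟩)))))) (.node 16 (.node 8 (.node 4 (.node 2 (.node 1 (.one ⟨8064, 2, 4⟩) (.one ⟨2002, 2, 4⟩)) (.node 1 (.one ⟨15183, 0, 2⟩) (.one ⟨5937, 2, 5⟩))) (.node 2 (.node 1 (.one ⟨11922, 2, 5⟩) (.one ⟨14247, 2, 3⟩)) (.node 1 (.one ⟨9858, 1, 2⟩) (.one ⟨1639, 2, 4⟩)))) (.node 4 (.node 2 (.node 1 (.one ⟨2830, 2, 4⟩) (.one ⟨4752, 2, 4⟩)) (.node 1 (.one ⟨3602, 2, 4⟩) (.one ⟨13002, 2, 3⟩))) (.node 2 (.node 1 (.one ⟨11688, 0, 4⟩) (.one ⟨9946, 2, 4⟩)) (.node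 1 (.one ⟨11132, 2, 4⟩) (.one ⟨1392, 1, 0⟩))))) (.node 8 (.node 4 (.node 2 (.node 1 (.one ⟨9472, 1, 2⟩) (.one ⟨6444, 2, 4⟩)) (.node 1 (.one ⟨11609, 1, 2⟩) (.one ⟨813, 2, 5⟩))) (.node 2 (.node 1 (.one ⟨10461, 2, 5⟩) (.one ⟨16431, 2, 5⟩)) (.node 1 (.one ⟨8895, 2, 5⟩) (.one ⟨10254, 2, 1⟩)))) (.node 4 (.node 2 (.node 1 (.one ⟨16127, 2, 4⟩) (.one ⟨11748, 1, 4⟩)) (.node 1 (.one ⟨13874, 1, 3⟩) (.one ⟨11622, 2, 4⟩))) (.node 2 (.node 1 (.one ⟨7010, 1, 3⟩) (.one ⟨11782, 0, 4⟩)) (.node 1 (.one ⟨7656, 2, 4⟩) (.one ⟨4941, 0, 4⟩)))))))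
def par6_5 : Arr Par :=
  (.node 512 (.node 256 (.node 128 (.node 64 par6_5_0 par6_5_1) (.node 64 par6_5_2 par6_5_3)) (.node 128 (.node 64 par6_5_4 par6_5_5) (.node 64 par6_5_6 par6_5_7))) (.node 256 (.node 128 (.node 64 par6_5_8 par6_5_9) (.node 64 par6_5_10 par6_5_11)) (.node 128 (.node 64 par6_5_12 par6_5_13) (.node 64 par6_5_14 par6_5_15))))
def par6_6_0 : Arr Par :=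
  (.node 32 (.node 16 (.node 8 (.node 4 (.node 2 (.node 1 (.one ⟨9108, 2, 3⟩) (.one ⟨11554, 0, 4⟩)) (.node 1 (.one ⟨4852, 0, 1⟩) (.one ⟨12828, 2, 5⟩))) (.node 2 (.node 1 (.one ⟨2419, 2, 4⟩) (.one ⟨10202, 0, 4⟩)) (.node 1 (.one ⟨4091, 0, 5⟩) (.one ⟨8706, 0, 1⟩)))) (.node 4 (.node 2 (.node 1 (.one ⟨2568, 2, 2⟩) (.one ⟨9109, 2, 3⟩)) (.node 1 (.one ⟨16476, 2, 3⟩) (.one ⟨11841, 2, 4⟩))) (.node 2 (.node 1 (.one ⟨2207, 0, 1⟩) (.one ⟨7421, 2, 3⟩)) (.node 1 (.one ⟨15030, 2, 3⟩) (.one ⟨7648, 2, 2⟩))))) (.node 8 (.node 4 (.node 2 (.node 1 (.one ⟨7332, 2, 3⟩) (.one ⟨5103, 2, 3⟩)) (.node 1 (.one ⟨184, 2, 4⟩) (.one ⟨13362, 0, 4⟩))) (.node 2 (.node 1 (.one ⟨9686, 2, 4⟩) (.one ⟨13392, 0, 5⟩)) (.node 1 (.one ⟨15234, 2, 2⟩)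 (.one ⟨8097, 1, 5⟩)))) (.node 4 (.node 2 (.node 1 (.one ⟨6226, 1, 5⟩) (.one ⟨13380, 0, 4⟩)) (.node 1 (.one ⟨7970, 0, 4⟩) (.one ⟨3171, 0, 4⟩))) (.node 2 (.node 1 (.one ⟨16457, 2, 5⟩) (.one ⟨1112, 0, 4⟩)) (.node 1 (.one ⟨15272, 0, 3⟩) (.one ⟨12651, 2, 3⟩)))))) (.node 16 (.node 8 (.node 4 (.node 2 (.node 1 (.one ⟨9103, 2, 3⟩) (.one ⟨13390, 0, 4⟩)) (.node 1 (.one ⟨9385, 2, 1⟩) (.one ⟨13629, 2, 4⟩))) (.node 2 (.node 1 (.one ⟨2586, 2, 5⟩) (.one ⟨5316, 2, 5⟩)) (.node 1 (.one ⟨15933, 0, 4⟩) (.one ⟨9858, 0, 2⟩)))) (.node 4 (.node 2 (.node 1 (.one ⟨9106, 2, 3⟩) (.one ⟨7979, 2, 3⟩)) (.node 1 (.one ⟨4176, 2, 2⟩) (.one ⟨8273, 2, 4⟩))) (.node 2 (.node 1 (.one ⟨3707, 2, 5⟩) (.one ⟨5329, 2, 5⟩)) (.node 1 (.one ⟨3455, 1, 3⟩)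 (.one ⟨4807, 0, 4⟩))))) (.node 8 (.node 4 (.node 2 (.node 1 (.one ⟨8231, 0, 3⟩) (.one ⟨2289, 2, 4⟩)) (.node 1 (.one ⟨7987, 0, 1⟩) (.one ⟨12721, 1, 3⟩))) (.node 2 (.node 1 (.one ⟨6678, 2, 3⟩) (.one ⟨4156, 2, 5⟩)) (.node 1 (.one ⟨2602, 0, 3⟩) (.one ⟨13063, 2, 3⟩)))) (.node 4 (.node 2 (.node 1 (.one ⟨9123, 2, 6⟩) (.one ⟨6797, 0, 4⟩)) (.node 1 (.one ⟨10754, 0, 4⟩) (.one ⟨13134, 2, 5⟩))) (.node 2 (.node 1 (.one ⟨14209, 0, 5⟩) (.one ⟨14088, 2, 5⟩)) (.node 1 (.one ⟨2493, 2, 5⟩) (.one ⟨2428, 1, 0⟩)))))))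
def par6_6_1 : Arr Par :=
  (.node 32 (.node 16 (.node 8 (.node 4 (.node 2 (.node 1 (.one ⟨17085, 2, 2⟩) (.one ⟨1322, 2, 5⟩)) (.node 1 (.one ⟨3172, 1, 4⟩) (.one ⟨17118, 2, 4⟩))) (.node 2 (.node 1 (.one ⟨14024, 2, 6⟩) (.one ⟨5222, 0, 4⟩)) (.node 1 (.one ⟨374, 2, 4⟩) (.one ⟨6528, 0, 3⟩)))) (.node 4 (.node 2 (.node 1 (.one ⟨14201, 2, 4⟩) (.one ⟨14207, 0, 1⟩)) (.node 1 (.one ⟨5815, 2, 2⟩) (.one ⟨6798, 0, 2⟩))) (.node 2 (.node 1 (.one ⟨2074, 2, 4⟩) (.one ⟨15217, 0, 2⟩)) (.node 1 (.one ⟨9830, 2, 4⟩) (.one ⟨14077, 2, 5⟩))))) (.node 8 (.node 4 (.node 2 (.node 1 (.one ⟨8580, 2, 4⟩) (.one ⟨831, 2, 4⟩)) (.node 1 (.one ⟨2074, 0, 4⟩) (.one ⟨9117, 2, 4⟩))) (.node 2 (.node 1 (.one ⟨14546, 2, 5⟩) (.one ⟨14176, 0, 4⟩)) (.node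 1 (.one ⟨2288, 2, 5⟩) (.one ⟨9901, 2, 4⟩)))) (.node 4 (.node 2 (.node 1 (.one ⟨4841, 2, 4⟩) (.one ⟨1085, 0, 4⟩)) (.node 1 (.one ⟨2834, 0, 3⟩) (.one ⟨14213, 0, 4⟩))) (.node 2 (.node 1 (.one ⟨7062, 2, 5⟩) (.one ⟨11056, 0, 4⟩)) (.node 1 (.one ⟨9876, 2, 1⟩) (.one ⟨15952, 0, 4⟩)))))) (.node 16 (.node 8 (.node 4 (.node 2 (.node 1 (.one ⟨6655, 2, 4⟩) (.one ⟨6891, 0, 2⟩)) (.node 1 (.one ⟨10711, 0, 3⟩) (.one ⟨7209, 2, 5⟩))) (.node 2 (.node 1 (.one ⟨10440, 2, 4⟩) (.one ⟨14870, 2, 5⟩)) (.node 1 (.one ⟨1016, 2, 4⟩) (.one ⟨4194, 2, 5⟩)))) (.node 4 (.node 2 (.node 1 (.one ⟨3632, 2, 5⟩) (.one ⟨13421, 2, 2⟩)) (.node 1 (.one ⟨13040, 2, 3⟩) (.one ⟨14211, 0, 2⟩))) (.node 2 (.node 1 (.one ⟨15561, 2, 4⟩) (.one ⟨5935, 2, 6⟩)) (.node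 1 (.one ⟨6537, 2, 4⟩) (.one ⟨9316, 2, 3⟩))))) (.node 8 (.node 4 (.node 2 (.node 1 (.one ⟨3424, 0, 1⟩) (.one ⟨8834, 0, 1⟩)) (.node 1 (.one ⟨9021, 0, 1⟩) (.one ⟨10780, 2, 3⟩))) (.node 2 (.node 1 (.one ⟨14041, 2, 3⟩) (.one ⟨1744, 2, 3⟩)) (.node 1 (.one ⟨6241, 2, 3⟩) (.one ⟨13248, 0, 4⟩)))) (.node 4 (.node 2 (.node 1 (.one ⟨548, 2, 4⟩) (.one ⟨13888, 0, 4⟩)) (.node 1 (.one ⟨9846, 2, 5⟩) (.one ⟨9840, 2, 3⟩))) (.node 2 (.node 1 (.one ⟨843, 2, 5⟩) (.one ⟨4366, 1, 0⟩)) (.node 1 (.one ⟨9841, 2, 3⟩) (.one ⟨15614, 0, 4⟩)))))))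
def par6_6_2 : Arr Par :=
  (.node 32 (.node 16 (.node 8 (.node 4 (.node 2 (.node 1 (.one ⟨3010, 0, 2⟩) (.one ⟨5346, 0, 2⟩)) (.node 1 (.one ⟨16714, 0, 2⟩) (.one ⟨12487, 2, 5⟩))) (.node 2 (.node 1 (.one ⟨14838, 2, 3⟩) (.one ⟨11377, 2, 3⟩)) (.node 1 (.one ⟨16078, 2, 3⟩) (.one ⟨16827, 2, 3⟩)))) (.node 4 (.node 2 (.node 1 (.one ⟨4467, 2, 3⟩) (.one ⟨10778, 2, 2⟩)) (.node 1 (.one ⟨1563, 0, 1⟩) (.one ⟨7821, 2, 4⟩))) (.node 2 (.node 1 (.one ⟨13080, 2, 3⟩) (.one ⟨2935, 2, 4⟩)) (.node 1 (.one ⟨13758, 2, 1⟩) (.one ⟨8215, 2, 5⟩))))) (.node 8 (.node 4 (.node 2 (.node 1 (.one ⟨15444, 2, 5⟩) (.one ⟨13604, 2, 5⟩)) (.node 1 (.one ⟨2663, 2, 5⟩) (.one ⟨13181, 1, 4⟩))) (.node 2 (.node 1 (.one ⟨15684, 2, 5⟩) (.one ⟨9973, 2, 3⟩))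 (.node 1 (.one ⟨4920, 2, 4⟩) (.one ⟨13250, 0, 4⟩)))) (.node 4 (.node 2 (.node 1 (.one ⟨9113, 2, 4⟩) (.one ⟨8422, 2, 5⟩)) (.node 1 (.one ⟨16992, 2, 3⟩) (.one ⟨13088, 2, 3⟩))) (.node 2 (.node 1 (.one ⟨5542, 2, 2⟩) (.one ⟨4820, 2, 4⟩)) (.node 1 (.one ⟨13150, 2, 4⟩) (.one ⟨2697, 0, 4⟩)))))) (.node 16 (.node 8 (.node 4 (.node 2 (.node 1 (.one ⟨13472, 2, 5⟩) (.one ⟨14163, 2, 3⟩)) (.node 1 (.one ⟨13523, 2, 3⟩) (.one ⟨6233, 2, 5⟩))) (.node 2 (.node 1 (.one ⟨4560, 2, 4⟩) (.one ⟨8929, 0, 4⟩)) (.node 1 (.one ⟨3318, 1, 1⟩) (.one ⟨12592, 2, 5⟩)))) (.node 4 (.node 2 (.node 1 (.one ⟨6784, 2, 3⟩) (.one ⟨15282, 1, 4⟩)) (.node 1 (.one ⟨12965, 2, 4⟩) (.one ⟨9968, 0, 3⟩))) (.node 2 (.node 1 (.one ⟨9527, 2, 5⟩) (.one ⟨4263, 0,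 2⟩)) (.node 1 (.one ⟨7706, 2, 5⟩) (.one ⟨11416, 2, 5⟩))))) (.node 8 (.node 4 (.node 2 (.node 1 (.one ⟨9787, 1, 4⟩) (.one ⟨6824, 1, 3⟩)) (.node 1 (.one ⟨16846, 2, 5⟩) (.one ⟨15231, 0, 5⟩))) (.node 2 (.node 1 (.one ⟨16031, 2, 5⟩) (.one ⟨15056, 0, 4⟩)) (.node 1 (.one ⟨700, 0, 4⟩) (.one ⟨365, 0, 4⟩)))) (.node 4 (.node 2 (.node 1 (.one ⟨5427, 0, 4⟩) (.one ⟨5510, 1, 3⟩)) (.node 1 (.one ⟨789, 0, 4⟩) (.one ⟨1020, 2, 2⟩))) (.node 2 (.node 1 (.one ⟨12383, 1, 5⟩) (.one ⟨9230, 2, 5⟩)) (.node 1 (.one ⟨1007, 2, 5⟩) (.one ⟨707, 0, 4⟩)))))))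
def par6_6_3 : Arr Par :=
  (.node 32 (.node 16 (.node 8 (.node 4 (.node 2 (.node 1 (.one ⟨7991, 0, 4⟩) (.one ⟨7995, 0, 4⟩)) (.node 1 (.one ⟨178, 0, 4⟩) (.one ⟨281, 0, 4⟩))) (.node 2 (.node 1 (.one ⟨7998, 0, 4⟩) (.one ⟨7994, 0, 4⟩)) (.node 1 (.one ⟨7242, 2, 3⟩) (.one ⟨2017, 1, 3⟩)))) (.node 4 (.node 2 (.node 1 (.one ⟨3973, 0, 3⟩) (.one ⟨16007, 2, 5⟩)) (.node 1 (.one ⟨2219, 1, 0⟩) (.one ⟨1709, 0, 2⟩))) (.node 2 (.node 1 (.one ⟨11873, 2, 5⟩) (.one ⟨1828, 1, 4⟩)) (.node 1 (.one ⟨11006, 2, 4⟩) (.one ⟨9307, 2, 1⟩))))) (.node 8 (.node 4 (.node 2 (.node 1 (.one ⟨3427, 1, 3⟩) (.one ⟨5855, 2, 4⟩)) (.node 1 (.one ⟨12618, 0, 4⟩) (.one ⟨1978, 2, 6⟩))) (.node 2 (.node 1 (.one ⟨333, 2, 5⟩) (.one ⟨7606, 0, 4⟩)) (.node 1 (.one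 ⟨13877, 2, 3⟩) (.one ⟨1329, 0, 3⟩)))) (.node 4 (.node 2 (.node 1 (.one ⟨6834, 2, 4⟩) (.one ⟨4074, 2, 2⟩)) (.node 1 (.one ⟨8567, 0, 4⟩) (.one ⟨3385, 2, 3⟩))) (.node 2 (.node 1 (.one ⟨14622, 2, 3⟩) (.one ⟨12909, 2, 2⟩)) (.node 1 (.one ⟨7682, 2, 5⟩) (.one ⟨7161, 0, 1⟩)))))) (.node 16 (.node 8 (.node 4 (.node 2 (.node 1 (.one ⟨6152, 2, 3⟩) (.one ⟨3531, 2, 3⟩)) (.node 1 (.one ⟨15993, 2, 3⟩) (.one ⟨169, 0, 0⟩))) (.node 2 (.node 1 (.one ⟨4224, 0, 1⟩) (.one ⟨1898, 2, 3⟩)) (.node 1 (.one ⟨13901, 2, 3⟩) (.one ⟨12845, 2, 5⟩)))) (.node 4 (.node 2 (.node 1 (.one ⟨4458, 2, 4⟩) (.one ⟨3375, 2, 5⟩)) (.node 1 (.one ⟨9692, 2, 4⟩) (.one ⟨2658, 0, 2⟩))) (.node 2 (.node 1 (.one ⟨10504, 0, 2⟩) (.one ⟨2498, 2, 4⟩)) (.node 1 (.one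 ⟨2334, 0, 2⟩) (.one ⟨2798, 0, 5⟩))))) (.node 8 (.node 4 (.node 2 (.node 1 (.one ⟨3877, 2, 5⟩) (.one ⟨12801, 2, 4⟩)) (.node 1 (.one ⟨13245, 2, 5⟩) (.one ⟨9316, 0, 3⟩))) (.node 2 (.node 1 (.one ⟨14401, 0, 2⟩) (.one ⟨16590, 0, 4⟩)) (.node 1 (.one ⟨11508, 2, 5⟩) (.one ⟨16165, 0, 4⟩)))) (.node 4 (.node 2 (.node 1 (.one ⟨5498, 0, 3⟩) (.one ⟨6570, 2, 3⟩)) (.node 1 (.one ⟨14132, 2, 5⟩) (.one ⟨1343, 0, 4⟩))) (.node 2 (.node 1 (.one ⟨3226, 2, 3⟩) (.one ⟨11997, 2, 4⟩)) (.node 1 (.one ⟨2809, 0, 4⟩) (.one ⟨4469, 0, 3⟩)))))))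
def par6_6_4 : Arr Par :=
  (.node 32 (.node 16 (.node 8 (.node 4 (.node 2 (.node 1 (.one ⟨78, 2, 1⟩) (.one ⟨9193, 2, 4⟩)) (.node 1 (.one ⟨13874, 2, 3⟩) (.one ⟨5857, 2, 5⟩))) (.node 2 (.node 1 (.one ⟨1204, 2, 3⟩) (.one ⟨9305, 2, 4⟩)) (.node 1 (.one ⟨13909, 2, 5⟩) (.one ⟨7250, 0, 4⟩)))) (.node 4 (.node 2 (.node 1 (.one ⟨7847, 2, 5⟩) (.one ⟨6584, 2, 4⟩)) (.node 1 (.one ⟨1421, 2, 4⟩) (.one ⟨13075, 2, 4⟩))) (.node 2 (.node 1 (.one ⟨15935, 2, 4⟩) (.one ⟨15138, 2, 3⟩)) (.node 1 (.one ⟨10194, 2, 4⟩) (.one ⟨9522, 2, 4⟩))))) (.node 8 (.node 4 (.node 2 (.node 1 (.one ⟨16522, 2, 4⟩) (.one ⟨1108, 2, 5⟩)) (.node 1 (.one ⟨8468, 2, 4⟩) (.one ⟨83, 2, 1⟩))) (.node 2 (.node 1 (.one ⟨15664, 0, 3⟩) (.one ⟨5112, 0, 3⟩)) (.node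 1 (.one ⟨16516, 2, 4⟩) (.one ⟨4834, 2, 2⟩)))) (.node 4 (.node 2 (.node 1 (.one ⟨14761, 0, 4⟩) (.one ⟨135, 0, 3⟩)) (.node 1 (.one ⟨470, 2, 4⟩) (.one ⟨3822, 2, 3⟩))) (.node 2 (.node 1 (.one ⟨4905, 0, 2⟩) (.one ⟨1422, 2, 5⟩)) (.node 1 (.one ⟨2908, 2, 5⟩) (.one ⟨1024, 0, 3⟩)))))) (.node 16 (.node 8 (.node 4 (.node 2 (.node 1 (.one ⟨5433, 0, 2⟩) (.one ⟨683, 0, 3⟩)) (.node 1 (.one ⟨5432, 0, 2⟩) (.one ⟨5436, 0, 2⟩))) (.node 2 (.node 1 (.one ⟨14, 0, 3⟩) (.one ⟨5437, 0, 2⟩)) (.node 1 (.one ⟨551, 0, 3⟩) (.one ⟨7241, 2, 5⟩)))) (.node 4 (.node 2 (.node 1 (.one ⟨14424, 0, 4⟩) (.one ⟨14429, 0, 4⟩)) (.node 1 (.one ⟨663, 0, 4⟩) (.one ⟨14427, 0, 4⟩))) (.node 2 (.node 1 (.one ⟨7532, 2, 3⟩) (.one ⟨195, 0, 4⟩)) (.node 1 (.one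 ⟨14426, 0, 4⟩) (.one ⟨8133, 2, 3⟩))))) (.node 8 (.node 4 (.node 2 (.node 1 (.one ⟨16620, 2, 2⟩) (.one ⟨12445, 0, 5⟩)) (.node 1 (.one ⟨1540, 1, 1⟩) (.one ⟨8985, 2, 5⟩))) (.node 2 (.node 1 (.one ⟨9988, 0, 3⟩) (.one ⟨14953, 0, 4⟩)) (.node 1 (.one ⟨15080, 2, 5⟩) (.one ⟨7398, 0, 3⟩)))) (.node 4 (.node 2 (.node 1 (.one ⟨14845, 0, 3⟩) (.one ⟨8151, 0, 3⟩)) (.node 1 (.one ⟨12701, 2, 5⟩) (.one ⟨13068, 2, 2⟩))) (.node 2 (.node 1 (.one ⟨9993, 0, 3⟩) (.one ⟨1939, 2, 2⟩)) (.node 1 (.one ⟨13043, 0, 3⟩) (.one ⟨4863, 2, 5⟩)))))))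
def par6_6_5 : Arr Par :=
  (.node 32 (.node 16 (.node 8 (.node 4 (.node 2 (.node 1 (.one ⟨7707, 0, 1⟩) (.one ⟨12213, 0, 2⟩)) (.node 1 (.one ⟨12977, 2, 5⟩) (.one ⟨2179, 2, 3⟩))) (.node 2 (.node 1 (.one ⟨7794, 2, 3⟩) (.one ⟨16024, 2, 2⟩)) (.node 1 (.one ⟨9541, 2, 1⟩) (.one ⟨9049, 2, 5⟩)))) (.node 4 (.node 2 (.node 1 (.one ⟨3764, 0, 4⟩) (.one ⟨7275, 2, 5⟩)) (.node 1 (.one ⟨12127, 0, 3⟩) (.one ⟨4848, 0, 4⟩))) (.node 2 (.node 1 (.one ⟨15877, 2, 5⟩) (.one ⟨12841, 2, 4⟩)) (.node 1 (.one ⟨14216, 2, 5⟩) (.one ⟨12082, 1, 2⟩))))) (.node 8 (.node 4 (.node 2 (.node 1 (.one ⟨2132, 2, 5⟩) (.one ⟨9925, 0, 3⟩)) (.node 1 (.one ⟨6848, 2, 6⟩) (.one ⟨16923, 2, 6⟩))) (.node 2 (.node 1 (.one ⟨14215, 0, 4⟩) (.one ⟨3399, 0, 2⟩)) (.node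 1 (.one ⟨3476, 0, 2⟩) (.one ⟨374, 0, 4⟩)))) (.node 4 (.node 2 (.node 1 (.one ⟨10006, 0, 5⟩) (.one ⟨10005, 0, 2⟩)) (.node 1 (.one ⟨329, 0, 4⟩) (.one ⟨485, 2, 4⟩))) (.node 2 (.node 1 (.one ⟨14949, 2, 5⟩) (.one ⟨631, 0, 4⟩)) (.node 1 (.one ⟨9999, 0, 4⟩) (.one ⟨7031, 2, 6⟩)))))) (.node 16 (.node 8 (.node 4 (.node 2 (.node 1 (.one ⟨587, 1, 1⟩) (.one ⟨9149, 2, 1⟩)) (.node 1 (.one ⟨11484, 0, 4⟩) (.one ⟨6752, 2, 3⟩))) (.node 2 (.node 1 (.one ⟨3152, 0, 2⟩) (.one ⟨9986, 2, 3⟩)) (.node 1 (.one ⟨154, 2, 3⟩) (.one ⟨14960, 0, 4⟩)))) (.node 4 (.node 2 (.node 1 (.one ⟨6879, 0, 4⟩) (.one ⟨5069, 2, 3⟩)) (.node 1 (.one ⟨206, 0, 4⟩) (.one ⟨8479, 2, 2⟩))) (.node 2 (.node 1 (.one ⟨1646, 2, 5⟩) (.one ⟨5368, 1, 1⟩)) (.node 1 (.one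 ⟨12217, 2, 3⟩) (.one ⟨10586, 0, 3⟩))))) (.node 8 (.node 4 (.node 2 (.node 1 (.one ⟨85, 2, 1⟩) (.one ⟨11790, 2, 2⟩)) (.node 1 (.one ⟨205, 0, 3⟩) (.one ⟨11770, 2, 3⟩))) (.node 2 (.node 1 (.one ⟨3348, 1, 3⟩) (.one ⟨3695, 2, 3⟩)) (.node 1 (.one ⟨14258, 1, 5⟩) (.one ⟨7465, 0, 1⟩)))) (.node 4 (.node 2 (.node 1 (.one ⟨5584, 2, 2⟩) (.one ⟨126, 1, 0⟩)) (.node 1 (.one ⟨4057, 0, 1⟩) (.one ⟨15625, 2, 3⟩))) (.node 2 (.node 1 (.one ⟨13642, 0, 5⟩) (.one ⟨12772, 2, 3⟩)) (.node 1 (.one ⟨8679, 2, 3⟩) (.one ⟨7820, 0, 3⟩)))))))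
def par6_6_6 : Arr Par :=
  (.node 32 (.node 16 (.node 8 (.node 4 (.node 2 (.node 1 (.one ⟨4344, 0, 2⟩) (.one ⟨16644, 0, 5⟩)) (.node 1 (.one ⟨8651, 2, 4⟩) (.one ⟨11710, 0, 5⟩))) (.node 2 (.node 1 (.one ⟨7398, 2, 3⟩) (.one ⟨8793, 2, 5⟩)) (.node 1 (.one ⟨8600, 2, 4⟩) (.one ⟨1075, 0, 4⟩)))) (.node 4 (.node 2 (.node 1 (.one ⟨79, 2, 1⟩) (.one ⟨14711, 2, 3⟩)) (.node 1 (.one ⟨8687, 1, 1⟩) (.one ⟨6692, 2, 3⟩))) (.node 2 (.node 1 (.one ⟨9456, 2, 3⟩) (.one ⟨4791, 0, 4⟩)) (.node 1 (.one ⟨9539, 2, 5⟩) (.one ⟨14213, 1, 4⟩))))) (.node 8 (.node 4 (.node 2 (.node 1 (.one ⟨7157, 1, 1⟩) (.one ⟨4856, 0, 4⟩)) (.node 1 (.one ⟨4256, 1, 4⟩) (.one ⟨15852, 1, 3⟩))) (.node 2 (.node 1 (.one ⟨8511, 2, 3⟩) (.one ⟨12727, 2, 6⟩)) (.node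 1 (.one ⟨12256, 0, 2⟩) (.one ⟨2347, 0, 5⟩)))) (.node 4 (.node 2 (.node 1 (.one ⟨12851, 2, 4⟩) (.one ⟨16071, 2, 5⟩)) (.node 1 (.one ⟨1778, 2, 6⟩) (.one ⟨5163, 2, 2⟩))) (.node 2 (.node 1 (.one ⟨15567, 2, 2⟩) (.one ⟨10348, 2, 2⟩)) (.node 1 (.one ⟨8336, 2, 2⟩) (.one ⟨1997, 0, 2⟩)))))) (.node 16 (.node 8 (.node 4 (.node 2 (.node 1 (.one ⟨16506, 2, 3⟩) (.one ⟨16964, 0, 3⟩)) (.node 1 (.one ⟨2666, 2, 2⟩) (.one ⟨3321, 2, 4⟩))) (.node 2 (.node 1 (.one ⟨12882, 2, 2⟩) (.one ⟨7785, 0, 3⟩)) (.node 1 (.one ⟨6536, 2, 2⟩) (.one ⟨518, 2, 4⟩)))) (.node 4 (.node 2 (.node 1 (.one ⟨6564, 0, 3⟩) (.one ⟨2916, 2, 3⟩)) (.node 1 (.one ⟨15747, 0, 2⟩) (.one ⟨8514, 2, 3⟩))) (.node 2 (.node 1 (.one ⟨4915, 1, 4⟩) (.one ⟨1466, 0, 1⟩)) (.node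 1 (.one ⟨8612, 2, 5⟩) (.one ⟨10576, 2, 4⟩))))) (.node 8 (.node 4 (.node 2 (.node 1 (.one ⟨1504, 1, 0⟩) (.one ⟨10604, 2, 5⟩)) (.node 1 (.one ⟨9900, 0, 5⟩) (.one ⟨1974, 1, 2⟩))) (.node 2 (.node 1 (.one ⟨7224, 2, 4⟩) (.one ⟨14774, 2, 4⟩)) (.node 1 (.one ⟨7235, 2, 4⟩) (.one ⟨16112, 2, 2⟩)))) (.node 4 (.node 2 (.node 1 (.one ⟨10578, 2, 3⟩) (.one ⟨12541, 2, 4⟩)) (.node 1 (.one ⟨14053, 2, 5⟩) (.one ⟨3561, 2, 5⟩))) (.node 2 (.node 1 (.one ⟨6274, 2, 3⟩) (.one ⟨6399, 0, 4⟩)) (.node 1 (.one ⟨14595, 0, 2⟩) (.one ⟨1926, 2, 4⟩)))))))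
def par6_6_7 : Arr Par :=
  (.node 32 (.node 16 (.node 8 (.node 4 (.node 2 (.node 1 (.one ⟨6315, 0, 4⟩) (.one ⟨17057, 0, 2⟩)) (.node 1 (.one ⟨16759, 1, 5⟩) (.one ⟨8829, 0, 3⟩))) (.node 2 (.node 1 (.one ⟨9959, 2, 4⟩) (.one ⟨14223, 1, 5⟩)) (.node 1 (.one ⟨14488, 0, 4⟩) (.one ⟨12108, 2, 4⟩)))) (.node 4 (.node 2 (.node 1 (.one ⟨13285, 2, 4⟩) (.one ⟨6363, 2, 4⟩)) (.node 1 (.one ⟨7404, 2, 4⟩) (.one ⟨10057, 2, 5⟩))) (.node 2 (.node 1 (.one ⟨8199, 0, 4⟩) (.one ⟨8094, 2, 4⟩)) (.node 1 (.one ⟨8744, 2, 5⟩) (.one ⟨2292, 0, 4⟩))))) (.node 8 (.node 4 (.node 2 (.node 1 (.one ⟨2596, 0, 2⟩) (.one ⟨335, 1, 0⟩)) (.node 1 (.one ⟨16989, 2, 6⟩) (.one ⟨5722, 1, 2⟩))) (.node 2 (.node 1 (.one ⟨6325, 1, 5⟩) (.one ⟨15597, 2, 5⟩)) (.node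 1 (.one ⟨9903, 0, 2⟩) (.one ⟨12996, 0, 4⟩)))) (.node 4 (.node 2 (.node 1 (.one ⟨679, 0, 4⟩) (.one ⟨470, 0, 4⟩)) (.node 1 (.one ⟨12993, 0, 4⟩) (.one ⟨192, 0, 4⟩))) (.node 2 (.node 1 (.one ⟨12991, 0, 4⟩) (.one ⟨12998, 0, 4⟩)) (.node 1 (.one ⟨898, 0, 4⟩) (.one ⟨16869, 2, 4⟩)))))) (.node 16 (.node 8 (.node 4 (.node 2 (.node 1 (.one ⟨5233, 2, 4⟩) (.one ⟨5859, 2, 4⟩)) (.node 1 (.one ⟨9362, 2, 1⟩) (.one ⟨1513, 2, 4⟩))) (.node 2 (.node 1 (.one ⟨13902, 2, 4⟩) (.one ⟨13338, 2, 4⟩)) (.node 1 (.one ⟨8780, 2, 5⟩) (.one ⟨5457, 2, 5⟩)))) (.node 4 (.node 2 (.node 1 (.one ⟨5455, 2, 5⟩) (.one ⟨6251, 0, 3⟩)) (.node 1 (.one ⟨918, 2, 4⟩) (.one ⟨10, 2, 6⟩))) (.node 2 (.node 1 (.one ⟨348, 2, 3⟩) (.one ⟨5461, 2, 5⟩)) (.node 1 (.one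 ⟨16181, 1, 2⟩) (.one ⟨1347, 1, 1⟩))))) (.node 8 (.node 4 (.node 2 (.node 1 (.one ⟨5900, 2, 4⟩) (.one ⟨5873, 2, 4⟩)) (.node 1 (.one ⟨12690, 0, 4⟩) (.one ⟨2927, 0, 1⟩))) (.node 2 (.node 1 (.one ⟨928, 1, 4⟩) (.one ⟨5861, 2, 5⟩)) (.node 1 (.one ⟨3778, 2, 4⟩) (.one ⟨554, 0, 4⟩)))) (.node 4 (.node 2 (.node 1 (.one ⟨3182, 0, 4⟩) (.one ⟨1041, 0, 4⟩)) (.node 1 (.one ⟨3177, 0, 4⟩) (.one ⟨3175, 0, 4⟩))) (.node 2 (.node 1 (.one ⟨945, 0, 4⟩) (.one ⟨3180, 0, 4⟩)) (.node 1 (.one ⟨438, 0, 2⟩) (.one ⟨14270, 2, 3⟩)))))))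
def par6_6_8 : Arr Par :=
  (.node 32 (.node 16 (.node 8 (.node 4 (.node 2 (.node 1 (.one ⟨14586, 1, 4⟩) (.one ⟨14956, 2, 4⟩)) (.node 1 (.one ⟨7308, 0, 3⟩) (.one ⟨7258, 2, 5⟩))) (.node 2 (.node 1 (.one ⟨14590, 1, 5⟩) (.one ⟨5954, 2, 5⟩)) (.node 1 (.one ⟨3228, 2, 5⟩) (.one ⟨7001, 2, 5⟩)))) (.node 4 (.node 2 (.node 1 (.one ⟨16068, 2, 2⟩) (.one ⟨4631, 2, 5⟩)) (.node 1 (.one ⟨6636, 0, 4⟩) (.one ⟨5580, 2, 5⟩))) (.node 2 (.node 1 (.one ⟨16478, 2, 4⟩) (.one ⟨3761, 2, 5⟩)) (.node 1 (.one ⟨11172, 2, 3⟩) (.one ⟨2596, 1, 2⟩))))) (.node 8 (.node 4 (.node 2 (.node 1 (.one ⟨14073, 0, 4⟩) (.one ⟨14156, 0, 3⟩)) (.node 1 (.one ⟨10629, 0, 4⟩) (.one ⟨14317, 0, 3⟩))) (.node 2 (.node 1 (.one ⟨9886, 0, 2⟩) (.one ⟨9242, 0, 2⟩)) (.node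 1 (.one ⟨14479, 0, 2⟩) (.one ⟨8388, 0, 5⟩)))) (.node 4 (.node 2 (.node 1 (.one ⟨10104, 0, 2⟩) (.one ⟨3886, 2, 5⟩)) (.node 1 (.one ⟨10522, 2, 4⟩) (.one ⟨15207, 2, 6⟩))) (.node 2 (.node 1 (.one ⟨13275, 0, 4⟩) (.one ⟨10912, 2, 5⟩)) (.node 1 (.one ⟨9347, 0, 1⟩) (.one ⟨15516, 0, 2⟩)))))) (.node 16 (.node 8 (.node 4 (.node 2 (.node 1 (.one ⟨8642, 2, 5⟩) (.one ⟨4665, 2, 4⟩)) (.node 1 (.one ⟨8962, 0, 2⟩) (.one ⟨3150, 0, 2⟩))) (.node 2 (.node 1 (.one ⟨11569, 0, 2⟩) (.one ⟨1761, 0, 2⟩)) (.node 1 (.one ⟨13141, 0, 3⟩) (.one ⟨8871, 1, 5⟩)))) (.node 4 (.node 2 (.node 1 (.one ⟨3825, 2, 5⟩) (.one ⟨7835, 2, 3⟩)) (.node 1 (.one ⟨3157, 2, 5⟩) (.one ⟨5232, 0, 2⟩))) (.node 2 (.node 1 (.one ⟨11953, 2, 4⟩) (.one ⟨6057, 1, 2⟩)) (.node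 1 (.one ⟨11910, 0, 2⟩) (.one ⟨13550, 2, 5⟩))))) (.node 8 (.node 4 (.node 2 (.node 1 (.one ⟨10274, 2, 5⟩) (.one ⟨9284, 1, 1⟩)) (.node 1 (.one ⟨5110, 2, 4⟩) (.one ⟨84, 1, 1⟩))) (.node 2 (.node 1 (.one ⟨13122, 2, 4⟩) (.one ⟨1281, 1, 1⟩)) (.node 1 (.one ⟨2062, 2, 2⟩) (.one ⟨12584, 0, 2⟩)))) (.node 4 (.node 2 (.node 1 (.one ⟨4465, 0, 3⟩) (.one ⟨15407, 0, 3⟩)) (.node 1 (.one ⟨16330, 2, 2⟩) (.one ⟨12245, 2, 2⟩))) (.node 2 (.node 1 (.one ⟨15433, 0, 4⟩) (.one ⟨13144, 2, 3⟩)) (.node 1 (.one ⟨181, 2, 4⟩) (.one ⟨7163, 2, 2⟩)))))))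
def par6_6_9 : Arr Par :=
  (.node 32 (.node 16 (.node 8 (.node 4 (.node 2 (.node 1 (.one ⟨3402, 2, 5⟩) (.one ⟨8654, 2, 4⟩)) (.node 1 (.one ⟨4725, 0, 3⟩) (.one ⟨3470, 2, 5⟩))) (.node 2 (.node 1 (.one ⟨7279, 2, 3⟩) (.one ⟨12816, 0, 4⟩)) (.node 1 (.one ⟨8704, 2, 4⟩) (.one ⟨12484, 2, 1⟩)))) (.node 4 (.node 2 (.node 1 (.one ⟨7782, 0, 4⟩) (.one ⟨518, 1, 4⟩)) (.node 1 (.one ⟨1374, 2, 1⟩) (.one ⟨110, 2, 5⟩))) (.node 2 (.node 1 (.one ⟨1981, 2, 5⟩) (.one ⟨12009, 2, 5⟩)) (.node 1 (.one ⟨9141, 0, 1⟩) (.one ⟨15612, 0, 2⟩))))) (.node 8 (.node 4 (.node 2 (.node 1 (.one ⟨2386, 2, 2⟩) (.one ⟨15579, 0, 4⟩)) (.node 1 (.one ⟨7818, 1, 2⟩) (.one ⟨8383, 0, 5⟩))) (.node 2 (.node 1 (.one ⟨3904, 0, 3⟩) (.one ⟨8492, 0, 3⟩)) (.node 1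 (.one ⟨16679, 2, 5⟩) (.one ⟨13220, 1, 2⟩)))) (.node 4 (.node 2 (.node 1 (.one ⟨14735, 2, 6⟩) (.one ⟨5845, 2, 6⟩)) (.node 1 (.one ⟨14660, 2, 5⟩) (.one ⟨11031, 2, 2⟩))) (.node 2 (.node 1 (.one ⟨2054, 2, 4⟩) (.one ⟨13246, 0, 2⟩)) (.node 1 (.one ⟨2129, 2, 2⟩) (.one ⟨4310, 2, 2⟩)))))) (.node 16 (.node 8 (.node 4 (.node 2 (.node 1 (.one ⟨6194, 2, 2⟩) (.one ⟨12398, 2, 2⟩)) (.node 1 (.one ⟨14282, 2, 2⟩) (.one ⟨5843, 2, 4⟩))) (.node 2 (.node 1 (.one ⟨3766, 2, 2⟩) (.one ⟨5893, 0, 4⟩)) (.node 1 (.one ⟨11851, 2, 4⟩) (.one ⟨8483, 0, 2⟩)))) (.node 4 (.node 2 (.node 1 (.one ⟨2927, 1, 1⟩) (.one ⟨1867, 2, 2⟩)) (.node 1 (.one ⟨12488, 0, 3⟩) (.one ⟨701, 1, 1⟩))) (.node 2 (.node 1 (.one ⟨4531, 1, 1⟩) (.one ⟨9823, 2, 4⟩)) (.node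 1 (.one ⟨1812, 2, 3⟩) (.one ⟨5516, 2, 6⟩))))) (.node 8 (.node 4 (.node 2 (.node 1 (.one ⟨13450, 2, 5⟩) (.one ⟨9250, 2, 1⟩)) (.node 1 (.one ⟨4990, 0, 3⟩) (.one ⟨948, 1, 4⟩))) (.node 2 (.node 1 (.one ⟨4957, 0, 4⟩) (.one ⟨5791, 0, 3⟩)) (.node 1 (.one ⟨13182, 2, 5⟩) (.one ⟨16871, 2, 6⟩)))) (.node 4 (.node 2 (.node 1 (.one ⟨2748, 2, 3⟩) (.one ⟨421, 2, 6⟩)) (.node 1 (.one ⟨16193, 2, 3⟩) (.one ⟨15415, 2, 2⟩))) (.node 2 (.node 1 (.one ⟨4583, 2, 3⟩) (.one ⟨11986, 1, 2⟩)) (.node 1 (.one ⟨14255, 2, 3⟩) (.one ⟨2052, 0, 2⟩)))))))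
def par6_6_10 : Arr Par :=
  (.node 32 (.node 16 (.node 8 (.node 4 (.node 2 (.node 1 (.one ⟨375, 0, 2⟩) (.one ⟨2048, 0, 2⟩)) (.node 1 (.one ⟨8229, 2, 4⟩) (.one ⟨830, 0, 3⟩))) (.node 2 (.node 1 (.one ⟨2049, 0, 2⟩) (.one ⟨244, 0, 3⟩)) (.node 1 (.one ⟨2053, 0, 2⟩) (.one ⟨10450, 2, 5⟩)))) (.node 4 (.node 2 (.node 1 (.one ⟨4343, 0, 3⟩) (.one ⟨12654, 2, 4⟩)) (.node 1 (.one ⟨11079, 0, 3⟩) (.one ⟨6982, 0, 4⟩))) (.node 2 (.node 1 (.one ⟨10228, 2, 6⟩) (.one ⟨16422, 0, 3⟩)) (.node 1 (.one ⟨7556, 1, 1⟩) (.one ⟨5605, 2, 4⟩))))) (.node 8 (.node 4 (.node 2 (.node 1 (.one ⟨7338, 0, 4⟩) (.one ⟨338, 2, 1⟩)) (.node 1 (.one ⟨5604, 2, 3⟩) (.one ⟨1650, 0, 2⟩))) (.node 2 (.node 1 (.one ⟨5606, 2, 5⟩) (.one ⟨5603, 2, 3⟩)) (.node 1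 (.one ⟨336, 2, 4⟩) (.one ⟨6664, 0, 3⟩)))) (.node 4 (.node 2 (.node 1 (.one ⟨5402, 0, 2⟩) (.one ⟨1290, 0, 1⟩)) (.node 1 (.one ⟨1171, 1, 4⟩) (.one ⟨16891, 2, 3⟩))) (.node 2 (.node 1 (.one ⟨8279, 0, 2⟩) (.one ⟨6643, 0, 2⟩)) (.node 1 (.one ⟨5827, 2, 4⟩) (.one ⟨14865, 2, 3⟩)))))) (.node 16 (.node 8 (.node 4 (.node 2 (.node 1 (.one ⟨14780, 2, 5⟩) (.one ⟨16675, 1, 4⟩)) (.node 1 (.one ⟨2019, 2, 5⟩) (.one ⟨6721, 2, 5⟩))) (.node 2 (.node 1 (.one ⟨3828, 1, 1⟩) (.one ⟨10076, 2, 5⟩)) (.node 1 (.one ⟨10102, 2, 4⟩) (.one ⟨4682, 2, 5⟩)))) (.node 4 (.node 2 (.node 1 (.one ⟨4986, 0, 2⟩) (.one ⟨15574, 2, 2⟩)) (.node 1 (.one ⟨16583, 2, 6⟩) (.one ⟨3489, 0, 3⟩))) (.node 2 (.node 1 (.one ⟨15696, 2, 2⟩) (.one ⟨3735, 2, 3⟩)) (.node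 1 (.one ⟨2485, 2, 5⟩) (.one ⟨4600, 1, 3⟩))))) (.node 8 (.node 4 (.node 2 (.node 1 (.one ⟨3715, 0, 4⟩) (.one ⟨1922, 2, 4⟩)) (.node 1 (.one ⟨3830, 0, 3⟩) (.one ⟨1834, 0, 4⟩))) (.node 2 (.node 1 (.one ⟨14776, 0, 5⟩) (.one ⟨7315, 2, 5⟩)) (.node 1 (.one ⟨5120, 2, 5⟩) (.one ⟨9027, 2, 4⟩)))) (.node 4 (.node 2 (.node 1 (.one ⟨15234, 0, 2⟩) (.one ⟨15073, 2, 4⟩)) (.node 1 (.one ⟨12683, 2, 4⟩) (.one ⟨4450, 2, 5⟩))) (.node 2 (.node 1 (.one ⟨11352, 1, 5⟩) (.one ⟨9923, 2, 6⟩)) (.node 1 (.one ⟨15810, 2, 4⟩) (.one ⟨6009, 0, 4⟩)))))))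
def par6_6_11 : Arr Par :=
  (.node 32 (.node 16 (.node 8 (.node 4 (.node 2 (.node 1 (.one ⟨16649, 0, 5⟩) (.one ⟨8837, 2, 5⟩)) (.node 1 (.one ⟨3129, 2, 5⟩) (.one ⟨13000, 2, 5⟩))) (.node 2 (.node 1 (.one ⟨14995, 2, 5⟩) (.one ⟨6000, 0, 3⟩)) (.node 1 (.one ⟨6413, 2, 4⟩) (.one ⟨1102, 1, 0⟩)))) (.node 4 (.node 2 (.node 1 (.one ⟨2111, 2, 4⟩) (.one ⟨10650, 2, 4⟩)) (.node 1 (.one ⟨7516, 2, 3⟩) (.one ⟨2843, 2, 4⟩))) (.node 2 (.node 1 (.one ⟨2425, 0, 2⟩) (.one ⟨6215, 2, 4⟩)) (.node 1 (.one ⟨11269, 2, 4⟩) (.one ⟨13644, 0, 5⟩))))) (.node 8 (.node 4 (.node 2 (.node 1 (.one ⟨16607, 2, 4⟩) (.one ⟨9296, 2, 3⟩)) (.node 1 (.one ⟨10026, 0, 4⟩) (.one ⟨3679, 2, 3⟩))) (.node 2 (.node 1 (.one ⟨1727, 2, 2⟩) (.one ⟨8641, 2, 4⟩)) (.node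 1 (.one ⟨6626, 2, 2⟩) (.one ⟨2902, 2, 5⟩)))) (.node 4 (.node 2 (.node 1 (.one ⟨31, 2, 5⟩) (.one ⟨316, 2, 5⟩)) (.node 1 (.one ⟨2898, 2, 4⟩) (.one ⟨15838, 0, 4⟩))) (.node 2 (.node 1 (.one ⟨2901, 2, 6⟩) (.one ⟨3624, 0, 4⟩)) (.node 1 (.one ⟨403, 2, 5⟩) (.one ⟨4317, 2, 3⟩)))))) (.node 16 (.node 8 (.node 4 (.node 2 (.node 1 (.one ⟨1289, 0, 1⟩) (.one ⟨5372, 0, 4⟩)) (.node 1 (.one ⟨13004, 0, 4⟩) (.one ⟨4684, 2, 1⟩))) (.node 2 (.node 1 (.one ⟨1776, 2, 1⟩) (.one ⟨8687, 2, 1⟩)) (.node 1 (.one ⟨5943, 2, 1⟩) (.one ⟨12258, 2, 5⟩)))) (.node 4 (.node 2 (.node 1 (.one ⟨12256, 2, 2⟩) (.one ⟨911, 2, 5⟩)) (.node 1 (.one ⟨675, 2, 5⟩) (.one ⟨5619, 0, 1⟩))) (.node 2 (.node 1 (.one ⟨12262, 2, 6⟩) (.one ⟨60, 2, 5⟩)) (.node 1 (.one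 ⟨318, 2, 5⟩) (.one ⟨10616, 0, 4⟩))))) (.node 8 (.node 4 (.node 2 (.node 1 (.one ⟨6950, 2, 3⟩) (.one ⟨5903, 0, 4⟩)) (.node 1 (.one ⟨1247, 1, 5⟩) (.one ⟨9506, 1, 1⟩))) (.node 2 (.node 1 (.one ⟨2022, 0, 4⟩) (.one ⟨16313, 2, 4⟩)) (.node 1 (.one ⟨16910, 2, 2⟩) (.one ⟨14159, 2, 3⟩)))) (.node 4 (.node 2 (.node 1 (.one ⟨11359, 2, 1⟩) (.one ⟨9404, 2, 3⟩)) (.node 1 (.one ⟨15563, 2, 3⟩) (.one ⟨5680, 2, 1⟩))) (.node 2 (.node 1 (.one ⟨3431, 2, 5⟩) (.one ⟨1843, 2, 1⟩)) (.node 1 (.one ⟨2364, 1, 3⟩) (.one ⟨16451, 2, 4⟩)))))))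
def par6_6_12 : Arr Par :=
  (.node 32 (.node 16 (.node 8 (.node 4 (.node 2 (.node 1 (.one ⟨7386, 2, 5⟩) (.one ⟨11615, 2, 5⟩)) (.node 1 (.one ⟨2234, 2, 4⟩) (.one ⟨11910, 1, 2⟩))) (.node 2 (.node 1 (.one ⟨15296, 1, 3⟩) (.one ⟨16463, 0, 3⟩)) (.node 1 (.one ⟨10120, 0, 1⟩) (.one ⟨4769, 2, 3⟩)))) (.node 4 (.node 2 (.node 1 (.one ⟨3200, 2, 4⟩) (.one ⟨16049, 0, 4⟩)) (.node 1 (.one ⟨9394, 1, 5⟩) (.one ⟨16337, 0, 4⟩))) (.node 2 (.node 1 (.one ⟨14282, 0, 2⟩) (.one ⟨1374, 0, 1⟩)) (.node 1 (.one ⟨13277, 2, 4⟩) (.one ⟨16460, 2, 5⟩))))) (.node 8 (.node 4 (.node 2 (.node 1 (.one ⟨7491, 2, 3⟩) (.one ⟨9915, 2, 5⟩)) (.node 1 (.one ⟨4269, 0, 5⟩) (.one ⟨2656, 2, 5⟩))) (.node 2 (.node 1 (.one ⟨9319, 0, 4⟩) (.one ⟨16713, 0, 4⟩))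 (.node 1 (.one ⟨15067, 2, 5⟩) (.one ⟨10199, 0, 3⟩)))) (.node 4 (.node 2 (.node 1 (.one ⟨10791, 2, 4⟩) (.one ⟨12043, 2, 5⟩)) (.node 1 (.one ⟨13698, 2, 6⟩) (.one ⟨4025, 2, 6⟩))) (.node 2 (.node 1 (.one ⟨14141, 1, 4⟩) (.one ⟨4698, 0, 2⟩)) (.node 1 (.one ⟨12023, 1, 5⟩) (.one ⟨8133, 1, 3⟩)))))) (.node 16 (.node 8 (.node 4 (.node 2 (.node 1 (.one ⟨13819, 2, 3⟩) (.one ⟨2251, 0, 4⟩)) (.node 1 (.one ⟨15742, 0, 4⟩) (.one ⟨2969, 0, 5⟩))) (.node 2 (.node 1 (.one ⟨14575, 2, 5⟩) (.one ⟨16814, 0, 4⟩)) (.node 1 (.one ⟨1701, 2, 2⟩) (.one ⟨16999, 2, 5⟩)))) (.node 4 (.node 2 (.node 1 (.one ⟨15537, 1, 5⟩) (.one ⟨10387, 2, 5⟩)) (.node 1 (.one ⟨7491, 0, 3⟩) (.one ⟨4746, 2, 5⟩))) (.node 2 (.node 1 (.one ⟨1803, 2, 5⟩) (.one ⟨5708,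 2, 4⟩)) (.node 1 (.one ⟨8376, 2, 5⟩) (.one ⟨15419, 2, 4⟩))))) (.node 8 (.node 4 (.node 2 (.node 1 (.one ⟨13581, 2, 4⟩) (.one ⟨5535, 2, 2⟩)) (.node 1 (.one ⟨7379, 2, 4⟩) (.one ⟨10728, 2, 4⟩))) (.node 2 (.node 1 (.one ⟨10972, 1, 3⟩) (.one ⟨8178, 2, 5⟩)) (.node 1 (.one ⟨2630, 2, 3⟩) (.one ⟨4265, 2, 2⟩)))) (.node 4 (.node 2 (.node 1 (.one ⟨7537, 0, 2⟩) (.one ⟨9911, 0, 2⟩)) (.node 1 (.one ⟨2637, 2, 5⟩) (.one ⟨3556, 2, 5⟩))) (.node 2 (.node 1 (.one ⟨14961, 0, 4⟩) (.one ⟨2359, 2, 3⟩)) (.node 1 (.one ⟨1259, 2, 3⟩) (.one ⟨3062, 2, 6⟩)))))))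
def par6_6_13 : Arr Par :=
  (.node 32 (.node 16 (.node 8 (.node 4 (.node 2 (.node 1 (.one ⟨6217, 0, 2⟩) (.one ⟨14234, 2, 6⟩)) (.node 1 (.one ⟨388, 1, 2⟩) (.one ⟨862, 0, 5⟩))) (.node 2 (.node 1 (.one ⟨14516, 0, 4⟩) (.one ⟨2592, 1, 2⟩)) (.node 1 (.one ⟨16303, 2, 3⟩) (.one ⟨12197, 2, 4⟩)))) (.node 4 (.node 2 (.node 1 (.one ⟨2337, 2, 4⟩) (.one ⟨10095, 2, 4⟩)) (.node 1 (.one ⟨406, 0, 3⟩) (.one ⟨4327, 2, 4⟩))) (.node 2 (.node 1 (.one ⟨10756, 2, 2⟩) (.one ⟨972, 2, 4⟩)) (.node 1 (.one ⟨11578, 2, 4⟩) (.one ⟨2169, 2, 4⟩))))) (.node 8 (.node 4 (.node 2 (.node 1 (.one ⟨929, 2, 4⟩) (.one ⟨2539, 2, 3⟩)) (.node 1 (.one ⟨2463, 2, 1⟩) (.one ⟨4433, 2, 4⟩))) (.node 2 (.node 1 (.one ⟨3958, 2, 4⟩) (.one ⟨3652, 2, 4⟩)) (.node 1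 (.one ⟨3624, 2, 4⟩) (.one ⟨5253, 0, 2⟩)))) (.node 4 (.node 2 (.node 1 (.one ⟨8973, 0, 5⟩) (.one ⟨13181, 2, 4⟩)) (.node 1 (.one ⟨7878, 2, 4⟩) (.one ⟨15622, 2, 4⟩))) (.node 2 (.node 1 (.one ⟨16873, 0, 2⟩) (.one ⟨5452, 2, 4⟩)) (.node 1 (.one ⟨9751, 0, 2⟩) (.one ⟨1131, 2, 2⟩)))))) (.node 16 (.node 8 (.node 4 (.node 2 (.node 1 (.one ⟨2006, 0, 5⟩) (.one ⟨16264, 2, 4⟩)) (.node 1 (.one ⟨1582, 0, 2⟩) (.one ⟨5706, 2, 5⟩))) (.node 2 (.node 1 (.one ⟨9771, 2, 4⟩) (.one ⟨12037, 2, 2⟩)) (.node 1 (.one ⟨8154, 2, 4⟩) (.one ⟨6693, 2, 3⟩)))) (.node 4 (.node 2 (.node 1 (.one ⟨10394, 2, 5⟩) (.one ⟨16314, 2, 4⟩)) (.node 1 (.one ⟨4941, 2, 4⟩) (.one ⟨16027, 2, 4⟩))) (.node 2 (.node 1 (.one ⟨5367, 2, 4⟩) (.one ⟨7102, 2, 3⟩)) (.node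 1 (.one ⟨9355, 2, 5⟩) (.one ⟨6643, 1, 2⟩))))) (.node 8 (.node 4 (.node 2 (.node 1 (.one ⟨10947, 2, 2⟩) (.one ⟨1776, 0, 1⟩)) (.node 1 (.one ⟨16510, 2, 4⟩) (.one ⟨16963, 2, 3⟩))) (.node 2 (.node 1 (.one ⟨5555, 2, 5⟩) (.one ⟨262, 1, 1⟩)) (.node 1 (.one ⟨11167, 0, 4⟩) (.one ⟨16731, 2, 5⟩)))) (.node 4 (.node 2 (.node 1 (.one ⟨12892, 2, 4⟩) (.one ⟨4313, 0, 2⟩)) (.node 1 (.one ⟨10165, 2, 4⟩) (.one ⟨8377, 2, 4⟩))) (.node 2 (.node 1 (.one ⟨4921, 2, 4⟩) (.one ⟨6023, 2, 5⟩)) (.node 1 (.one ⟨1655, 2, 5⟩) (.one ⟨13264, 2, 5⟩)))))))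
def par6_6_14 : Arr Par :=
  (.node 32 (.node 16 (.node 8 (.node 4 (.node 2 (.node 1 (.one ⟨13287, 0, 3⟩) (.one ⟨4950, 2, 4⟩)) (.node 1 (.one ⟨11299, 2, 3⟩) (.one ⟨9517, 2, 5⟩))) (.node 2 (.node 1 (.one ⟨15357, 0, 5⟩) (.one ⟨2674, 2, 5⟩)) (.node 1 (.one ⟨2463, 1, 1⟩) (.one ⟨4642, 2, 6⟩)))) (.node 4 (.node 2 (.node 1 (.one ⟨10379, 0, 4⟩) (.one ⟨310, 1, 0⟩)) (.node 1 (.one ⟨10691, 0, 3⟩) (.one ⟨10413, 1, 2⟩))) (.node 2 (.node 1 (.one ⟨2186, 0, 2⟩) (.one ⟨7115, 1, 5⟩)) (.node 1 (.one ⟨5304, 2, 3⟩) (.one ⟨17191, 0, 4⟩))))) (.node 8 (.node 4 (.node 2 (.node 1 (.one ⟨16914, 2, 4⟩) (.one ⟨11202, 2, 4⟩)) (.node 1 (.one ⟨14543, 2, 4⟩) (.one ⟨948, 2, 4⟩))) (.node 2 (.node 1 (.one ⟨4056, 0, 4⟩) (.one ⟨4933, 2, 5⟩)) (.node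 1 (.one ⟨7645, 2, 4⟩) (.one ⟨12600, 1, 3⟩)))) (.node 4 (.node 2 (.node 1 (.one ⟨12348, 0, 4⟩) (.one ⟨2083, 2, 5⟩)) (.node 1 (.one ⟨15849, 0, 5⟩) (.one ⟨15765, 2, 5⟩))) (.node 2 (.node 1 (.one ⟨14524, 2, 2⟩) (.one ⟨131, 2, 4⟩)) (.node 1 (.one ⟨4352, 2, 3⟩) (.one ⟨5864, 2, 5⟩)))))) (.node 16 (.node 8 (.node 4 (.node 2 (.node 1 (.one ⟨13394, 2, 3⟩) (.one ⟨931, 0, 5⟩)) (.node 1 (.one ⟨7553, 0, 4⟩) (.one ⟨2085, 2, 2⟩))) (.node 2 (.node 1 (.one ⟨16917, 2, 4⟩) (.one ⟨7639, 2, 4⟩)) (.node 1 (.one ⟨11480, 2, 5⟩) (.one ⟨4968, 2, 3⟩)))) (.node 4 (.node 2 (.node 1 (.one ⟨15760, 0, 4⟩) (.one ⟨325, 2, 5⟩)) (.node 1 (.one ⟨18, 2, 6⟩) (.one ⟨9532, 0, 4⟩))) (.node 2 (.node 1 (.one ⟨7644, 0, 4⟩) (.one ⟨916, 2, 4⟩)) (.node 1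 (.one ⟨12659, 0, 3⟩) (.one ⟨3203, 2, 4⟩))))) (.node 8 (.node 4 (.node 2 (.node 1 (.one ⟨1662, 2, 4⟩) (.one ⟨4256, 2, 4⟩)) (.node 1 (.one ⟨4923, 2, 4⟩) (.one ⟨9689, 0, 3⟩))) (.node 2 (.node 1 (.one ⟨2279, 1, 0⟩) (.one ⟨8585, 2, 4⟩)) (.node 1 (.one ⟨717, 0, 3⟩) (.one ⟨12357, 0, 4⟩)))) (.node 4 (.node 2 (.node 1 (.one ⟨837, 0, 3⟩) (.one ⟨12352, 0, 2⟩)) (.node 1 (.one ⟨16248, 2, 3⟩) (.one ⟨12353, 0, 2⟩))) (.node 2 (.node 1 (.one ⟨10911, 2, 3⟩) (.one ⟨12356, 0, 2⟩)) (.node 1 (.one ⟨863, 0, 2⟩) (.one ⟨12209, 2, 5⟩)))))))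
def par6_6_15 : Arr Par :=
  (.node 32 (.node 16 (.node 8 (.node 4 (.node 2 (.node 1 (.one ⟨15745, 2, 5⟩) (.one ⟨6532, 2, 4⟩)) (.node 1 (.one ⟨14786, 0, 4⟩) (.one ⟨5149, 2, 5⟩))) (.node 2 (.node 1 (.one ⟨8611, 2, 5⟩) (.one ⟨15263, 2, 4⟩)) (.node 1 (.one ⟨11025, 2, 4⟩) (.one ⟨11340, 2, 4⟩)))) (.node 4 (.node 2 (.node 1 (.one ⟨5860, 2, 5⟩) (.one ⟨16208, 2, 5⟩)) (.node 1 (.one ⟨4896, 2, 2⟩) (.one ⟨14784, 0, 4⟩))) (.node 2 (.node 1 (.one ⟨8433, 2, 3⟩) (.one ⟨496, 0, 4⟩)) (.node 1 (.one ⟨1677, 2, 3⟩) (.one ⟨11008, 2, 3⟩))))) (.node 8 (.node 4 (.node 2 (.node 1 (.one ⟨11009, 2, 5⟩) (.one ⟨11121, 1, 4⟩)) (.node 1 (.one ⟨4336, 0, 4⟩) (.one ⟨1225, 1, 1⟩))) (.node 2 (.node 1 (.one ⟨708, 2, 4⟩) (.one ⟨288, 2, 5⟩)) (.node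 1 (.one ⟨125, 2, 5⟩) (.one ⟨1665, 0, 4⟩)))) (.node 4 (.node 2 (.node 1 (.one ⟨3763, 2, 3⟩) (.one ⟨7598, 2, 2⟩)) (.node 1 (.one ⟨12538, 2, 4⟩) (.one ⟨9886, 2, 2⟩))) (.node 2 (.node 1 (.one ⟨8457, 2, 2⟩) (.one ⟨2423, 2, 2⟩)) (.node 1 (.one ⟨16854, 2, 2⟩) (.one ⟨1950, 2, 3⟩)))))) (.node 16 (.node 8 (.node 4 (.node 2 (.node 1 (.one ⟨16330, 0, 2⟩) (.one ⟨8080, 1, 4⟩)) (.node 1 (.one ⟨16227, 0, 4⟩) (.one ⟨10040, 0, 2⟩))) (.node 2 (.node 1 (.one ⟨1608, 2, 4⟩) (.one ⟨9438, 0, 1⟩)) (.node 1 (.one ⟨12254, 2, 3⟩) (.one ⟨11332, 2, 3⟩)))) (.node 4 (.node 2 (.node 1 (.one ⟨2693, 2, 5⟩) (.one ⟨16440, 0, 2⟩)) (.node 1 (.one ⟨14769, 2, 4⟩) (.one ⟨9449, 2, 4⟩))) (.node 2 (.node 1 (.one ⟨2987, 2, 4⟩) (.one ⟨7596, 2, 5⟩)) (.node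 1 (.one ⟨14371, 0, 5⟩) (.one ⟨8820, 0, 4⟩))))) (.node 8 (.node 4 (.node 2 (.node 1 (.one ⟨11448, 0, 3⟩) (.one ⟨7933, 2, 4⟩)) (.node 1 (.one ⟨16722, 2, 5⟩) (.one ⟨15874, 0, 4⟩))) (.node 2 (.node 1 (.one ⟨11034, 2, 4⟩) (.one ⟨272, 0, 0⟩)) (.node 1 (.one ⟨14349, 2, 6⟩) (.one ⟨13494, 0, 4⟩)))) (.node 4 (.node 2 (.node 1 (.one ⟨14551, 1, 3⟩) (.one ⟨4405, 1, 0⟩)) (.node 1 (.one ⟨1989, 1, 3⟩) (.one ⟨1442, 0, 1⟩))) (.node 2 (.node 1 (.one ⟨5694, 1, 3⟩) (.one ⟨2688, 1, 4⟩)) (.node 1 (.one ⟨12803, 2, 4⟩) (.one ⟨4587, 2, 5⟩)))))))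
def par6_6 : Arr Par :=
  (.node 512 (.node 256 (.node 128 (.node 64 par6_6_0 par6_6_1) (.node 64 par6_6_2 par6_6_3)) (.node 128 (.node 64 par6_6_4 par6_6_5) (.node 64 par6_6_6 par6_6_7))) (.node 256 (.node 128 (.node 64 par6_6_8 par6_6_9) (.node 64 par6_6_10 par6_6_11)) (.node 128 (.node 64 par6_6_12 par6_6_13) (.node 64 par6_6_14 par6_6_15))))
def par6_7_0 : Arr Par :=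
  (.node 32 (.node 16 (.node 8 (.node 4 (.node 2 (.node 1 (.one ⟨1703, 2, 4⟩) (.one ⟨15122, 0, 3⟩)) (.node 1 (.one ⟨11302, 1, 4⟩) (.one ⟨12956, 0, 4⟩))) (.node 2 (.node 1 (.one ⟨15526, 2, 4⟩) (.one ⟨16285, 2, 4⟩)) (.node 1 (.one ⟨15417, 2, 4⟩) (.one ⟨15408, 0, 3⟩)))) (.node 4 (.node 2 (.node 1 (.one ⟨1864, 0, 2⟩) (.one ⟨9605, 1, 1⟩)) (.node 1 (.one ⟨13017, 0, 2⟩) (.one ⟨6281, 0, 3⟩))) (.node 2 (.node 1 (.one ⟨9445, 1, 1⟩) (.one ⟨14738, 2, 5⟩)) (.node 1 (.one ⟨8253, 2, 5⟩) (.one ⟨12523, 2, 5⟩))))) (.node 8 (.node 4 (.node 2 (.node 1 (.one ⟨4539, 2, 3⟩) (.one ⟨1559, 2, 3⟩)) (.node 1 (.one ⟨11442, 2, 4⟩) (.one ⟨11548, 2, 1⟩))) (.node 2 (.node 1 (.one ⟨7878, 0, 4⟩) (.one ⟨9163, 0, 3⟩)) (.node 1 (.one ⟨3569, 1,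 0⟩) (.one ⟨7259, 0, 2⟩)))) (.node 4 (.node 2 (.node 1 (.one ⟨14986, 2, 5⟩) (.one ⟨6361, 0, 3⟩)) (.node 1 (.one ⟨14510, 0, 5⟩) (.one ⟨11496, 2, 5⟩))) (.node 2 (.node 1 (.one ⟨2556, 2, 5⟩) (.one ⟨10907, 0, 5⟩)) (.node 1 (.one ⟨2792, 0, 3⟩) (.one ⟨11833, 2, 4⟩)))))) (.node 16 (.node 8 (.node 4 (.node 2 (.node 1 (.one ⟨2572, 2, 2⟩) (.one ⟨8583, 1, 5⟩)) (.node 1 (.one ⟨9803, 2, 5⟩) (.one ⟨12720, 2, 4⟩))) (.node 2 (.node 1 (.one ⟨8384, 0, 5⟩) (.one ⟨5478, 2, 4⟩)) (.node 1 (.one ⟨11022, 2, 4⟩) (.one ⟨1591, 2, 2⟩)))) (.node 4 (.node 2 (.node 1 (.one ⟨4804, 2, 5⟩) (.one ⟨5804, 2, 4⟩)) (.node 1 (.one ⟨8475, 2, 5⟩) (.one ⟨4873, 2, 5⟩))) (.node 2 (.node 1 (.one ⟨5894, 0, 4⟩) (.one ⟨8412, 2, 5⟩)) (.node 1 (.one ⟨14785,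 1, 5⟩) (.one ⟨1673, 2, 3⟩))))) (.node 8 (.node 4 (.node 2 (.node 1 (.one ⟨8361, 2, 3⟩) (.one ⟨9379, 2, 1⟩)) (.node 1 (.one ⟨16353, 2, 3⟩) (.one ⟨12829, 0, 4⟩))) (.node 2 (.node 1 (.one ⟨2379, 0, 3⟩) (.one ⟨4737, 2, 3⟩)) (.node 1 (.one ⟨7548, 2, 2⟩) (.one ⟨2432, 2, 3⟩)))) (.node 4 (.node 2 (.node 1 (.one ⟨9203, 0, 3⟩) (.one ⟨14498, 0, 5⟩)) (.node 1 (.one ⟨9995, 2, 5⟩) (.one ⟨2796, 0, 5⟩))) (.node 2 (.node 1 (.one ⟨1728, 2, 2⟩) (.one ⟨10622, 2, 4⟩)) (.node 1 (.one ⟨16425, 2, 4⟩) (.one ⟨4142, 0, 3⟩)))))))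
def par6_7_1 : Arr Par :=
  (.node 32 (.node 16 (.node 8 (.node 4 (.node 2 (.node 1 (.one ⟨12260, 0, 5⟩) (.one ⟨1493, 2, 1⟩)) (.node 1 (.one ⟨16273, 0, 4⟩) (.one ⟨1308, 0, 3⟩))) (.node 2 (.node 1 (.one ⟨10174, 0, 5⟩) (.one ⟨2436, 2, 6⟩)) (.node 1 (.one ⟨8640, 2, 5⟩) (.one ⟨8298, 1, 5⟩)))) (.node 4 (.node 2 (.node 1 (.one ⟨5858, 1, 5⟩) (.one ⟨11097, 2, 4⟩)) (.node 1 (.one ⟨7163, 0, 2⟩) (.one ⟨4258, 0, 4⟩))) (.node 2 (.node 1 (.one ⟨16585, 0, 5⟩) (.one ⟨13594, 0, 4⟩)) (.node 1 (.one ⟨6328, 1, 5⟩) (.one ⟨7889, 2, 5⟩))))) (.node 8 (.node 4 (.node 2 (.node 1 (.one ⟨13667, 2, 4⟩) (.one ⟨15697, 2, 5⟩)) (.node 1 (.one ⟨5944, 2, 3⟩) (.one ⟨11995, 2, 5⟩))) (.node 2 (.node 1 (.one ⟨2508, 2, 4⟩) (.one ⟨4320, 2, 5⟩)) (.node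 1 (.one ⟨10346, 2, 4⟩) (.one ⟨4339, 2, 6⟩)))) (.node 4 (.node 2 (.node 1 (.one ⟨13506, 2, 5⟩) (.one ⟨2801, 2, 5⟩)) (.node 1 (.one ⟨1465, 1, 4⟩) (.one ⟨69, 1, 1⟩))) (.node 2 (.node 1 (.one ⟨7919, 2, 5⟩) (.one ⟨6370, 0, 4⟩)) (.node 1 (.one ⟨7414, 2, 6⟩) (.one ⟨3171, 2, 4⟩)))))) (.node 16 (.node 8 (.node 4 (.node 2 (.node 1 (.one ⟨302, 2, 4⟩) (.one ⟨2974, 2, 2⟩)) (.node 1 (.one ⟨16293, 0, 3⟩) (.one ⟨11889, 2, 4⟩))) (.node 2 (.node 1 (.one ⟨13510, 2, 5⟩) (.one ⟨12192, 2, 4⟩)) (.node 1 (.one ⟨12919, 2, 4⟩) (.one ⟨877, 2, 4⟩)))) (.node 4 (.node 2 (.node 1 (.one ⟨7503, 2, 3⟩) (.one ⟨14496, 0, 4⟩)) (.node 1 (.one ⟨876, 2, 4⟩) (.one ⟨6364, 0, 4⟩))) (.node 2 (.node 1 (.one ⟨12415, 0, 4⟩) (.one ⟨1441, 0, 1⟩)) (.node 1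 (.one ⟨879, 2, 4⟩) (.one ⟨438, 2, 2⟩))))) (.node 8 (.node 4 (.node 2 (.node 1 (.one ⟨3330, 1, 3⟩) (.one ⟨13578, 2, 5⟩)) (.node 1 (.one ⟨8130, 0, 3⟩) (.one ⟨9437, 0, 1⟩))) (.node 2 (.node 1 (.one ⟨10933, 1, 3⟩) (.one ⟨4362, 1, 4⟩)) (.node 1 (.one ⟨14965, 0, 4⟩) (.one ⟨1318, 2, 4⟩)))) (.node 4 (.node 2 (.node 1 (.one ⟨5419, 2, 5⟩) (.one ⟨3629, 0, 5⟩)) (.node 1 (.one ⟨9594, 2, 5⟩) (.one ⟨3162, 0, 2⟩))) (.node 2 (.node 1 (.one ⟨5207, 0, 4⟩) (.one ⟨1394, 2, 5⟩)) (.node 1 (.one ⟨15478, 0, 3⟩) (.one ⟨1732, 0, 4⟩)))))))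
def par6_7_2 : Arr Par :=
  (.node 32 (.node 16 (.node 8 (.node 4 (.node 2 (.node 1 (.one ⟨11517, 2, 5⟩) (.one ⟨13453, 2, 4⟩)) (.node 1 (.one ⟨6194, 0, 2⟩) (.one ⟨14267, 1, 3⟩))) (.node 2 (.node 1 (.one ⟨8850, 1, 5⟩) (.one ⟨10905, 2, 5⟩)) (.node 1 (.one ⟨5044, 2, 4⟩) (.one ⟨15742, 1, 4⟩)))) (.node 4 (.node 2 (.node 1 (.one ⟨10704, 2, 2⟩) (.one ⟨10982, 2, 4⟩)) (.node 1 (.one ⟨14888, 2, 2⟩) (.one ⟨16341, 1, 3⟩))) (.node 2 (.node 1 (.one ⟨3399, 2, 2⟩) (.one ⟨16232, 0, 3⟩)) (.node 1 (.one ⟨5679, 2, 1⟩) (.one ⟨9127, 2, 3⟩))))) (.node 8 (.node 4 (.node 2 (.node 1 (.one ⟨5696, 1, 1⟩) (.one ⟨2919, 0, 4⟩)) (.node 1 (.one ⟨1223, 2, 3⟩) (.one ⟨1269, 0, 4⟩))) (.node 2 (.node 1 (.one ⟨1301, 2, 3⟩) (.one ⟨9076, 2, 3⟩)) (.node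 1 (.one ⟨6769, 0, 2⟩) (.one ⟨12635, 1, 3⟩)))) (.node 4 (.node 2 (.node 1 (.one ⟨16941, 1, 3⟩) (.one ⟨14622, 1, 3⟩)) (.node 1 (.one ⟨9982, 1, 3⟩) (.one ⟨16465, 1, 3⟩))) (.node 2 (.node 1 (.one ⟨13103, 1, 3⟩) (.one ⟨10391, 0, 4⟩)) (.node 1 (.one ⟨10745, 0, 4⟩) (.one ⟨9047, 0, 3⟩)))))) (.node 16 (.node 8 (.node 4 (.node 2 (.node 1 (.one ⟨6828, 0, 3⟩) (.one ⟨7794, 0, 3⟩)) (.node 1 (.one ⟨8815, 2, 3⟩) (.one ⟨4532, 2, 1⟩))) (.node 2 (.node 1 (.one ⟨6258, 2, 2⟩) (.one ⟨12405, 1, 4⟩)) (.node 1 (.one ⟨4583, 0, 3⟩) (.one ⟨16394, 2, 6⟩)))) (.node 4 (.node 2 (.node 1 (.one ⟨16712, 2, 3⟩) (.one ⟨7327, 2, 4⟩)) (.node 1 (.one ⟨5792, 2, 3⟩) (.one ⟨7133, 2, 3⟩))) (.node 2 (.node 1 (.one ⟨16910, 0, 2⟩) (.one ⟨5394, 0, 4⟩)) (.node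 1 (.one ⟨16812, 2, 6⟩) (.one ⟨7353, 0, 2⟩))))) (.node 8 (.node 4 (.node 2 (.node 1 (.one ⟨17062, 2, 5⟩) (.one ⟨17066, 2, 5⟩)) (.node 1 (.one ⟨9369, 2, 2⟩) (.one ⟨1492, 2, 3⟩))) (.node 2 (.node 1 (.one ⟨8987, 2, 5⟩) (.one ⟨7370, 0, 3⟩)) (.node 1 (.one ⟨1522, 2, 3⟩) (.one ⟨11780, 2, 5⟩)))) (.node 4 (.node 2 (.node 1 (.one ⟨15930, 2, 5⟩) (.one ⟨1123, 0, 1⟩)) (.node 1 (.one ⟨4546, 2, 5⟩) (.one ⟨10662, 2, 5⟩))) (.node 2 (.node 1 (.one ⟨5545, 0, 5⟩) (.one ⟨7187, 2, 2⟩)) (.node 1 (.one ⟨3155, 2, 5⟩) (.one ⟨12498, 2, 3⟩)))))))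
def par6_7_3 : Arr Par :=
  (.node 32 (.node 16 (.node 8 (.node 4 (.node 2 (.node 1 (.one ⟨2997, 2, 1⟩) (.one ⟨16611, 1, 4⟩)) (.node 1 (.one ⟨14883, 2, 5⟩) (.one ⟨8133, 0, 3⟩))) (.node 2 (.node 1 (.one ⟨11102, 0, 3⟩) (.one ⟨11928, 2, 2⟩)) (.node 1 (.one ⟨3398, 2, 5⟩) (.one ⟨9331, 1, 1⟩)))) (.node 4 (.node 2 (.node 1 (.one ⟨7357, 0, 3⟩) (.one ⟨14797, 0, 2⟩)) (.node 1 (.one ⟨17085, 0, 2⟩) (.one ⟨4406, 0, 2⟩))) (.node 2 (.node 1 (.one ⟨8730, 2, 3⟩) (.one ⟨15124, 2, 4⟩)) (.node 1 (.one ⟨16573, 2, 6⟩) (.one ⟨10774, 0, 3⟩))))) (.node 8 (.node 4 (.node 2 (.node 1 (.one ⟨12851, 0, 4⟩) (.one ⟨4276, 1, 2⟩)) (.node 1 (.one ⟨12590, 2, 5⟩) (.one ⟨9214, 0, 3⟩))) (.node 2 (.node 1 (.one ⟨4112, 2, 2⟩) (.one ⟨1828, 2, 4⟩))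 (.node 1 (.one ⟨848, 2, 4⟩) (.one ⟨5137, 0, 4⟩)))) (.node 4 (.node 2 (.node 1 (.one ⟨2868, 0, 4⟩) (.one ⟨5340, 2, 4⟩)) (.node 1 (.one ⟨5522, 2, 4⟩) (.one ⟨1975, 0, 3⟩))) (.node 2 (.node 1 (.one ⟨4079, 0, 3⟩) (.one ⟨7954, 2, 5⟩)) (.node 1 (.one ⟨1843, 0, 1⟩) (.one ⟨10514, 1, 2⟩)))))) (.node 16 (.node 8 (.node 4 (.node 2 (.node 1 (.one ⟨12608, 0, 5⟩) (.one ⟨6335, 2, 5⟩)) (.node 1 (.one ⟨5259, 1, 2⟩) (.one ⟨14604, 2, 6⟩))) (.node 2 (.node 1 (.one ⟨2554, 2, 5⟩) (.one ⟨1976, 0, 2⟩)) (.node 1 (.one ⟨15701, 0, 2⟩) (.one ⟨9066, 2, 5⟩)))) (.node 4 (.node 2 (.node 1 (.one ⟨2874, 0, 4⟩) (.one ⟨13152, 0, 4⟩)) (.node 1 (.one ⟨16611, 0, 4⟩) (.one ⟨6941, 0, 3⟩))) (.node 2 (.node 1 (.one ⟨3147, 0, 3⟩) (.one ⟨13013, 0, 3⟩))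 (.node 1 (.one ⟨16831, 0, 3⟩) (.one ⟨4282, 0, 2⟩))))) (.node 8 (.node 4 (.node 2 (.node 1 (.one ⟨6864, 2, 5⟩) (.one ⟨8387, 0, 3⟩)) (.node 1 (.one ⟨10632, 0, 5⟩) (.one ⟨3486, 2, 4⟩))) (.node 2 (.node 1 (.one ⟨2339, 0, 4⟩) (.one ⟨12039, 0, 5⟩)) (.node 1 (.one ⟨6911, 0, 5⟩) (.one ⟨4844, 2, 4⟩)))) (.node 4 (.node 2 (.node 1 (.one ⟨11272, 2, 5⟩) (.one ⟨4585, 1, 5⟩)) (.node 1 (.one ⟨10635, 2, 5⟩) (.one ⟨7004, 1, 3⟩))) (.node 2 (.node 1 (.one ⟨15131, 0, 2⟩) (.one ⟨2779, 0, 2⟩)) (.node 1 (.one ⟨5694, 0, 3⟩) (.one ⟨4225, 2, 3⟩)))))))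
def par6_7_4 : Arr Par :=
  (.node 32 (.node 16 (.node 8 (.node 4 (.node 2 (.node 1 (.one ⟨3760, 2, 3⟩) (.one ⟨15781, 2, 3⟩)) (.node 1 (.one ⟨16270, 2, 5⟩) (.one ⟨1411, 2, 4⟩))) (.node 2 (.node 1 (.one ⟨2356, 2, 4⟩) (.one ⟨14626, 2, 5⟩)) (.node 1 (.one ⟨14218, 2, 5⟩) (.one ⟨590, 2, 3⟩)))) (.node 4 (.node 2 (.node 1 (.one ⟨3191, 2, 4⟩) (.one ⟨3190, 2, 5⟩)) (.node 1 (.one ⟨1121, 2, 3⟩) (.one ⟨4457, 0, 2⟩))) (.node 2 (.node 1 (.one ⟨15518, 0, 3⟩) (.one ⟨7425, 0, 4⟩)) (.node 1 (.one ⟨1500, 2, 4⟩) (.one ⟨3280, 2, 5⟩))))) (.node 8 (.node 4 (.node 2 (.node 1 (.one ⟨13998, 0, 4⟩) (.one ⟨8766, 0, 4⟩)) (.node 1 (.one ⟨9021, 2, 1⟩) (.one ⟨8834, 2, 1⟩))) (.node 2 (.node 1 (.one ⟨3526, 0, 4⟩) (.one ⟨16586, 1, 4⟩)) (.node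 1 (.one ⟨3424, 2, 1⟩) (.one ⟨1185, 2, 3⟩)))) (.node 4 (.node 2 (.node 1 (.one ⟨12127, 2, 3⟩) (.one ⟨4115, 2, 3⟩)) (.node 1 (.one ⟨1020, 0, 2⟩) (.one ⟨4079, 2, 3⟩))) (.node 2 (.node 1 (.one ⟨14987, 0, 4⟩) (.one ⟨575, 2, 1⟩)) (.node 1 (.one ⟨12100, 2, 3⟩) (.one ⟨11287, 0, 4⟩)))))) (.node 16 (.node 8 (.node 4 (.node 2 (.node 1 (.one ⟨15329, 0, 2⟩) (.one ⟨13347, 0, 2⟩)) (.node 1 (.one ⟨17016, 0, 2⟩) (.one ⟨7793, 0, 5⟩))) (.node 2 (.node 1 (.one ⟨3519, 0, 2⟩) (.one ⟨5599, 0, 2⟩)) (.node 1 (.one ⟨8316, 2, 4⟩) (.one ⟨197, 2, 4⟩)))) (.node 4 (.node 2 (.node 1 (.one ⟨1762, 2, 3⟩) (.one ⟨324, 0, 0⟩)) (.node 1 (.one ⟨1763, 2, 3⟩) (.one ⟨6686, 1, 2⟩))) (.node 2 (.node 1 (.one ⟨1765, 2, 3⟩) (.one ⟨477, 2, 5⟩)) (.node 1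 (.one ⟨1760, 2, 3⟩) (.one ⟨1751, 1, 2⟩))))) (.node 8 (.node 4 (.node 2 (.node 1 (.one ⟨11422, 2, 6⟩) (.one ⟨4264, 0, 0⟩)) (.node 1 (.one ⟨12898, 2, 3⟩) (.one ⟨10815, 1, 5⟩))) (.node 2 (.node 1 (.one ⟨5269, 0, 3⟩) (.one ⟨1302, 0, 3⟩)) (.node 1 (.one ⟨3503, 2, 2⟩) (.one ⟨15519, 2, 4⟩)))) (.node 4 (.node 2 (.node 1 (.one ⟨15421, 2, 4⟩) (.one ⟨5847, 2, 5⟩)) (.node 1 (.one ⟨5746, 2, 5⟩) (.one ⟨311, 2, 6⟩))) (.node 2 (.node 1 (.one ⟨5427, 1, 0⟩) (.one ⟨11451, 0, 4⟩)) (.node 1 (.one ⟨11276, 2, 5⟩) (.one ⟨11005, 0, 2⟩)))))))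
def par6_7_5 : Arr Par :=
  (.node 32 (.node 16 (.node 8 (.node 4 (.node 2 (.node 1 (.one ⟨2189, 2, 5⟩) (.one ⟨6026, 2, 5⟩)) (.node 1 (.one ⟨14910, 2, 4⟩) (.one ⟨13283, 0, 2⟩))) (.node 2 (.node 1 (.one ⟨5353, 1, 2⟩) (.one ⟨2025, 0, 4⟩)) (.node 1 (.one ⟨9948, 2, 6⟩) (.one ⟨224, 2, 5⟩)))) (.node 4 (.node 2 (.node 1 (.one ⟨616, 2, 5⟩) (.one ⟨5875, 0, 4⟩)) (.node 1 (.one ⟨9460, 1, 1⟩) (.one ⟨3931, 2, 5⟩))) (.node 2 (.node 1 (.one ⟨3928, 2, 3⟩) (.one ⟨3932, 2, 5⟩)) (.node 1 (.one ⟨13075, 1, 4⟩) (.one ⟨4508, 0, 2⟩))))) (.node 8 (.node 4 (.node 2 (.node 1 (.one ⟨7941, 2, 5⟩) (.one ⟨9790, 2, 4⟩)) (.node 1 (.one ⟨14386, 2, 5⟩) (.one ⟨2312, 0, 2⟩))) (.node 2 (.node 1 (.one ⟨14337, 2, 5⟩) (.one ⟨10474, 0, 2⟩)) (.node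 1 (.one ⟨8054, 2, 4⟩) (.one ⟨17014, 0, 5⟩)))) (.node 4 (.node 2 (.node 1 (.one ⟨3336, 0, 2⟩) (.one ⟨15771, 0, 2⟩)) (.node 1 (.one ⟨7760, 2, 3⟩) (.one ⟨2948, 2, 4⟩))) (.node 2 (.node 1 (.one ⟨8759, 0, 2⟩) (.one ⟨15933, 2, 4⟩)) (.node 1 (.one ⟨7812, 0, 2⟩) (.one ⟨13717, 2, 3⟩)))))) (.node 16 (.node 8 (.node 4 (.node 2 (.node 1 (.one ⟨16820, 2, 5⟩) (.one ⟨6055, 2, 4⟩)) (.node 1 (.one ⟨9026, 2, 4⟩) (.one ⟨9787, 2, 4⟩))) (.node 2 (.node 1 (.one ⟨13308, 2, 5⟩) (.one ⟨2015, 2, 3⟩)) (.node 1 (.one ⟨5538, 2, 2⟩) (.one ⟨3385, 1, 3⟩)))) (.node 4 (.node 2 (.node 1 (.one ⟨4770, 1, 5⟩) (.one ⟨10656, 2, 4⟩)) (.node 1 (.one ⟨3127, 2, 6⟩) (.one ⟨9692, 0, 4⟩))) (.node 2 (.node 1 (.one ⟨7283, 0, 2⟩) (.one ⟨11288, 0, 4⟩)) (.node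 1 (.one ⟨5631, 0, 2⟩) (.one ⟨1462, 2, 5⟩))))) (.node 8 (.node 4 (.node 2 (.node 1 (.one ⟨9662, 2, 6⟩) (.one ⟨12397, 2, 1⟩)) (.node 1 (.one ⟨1679, 0, 4⟩) (.one ⟨5557, 2, 6⟩))) (.node 2 (.node 1 (.one ⟨13738, 2, 4⟩) (.one ⟨13581, 0, 4⟩)) (.node 1 (.one ⟨8881, 1, 2⟩) (.one ⟨5773, 0, 4⟩)))) (.node 4 (.node 2 (.node 1 (.one ⟨8226, 2, 4⟩) (.one ⟨589, 1, 1⟩)) (.node 1 (.one ⟨6881, 2, 5⟩) (.one ⟨12902, 2, 5⟩))) (.node 2 (.node 1 (.one ⟨9438, 1, 1⟩) (.one ⟨10603, 2, 4⟩)) (.node 1 (.one ⟨1383, 1, 1⟩) (.one ⟨8977, 0, 4⟩)))))))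
def par6_7_6 : Arr Par :=
  (.node 32 (.node 16 (.node 8 (.node 4 (.node 2 (.node 1 (.one ⟨4036, 2, 5⟩) (.one ⟨3904, 2, 3⟩)) (.node 1 (.one ⟨12740, 2, 3⟩) (.one ⟨6234, 2, 4⟩))) (.node 2 (.node 1 (.one ⟨1419, 1, 0⟩) (.one ⟨14817, 2, 3⟩)) (.node 1 (.one ⟨6395, 2, 5⟩) (.one ⟨15814, 0, 4⟩)))) (.node 4 (.node 2 (.node 1 (.one ⟨3896, 2, 5⟩) (.one ⟨4232, 2, 1⟩)) (.node 1 (.one ⟨5632, 1, 4⟩) (.one ⟨1124, 0, 4⟩))) (.node 2 (.node 1 (.one ⟨7157, 2, 1⟩) (.one ⟨7473, 2, 1⟩)) (.node 1 (.one ⟨7372, 0, 4⟩) (.one ⟨13435, 0, 4⟩))))) (.node 8 (.node 4 (.node 2 (.node 1 (.one ⟨1103, 2, 3⟩) (.one ⟨15346, 0, 3⟩)) (.node 1 (.one ⟨3135, 0, 5⟩) (.one ⟨5137, 2, 4⟩))) (.node 2 (.node 1 (.one ⟨5104, 2, 4⟩) (.one ⟨1324, 2, 5⟩)) (.node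 1 (.one ⟨578, 2, 3⟩) (.one ⟨11424, 0, 3⟩)))) (.node 4 (.node 2 (.node 1 (.one ⟨3108, 2, 3⟩) (.one ⟨7291, 1, 3⟩)) (.node 1 (.one ⟨15347, 2, 4⟩) (.one ⟨4139, 0, 3⟩))) (.node 2 (.node 1 (.one ⟨13198, 2, 3⟩) (.one ⟨13341, 2, 4⟩)) (.node 1 (.one ⟨14902, 0, 4⟩) (.one ⟨2990, 0, 4⟩)))))) (.node 16 (.node 8 (.node 4 (.node 2 (.node 1 (.one ⟨12232, 0, 3⟩) (.one ⟨7, 2, 1⟩)) (.node 1 (.one ⟨13181, 0, 4⟩) (.one ⟨658, 2, 5⟩))) (.node 2 (.node 1 (.one ⟨8279, 1, 2⟩) (.one ⟨5053, 0, 4⟩)) (.node 1 (.one ⟨9755, 0, 3⟩) (.one ⟨14606, 2, 6⟩)))) (.node 4 (.node 2 (.node 1 (.one ⟨9423, 2, 3⟩) (.one ⟨6552, 2, 5⟩)) (.node 1 (.one ⟨10608, 0, 4⟩) (.one ⟨14580, 2, 5⟩))) (.node 2 (.node 1 (.one ⟨9557, 2, 4⟩) (.one ⟨6564, 2, 3⟩)) (.node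 1 (.one ⟨585, 2, 1⟩) (.one ⟨11442, 0, 4⟩))))) (.node 8 (.node 4 (.node 2 (.node 1 (.one ⟨15962, 2, 6⟩) (.one ⟨8734, 2, 3⟩)) (.node 1 (.one ⟨5130, 2, 2⟩) (.one ⟨2514, 0, 2⟩))) (.node 2 (.node 1 (.one ⟨2047, 2, 5⟩) (.one ⟨10945, 2, 4⟩)) (.node 1 (.one ⟨15442, 2, 3⟩) (.one ⟨3798, 2, 3⟩)))) (.node 4 (.node 2 (.node 1 (.one ⟨579, 2, 1⟩) (.one ⟨4817, 0, 4⟩)) (.node 1 (.one ⟨9273, 2, 3⟩) (.one ⟨1355, 0, 4⟩))) (.node 2 (.node 1 (.one ⟨12556, 1, 1⟩) (.one ⟨6104, 0, 4⟩)) (.node 1 (.one ⟨9536, 2, 3⟩) (.one ⟨14866, 2, 3⟩)))))))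
def par6_7_7 : Arr Par :=
  (.node 32 (.node 16 (.node 8 (.node 4 (.node 2 (.node 1 (.one ⟨589, 2, 1⟩) (.one ⟨12177, 1, 1⟩)) (.node 1 (.one ⟨1389, 2, 3⟩) (.one ⟨6814, 2, 5⟩))) (.node 2 (.node 1 (.one ⟨11904, 0, 4⟩) (.one ⟨6755, 2, 5⟩)) (.node 1 (.one ⟨9424, 2, 4⟩) (.one ⟨16486, 0, 4⟩)))) (.node 4 (.node 2 (.node 1 (.one ⟨12493, 2, 5⟩) (.one ⟨3458, 2, 5⟩)) (.node 1 (.one ⟨8492, 2, 3⟩) (.one ⟨16954, 2, 5⟩))) (.node 2 (.node 1 (.one ⟨15760, 1, 4⟩) (.one ⟨3737, 2, 3⟩)) (.node 1 (.one ⟨6389, 2, 5⟩) (.one ⟨13915, 2, 5⟩))))) (.node 8 (.node 4 (.node 2 (.node 1 (.one ⟨10369, 2, 5⟩) (.one ⟨192, 1, 4⟩)) (.node 1 (.one ⟨6906, 2, 4⟩) (.one ⟨3251, 2, 4⟩))) (.node 2 (.node 1 (.one ⟨10276, 0, 4⟩) (.one ⟨14248, 2, 3⟩)) (.node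 1 (.one ⟨1678, 0, 5⟩) (.one ⟨3818, 2, 3⟩)))) (.node 4 (.node 2 (.node 1 (.one ⟨4609, 2, 3⟩) (.one ⟨4896, 0, 2⟩)) (.node 1 (.one ⟨4542, 2, 5⟩) (.one ⟨3006, 2, 5⟩))) (.node 2 (.node 1 (.one ⟨8433, 0, 3⟩) (.one ⟨1677, 0, 3⟩)) (.node 1 (.one ⟨11340, 0, 4⟩) (.one ⟨3962, 0, 4⟩)))))) (.node 16 (.node 8 (.node 4 (.node 2 (.node 1 (.one ⟨4531, 2, 1⟩) (.one ⟨1581, 2, 4⟩)) (.node 1 (.one ⟨6812, 2, 3⟩) (.one ⟨1234, 2, 4⟩))) (.node 2 (.node 1 (.one ⟨7693, 0, 4⟩) (.one ⟨7807, 2, 3⟩)) (.node 1 (.one ⟨4602, 2, 4⟩) (.one ⟨119, 1, 4⟩)))) (.node 4 (.node 2 (.node 1 (.one ⟨211, 0, 3⟩) (.one ⟨4227, 1, 5⟩)) (.node 1 (.one ⟨12554, 2, 1⟩) (.one ⟨6628, 2, 5⟩))) (.node 2 (.node 1 (.one ⟨7011, 2, 6⟩) (.one ⟨10921, 2, 5⟩)) (.node 1 (.one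 ⟨11043, 2, 6⟩) (.one ⟨12921, 2, 5⟩))))) (.node 8 (.node 4 (.node 2 (.node 1 (.one ⟨3793, 2, 1⟩) (.one ⟨8416, 2, 4⟩)) (.node 1 (.one ⟨9434, 0, 1⟩) (.one ⟨4526, 1, 0⟩))) (.node 2 (.node 1 (.one ⟨5830, 2, 5⟩) (.one ⟨2971, 2, 5⟩)) (.node 1 (.one ⟨14795, 0, 4⟩) (.one ⟨7781, 2, 5⟩)))) (.node 4 (.node 2 (.node 1 (.one ⟨1164, 0, 4⟩) (.one ⟨1588, 2, 3⟩)) (.node 1 (.one ⟨8749, 1, 4⟩) (.one ⟨4379, 0, 4⟩))) (.node 2 (.node 1 (.one ⟨15934, 2, 5⟩) (.one ⟨11309, 2, 4⟩)) (.node 1 (.one ⟨10084, 2, 4⟩) (.one ⟨1019, 0, 4⟩)))))))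
def par6_7_8 : Arr Par :=
  (.node 32 (.node 16 (.node 8 (.node 4 (.node 2 (.node 1 (.one ⟨456, 2, 6⟩) (.one ⟨146, 0, 4⟩)) (.node 1 (.one ⟨11068, 0, 4⟩) (.one ⟨853, 0, 4⟩))) (.node 2 (.node 1 (.one ⟨11064, 0, 4⟩) (.one ⟨7918, 2, 5⟩)) (.node 1 (.one ⟨11069, 0, 2⟩) (.one ⟨4241, 2, 5⟩)))) (.node 4 (.node 2 (.node 1 (.one ⟨16475, 2, 4⟩) (.one ⟨6009, 2, 4⟩)) (.node 1 (.one ⟨11308, 2, 3⟩) (.one ⟨15736, 2, 5⟩))) (.node 2 (.node 1 (.one ⟨5328, 2, 4⟩) (.one ⟨10312, 2, 3⟩)) (.node 1 (.one ⟨6847, 2, 5⟩) (.one ⟨15366, 0, 3⟩))))) (.node 8 (.node 4 (.node 2 (.node 1 (.one ⟨12722, 2, 6⟩) (.one ⟨3829, 1, 0⟩)) (.node 1 (.one ⟨8077, 2, 5⟩) (.one ⟨15029, 0, 3⟩))) (.node 2 (.node 1 (.one ⟨3432, 2, 3⟩) (.one ⟨15485, 1, 2⟩)) (.node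 1 (.one ⟨16387, 0, 3⟩) (.one ⟨5656, 2, 4⟩)))) (.node 4 (.node 2 (.node 1 (.one ⟨9674, 2, 5⟩) (.one ⟨16446, 2, 4⟩)) (.node 1 (.one ⟨4603, 2, 4⟩) (.one ⟨759, 1, 0⟩))) (.node 2 (.node 1 (.one ⟨8446, 2, 3⟩) (.one ⟨2524, 0, 4⟩)) (.node 1 (.one ⟨13648, 2, 4⟩) (.one ⟨8191, 0, 3⟩)))))) (.node 16 (.node 8 (.node 4 (.node 2 (.node 1 (.one ⟨11169, 2, 5⟩) (.one ⟨9824, 2, 5⟩)) (.node 1 (.one ⟨2461, 2, 4⟩) (.one ⟨16326, 1, 4⟩))) (.node 2 (.node 1 (.one ⟨6570, 1, 3⟩) (.one ⟨12676, 2, 3⟩)) (.node 1 (.one ⟨5080, 2, 3⟩) (.one ⟨13711, 2, 5⟩)))) (.node 4 (.node 2 (.node 1 (.one ⟨13843, 2, 4⟩) (.one ⟨11892, 0, 4⟩)) (.node 1 (.one ⟨1795, 2, 4⟩) (.one ⟨6843, 2, 6⟩))) (.node 2 (.node 1 (.one ⟨13651, 0, 4⟩) (.one ⟨8016, 0, 4⟩)) (.node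 1 (.one ⟨11154, 2, 5⟩) (.one ⟨1112, 2, 4⟩))))) (.node 8 (.node 4 (.node 2 (.node 1 (.one ⟨3440, 1, 2⟩) (.one ⟨5998, 0, 3⟩)) (.node 1 (.one ⟨11431, 0, 3⟩) (.one ⟨4552, 2, 4⟩))) (.node 2 (.node 1 (.one ⟨9593, 2, 5⟩) (.one ⟨11686, 0, 3⟩)) (.node 1 (.one ⟨9346, 2, 5⟩) (.one ⟨2949, 2, 2⟩)))) (.node 4 (.node 2 (.node 1 (.one ⟨5471, 2, 3⟩) (.one ⟨10080, 2, 5⟩)) (.node 1 (.one ⟨14102, 0, 3⟩) (.one ⟨6019, 1, 2⟩))) (.node 2 (.node 1 (.one ⟨4637, 0, 3⟩) (.one ⟨13366, 2, 5⟩)) (.node 1 (.one ⟨11130, 2, 2⟩) (.one ⟨3463, 0, 5⟩)))))))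
def par6_7_9 : Arr Par :=
  (.node 32 (.node 16 (.node 8 (.node 4 (.node 2 (.node 1 (.one ⟨11796, 2, 5⟩) (.one ⟨11503, 2, 4⟩)) (.node 1 (.one ⟨1580, 0, 2⟩) (.one ⟨13278, 0, 3⟩))) (.node 2 (.node 1 (.one ⟨6404, 2, 4⟩) (.one ⟨8486, 2, 2⟩)) (.node 1 (.one ⟨11754, 0, 4⟩) (.one ⟨11056, 2, 4⟩)))) (.node 4 (.node 2 (.node 1 (.one ⟨13457, 0, 4⟩) (.one ⟨16341, 0, 3⟩)) (.node 1 (.one ⟨2199, 0, 4⟩) (.one ⟨8240, 2, 3⟩))) (.node 2 (.node 1 (.one ⟨14409, 2, 1⟩) (.one ⟨11874, 2, 2⟩)) (.node 1 (.one ⟨16197, 0, 2⟩) (.one ⟨15658, 2, 2⟩))))) (.node 8 (.node 4 (.node 2 (.node 1 (.one ⟨12263, 2, 2⟩) (.one ⟨5456, 0, 5⟩)) (.node 1 (.one ⟨8469, 2, 4⟩) (.one ⟨2102, 2, 5⟩))) (.node 2 (.node 1 (.one ⟨8659, 2, 5⟩) (.one ⟨15464, 2, 5⟩))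 (.node 1 (.one ⟨11577, 1, 5⟩) (.one ⟨6677, 0, 3⟩)))) (.node 4 (.node 2 (.node 1 (.one ⟨1862, 2, 5⟩) (.one ⟨16929, 2, 5⟩)) (.node 1 (.one ⟨13700, 2, 3⟩) (.one ⟨5774, 2, 5⟩))) (.node 2 (.node 1 (.one ⟨8952, 2, 5⟩) (.one ⟨10114, 0, 3⟩)) (.node 1 (.one ⟨13489, 2, 5⟩) (.one ⟨17116, 0, 4⟩)))))) (.node 16 (.node 8 (.node 4 (.node 2 (.node 1 (.one ⟨11770, 0, 3⟩) (.one ⟨15942, 2, 4⟩)) (.node 1 (.one ⟨7985, 2, 4⟩) (.one ⟨5467, 2, 4⟩))) (.node 2 (.node 1 (.one ⟨9163, 1, 3⟩) (.one ⟨15210, 2, 4⟩)) (.node 1 (.one ⟨7435, 2, 3⟩) (.one ⟨7909, 0, 4⟩)))) (.node 4 (.node 2 (.node 1 (.one ⟨5346, 2, 2⟩) (.one ⟨5351, 2, 2⟩)) (.node 1 (.one ⟨5736, 0, 2⟩) (.one ⟨11121, 0, 4⟩))) (.node 2 (.node 1 (.one ⟨3050, 0, 4⟩) (.one ⟨1893, 1,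 0⟩)) (.node 1 (.one ⟨8776, 2, 2⟩) (.one ⟨11502, 0, 4⟩))))) (.node 8 (.node 4 (.node 2 (.node 1 (.one ⟨15405, 2, 4⟩) (.one ⟨15832, 2, 4⟩)) (.node 1 (.one ⟨3406, 0, 2⟩) (.one ⟨9646, 2, 4⟩))) (.node 2 (.node 1 (.one ⟨13402, 1, 5⟩) (.one ⟨16390, 2, 5⟩)) (.node 1 (.one ⟨13274, 2, 2⟩) (.one ⟨15621, 2, 5⟩)))) (.node 4 (.node 2 (.node 1 (.one ⟨3152, 1, 2⟩) (.one ⟨8544, 0, 4⟩)) (.node 1 (.one ⟨14182, 0, 3⟩) (.one ⟨10939, 0, 5⟩))) (.node 2 (.node 1 (.one ⟨3834, 0, 5⟩) (.one ⟨7356, 2, 6⟩)) (.node 1 (.one ⟨8126, 0, 3⟩) (.one ⟨4264, 2, 2⟩)))))))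
def par6_7_10 : Arr Par :=
  (.node 32 (.node 16 (.node 8 (.node 4 (.node 2 (.node 1 (.one ⟨2395, 2, 3⟩) (.one ⟨7525, 2, 4⟩)) (.node 1 (.one ⟨7956, 0, 2⟩) (.one ⟨3871, 2, 5⟩))) (.node 2 (.node 1 (.one ⟨1208, 2, 1⟩) (.one ⟨7010, 2, 3⟩)) (.node 1 (.one ⟨8389, 2, 4⟩) (.one ⟨15854, 0, 5⟩)))) (.node 4 (.node 2 (.node 1 (.one ⟨12129, 2, 3⟩) (.one ⟨16543, 0, 4⟩)) (.node 1 (.one ⟨9486, 0, 1⟩) (.one ⟨4048, 2, 2⟩))) (.node 2 (.node 1 (.one ⟨12135, 2, 2⟩) (.one ⟨7977, 0, 3⟩)) (.node 1 (.one ⟨3297, 2, 2⟩) (.one ⟨573, 2, 3⟩))))) (.node 8 (.node 4 (.node 2 (.node 1 (.one ⟨7514, 0, 4⟩) (.one ⟨14601, 2, 1⟩)) (.node 1 (.one ⟨15092, 2, 3⟩) (.one ⟨11394, 2, 3⟩))) (.node 2 (.node 1 (.one ⟨9555, 2, 1⟩) (.one ⟨3199, 0, 4⟩)) (.node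 1 (.one ⟨6558, 2, 3⟩) (.one ⟨12104, 2, 5⟩)))) (.node 4 (.node 2 (.node 1 (.one ⟨13001, 1, 2⟩) (.one ⟨6468, 2, 4⟩)) (.node 1 (.one ⟨7353, 2, 2⟩) (.one ⟨16164, 2, 2⟩))) (.node 2 (.node 1 (.one ⟨8404, 0, 4⟩) (.one ⟨1378, 2, 1⟩)) (.node 1 (.one ⟨3092, 2, 3⟩) (.one ⟨845, 1, 5⟩)))))) (.node 16 (.node 8 (.node 4 (.node 2 (.node 1 (.one ⟨416, 0, 3⟩) (.one ⟨16436, 2, 5⟩)) (.node 1 (.one ⟨2032, 0, 5⟩) (.one ⟨7518, 1, 3⟩))) (.node 2 (.node 1 (.one ⟨2035, 0, 5⟩) (.one ⟨6442, 2, 5⟩)) (.node 1 (.one ⟨10106, 2, 5⟩) (.one ⟨3146, 2, 4⟩)))) (.node 4 (.node 2 (.node 1 (.one ⟨230, 2, 5⟩) (.one ⟨4337, 1, 0⟩)) (.node 1 (.one ⟨3393, 0, 4⟩) (.one ⟨701, 2, 1⟩))) (.node 2 (.node 1 (.one ⟨3149, 2, 3⟩) (.one ⟨3147, 2, 3⟩)) (.node 1 (.one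 ⟨952, 2, 5⟩) (.one ⟨7119, 2, 4⟩))))) (.node 8 (.node 4 (.node 2 (.node 1 (.one ⟨9760, 2, 5⟩) (.one ⟨6511, 2, 4⟩)) (.node 1 (.one ⟨10970, 2, 3⟩) (.one ⟨11021, 2, 4⟩))) (.node 2 (.node 1 (.one ⟨6194, 1, 2⟩) (.one ⟨6750, 0, 3⟩)) (.node 1 (.one ⟨7285, 2, 5⟩) (.one ⟨12729, 2, 2⟩)))) (.node 4 (.node 2 (.node 1 (.one ⟨16210, 2, 5⟩) (.one ⟨5065, 0, 3⟩)) (.node 1 (.one ⟨13999, 2, 2⟩) (.one ⟨1560, 2, 3⟩))) (.node 2 (.node 1 (.one ⟨7431, 2, 4⟩) (.one ⟨4487, 2, 4⟩)) (.node 1 (.one ⟨5965, 0, 4⟩) (.one ⟨16980, 2, 4⟩)))))))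
def par6_7_11 : Arr Par :=
  (.node 32 (.node 16 (.node 8 (.node 4 (.node 2 (.node 1 (.one ⟨890, 1, 0⟩) (.one ⟨7189, 2, 4⟩)) (.node 1 (.one ⟨8398, 2, 4⟩) (.one ⟨9450, 2, 5⟩))) (.node 2 (.node 1 (.one ⟨11952, 2, 4⟩) (.one ⟨3559, 2, 5⟩)) (.node 1 (.one ⟨2391, 2, 3⟩) (.one ⟨12211, 2, 3⟩)))) (.node 4 (.node 2 (.node 1 (.one ⟨7987, 2, 1⟩) (.one ⟨7821, 1, 4⟩)) (.node 1 (.one ⟨11744, 0, 4⟩) (.one ⟨14407, 2, 1⟩))) (.node 2 (.node 1 (.one ⟨1252, 2, 3⟩) (.one ⟨10796, 0, 4⟩)) (.node 1 (.one ⟨16863, 2, 3⟩) (.one ⟨4089, 2, 4⟩))))) (.node 8 (.node 4 (.node 2 (.node 1 (.one ⟨5913, 2, 4⟩) (.one ⟨1943, 0, 4⟩)) (.node 1 (.one ⟨1951, 2, 5⟩) (.one ⟨7888, 2, 5⟩))) (.node 2 (.node 1 (.one ⟨2486, 2, 6⟩) (.one ⟨3587, 2, 5⟩)) (.node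 1 (.one ⟨6390, 2, 6⟩) (.one ⟨10539, 2, 3⟩)))) (.node 4 (.node 2 (.node 1 (.one ⟨10537, 2, 4⟩) (.one ⟨1031, 2, 5⟩)) (.node 1 (.one ⟨273, 2, 5⟩) (.one ⟨533, 2, 5⟩))) (.node 2 (.node 1 (.one ⟨4835, 0, 4⟩) (.one ⟨10536, 2, 3⟩)) (.node 1 (.one ⟨13415, 1, 1⟩) (.one ⟨17106, 1, 3⟩)))))) (.node 16 (.node 8 (.node 4 (.node 2 (.node 1 (.one ⟨9532, 2, 4⟩) (.one ⟨4594, 0, 5⟩)) (.node 1 (.one ⟨15746, 0, 4⟩) (.one ⟨10946, 2, 2⟩))) (.node 2 (.node 1 (.one ⟨16187, 0, 2⟩) (.one ⟨7786, 2, 3⟩)) (.node 1 (.one ⟨1768, 2, 4⟩) (.one ⟨4787, 2, 5⟩)))) (.node 4 (.node 2 (.node 1 (.one ⟨1297, 0, 3⟩) (.one ⟨819, 2, 5⟩)) (.node 1 (.one ⟨532, 2, 5⟩) (.one ⟨4786, 2, 5⟩))) (.node 2 (.node 1 (.one ⟨4790, 2, 4⟩) (.one ⟨529, 2, 5⟩)) (.node 1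 (.one ⟨14677, 0, 4⟩) (.one ⟨5019, 2, 4⟩))))) (.node 8 (.node 4 (.node 2 (.node 1 (.one ⟨13773, 2, 5⟩) (.one ⟨1167, 1, 4⟩)) (.node 1 (.one ⟨8210, 0, 4⟩) (.one ⟨4412, 0, 4⟩))) (.node 2 (.node 1 (.one ⟨16405, 0, 4⟩) (.one ⟨8937, 2, 3⟩)) (.node 1 (.one ⟨13955, 0, 4⟩) (.one ⟨10169, 2, 6⟩)))) (.node 4 (.node 2 (.node 1 (.one ⟨13680, 2, 6⟩) (.one ⟨8808, 2, 5⟩)) (.node 1 (.one ⟨5449, 2, 5⟩) (.one ⟨14920, 2, 5⟩))) (.node 2 (.node 1 (.one ⟨10800, 2, 5⟩) (.one ⟨2833, 0, 3⟩)) (.node 1 (.one ⟨8327, 2, 6⟩) (.one ⟨11870, 1, 3⟩)))))))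
def par6_7_12 : Arr Par :=
  (.node 32 (.node 16 (.node 8 (.node 4 (.node 2 (.node 1 (.one ⟨16759, 0, 5⟩) (.one ⟨8559, 2, 5⟩)) (.node 1 (.one ⟨2950, 0, 4⟩) (.one ⟨2336, 2, 3⟩))) (.node 2 (.node 1 (.one ⟨14535, 2, 5⟩) (.one ⟨14821, 0, 4⟩)) (.node 1 (.one ⟨5662, 1, 5⟩) (.one ⟨9773, 2, 5⟩)))) (.node 4 (.node 2 (.node 1 (.one ⟨9391, 1, 1⟩) (.one ⟨9490, 0, 1⟩)) (.node 1 (.one ⟨8213, 0, 2⟩) (.one ⟨3968, 0, 4⟩))) (.node 2 (.node 1 (.one ⟨12974, 2, 3⟩) (.one ⟨4350, 2, 3⟩)) (.node 1 (.one ⟨1257, 1, 1⟩) (.one ⟨6186, 2, 3⟩))))) (.node 8 (.node 4 (.node 2 (.node 1 (.one ⟨2705, 0, 4⟩) (.one ⟨11545, 2, 3⟩)) (.node 1 (.one ⟨3204, 0, 4⟩) (.one ⟨2927, 2, 1⟩))) (.node 2 (.node 1 (.one ⟨7667, 2, 1⟩) (.one ⟨14599, 2, 1⟩)) (.node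 1 (.one ⟨13196, 2, 1⟩) (.one ⟨11320, 2, 5⟩)))) (.node 4 (.node 2 (.node 1 (.one ⟨8266, 2, 5⟩) (.one ⟨10242, 0, 4⟩)) (.node 1 (.one ⟨1120, 0, 1⟩) (.one ⟨5485, 2, 5⟩))) (.node 2 (.node 1 (.one ⟨7549, 0, 5⟩) (.one ⟨3557, 2, 5⟩)) (.node 1 (.one ⟨14960, 2, 4⟩) (.one ⟨16437, 2, 4⟩)))))) (.node 16 (.node 8 (.node 4 (.node 2 (.node 1 (.one ⟨13760, 2, 5⟩) (.one ⟨4865, 2, 5⟩)) (.node 1 (.one ⟨1627, 2, 3⟩) (.one ⟨15304, 2, 5⟩))) (.node 2 (.node 1 (.one ⟨16251, 2, 5⟩) (.one ⟨3308, 2, 5⟩)) (.node 1 (.one ⟨3914, 2, 5⟩) (.one ⟨4992, 0, 3⟩)))) (.node 4 (.node 2 (.node 1 (.one ⟨4574, 0, 3⟩) (.one ⟨17057, 2, 2⟩)) (.node 1 (.one ⟨15618, 2, 4⟩) (.one ⟨7944, 2, 2⟩))) (.node 2 (.node 1 (.one ⟨5831, 2, 3⟩) (.one ⟨2573, 0, 4⟩)) (.node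 1 (.one ⟨12473, 2, 4⟩) (.one ⟨4942, 2, 4⟩))))) (.node 8 (.node 4 (.node 2 (.node 1 (.one ⟨582, 2, 1⟩) (.one ⟨11645, 0, 3⟩)) (.node 1 (.one ⟨9353, 2, 5⟩) (.one ⟨4438, 1, 0⟩))) (.node 2 (.node 1 (.one ⟨9525, 2, 5⟩) (.one ⟨9925, 1, 3⟩)) (.node 1 (.one ⟨1402, 2, 5⟩) (.one ⟨11848, 2, 3⟩)))) (.node 4 (.node 2 (.node 1 (.one ⟨6028, 2, 5⟩) (.one ⟨15290, 0, 3⟩)) (.node 1 (.one ⟨3212, 2, 3⟩) (.one ⟨16430, 2, 3⟩))) (.node 2 (.node 1 (.one ⟨2633, 2, 5⟩) (.one ⟨15293, 0, 4⟩)) (.node 1 (.one ⟨6785, 2, 3⟩) (.one ⟨15236, 0, 5⟩)))))))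
def par6_7_13 : Arr Par :=
  (.node 32 (.node 16 (.node 8 (.node 4 (.node 2 (.node 1 (.one ⟨12973, 2, 5⟩) (.one ⟨8158, 2, 4⟩)) (.node 1 (.one ⟨7742, 2, 3⟩) (.one ⟨15537, 0, 5⟩))) (.node 2 (.node 1 (.one ⟨2241, 2, 5⟩) (.one ⟨14692, 1, 3⟩)) (.node 1 (.one ⟨93, 0, 4⟩) (.one ⟨199, 1, 5⟩)))) (.node 4 (.node 2 (.node 1 (.one ⟨8660, 2, 5⟩) (.one ⟨6692, 1, 3⟩)) (.node 1 (.one ⟨9647, 0, 5⟩) (.one ⟨4961, 2, 3⟩))) (.node 2 (.node 1 (.one ⟨9654, 0, 5⟩) (.one ⟨6930, 2, 6⟩)) (.node 1 (.one ⟨12824, 1, 5⟩) (.one ⟨4637, 2, 3⟩))))) (.node 8 (.node 4 (.node 2 (.node 1 (.one ⟨13085, 2, 3⟩) (.one ⟨16160, 2, 3⟩)) (.node 1 (.one ⟨7820, 2, 3⟩) (.one ⟨15603, 2, 1⟩))) (.node 2 (.node 1 (.one ⟨7141, 2, 2⟩) (.one ⟨10159, 0, 4⟩)) (.node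 1 (.one ⟨10762, 2, 1⟩) (.one ⟨3545, 2, 3⟩)))) (.node 4 (.node 2 (.node 1 (.one ⟨3653, 2, 4⟩) (.one ⟨2086, 2, 5⟩)) (.node 1 (.one ⟨6396, 0, 4⟩) (.one ⟨6916, 2, 4⟩))) (.node 2 (.node 1 (.one ⟨4227, 0, 5⟩) (.one ⟨13600, 0, 5⟩)) (.node 1 (.one ⟨8067, 0, 4⟩) (.one ⟨10105, 2, 3⟩)))))) (.node 16 (.node 8 (.node 4 (.node 2 (.node 1 (.one ⟨9337, 2, 4⟩) (.one ⟨1438, 2, 5⟩)) (.node 1 (.one ⟨1990, 2, 3⟩) (.one ⟨584, 2, 1⟩))) (.node 2 (.node 1 (.one ⟨2084, 2, 2⟩) (.one ⟨10071, 2, 3⟩)) (.node 1 (.one ⟨1570, 0, 5⟩) (.one ⟨15198, 1, 5⟩)))) (.node 4 (.node 2 (.node 1 (.one ⟨9199, 0, 3⟩) (.one ⟨11904, 2, 4⟩)) (.node 1 (.one ⟨5915, 2, 4⟩) (.one ⟨11900, 2, 4⟩))) (.node 2 (.node 1 (.one ⟨5919, 2, 4⟩) (.one ⟨8066, 0, 4⟩)) (.node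 1 (.one ⟨14265, 2, 6⟩) (.one ⟨14093, 0, 4⟩))))) (.node 8 (.node 4 (.node 2 (.node 1 (.one ⟨10279, 2, 5⟩) (.one ⟨7222, 0, 3⟩)) (.node 1 (.one ⟨10273, 2, 5⟩) (.one ⟨13835, 2, 5⟩))) (.node 2 (.node 1 (.one ⟨1093, 2, 5⟩) (.one ⟨13822, 2, 6⟩)) (.node 1 (.one ⟨8364, 0, 3⟩) (.one ⟨12917, 2, 5⟩)))) (.node 4 (.node 2 (.node 1 (.one ⟨8130, 1, 3⟩) (.one ⟨4688, 0, 2⟩)) (.node 1 (.one ⟨6656, 2, 5⟩) (.one ⟨16023, 2, 4⟩))) (.node 2 (.node 1 (.one ⟨1019, 2, 4⟩) (.one ⟨15517, 1, 3⟩)) (.node 1 (.one ⟨2164, 2, 4⟩) (.one ⟨11361, 2, 5⟩)))))))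
def par6_7_14 : Arr Par :=
  (.node 32 (.node 16 (.node 8 (.node 4 (.node 2 (.node 1 (.one ⟨12447, 0, 3⟩) (.one ⟨8748, 2, 4⟩)) (.node 1 (.one ⟨13699, 2, 3⟩) (.one ⟨13206, 2, 3⟩))) (.node 2 (.node 1 (.one ⟨2677, 2, 5⟩) (.one ⟨1446, 0, 1⟩)) (.node 1 (.one ⟨15862, 2, 5⟩) (.one ⟨15945, 2, 5⟩)))) (.node 4 (.node 2 (.node 1 (.one ⟨8606, 0, 4⟩) (.one ⟨1553, 0, 4⟩)) (.node 1 (.one ⟨13203, 2, 4⟩) (.one ⟨390, 1, 4⟩))) (.node 2 (.node 1 (.one ⟨7206, 2, 5⟩) (.one ⟨7193, 0, 4⟩)) (.node 1 (.one ⟨14504, 0, 4⟩) (.one ⟨16729, 2, 5⟩))))) (.node 8 (.node 4 (.node 2 (.node 1 (.one ⟨980, 0, 3⟩) (.one ⟨15864, 2, 3⟩)) (.node 1 (.one ⟨7151, 2, 5⟩) (.one ⟨9817, 2, 2⟩))) (.node 2 (.node 1 (.one ⟨2949, 0, 2⟩) (.one ⟨11145, 2, 5⟩)) (.node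 1 (.one ⟨4230, 2, 3⟩) (.one ⟨14141, 2, 4⟩)))) (.node 4 (.node 2 (.node 1 (.one ⟨4799, 0, 4⟩) (.one ⟨15929, 2, 5⟩)) (.node 1 (.one ⟨55, 1, 3⟩) (.one ⟨9129, 1, 3⟩))) (.node 2 (.node 1 (.one ⟨12232, 1, 3⟩) (.one ⟨2315, 0, 4⟩)) (.node 1 (.one ⟨15513, 1, 3⟩) (.one ⟨1017, 0, 4⟩)))))) (.node 16 (.node 8 (.node 4 (.node 2 (.node 1 (.one ⟨4358, 0, 4⟩) (.one ⟨4357, 0, 4⟩)) (.node 1 (.one ⟨1048, 0, 4⟩) (.one ⟨1004, 2, 5⟩))) (.node 2 (.node 1 (.one ⟨4694, 2, 5⟩) (.one ⟨848, 0, 4⟩)) (.node 1 (.one ⟨344, 2, 4⟩) (.one ⟨9472, 2, 2⟩)))) (.node 4 (.node 2 (.node 1 (.one ⟨14211, 2, 2⟩) (.one ⟨15310, 0, 4⟩)) (.node 1 (.one ⟨11580, 2, 2⟩) (.one ⟨3698, 2, 3⟩))) (.node 2 (.node 1 (.one ⟨7828, 2, 2⟩) (.one ⟨5567, 2, 2⟩)) (.node 1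 (.one ⟨362, 0, 2⟩) (.one ⟨11452, 2, 2⟩))))) (.node 8 (.node 4 (.node 2 (.node 1 (.one ⟨14038, 0, 4⟩) (.one ⟨6054, 0, 2⟩)) (.node 1 (.one ⟨7867, 2, 4⟩) (.one ⟨289, 2, 4⟩))) (.node 2 (.node 1 (.one ⟨2178, 2, 4⟩) (.one ⟨17104, 2, 2⟩)) (.node 1 (.one ⟨281, 1, 4⟩) (.one ⟨10637, 2, 5⟩)))) (.node 4 (.node 2 (.node 1 (.one ⟨14005, 0, 3⟩) (.one ⟨2454, 2, 5⟩)) (.node 1 (.one ⟨10217, 2, 4⟩) (.one ⟨8517, 0, 3⟩))) (.node 2 (.node 1 (.one ⟨2159, 2, 4⟩) (.one ⟨12743, 0, 2⟩)) (.node 1 (.one ⟨9631, 2, 2⟩) (.one ⟨14816, 2, 5⟩)))))))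
def par6_7_15 : Arr Par :=
  (.node 32 (.node 16 (.node 8 (.node 4 (.node 2 (.node 1 (.one ⟨14965, 2, 4⟩) (.one ⟨4905, 1, 2⟩)) (.node 1 (.one ⟨13999, 0, 2⟩) (.one ⟨2423, 0, 2⟩))) (.node 2 (.node 1 (.one ⟨14058, 2, 5⟩) (.one ⟨7443, 0, 2⟩)) (.node 1 (.one ⟨11303, 0, 4⟩) (.one ⟨7654, 0, 5⟩)))) (.node 4 (.node 2 (.node 1 (.one ⟨11979, 0, 4⟩) (.one ⟨7423, 2, 4⟩)) (.node 1 (.one ⟨12430, 2, 5⟩) (.one ⟨2992, 2, 5⟩))) (.node 2 (.node 1 (.one ⟨10878, 1, 5⟩) (.one ⟨6548, 2, 4⟩)) (.node 1 (.one ⟨13281, 2, 4⟩) (.one ⟨12214, 2, 2⟩))))) (.node 8 (.node 4 (.node 2 (.node 1 (.one ⟨10503, 2, 5⟩) (.one ⟨8310, 2, 4⟩)) (.node 1 (.one ⟨6427, 2, 4⟩) (.one ⟨16650, 2, 2⟩))) (.node 2 (.node 1 (.one ⟨14781, 2, 5⟩) (.one ⟨5017, 2, 4⟩))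 (.node 1 (.one ⟨2800, 2, 5⟩) (.one ⟨16068, 0, 2⟩)))) (.node 4 (.node 2 (.node 1 (.one ⟨722, 2, 4⟩) (.one ⟨721, 2, 4⟩)) (.node 1 (.one ⟨11172, 0, 3⟩) (.one ⟨16478, 0, 4⟩))) (.node 2 (.node 1 (.one ⟨723, 2, 4⟩) (.one ⟨720, 2, 4⟩)) (.node 1 (.one ⟨3033, 2, 3⟩) (.one ⟨4162, 2, 3⟩)))))) (.node 16 (.node 8 (.node 4 (.node 2 (.node 1 (.one ⟨783, 1, 4⟩) (.one ⟨7607, 0, 4⟩)) (.node 1 (.one ⟨2646, 0, 5⟩) (.one ⟨9776, 0, 4⟩))) (.node 2 (.node 1 (.one ⟨2150, 2, 5⟩) (.one ⟨4918, 2, 5⟩)) (.node 1 (.one ⟨11136, 0, 4⟩) (.one ⟨11856, 1, 2⟩)))) (.node 4 (.node 2 (.node 1 (.one ⟨12082, 0, 2⟩) (.one ⟨266, 0, 0⟩)) (.node 1 (.one ⟨17094, 2, 5⟩) (.one ⟨16815, 0, 2⟩))) (.node 2 (.node 1 (.one ⟨5128, 2, 5⟩) (.one ⟨6728, 1, 5⟩)) (.node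 1 (.one ⟨7568, 0, 4⟩) (.one ⟨10216, 2, 5⟩))))) (.node 8 (.node 4 (.node 2 (.node 1 (.one ⟨4308, 0, 4⟩) (.one ⟨8686, 0, 2⟩)) (.node 1 (.one ⟨3778, 1, 4⟩) (.one ⟨15523, 0, 4⟩))) (.node 2 (.node 1 (.one ⟨12235, 2, 3⟩) (.one ⟨8561, 0, 4⟩)) (.node 1 (.one ⟨11623, 2, 4⟩) (.one ⟨4023, 2, 6⟩)))) (.node 4 (.node 2 (.node 1 (.one ⟨17064, 2, 5⟩) (.one ⟨10594, 2, 6⟩)) (.node 1 (.one ⟨7570, 2, 6⟩) (.one ⟨11838, 2, 6⟩))) (.node 2 (.node 1 (.one ⟨10690, 0, 5⟩) (.one ⟨2694, 0, 4⟩)) (.node 1 (.one ⟨1573, 0, 3⟩) (.one ⟨5301, 0, 2⟩)))))))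
def par6_7 : Arr Par :=
  (.node 512 (.node 256 (.node 128 (.node 64 par6_7_0 par6_7_1) (.node 64 par6_7_2 par6_7_3)) (.node 128 (.node 64 par6_7_4 par6_7_5) (.node 64 par6_7_6 par6_7_7))) (.node 256 (.node 128 (.node 64 par6_7_8 par6_7_9) (.node 64 par6_7_10 par6_7_11)) (.node 128 (.node 64 par6_7_12 par6_7_13) (.node 64 par6_7_14 par6_7_15))))
def par6_8_0 : Arr Par :=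
  (.node 32 (.node 16 (.node 8 (.node 4 (.node 2 (.node 1 (.one ⟨14359, 2, 2⟩) (.one ⟨10335, 0, 4⟩)) (.node 1 (.one ⟨7670, 2, 5⟩) (.one ⟨3592, 2, 4⟩))) (.node 2 (.node 1 (.one ⟨10916, 1, 4⟩) (.one ⟨10502, 2, 2⟩)) (.node 1 (.one ⟨12063, 2, 3⟩) (.one ⟨9883, 0, 3⟩)))) (.node 4 (.node 2 (.node 1 (.one ⟨3030, 2, 3⟩) (.one ⟨4557, 2, 2⟩)) (.node 1 (.one ⟨14783, 2, 2⟩) (.one ⟨9899, 0, 4⟩))) (.node 2 (.node 1 (.one ⟨6461, 2, 3⟩) (.one ⟨15250, 1, 4⟩)) (.node 1 (.one ⟨10314, 2, 1⟩) (.one ⟨11280, 2, 4⟩))))) (.node 8 (.node 4 (.node 2 (.node 1 (.one ⟨10380, 1, 4⟩) (.one ⟨1524, 1, 1⟩)) (.node 1 (.one ⟨17110, 2, 3⟩) (.one ⟨13387, 2, 3⟩))) (.node 2 (.node 1 (.one ⟨846, 0, 3⟩) (.one ⟨13415, 0, 1⟩)) (.node 1 (.one ⟨15175, 2,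 4⟩) (.one ⟨9643, 2, 4⟩)))) (.node 4 (.node 2 (.node 1 (.one ⟨10412, 0, 5⟩) (.one ⟨16070, 2, 5⟩)) (.node 1 (.one ⟨10044, 2, 6⟩) (.one ⟨15275, 0, 5⟩))) (.node 2 (.node 1 (.one ⟨13416, 0, 4⟩) (.one ⟨7961, 0, 5⟩)) (.node 1 (.one ⟨8090, 2, 4⟩) (.one ⟨841, 2, 5⟩)))))) (.node 16 (.node 8 (.node 4 (.node 2 (.node 1 (.one ⟨7371, 2, 3⟩) (.one ⟨383, 2, 5⟩)) (.node 1 (.one ⟨7369, 2, 3⟩) (.one ⟨7372, 2, 4⟩))) (.node 2 (.node 1 (.one ⟨14444, 0, 4⟩) (.one ⟨7370, 2, 3⟩)) (.node 1 (.one ⟨379, 2, 4⟩) (.one ⟨9817, 0, 2⟩)))) (.node 4 (.node 2 (.node 1 (.one ⟨7738, 2, 4⟩) (.one ⟨14221, 2, 5⟩)) (.node 1 (.one ⟨4160, 2, 5⟩) (.one ⟨3374, 2, 4⟩))) (.node 2 (.node 1 (.one ⟨16537, 2, 4⟩) (.one ⟨6941, 2, 3⟩)) (.node 1 (.one ⟨13584, 2,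 5⟩) (.one ⟨4938, 0, 4⟩))))) (.node 8 (.node 4 (.node 2 (.node 1 (.one ⟨375, 1, 2⟩) (.one ⟨9955, 0, 3⟩)) (.node 1 (.one ⟨16124, 1, 4⟩) (.one ⟨11773, 1, 3⟩))) (.node 2 (.node 1 (.one ⟨14095, 1, 3⟩) (.one ⟨9138, 0, 3⟩)) (.node 1 (.one ⟨13533, 2, 5⟩) (.one ⟨13705, 2, 5⟩)))) (.node 4 (.node 2 (.node 1 (.one ⟨12228, 2, 2⟩) (.one ⟨16011, 0, 5⟩)) (.node 1 (.one ⟨16505, 0, 4⟩) (.one ⟨3754, 0, 4⟩))) (.node 2 (.node 1 (.one ⟨4739, 0, 4⟩) (.one ⟨14910, 0, 4⟩)) (.node 1 (.one ⟨13183, 2, 5⟩) (.one ⟨10534, 2, 4⟩)))))))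
def par6_8_1 : Arr Par :=
  (.node 32 (.node 16 (.node 8 (.node 4 (.node 2 (.node 1 (.one ⟨2962, 2, 5⟩) (.one ⟨4276, 0, 2⟩)) (.node 1 (.one ⟨13849, 2, 5⟩) (.one ⟨1520, 0, 2⟩))) (.node 2 (.node 1 (.one ⟨9939, 0, 2⟩) (.one ⟨3901, 0, 2⟩)) (.node 1 (.one ⟨12248, 0, 2⟩) (.one ⟨3612, 2, 3⟩)))) (.node 4 (.node 2 (.node 1 (.one ⟨13105, 2, 3⟩) (.one ⟨5884, 2, 2⟩)) (.node 1 (.one ⟨5336, 0, 4⟩) (.one ⟨16974, 2, 3⟩))) (.node 2 (.node 1 (.one ⟨7714, 2, 5⟩) (.one ⟨11357, 2, 5⟩)) (.node 1 (.one ⟨1697, 2, 2⟩) (.one ⟨2206, 1, 0⟩))))) (.node 8 (.node 4 (.node 2 (.node 1 (.one ⟨410, 2, 3⟩) (.one ⟨12277, 2, 3⟩)) (.node 1 (.one ⟨3684, 0, 3⟩) (.one ⟨14539, 2, 5⟩))) (.node 2 (.node 1 (.one ⟨6434, 2, 3⟩) (.one ⟨16129, 2, 3⟩)) (.node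 1 (.one ⟨3679, 0, 3⟩) (.one ⟨4531, 0, 1⟩)))) (.node 4 (.node 2 (.node 1 (.one ⟨6460, 2, 4⟩) (.one ⟨16804, 2, 3⟩)) (.node 1 (.one ⟨15059, 2, 2⟩) (.one ⟨4954, 2, 2⟩))) (.node 2 (.node 1 (.one ⟨12693, 0, 5⟩) (.one ⟨12475, 2, 3⟩)) (.node 1 (.one ⟨10760, 2, 2⟩) (.one ⟨2933, 2, 1⟩)))))) (.node 16 (.node 8 (.node 4 (.node 2 (.node 1 (.one ⟨1286, 2, 1⟩) (.one ⟨11812, 0, 4⟩)) (.node 1 (.one ⟨13132, 2, 5⟩) (.one ⟨12816, 1, 4⟩))) (.node 2 (.node 1 (.one ⟨8801, 0, 4⟩) (.one ⟨15646, 2, 3⟩)) (.node 1 (.one ⟨14356, 2, 5⟩) (.one ⟨13522, 0, 3⟩)))) (.node 4 (.node 2 (.node 1 (.one ⟨13585, 2, 5⟩) (.one ⟨16680, 0, 3⟩)) (.node 1 (.one ⟨12733, 0, 4⟩) (.one ⟨14804, 2, 5⟩))) (.node 2 (.node 1 (.one ⟨6057, 0, 2⟩) (.one ⟨10302, 2, 5⟩))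 (.node 1 (.one ⟨16120, 2, 5⟩) (.one ⟨3339, 1, 3⟩))))) (.node 8 (.node 4 (.node 2 (.node 1 (.one ⟨4708, 1, 3⟩) (.one ⟨230, 1, 0⟩)) (.node 1 (.one ⟨7958, 0, 2⟩) (.one ⟨8295, 0, 4⟩))) (.node 2 (.node 1 (.one ⟨1293, 0, 1⟩) (.one ⟨14742, 0, 3⟩)) (.node 1 (.one ⟨13383, 0, 3⟩) (.one ⟨7853, 2, 4⟩)))) (.node 4 (.node 2 (.node 1 (.one ⟨11216, 2, 5⟩) (.one ⟨698, 2, 5⟩)) (.node 1 (.one ⟨16970, 2, 5⟩) (.one ⟨2101, 2, 6⟩))) (.node 2 (.node 1 (.one ⟨14014, 0, 3⟩) (.one ⟨9907, 0, 4⟩)) (.node 1 (.one ⟨11538, 2, 4⟩) (.one ⟨541, 1, 4⟩)))))))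
def par6_8_2 : Arr Par :=
  (.node 32 (.node 16 (.node 8 (.node 4 (.node 2 (.node 1 (.one ⟨2691, 2, 5⟩) (.one ⟨9004, 0, 4⟩)) (.node 1 (.one ⟨16850, 2, 5⟩) (.one ⟨919, 1, 3⟩))) (.node 2 (.node 1 (.one ⟨3186, 0, 4⟩) (.one ⟨6029, 2, 5⟩)) (.node 1 (.one ⟨12710, 0, 4⟩) (.one ⟨11896, 2, 5⟩)))) (.node 4 (.node 2 (.node 1 (.one ⟨10132, 2, 4⟩) (.one ⟨14953, 2, 4⟩)) (.node 1 (.one ⟨16590, 2, 4⟩) (.one ⟨8494, 2, 3⟩))) (.node 2 (.node 1 (.one ⟨13766, 0, 2⟩) (.one ⟨1775, 2, 4⟩)) (.node 1 (.one ⟨3583, 2, 5⟩) (.one ⟨4753, 2, 2⟩))))) (.node 8 (.node 4 (.node 2 (.node 1 (.one ⟨11980, 1, 1⟩) (.one ⟨11214, 1, 1⟩)) (.node 1 (.one ⟨12716, 2, 2⟩) (.one ⟨6161, 2, 4⟩))) (.node 2 (.node 1 (.one ⟨7403, 2, 4⟩) (.one ⟨15503, 2, 3⟩)) (.node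 1 (.one ⟨8953, 0, 5⟩) (.one ⟨5612, 2, 4⟩)))) (.node 4 (.node 2 (.node 1 (.one ⟨10814, 2, 5⟩) (.one ⟨7162, 2, 4⟩)) (.node 1 (.one ⟨16352, 0, 3⟩) (.one ⟨3138, 2, 6⟩))) (.node 2 (.node 1 (.one ⟨14415, 2, 4⟩) (.one ⟨3437, 1, 5⟩)) (.node 1 (.one ⟨10502, 0, 2⟩) (.one ⟨9163, 2, 3⟩)))))) (.node 16 (.node 8 (.node 4 (.node 2 (.node 1 (.one ⟨16822, 2, 5⟩) (.one ⟨12220, 0, 4⟩)) (.node 1 (.one ⟨7758, 2, 3⟩) (.one ⟨7220, 0, 4⟩))) (.node 2 (.node 1 (.one ⟨7235, 0, 4⟩) (.one ⟨7267, 0, 5⟩)) (.node 1 (.one ⟨8763, 2, 5⟩) (.one ⟨12640, 0, 2⟩)))) (.node 4 (.node 2 (.node 1 (.one ⟨3003, 2, 6⟩) (.one ⟨12825, 0, 2⟩)) (.node 1 (.one ⟨5469, 2, 4⟩) (.one ⟨7309, 2, 4⟩))) (.node 2 (.node 1 (.one ⟨10012, 2, 2⟩) (.one ⟨8436, 2, 4⟩)) (.node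 1 (.one ⟨12342, 2, 5⟩) (.one ⟨9358, 2, 4⟩))))) (.node 8 (.node 4 (.node 2 (.node 1 (.one ⟨9946, 0, 4⟩) (.one ⟨1321, 2, 5⟩)) (.node 1 (.one ⟨87, 2, 3⟩) (.one ⟨3297, 1, 2⟩))) (.node 2 (.node 1 (.one ⟨17116, 2, 4⟩) (.one ⟨11244, 0, 3⟩)) (.node 1 (.one ⟨9024, 2, 5⟩) (.one ⟨9963, 0, 4⟩)))) (.node 4 (.node 2 (.node 1 (.one ⟨554, 1, 4⟩) (.one ⟨6701, 2, 3⟩)) (.node 1 (.one ⟨11452, 0, 2⟩) (.one ⟨10825, 2, 4⟩))) (.node 2 (.node 1 (.one ⟨14122, 2, 3⟩) (.one ⟨6153, 0, 4⟩)) (.node 1 (.one ⟨13945, 2, 3⟩) (.one ⟨8601, 2, 4⟩)))))))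
def par6_8_3 : Arr Par :=
  (.node 32 (.node 16 (.node 8 (.node 4 (.node 2 (.node 1 (.one ⟨13003, 2, 4⟩) (.one ⟨6865, 2, 4⟩)) (.node 1 (.one ⟨10981, 2, 4⟩) (.one ⟨14628, 2, 2⟩))) (.node 2 (.node 1 (.one ⟨2522, 2, 4⟩) (.one ⟨16388, 2, 3⟩)) (.node 1 (.one ⟨10669, 0, 5⟩) (.one ⟨3790, 1, 3⟩)))) (.node 4 (.node 2 (.node 1 (.one ⟨14940, 0, 5⟩) (.one ⟨10324, 2, 3⟩)) (.node 1 (.one ⟨77, 2, 1⟩) (.one ⟨12831, 0, 4⟩))) (.node 2 (.node 1 (.one ⟨10310, 2, 3⟩) (.one ⟨16414, 1, 3⟩)) (.node 1 (.one ⟨10177, 0, 3⟩) (.one ⟨14455, 1, 5⟩))))) (.node 8 (.node 4 (.node 2 (.node 1 (.one ⟨196, 0, 4⟩) (.one ⟨14056, 2, 5⟩)) (.node 1 (.one ⟨14621, 0, 5⟩) (.one ⟨8932, 2, 6⟩))) (.node 2 (.node 1 (.one ⟨506, 0, 3⟩) (.one ⟨767, 0, 4⟩)) (.node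 1 (.one ⟨4390, 1, 5⟩) (.one ⟨364, 2, 5⟩)))) (.node 4 (.node 2 (.node 1 (.one ⟨6593, 2, 3⟩) (.one ⟨944, 2, 5⟩)) (.node 1 (.one ⟨5525, 0, 4⟩) (.one ⟨418, 2, 4⟩))) (.node 2 (.node 1 (.one ⟨11122, 1, 4⟩) (.one ⟨926, 2, 5⟩)) (.node 1 (.one ⟨5066, 1, 4⟩) (.one ⟨4187, 2, 5⟩)))))) (.node 16 (.node 8 (.node 4 (.node 2 (.node 1 (.one ⟨16772, 0, 3⟩) (.one ⟨6608, 2, 3⟩)) (.node 1 (.one ⟨6741, 2, 4⟩) (.one ⟨4670, 1, 3⟩))) (.node 2 (.node 1 (.one ⟨15948, 1, 3⟩) (.one ⟨8610, 2, 5⟩)) (.node 1 (.one ⟨8627, 2, 4⟩) (.one ⟨2044, 2, 4⟩)))) (.node 4 (.node 2 (.node 1 (.one ⟨3705, 0, 5⟩) (.one ⟨14487, 2, 6⟩)) (.node 1 (.one ⟨14820, 0, 4⟩) (.one ⟨8512, 0, 5⟩))) (.node 2 (.node 1 (.one ⟨10202, 2, 4⟩) (.one ⟨9733, 2, 5⟩)) (.node 1 (.one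 ⟨6349, 2, 5⟩) (.one ⟨9898, 2, 5⟩))))) (.node 8 (.node 4 (.node 2 (.node 1 (.one ⟨5559, 2, 5⟩) (.one ⟨5636, 2, 2⟩)) (.node 1 (.one ⟨9814, 2, 5⟩) (.one ⟨13816, 2, 3⟩))) (.node 2 (.node 1 (.one ⟨7068, 0, 3⟩) (.one ⟨709, 2, 4⟩)) (.node 1 (.one ⟨15092, 0, 3⟩) (.one ⟨10385, 2, 5⟩)))) (.node 4 (.node 2 (.node 1 (.one ⟨5403, 2, 4⟩) (.one ⟨5187, 2, 3⟩)) (.node 1 (.one ⟨10764, 2, 6⟩) (.one ⟨12861, 2, 5⟩))) (.node 2 (.node 1 (.one ⟨6161, 0, 4⟩) (.one ⟨1362, 2, 1⟩)) (.node 1 (.one ⟨16330, 1, 2⟩) (.one ⟨11004, 1, 4⟩)))))))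
def par6_8_4 : Arr Par :=
  (.node 32 (.node 16 (.node 8 (.node 4 (.node 2 (.node 1 (.one ⟨14418, 1, 4⟩) (.one ⟨13993, 2, 3⟩)) (.node 1 (.one ⟨3061, 0, 2⟩) (.one ⟨7075, 0, 3⟩))) (.node 2 (.node 1 (.one ⟨5636, 0, 2⟩) (.one ⟨9059, 0, 2⟩)) (.node 1 (.one ⟨8141, 0, 5⟩) (.one ⟨16826, 2, 2⟩)))) (.node 4 (.node 2 (.node 1 (.one ⟨6051, 2, 5⟩) (.one ⟨1290, 2, 1⟩)) (.node 1 (.one ⟨13437, 2, 4⟩) (.one ⟨8251, 2, 5⟩))) (.node 2 (.node 1 (.one ⟨47, 0, 3⟩) (.one ⟨10950, 2, 2⟩)) (.node 1 (.one ⟨5252, 1, 3⟩) (.one ⟨11288, 2, 4⟩))))) (.node 8 (.node 4 (.node 2 (.node 1 (.one ⟨897, 2, 5⟩) (.one ⟨299, 2, 5⟩)) (.node 1 (.one ⟨11293, 2, 5⟩) (.one ⟨13820, 0, 3⟩))) (.node 2 (.node 1 (.one ⟨11291, 2, 3⟩) (.one ⟨11290, 2, 3⟩)) (.node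 1 (.one ⟨6588, 0, 4⟩) (.one ⟨8157, 2, 5⟩)))) (.node 4 (.node 2 (.node 1 (.one ⟨2993, 0, 3⟩) (.one ⟨14909, 2, 4⟩)) (.node 1 (.one ⟨15872, 2, 5⟩) (.one ⟨7773, 1, 4⟩))) (.node 2 (.node 1 (.one ⟨13512, 0, 4⟩) (.one ⟨13756, 2, 5⟩)) (.node 1 (.one ⟨16641, 2, 5⟩) (.one ⟨1381, 1, 1⟩)))))) (.node 16 (.node 8 (.node 4 (.node 2 (.node 1 (.one ⟨1715, 2, 4⟩) (.one ⟨5386, 2, 5⟩)) (.node 1 (.one ⟨17070, 0, 4⟩) (.one ⟨1290, 1, 1⟩))) (.node 2 (.node 1 (.one ⟨7953, 2, 4⟩) (.one ⟨7359, 2, 4⟩)) (.node 1 (.one ⟨9293, 1, 1⟩) (.one ⟨4478, 0, 3⟩)))) (.node 4 (.node 2 (.node 1 (.one ⟨4768, 2, 5⟩) (.one ⟨14887, 2, 2⟩)) (.node 1 (.one ⟨14488, 2, 4⟩) (.one ⟨5630, 2, 4⟩))) (.node 2 (.node 1 (.one ⟨7123, 2, 2⟩) (.one ⟨13246, 2, 2⟩)) (.node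 1 (.one ⟨16175, 0, 2⟩) (.one ⟨15606, 2, 3⟩))))) (.node 8 (.node 4 (.node 2 (.node 1 (.one ⟨15705, 2, 4⟩) (.one ⟨1490, 2, 2⟩)) (.node 1 (.one ⟨5333, 2, 4⟩) (.one ⟨1407, 1, 0⟩))) (.node 2 (.node 1 (.one ⟨10071, 0, 3⟩) (.one ⟨2294, 1, 4⟩)) (.node 1 (.one ⟨389, 0, 4⟩) (.one ⟨961, 1, 0⟩)))) (.node 4 (.node 2 (.node 1 (.one ⟨9529, 2, 5⟩) (.one ⟨8836, 2, 4⟩)) (.node 1 (.one ⟨1115, 2, 5⟩) (.one ⟨1740, 0, 4⟩))) (.node 2 (.node 1 (.one ⟨13945, 1, 3⟩) (.one ⟨9349, 2, 5⟩)) (.node 1 (.one ⟨16931, 2, 5⟩) (.one ⟨13011, 1, 2⟩)))))))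
def par6_8_5 : Arr Par :=
  (.node 32 (.node 16 (.node 8 (.node 4 (.node 2 (.node 1 (.one ⟨13341, 0, 4⟩) (.one ⟨14997, 2, 6⟩)) (.node 1 (.one ⟨7565, 0, 2⟩) (.one ⟨12147, 2, 5⟩))) (.node 2 (.node 1 (.one ⟨8756, 2, 3⟩) (.one ⟨5074, 2, 2⟩)) (.node 1 (.one ⟨3866, 0, 0⟩) (.one ⟨475, 0, 4⟩)))) (.node 4 (.node 2 (.node 1 (.one ⟨390, 0, 4⟩) (.one ⟨14462, 1, 5⟩)) (.node 1 (.one ⟨6327, 0, 5⟩) (.one ⟨6654, 2, 3⟩))) (.node 2 (.node 1 (.one ⟨7964, 2, 6⟩) (.one ⟨1660, 2, 4⟩)) (.node 1 (.one ⟨5005, 2, 5⟩) (.one ⟨1345, 1, 2⟩))))) (.node 8 (.node 4 (.node 2 (.node 1 (.one ⟨64, 1, 1⟩) (.one ⟨11026, 2, 3⟩)) (.node 1 (.one ⟨11183, 0, 3⟩) (.one ⟨5407, 2, 5⟩))) (.node 2 (.node 1 (.one ⟨14542, 0, 4⟩) (.one ⟨3782, 2, 6⟩)) (.node 1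 (.one ⟨3161, 2, 6⟩) (.one ⟨14788, 0, 5⟩)))) (.node 4 (.node 2 (.node 1 (.one ⟨1879, 0, 5⟩) (.one ⟨3783, 1, 3⟩)) (.node 1 (.one ⟨12912, 2, 5⟩) (.one ⟨10074, 2, 3⟩))) (.node 2 (.node 1 (.one ⟨1053, 0, 4⟩) (.one ⟨7353, 1, 2⟩)) (.node 1 (.one ⟨2269, 2, 5⟩) (.one ⟨2514, 2, 2⟩)))))) (.node 16 (.node 8 (.node 4 (.node 2 (.node 1 (.one ⟨16542, 0, 3⟩) (.one ⟨4610, 2, 3⟩)) (.node 1 (.one ⟨4954, 0, 2⟩) (.one ⟨8745, 0, 2⟩))) (.node 2 (.node 1 (.one ⟨5855, 0, 4⟩) (.one ⟨5410, 2, 5⟩)) (.node 1 (.one ⟨10069, 0, 2⟩) (.one ⟨6435, 2, 3⟩)))) (.node 4 (.node 2 (.node 1 (.one ⟨16093, 0, 3⟩) (.one ⟨5411, 2, 4⟩)) (.node 1 (.one ⟨7101, 2, 3⟩) (.one ⟨16089, 0, 4⟩))) (.node 2 (.node 1 (.one ⟨227, 2, 3⟩) (.one ⟨2859, 2, 3⟩)) (.node 1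 (.one ⟨16092, 0, 3⟩) (.one ⟨1468, 0, 4⟩))))) (.node 8 (.node 4 (.node 2 (.node 1 (.one ⟨9200, 2, 5⟩) (.one ⟨2430, 2, 3⟩)) (.node 1 (.one ⟨9270, 2, 3⟩) (.one ⟨2408, 2, 3⟩))) (.node 2 (.node 1 (.one ⟨9463, 2, 3⟩) (.one ⟨2366, 2, 3⟩)) (.node 1 (.one ⟨11359, 1, 1⟩) (.one ⟨16401, 2, 3⟩)))) (.node 4 (.node 2 (.node 1 (.one ⟨2826, 1, 5⟩) (.one ⟨7223, 0, 4⟩)) (.node 1 (.one ⟨516, 2, 5⟩) (.one ⟨16399, 2, 5⟩))) (.node 2 (.node 1 (.one ⟨2075, 1, 0⟩) (.one ⟨457, 2, 5⟩)) (.node 1 (.one ⟨503, 2, 4⟩) (.one ⟨14862, 2, 3⟩)))))))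
def par6_8_6 : Arr Par :=
  (.node 32 (.node 16 (.node 8 (.node 4 (.node 2 (.node 1 (.one ⟨4727, 0, 3⟩) (.one ⟨1777, 2, 3⟩)) (.node 1 (.one ⟨5921, 2, 5⟩) (.one ⟨14725, 0, 2⟩))) (.node 2 (.node 1 (.one ⟨11228, 0, 3⟩) (.one ⟨3736, 2, 3⟩)) (.node 1 (.one ⟨3570, 0, 3⟩) (.one ⟨1772, 0, 4⟩)))) (.node 4 (.node 2 (.node 1 (.one ⟨16747, 2, 3⟩) (.one ⟨13957, 2, 3⟩)) (.node 1 (.one ⟨3442, 0, 3⟩) (.one ⟨15574, 0, 2⟩))) (.node 2 (.node 1 (.one ⟨7962, 1, 2⟩) (.one ⟨4992, 2, 3⟩)) (.node 1 (.one ⟨4475, 2, 3⟩) (.one ⟨12228, 0, 2⟩))))) (.node 8 (.node 4 (.node 2 (.node 1 (.one ⟨10502, 1, 2⟩) (.one ⟨16811, 2, 4⟩)) (.node 1 (.one ⟨11220, 1, 4⟩) (.one ⟨3734, 2, 5⟩))) (.node 2 (.node 1 (.one ⟨12709, 2, 5⟩) (.one ⟨15696, 0, 2⟩))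 (.node 1 (.one ⟨14256, 2, 3⟩) (.one ⟨3435, 2, 5⟩)))) (.node 4 (.node 2 (.node 1 (.one ⟨5510, 0, 3⟩) (.one ⟨8588, 2, 3⟩)) (.node 1 (.one ⟨5444, 2, 5⟩) (.one ⟨7832, 2, 3⟩))) (.node 2 (.node 1 (.one ⟨3897, 2, 5⟩) (.one ⟨9312, 0, 4⟩)) (.node 1 (.one ⟨5723, 2, 3⟩) (.one ⟨4581, 2, 5⟩)))))) (.node 16 (.node 8 (.node 4 (.node 2 (.node 1 (.one ⟨1592, 2, 4⟩) (.one ⟨7562, 2, 5⟩)) (.node 1 (.one ⟨8244, 2, 4⟩) (.one ⟨13279, 0, 4⟩))) (.node 2 (.node 1 (.one ⟨6935, 0, 4⟩) (.one ⟨8304, 2, 4⟩)) (.node 1 (.one ⟨7502, 2, 5⟩) (.one ⟨5729, 0, 3⟩)))) (.node 4 (.node 2 (.node 1 (.one ⟨8224, 2, 4⟩) (.one ⟨12395, 2, 3⟩)) (.node 1 (.one ⟨5393, 2, 5⟩) (.one ⟨13655, 2, 4⟩))) (.node 2 (.node 1 (.one ⟨6575, 2, 5⟩) (.one ⟨11148, 2, 4⟩))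 (.node 1 (.one ⟨2399, 0, 5⟩) (.one ⟨7767, 2, 4⟩))))) (.node 8 (.node 4 (.node 2 (.node 1 (.one ⟨540, 2, 3⟩) (.one ⟨7770, 2, 4⟩)) (.node 1 (.one ⟨11705, 0, 3⟩) (.one ⟨16747, 0, 3⟩))) (.node 2 (.node 1 (.one ⟨8543, 0, 3⟩) (.one ⟨7768, 2, 6⟩)) (.node 1 (.one ⟨392, 2, 5⟩) (.one ⟨1081, 2, 5⟩)))) (.node 4 (.node 2 (.node 1 (.one ⟨4368, 0, 4⟩) (.one ⟨13288, 1, 2⟩)) (.node 1 (.one ⟨5686, 2, 6⟩) (.one ⟨10883, 0, 3⟩))) (.node 2 (.node 1 (.one ⟨13683, 2, 5⟩) (.one ⟨9850, 2, 5⟩)) (.node 1 (.one ⟨10402, 2, 4⟩) (.one ⟨3356, 2, 5⟩)))))))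
def par6_8_7 : Arr Par :=
  (.node 32 (.node 16 (.node 8 (.node 4 (.node 2 (.node 1 (.one ⟨8635, 0, 4⟩) (.one ⟨80, 2, 3⟩)) (.node 1 (.one ⟨16739, 0, 4⟩) (.one ⟨16748, 0, 4⟩))) (.node 2 (.node 1 (.one ⟨3258, 2, 5⟩) (.one ⟨11356, 2, 5⟩)) (.node 1 (.one ⟨1495, 2, 3⟩) (.one ⟨11172, 1, 3⟩)))) (.node 4 (.node 2 (.node 1 (.one ⟨6880, 2, 2⟩) (.one ⟨13404, 1, 3⟩)) (.node 1 (.one ⟨2028, 2, 5⟩) (.one ⟨7318, 0, 3⟩))) (.node 2 (.node 1 (.one ⟨11363, 0, 1⟩) (.one ⟨1988, 1, 4⟩)) (.node 1 (.one ⟨12985, 1, 3⟩) (.one ⟨12014, 2, 3⟩))))) (.node 8 (.node 4 (.node 2 (.node 1 (.one ⟨11967, 2, 4⟩) (.one ⟨3915, 2, 5⟩)) (.node 1 (.one ⟨605, 1, 1⟩) (.one ⟨9377, 2, 4⟩))) (.node 2 (.node 1 (.one ⟨9194, 2, 4⟩) (.one ⟨81, 2, 1⟩)) (.node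 1 (.one ⟨1371, 2, 5⟩) (.one ⟨1166, 2, 5⟩)))) (.node 4 (.node 2 (.node 1 (.one ⟨12175, 2, 5⟩) (.one ⟨14598, 2, 6⟩)) (.node 1 (.one ⟨8024, 2, 5⟩) (.one ⟨4647, 0, 4⟩))) (.node 2 (.node 1 (.one ⟨11934, 2, 3⟩) (.one ⟨6154, 0, 4⟩)) (.node 1 (.one ⟨8219, 2, 6⟩) (.one ⟨17144, 0, 3⟩)))))) (.node 16 (.node 8 (.node 4 (.node 2 (.node 1 (.one ⟨9779, 0, 5⟩) (.one ⟨12445, 1, 5⟩)) (.node 1 (.one ⟨6722, 2, 4⟩) (.one ⟨3170, 2, 4⟩))) (.node 2 (.node 1 (.one ⟨1717, 2, 6⟩) (.one ⟨5325, 0, 4⟩)) (.node 1 (.one ⟨5698, 0, 4⟩) (.one ⟨4310, 0, 2⟩)))) (.node 4 (.node 2 (.node 1 (.one ⟨5447, 2, 4⟩) (.one ⟨2982, 0, 4⟩)) (.node 1 (.one ⟨5079, 2, 3⟩) (.one ⟨11165, 0, 4⟩))) (.node 2 (.node 1 (.one ⟨12906, 1, 4⟩) (.one ⟨12484, 0, 1⟩)) (.node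 1 (.one ⟨5281, 0, 1⟩) (.one ⟨2041, 1, 0⟩))))) (.node 8 (.node 4 (.node 2 (.node 1 (.one ⟨14636, 2, 6⟩) (.one ⟨9786, 0, 3⟩)) (.node 1 (.one ⟨16272, 0, 4⟩) (.one ⟨14633, 2, 5⟩))) (.node 2 (.node 1 (.one ⟨11559, 0, 3⟩) (.one ⟨694, 1, 0⟩)) (.node 1 (.one ⟨14637, 2, 5⟩) (.one ⟨8797, 2, 5⟩)))) (.node 4 (.node 2 (.node 1 (.one ⟨9479, 2, 4⟩) (.one ⟨9787, 0, 4⟩)) (.node 1 (.one ⟨8693, 0, 1⟩) (.one ⟨9252, 2, 2⟩))) (.node 2 (.node 1 (.one ⟨8839, 2, 5⟩) (.one ⟨16922, 2, 5⟩)) (.node 1 (.one ⟨9781, 0, 4⟩) (.one ⟨12480, 0, 4⟩)))))))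
def par6_8_8 : Arr Par :=
  (.node 32 (.node 16 (.node 8 (.node 4 (.node 2 (.node 1 (.one ⟨5603, 1, 3⟩) (.one ⟨7610, 0, 4⟩)) (.node 1 (.one ⟨232, 1, 0⟩) (.one ⟨7746, 1, 3⟩))) (.node 2 (.node 1 (.one ⟨663, 2, 4⟩) (.one ⟨3692, 1, 4⟩)) (.node 1 (.one ⟨14954, 0, 4⟩) (.one ⟨9122, 0, 3⟩)))) (.node 4 (.node 2 (.node 1 (.one ⟨10123, 2, 5⟩) (.one ⟨12650, 2, 5⟩)) (.node 1 (.one ⟨4771, 2, 5⟩) (.one ⟨6162, 2, 5⟩))) (.node 2 (.node 1 (.one ⟨14156, 2, 3⟩) (.one ⟨13153, 0, 3⟩)) (.node 1 (.one ⟨2178, 0, 4⟩) (.one ⟨5197, 0, 4⟩))))) (.node 8 (.node 4 (.node 2 (.node 1 (.one ⟨16441, 0, 2⟩) (.one ⟨16734, 0, 2⟩)) (.node 1 (.one ⟨5382, 0, 2⟩) (.one ⟨3684, 2, 3⟩))) (.node 2 (.node 1 (.one ⟨7114, 2, 3⟩) (.one ⟨8020, 2, 3⟩)) (.node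 1 (.one ⟨3281, 2, 3⟩) (.one ⟨4755, 0, 4⟩)))) (.node 4 (.node 2 (.node 1 (.one ⟨4019, 2, 3⟩) (.one ⟨6880, 0, 2⟩)) (.node 1 (.one ⟨238, 0, 2⟩) (.one ⟨10710, 0, 2⟩))) (.node 2 (.node 1 (.one ⟨4183, 2, 5⟩) (.one ⟨16263, 0, 1⟩)) (.node 1 (.one ⟨10007, 2, 2⟩) (.one ⟨16327, 1, 4⟩)))))) (.node 16 (.node 8 (.node 4 (.node 2 (.node 1 (.one ⟨7993, 1, 4⟩) (.one ⟨6717, 2, 4⟩)) (.node 1 (.one ⟨4181, 1, 4⟩) (.one ⟨15500, 2, 5⟩))) (.node 2 (.node 1 (.one ⟨5605, 1, 4⟩) (.one ⟨9591, 1, 4⟩)) (.node 1 (.one ⟨7736, 2, 4⟩) (.one ⟨13161, 1, 1⟩)))) (.node 4 (.node 2 (.node 1 (.one ⟨4018, 0, 4⟩) (.one ⟨11359, 0, 1⟩)) (.node 1 (.one ⟨12752, 0, 3⟩) (.one ⟨2905, 0, 4⟩))) (.node 2 (.node 1 (.one ⟨5546, 0, 3⟩) (.one ⟨10707, 0, 3⟩)) (.node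 1 (.one ⟨4388, 2, 2⟩) (.one ⟨485, 0, 4⟩))))) (.node 8 (.node 4 (.node 2 (.node 1 (.one ⟨9638, 0, 4⟩) (.one ⟨1793, 1, 4⟩)) (.node 1 (.one ⟨13921, 2, 3⟩) (.one ⟨7123, 0, 2⟩))) (.node 2 (.node 1 (.one ⟨12031, 2, 2⟩) (.one ⟨8382, 2, 4⟩)) (.node 1 (.one ⟨1392, 2, 5⟩) (.one ⟨16949, 2, 1⟩)))) (.node 4 (.node 2 (.node 1 (.one ⟨16654, 0, 3⟩) (.one ⟨8914, 2, 4⟩)) (.node 1 (.one ⟨16662, 0, 4⟩) (.one ⟨1234, 0, 4⟩))) (.node 2 (.node 1 (.one ⟨12481, 2, 2⟩) (.one ⟨3499, 2, 4⟩)) (.node 1 (.one ⟨4449, 2, 3⟩) (.one ⟨3824, 0, 4⟩)))))))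
def par6_8_9 : Arr Par :=
  (.node 32 (.node 16 (.node 8 (.node 4 (.node 2 (.node 1 (.one ⟨10453, 0, 4⟩) (.one ⟨12925, 0, 4⟩)) (.node 1 (.one ⟨9442, 2, 1⟩) (.one ⟨1576, 2, 5⟩))) (.node 2 (.node 1 (.one ⟨13354, 2, 5⟩) (.one ⟨1984, 2, 5⟩)) (.node 1 (.one ⟨2034, 1, 5⟩) (.one ⟨348, 0, 3⟩)))) (.node 4 (.node 2 (.node 1 (.one ⟨9180, 2, 1⟩) (.one ⟨15356, 1, 5⟩)) (.node 1 (.one ⟨17170, 2, 5⟩) (.one ⟨15227, 2, 5⟩))) (.node 2 (.node 1 (.one ⟨5463, 1, 4⟩) (.one ⟨11768, 2, 2⟩)) (.node 1 (.one ⟨1160, 0, 4⟩) (.one ⟨5083, 1, 5⟩))))) (.node 8 (.node 4 (.node 2 (.node 1 (.one ⟨3991, 2, 4⟩) (.one ⟨113, 0, 3⟩)) (.node 1 (.one ⟨6749, 1, 3⟩) (.one ⟨5312, 2, 6⟩))) (.node 2 (.node 1 (.one ⟨5186, 2, 5⟩) (.one ⟨11040, 2, 5⟩)) (.node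 1 (.one ⟨10925, 2, 5⟩) (.one ⟨15653, 2, 6⟩)))) (.node 4 (.node 2 (.node 1 (.one ⟨2298, 0, 4⟩) (.one ⟨7470, 0, 4⟩)) (.node 1 (.one ⟨8544, 1, 4⟩) (.one ⟨797, 2, 4⟩))) (.node 2 (.node 1 (.one ⟨13175, 1, 3⟩) (.one ⟨15654, 2, 4⟩)) (.node 1 (.one ⟨14595, 1, 2⟩) (.one ⟨10773, 2, 2⟩)))))) (.node 16 (.node 8 (.node 4 (.node 2 (.node 1 (.one ⟨3104, 2, 5⟩) (.one ⟨16682, 2, 3⟩)) (.node 1 (.one ⟨8350, 2, 3⟩) (.one ⟨8968, 2, 5⟩))) (.node 2 (.node 1 (.one ⟨15811, 2, 4⟩) (.one ⟨781, 2, 4⟩)) (.node 1 (.one ⟨11264, 2, 4⟩) (.one ⟨8546, 1, 3⟩)))) (.node 4 (.node 2 (.node 1 (.one ⟨9111, 2, 4⟩) (.one ⟨16661, 0, 2⟩)) (.node 1 (.one ⟨4391, 2, 5⟩) (.one ⟨1702, 2, 2⟩))) (.node 2 (.node 1 (.one ⟨16190, 1, 4⟩) (.one ⟨6677, 2, 3⟩)) (.node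 1 (.one ⟨2430, 0, 3⟩) (.one ⟨7883, 0, 2⟩))))) (.node 8 (.node 4 (.node 2 (.node 1 (.one ⟨4032, 2, 4⟩) (.one ⟨3633, 0, 4⟩)) (.node 1 (.one ⟨8855, 0, 3⟩) (.one ⟨3247, 0, 4⟩))) (.node 2 (.node 1 (.one ⟨14050, 2, 3⟩) (.one ⟨3250, 2, 4⟩)) (.node 1 (.one ⟨4028, 2, 4⟩) (.one ⟨15338, 2, 5⟩)))) (.node 4 (.node 2 (.node 1 (.one ⟨11566, 0, 5⟩) (.one ⟨16826, 0, 2⟩)) (.node 1 (.one ⟨14436, 2, 3⟩) (.one ⟨908, 2, 4⟩))) (.node 2 (.node 1 (.one ⟨10413, 2, 2⟩) (.one ⟨7756, 0, 2⟩)) (.node 1 (.one ⟨2840, 2, 3⟩) (.one ⟨15513, 2, 3⟩)))))))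
def par6_8_10 : Arr Par :=
  (.node 32 (.node 16 (.node 8 (.node 4 (.node 2 (.node 1 (.one ⟨445, 2, 5⟩) (.one ⟨15518, 2, 3⟩)) (.node 1 (.one ⟨265, 1, 0⟩) (.one ⟨451, 2, 5⟩))) (.node 2 (.node 1 (.one ⟨15514, 2, 3⟩) (.one ⟨166, 2, 4⟩)) (.node 1 (.one ⟨15517, 2, 3⟩) (.one ⟨8323, 2, 4⟩)))) (.node 4 (.node 2 (.node 1 (.one ⟨2954, 2, 6⟩) (.one ⟨7749, 0, 3⟩)) (.node 1 (.one ⟨227, 1, 0⟩) (.one ⟨7013, 0, 3⟩))) (.node 2 (.node 1 (.one ⟨16515, 0, 4⟩) (.one ⟨3887, 2, 5⟩)) (.node 1 (.one ⟨6587, 2, 6⟩) (.one ⟨1177, 2, 5⟩))))) (.node 8 (.node 4 (.node 2 (.node 1 (.one ⟨1255, 2, 5⟩) (.one ⟨9653, 1, 5⟩)) (.node 1 (.one ⟨3635, 0, 4⟩) (.one ⟨16121, 2, 4⟩))) (.node 2 (.node 1 (.one ⟨16113, 2, 2⟩) (.one ⟨8091, 2, 4⟩)) (.node 1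 (.one ⟨4327, 0, 4⟩) (.one ⟨10564, 2, 2⟩)))) (.node 4 (.node 2 (.node 1 (.one ⟨2579, 2, 5⟩) (.one ⟨16520, 2, 5⟩)) (.node 1 (.one ⟨12191, 1, 4⟩) (.one ⟨530, 2, 4⟩))) (.node 2 (.node 1 (.one ⟨1159, 1, 5⟩) (.one ⟨9029, 2, 5⟩)) (.node 1 (.one ⟨17115, 2, 5⟩) (.one ⟨13600, 1, 5⟩)))))) (.node 16 (.node 8 (.node 4 (.node 2 (.node 1 (.one ⟨11464, 1, 4⟩) (.one ⟨12527, 2, 4⟩)) (.node 1 (.one ⟨15858, 1, 5⟩) (.one ⟨9115, 2, 4⟩))) (.node 2 (.node 1 (.one ⟨14095, 0, 3⟩) (.one ⟨15588, 0, 4⟩)) (.node 1 (.one ⟨14850, 2, 1⟩) (.one ⟨7021, 0, 4⟩)))) (.node 4 (.node 2 (.node 1 (.one ⟨127, 2, 4⟩) (.one ⟨12831, 2, 4⟩)) (.node 1 (.one ⟨8445, 2, 2⟩) (.one ⟨10422, 2, 4⟩))) (.node 2 (.node 1 (.one ⟨6351, 2, 2⟩) (.one ⟨17015, 2, 4⟩)) (.node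 1 (.one ⟨5252, 2, 3⟩) (.one ⟨2578, 0, 4⟩))))) (.node 8 (.node 4 (.node 2 (.node 1 (.one ⟨16486, 1, 4⟩) (.one ⟨11211, 0, 1⟩)) (.node 1 (.one ⟨14134, 2, 4⟩) (.one ⟨14957, 2, 5⟩))) (.node 2 (.node 1 (.one ⟨5160, 2, 5⟩) (.one ⟨13397, 0, 5⟩)) (.node 1 (.one ⟨1999, 1, 2⟩) (.one ⟨3096, 2, 5⟩)))) (.node 4 (.node 2 (.node 1 (.one ⟨13714, 2, 4⟩) (.one ⟨3788, 2, 4⟩)) (.node 1 (.one ⟨16513, 2, 5⟩) (.one ⟨1132, 0, 2⟩))) (.node 2 (.node 1 (.one ⟨3944, 0, 2⟩) (.one ⟨2137, 0, 2⟩)) (.node 1 (.one ⟨4501, 0, 2⟩) (.one ⟨13057, 1, 4⟩)))))))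
def par6_8_11 : Arr Par :=
  (.node 32 (.node 16 (.node 8 (.node 4 (.node 2 (.node 1 (.one ⟨12995, 1, 4⟩) (.one ⟨1591, 1, 2⟩)) (.node 1 (.one ⟨998, 1, 4⟩) (.one ⟨11371, 2, 6⟩))) (.node 2 (.node 1 (.one ⟨5173, 2, 4⟩) (.one ⟨7740, 2, 4⟩)) (.node 1 (.one ⟨13920, 2, 5⟩) (.one ⟨11937, 2, 5⟩)))) (.node 4 (.node 2 (.node 1 (.one ⟨12246, 1, 4⟩) (.one ⟨3824, 1, 4⟩)) (.node 1 (.one ⟨13954, 2, 5⟩) (.one ⟨3864, 2, 5⟩))) (.node 2 (.node 1 (.one ⟨5865, 2, 3⟩) (.one ⟨9588, 0, 3⟩)) (.node 1 (.one ⟨5881, 2, 5⟩) (.one ⟨3969, 2, 3⟩))))) (.node 8 (.node 4 (.node 2 (.node 1 (.one ⟨14141, 0, 4⟩) (.one ⟨11246, 1, 3⟩)) (.node 1 (.one ⟨3783, 2, 3⟩) (.one ⟨3439, 0, 4⟩))) (.node 2 (.node 1 (.one ⟨15995, 2, 5⟩) (.one ⟨1486, 0, 4⟩)) (.node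 1 (.one ⟨1941, 0, 4⟩) (.one ⟨13941, 2, 4⟩)))) (.node 4 (.node 2 (.node 1 (.one ⟨2772, 2, 4⟩) (.one ⟨1617, 2, 3⟩)) (.node 1 (.one ⟨14658, 2, 5⟩) (.one ⟨6968, 2, 3⟩))) (.node 2 (.node 1 (.one ⟨1577, 1, 2⟩) (.one ⟨10989, 2, 4⟩)) (.node 1 (.one ⟨6054, 2, 2⟩) (.one ⟨6469, 0, 3⟩)))))) (.node 16 (.node 8 (.node 4 (.node 2 (.node 1 (.one ⟨4186, 2, 5⟩) (.one ⟨1543, 0, 3⟩)) (.node 1 (.one ⟨2994, 0, 1⟩) (.one ⟨8059, 0, 5⟩))) (.node 2 (.node 1 (.one ⟨8484, 0, 5⟩) (.one ⟨4088, 0, 5⟩)) (.node 1 (.one ⟨15137, 2, 6⟩) (.one ⟨4639, 2, 4⟩)))) (.node 4 (.node 2 (.node 1 (.one ⟨10688, 0, 2⟩) (.one ⟨14524, 1, 2⟩)) (.node 1 (.one ⟨4604, 0, 4⟩) (.one ⟨2186, 1, 2⟩))) (.node 2 (.node 1 (.one ⟨3056, 2, 5⟩) (.one ⟨16310, 2, 6⟩)) (.node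 1 (.one ⟨16482, 2, 3⟩) (.one ⟨1291, 2, 6⟩))))) (.node 8 (.node 4 (.node 2 (.node 1 (.one ⟨11946, 0, 4⟩) (.one ⟨13751, 2, 5⟩)) (.node 1 (.one ⟨5402, 1, 2⟩) (.one ⟨2394, 0, 2⟩))) (.node 2 (.node 1 (.one ⟨9279, 2, 4⟩) (.one ⟨9559, 2, 3⟩)) (.node 1 (.one ⟨5685, 2, 6⟩) (.one ⟨10287, 1, 3⟩)))) (.node 4 (.node 2 (.node 1 (.one ⟨1657, 2, 4⟩) (.one ⟨2029, 0, 4⟩)) (.node 1 (.one ⟨10288, 1, 2⟩) (.one ⟨10292, 1, 5⟩))) (.node 2 (.node 1 (.one ⟨14147, 2, 4⟩) (.one ⟨4730, 2, 4⟩)) (.node 1 (.one ⟨10766, 2, 6⟩) (.one ⟨13626, 2, 4⟩)))))))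
def par6_8_12 : Arr Par :=
  (.node 32 (.node 16 (.node 8 (.node 4 (.node 2 (.node 1 (.one ⟨11297, 2, 3⟩) (.one ⟨5006, 2, 2⟩)) (.node 1 (.one ⟨8271, 2, 1⟩) (.one ⟨3181, 2, 4⟩))) (.node 2 (.node 1 (.one ⟨5626, 2, 6⟩) (.one ⟨16414, 2, 3⟩)) (.node 1 (.one ⟨12992, 2, 4⟩) (.one ⟨1946, 2, 4⟩)))) (.node 4 (.node 2 (.node 1 (.one ⟨1485, 0, 4⟩) (.one ⟨4947, 2, 3⟩)) (.node 1 (.one ⟨8730, 1, 3⟩) (.one ⟨16151, 0, 4⟩))) (.node 2 (.node 1 (.one ⟨5281, 1, 1⟩) (.one ⟨10705, 2, 4⟩)) (.node 1 (.one ⟨1379, 1, 4⟩) (.one ⟨4440, 2, 5⟩))))) (.node 8 (.node 4 (.node 2 (.node 1 (.one ⟨15013, 2, 5⟩) (.one ⟨17037, 2, 3⟩)) (.node 1 (.one ⟨1583, 2, 5⟩) (.one ⟨8831, 2, 4⟩))) (.node 2 (.node 1 (.one ⟨9829, 2, 4⟩) (.one ⟨12396, 2, 5⟩)) (.node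 1 (.one ⟨7026, 2, 5⟩) (.one ⟨13596, 2, 5⟩)))) (.node 4 (.node 2 (.node 1 (.one ⟨2427, 2, 5⟩) (.one ⟨6195, 2, 4⟩)) (.node 1 (.one ⟨17147, 2, 4⟩) (.one ⟨13041, 2, 4⟩))) (.node 2 (.node 1 (.one ⟨9554, 0, 2⟩) (.one ⟨5770, 2, 4⟩)) (.node 1 (.one ⟨16785, 2, 5⟩) (.one ⟨11218, 1, 5⟩)))))) (.node 16 (.node 8 (.node 4 (.node 2 (.node 1 (.one ⟨2595, 0, 2⟩) (.one ⟨14402, 2, 6⟩)) (.node 1 (.one ⟨323, 1, 0⟩) (.one ⟨388, 0, 2⟩))) (.node 2 (.node 1 (.one ⟨14231, 2, 4⟩) (.one ⟨10409, 1, 2⟩)) (.node 1 (.one ⟨16306, 2, 6⟩) (.one ⟨16990, 0, 2⟩)))) (.node 4 (.node 2 (.node 1 (.one ⟨9766, 2, 3⟩) (.one ⟨17073, 0, 2⟩)) (.node 1 (.one ⟨6668, 0, 5⟩) (.one ⟨12186, 0, 4⟩))) (.node 2 (.node 1 (.one ⟨10908, 2, 3⟩) (.one ⟨12398, 0, 2⟩))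 (.node 1 (.one ⟨5474, 2, 3⟩) (.one ⟨15637, 2, 5⟩))))) (.node 8 (.node 4 (.node 2 (.node 1 (.one ⟨11256, 0, 5⟩) (.one ⟨7410, 2, 6⟩)) (.node 1 (.one ⟨7620, 2, 5⟩) (.one ⟨11787, 0, 2⟩))) (.node 2 (.node 1 (.one ⟨2746, 1, 2⟩) (.one ⟨3627, 2, 6⟩)) (.node 1 (.one ⟨11394, 0, 3⟩) (.one ⟨16865, 0, 4⟩)))) (.node 4 (.node 2 (.node 1 (.one ⟨2397, 0, 2⟩) (.one ⟨955, 2, 2⟩)) (.node 1 (.one ⟨14151, 0, 4⟩) (.one ⟨9910, 1, 2⟩))) (.node 2 (.node 1 (.one ⟨16983, 2, 4⟩) (.one ⟨222, 1, 0⟩)) (.node 1 (.one ⟨9034, 0, 4⟩) (.one ⟨5416, 2, 4⟩)))))))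
def par6_8_13 : Arr Par :=
  (.node 32 (.node 16 (.node 8 (.node 4 (.node 2 (.node 1 (.one ⟨3640, 2, 4⟩) (.one ⟨8798, 2, 3⟩)) (.node 1 (.one ⟨16834, 1, 3⟩) (.one ⟨6272, 0, 3⟩))) (.node 2 (.node 1 (.one ⟨14283, 2, 4⟩) (.one ⟨16841, 1, 4⟩)) (.node 1 (.one ⟨14002, 1, 3⟩) (.one ⟨2767, 2, 4⟩)))) (.node 4 (.node 2 (.node 1 (.one ⟨3600, 2, 4⟩) (.one ⟨9041, 2, 3⟩)) (.node 1 (.one ⟨16143, 0, 3⟩) (.one ⟨11298, 2, 6⟩))) (.node 2 (.node 1 (.one ⟨1544, 0, 3⟩) (.one ⟨10105, 0, 3⟩)) (.node 1 (.one ⟨14176, 2, 4⟩) (.one ⟨2591, 2, 2⟩))))) (.node 8 (.node 4 (.node 2 (.node 1 (.one ⟨16141, 2, 2⟩) (.one ⟨4490, 2, 2⟩)) (.node 1 (.one ⟨14112, 2, 2⟩) (.one ⟨11971, 2, 4⟩))) (.node 2 (.node 1 (.one ⟨5796, 2, 5⟩) (.one ⟨10521, 2, 4⟩))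 (.node 1 (.one ⟨7616, 2, 2⟩) (.one ⟨2085, 0, 2⟩)))) (.node 4 (.node 2 (.node 1 (.one ⟨396, 2, 4⟩) (.one ⟨399, 2, 4⟩)) (.node 1 (.one ⟨14744, 2, 3⟩) (.one ⟨16917, 0, 4⟩))) (.node 2 (.node 1 (.one ⟨13394, 0, 3⟩) (.one ⟨7639, 0, 4⟩)) (.node 1 (.one ⟨10229, 1, 5⟩) (.one ⟨14219, 2, 5⟩)))))) (.node 16 (.node 8 (.node 4 (.node 2 (.node 1 (.one ⟨15873, 2, 5⟩) (.one ⟨14726, 2, 5⟩)) (.node 1 (.one ⟨16646, 2, 5⟩) (.one ⟨950, 0, 1⟩))) (.node 2 (.node 1 (.one ⟨10995, 2, 4⟩) (.one ⟨11982, 0, 4⟩)) (.node 1 (.one ⟨3695, 0, 3⟩) (.one ⟨6504, 2, 5⟩)))) (.node 4 (.node 2 (.node 1 (.one ⟨16118, 2, 5⟩) (.one ⟨4718, 2, 5⟩)) (.node 1 (.one ⟨11410, 2, 4⟩) (.one ⟨6526, 0, 4⟩))) (.node 2 (.node 1 (.one ⟨13638, 2, 6⟩) (.one ⟨3044, 2,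 6⟩)) (.node 1 (.one ⟨13424, 2, 5⟩) (.one ⟨2397, 1, 2⟩))))) (.node 8 (.node 4 (.node 2 (.node 1 (.one ⟨362, 2, 2⟩) (.one ⟨14718, 2, 6⟩)) (.node 1 (.one ⟨6046, 0, 4⟩) (.one ⟨6673, 2, 4⟩))) (.node 2 (.node 1 (.one ⟨8445, 0, 2⟩) (.one ⟨2599, 2, 4⟩)) (.node 1 (.one ⟨14479, 1, 2⟩) (.one ⟨6869, 0, 5⟩)))) (.node 4 (.node 2 (.node 1 (.one ⟨3937, 0, 3⟩) (.one ⟨7336, 0, 4⟩)) (.node 1 (.one ⟨3665, 2, 4⟩) (.one ⟨10577, 0, 5⟩))) (.node 2 (.node 1 (.one ⟨16547, 0, 3⟩) (.one ⟨17082, 2, 5⟩)) (.node 1 (.one ⟨17173, 2, 4⟩) (.one ⟨59, 2, 3⟩)))))))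
def par6_8_14 : Arr Par :=
  (.node 32 (.node 16 (.node 8 (.node 4 (.node 2 (.node 1 (.one ⟨12078, 2, 4⟩) (.one ⟨12073, 2, 5⟩)) (.node 1 (.one ⟨741, 2, 2⟩) (.one ⟨9098, 0, 3⟩))) (.node 2 (.node 1 (.one ⟨651, 2, 4⟩) (.one ⟨999, 0, 4⟩)) (.node 1 (.one ⟨12077, 2, 2⟩) (.one ⟨2658, 2, 2⟩)))) (.node 4 (.node 2 (.node 1 (.one ⟨8213, 2, 2⟩) (.one ⟨5544, 2, 2⟩)) (.node 1 (.one ⟨7390, 2, 2⟩) (.one ⟨10697, 2, 6⟩))) (.node 2 (.node 1 (.one ⟨16254, 2, 5⟩) (.one ⟨9753, 1, 3⟩)) (.node 1 (.one ⟨1131, 0, 2⟩) (.one ⟨13011, 2, 2⟩))))) (.node 8 (.node 4 (.node 2 (.node 1 (.one ⟨8159, 0, 4⟩) (.one ⟨16329, 2, 4⟩)) (.node 1 (.one ⟨2320, 2, 2⟩) (.one ⟨8180, 0, 4⟩))) (.node 2 (.node 1 (.one ⟨8698, 0, 2⟩) (.one ⟨4927, 0, 2⟩)) (.node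 1 (.one ⟨3917, 0, 4⟩) (.one ⟨13013, 1, 3⟩)))) (.node 4 (.node 2 (.node 1 (.one ⟨13877, 1, 3⟩) (.one ⟨14119, 1, 3⟩)) (.node 1 (.one ⟨3468, 0, 4⟩) (.one ⟨16466, 1, 3⟩))) (.node 2 (.node 1 (.one ⟨3562, 0, 4⟩) (.one ⟨9755, 1, 3⟩)) (.node 1 (.one ⟨16709, 1, 3⟩) (.one ⟨5654, 0, 5⟩)))))) (.node 16 (.node 8 (.node 4 (.node 2 (.node 1 (.one ⟨3187, 2, 6⟩) (.one ⟨11259, 0, 5⟩)) (.node 1 (.one ⟨3496, 2, 2⟩) (.one ⟨2398, 0, 5⟩))) (.node 2 (.node 1 (.one ⟨5356, 2, 6⟩) (.one ⟨5901, 2, 4⟩)) (.node 1 (.one ⟨5236, 2, 5⟩) (.one ⟨10108, 0, 2⟩)))) (.node 4 (.node 2 (.node 1 (.one ⟨7616, 0, 2⟩) (.one ⟨8035, 0, 2⟩)) (.node 1 (.one ⟨9136, 0, 4⟩) (.one ⟨9294, 2, 1⟩))) (.node 2 (.node 1 (.one ⟨10415, 2, 3⟩) (.one ⟨13021, 2, 3⟩)) (.node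 1 (.one ⟨13544, 2, 3⟩) (.one ⟨8332, 1, 3⟩))))) (.node 8 (.node 4 (.node 2 (.node 1 (.one ⟨580, 2, 3⟩) (.one ⟨14590, 0, 5⟩)) (.node 1 (.one ⟨6734, 2, 2⟩) (.one ⟨4610, 0, 3⟩))) (.node 2 (.node 1 (.one ⟨1266, 2, 1⟩) (.one ⟨2109, 1, 0⟩)) (.node 1 (.one ⟨6739, 2, 6⟩) (.one ⟨1363, 0, 4⟩)))) (.node 4 (.node 2 (.node 1 (.one ⟨6707, 0, 2⟩) (.one ⟨6295, 0, 5⟩)) (.node 1 (.one ⟨3305, 0, 5⟩) (.one ⟨1472, 2, 5⟩))) (.node 2 (.node 1 (.one ⟨6409, 0, 5⟩) (.one ⟨690, 1, 0⟩)) (.node 1 (.one ⟨2034, 1, 0⟩) (.one ⟨12002, 2, 5⟩)))))))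
def par6_8_15 : Arr Par :=
  (.node 32 (.node 16 (.node 8 (.node 4 (.node 2 (.node 1 (.one ⟨13292, 2, 5⟩) (.one ⟨6649, 2, 5⟩)) (.node 1 (.one ⟨5761, 2, 5⟩) (.one ⟨15533, 0, 4⟩))) (.node 2 (.node 1 (.one ⟨14292, 2, 4⟩) (.one ⟨15127, 0, 5⟩)) (.node 1 (.one ⟨4754, 2, 5⟩) (.one ⟨6137, 2, 5⟩)))) (.node 4 (.node 2 (.node 1 (.one ⟨13745, 2, 6⟩) (.one ⟨9903, 2, 2⟩)) (.node 1 (.one ⟨1594, 2, 5⟩) (.one ⟨6470, 0, 2⟩))) (.node 2 (.node 1 (.one ⟨15342, 2, 4⟩) (.one ⟨11532, 2, 4⟩)) (.node 1 (.one ⟨3299, 2, 6⟩) (.one ⟨12807, 2, 5⟩))))) (.node 8 (.node 4 (.node 2 (.node 1 (.one ⟨9895, 2, 4⟩) (.one ⟨4824, 0, 4⟩)) (.node 1 (.one ⟨4904, 2, 5⟩) (.one ⟨4818, 2, 5⟩))) (.node 2 (.node 1 (.one ⟨11287, 1, 4⟩) (.one ⟨9810, 2, 4⟩)) (.node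 1 (.one ⟨12610, 2, 5⟩) (.one ⟨14445, 2, 2⟩)))) (.node 4 (.node 2 (.node 1 (.one ⟨16852, 2, 2⟩) (.one ⟨8933, 2, 6⟩)) (.node 1 (.one ⟨11940, 0, 4⟩) (.one ⟨5322, 2, 5⟩))) (.node 2 (.node 1 (.one ⟨2071, 1, 0⟩) (.one ⟨2046, 1, 0⟩)) (.node 1 (.one ⟨7618, 0, 4⟩) (.one ⟨5539, 1, 2⟩)))))) (.node 16 (.node 8 (.node 4 (.node 2 (.node 1 (.one ⟨10860, 1, 2⟩) (.one ⟨10947, 1, 2⟩)) (.node 1 (.one ⟨5131, 1, 2⟩) (.one ⟨17166, 0, 3⟩))) (.node 2 (.node 1 (.one ⟨11790, 0, 2⟩) (.one ⟨16805, 0, 3⟩)) (.node 1 (.one ⟨9014, 2, 4⟩) (.one ⟨6736, 0, 3⟩)))) (.node 4 (.node 2 (.node 1 (.one ⟨8597, 2, 3⟩) (.one ⟨7200, 0, 3⟩)) (.node 1 (.one ⟨1568, 0, 3⟩) (.one ⟨1152, 1, 0⟩))) (.node 2 (.node 1 (.one ⟨2052, 1, 2⟩) (.one ⟨3581, 1, 0⟩)) (.node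 1 (.one ⟨12356, 1, 2⟩) (.one ⟨9892, 2, 2⟩))))) (.node 8 (.node 4 (.node 2 (.node 1 (.one ⟨4883, 2, 4⟩) (.one ⟨957, 1, 0⟩)) (.node 1 (.one ⟨6294, 2, 5⟩) (.one ⟨1609, 2, 2⟩))) (.node 2 (.node 1 (.one ⟨12802, 2, 2⟩) (.one ⟨8904, 2, 5⟩)) (.node 1 (.one ⟨14393, 2, 4⟩) (.one ⟨9834, 2, 5⟩)))) (.node 4 (.node 2 (.node 1 (.one ⟨4826, 2, 3⟩) (.one ⟨5374, 2, 4⟩)) (.node 1 (.one ⟨12712, 1, 4⟩) (.one ⟨16024, 0, 2⟩))) (.node 2 (.node 1 (.one ⟨826, 1, 0⟩) (.one ⟨13575, 2, 3⟩)) (.node 1 (.one ⟨2679, 2, 2⟩) (.one ⟨1746, 2, 5⟩)))))))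
def par6_8 : Arr Par :=
  (.node 512 (.node 256 (.node 128 (.node 64 par6_8_0 par6_8_1) (.node 64 par6_8_2 par6_8_3)) (.node 128 (.node 64 par6_8_4 par6_8_5) (.node 64 par6_8_6 par6_8_7))) (.node 256 (.node 128 (.node 64 par6_8_8 par6_8_9) (.node 64 par6_8_10 par6_8_11)) (.node 128 (.node 64 par6_8_12 par6_8_13) (.node 64 par6_8_14 par6_8_15))))
def par6_9_0 : Arr Par :=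
  (.node 32 (.node 16 (.node 8 (.node 4 (.node 2 (.node 1 (.one ⟨1178, 1, 1⟩) (.one ⟨10620, 0, 2⟩)) (.node 1 (.one ⟨9197, 0, 1⟩) (.one ⟨2373, 0, 4⟩))) (.node 2 (.node 1 (.one ⟨12890, 2, 4⟩) (.one ⟨16047, 0, 2⟩)) (.node 1 (.one ⟨16281, 0, 3⟩) (.one ⟨6068, 2, 5⟩)))) (.node 4 (.node 2 (.node 1 (.one ⟨276, 2, 5⟩) (.one ⟨5258, 0, 4⟩)) (.node 1 (.one ⟨1028, 2, 5⟩) (.one ⟨6070, 2, 6⟩))) (.node 2 (.node 1 (.one ⟨528, 2, 4⟩) (.one ⟨3631, 1, 1⟩)) (.node 1 (.one ⟨14675, 0, 4⟩) (.one ⟨8628, 1, 4⟩))))) (.node 8 (.node 4 (.node 2 (.node 1 (.one ⟨12930, 1, 4⟩) (.one ⟨6138, 2, 4⟩)) (.node 1 (.one ⟨12797, 2, 5⟩) (.one ⟨641, 2, 5⟩))) (.node 2 (.node 1 (.one ⟨16713, 2, 4⟩) (.one ⟨4722, 1, 0⟩)) (.node 1 (.one ⟨16813, 2, 4⟩) (.one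 ⟨5377, 2, 5⟩)))) (.node 4 (.node 2 (.node 1 (.one ⟨4965, 1, 4⟩) (.one ⟨16842, 2, 4⟩)) (.node 1 (.one ⟨2638, 2, 1⟩) (.one ⟨10164, 1, 4⟩))) (.node 2 (.node 1 (.one ⟨10580, 2, 5⟩) (.one ⟨9975, 0, 4⟩)) (.node 1 (.one ⟨14059, 1, 3⟩) (.one ⟨955, 1, 2⟩)))))) (.node 16 (.node 8 (.node 4 (.node 2 (.node 1 (.one ⟨4110, 1, 3⟩) (.one ⟨14305, 0, 1⟩)) (.node 1 (.one ⟨1319, 1, 0⟩) (.one ⟨15787, 1, 2⟩))) (.node 2 (.node 1 (.one ⟨14403, 1, 1⟩) (.one ⟨8996, 2, 5⟩)) (.node 1 (.one ⟨5301, 2, 2⟩) (.one ⟨5306, 1, 2⟩)))) (.node 4 (.node 2 (.node 1 (.one ⟨16941, 2, 3⟩) (.one ⟨7707, 1, 1⟩)) (.node 1 (.one ⟨6134, 2, 6⟩) (.one ⟨2653, 2, 1⟩))) (.node 2 (.node 1 (.one ⟨2166, 0, 4⟩) (.one ⟨12784, 2, 3⟩)) (.node 1 (.one ⟨1869, 0, 4⟩) (.one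 ⟨6909, 0, 2⟩))))) (.node 8 (.node 4 (.node 2 (.node 1 (.one ⟨15881, 2, 2⟩) (.one ⟨2181, 2, 3⟩)) (.node 1 (.one ⟨15936, 2, 4⟩) (.one ⟨3757, 1, 0⟩))) (.node 2 (.node 1 (.one ⟨4827, 2, 5⟩) (.one ⟨15130, 2, 2⟩)) (.node 1 (.one ⟨4978, 2, 2⟩) (.one ⟨6968, 1, 3⟩)))) (.node 4 (.node 2 (.node 1 (.one ⟨3925, 2, 4⟩) (.one ⟨16245, 2, 2⟩)) (.node 1 (.one ⟨2334, 2, 2⟩) (.one ⟨6735, 1, 3⟩))) (.node 2 (.node 1 (.one ⟨16880, 2, 5⟩) (.one ⟨14877, 0, 4⟩)) (.node 1 (.one ⟨15367, 2, 2⟩) (.one ⟨591, 2, 3⟩)))))))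
def par6_9_1 : Arr Par :=
  (.node 32 (.node 16 (.node 8 (.node 4 (.node 2 (.node 1 (.one ⟨1420, 2, 5⟩) (.one ⟨17054, 0, 5⟩)) (.node 1 (.one ⟨2683, 0, 2⟩) (.one ⟨2577, 1, 0⟩))) (.node 2 (.node 1 (.one ⟨5367, 1, 0⟩) (.one ⟨2035, 1, 0⟩)) (.node 1 (.one ⟨510, 1, 4⟩) (.one ⟨9297, 0, 4⟩)))) (.node 4 (.node 2 (.node 1 (.one ⟨1276, 2, 5⟩) (.one ⟨14863, 0, 3⟩)) (.node 1 (.one ⟨3774, 1, 3⟩) (.one ⟨5290, 1, 0⟩))) (.node 2 (.node 1 (.one ⟨4569, 1, 0⟩) (.one ⟨345, 1, 0⟩)) (.node 1 (.one ⟨3257, 1, 0⟩) (.one ⟨16494, 0, 3⟩))))) (.node 8 (.node 4 (.node 2 (.node 1 (.one ⟨5132, 1, 2⟩) (.one ⟨16974, 0, 3⟩)) (.node 1 (.one ⟨10859, 1, 2⟩) (.one ⟨12833, 0, 3⟩))) (.node 2 (.node 1 (.one ⟨12308, 1, 2⟩) (.one ⟨13242, 0, 2⟩)) (.node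 1 (.one ⟨4239, 1, 0⟩) (.one ⟨11035, 1, 2⟩)))) (.node 4 (.node 2 (.node 1 (.one ⟨6100, 0, 3⟩) (.one ⟨6461, 0, 3⟩)) (.node 1 (.one ⟨5436, 1, 2⟩) (.one ⟨1817, 1, 0⟩))) (.node 2 (.node 1 (.one ⟨1799, 1, 1⟩) (.one ⟨15160, 2, 4⟩)) (.node 1 (.one ⟨12149, 1, 2⟩) (.one ⟨1997, 2, 2⟩)))))) (.node 16 (.node 8 (.node 4 (.node 2 (.node 1 (.one ⟨11620, 2, 3⟩) (.one ⟨16985, 1, 1⟩)) (.node 1 (.one ⟨16772, 1, 3⟩) (.one ⟨4361, 1, 0⟩))) (.node 2 (.node 1 (.one ⟨6918, 2, 2⟩) (.one ⟨16709, 2, 3⟩)) (.node 1 (.one ⟨5310, 1, 2⟩) (.one ⟨10468, 2, 3⟩)))) (.node 4 (.node 2 (.node 1 (.one ⟨16847, 0, 4⟩) (.one ⟨14235, 1, 2⟩)) (.node 1 (.one ⟨16350, 2, 5⟩) (.one ⟨9020, 2, 5⟩))) (.node 2 (.node 1 (.one ⟨6127, 0, 1⟩) (.one ⟨13162, 0, 4⟩))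 (.node 1 (.one ⟨362, 1, 2⟩) (.one ⟨13594, 2, 4⟩))))) (.node 8 (.node 4 (.node 2 (.node 1 (.one ⟨3975, 1, 0⟩) (.one ⟨12433, 2, 4⟩)) (.node 1 (.one ⟨4480, 2, 4⟩) (.one ⟨3645, 1, 0⟩))) (.node 2 (.node 1 (.one ⟨4001, 2, 4⟩) (.one ⟨13177, 2, 4⟩)) (.node 1 (.one ⟨5256, 2, 6⟩) (.one ⟨4053, 1, 0⟩)))) (.node 4 (.node 2 (.node 1 (.one ⟨2533, 0, 4⟩) (.one ⟨10320, 0, 3⟩)) (.node 1 (.one ⟨6949, 2, 5⟩) (.one ⟨386, 1, 3⟩))) (.node 2 (.node 1 (.one ⟨2921, 2, 5⟩) (.one ⟨13821, 2, 2⟩)) (.node 1 (.one ⟨5565, 2, 4⟩) (.one ⟨11900, 0, 4⟩)))))))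
def par6_9_2 : Arr Par :=
  (.node 32 (.node 16 (.node 8 (.node 4 (.node 2 (.node 1 (.one ⟨1416, 0, 3⟩) (.one ⟨5736, 1, 2⟩)) (.node 1 (.one ⟨1662, 1, 4⟩) (.one ⟨4803, 1, 0⟩))) (.node 2 (.node 1 (.one ⟨13960, 2, 4⟩) (.one ⟨8692, 1, 4⟩)) (.node 1 (.one ⟨14509, 2, 5⟩) (.one ⟨2474, 1, 0⟩)))) (.node 4 (.node 2 (.node 1 (.one ⟨11160, 0, 4⟩) (.one ⟨5843, 1, 4⟩)) (.node 1 (.one ⟨901, 2, 4⟩) (.one ⟨16213, 2, 4⟩))) (.node 2 (.node 1 (.one ⟨10526, 2, 6⟩) (.one ⟨6109, 2, 6⟩)) (.node 1 (.one ⟨16706, 0, 3⟩) (.one ⟨913, 1, 0⟩))))) (.node 8 (.node 4 (.node 2 (.node 1 (.one ⟨878, 1, 0⟩) (.one ⟨9077, 2, 5⟩)) (.node 1 (.one ⟨965, 1, 0⟩) (.one ⟨14717, 1, 2⟩))) (.node 2 (.node 1 (.one ⟨2898, 0, 4⟩) (.one ⟨12887, 0, 4⟩)) (.node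 1 (.one ⟨7484, 2, 1⟩) (.one ⟨10440, 0, 4⟩)))) (.node 4 (.node 2 (.node 1 (.one ⟨3852, 0, 4⟩) (.one ⟨3793, 1, 1⟩)) (.node 1 (.one ⟨4108, 1, 2⟩) (.one ⟨10465, 0, 1⟩))) (.node 2 (.node 1 (.one ⟨15925, 2, 3⟩) (.one ⟨2108, 2, 6⟩)) (.node 1 (.one ⟨11680, 2, 2⟩) (.one ⟨1023, 1, 2⟩)))))) (.node 16 (.node 8 (.node 4 (.node 2 (.node 1 (.one ⟨2053, 1, 2⟩) (.one ⟨15798, 0, 3⟩)) (.node 1 (.one ⟨12676, 0, 3⟩) (.one ⟨3006, 1, 0⟩))) (.node 2 (.node 1 (.one ⟨5437, 1, 2⟩) (.one ⟨17034, 0, 3⟩)) (.node 1 (.one ⟨12063, 0, 3⟩) (.one ⟨6868, 0, 3⟩)))) (.node 4 (.node 2 (.node 1 (.one ⟨2084, 0, 2⟩) (.one ⟨1499, 1, 0⟩)) (.node 1 (.one ⟨2134, 1, 2⟩) (.one ⟨6520, 0, 3⟩))) (.node 2 (.node 1 (.one ⟨4461, 2, 4⟩) (.one ⟨725, 1, 0⟩)) (.node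 1 (.one ⟨5542, 1, 2⟩) (.one ⟨1331, 1, 0⟩))))) (.node 8 (.node 4 (.node 2 (.node 1 (.one ⟨14073, 2, 4⟩) (.one ⟨4876, 2, 3⟩)) (.node 1 (.one ⟨13568, 0, 4⟩) (.one ⟨9791, 2, 6⟩))) (.node 2 (.node 1 (.one ⟨130, 2, 4⟩) (.one ⟨16742, 2, 5⟩)) (.node 1 (.one ⟨8579, 2, 3⟩) (.one ⟨5643, 0, 3⟩)))) (.node 4 (.node 2 (.node 1 (.one ⟨4422, 2, 4⟩) (.one ⟨5641, 0, 4⟩)) (.node 1 (.one ⟨5642, 0, 4⟩) (.one ⟨12417, 2, 6⟩))) (.node 2 (.node 1 (.one ⟨16474, 1, 2⟩) (.one ⟨15283, 2, 4⟩)) (.node 1 (.one ⟨11710, 1, 5⟩) (.one ⟨6438, 0, 4⟩)))))))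
def par6_9_3 : Arr Par :=
  (.node 32 (.node 16 (.node 8 (.node 4 (.node 2 (.node 1 (.one ⟨6433, 0, 4⟩) (.one ⟨6436, 0, 4⟩)) (.node 1 (.one ⟨6431, 0, 4⟩) (.one ⟨7641, 2, 3⟩))) (.node 2 (.node 1 (.one ⟨16739, 2, 4⟩) (.one ⟨409, 0, 3⟩)) (.node 1 (.one ⟨11115, 2, 4⟩) (.one ⟨5331, 2, 4⟩)))) (.node 4 (.node 2 (.node 1 (.one ⟨2217, 1, 0⟩) (.one ⟨13098, 0, 4⟩)) (.node 1 (.one ⟨13102, 0, 4⟩) (.one ⟨7430, 2, 6⟩))) (.node 2 (.node 1 (.one ⟨5035, 1, 2⟩) (.one ⟨5277, 2, 5⟩)) (.node 1 (.one ⟨14668, 1, 5⟩) (.one ⟨17030, 0, 2⟩))))) (.node 8 (.node 4 (.node 2 (.node 1 (.one ⟨2720, 0, 3⟩) (.one ⟨4961, 0, 3⟩)) (.node 1 (.one ⟨13646, 0, 5⟩) (.one ⟨3008, 1, 2⟩))) (.node 2 (.node 1 (.one ⟨576, 2, 1⟩) (.one ⟨3803, 1, 0⟩)) (.node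 1 (.one ⟨5450, 1, 0⟩) (.one ⟨9381, 0, 4⟩)))) (.node 4 (.node 2 (.node 1 (.one ⟨1242, 2, 5⟩) (.one ⟨14657, 2, 5⟩)) (.node 1 (.one ⟨3647, 1, 0⟩) (.one ⟨8332, 0, 3⟩))) (.node 2 (.node 1 (.one ⟨11308, 0, 3⟩) (.one ⟨4035, 1, 0⟩)) (.node 1 (.one ⟨4934, 1, 0⟩) (.one ⟨15148, 2, 6⟩)))))) (.node 16 (.node 8 (.node 4 (.node 2 (.node 1 (.one ⟨15979, 2, 5⟩) (.one ⟨11304, 2, 2⟩)) (.node 1 (.one ⟨5034, 1, 0⟩) (.one ⟨16886, 0, 4⟩))) (.node 2 (.node 1 (.one ⟨13891, 2, 2⟩) (.one ⟨373, 1, 0⟩)) (.node 1 (.one ⟨10552, 2, 4⟩) (.one ⟨12239, 2, 5⟩)))) (.node 4 (.node 2 (.node 1 (.one ⟨7318, 1, 3⟩) (.one ⟨1032, 1, 3⟩)) (.node 1 (.one ⟨15332, 1, 4⟩) (.one ⟨13635, 0, 4⟩))) (.node 2 (.node 1 (.one ⟨13145, 2, 4⟩) (.one ⟨16230, 0, 4⟩))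 (.node 1 (.one ⟨4581, 1, 0⟩) (.one ⟨13532, 2, 3⟩))))) (.node 8 (.node 4 (.node 2 (.node 1 (.one ⟨2669, 2, 2⟩) (.one ⟨16324, 2, 2⟩)) (.node 1 (.one ⟨7476, 2, 4⟩) (.one ⟨2911, 1, 3⟩))) (.node 2 (.node 1 (.one ⟨4671, 1, 0⟩) (.one ⟨14395, 2, 3⟩)) (.node 1 (.one ⟨8909, 2, 4⟩) (.one ⟨6709, 2, 2⟩)))) (.node 4 (.node 2 (.node 1 (.one ⟨15829, 2, 2⟩) (.one ⟨1582, 2, 2⟩)) (.node 1 (.one ⟨12686, 2, 5⟩) (.one ⟨15882, 2, 5⟩))) (.node 2 (.node 1 (.one ⟨6817, 2, 5⟩) (.one ⟨3267, 1, 3⟩)) (.node 1 (.one ⟨424, 2, 4⟩) (.one ⟨7684, 1, 5⟩)))))))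
def par6_9_4 : Arr Par :=
  (.node 32 (.node 16 (.node 8 (.node 4 (.node 2 (.node 1 (.one ⟨1904, 0, 1⟩) (.one ⟨7485, 2, 5⟩)) (.node 1 (.one ⟨13118, 0, 4⟩) (.one ⟨1568, 2, 3⟩))) (.node 2 (.node 1 (.one ⟨15904, 2, 3⟩) (.one ⟨3798, 1, 3⟩)) (.node 1 (.one ⟨2588, 0, 4⟩) (.one ⟨12659, 2, 3⟩)))) (.node 4 (.node 2 (.node 1 (.one ⟨14713, 1, 2⟩) (.one ⟨8935, 2, 5⟩)) (.node 1 (.one ⟨11239, 2, 2⟩) (.one ⟨3059, 1, 1⟩))) (.node 2 (.node 1 (.one ⟨15804, 2, 4⟩) (.one ⟨14413, 2, 6⟩)) (.node 1 (.one ⟨1678, 1, 0⟩) (.one ⟨10527, 2, 4⟩))))) (.node 8 (.node 4 (.node 2 (.node 1 (.one ⟨15925, 0, 3⟩) (.one ⟨3291, 2, 3⟩)) (.node 1 (.one ⟨2375, 1, 0⟩) (.one ⟨17097, 0, 3⟩))) (.node 2 (.node 1 (.one ⟨11721, 0, 3⟩) (.one ⟨5077, 1, 2⟩))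 (.node 1 (.one ⟨2123, 1, 0⟩) (.one ⟨7332, 0, 3⟩)))) (.node 4 (.node 2 (.node 1 (.one ⟨1707, 0, 3⟩) (.one ⟨12309, 1, 2⟩)) (.node 1 (.one ⟨1701, 1, 2⟩) (.one ⟨3151, 0, 2⟩))) (.node 2 (.node 1 (.one ⟨3095, 1, 1⟩) (.one ⟨5134, 1, 2⟩)) (.node 1 (.one ⟨2244, 1, 0⟩) (.one ⟨2862, 0, 4⟩)))))) (.node 16 (.node 8 (.node 4 (.node 2 (.node 1 (.one ⟨2857, 0, 4⟩) (.one ⟨2860, 0, 4⟩)) (.node 1 (.one ⟨1711, 1, 0⟩) (.one ⟨9104, 1, 5⟩))) (.node 2 (.node 1 (.one ⟨15280, 2, 5⟩) (.one ⟨12422, 2, 4⟩)) (.node 1 (.one ⟨13200, 2, 3⟩) (.one ⟨3367, 1, 0⟩)))) (.node 4 (.node 2 (.node 1 (.one ⟨14550, 2, 4⟩) (.one ⟨13112, 2, 4⟩)) (.node 1 (.one ⟨12213, 2, 2⟩) (.one ⟨8685, 1, 2⟩))) (.node 2 (.node 1 (.one ⟨7643, 2, 6⟩) (.one ⟨2873, 2, 4⟩))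 (.node 1 (.one ⟨769, 2, 4⟩) (.one ⟨2672, 2, 4⟩))))) (.node 8 (.node 4 (.node 2 (.node 1 (.one ⟨2861, 1, 0⟩) (.one ⟨16368, 2, 6⟩)) (.node 1 (.one ⟨3364, 0, 3⟩) (.one ⟨5395, 1, 3⟩))) (.node 2 (.node 1 (.one ⟨13613, 2, 4⟩) (.one ⟨4921, 1, 4⟩)) (.node 1 (.one ⟨12882, 1, 2⟩) (.one ⟨12616, 2, 4⟩)))) (.node 4 (.node 2 (.node 1 (.one ⟨3781, 2, 4⟩) (.one ⟨10061, 0, 4⟩)) (.node 1 (.one ⟨10149, 1, 4⟩) (.one ⟨6807, 0, 4⟩))) (.node 2 (.node 1 (.one ⟨1271, 0, 3⟩) (.one ⟨4976, 1, 4⟩)) (.node 1 (.one ⟨12707, 2, 5⟩) (.one ⟨15212, 2, 5⟩)))))))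
def par6_9_5 : Arr Par :=
  (.node 32 (.node 16 (.node 8 (.node 4 (.node 2 (.node 1 (.one ⟨10483, 2, 2⟩) (.one ⟨6820, 2, 2⟩)) (.node 1 (.one ⟨4757, 0, 4⟩) (.one ⟨1184, 0, 4⟩))) (.node 2 (.node 1 (.one ⟨2473, 0, 4⟩) (.one ⟨4343, 1, 0⟩)) (.node 1 (.one ⟨14642, 2, 3⟩) (.one ⟨11232, 2, 5⟩)))) (.node 4 (.node 2 (.node 1 (.one ⟨11407, 1, 3⟩) (.one ⟨9939, 2, 2⟩)) (.node 1 (.one ⟨15053, 2, 5⟩) (.one ⟨1808, 1, 0⟩))) (.node 2 (.node 1 (.one ⟨3278, 2, 5⟩) (.one ⟨6904, 2, 2⟩)) (.node 1 (.one ⟨2024, 2, 3⟩) (.one ⟨14173, 0, 3⟩))))) (.node 8 (.node 4 (.node 2 (.node 1 (.one ⟨4087, 1, 0⟩) (.one ⟨1072, 2, 5⟩)) (.node 1 (.one ⟨1466, 2, 1⟩) (.one ⟨1580, 1, 0⟩))) (.node 2 (.node 1 (.one ⟨578, 1, 0⟩) (.one ⟨11173, 1, 3⟩)) (.node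 1 (.one ⟨586, 2, 3⟩) (.one ⟨11884, 0, 2⟩)))) (.node 4 (.node 2 (.node 1 (.one ⟨1200, 0, 4⟩) (.one ⟨11882, 1, 4⟩)) (.node 1 (.one ⟨935, 1, 4⟩) (.one ⟨1347, 2, 1⟩))) (.node 2 (.node 1 (.one ⟨16410, 0, 3⟩) (.one ⟨4892, 1, 0⟩)) (.node 1 (.one ⟨3480, 1, 0⟩) (.one ⟨2645, 2, 5⟩)))))) (.node 16 (.node 8 (.node 4 (.node 2 (.node 1 (.one ⟨6264, 2, 5⟩) (.one ⟨2205, 2, 6⟩)) (.node 1 (.one ⟨5675, 2, 2⟩) (.one ⟨9931, 2, 5⟩))) (.node 2 (.node 1 (.one ⟨13789, 2, 5⟩) (.one ⟨10559, 2, 6⟩)) (.node 1 (.one ⟨4177, 0, 3⟩) (.one ⟨14826, 0, 4⟩)))) (.node 4 (.node 2 (.node 1 (.one ⟨6535, 2, 5⟩) (.one ⟨4205, 2, 4⟩)) (.node 1 (.one ⟨4139, 1, 3⟩) (.one ⟨16574, 2, 4⟩))) (.node 2 (.node 1 (.one ⟨5133, 2, 2⟩) (.one ⟨7145, 2, 3⟩)) (.node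 1 (.one ⟨10991, 2, 5⟩) (.one ⟨7413, 2, 6⟩))))) (.node 8 (.node 4 (.node 2 (.node 1 (.one ⟨8451, 0, 4⟩) (.one ⟨14576, 2, 4⟩)) (.node 1 (.one ⟨5213, 2, 4⟩) (.one ⟨11084, 2, 6⟩))) (.node 2 (.node 1 (.one ⟨7617, 2, 2⟩) (.one ⟨458, 2, 5⟩)) (.node 1 (.one ⟨16715, 2, 5⟩) (.one ⟨6779, 0, 3⟩)))) (.node 4 (.node 2 (.node 1 (.one ⟨12888, 1, 4⟩) (.one ⟨16515, 1, 4⟩)) (.node 1 (.one ⟨4914, 1, 4⟩) (.one ⟨4951, 2, 4⟩))) (.node 2 (.node 1 (.one ⟨5330, 1, 0⟩) (.one ⟨11606, 2, 4⟩)) (.node 1 (.one ⟨6935, 2, 4⟩) (.one ⟨8965, 2, 4⟩)))))))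
def par6_9_6 : Arr Par :=
  (.node 32 (.node 16 (.node 8 (.node 4 (.node 2 (.node 1 (.one ⟨14475, 2, 2⟩) (.one ⟨1401, 1, 0⟩)) (.node 1 (.one ⟨9839, 1, 4⟩) (.one ⟨8908, 0, 4⟩))) (.node 2 (.node 1 (.one ⟨16382, 2, 5⟩) (.one ⟨608, 1, 0⟩)) (.node 1 (.one ⟨3801, 2, 4⟩) (.one ⟨1504, 2, 5⟩)))) (.node 4 (.node 2 (.node 1 (.one ⟨12712, 2, 4⟩) (.one ⟨13593, 2, 5⟩)) (.node 1 (.one ⟨75, 1, 3⟩) (.one ⟨3824, 2, 4⟩))) (.node 2 (.node 1 (.one ⟨11129, 2, 6⟩) (.one ⟨358, 1, 0⟩)) (.node 1 (.one ⟨3999, 2, 4⟩) (.one ⟨5607, 2, 2⟩))))) (.node 8 (.node 4 (.node 2 (.node 1 (.one ⟨16133, 0, 4⟩) (.one ⟨16128, 0, 4⟩)) (.node 1 (.one ⟨16127, 0, 4⟩) (.one ⟨4523, 2, 6⟩))) (.node 2 (.node 1 (.one ⟨12419, 2, 3⟩) (.one ⟨13201, 2, 6⟩)) (.node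 1 (.one ⟨2345, 1, 5⟩) (.one ⟨5337, 2, 4⟩)))) (.node 4 (.node 2 (.node 1 (.one ⟨3209, 0, 4⟩) (.one ⟨12102, 2, 4⟩)) (.node 1 (.one ⟨3982, 2, 5⟩) (.one ⟨12953, 1, 2⟩))) (.node 2 (.node 1 (.one ⟨2872, 2, 5⟩) (.one ⟨914, 2, 4⟩)) (.node 1 (.one ⟨357, 0, 4⟩) (.one ⟨6855, 2, 1⟩)))))) (.node 16 (.node 8 (.node 4 (.node 2 (.node 1 (.one ⟨2739, 2, 4⟩) (.one ⟨13511, 2, 1⟩)) (.node 1 (.one ⟨16875, 2, 3⟩) (.one ⟨2039, 0, 4⟩))) (.node 2 (.node 1 (.one ⟨12894, 0, 4⟩) (.one ⟨11282, 0, 4⟩)) (.node 1 (.one ⟨1139, 2, 3⟩) (.one ⟨1855, 2, 5⟩)))) (.node 4 (.node 2 (.node 1 (.one ⟨13103, 0, 3⟩) (.one ⟨7007, 2, 3⟩)) (.node 1 (.one ⟨6455, 2, 4⟩) (.one ⟨14531, 1, 3⟩))) (.node 2 (.node 1 (.one ⟨13631, 0, 4⟩) (.one ⟨11330, 2, 3⟩)) (.node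 1 (.one ⟨9497, 2, 3⟩) (.one ⟨148, 0, 4⟩))))) (.node 8 (.node 4 (.node 2 (.node 1 (.one ⟨16141, 0, 2⟩) (.one ⟨16136, 0, 4⟩)) (.node 1 (.one ⟨1018, 0, 4⟩) (.one ⟨7900, 2, 5⟩))) (.node 2 (.node 1 (.one ⟨502, 2, 6⟩) (.one ⟨16135, 0, 4⟩)) (.node 1 (.one ⟨1046, 0, 4⟩) (.one ⟨13113, 1, 3⟩)))) (.node 4 (.node 2 (.node 1 (.one ⟨16327, 0, 4⟩) (.one ⟨2922, 0, 4⟩)) (.node 1 (.one ⟨5605, 0, 4⟩) (.one ⟨4181, 0, 4⟩))) (.node 2 (.node 1 (.one ⟨12909, 1, 2⟩) (.one ⟨9591, 0, 4⟩)) (.node 1 (.one ⟨693, 2, 5⟩) (.one ⟨6573, 1, 2⟩)))))))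
def par6_9_7 : Arr Par :=
  (.node 32 (.node 16 (.node 8 (.node 4 (.node 2 (.node 1 (.one ⟨739, 0, 3⟩) (.one ⟨12688, 2, 5⟩)) (.node 1 (.one ⟨11182, 1, 4⟩) (.one ⟨6485, 2, 3⟩))) (.node 2 (.node 1 (.one ⟨11140, 2, 4⟩) (.one ⟨8626, 1, 4⟩)) (.node 1 (.one ⟨14695, 2, 5⟩) (.one ⟨7109, 2, 5⟩)))) (.node 4 (.node 2 (.node 1 (.one ⟨11559, 2, 3⟩) (.one ⟨6715, 2, 3⟩)) (.node 1 (.one ⟨6858, 0, 4⟩) (.one ⟨8799, 0, 3⟩))) (.node 2 (.node 1 (.one ⟨2422, 2, 4⟩) (.one ⟨14215, 2, 4⟩)) (.node 1 (.one ⟨1365, 2, 1⟩) (.one ⟨4484, 2, 4⟩))))) (.node 8 (.node 4 (.node 2 (.node 1 (.one ⟨955, 0, 2⟩) (.one ⟨4212, 2, 5⟩)) (.node 1 (.one ⟨10182, 2, 2⟩) (.one ⟨6444, 0, 4⟩))) (.node 2 (.node 1 (.one ⟨12172, 2, 2⟩) (.one ⟨1833, 2, 6⟩)) (.node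 1 (.one ⟨11976, 2, 3⟩) (.one ⟨6077, 0, 2⟩)))) (.node 4 (.node 2 (.node 1 (.one ⟨2007, 2, 4⟩) (.one ⟨11258, 2, 2⟩)) (.node 1 (.one ⟨3390, 2, 5⟩) (.one ⟨1317, 2, 4⟩))) (.node 2 (.node 1 (.one ⟨5443, 0, 3⟩) (.one ⟨3177, 2, 4⟩)) (.node 1 (.one ⟨11564, 2, 3⟩) (.one ⟨6859, 2, 5⟩)))))) (.node 16 (.node 8 (.node 4 (.node 2 (.node 1 (.one ⟨12659, 1, 3⟩) (.one ⟨16831, 1, 3⟩)) (.node 1 (.one ⟨10779, 1, 3⟩) (.one ⟨8721, 1, 3⟩))) (.node 2 (.node 1 (.one ⟨29, 1, 3⟩) (.one ⟨6273, 1, 3⟩)) (.node 1 (.one ⟨5498, 1, 3⟩) (.one ⟨7128, 2, 4⟩)))) (.node 4 (.node 2 (.node 1 (.one ⟨1676, 2, 2⟩) (.one ⟨7365, 2, 3⟩)) (.node 1 (.one ⟨16889, 0, 4⟩) (.one ⟨1713, 2, 3⟩))) (.node 2 (.node 1 (.one ⟨7467, 2, 3⟩) (.one ⟨255, 2, 4⟩)) (.node 1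 (.one ⟨7334, 2, 4⟩) (.one ⟨9706, 2, 5⟩))))) (.node 8 (.node 4 (.node 2 (.node 1 (.one ⟨12615, 2, 4⟩) (.one ⟨4938, 2, 4⟩)) (.node 1 (.one ⟨1905, 2, 1⟩) (.one ⟨9523, 2, 4⟩))) (.node 2 (.node 1 (.one ⟨16158, 0, 3⟩) (.one ⟨5031, 2, 4⟩)) (.node 1 (.one ⟨1885, 2, 5⟩) (.one ⟨10955, 2, 5⟩)))) (.node 4 (.node 2 (.node 1 (.one ⟨13625, 2, 4⟩) (.one ⟨11563, 2, 3⟩)) (.node 1 (.one ⟨14491, 2, 3⟩) (.one ⟨6347, 1, 3⟩))) (.node 2 (.node 1 (.one ⟨16978, 2, 4⟩) (.one ⟨11777, 2, 4⟩)) (.node 1 (.one ⟨16495, 2, 3⟩) (.one ⟨8145, 2, 5⟩)))))))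
def par6_9_8 : Arr Par :=
  (.node 32 (.node 16 (.node 8 (.node 4 (.node 2 (.node 1 (.one ⟨15365, 2, 4⟩) (.one ⟨15949, 2, 6⟩)) (.node 1 (.one ⟨6969, 2, 3⟩) (.one ⟨1615, 2, 4⟩))) (.node 2 (.node 1 (.one ⟨12868, 2, 5⟩) (.one ⟨305, 1, 4⟩)) (.node 1 (.one ⟨5415, 2, 5⟩) (.one ⟨2890, 0, 4⟩)))) (.node 4 (.node 2 (.node 1 (.one ⟨4340, 2, 2⟩) (.one ⟨16713, 1, 4⟩)) (.node 1 (.one ⟨5524, 2, 6⟩) (.one ⟨12336, 2, 4⟩))) (.node 2 (.node 1 (.one ⟨9398, 2, 4⟩) (.one ⟨13552, 2, 4⟩)) (.node 1 (.one ⟨10835, 2, 5⟩) (.one ⟨14768, 2, 4⟩))))) (.node 8 (.node 4 (.node 2 (.node 1 (.one ⟨2327, 2, 6⟩) (.one ⟨10221, 0, 5⟩)) (.node 1 (.one ⟨15723, 0, 3⟩) (.one ⟨8151, 2, 3⟩))) (.node 2 (.node 1 (.one ⟨12719, 2, 5⟩) (.one ⟨2807, 2, 6⟩)) (.node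 1 (.one ⟨14343, 2, 4⟩) (.one ⟨1335, 1, 1⟩)))) (.node 4 (.node 2 (.node 1 (.one ⟨9328, 1, 1⟩) (.one ⟨13016, 0, 2⟩)) (.node 1 (.one ⟨11377, 0, 3⟩) (.one ⟨15042, 0, 2⟩))) (.node 2 (.node 1 (.one ⟨10857, 2, 4⟩) (.one ⟨5041, 0, 4⟩)) (.node 1 (.one ⟨3614, 2, 4⟩) (.one ⟨13591, 0, 4⟩)))))) (.node 16 (.node 8 (.node 4 (.node 2 (.node 1 (.one ⟨11179, 1, 4⟩) (.one ⟨6359, 0, 4⟩)) (.node 1 (.one ⟨14391, 0, 3⟩) (.one ⟨7161, 1, 1⟩))) (.node 2 (.node 1 (.one ⟨3284, 1, 3⟩) (.one ⟨11936, 2, 6⟩)) (.node 1 (.one ⟨9929, 2, 2⟩) (.one ⟨14809, 2, 4⟩)))) (.node 4 (.node 2 (.node 1 (.one ⟨14978, 2, 5⟩) (.one ⟨5332, 1, 5⟩)) (.node 1 (.one ⟨10911, 1, 3⟩) (.one ⟨1762, 0, 3⟩))) (.node 2 (.node 1 (.one ⟨13422, 2, 5⟩) (.one ⟨8818, 1, 4⟩))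 (.node 1 (.one ⟨6262, 0, 4⟩) (.one ⟨13161, 0, 1⟩))))) (.node 8 (.node 4 (.node 2 (.node 1 (.one ⟨8378, 2, 3⟩) (.one ⟨1302, 2, 3⟩)) (.node 1 (.one ⟨12609, 0, 4⟩) (.one ⟨9265, 2, 4⟩))) (.node 2 (.node 1 (.one ⟨16465, 2, 3⟩) (.one ⟨9203, 2, 3⟩)) (.node 1 (.one ⟨15880, 0, 4⟩) (.one ⟨1090, 2, 5⟩)))) (.node 4 (.node 2 (.node 1 (.one ⟨9245, 2, 5⟩) (.one ⟨5359, 2, 5⟩)) (.node 1 (.one ⟨4118, 0, 2⟩) (.one ⟨9254, 0, 3⟩))) (.node 2 (.node 1 (.one ⟨16896, 2, 3⟩) (.one ⟨5990, 2, 5⟩)) (.node 1 (.one ⟨14026, 2, 3⟩) (.one ⟨4895, 2, 5⟩)))))))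
def par6_9_9 : Arr Par :=
  (.node 32 (.node 16 (.node 8 (.node 4 (.node 2 (.node 1 (.one ⟨15846, 2, 3⟩) (.one ⟨16903, 2, 5⟩)) (.node 1 (.one ⟨3953, 2, 5⟩) (.one ⟨14312, 2, 5⟩))) (.node 2 (.node 1 (.one ⟨3379, 1, 3⟩) (.one ⟨1783, 2, 5⟩)) (.node 1 (.one ⟨14852, 2, 3⟩) (.one ⟨13168, 2, 3⟩)))) (.node 4 (.node 2 (.node 1 (.one ⟨14907, 2, 5⟩) (.one ⟨5007, 2, 4⟩)) (.node 1 (.one ⟨7164, 2, 4⟩) (.one ⟨11264, 0, 4⟩))) (.node 2 (.node 1 (.one ⟨15292, 1, 5⟩) (.one ⟨17056, 2, 5⟩)) (.node 1 (.one ⟨11178, 2, 5⟩) (.one ⟨406, 2, 3⟩))))) (.node 8 (.node 4 (.node 2 (.node 1 (.one ⟨3925, 0, 4⟩) (.one ⟨419, 2, 3⟩)) (.node 1 (.one ⟨133, 2, 3⟩) (.one ⟨10786, 2, 4⟩))) (.node 2 (.node 1 (.one ⟨10783, 2, 4⟩) (.one ⟨10785, 2, 4⟩)) (.node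 1 (.one ⟨10784, 2, 4⟩) (.one ⟨5085, 1, 3⟩)))) (.node 4 (.node 2 (.node 1 (.one ⟨10168, 2, 5⟩) (.one ⟨5699, 2, 1⟩)) (.node 1 (.one ⟨3429, 1, 5⟩) (.one ⟨7014, 2, 5⟩))) (.node 2 (.node 1 (.one ⟨5313, 2, 6⟩) (.one ⟨16832, 2, 6⟩)) (.node 1 (.one ⟨10922, 2, 6⟩) (.one ⟨6128, 2, 3⟩)))))) (.node 16 (.node 8 (.node 4 (.node 2 (.node 1 (.one ⟨9080, 0, 4⟩) (.one ⟨16437, 0, 4⟩)) (.node 1 (.one ⟨5932, 2, 3⟩) (.one ⟨8851, 2, 5⟩))) (.node 2 (.node 1 (.one ⟨15387, 2, 5⟩) (.one ⟨15613, 2, 3⟩)) (.node 1 (.one ⟨9019, 2, 3⟩) (.one ⟨12205, 2, 5⟩)))) (.node 4 (.node 2 (.node 1 (.one ⟨3357, 2, 5⟩) (.one ⟨11431, 2, 3⟩)) (.node 1 (.one ⟨11544, 1, 4⟩) (.one ⟨4117, 2, 5⟩))) (.node 2 (.node 1 (.one ⟨11429, 2, 5⟩) (.one ⟨3343, 2, 3⟩)) (.node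 1 (.one ⟨12196, 2, 4⟩) (.one ⟨8111, 0, 3⟩))))) (.node 8 (.node 4 (.node 2 (.node 1 (.one ⟨14798, 0, 2⟩) (.one ⟨12308, 2, 2⟩)) (.node 1 (.one ⟨156, 2, 5⟩) (.one ⟨3184, 2, 5⟩))) (.node 2 (.node 1 (.one ⟨13091, 2, 5⟩) (.one ⟨11198, 2, 6⟩)) (.node 1 (.one ⟨779, 0, 4⟩) (.one ⟨1253, 2, 4⟩)))) (.node 4 (.node 2 (.node 1 (.one ⟨336, 0, 4⟩) (.one ⟨1903, 0, 1⟩)) (.node 1 (.one ⟨9829, 0, 4⟩) (.one ⟨7988, 2, 6⟩))) (.node 2 (.node 1 (.one ⟨7337, 2, 5⟩) (.one ⟨7287, 2, 5⟩)) (.node 1 (.one ⟨8006, 2, 5⟩) (.one ⟨4803, 2, 4⟩)))))))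
def par6_9_10 : Arr Par :=
  (.node 32 (.node 16 (.node 8 (.node 4 (.node 2 (.node 1 (.one ⟨9496, 0, 4⟩) (.one ⟨15542, 0, 4⟩)) (.node 1 (.one ⟨13758, 0, 1⟩) (.one ⟨1784, 2, 3⟩))) (.node 2 (.node 1 (.one ⟨7034, 2, 5⟩) (.one ⟨7994, 2, 4⟩)) (.node 1 (.one ⟨4792, 2, 3⟩) (.one ⟨3615, 0, 2⟩)))) (.node 4 (.node 2 (.node 1 (.one ⟨2278, 0, 3⟩) (.one ⟨2535, 1, 3⟩)) (.node 1 (.one ⟨13470, 2, 6⟩) (.one ⟨14429, 2, 4⟩))) (.node 2 (.node 1 (.one ⟨4963, 2, 5⟩) (.one ⟨8220, 1, 5⟩)) (.node 1 (.one ⟨2749, 0, 5⟩) (.one ⟨8468, 0, 4⟩))))) (.node 8 (.node 4 (.node 2 (.node 1 (.one ⟨9194, 0, 4⟩) (.one ⟨3294, 0, 4⟩)) (.node 1 (.one ⟨16273, 1, 4⟩) (.one ⟨714, 2, 4⟩))) (.node 2 (.node 1 (.one ⟨713, 1, 0⟩) (.one ⟨8833, 0, 4⟩)) (.node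 1 (.one ⟨8009, 2, 4⟩) (.one ⟨5824, 2, 4⟩)))) (.node 4 (.node 2 (.node 1 (.one ⟨5712, 0, 2⟩) (.one ⟨10737, 2, 4⟩)) (.node 1 (.one ⟨9018, 1, 5⟩) (.one ⟨2082, 2, 2⟩))) (.node 2 (.node 1 (.one ⟨15130, 0, 2⟩) (.one ⟨14434, 2, 4⟩)) (.node 1 (.one ⟨9149, 0, 1⟩) (.one ⟨3795, 0, 2⟩)))))) (.node 16 (.node 8 (.node 4 (.node 2 (.node 1 (.one ⟨12287, 2, 4⟩) (.one ⟨4114, 2, 5⟩)) (.node 1 (.one ⟨2080, 2, 5⟩) (.one ⟨13062, 0, 4⟩))) (.node 2 (.node 1 (.one ⟨1904, 1, 1⟩) (.one ⟨10497, 0, 2⟩)) (.node 1 (.one ⟨8873, 0, 5⟩) (.one ⟨16900, 2, 3⟩)))) (.node 4 (.node 2 (.node 1 (.one ⟨768, 2, 4⟩) (.one ⟨6840, 2, 3⟩)) (.node 1 (.one ⟨12288, 2, 4⟩) (.one ⟨11481, 2, 3⟩))) (.node 2 (.node 1 (.one ⟨10795, 0, 4⟩) (.one ⟨4798, 2, 3⟩)) (.node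 1 (.one ⟨14430, 2, 1⟩) (.one ⟨11023, 0, 1⟩))))) (.node 8 (.node 4 (.node 2 (.node 1 (.one ⟨8624, 2, 4⟩) (.one ⟨6207, 0, 1⟩)) (.node 1 (.one ⟨5427, 2, 4⟩) (.one ⟨8995, 2, 3⟩))) (.node 2 (.node 1 (.one ⟨388, 2, 2⟩) (.one ⟨4903, 2, 4⟩)) (.node 1 (.one ⟨1281, 0, 1⟩) (.one ⟨1226, 0, 1⟩)))) (.node 4 (.node 2 (.node 1 (.one ⟨5442, 0, 3⟩) (.one ⟨1424, 2, 5⟩)) (.node 1 (.one ⟨4045, 1, 3⟩) (.one ⟨10750, 0, 4⟩))) (.node 2 (.node 1 (.one ⟨8277, 2, 4⟩) (.one ⟨10264, 2, 5⟩)) (.node 1 (.one ⟨3678, 0, 5⟩) (.one ⟨15874, 2, 4⟩)))))))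
def par6_9_11 : Arr Par :=
  (.node 32 (.node 16 (.node 8 (.node 4 (.node 2 (.node 1 (.one ⟨10406, 2, 3⟩) (.one ⟨14811, 2, 4⟩)) (.node 1 (.one ⟨3382, 0, 5⟩) (.one ⟨6841, 0, 5⟩))) (.node 2 (.node 1 (.one ⟨16271, 2, 3⟩) (.one ⟨12726, 0, 2⟩)) (.node 1 (.one ⟨15501, 2, 3⟩) (.one ⟨9510, 2, 4⟩)))) (.node 4 (.node 2 (.node 1 (.one ⟨12060, 0, 4⟩) (.one ⟨9460, 0, 1⟩)) (.node 1 (.one ⟨2584, 0, 4⟩) (.one ⟨16098, 2, 4⟩))) (.node 2 (.node 1 (.one ⟨7986, 2, 6⟩) (.one ⟨14306, 1, 1⟩)) (.node 1 (.one ⟨6421, 2, 4⟩) (.one ⟨4844, 0, 4⟩))))) (.node 8 (.node 4 (.node 2 (.node 1 (.one ⟨16272, 2, 4⟩) (.one ⟨13174, 2, 3⟩)) (.node 1 (.one ⟨15787, 2, 2⟩) (.one ⟨5681, 1, 1⟩))) (.node 2 (.node 1 (.one ⟨2415, 2, 4⟩) (.one ⟨2372, 0, 2⟩))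 (.node 1 (.one ⟨1540, 2, 1⟩) (.one ⟨8231, 1, 3⟩)))) (.node 4 (.node 2 (.node 1 (.one ⟨12980, 2, 4⟩) (.one ⟨4413, 2, 4⟩)) (.node 1 (.one ⟨8633, 2, 3⟩) (.one ⟨7098, 2, 4⟩))) (.node 2 (.node 1 (.one ⟨705, 2, 5⟩) (.one ⟨11318, 2, 4⟩)) (.node 1 (.one ⟨1980, 1, 3⟩) (.one ⟨4707, 0, 4⟩)))))) (.node 16 (.node 8 (.node 4 (.node 2 (.node 1 (.one ⟨16109, 1, 5⟩) (.one ⟨3999, 0, 4⟩)) (.node 1 (.one ⟨13962, 1, 5⟩) (.one ⟨7233, 0, 2⟩))) (.node 2 (.node 1 (.one ⟨4315, 0, 4⟩) (.one ⟨5677, 0, 3⟩)) (.node 1 (.one ⟨5016, 0, 4⟩) (.one ⟨15450, 2, 3⟩)))) (.node 4 (.node 2 (.node 1 (.one ⟨9998, 2, 4⟩) (.one ⟨15677, 2, 5⟩)) (.node 1 (.one ⟨13610, 2, 5⟩) (.one ⟨16278, 2, 3⟩))) (.node 2 (.node 1 (.one ⟨12993, 2, 4⟩) (.one ⟨14703, 2, 4⟩))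 (.node 1 (.one ⟨8914, 0, 4⟩) (.one ⟨5554, 2, 6⟩))))) (.node 8 (.node 4 (.node 2 (.node 1 (.one ⟨16063, 2, 2⟩) (.one ⟨8206, 0, 2⟩)) (.node 1 (.one ⟨9191, 0, 4⟩) (.one ⟨11179, 2, 4⟩))) (.node 2 (.node 1 (.one ⟨4620, 2, 4⟩) (.one ⟨1849, 2, 2⟩)) (.node 1 (.one ⟨11588, 2, 2⟩) (.one ⟨13905, 0, 3⟩)))) (.node 4 (.node 2 (.node 1 (.one ⟨15149, 0, 2⟩) (.one ⟨8692, 2, 4⟩)) (.node 1 (.one ⟨14719, 0, 2⟩) (.one ⟨10113, 0, 2⟩))) (.node 2 (.node 1 (.one ⟨16082, 1, 4⟩) (.one ⟨9150, 0, 1⟩)) (.node 1 (.one ⟨10961, 0, 2⟩) (.one ⟨11693, 2, 5⟩)))))))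
def par6_9_12 : Arr Par :=
  (.node 32 (.node 16 (.node 8 (.node 4 (.node 2 (.node 1 (.one ⟨6538, 2, 2⟩) (.one ⟨13285, 0, 4⟩)) (.node 1 (.one ⟨3901, 2, 2⟩) (.one ⟨1498, 0, 2⟩))) (.node 2 (.node 1 (.one ⟨17098, 2, 2⟩) (.one ⟨8733, 2, 2⟩)) (.node 1 (.one ⟨11261, 2, 2⟩) (.one ⟨1561, 0, 4⟩)))) (.node 4 (.node 2 (.node 1 (.one ⟨9544, 2, 4⟩) (.one ⟨3061, 2, 2⟩)) (.node 1 (.one ⟨10911, 0, 3⟩) (.one ⟨1916, 2, 4⟩))) (.node 2 (.node 1 (.one ⟨11481, 1, 3⟩) (.one ⟨2538, 0, 3⟩)) (.node 1 (.one ⟨10880, 2, 3⟩) (.one ⟨16360, 2, 3⟩))))) (.node 8 (.node 4 (.node 2 (.node 1 (.one ⟨16979, 2, 4⟩) (.one ⟨3152, 2, 2⟩)) (.node 1 (.one ⟨2668, 2, 4⟩) (.one ⟨8605, 2, 5⟩))) (.node 2 (.node 1 (.one ⟨7818, 2, 2⟩) (.one ⟨9438, 2, 1⟩)) (.node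 1 (.one ⟨11161, 2, 4⟩) (.one ⟨9552, 1, 1⟩)))) (.node 4 (.node 2 (.node 1 (.one ⟨17008, 0, 3⟩) (.one ⟨8136, 2, 5⟩)) (.node 1 (.one ⟨14962, 2, 5⟩) (.one ⟨9149, 1, 1⟩))) (.node 2 (.node 1 (.one ⟨9294, 1, 1⟩) (.one ⟨2543, 2, 5⟩)) (.node 1 (.one ⟨12942, 2, 5⟩) (.one ⟨9076, 0, 3⟩)))))) (.node 16 (.node 8 (.node 4 (.node 2 (.node 1 (.one ⟨8674, 2, 5⟩) (.one ⟨12961, 2, 6⟩)) (.node 1 (.one ⟨9941, 2, 3⟩) (.one ⟨2071, 0, 5⟩))) (.node 2 (.node 1 (.one ⟨11055, 1, 3⟩) (.one ⟨13493, 2, 5⟩)) (.node 1 (.one ⟨376, 1, 0⟩) (.one ⟨11918, 2, 5⟩)))) (.node 4 (.node 2 (.node 1 (.one ⟨17070, 2, 4⟩) (.one ⟨15855, 2, 3⟩)) (.node 1 (.one ⟨13599, 2, 3⟩) (.one ⟨4014, 2, 5⟩))) (.node 2 (.node 1 (.one ⟨8589, 2, 4⟩) (.one ⟨8354, 2, 4⟩)) (.node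 1 (.one ⟨4026, 0, 3⟩) (.one ⟨6078, 2, 5⟩))))) (.node 8 (.node 4 (.node 2 (.node 1 (.one ⟨2763, 2, 4⟩) (.one ⟨9382, 0, 4⟩)) (.node 1 (.one ⟨6089, 2, 3⟩) (.one ⟨15577, 1, 3⟩))) (.node 2 (.node 1 (.one ⟨3922, 0, 4⟩) (.one ⟨8699, 2, 3⟩)) (.node 1 (.one ⟨3596, 2, 4⟩) (.one ⟨5591, 2, 4⟩)))) (.node 4 (.node 2 (.node 1 (.one ⟨2929, 0, 1⟩) (.one ⟨8635, 1, 4⟩)) (.node 1 (.one ⟨17162, 2, 2⟩) (.one ⟨13108, 2, 3⟩))) (.node 2 (.node 1 (.one ⟨8328, 0, 5⟩) (.one ⟨13536, 2, 4⟩)) (.node 1 (.one ⟨1962, 2, 5⟩) (.one ⟨581, 2, 3⟩)))))))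
def par6_9_13 : Arr Par :=
  (.node 32 (.node 16 (.node 8 (.node 4 (.node 2 (.node 1 (.one ⟨13622, 2, 5⟩) (.one ⟨15283, 0, 4⟩)) (.node 1 (.one ⟨9255, 2, 3⟩) (.one ⟨1529, 2, 2⟩))) (.node 2 (.node 1 (.one ⟨15313, 0, 4⟩) (.one ⟨5595, 2, 5⟩)) (.node 1 (.one ⟨7316, 0, 4⟩) (.one ⟨16782, 0, 3⟩)))) (.node 4 (.node 2 (.node 1 (.one ⟨14620, 2, 5⟩) (.one ⟨4962, 0, 4⟩)) (.node 1 (.one ⟨12514, 0, 4⟩) (.one ⟨4420, 2, 3⟩))) (.node 2 (.node 1 (.one ⟨16733, 0, 4⟩) (.one ⟨12540, 0, 3⟩)) (.node 1 (.one ⟨8499, 1, 1⟩) (.one ⟨6743, 2, 3⟩))))) (.node 8 (.node 4 (.node 2 (.node 1 (.one ⟨6895, 2, 5⟩) (.one ⟨1711, 2, 3⟩)) (.node 1 (.one ⟨2906, 0, 2⟩) (.one ⟨8518, 1, 1⟩))) (.node 2 (.node 1 (.one ⟨1268, 2, 2⟩) (.one ⟨16321, 0, 1⟩)) (.node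 1 (.one ⟨6583, 2, 3⟩) (.one ⟨9763, 2, 2⟩)))) (.node 4 (.node 2 (.node 1 (.one ⟨3405, 2, 5⟩) (.one ⟨13351, 0, 4⟩)) (.node 1 (.one ⟨15312, 0, 2⟩) (.one ⟨5612, 1, 4⟩))) (.node 2 (.node 1 (.one ⟨3688, 2, 4⟩) (.one ⟨13413, 2, 1⟩)) (.node 1 (.one ⟨7822, 0, 3⟩) (.one ⟨12293, 2, 4⟩)))))) (.node 16 (.node 8 (.node 4 (.node 2 (.node 1 (.one ⟨2760, 2, 4⟩) (.one ⟨13539, 2, 4⟩)) (.node 1 (.one ⟨468, 2, 4⟩) (.one ⟨6094, 2, 3⟩))) (.node 2 (.node 1 (.one ⟨16904, 2, 3⟩) (.one ⟨6860, 2, 3⟩)) (.node 1 (.one ⟨16225, 2, 6⟩) (.one ⟨12414, 1, 4⟩)))) (.node 4 (.node 2 (.node 1 (.one ⟨14229, 2, 5⟩) (.one ⟨12294, 2, 4⟩)) (.node 1 (.one ⟨2059, 2, 5⟩) (.one ⟨16331, 2, 6⟩))) (.node 2 (.node 1 (.one ⟨6091, 2, 3⟩) (.one ⟨4200, 0, 2⟩)) (.node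 1 (.one ⟨10219, 2, 4⟩) (.one ⟨1763, 0, 3⟩))))) (.node 8 (.node 4 (.node 2 (.node 1 (.one ⟨8191, 2, 3⟩) (.one ⟨4492, 0, 3⟩)) (.node 1 (.one ⟨6459, 0, 3⟩) (.one ⟨14256, 0, 3⟩))) (.node 2 (.node 1 (.one ⟨12120, 0, 4⟩) (.one ⟨16008, 0, 3⟩)) (.node 1 (.one ⟨10145, 0, 3⟩) (.one ⟨10087, 2, 5⟩)))) (.node 4 (.node 2 (.node 1 (.one ⟨83, 1, 1⟩) (.one ⟨9308, 2, 2⟩)) (.node 1 (.one ⟨9488, 2, 4⟩) (.one ⟨1368, 2, 3⟩))) (.node 2 (.node 1 (.one ⟨577, 2, 1⟩) (.one ⟨9532, 1, 4⟩)) (.node 1 (.one ⟨1975, 2, 3⟩) (.one ⟨6414, 0, 5⟩)))))))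
def par6_9_14 : Arr Par :=
  (.node 32 (.node 16 (.node 8 (.node 4 (.node 2 (.node 1 (.one ⟨14486, 0, 3⟩) (.one ⟨13517, 0, 1⟩)) (.node 1 (.one ⟨2056, 2, 2⟩) (.one ⟨13545, 2, 4⟩))) (.node 2 (.node 1 (.one ⟨1903, 2, 1⟩) (.one ⟨128, 2, 4⟩)) (.node 1 (.one ⟨13348, 2, 3⟩) (.one ⟨6263, 0, 5⟩)))) (.node 4 (.node 2 (.node 1 (.one ⟨157, 1, 0⟩) (.one ⟨6752, 0, 3⟩)) (.node 1 (.one ⟨439, 2, 6⟩) (.one ⟨2818, 0, 4⟩))) (.node 2 (.node 1 (.one ⟨2758, 2, 4⟩) (.one ⟨2755, 2, 4⟩)) (.node 1 (.one ⟨29, 2, 3⟩) (.one ⟨801, 2, 5⟩))))) (.node 8 (.node 4 (.node 2 (.node 1 (.one ⟨12118, 1, 4⟩) (.one ⟨5592, 2, 5⟩)) (.node 1 (.one ⟨10252, 2, 4⟩) (.one ⟨16311, 2, 4⟩))) (.node 2 (.node 1 (.one ⟨4043, 2, 3⟩) (.one ⟨12274, 2, 4⟩)) (.node 1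 (.one ⟨11042, 1, 3⟩) (.one ⟨9267, 0, 1⟩)))) (.node 4 (.node 2 (.node 1 (.one ⟨2742, 2, 6⟩) (.one ⟨6425, 2, 4⟩)) (.node 1 (.one ⟨5488, 0, 2⟩) (.one ⟨6419, 2, 2⟩))) (.node 2 (.node 1 (.one ⟨1142, 2, 4⟩) (.one ⟨12593, 0, 4⟩)) (.node 1 (.one ⟨2745, 2, 5⟩) (.one ⟨12824, 0, 5⟩)))))) (.node 16 (.node 8 (.node 4 (.node 2 (.node 1 (.one ⟨4743, 0, 4⟩) (.one ⟨10666, 2, 2⟩)) (.node 1 (.one ⟨17156, 2, 5⟩) (.one ⟨7697, 1, 1⟩))) (.node 2 (.node 1 (.one ⟨7204, 2, 6⟩) (.one ⟨7735, 0, 3⟩)) (.node 1 (.one ⟨16499, 2, 5⟩) (.one ⟨1267, 2, 5⟩)))) (.node 4 (.node 2 (.node 1 (.one ⟨6946, 2, 5⟩) (.one ⟨3109, 2, 5⟩)) (.node 1 (.one ⟨16918, 1, 4⟩) (.one ⟨5596, 2, 5⟩))) (.node 2 (.node 1 (.one ⟨10982, 0, 4⟩) (.one ⟨9911, 1, 2⟩)) (.node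 1 (.one ⟨1754, 2, 5⟩) (.one ⟨13689, 0, 3⟩))))) (.node 8 (.node 4 (.node 2 (.node 1 (.one ⟨3030, 0, 3⟩) (.one ⟨13967, 2, 5⟩)) (.node 1 (.one ⟨7024, 0, 3⟩) (.one ⟨3823, 2, 5⟩))) (.node 2 (.node 1 (.one ⟨12651, 0, 3⟩) (.one ⟨3821, 0, 3⟩)) (.node 1 (.one ⟨16495, 0, 3⟩) (.one ⟨9984, 0, 3⟩)))) (.node 4 (.node 2 (.node 1 (.one ⟨15720, 2, 4⟩) (.one ⟨3217, 2, 5⟩)) (.node 1 (.one ⟨8166, 2, 5⟩) (.one ⟨7602, 0, 3⟩))) (.node 2 (.node 1 (.one ⟨5255, 2, 5⟩) (.one ⟨13851, 2, 4⟩)) (.node 1 (.one ⟨12827, 2, 4⟩) (.one ⟨12088, 0, 4⟩)))))))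
def par6_9_15 : Arr Par :=
  (.node 32 (.node 16 (.node 8 (.node 4 (.node 2 (.node 1 (.one ⟨7608, 0, 2⟩) (.one ⟨6400, 0, 2⟩)) (.node 1 (.one ⟨9279, 0, 4⟩) (.one ⟨6249, 2, 3⟩))) (.node 2 (.node 1 (.one ⟨4948, 2, 3⟩) (.one ⟨9039, 2, 3⟩)) (.node 1 (.one ⟨1293, 2, 1⟩) (.one ⟨5616, 2, 6⟩)))) (.node 4 (.node 2 (.node 1 (.one ⟨6573, 0, 2⟩) (.one ⟨1786, 2, 6⟩)) (.node 1 (.one ⟨15087, 2, 5⟩) (.one ⟨13746, 2, 4⟩))) (.node 2 (.node 1 (.one ⟨2999, 2, 3⟩) (.one ⟨9146, 2, 6⟩)) (.node 1 (.one ⟨6839, 2, 5⟩) (.one ⟨11602, 2, 5⟩))))) (.node 8 (.node 4 (.node 2 (.node 1 (.one ⟨1521, 2, 4⟩) (.one ⟨3551, 2, 5⟩)) (.node 1 (.one ⟨9370, 2, 3⟩) (.one ⟨1129, 2, 3⟩))) (.node 2 (.node 1 (.one ⟨11593, 2, 5⟩) (.one ⟨9247, 2, 3⟩)) (.node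 1 (.one ⟨3511, 2, 4⟩) (.one ⟨13766, 2, 2⟩)))) (.node 4 (.node 2 (.node 1 (.one ⟨1094, 2, 5⟩) (.one ⟨10222, 2, 5⟩)) (.node 1 (.one ⟨5998, 2, 3⟩) (.one ⟨9306, 2, 3⟩))) (.node 2 (.node 1 (.one ⟨10750, 1, 4⟩) (.one ⟨14000, 2, 5⟩)) (.node 1 (.one ⟨2096, 2, 3⟩) (.one ⟨14976, 2, 5⟩)))))) (.node 16 (.node 8 (.node 4 (.node 2 (.node 1 (.one ⟨5112, 1, 3⟩) (.one ⟨12046, 2, 5⟩)) (.node 1 (.one ⟨13635, 2, 4⟩) (.one ⟨15374, 2, 5⟩))) (.node 2 (.node 1 (.one ⟨12667, 2, 6⟩) (.one ⟨11719, 2, 4⟩)) (.node 1 (.one ⟨6260, 0, 4⟩) (.one ⟨11177, 2, 5⟩)))) (.node 4 (.node 2 (.node 1 (.one ⟨11547, 0, 4⟩) (.one ⟨6559, 0, 3⟩)) (.node 1 (.one ⟨14674, 2, 2⟩) (.one ⟨3427, 2, 3⟩))) (.node 2 (.node 1 (.one ⟨15916, 2, 3⟩) (.one ⟨16810, 0, 4⟩))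 (.node 1 (.one ⟨7152, 2, 4⟩) (.one ⟨14411, 2, 6⟩))))) (.node 8 (.node 4 (.node 2 (.node 1 (.one ⟨2738, 2, 4⟩) (.one ⟨15923, 2, 4⟩)) (.node 1 (.one ⟨4976, 0, 4⟩) (.one ⟨4896, 1, 2⟩))) (.node 2 (.node 1 (.one ⟨13353, 0, 5⟩) (.one ⟨13580, 0, 4⟩)) (.node 1 (.one ⟨10713, 0, 3⟩) (.one ⟨303, 0, 4⟩)))) (.node 4 (.node 2 (.node 1 (.one ⟨957, 2, 5⟩) (.one ⟨497, 2, 4⟩)) (.node 1 (.one ⟨886, 0, 4⟩) (.one ⟨111, 0, 4⟩))) (.node 2 (.node 1 (.one ⟨7525, 0, 4⟩) (.one ⟨7519, 0, 4⟩)) (.node 1 (.one ⟨1016, 0, 4⟩) (.one ⟨1722, 1, 2⟩)))))))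
def par6_9 : Arr Par :=
  (.node 512 (.node 256 (.node 128 (.node 64 par6_9_0 par6_9_1) (.node 64 par6_9_2 par6_9_3)) (.node 128 (.node 64 par6_9_4 par6_9_5) (.node 64 par6_9_6 par6_9_7))) (.node 256 (.node 128 (.node 64 par6_9_8 par6_9_9) (.node 64 par6_9_10 par6_9_11)) (.node 128 (.node 64 par6_9_12 par6_9_13) (.node 64 par6_9_14 par6_9_15))))
def par6_10_0 : Arr Par :=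
  (.node 32 (.node 16 (.node 8 (.node 4 (.node 2 (.node 1 (.one ⟨10886, 0, 4⟩) (.one ⟨2109, 2, 6⟩)) (.node 1 (.one ⟨10138, 2, 3⟩) (.one ⟨4493, 2, 4⟩))) (.node 2 (.node 1 (.one ⟨10040, 1, 2⟩) (.one ⟨9908, 2, 3⟩)) (.node 1 (.one ⟨16912, 0, 3⟩) (.one ⟨11374, 1, 1⟩)))) (.node 4 (.node 2 (.node 1 (.one ⟨971, 0, 3⟩) (.one ⟨16168, 2, 3⟩)) (.node 1 (.one ⟨2911, 0, 3⟩) (.one ⟨4140, 2, 3⟩))) (.node 2 (.node 1 (.one ⟨10980, 2, 3⟩) (.one ⟨7391, 2, 3⟩)) (.node 1 (.one ⟨809, 1, 0⟩) (.one ⟨2476, 0, 4⟩))))) (.node 8 (.node 4 (.node 2 (.node 1 (.one ⟨13340, 2, 5⟩) (.one ⟨11845, 1, 4⟩)) (.node 1 (.one ⟨5617, 2, 4⟩) (.one ⟨16870, 2, 4⟩))) (.node 2 (.node 1 (.one ⟨13191, 2, 4⟩) (.one ⟨9522, 1, 4⟩)) (.node 1 (.one ⟨16651, 1, 4⟩)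 (.one ⟨2551, 0, 3⟩)))) (.node 4 (.node 2 (.node 1 (.one ⟨10551, 0, 4⟩) (.one ⟨2583, 0, 4⟩)) (.node 1 (.one ⟨10391, 1, 4⟩) (.one ⟨7584, 2, 4⟩))) (.node 2 (.node 1 (.one ⟨4513, 1, 1⟩) (.one ⟨14409, 1, 1⟩)) (.node 1 (.one ⟨2599, 0, 4⟩) (.one ⟨12131, 2, 1⟩)))))) (.node 16 (.node 8 (.node 4 (.node 2 (.node 1 (.one ⟨9601, 2, 1⟩) (.one ⟨1021, 2, 4⟩)) (.node 1 (.one ⟨16732, 0, 4⟩) (.one ⟨13081, 0, 3⟩))) (.node 2 (.node 1 (.one ⟨10320, 2, 3⟩) (.one ⟨2251, 2, 4⟩)) (.node 1 (.one ⟨5826, 0, 2⟩) (.one ⟨13065, 2, 4⟩)))) (.node 4 (.node 2 (.node 1 (.one ⟨4577, 0, 4⟩) (.one ⟨5740, 2, 5⟩)) (.node 1 (.one ⟨11285, 0, 4⟩) (.one ⟨11637, 2, 5⟩))) (.node 2 (.node 1 (.one ⟨3847, 0, 4⟩) (.one ⟨6856, 2, 5⟩)) (.node 1 (.one ⟨10758, 0,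 4⟩) (.one ⟨7564, 0, 2⟩))))) (.node 8 (.node 4 (.node 2 (.node 1 (.one ⟨9429, 0, 1⟩) (.one ⟨561, 2, 4⟩)) (.node 1 (.one ⟨563, 2, 4⟩) (.one ⟨8888, 2, 5⟩))) (.node 2 (.node 1 (.one ⟨11111, 0, 4⟩) (.one ⟨562, 2, 3⟩)) (.node 1 (.one ⟨2287, 0, 4⟩) (.one ⟨426, 0, 4⟩)))) (.node 4 (.node 2 (.node 1 (.one ⟨11841, 0, 4⟩) (.one ⟨11844, 0, 4⟩)) (.node 1 (.one ⟨831, 0, 4⟩) (.one ⟨728, 0, 4⟩))) (.node 2 (.node 1 (.one ⟨11846, 0, 4⟩) (.one ⟨11839, 0, 4⟩)) (.node 1 (.one ⟨518, 0, 4⟩) (.one ⟨13946, 2, 5⟩)))))))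
def par6_10_1 : Arr Par :=
  (.node 32 (.node 16 (.node 8 (.node 4 (.node 2 (.node 1 (.one ⟨4148, 2, 3⟩) (.one ⟨7513, 1, 3⟩)) (.node 1 (.one ⟨7519, 2, 4⟩) (.one ⟨5815, 0, 2⟩))) (.node 2 (.node 1 (.one ⟨13266, 2, 4⟩) (.one ⟨7458, 0, 3⟩)) (.node 1 (.one ⟨14485, 2, 2⟩) (.one ⟨3950, 1, 0⟩)))) (.node 4 (.node 2 (.node 1 (.one ⟨12295, 1, 2⟩) (.one ⟨1149, 1, 0⟩)) (.node 1 (.one ⟨3744, 1, 0⟩) (.one ⟨10095, 1, 4⟩))) (.node 2 (.node 1 (.one ⟨5059, 2, 5⟩) (.one ⟨5704, 2, 5⟩)) (.node 1 (.one ⟨14288, 2, 5⟩) (.one ⟨6636, 2, 4⟩))))) (.node 8 (.node 4 (.node 2 (.node 1 (.one ⟨14071, 0, 2⟩) (.one ⟨12200, 2, 6⟩)) (.node 1 (.one ⟨17008, 2, 3⟩) (.one ⟨5009, 1, 1⟩))) (.node 2 (.node 1 (.one ⟨14387, 2, 2⟩) (.one ⟨5991, 0, 3⟩)) (.node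 1 (.one ⟨12607, 0, 4⟩) (.one ⟨13332, 2, 5⟩)))) (.node 4 (.node 2 (.node 1 (.one ⟨15072, 2, 5⟩) (.one ⟨16816, 2, 5⟩)) (.node 1 (.one ⟨11004, 2, 4⟩) (.one ⟨4451, 2, 4⟩))) (.node 2 (.node 1 (.one ⟨12022, 0, 4⟩) (.one ⟨8303, 2, 4⟩)) (.node 1 (.one ⟨14547, 0, 4⟩) (.one ⟨6130, 2, 3⟩)))))) (.node 16 (.node 8 (.node 4 (.node 2 (.node 1 (.one ⟨11706, 1, 3⟩) (.one ⟨16591, 0, 4⟩)) (.node 1 (.one ⟨14975, 2, 5⟩) (.one ⟨3424, 1, 1⟩))) (.node 2 (.node 1 (.one ⟨2130, 2, 2⟩) (.one ⟨8378, 0, 3⟩)) (.node 1 (.one ⟨1650, 2, 2⟩) (.one ⟨4110, 0, 3⟩)))) (.node 4 (.node 2 (.node 1 (.one ⟨1990, 0, 3⟩) (.one ⟨5240, 2, 5⟩)) (.node 1 (.one ⟨6840, 1, 3⟩) (.one ⟨15912, 2, 4⟩))) (.node 2 (.node 1 (.one ⟨4684, 1, 1⟩) (.one ⟨7601, 0, 4⟩)) (.node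 1 (.one ⟨15314, 2, 4⟩) (.one ⟨14702, 0, 2⟩))))) (.node 8 (.node 4 (.node 2 (.node 1 (.one ⟨12263, 0, 2⟩) (.one ⟨2932, 2, 6⟩)) (.node 1 (.one ⟨2903, 2, 4⟩) (.one ⟨735, 2, 5⟩))) (.node 2 (.node 1 (.one ⟨12604, 0, 3⟩) (.one ⟨6566, 0, 3⟩)) (.node 1 (.one ⟨4728, 0, 5⟩) (.one ⟨1838, 2, 4⟩)))) (.node 4 (.node 2 (.node 1 (.one ⟨15871, 2, 3⟩) (.one ⟨11373, 2, 4⟩)) (.node 1 (.one ⟨14566, 0, 5⟩) (.one ⟨9566, 2, 1⟩))) (.node 2 (.node 1 (.one ⟨7703, 2, 5⟩) (.one ⟨3209, 2, 4⟩)) (.node 1 (.one ⟨2012, 0, 3⟩) (.one ⟨15746, 1, 4⟩)))))))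
def par6_10_2 : Arr Par :=
  (.node 32 (.node 16 (.node 8 (.node 4 (.node 2 (.node 1 (.one ⟨6903, 0, 4⟩) (.one ⟨223, 1, 4⟩)) (.node 1 (.one ⟨14538, 2, 3⟩) (.one ⟨5951, 1, 1⟩))) (.node 2 (.node 1 (.one ⟨1109, 2, 5⟩) (.one ⟨7617, 0, 2⟩)) (.node 1 (.one ⟨4922, 0, 4⟩) (.one ⟨17143, 2, 5⟩)))) (.node 4 (.node 2 (.node 1 (.one ⟨10644, 0, 2⟩) (.one ⟨8828, 0, 3⟩)) (.node 1 (.one ⟨10514, 2, 2⟩) (.one ⟨14446, 2, 3⟩))) (.node 2 (.node 1 (.one ⟨8874, 0, 3⟩) (.one ⟨14149, 2, 5⟩)) (.node 1 (.one ⟨10613, 0, 4⟩) (.one ⟨2418, 0, 4⟩))))) (.node 8 (.node 4 (.node 2 (.node 1 (.one ⟨736, 0, 4⟩) (.one ⟨231, 0, 4⟩)) (.node 1 (.one ⟨2422, 0, 4⟩) (.one ⟨479, 0, 4⟩))) (.node 2 (.node 1 (.one ⟨2419, 0, 4⟩) (.one ⟨2415, 0, 4⟩)) (.node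 1 (.one ⟨15173, 2, 5⟩) (.one ⟨15846, 0, 3⟩)))) (.node 4 (.node 2 (.node 1 (.one ⟨3969, 0, 3⟩) (.one ⟨1485, 1, 4⟩)) (.node 1 (.one ⟨1411, 1, 4⟩) (.one ⟨1206, 0, 1⟩))) (.node 2 (.node 1 (.one ⟨4848, 2, 4⟩) (.one ⟨14771, 2, 6⟩)) (.node 1 (.one ⟨7979, 0, 3⟩) (.one ⟨4947, 0, 3⟩)))))) (.node 16 (.node 8 (.node 4 (.node 2 (.node 1 (.one ⟨3573, 1, 4⟩) (.one ⟨2755, 1, 4⟩)) (.node 1 (.one ⟨15296, 0, 3⟩) (.one ⟨2724, 0, 4⟩))) (.node 2 (.node 1 (.one ⟨124, 0, 3⟩) (.one ⟨14912, 2, 5⟩)) (.node 1 (.one ⟨12309, 2, 2⟩) (.one ⟨7550, 0, 2⟩)))) (.node 4 (.node 2 (.node 1 (.one ⟨7949, 2, 4⟩) (.one ⟨9430, 0, 1⟩)) (.node 1 (.one ⟨4346, 2, 3⟩) (.one ⟨6609, 1, 1⟩))) (.node 2 (.node 1 (.one ⟨11711, 2, 4⟩) (.one ⟨11520, 0, 1⟩)) (.node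 1 (.one ⟨16323, 2, 1⟩) (.one ⟨5131, 2, 2⟩))))) (.node 8 (.node 4 (.node 2 (.node 1 (.one ⟨6008, 2, 3⟩) (.one ⟨16838, 2, 5⟩)) (.node 1 (.one ⟨12875, 1, 4⟩) (.one ⟨5326, 2, 4⟩))) (.node 2 (.node 1 (.one ⟨5667, 2, 3⟩) (.one ⟨17097, 2, 3⟩)) (.node 1 (.one ⟨9390, 2, 3⟩) (.one ⟨2725, 2, 5⟩)))) (.node 4 (.node 2 (.node 1 (.one ⟨9802, 2, 5⟩) (.one ⟨10903, 2, 4⟩)) (.node 1 (.one ⟨7397, 1, 3⟩) (.one ⟨14963, 2, 4⟩))) (.node 2 (.node 1 (.one ⟨7234, 2, 5⟩) (.one ⟨14351, 0, 3⟩)) (.node 1 (.one ⟨14035, 2, 5⟩) (.one ⟨16361, 2, 4⟩)))))))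
def par6_10_3 : Arr Par :=
  (.node 32 (.node 16 (.node 8 (.node 4 (.node 2 (.node 1 (.one ⟨13280, 2, 5⟩) (.one ⟨10744, 2, 4⟩)) (.node 1 (.one ⟨15245, 2, 4⟩) (.one ⟨12875, 2, 4⟩))) (.node 2 (.node 1 (.one ⟨4830, 1, 0⟩) (.one ⟨14741, 2, 4⟩)) (.node 1 (.one ⟨10060, 2, 5⟩) (.one ⟨3940, 0, 5⟩)))) (.node 4 (.node 2 (.node 1 (.one ⟨4019, 0, 3⟩) (.one ⟨10453, 2, 4⟩)) (.node 1 (.one ⟨2585, 2, 6⟩) (.one ⟨9597, 2, 5⟩))) (.node 2 (.node 1 (.one ⟨10007, 0, 2⟩) (.one ⟨7699, 2, 4⟩)) (.node 1 (.one ⟨16057, 2, 4⟩) (.one ⟨2999, 1, 3⟩))))) (.node 8 (.node 4 (.node 2 (.node 1 (.one ⟨5648, 2, 4⟩) (.one ⟨6132, 2, 6⟩)) (.node 1 (.one ⟨5242, 2, 4⟩) (.one ⟨5220, 0, 4⟩))) (.node 2 (.node 1 (.one ⟨5179, 0, 5⟩) (.one ⟨4359, 0, 3⟩)) (.node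 1 (.one ⟨3005, 1, 2⟩) (.one ⟨13065, 1, 4⟩)))) (.node 4 (.node 2 (.node 1 (.one ⟨13692, 1, 4⟩) (.one ⟨15262, 1, 4⟩)) (.node 1 (.one ⟨12288, 1, 4⟩) (.one ⟨902, 1, 4⟩))) (.node 2 (.node 1 (.one ⟨8552, 1, 4⟩) (.one ⟨8346, 1, 4⟩)) (.node 1 (.one ⟨3235, 1, 4⟩) (.one ⟨3421, 1, 0⟩)))))) (.node 16 (.node 8 (.node 4 (.node 2 (.node 1 (.one ⟨2722, 1, 0⟩) (.one ⟨601, 1, 0⟩)) (.node 1 (.one ⟨1520, 1, 2⟩) (.one ⟨5710, 2, 5⟩))) (.node 2 (.node 1 (.one ⟨14935, 1, 2⟩) (.one ⟨13588, 2, 5⟩)) (.node 1 (.one ⟨5057, 2, 3⟩) (.one ⟨6185, 0, 4⟩)))) (.node 4 (.node 2 (.node 1 (.one ⟨2603, 0, 2⟩) (.one ⟨13637, 0, 2⟩)) (.node 1 (.one ⟨14601, 1, 1⟩) (.one ⟨10609, 2, 5⟩))) (.node 2 (.node 1 (.one ⟨10276, 2, 4⟩) (.one ⟨1309, 2, 4⟩)) (.node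 1 (.one ⟨2261, 0, 5⟩) (.one ⟨7647, 2, 5⟩))))) (.node 8 (.node 4 (.node 2 (.node 1 (.one ⟨10126, 0, 4⟩) (.one ⟨15769, 2, 4⟩)) (.node 1 (.one ⟨1293, 1, 1⟩) (.one ⟨9555, 1, 1⟩))) (.node 2 (.node 1 (.one ⟨2110, 2, 5⟩) (.one ⟨1378, 1, 1⟩)) (.node 1 (.one ⟨10073, 2, 5⟩) (.one ⟨7883, 2, 2⟩)))) (.node 4 (.node 2 (.node 1 (.one ⟨11212, 1, 1⟩) (.one ⟨16182, 2, 5⟩)) (.node 1 (.one ⟨10735, 2, 4⟩) (.one ⟨4264, 0, 2⟩))) (.node 2 (.node 1 (.one ⟨7825, 2, 2⟩) (.one ⟨10335, 2, 4⟩)) (.node 1 (.one ⟨2933, 1, 1⟩) (.one ⟨8377, 0, 4⟩)))))))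
def par6_10_4 : Arr Par :=
  (.node 32 (.node 16 (.node 8 (.node 4 (.node 2 (.node 1 (.one ⟨5620, 2, 3⟩) (.one ⟨1120, 1, 1⟩)) (.node 1 (.one ⟨16984, 2, 2⟩) (.one ⟨8418, 2, 5⟩))) (.node 2 (.node 1 (.one ⟨13335, 2, 2⟩) (.one ⟨14474, 2, 5⟩)) (.node 1 (.one ⟨9328, 0, 1⟩) (.one ⟨5244, 0, 4⟩)))) (.node 4 (.node 2 (.node 1 (.one ⟨14306, 0, 1⟩) (.one ⟨10901, 2, 5⟩)) (.node 1 (.one ⟨1026, 2, 5⟩) (.one ⟨10898, 2, 5⟩))) (.node 2 (.node 1 (.one ⟨962, 2, 4⟩) (.one ⟨11946, 1, 4⟩)) (.node 1 (.one ⟨1305, 1, 1⟩) (.one ⟨7608, 2, 2⟩))))) (.node 8 (.node 4 (.node 2 (.node 1 (.one ⟨16570, 0, 3⟩) (.one ⟨5736, 2, 2⟩)) (.node 1 (.one ⟨1335, 0, 1⟩) (.one ⟨13746, 1, 4⟩))) (.node 2 (.node 1 (.one ⟨11965, 2, 3⟩) (.one ⟨3526, 2, 4⟩)) (.node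 1 (.one ⟨10477, 2, 5⟩) (.one ⟨11740, 0, 2⟩)))) (.node 4 (.node 2 (.node 1 (.one ⟨2040, 2, 4⟩) (.one ⟨10511, 0, 3⟩)) (.node 1 (.one ⟨16718, 0, 3⟩) (.one ⟨6541, 2, 5⟩))) (.node 2 (.node 1 (.one ⟨9354, 0, 5⟩) (.one ⟨14843, 0, 3⟩)) (.node 1 (.one ⟨12467, 0, 5⟩) (.one ⟨16830, 0, 3⟩)))))) (.node 16 (.node 8 (.node 4 (.node 2 (.node 1 (.one ⟨16377, 2, 5⟩) (.one ⟨1404, 2, 5⟩)) (.node 1 (.one ⟨11052, 2, 5⟩) (.one ⟨14896, 2, 5⟩))) (.node 2 (.node 1 (.one ⟨5633, 2, 6⟩) (.one ⟨10493, 0, 5⟩)) (.node 1 (.one ⟨5142, 2, 3⟩) (.one ⟨479, 1, 4⟩)))) (.node 4 (.node 2 (.node 1 (.one ⟨7029, 2, 2⟩) (.one ⟨9263, 1, 3⟩)) (.node 1 (.one ⟨10745, 1, 4⟩) (.one ⟨4112, 0, 2⟩))) (.node 2 (.node 1 (.one ⟨14550, 1, 4⟩) (.one ⟨11766, 2, 4⟩))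 (.node 1 (.one ⟨4747, 2, 2⟩) (.one ⟨4879, 2, 4⟩))))) (.node 8 (.node 4 (.node 2 (.node 1 (.one ⟨13633, 2, 6⟩) (.one ⟨15999, 2, 5⟩)) (.node 1 (.one ⟨3040, 2, 6⟩) (.one ⟨11016, 2, 5⟩))) (.node 2 (.node 1 (.one ⟨5789, 0, 4⟩) (.one ⟨5840, 2, 5⟩)) (.node 1 (.one ⟨12665, 2, 6⟩) (.one ⟨185, 2, 3⟩)))) (.node 4 (.node 2 (.node 1 (.one ⟨738, 2, 3⟩) (.one ⟨113, 2, 3⟩)) (.node 1 (.one ⟨1133, 0, 4⟩) (.one ⟨2611, 2, 4⟩))) (.node 2 (.node 1 (.one ⟨2608, 2, 4⟩) (.one ⟨7948, 0, 4⟩)) (.node 1 (.one ⟨2607, 2, 5⟩) (.one ⟨11909, 2, 5⟩)))))))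
def par6_10_5 : Arr Par :=
  (.node 32 (.node 16 (.node 8 (.node 4 (.node 2 (.node 1 (.one ⟨10465, 1, 1⟩) (.one ⟨4097, 2, 3⟩)) (.node 1 (.one ⟨15702, 2, 5⟩) (.one ⟨3626, 0, 4⟩))) (.node 2 (.node 1 (.one ⟨16315, 0, 1⟩) (.one ⟨3459, 2, 4⟩)) (.node 1 (.one ⟨14951, 2, 4⟩) (.one ⟨16366, 2, 4⟩)))) (.node 4 (.node 2 (.node 1 (.one ⟨12181, 0, 2⟩) (.one ⟨5842, 2, 5⟩)) (.node 1 (.one ⟨10938, 2, 5⟩) (.one ⟨10717, 0, 2⟩))) (.node 2 (.node 1 (.one ⟨11874, 0, 2⟩) (.one ⟨2564, 0, 2⟩)) (.node 1 (.one ⟨8843, 2, 4⟩) (.one ⟨12975, 0, 4⟩))))) (.node 8 (.node 4 (.node 2 (.node 1 (.one ⟨1227, 0, 3⟩) (.one ⟨9136, 2, 4⟩)) (.node 1 (.one ⟨5628, 1, 2⟩) (.one ⟨10467, 2, 6⟩))) (.node 2 (.node 1 (.one ⟨10030, 0, 4⟩) (.one ⟨2433, 2, 5⟩))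 (.node 1 (.one ⟨10513, 2, 3⟩) (.one ⟨3085, 0, 2⟩)))) (.node 4 (.node 2 (.node 1 (.one ⟨16451, 0, 4⟩) (.one ⟨15477, 0, 4⟩)) (.node 1 (.one ⟨5397, 0, 2⟩) (.one ⟨16352, 2, 3⟩))) (.node 2 (.node 1 (.one ⟨16092, 2, 3⟩) (.one ⟨12510, 2, 3⟩)) (.node 1 (.one ⟨11758, 2, 3⟩) (.one ⟨2435, 0, 2⟩)))))) (.node 16 (.node 8 (.node 4 (.node 2 (.node 1 (.one ⟨14500, 2, 3⟩) (.one ⟨13522, 2, 3⟩)) (.node 1 (.one ⟨8684, 2, 5⟩) (.one ⟨2497, 2, 3⟩))) (.node 2 (.node 1 (.one ⟨14039, 2, 5⟩) (.one ⟨2318, 1, 0⟩)) (.node 1 (.one ⟨8813, 2, 4⟩) (.one ⟨2515, 1, 2⟩)))) (.node 4 (.node 2 (.node 1 (.one ⟨9371, 1, 2⟩) (.one ⟨2156, 1, 2⟩)) (.node 1 (.one ⟨10504, 1, 2⟩) (.one ⟨13589, 2, 3⟩))) (.node 2 (.node 1 (.one ⟨10159, 1, 4⟩) (.one ⟨12855,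 2, 5⟩)) (.node 1 (.one ⟨5030, 2, 5⟩) (.one ⟨2599, 1, 4⟩))))) (.node 8 (.node 4 (.node 2 (.node 1 (.one ⟨14260, 0, 3⟩) (.one ⟨15365, 1, 4⟩)) (.node 1 (.one ⟨14252, 0, 5⟩) (.one ⟨15602, 0, 5⟩))) (.node 2 (.node 1 (.one ⟨7010, 0, 3⟩) (.one ⟨16911, 2, 3⟩)) (.node 1 (.one ⟨15321, 1, 4⟩) (.one ⟨9315, 1, 1⟩)))) (.node 4 (.node 2 (.node 1 (.one ⟨7397, 2, 3⟩) (.one ⟨14627, 2, 4⟩)) (.node 1 (.one ⟨11869, 2, 3⟩) (.one ⟨1681, 2, 3⟩))) (.node 2 (.node 1 (.one ⟨3631, 0, 1⟩) (.one ⟨17153, 2, 4⟩)) (.node 1 (.one ⟨11162, 2, 3⟩) (.one ⟨12347, 1, 2⟩)))))))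
def par6_10_6 : Arr Par :=
  (.node 32 (.node 16 (.node 8 (.node 4 (.node 2 (.node 1 (.one ⟨2107, 2, 6⟩) (.one ⟨8677, 0, 5⟩)) (.node 1 (.one ⟨7958, 2, 2⟩) (.one ⟨7007, 0, 3⟩))) (.node 2 (.node 1 (.one ⟨2294, 2, 4⟩) (.one ⟨9198, 2, 3⟩)) (.node 1 (.one ⟨8232, 2, 5⟩) (.one ⟨3905, 0, 3⟩)))) (.node 4 (.node 2 (.node 1 (.one ⟨1994, 2, 4⟩) (.one ⟨6017, 2, 5⟩)) (.node 1 (.one ⟨13203, 1, 4⟩) (.one ⟨16134, 2, 4⟩))) (.node 2 (.node 1 (.one ⟨13331, 2, 5⟩) (.one ⟨13205, 1, 4⟩)) (.node 1 (.one ⟨10666, 0, 2⟩) (.one ⟨16651, 2, 4⟩))))) (.node 8 (.node 4 (.node 2 (.node 1 (.one ⟨11147, 0, 4⟩) (.one ⟨15860, 0, 4⟩)) (.node 1 (.one ⟨11961, 2, 5⟩) (.one ⟨15895, 2, 3⟩))) (.node 2 (.node 1 (.one ⟨70, 1, 1⟩) (.one ⟨16599, 0, 4⟩)) (.node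 1 (.one ⟨13509, 2, 5⟩) (.one ⟨2723, 1, 3⟩)))) (.node 4 (.node 2 (.node 1 (.one ⟨16033, 0, 4⟩) (.one ⟨3383, 2, 3⟩)) (.node 1 (.one ⟨16465, 0, 3⟩) (.one ⟨3404, 2, 2⟩))) (.node 2 (.node 1 (.one ⟨3433, 2, 3⟩) (.one ⟨14252, 1, 5⟩)) (.node 1 (.one ⟨9333, 2, 5⟩) (.one ⟨16294, 2, 4⟩)))))) (.node 16 (.node 8 (.node 4 (.node 2 (.node 1 (.one ⟨11592, 0, 3⟩) (.one ⟨2291, 2, 4⟩)) (.node 1 (.one ⟨3259, 2, 4⟩) (.one ⟨15898, 2, 4⟩))) (.node 2 (.node 1 (.one ⟨16546, 2, 5⟩) (.one ⟨192, 2, 4⟩)) (.node 1 (.one ⟨5579, 0, 4⟩) (.one ⟨12193, 2, 5⟩)))) (.node 4 (.node 2 (.node 1 (.one ⟨13505, 2, 3⟩) (.one ⟨2968, 2, 4⟩)) (.node 1 (.one ⟨3950, 1, 1⟩) (.one ⟨3673, 2, 5⟩))) (.node 2 (.node 1 (.one ⟨4657, 2, 5⟩) (.one ⟨2389, 0, 4⟩)) (.node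 1 (.one ⟨10752, 2, 4⟩) (.one ⟨11550, 2, 5⟩))))) (.node 8 (.node 4 (.node 2 (.node 1 (.one ⟨8494, 0, 3⟩) (.one ⟨10853, 2, 5⟩)) (.node 1 (.one ⟨6464, 0, 2⟩) (.one ⟨11156, 0, 3⟩))) (.node 2 (.node 1 (.one ⟨11704, 1, 5⟩) (.one ⟨10258, 2, 5⟩)) (.node 1 (.one ⟨15581, 0, 3⟩) (.one ⟨9520, 1, 1⟩)))) (.node 4 (.node 2 (.node 1 (.one ⟨9301, 2, 3⟩) (.one ⟨9495, 2, 4⟩)) (.node 1 (.one ⟨8123, 2, 4⟩) (.one ⟨9190, 2, 5⟩))) (.node 2 (.node 1 (.one ⟨8163, 2, 5⟩) (.one ⟨8135, 2, 6⟩)) (.node 1 (.one ⟨9387, 2, 4⟩) (.one ⟨7046, 0, 2⟩)))))))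
def par6_10_7 : Arr Par :=
  (.node 32 (.node 16 (.node 8 (.node 4 (.node 2 (.node 1 (.one ⟨1449, 0, 1⟩) (.one ⟨3154, 2, 2⟩)) (.node 1 (.one ⟨14977, 2, 4⟩) (.one ⟨2394, 2, 2⟩))) (.node 2 (.node 1 (.one ⟨9021, 1, 1⟩) (.one ⟨2950, 2, 4⟩)) (.node 1 (.one ⟨15318, 2, 4⟩) (.one ⟨10339, 2, 2⟩)))) (.node 4 (.node 2 (.node 1 (.one ⟨4828, 1, 0⟩) (.one ⟨5037, 2, 5⟩)) (.node 1 (.one ⟨950, 1, 0⟩) (.one ⟨3689, 1, 0⟩))) (.node 2 (.node 1 (.one ⟨13378, 2, 3⟩) (.one ⟨10778, 0, 2⟩)) (.node 1 (.one ⟨172, 2, 3⟩) (.one ⟨4427, 2, 5⟩))))) (.node 8 (.node 4 (.node 2 (.node 1 (.one ⟨10314, 1, 1⟩) (.one ⟨4424, 2, 3⟩)) (.node 1 (.one ⟨1053, 2, 4⟩) (.one ⟨4428, 2, 2⟩))) (.node 2 (.node 1 (.one ⟨12886, 0, 4⟩) (.one ⟨4423, 2, 5⟩)) (.node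 1 (.one ⟨9267, 1, 1⟩) (.one ⟨1735, 0, 2⟩)))) (.node 4 (.node 2 (.node 1 (.one ⟨8920, 2, 5⟩) (.one ⟨12181, 2, 2⟩)) (.node 1 (.one ⟨10371, 2, 2⟩) (.one ⟨5801, 1, 1⟩))) (.node 2 (.node 1 (.one ⟨9823, 0, 4⟩) (.one ⟨5679, 1, 1⟩)) (.node 1 (.one ⟨9807, 0, 4⟩) (.one ⟨11870, 2, 3⟩)))))) (.node 16 (.node 8 (.node 4 (.node 2 (.node 1 (.one ⟨3691, 0, 5⟩) (.one ⟨1722, 0, 2⟩)) (.node 1 (.one ⟨4207, 1, 2⟩) (.one ⟨11659, 2, 5⟩))) (.node 2 (.node 1 (.one ⟨2404, 1, 5⟩) (.one ⟨8548, 0, 5⟩)) (.node 1 (.one ⟨15449, 0, 3⟩) (.one ⟨2140, 0, 3⟩)))) (.node 4 (.node 2 (.node 1 (.one ⟨9549, 0, 3⟩) (.one ⟨12233, 2, 6⟩)) (.node 1 (.one ⟨14693, 2, 6⟩) (.one ⟨7966, 0, 5⟩))) (.node 2 (.node 1 (.one ⟨15851, 0, 4⟩) (.one ⟨7634, 0, 5⟩)) (.node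 1 (.one ⟨16111, 0, 3⟩) (.one ⟨5552, 2, 3⟩))))) (.node 8 (.node 4 (.node 2 (.node 1 (.one ⟨8853, 2, 5⟩) (.one ⟨9071, 2, 3⟩)) (.node 1 (.one ⟨6037, 2, 5⟩) (.one ⟨16035, 2, 5⟩))) (.node 2 (.node 1 (.one ⟨15608, 2, 5⟩) (.one ⟨15277, 2, 3⟩)) (.node 1 (.one ⟨15664, 2, 3⟩) (.one ⟨12326, 2, 5⟩)))) (.node 4 (.node 2 (.node 1 (.one ⟨13113, 2, 3⟩) (.one ⟨3343, 0, 3⟩)) (.node 1 (.one ⟨11050, 2, 5⟩) (.one ⟨16116, 0, 3⟩))) (.node 2 (.node 1 (.one ⟨16165, 1, 4⟩) (.one ⟨4386, 2, 6⟩)) (.node 1 (.one ⟨15071, 0, 3⟩) (.one ⟨6528, 2, 3⟩)))))))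
def par6_10_8 : Arr Par :=
  (.node 32 (.node 16 (.node 8 (.node 4 (.node 2 (.node 1 (.one ⟨14915, 2, 3⟩) (.one ⟨6974, 0, 4⟩)) (.node 1 (.one ⟨4993, 2, 3⟩) (.one ⟨15746, 2, 4⟩))) (.node 2 (.node 1 (.one ⟨15112, 1, 1⟩) (.one ⟨6990, 0, 5⟩)) (.node 1 (.one ⟨11263, 2, 3⟩) (.one ⟨4436, 1, 0⟩)))) (.node 4 (.node 2 (.node 1 (.one ⟨13408, 2, 1⟩) (.one ⟨1891, 1, 2⟩)) (.node 1 (.one ⟨2460, 1, 0⟩) (.one ⟨14110, 2, 3⟩))) (.node 2 (.node 1 (.one ⟨14293, 2, 5⟩) (.one ⟨5023, 2, 5⟩)) (.node 1 (.one ⟨5062, 2, 5⟩) (.one ⟨11163, 2, 3⟩))))) (.node 8 (.node 4 (.node 2 (.node 1 (.one ⟨5353, 0, 2⟩) (.one ⟨11767, 0, 5⟩)) (.node 1 (.one ⟨4379, 2, 4⟩) (.one ⟨16026, 0, 4⟩))) (.node 2 (.node 1 (.one ⟨5008, 2, 3⟩) (.one ⟨15184, 1, 1⟩))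 (.node 1 (.one ⟨3615, 2, 2⟩) (.one ⟨4976, 2, 4⟩)))) (.node 4 (.node 2 (.node 1 (.one ⟨5351, 0, 2⟩) (.one ⟨10713, 2, 3⟩)) (.node 1 (.one ⟨1450, 0, 1⟩) (.one ⟨16855, 0, 2⟩))) (.node 2 (.node 1 (.one ⟨7025, 0, 2⟩) (.one ⟨10444, 2, 3⟩)) (.node 1 (.one ⟨13580, 2, 4⟩) (.one ⟨11439, 2, 3⟩)))))) (.node 16 (.node 8 (.node 4 (.node 2 (.node 1 (.one ⟨2014, 0, 3⟩) (.one ⟨10218, 0, 3⟩)) (.node 1 (.one ⟨2175, 2, 3⟩) (.one ⟨2862, 2, 4⟩))) (.node 2 (.node 1 (.one ⟨14318, 2, 6⟩) (.one ⟨6694, 2, 4⟩)) (.node 1 (.one ⟨10478, 2, 6⟩) (.one ⟨14248, 0, 3⟩)))) (.node 4 (.node 2 (.node 1 (.one ⟨14481, 2, 3⟩) (.one ⟨2846, 1, 5⟩)) (.node 1 (.one ⟨6906, 0, 4⟩) (.one ⟨11958, 2, 3⟩))) (.node 2 (.node 1 (.one ⟨15917, 2, 3⟩) (.one ⟨17026,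 2, 2⟩)) (.node 1 (.one ⟨12840, 2, 3⟩) (.one ⟨4930, 2, 4⟩))))) (.node 8 (.node 4 (.node 2 (.node 1 (.one ⟨13828, 2, 4⟩) (.one ⟨4871, 2, 4⟩)) (.node 1 (.one ⟨14072, 2, 4⟩) (.one ⟨16738, 2, 4⟩))) (.node 2 (.node 1 (.one ⟨363, 2, 4⟩) (.one ⟨16543, 2, 4⟩)) (.node 1 (.one ⟨2112, 2, 4⟩) (.one ⟨16735, 2, 4⟩)))) (.node 4 (.node 2 (.node 1 (.one ⟨16550, 2, 4⟩) (.one ⟨7515, 2, 5⟩)) (.node 1 (.one ⟨7446, 2, 2⟩) (.one ⟨10063, 2, 4⟩))) (.node 2 (.node 1 (.one ⟨9710, 2, 5⟩) (.one ⟨6413, 0, 4⟩)) (.node 1 (.one ⟨12628, 0, 4⟩) (.one ⟨2790, 0, 4⟩)))))))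
def par6_10_9 : Arr Par :=
  (.node 32 (.node 16 (.node 8 (.node 4 (.node 2 (.node 1 (.one ⟨919, 2, 3⟩) (.one ⟨12420, 0, 4⟩)) (.node 1 (.one ⟨1622, 0, 4⟩) (.one ⟨349, 2, 4⟩))) (.node 2 (.node 1 (.one ⟨5496, 0, 3⟩) (.one ⟨13227, 2, 5⟩)) (.node 1 (.one ⟨13228, 2, 5⟩) (.one ⟨16164, 0, 2⟩)))) (.node 4 (.node 2 (.node 1 (.one ⟨7445, 2, 5⟩) (.one ⟨6219, 2, 3⟩)) (.node 1 (.one ⟨7924, 2, 5⟩) (.one ⟨294, 2, 4⟩))) (.node 2 (.node 1 (.one ⟨6374, 0, 4⟩) (.one ⟨2260, 1, 5⟩)) (.node 1 (.one ⟨16588, 0, 4⟩) (.one ⟨2313, 2, 5⟩))))) (.node 8 (.node 4 (.node 2 (.node 1 (.one ⟨6763, 2, 2⟩) (.one ⟨17189, 2, 6⟩)) (.node 1 (.one ⟨16446, 0, 4⟩) (.one ⟨16610, 2, 4⟩))) (.node 2 (.node 1 (.one ⟨12558, 2, 6⟩) (.one ⟨1427, 2, 4⟩)) (.node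 1 (.one ⟨7455, 2, 5⟩) (.one ⟨5547, 0, 5⟩)))) (.node 4 (.node 2 (.node 1 (.one ⟨16650, 0, 2⟩) (.one ⟨3131, 2, 3⟩)) (.node 1 (.one ⟨15531, 2, 3⟩) (.one ⟨3599, 2, 4⟩))) (.node 2 (.node 1 (.one ⟨871, 0, 5⟩) (.one ⟨1211, 2, 1⟩)) (.node 1 (.one ⟨15361, 1, 3⟩) (.one ⟨405, 0, 4⟩)))))) (.node 16 (.node 8 (.node 4 (.node 2 (.node 1 (.one ⟨8556, 0, 4⟩) (.one ⟨8551, 0, 4⟩)) (.node 1 (.one ⟨14173, 2, 3⟩) (.one ⟨8554, 0, 4⟩))) (.node 2 (.node 1 (.one ⟨620, 0, 4⟩) (.one ⟨119, 0, 4⟩)) (.node 1 (.one ⟨8557, 0, 4⟩) (.one ⟨9620, 0, 4⟩)))) (.node 4 (.node 2 (.node 1 (.one ⟨15630, 2, 5⟩) (.one ⟨14844, 2, 3⟩)) (.node 1 (.one ⟨610, 0, 1⟩) (.one ⟨611, 0, 1⟩))) (.node 2 (.node 1 (.one ⟨608, 0, 1⟩) (.one ⟨2145, 2, 3⟩)) (.node 1 (.one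 ⟨13611, 2, 5⟩) (.one ⟨13120, 2, 4⟩))))) (.node 8 (.node 4 (.node 2 (.node 1 (.one ⟨2264, 0, 4⟩) (.one ⟨2256, 0, 5⟩)) (.node 1 (.one ⟨10489, 2, 6⟩) (.one ⟨2541, 2, 5⟩))) (.node 2 (.node 1 (.one ⟨5003, 0, 2⟩) (.one ⟨8722, 2, 3⟩)) (.node 1 (.one ⟨5531, 2, 6⟩) (.one ⟨607, 0, 1⟩)))) (.node 4 (.node 2 (.node 1 (.one ⟨606, 0, 1⟩) (.one ⟨1369, 1, 1⟩)) (.node 1 (.one ⟨605, 0, 1⟩) (.one ⟨4052, 2, 5⟩))) (.node 2 (.node 1 (.one ⟨10914, 2, 3⟩) (.one ⟨10398, 2, 4⟩)) (.node 1 (.one ⟨9510, 0, 4⟩) (.one ⟨473, 0, 3⟩)))))))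
def par6_10_10 : Arr Par :=
  (.node 32 (.node 16 (.node 8 (.node 4 (.node 2 (.node 1 (.one ⟨2831, 0, 2⟩) (.one ⟨15274, 0, 2⟩)) (.node 1 (.one ⟨14467, 0, 2⟩) (.one ⟨5929, 2, 2⟩))) (.node 2 (.node 1 (.one ⟨15430, 2, 5⟩) (.one ⟨3221, 2, 4⟩)) (.node 1 (.one ⟨9185, 2, 3⟩) (.one ⟨13930, 2, 3⟩)))) (.node 4 (.node 2 (.node 1 (.one ⟨15260, 0, 4⟩) (.one ⟨15257, 0, 4⟩)) (.node 1 (.one ⟨7534, 2, 3⟩) (.one ⟨510, 0, 4⟩))) (.node 2 (.node 1 (.one ⟨15258, 0, 4⟩) (.one ⟨15259, 0, 4⟩)) (.node 1 (.one ⟨709, 0, 4⟩) (.one ⟨9862, 2, 4⟩))))) (.node 8 (.node 4 (.node 2 (.node 1 (.one ⟨1789, 0, 4⟩) (.one ⟨4129, 2, 5⟩)) (.node 1 (.one ⟨11604, 2, 4⟩) (.one ⟨14776, 1, 5⟩))) (.node 2 (.node 1 (.one ⟨6699, 0, 3⟩) (.one ⟨11762, 2, 4⟩))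 (.node 1 (.one ⟨4201, 2, 4⟩) (.one ⟨10974, 2, 3⟩)))) (.node 4 (.node 2 (.node 1 (.one ⟨14279, 2, 4⟩) (.one ⟨16429, 2, 4⟩)) (.node 1 (.one ⟨12804, 2, 4⟩) (.one ⟨15614, 2, 4⟩))) (.node 2 (.node 1 (.one ⟨16615, 0, 2⟩) (.one ⟨11717, 2, 5⟩)) (.node 1 (.one ⟨2825, 0, 2⟩) (.one ⟨11277, 0, 2⟩)))))) (.node 16 (.node 8 (.node 4 (.node 2 (.node 1 (.one ⟨13830, 2, 4⟩) (.one ⟨9902, 0, 2⟩)) (.node 1 (.one ⟨7180, 0, 2⟩) (.one ⟨13694, 0, 2⟩))) (.node 2 (.node 1 (.one ⟨3307, 0, 3⟩) (.one ⟨15515, 0, 2⟩)) (.node 1 (.one ⟨1496, 0, 5⟩) (.one ⟨10890, 2, 4⟩)))) (.node 4 (.node 2 (.node 1 (.one ⟨8030, 0, 5⟩) (.one ⟨11617, 2, 4⟩)) (.node 1 (.one ⟨10457, 2, 5⟩) (.one ⟨1498, 2, 2⟩))) (.node 2 (.node 1 (.one ⟨3912, 2, 4⟩) (.one ⟨4721,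 2, 4⟩)) (.node 1 (.one ⟨3241, 2, 4⟩) (.one ⟨7794, 1, 3⟩))))) (.node 8 (.node 4 (.node 2 (.node 1 (.one ⟨6049, 2, 5⟩) (.one ⟨8462, 2, 4⟩)) (.node 1 (.one ⟨11704, 0, 5⟩) (.one ⟨12774, 2, 2⟩))) (.node 2 (.node 1 (.one ⟨11070, 2, 4⟩) (.one ⟨16126, 0, 2⟩)) (.node 1 (.one ⟨10001, 2, 3⟩) (.one ⟨2542, 2, 3⟩)))) (.node 4 (.node 2 (.node 1 (.one ⟨16685, 0, 3⟩) (.one ⟨13078, 0, 2⟩)) (.node 1 (.one ⟨2578, 2, 4⟩) (.one ⟨9638, 2, 4⟩))) (.node 2 (.node 1 (.one ⟨12420, 1, 4⟩) (.one ⟨5299, 2, 4⟩)) (.node 1 (.one ⟨9241, 2, 5⟩) (.one ⟨582, 0, 1⟩)))))))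
def par6_10_11 : Arr Par :=
  (.node 32 (.node 16 (.node 8 (.node 4 (.node 2 (.node 1 (.one ⟨1612, 1, 1⟩) (.one ⟨6691, 2, 3⟩)) (.node 1 (.one ⟨1362, 1, 1⟩) (.one ⟨579, 0, 1⟩))) (.node 2 (.node 1 (.one ⟨4869, 2, 5⟩) (.one ⟨3961, 2, 5⟩)) (.node 1 (.one ⟨9502, 1, 1⟩) (.one ⟨4258, 2, 4⟩)))) (.node 4 (.node 2 (.node 1 (.one ⟨5096, 2, 5⟩) (.one ⟨3199, 2, 4⟩)) (.node 1 (.one ⟨2521, 2, 5⟩) (.one ⟨12887, 2, 4⟩))) (.node 2 (.node 1 (.one ⟨6186, 0, 3⟩) (.one ⟨10162, 2, 4⟩)) (.node 1 (.one ⟨10864, 2, 5⟩) (.one ⟨9799, 2, 4⟩))))) (.node 8 (.node 4 (.node 2 (.node 1 (.one ⟨4468, 2, 5⟩) (.one ⟨1381, 2, 1⟩)) (.node 1 (.one ⟨7626, 0, 4⟩) (.one ⟨10973, 2, 5⟩))) (.node 2 (.node 1 (.one ⟨5156, 2, 5⟩) (.one ⟨8354, 0, 4⟩)) (.node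 1 (.one ⟨13240, 2, 2⟩) (.one ⟨13688, 0, 2⟩)))) (.node 4 (.node 2 (.node 1 (.one ⟨9752, 0, 2⟩) (.one ⟨12093, 2, 5⟩)) (.node 1 (.one ⟨8698, 2, 2⟩) (.one ⟨7484, 1, 1⟩))) (.node 2 (.node 1 (.one ⟨5564, 0, 2⟩) (.one ⟨15760, 2, 4⟩)) (.node 1 (.one ⟨7177, 0, 2⟩) (.one ⟨13068, 0, 2⟩)))))) (.node 16 (.node 8 (.node 4 (.node 2 (.node 1 (.one ⟨3960, 2, 4⟩) (.one ⟨1629, 2, 2⟩)) (.node 1 (.one ⟨16500, 0, 4⟩) (.one ⟨6764, 0, 2⟩))) (.node 2 (.node 1 (.one ⟨5673, 0, 2⟩) (.one ⟨9376, 2, 3⟩)) (.node 1 (.one ⟨3195, 2, 3⟩) (.one ⟨14720, 0, 5⟩)))) (.node 4 (.node 2 (.node 1 (.one ⟨10536, 0, 3⟩) (.one ⟨9201, 1, 1⟩)) (.node 1 (.one ⟨7270, 2, 5⟩) (.one ⟨16952, 2, 5⟩))) (.node 2 (.node 1 (.one ⟨14268, 2, 3⟩) (.one ⟨6753, 0, 3⟩)) (.node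 1 (.one ⟨2345, 0, 5⟩) (.one ⟨4332, 2, 4⟩))))) (.node 8 (.node 4 (.node 2 (.node 1 (.one ⟨14230, 2, 5⟩) (.one ⟨4317, 0, 3⟩)) (.node 1 (.one ⟨547, 2, 4⟩) (.one ⟨7340, 2, 3⟩))) (.node 2 (.node 1 (.one ⟨12924, 2, 4⟩) (.one ⟨11455, 2, 4⟩)) (.node 1 (.one ⟨2947, 1, 0⟩) (.one ⟨16184, 2, 4⟩)))) (.node 4 (.node 2 (.node 1 (.one ⟨6760, 0, 2⟩) (.one ⟨3267, 0, 3⟩)) (.node 1 (.one ⟨15492, 2, 5⟩) (.one ⟨8337, 0, 2⟩))) (.node 2 (.node 1 (.one ⟨13063, 0, 3⟩) (.one ⟨1563, 2, 1⟩)) (.node 1 (.one ⟨7377, 2, 3⟩) (.one ⟨9721, 2, 4⟩)))))))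
def par6_10_12 : Arr Par :=
  (.node 32 (.node 16 (.node 8 (.node 4 (.node 2 (.node 1 (.one ⟨14775, 1, 2⟩) (.one ⟨3452, 2, 4⟩)) (.node 1 (.one ⟨3220, 0, 4⟩) (.one ⟨15856, 1, 5⟩))) (.node 2 (.node 1 (.one ⟨767, 2, 4⟩) (.one ⟨12533, 2, 5⟩)) (.node 1 (.one ⟨11482, 2, 5⟩) (.one ⟨12246, 0, 4⟩)))) (.node 4 (.node 2 (.node 1 (.one ⟨15716, 0, 4⟩) (.one ⟨6452, 0, 4⟩)) (.node 1 (.one ⟨1403, 0, 4⟩) (.one ⟨921, 2, 5⟩))) (.node 2 (.node 1 (.one ⟨11897, 0, 3⟩) (.one ⟨2409, 0, 3⟩)) (.node 1 (.one ⟨6114, 0, 3⟩) (.one ⟨2316, 1, 0⟩))))) (.node 8 (.node 4 (.node 2 (.node 1 (.one ⟨13080, 0, 3⟩) (.one ⟨7456, 2, 3⟩)) (.node 1 (.one ⟨17029, 2, 2⟩) (.one ⟨10292, 0, 5⟩))) (.node 2 (.node 1 (.one ⟨8705, 2, 5⟩) (.one ⟨15935, 0, 4⟩))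 (.node 1 (.one ⟨7089, 2, 5⟩) (.one ⟨5699, 1, 1⟩)))) (.node 4 (.node 2 (.node 1 (.one ⟨577, 0, 1⟩) (.one ⟨575, 0, 1⟩)) (.node 1 (.one ⟨14051, 2, 3⟩) (.one ⟨576, 0, 1⟩))) (.node 2 (.node 1 (.one ⟨3464, 2, 4⟩) (.one ⟨13434, 2, 5⟩)) (.node 1 (.one ⟨9494, 1, 1⟩) (.one ⟨2852, 2, 4⟩)))))) (.node 16 (.node 8 (.node 4 (.node 2 (.node 1 (.one ⟨12652, 2, 4⟩) (.one ⟨7422, 2, 4⟩)) (.node 1 (.one ⟨6885, 0, 2⟩) (.one ⟨3619, 2, 5⟩))) (.node 2 (.node 1 (.one ⟨9315, 2, 1⟩) (.one ⟨8220, 0, 5⟩)) (.node 1 (.one ⟨14333, 2, 5⟩) (.one ⟨8747, 2, 5⟩)))) (.node 4 (.node 2 (.node 1 (.one ⟨14067, 2, 4⟩) (.one ⟨12878, 2, 5⟩)) (.node 1 (.one ⟨1100, 2, 4⟩) (.one ⟨10750, 2, 4⟩))) (.node 2 (.node 1 (.one ⟨16415, 0, 4⟩) (.one ⟨7961, 1, 5⟩))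 (.node 1 (.one ⟨16921, 2, 4⟩) (.one ⟨7648, 0, 2⟩))))) (.node 8 (.node 4 (.node 2 (.node 1 (.one ⟨4530, 0, 3⟩) (.one ⟨8152, 2, 5⟩)) (.node 1 (.one ⟨11173, 2, 3⟩) (.one ⟨11207, 0, 3⟩))) (.node 2 (.node 1 (.one ⟨14722, 2, 5⟩) (.one ⟨9581, 2, 4⟩)) (.node 1 (.one ⟨9048, 2, 5⟩) (.one ⟨12316, 2, 4⟩)))) (.node 4 (.node 2 (.node 1 (.one ⟨6702, 2, 3⟩) (.one ⟨16965, 2, 5⟩)) (.node 1 (.one ⟨2131, 2, 2⟩) (.one ⟨15084, 2, 4⟩))) (.node 2 (.node 1 (.one ⟨4139, 2, 3⟩) (.one ⟨9283, 2, 1⟩)) (.node 1 (.one ⟨9102, 2, 3⟩) (.one ⟨11856, 2, 2⟩)))))))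
def par6_10_13 : Arr Par :=
  (.node 32 (.node 16 (.node 8 (.node 4 (.node 2 (.node 1 (.one ⟨16410, 2, 3⟩) (.one ⟨10337, 1, 5⟩)) (.node 1 (.one ⟨12906, 0, 4⟩) (.one ⟨16458, 0, 4⟩))) (.node 2 (.node 1 (.one ⟨12900, 0, 2⟩) (.one ⟨7232, 2, 6⟩)) (.node 1 (.one ⟨2785, 2, 5⟩) (.one ⟨9554, 2, 2⟩)))) (.node 4 (.node 2 (.node 1 (.one ⟨1386, 2, 3⟩) (.one ⟨86, 2, 1⟩)) (.node 1 (.one ⟨9289, 2, 4⟩) (.one ⟨11312, 2, 5⟩))) (.node 2 (.node 1 (.one ⟨6216, 0, 5⟩) (.one ⟨3344, 2, 3⟩)) (.node 1 (.one ⟨11393, 2, 5⟩) (.one ⟨6833, 0, 5⟩))))) (.node 8 (.node 4 (.node 2 (.node 1 (.one ⟨16082, 0, 4⟩) (.one ⟨9914, 2, 4⟩)) (.node 1 (.one ⟨6096, 2, 2⟩) (.one ⟨15975, 0, 4⟩))) (.node 2 (.node 1 (.one ⟨13704, 2, 2⟩) (.one ⟨12882, 0, 2⟩))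 (.node 1 (.one ⟨4002, 1, 5⟩) (.one ⟨1209, 0, 4⟩)))) (.node 4 (.node 2 (.node 1 (.one ⟨16135, 2, 4⟩) (.one ⟨919, 0, 3⟩)) (.node 1 (.one ⟨4108, 2, 2⟩) (.one ⟨7442, 0, 2⟩))) (.node 2 (.node 1 (.one ⟨7516, 0, 3⟩) (.one ⟨7460, 0, 3⟩)) (.node 1 (.one ⟨14523, 2, 2⟩) (.one ⟨469, 2, 4⟩)))))) (.node 16 (.node 8 (.node 4 (.node 2 (.node 1 (.one ⟨971, 2, 3⟩) (.one ⟨569, 2, 3⟩)) (.node 1 (.one ⟨16884, 0, 3⟩) (.one ⟨6008, 0, 3⟩))) (.node 2 (.node 1 (.one ⟨2721, 0, 3⟩) (.one ⟨3662, 2, 3⟩)) (.node 1 (.one ⟨3657, 2, 4⟩) (.one ⟨6486, 2, 3⟩)))) (.node 4 (.node 2 (.node 1 (.one ⟨2993, 2, 3⟩) (.one ⟨1278, 2, 4⟩)) (.node 1 (.one ⟨7405, 2, 4⟩) (.one ⟨9537, 0, 3⟩))) (.node 2 (.node 1 (.one ⟨10278, 0, 3⟩) (.one ⟨2166, 1, 4⟩)) (.node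 1 (.one ⟨16777, 2, 3⟩) (.one ⟨6472, 2, 5⟩))))) (.node 8 (.node 4 (.node 2 (.node 1 (.one ⟨7311, 2, 4⟩) (.one ⟨8192, 0, 3⟩)) (.node 1 (.one ⟨2204, 0, 3⟩) (.one ⟨13888, 2, 4⟩))) (.node 2 (.node 1 (.one ⟨15055, 2, 4⟩) (.one ⟨8353, 2, 5⟩)) (.node 1 (.one ⟨8802, 2, 4⟩) (.one ⟨13695, 0, 5⟩)))) (.node 4 (.node 2 (.node 1 (.one ⟨12318, 2, 6⟩) (.one ⟨6121, 0, 5⟩)) (.node 1 (.one ⟨12131, 0, 1⟩) (.one ⟨2163, 0, 5⟩))) (.node 2 (.node 1 (.one ⟨16176, 0, 3⟩) (.one ⟨15423, 2, 5⟩)) (.node 1 (.one ⟨8335, 0, 3⟩) (.one ⟨1547, 2, 3⟩)))))))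
def par6_10_14 : Arr Par :=
  (.node 32 (.node 16 (.node 8 (.node 4 (.node 2 (.node 1 (.one ⟨7518, 2, 3⟩) (.one ⟨9455, 2, 4⟩)) (.node 1 (.one ⟨15594, 2, 3⟩) (.one ⟨9278, 2, 3⟩))) (.node 2 (.node 1 (.one ⟨15539, 2, 3⟩) (.one ⟨82, 2, 1⟩)) (.node 1 (.one ⟨7487, 2, 3⟩) (.one ⟨16058, 2, 5⟩)))) (.node 4 (.node 2 (.node 1 (.one ⟨16541, 2, 5⟩) (.one ⟨16813, 0, 4⟩)) (.node 1 (.one ⟨6863, 2, 6⟩) (.one ⟨6759, 2, 3⟩))) (.node 2 (.node 1 (.one ⟨6036, 2, 3⟩) (.one ⟨14292, 0, 4⟩)) (.node 1 (.one ⟨15669, 2, 5⟩) (.one ⟨9304, 0, 4⟩))))) (.node 8 (.node 4 (.node 2 (.node 1 (.one ⟨4741, 2, 5⟩) (.one ⟨10116, 0, 2⟩)) (.node 1 (.one ⟨8309, 2, 4⟩) (.one ⟨16151, 2, 4⟩))) (.node 2 (.node 1 (.one ⟨5871, 0, 2⟩) (.one ⟨13327, 2, 4⟩)) (.node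 1 (.one ⟨7497, 2, 5⟩) (.one ⟨6445, 2, 5⟩)))) (.node 4 (.node 2 (.node 1 (.one ⟨2532, 2, 3⟩) (.one ⟨13844, 2, 3⟩)) (.node 1 (.one ⟨3827, 1, 2⟩) (.one ⟨16817, 0, 2⟩))) (.node 2 (.node 1 (.one ⟨1796, 2, 2⟩) (.one ⟨8201, 0, 3⟩)) (.node 1 (.one ⟨10460, 2, 5⟩) (.one ⟨16387, 2, 3⟩)))))) (.node 16 (.node 8 (.node 4 (.node 2 (.node 1 (.one ⟨13062, 2, 4⟩) (.one ⟨13861, 0, 4⟩)) (.node 1 (.one ⟨13608, 2, 4⟩) (.one ⟨6799, 2, 5⟩))) (.node 2 (.node 1 (.one ⟨9714, 0, 2⟩) (.one ⟨5884, 0, 2⟩)) (.node 1 (.one ⟨1277, 2, 4⟩) (.one ⟨2246, 0, 5⟩)))) (.node 4 (.node 2 (.node 1 (.one ⟨5720, 0, 5⟩) (.one ⟨13926, 0, 4⟩)) (.node 1 (.one ⟨1085, 1, 4⟩) (.one ⟨4609, 0, 3⟩))) (.node 2 (.node 1 (.one ⟨3268, 2, 6⟩) (.one ⟨8284, 2, 6⟩)) (.node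 1 (.one ⟨12836, 0, 3⟩) (.one ⟨6899, 2, 2⟩))))) (.node 8 (.node 4 (.node 2 (.node 1 (.one ⟨6263, 1, 5⟩) (.one ⟨15487, 2, 4⟩)) (.node 1 (.one ⟨4421, 1, 5⟩) (.one ⟨7369, 0, 3⟩))) (.node 2 (.node 1 (.one ⟨14801, 0, 2⟩) (.one ⟨9425, 2, 4⟩)) (.node 1 (.one ⟨5588, 0, 4⟩) (.one ⟨9912, 2, 4⟩)))) (.node 4 (.node 2 (.node 1 (.one ⟨13186, 2, 5⟩) (.one ⟨3085, 2, 2⟩)) (.node 1 (.one ⟨4118, 2, 2⟩) (.one ⟨1703, 0, 4⟩))) (.node 2 (.node 1 (.one ⟨9664, 0, 4⟩) (.one ⟨12608, 1, 5⟩)) (.node 1 (.one ⟨9577, 0, 5⟩) (.one ⟨3601, 0, 3⟩)))))))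
def par6_10_15 : Arr Par :=
  (.node 32 (.node 16 (.node 8 (.node 4 (.node 2 (.node 1 (.one ⟨13212, 0, 4⟩) (.one ⟨7334, 0, 4⟩)) (.node 1 (.one ⟨13979, 0, 3⟩) (.one ⟨17044, 2, 5⟩))) (.node 2 (.node 1 (.one ⟨11608, 0, 3⟩) (.one ⟨5792, 0, 3⟩)) (.node 1 (.one ⟨15266, 0, 4⟩) (.one ⟨10067, 2, 2⟩)))) (.node 4 (.node 2 (.node 1 (.one ⟨13376, 2, 5⟩) (.one ⟨297, 2, 3⟩)) (.node 1 (.one ⟨5229, 2, 3⟩) (.one ⟨3984, 1, 0⟩))) (.node 2 (.node 1 (.one ⟨1995, 1, 0⟩) (.one ⟨5237, 2, 3⟩)) (.node 1 (.one ⟨1119, 1, 0⟩) (.one ⟨12222, 0, 5⟩))))) (.node 8 (.node 4 (.node 2 (.node 1 (.one ⟨3438, 2, 4⟩) (.one ⟨11991, 0, 5⟩)) (.node 1 (.one ⟨8585, 0, 4⟩) (.one ⟨7779, 2, 5⟩))) (.node 2 (.node 1 (.one ⟨9938, 0, 3⟩) (.one ⟨15383, 2, 5⟩))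 (.node 1 (.one ⟨1295, 2, 5⟩) (.one ⟨5294, 2, 4⟩)))) (.node 4 (.node 2 (.node 1 (.one ⟨9761, 2, 5⟩) (.one ⟨5391, 2, 2⟩)) (.node 1 (.one ⟨10268, 2, 2⟩) (.one ⟨16827, 0, 3⟩))) (.node 2 (.node 1 (.one ⟨16392, 0, 2⟩) (.one ⟨2315, 2, 4⟩)) (.node 1 (.one ⟨1607, 0, 2⟩) (.one ⟨11657, 2, 5⟩)))))) (.node 16 (.node 8 (.node 4 (.node 2 (.node 1 (.one ⟨10512, 1, 4⟩) (.one ⟨3909, 2, 3⟩)) (.node 1 (.one ⟨14137, 2, 5⟩) (.one ⟨9012, 2, 3⟩))) (.node 2 (.node 1 (.one ⟨10830, 2, 5⟩) (.one ⟨16766, 2, 5⟩)) (.node 1 (.one ⟨3204, 2, 4⟩) (.one ⟨1178, 2, 1⟩)))) (.node 4 (.node 2 (.node 1 (.one ⟨1146, 2, 5⟩) (.one ⟨9402, 2, 5⟩)) (.node 1 (.one ⟨9624, 2, 5⟩) (.one ⟨2854, 2, 4⟩))) (.node 2 (.node 1 (.one ⟨2835, 2, 2⟩) (.one ⟨4737, 0, 3⟩))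 (.node 1 (.one ⟨6994, 0, 2⟩) (.one ⟨4085, 2, 4⟩))))) (.node 8 (.node 4 (.node 2 (.node 1 (.one ⟨241, 2, 2⟩) (.one ⟨10731, 2, 6⟩)) (.node 1 (.one ⟨11785, 2, 5⟩) (.one ⟨1188, 2, 1⟩))) (.node 2 (.node 1 (.one ⟨4113, 2, 3⟩) (.one ⟨11774, 2, 4⟩)) (.node 1 (.one ⟨4470, 0, 3⟩) (.one ⟨10485, 0, 2⟩)))) (.node 4 (.node 2 (.node 1 (.one ⟨5224, 2, 4⟩) (.one ⟨6724, 0, 4⟩)) (.node 1 (.one ⟨4850, 1, 1⟩) (.one ⟨13463, 2, 4⟩))) (.node 2 (.node 1 (.one ⟨10698, 1, 1⟩) (.one ⟨2995, 1, 1⟩)) (.node 1 (.one ⟨7207, 0, 3⟩) (.one ⟨15133, 0, 2⟩)))))))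
def par6_10 : Arr Par :=
  (.node 512 (.node 256 (.node 128 (.node 64 par6_10_0 par6_10_1) (.node 64 par6_10_2 par6_10_3)) (.node 128 (.node 64 par6_10_4 par6_10_5) (.node 64 par6_10_6 par6_10_7))) (.node 256 (.node 128 (.node 64 par6_10_8 par6_10_9) (.node 64 par6_10_10 par6_10_11)) (.node 128 (.node 64 par6_10_12 par6_10_13) (.node 64 par6_10_14 par6_10_15))))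
def par6_11_0 : Arr Par :=
  (.node 32 (.node 16 (.node 8 (.node 4 (.node 2 (.node 1 (.one ⟨11932, 0, 3⟩) (.one ⟨2588, 2, 4⟩)) (.node 1 (.one ⟨10659, 2, 5⟩) (.one ⟨6712, 0, 4⟩))) (.node 2 (.node 1 (.one ⟨3592, 0, 4⟩) (.one ⟨14119, 0, 3⟩)) (.node 1 (.one ⟨13015, 0, 4⟩) (.one ⟨15971, 1, 2⟩)))) (.node 4 (.node 2 (.node 1 (.one ⟨2989, 2, 4⟩) (.one ⟨15517, 0, 3⟩)) (.node 1 (.one ⟨9470, 2, 5⟩) (.one ⟨11791, 2, 3⟩))) (.node 2 (.node 1 (.one ⟨6198, 2, 4⟩) (.one ⟨4644, 2, 1⟩)) (.node 1 (.one ⟨15626, 2, 3⟩) (.one ⟨12939, 2, 5⟩))))) (.node 8 (.node 4 (.node 2 (.node 1 (.one ⟨11042, 2, 3⟩) (.one ⟨11064, 2, 4⟩)) (.node 1 (.one ⟨12678, 2, 3⟩) (.one ⟨11925, 2, 5⟩))) (.node 2 (.node 1 (.one ⟨9302, 2, 1⟩) (.one ⟨9884, 2, 3⟩))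 (.node 1 (.one ⟨16897, 0, 3⟩) (.one ⟨2255, 0, 3⟩)))) (.node 4 (.node 2 (.node 1 (.one ⟨17086, 0, 3⟩) (.one ⟨7789, 2, 1⟩)) (.node 1 (.one ⟨7828, 0, 2⟩) (.one ⟨11500, 0, 2⟩))) (.node 2 (.node 1 (.one ⟨9601, 1, 1⟩) (.one ⟨599, 0, 4⟩)) (.node 1 (.one ⟨16961, 2, 4⟩) (.one ⟨5600, 0, 2⟩)))))) (.node 16 (.node 8 (.node 4 (.node 2 (.node 1 (.one ⟨386, 0, 3⟩) (.one ⟨1820, 0, 2⟩)) (.node 1 (.one ⟨5867, 0, 5⟩) (.one ⟨13982, 0, 2⟩))) (.node 2 (.node 1 (.one ⟨11478, 2, 5⟩) (.one ⟨829, 2, 2⟩)) (.node 1 (.one ⟨13640, 0, 3⟩) (.one ⟨947, 2, 3⟩)))) (.node 4 (.node 2 (.node 1 (.one ⟨7789, 1, 1⟩) (.one ⟨923, 2, 3⟩)) (.node 1 (.one ⟨702, 2, 3⟩) (.one ⟨11806, 2, 5⟩))) (.node 2 (.node 1 (.one ⟨11803, 2, 2⟩) (.one ⟨3344, 0, 3⟩)) (.node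 1 (.one ⟨1159, 0, 5⟩) (.one ⟨11461, 2, 4⟩))))) (.node 8 (.node 4 (.node 2 (.node 1 (.one ⟨10097, 2, 4⟩) (.one ⟨3935, 1, 0⟩)) (.node 1 (.one ⟨13883, 2, 5⟩) (.one ⟨3168, 2, 4⟩))) (.node 2 (.node 1 (.one ⟨718, 2, 4⟩) (.one ⟨7556, 2, 1⟩)) (.node 1 (.one ⟨185, 0, 3⟩) (.one ⟨923, 0, 3⟩)))) (.node 4 (.node 2 (.node 1 (.one ⟨178, 1, 4⟩) (.one ⟨8122, 2, 5⟩)) (.node 1 (.one ⟨1687, 2, 4⟩) (.one ⟨6630, 2, 6⟩))) (.node 2 (.node 1 (.one ⟨5185, 2, 3⟩) (.one ⟨16835, 2, 6⟩)) (.node 1 (.one ⟨10926, 2, 5⟩) (.one ⟨4406, 2, 2⟩)))))))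
def par6_11_1 : Arr Par :=
  (.node 32 (.node 16 (.node 8 (.node 4 (.node 2 (.node 1 (.one ⟨10005, 2, 2⟩) (.one ⟨4038, 2, 5⟩)) (.node 1 (.one ⟨9371, 2, 2⟩) (.one ⟨2186, 2, 2⟩))) (.node 2 (.node 1 (.one ⟨12216, 2, 2⟩) (.one ⟨1743, 2, 2⟩)) (.node 1 (.one ⟨12026, 2, 2⟩) (.one ⟨13992, 2, 4⟩)))) (.node 4 (.node 2 (.node 1 (.one ⟨6502, 0, 4⟩) (.one ⟨11875, 2, 4⟩)) (.node 1 (.one ⟨5630, 0, 4⟩) (.one ⟨3852, 2, 4⟩))) (.node 2 (.node 1 (.one ⟨11891, 2, 3⟩) (.one ⟨5826, 2, 2⟩)) (.node 1 (.one ⟨11882, 0, 4⟩) (.one ⟨13737, 1, 5⟩))))) (.node 8 (.node 4 (.node 2 (.node 1 (.one ⟨1661, 0, 4⟩) (.one ⟨5765, 2, 5⟩)) (.node 1 (.one ⟨16264, 0, 4⟩) (.one ⟨14461, 1, 5⟩))) (.node 2 (.node 1 (.one ⟨13714, 0, 4⟩) (.one ⟨8308, 0, 2⟩))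 (.node 1 (.one ⟨3133, 2, 4⟩) (.one ⟨2580, 0, 4⟩)))) (.node 4 (.node 2 (.node 1 (.one ⟨2739, 0, 4⟩) (.one ⟨12494, 2, 5⟩)) (.node 1 (.one ⟨10678, 2, 4⟩) (.one ⟨6082, 0, 4⟩))) (.node 2 (.node 1 (.one ⟨14955, 2, 4⟩) (.one ⟨8689, 2, 4⟩)) (.node 1 (.one ⟨7050, 2, 4⟩) (.one ⟨1947, 1, 0⟩)))))) (.node 16 (.node 8 (.node 4 (.node 2 (.node 1 (.one ⟨10019, 2, 6⟩) (.one ⟨390, 2, 4⟩)) (.node 1 (.one ⟨10018, 2, 4⟩) (.one ⟨2448, 1, 0⟩))) (.node 2 (.node 1 (.one ⟨10015, 2, 4⟩) (.one ⟨1051, 2, 3⟩)) (.node 1 (.one ⟨10022, 2, 1⟩) (.one ⟨7540, 2, 5⟩)))) (.node 4 (.node 2 (.node 1 (.one ⟨1990, 1, 0⟩) (.one ⟨945, 2, 4⟩)) (.node 1 (.one ⟨16222, 0, 2⟩) (.one ⟨13147, 2, 5⟩))) (.node 2 (.node 1 (.one ⟨15830, 1, 5⟩) (.one ⟨8117, 0, 3⟩))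 (.node 1 (.one ⟨448, 1, 0⟩) (.one ⟨14353, 2, 3⟩))))) (.node 8 (.node 4 (.node 2 (.node 1 (.one ⟨6557, 2, 3⟩) (.one ⟨9981, 2, 2⟩)) (.node 1 (.one ⟨1281, 2, 1⟩) (.one ⟨10095, 0, 4⟩))) (.node 2 (.node 1 (.one ⟨79, 1, 1⟩) (.one ⟨9988, 2, 3⟩)) (.node 1 (.one ⟨339, 2, 3⟩) (.one ⟨2682, 0, 2⟩)))) (.node 4 (.node 2 (.node 1 (.one ⟨11718, 2, 6⟩) (.one ⟨10348, 0, 2⟩)) (.node 1 (.one ⟨14038, 2, 4⟩) (.one ⟨13810, 0, 5⟩))) (.node 2 (.node 1 (.one ⟨16163, 2, 4⟩) (.one ⟨15031, 1, 5⟩)) (.node 1 (.one ⟨6354, 0, 5⟩) (.one ⟨2075, 2, 5⟩)))))))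
def par6_11_2 : Arr Par :=
  (.node 32 (.node 16 (.node 8 (.node 4 (.node 2 (.node 1 (.one ⟨10620, 2, 2⟩) (.one ⟨10149, 2, 4⟩)) (.node 1 (.one ⟨2564, 2, 2⟩) (.one ⟨7312, 2, 2⟩))) (.node 2 (.node 1 (.one ⟨9257, 0, 2⟩) (.one ⟨15400, 2, 2⟩)) (.node 1 (.one ⟨7370, 1, 3⟩) (.one ⟨3753, 1, 4⟩)))) (.node 4 (.node 2 (.node 1 (.one ⟨15524, 0, 4⟩) (.one ⟨12483, 2, 4⟩)) (.node 1 (.one ⟨10913, 2, 3⟩) (.one ⟨811, 1, 4⟩))) (.node 2 (.node 1 (.one ⟨11138, 0, 4⟩) (.one ⟨13142, 2, 5⟩)) (.node 1 (.one ⟨9976, 2, 3⟩) (.one ⟨5929, 0, 2⟩))))) (.node 8 (.node 4 (.node 2 (.node 1 (.one ⟨13780, 2, 5⟩) (.one ⟨10269, 2, 2⟩)) (.node 1 (.one ⟨9974, 0, 3⟩) (.one ⟨14108, 2, 5⟩))) (.node 2 (.node 1 (.one ⟨7758, 0, 3⟩) (.one ⟨9972, 2, 5⟩))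 (.node 1 (.one ⟨9331, 2, 1⟩) (.one ⟨11364, 2, 5⟩)))) (.node 4 (.node 2 (.node 1 (.one ⟨8655, 0, 4⟩) (.one ⟨13277, 0, 4⟩)) (.node 1 (.one ⟨9128, 2, 3⟩) (.one ⟨5926, 0, 2⟩))) (.node 2 (.node 1 (.one ⟨12602, 0, 5⟩) (.one ⟨9610, 2, 4⟩)) (.node 1 (.one ⟨3694, 2, 5⟩) (.one ⟨3547, 0, 4⟩)))))) (.node 16 (.node 8 (.node 4 (.node 2 (.node 1 (.one ⟨15265, 2, 2⟩) (.one ⟨11667, 2, 5⟩)) (.node 1 (.one ⟨5791, 2, 3⟩) (.one ⟨15132, 0, 4⟩))) (.node 2 (.node 1 (.one ⟨7035, 0, 5⟩) (.one ⟨8970, 2, 4⟩)) (.node 1 (.one ⟨11520, 1, 1⟩) (.one ⟨15268, 2, 2⟩)))) (.node 4 (.node 2 (.node 1 (.one ⟨16683, 2, 4⟩) (.one ⟨8969, 2, 4⟩)) (.node 1 (.one ⟨7042, 2, 4⟩) (.one ⟨4154, 2, 5⟩))) (.node 2 (.node 1 (.one ⟨8380, 0, 4⟩) (.one ⟨1870, 0, 4⟩))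 (.node 1 (.one ⟨11669, 2, 2⟩) (.one ⟨13475, 0, 2⟩))))) (.node 8 (.node 4 (.node 2 (.node 1 (.one ⟨761, 2, 4⟩) (.one ⟨759, 2, 4⟩)) (.node 1 (.one ⟨13480, 2, 3⟩) (.one ⟨8682, 0, 4⟩))) (.node 2 (.node 1 (.one ⟨758, 2, 4⟩) (.one ⟨760, 2, 3⟩)) (.node 1 (.one ⟨13481, 2, 5⟩) (.one ⟨4492, 2, 3⟩)))) (.node 4 (.node 2 (.node 1 (.one ⟨14918, 0, 2⟩) (.one ⟨4670, 0, 3⟩)) (.node 1 (.one ⟨14829, 2, 3⟩) (.one ⟨1980, 2, 3⟩))) (.node 2 (.node 1 (.one ⟨9494, 2, 1⟩) (.one ⟨9122, 2, 3⟩)) (.node 1 (.one ⟨17010, 2, 5⟩) (.one ⟨5688, 0, 3⟩)))))))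
def par6_11_3 : Arr Par :=
  (.node 32 (.node 16 (.node 8 (.node 4 (.node 2 (.node 1 (.one ⟨16804, 0, 3⟩) (.one ⟨7718, 0, 4⟩)) (.node 1 (.one ⟨14905, 0, 3⟩) (.one ⟨5305, 0, 2⟩))) (.node 2 (.node 1 (.one ⟨10340, 0, 3⟩) (.one ⟨3430, 0, 3⟩)) (.node 1 (.one ⟨12089, 0, 3⟩) (.one ⟨14073, 1, 4⟩)))) (.node 4 (.node 2 (.node 1 (.one ⟨3432, 0, 3⟩) (.one ⟨6359, 1, 4⟩)) (.node 1 (.one ⟨11226, 0, 3⟩) (.one ⟨12877, 1, 2⟩))) (.node 2 (.node 1 (.one ⟨9997, 2, 4⟩) (.one ⟨16466, 0, 3⟩)) (.node 1 (.one ⟨9211, 1, 3⟩) (.one ⟨6900, 2, 5⟩))))) (.node 8 (.node 4 (.node 2 (.node 1 (.one ⟨2340, 2, 4⟩) (.one ⟨7552, 2, 6⟩)) (.node 1 (.one ⟨3, 2, 5⟩) (.one ⟨15524, 2, 4⟩))) (.node 2 (.node 1 (.one ⟨10100, 2, 5⟩) (.one ⟨5587, 0, 4⟩)) (.node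 1 (.one ⟨16084, 0, 4⟩) (.one ⟨5850, 0, 2⟩)))) (.node 4 (.node 2 (.node 1 (.one ⟨6565, 2, 4⟩) (.one ⟨7331, 0, 2⟩)) (.node 1 (.one ⟨15332, 0, 4⟩) (.one ⟨9366, 0, 2⟩))) (.node 2 (.node 1 (.one ⟨3075, 2, 3⟩) (.one ⟨11337, 0, 5⟩)) (.node 1 (.one ⟨16102, 2, 4⟩) (.one ⟨1143, 2, 5⟩)))))) (.node 16 (.node 8 (.node 4 (.node 2 (.node 1 (.one ⟨1258, 2, 5⟩) (.one ⟨9399, 2, 4⟩)) (.node 1 (.one ⟨9514, 2, 3⟩) (.one ⟨1651, 2, 2⟩))) (.node 2 (.node 1 (.one ⟨1683, 2, 4⟩) (.one ⟨15539, 1, 3⟩)) (.node 1 (.one ⟨9701, 2, 4⟩) (.one ⟨2724, 2, 4⟩)))) (.node 4 (.node 2 (.node 1 (.one ⟨7579, 2, 4⟩) (.one ⟨9098, 2, 3⟩)) (.node 1 (.one ⟨4465, 2, 3⟩) (.one ⟨3167, 0, 4⟩))) (.node 2 (.node 1 (.one ⟨1211, 0, 1⟩) (.one ⟨16159, 2, 3⟩)) (.node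 1 (.one ⟨13084, 2, 3⟩) (.one ⟨16779, 0, 3⟩))))) (.node 8 (.node 4 (.node 2 (.node 1 (.one ⟨10860, 2, 2⟩) (.one ⟨5189, 0, 3⟩)) (.node 1 (.one ⟨8438, 1, 4⟩) (.one ⟨14531, 0, 3⟩))) (.node 2 (.node 1 (.one ⟨10989, 1, 4⟩) (.one ⟨189, 0, 3⟩)) (.node 1 (.one ⟨5335, 2, 3⟩) (.one ⟨15135, 2, 3⟩)))) (.node 4 (.node 2 (.node 1 (.one ⟨5747, 2, 3⟩) (.one ⟨2876, 2, 5⟩)) (.node 1 (.one ⟨9680, 2, 3⟩) (.one ⟨11316, 2, 5⟩))) (.node 2 (.node 1 (.one ⟨2695, 2, 2⟩) (.one ⟨7329, 2, 4⟩)) (.node 1 (.one ⟨14547, 2, 4⟩) (.one ⟨14365, 2, 3⟩)))))))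
def par6_11_4 : Arr Par :=
  (.node 32 (.node 16 (.node 8 (.node 4 (.node 2 (.node 1 (.one ⟨526, 1, 0⟩) (.one ⟨14377, 2, 5⟩)) (.node 1 (.one ⟨16524, 2, 6⟩) (.one ⟨5136, 2, 5⟩))) (.node 2 (.node 1 (.one ⟨1017, 2, 4⟩) (.one ⟨5148, 2, 4⟩)) (.node 1 (.one ⟨1106, 2, 5⟩) (.one ⟨3092, 0, 3⟩)))) (.node 4 (.node 2 (.node 1 (.one ⟨7371, 0, 3⟩) (.one ⟨13126, 0, 4⟩)) (.node 1 (.one ⟨16675, 0, 4⟩) (.one ⟨5185, 0, 3⟩))) (.node 2 (.node 1 (.one ⟨8722, 0, 3⟩) (.one ⟨11024, 0, 4⟩)) (.node 1 (.one ⟨15282, 0, 4⟩) (.one ⟨11099, 1, 3⟩))))) (.node 8 (.node 4 (.node 2 (.node 1 (.one ⟨7738, 0, 4⟩) (.one ⟨12911, 1, 5⟩)) (.node 1 (.one ⟨2198, 2, 3⟩) (.one ⟨8245, 0, 4⟩))) (.node 2 (.node 1 (.one ⟨3146, 0, 4⟩) (.one ⟨8615, 0, 4⟩)) (.node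 1 (.one ⟨1318, 0, 4⟩) (.one ⟨11239, 0, 2⟩)))) (.node 4 (.node 2 (.node 1 (.one ⟨16963, 0, 3⟩) (.one ⟨8652, 1, 2⟩)) (.node 1 (.one ⟨16734, 2, 2⟩) (.one ⟨16492, 2, 3⟩))) (.node 2 (.node 1 (.one ⟨391, 1, 0⟩) (.one ⟨16505, 2, 4⟩)) (.node 1 (.one ⟨13045, 2, 4⟩) (.one ⟨8615, 2, 4⟩)))))) (.node 16 (.node 8 (.node 4 (.node 2 (.node 1 (.one ⟨3367, 2, 5⟩) (.one ⟨12406, 0, 3⟩)) (.node 1 (.one ⟨12269, 0, 3⟩) (.one ⟨11407, 2, 3⟩))) (.node 2 (.node 1 (.one ⟨16471, 0, 3⟩) (.one ⟨15601, 0, 3⟩)) (.node 1 (.one ⟨15592, 0, 2⟩) (.one ⟨3476, 2, 2⟩)))) (.node 4 (.node 2 (.node 1 (.one ⟨12576, 2, 5⟩) (.one ⟨3993, 0, 4⟩)) (.node 1 (.one ⟨15158, 0, 4⟩) (.one ⟨16474, 0, 2⟩))) (.node 2 (.node 1 (.one ⟨11861, 2, 2⟩) (.one ⟨5100, 2, 5⟩))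 (.node 1 (.one ⟨15386, 0, 4⟩) (.one ⟨15020, 2, 3⟩))))) (.node 8 (.node 4 (.node 2 (.node 1 (.one ⟨1490, 0, 2⟩) (.one ⟨1369, 2, 1⟩)) (.node 1 (.one ⟨8300, 2, 3⟩) (.one ⟨15705, 0, 4⟩))) (.node 2 (.node 1 (.one ⟨3101, 2, 5⟩) (.one ⟨8015, 0, 4⟩)) (.node 1 (.one ⟨15606, 0, 3⟩) (.one ⟨5566, 0, 4⟩)))) (.node 4 (.node 2 (.node 1 (.one ⟨5978, 0, 4⟩) (.one ⟨2219, 0, 4⟩)) (.node 1 (.one ⟨13259, 2, 3⟩) (.one ⟨15613, 1, 3⟩))) (.node 2 (.node 1 (.one ⟨7190, 0, 1⟩) (.one ⟨9129, 2, 3⟩)) (.node 1 (.one ⟨426, 1, 4⟩) (.one ⟨6994, 2, 2⟩)))))))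
def par6_11_5 : Arr Par :=
  (.node 32 (.node 16 (.node 8 (.node 4 (.node 2 (.node 1 (.one ⟨6997, 2, 5⟩) (.one ⟨6993, 2, 4⟩)) (.node 1 (.one ⟨10669, 1, 5⟩) (.one ⟨93, 2, 4⟩))) (.node 2 (.node 1 (.one ⟨5553, 0, 1⟩) (.one ⟨219, 2, 5⟩)) (.node 1 (.one ⟨632, 2, 5⟩) (.one ⟨14061, 2, 5⟩)))) (.node 4 (.node 2 (.node 1 (.one ⟨5488, 2, 2⟩) (.one ⟨1968, 2, 4⟩)) (.node 1 (.one ⟨17102, 2, 5⟩) (.one ⟨1585, 2, 3⟩))) (.node 2 (.node 1 (.one ⟨8381, 1, 5⟩) (.one ⟨13796, 2, 4⟩)) (.node 1 (.one ⟨5041, 2, 4⟩) (.one ⟨14376, 0, 4⟩))))) (.node 8 (.node 4 (.node 2 (.node 1 (.one ⟨16720, 2, 5⟩) (.one ⟨6976, 2, 3⟩)) (.node 1 (.one ⟨6910, 2, 4⟩) (.one ⟨10745, 2, 4⟩))) (.node 2 (.node 1 (.one ⟨14915, 1, 3⟩) (.one ⟨4289, 2, 5⟩)) (.node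 1 (.one ⟨12526, 0, 3⟩) (.one ⟨5790, 2, 4⟩)))) (.node 4 (.node 2 (.node 1 (.one ⟨15461, 0, 2⟩) (.one ⟨1714, 0, 1⟩)) (.node 1 (.one ⟨6259, 2, 4⟩) (.one ⟨2389, 2, 4⟩))) (.node 2 (.node 1 (.one ⟨2259, 0, 5⟩) (.one ⟨13762, 2, 5⟩)) (.node 1 (.one ⟨111, 2, 4⟩) (.one ⟨14231, 1, 4⟩)))))) (.node 16 (.node 8 (.node 4 (.node 2 (.node 1 (.one ⟨14988, 1, 5⟩) (.one ⟨12985, 0, 3⟩)) (.node 1 (.one ⟨15192, 2, 5⟩) (.one ⟨2809, 1, 4⟩))) (.node 2 (.node 1 (.one ⟨8743, 2, 2⟩) (.one ⟨3527, 1, 4⟩)) (.node 1 (.one ⟨569, 0, 3⟩) (.one ⟨7810, 2, 3⟩)))) (.node 4 (.node 2 (.node 1 (.one ⟨11571, 2, 5⟩) (.one ⟨6730, 2, 2⟩)) (.node 1 (.one ⟨10845, 2, 2⟩) (.one ⟨16441, 2, 2⟩))) (.node 2 (.node 1 (.one ⟨4604, 2, 4⟩) (.one ⟨3972, 1, 5⟩)) (.node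 1 (.one ⟨853, 2, 4⟩) (.one ⟨16975, 0, 3⟩))))) (.node 8 (.node 4 (.node 2 (.node 1 (.one ⟨16993, 0, 3⟩) (.one ⟨4276, 2, 2⟩)) (.node 1 (.one ⟨5157, 2, 3⟩) (.one ⟨16983, 0, 4⟩))) (.node 2 (.node 1 (.one ⟨6509, 2, 2⟩) (.one ⟨11020, 2, 4⟩)) (.node 1 (.one ⟨9734, 2, 6⟩) (.one ⟨11270, 2, 5⟩)))) (.node 4 (.node 2 (.node 1 (.one ⟨14916, 2, 6⟩) (.one ⟨3105, 2, 5⟩)) (.node 1 (.one ⟨11972, 0, 2⟩) (.one ⟨15084, 0, 4⟩))) (.node 2 (.node 1 (.one ⟨1882, 0, 4⟩) (.one ⟨13842, 2, 2⟩)) (.node 1 (.one ⟨10768, 2, 3⟩) (.one ⟨1066, 0, 4⟩)))))))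
def par6_11_6 : Arr Par :=
  (.node 32 (.node 16 (.node 8 (.node 4 (.node 2 (.node 1 (.one ⟨14263, 2, 4⟩) (.one ⟨4095, 2, 6⟩)) (.node 1 (.one ⟨6679, 2, 6⟩) (.one ⟨6383, 2, 6⟩))) (.node 2 (.node 1 (.one ⟨4679, 2, 6⟩) (.one ⟨14855, 2, 6⟩)) (.node 1 (.one ⟨6423, 0, 3⟩) (.one ⟨13379, 2, 4⟩)))) (.node 4 (.node 2 (.node 1 (.one ⟨7440, 2, 5⟩) (.one ⟨10647, 2, 4⟩)) (.node 1 (.one ⟨8203, 2, 5⟩) (.one ⟨8420, 2, 4⟩))) (.node 2 (.node 1 (.one ⟨11107, 2, 4⟩) (.one ⟨5561, 2, 4⟩)) (.node 1 (.one ⟨11893, 2, 5⟩) (.one ⟨13060, 1, 4⟩))))) (.node 8 (.node 4 (.node 2 (.node 1 (.one ⟨5649, 2, 1⟩) (.one ⟨5962, 2, 1⟩)) (.node 1 (.one ⟨5565, 0, 4⟩) (.one ⟨3624, 1, 4⟩))) (.node 2 (.node 1 (.one ⟨4666, 2, 5⟩) (.one ⟨5009, 2, 1⟩)) (.node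 1 (.one ⟨651, 1, 4⟩) (.one ⟨4646, 0, 4⟩)))) (.node 4 (.node 2 (.node 1 (.one ⟨4601, 2, 3⟩) (.one ⟨3445, 2, 5⟩)) (.node 1 (.one ⟨10840, 2, 3⟩) (.one ⟨13196, 1, 1⟩))) (.node 2 (.node 1 (.one ⟨6298, 0, 4⟩) (.one ⟨6098, 0, 4⟩)) (.node 1 (.one ⟨11573, 2, 5⟩) (.one ⟨9625, 2, 5⟩)))))) (.node 16 (.node 8 (.node 4 (.node 2 (.node 1 (.one ⟨9416, 2, 1⟩) (.one ⟨1145, 2, 5⟩)) (.node 1 (.one ⟨2001, 0, 4⟩) (.one ⟨12216, 1, 2⟩))) (.node 2 (.node 1 (.one ⟨11891, 1, 3⟩) (.one ⟨15239, 2, 4⟩)) (.node 1 (.one ⟨15271, 2, 2⟩) (.one ⟨14899, 2, 5⟩)))) (.node 4 (.node 2 (.node 1 (.one ⟨8961, 2, 3⟩) (.one ⟨1999, 0, 2⟩)) (.node 1 (.one ⟨9493, 2, 3⟩) (.one ⟨5112, 2, 3⟩))) (.node 2 (.node 1 (.one ⟨11108, 2, 4⟩) (.one ⟨10380, 0, 4⟩)) (.node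 1 (.one ⟨8363, 2, 5⟩) (.one ⟨11131, 2, 6⟩))))) (.node 8 (.node 4 (.node 2 (.node 1 (.one ⟨1837, 2, 6⟩) (.one ⟨13490, 2, 3⟩)) (.node 1 (.one ⟨4065, 2, 5⟩) (.one ⟨9343, 2, 5⟩))) (.node 2 (.node 1 (.one ⟨2938, 2, 3⟩) (.one ⟨9095, 0, 3⟩)) (.node 1 (.one ⟨5381, 2, 5⟩) (.one ⟨15845, 2, 3⟩)))) (.node 4 (.node 2 (.node 1 (.one ⟨16537, 0, 4⟩) (.one ⟨1891, 2, 2⟩)) (.node 1 (.one ⟨12936, 0, 2⟩) (.one ⟨16549, 0, 2⟩))) (.node 2 (.node 1 (.one ⟨12637, 2, 6⟩) (.one ⟨16083, 2, 4⟩)) (.node 1 (.one ⟨5759, 0, 4⟩) (.one ⟨2078, 2, 3⟩)))))))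
def par6_11_7 : Arr Par :=
  (.node 32 (.node 16 (.node 8 (.node 4 (.node 2 (.node 1 (.one ⟨5269, 2, 3⟩) (.one ⟨15485, 0, 2⟩)) (.node 1 (.one ⟨16060, 2, 5⟩) (.one ⟨15665, 2, 5⟩))) (.node 2 (.node 1 (.one ⟨15610, 2, 4⟩) (.one ⟨5420, 2, 4⟩)) (.node 1 (.one ⟨8737, 0, 5⟩) (.one ⟨16122, 0, 3⟩)))) (.node 4 (.node 2 (.node 1 (.one ⟨7949, 0, 4⟩) (.one ⟨5787, 2, 2⟩)) (.node 1 (.one ⟨10717, 2, 2⟩) (.one ⟨7384, 2, 5⟩))) (.node 2 (.node 1 (.one ⟨11155, 2, 5⟩) (.one ⟨1431, 2, 1⟩)) (.node 1 (.one ⟨14556, 2, 5⟩) (.one ⟨8245, 2, 4⟩))))) (.node 8 (.node 4 (.node 2 (.node 1 (.one ⟨14704, 0, 4⟩) (.one ⟨16944, 2, 5⟩)) (.node 1 (.one ⟨15016, 2, 5⟩) (.one ⟨15988, 0, 3⟩))) (.node 2 (.node 1 (.one ⟨13152, 2, 4⟩) (.one ⟨4929, 0, 4⟩))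 (.node 1 (.one ⟨7127, 1, 5⟩) (.one ⟨12539, 2, 6⟩)))) (.node 4 (.node 2 (.node 1 (.one ⟨15366, 2, 3⟩) (.one ⟨2221, 0, 4⟩)) (.node 1 (.one ⟨1277, 1, 4⟩) (.one ⟨6393, 2, 4⟩))) (.node 2 (.node 1 (.one ⟨576, 1, 1⟩) (.one ⟨3736, 0, 3⟩)) (.node 1 (.one ⟨6920, 2, 5⟩) (.one ⟨750, 2, 3⟩)))))) (.node 16 (.node 8 (.node 4 (.node 2 (.node 1 (.one ⟨182, 2, 3⟩) (.one ⟨7783, 1, 5⟩)) (.node 1 (.one ⟨459, 2, 3⟩) (.one ⟨3539, 2, 4⟩))) (.node 2 (.node 1 (.one ⟨14250, 0, 3⟩) (.one ⟨3541, 2, 4⟩)) (.node 1 (.one ⟨3437, 0, 5⟩) (.one ⟨4306, 2, 4⟩)))) (.node 4 (.node 2 (.node 1 (.one ⟨2001, 2, 4⟩) (.one ⟨8067, 2, 4⟩)) (.node 1 (.one ⟨6465, 2, 3⟩) (.one ⟨4200, 1, 2⟩))) (.node 2 (.node 1 (.one ⟨11098, 2, 3⟩) (.one ⟨16775, 2, 3⟩)) (.node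 1 (.one ⟨15559, 2, 2⟩) (.one ⟨13979, 1, 3⟩))))) (.node 8 (.node 4 (.node 2 (.node 1 (.one ⟨9127, 1, 3⟩) (.one ⟨9164, 2, 5⟩)) (.node 1 (.one ⟨5791, 1, 3⟩) (.one ⟨4021, 2, 4⟩))) (.node 2 (.node 1 (.one ⟨12091, 2, 4⟩) (.one ⟨2688, 0, 4⟩)) (.node 1 (.one ⟨9648, 1, 3⟩) (.one ⟨6305, 0, 4⟩)))) (.node 4 (.node 2 (.node 1 (.one ⟨10463, 1, 1⟩) (.one ⟨11741, 1, 4⟩)) (.node 1 (.one ⟨2715, 2, 2⟩) (.one ⟨13463, 0, 4⟩))) (.node 2 (.node 1 (.one ⟨5335, 0, 3⟩) (.one ⟨13431, 0, 2⟩)) (.node 1 (.one ⟨4449, 1, 3⟩) (.one ⟨12907, 2, 5⟩)))))))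
def par6_11_8 : Arr Par :=
  (.node 32 (.node 16 (.node 8 (.node 4 (.node 2 (.node 1 (.one ⟨7901, 0, 4⟩) (.one ⟨10937, 2, 3⟩)) (.node 1 (.one ⟨11395, 0, 3⟩) (.one ⟨13059, 2, 5⟩))) (.node 2 (.node 1 (.one ⟨14931, 0, 4⟩) (.one ⟨13383, 1, 3⟩)) (.node 1 (.one ⟨3379, 2, 3⟩) (.one ⟨5251, 0, 4⟩)))) (.node 4 (.node 2 (.node 1 (.one ⟨10727, 1, 4⟩) (.one ⟨12348, 1, 4⟩)) (.node 1 (.one ⟨3626, 1, 4⟩) (.one ⟨1799, 2, 1⟩))) (.node 2 (.node 1 (.one ⟨7874, 2, 5⟩) (.one ⟨7697, 2, 1⟩)) (.node 1 (.one ⟨2215, 2, 1⟩) (.one ⟨12534, 2, 2⟩))))) (.node 8 (.node 4 (.node 2 (.node 1 (.one ⟨901, 0, 4⟩) (.one ⟨11081, 2, 2⟩)) (.node 1 (.one ⟨5384, 2, 2⟩) (.one ⟨3777, 2, 6⟩))) (.node 2 (.node 1 (.one ⟨489, 0, 4⟩) (.one ⟨3454, 2, 2⟩)) (.node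 1 (.one ⟨13020, 2, 2⟩) (.one ⟨7409, 2, 4⟩)))) (.node 4 (.node 2 (.node 1 (.one ⟨9426, 2, 6⟩) (.one ⟨3185, 2, 4⟩)) (.node 1 (.one ⟨13818, 2, 6⟩) (.one ⟨1466, 1, 1⟩))) (.node 2 (.node 1 (.one ⟨6551, 2, 6⟩) (.one ⟨14911, 2, 5⟩)) (.node 1 (.one ⟨793, 0, 4⟩) (.one ⟨8340, 2, 5⟩)))))) (.node 16 (.node 8 (.node 4 (.node 2 (.node 1 (.one ⟨17021, 0, 4⟩) (.one ⟨3885, 0, 4⟩)) (.node 1 (.one ⟨14131, 2, 5⟩) (.one ⟨12331, 0, 4⟩))) (.node 2 (.node 1 (.one ⟨8489, 2, 3⟩) (.one ⟨10741, 0, 4⟩)) (.node 1 (.one ⟨4685, 2, 5⟩) (.one ⟨9513, 2, 5⟩)))) (.node 4 (.node 2 (.node 1 (.one ⟨9417, 2, 5⟩) (.one ⟨2031, 1, 5⟩)) (.node 1 (.one ⟨1144, 2, 5⟩) (.one ⟨6343, 2, 4⟩))) (.node 2 (.node 1 (.one ⟨6321, 2, 4⟩) (.one ⟨11580, 1, 2⟩)) (.node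 1 (.one ⟨8378, 1, 3⟩) (.one ⟨8597, 1, 3⟩))))) (.node 8 (.node 4 (.node 2 (.node 1 (.one ⟨9646, 0, 4⟩) (.one ⟨5334, 2, 3⟩)) (.node 1 (.one ⟨12785, 0, 5⟩) (.one ⟨13477, 2, 2⟩))) (.node 2 (.node 1 (.one ⟨9330, 2, 5⟩) (.one ⟨13407, 2, 3⟩)) (.node 1 (.one ⟨9611, 2, 5⟩) (.one ⟨7350, 0, 4⟩)))) (.node 4 (.node 2 (.node 1 (.one ⟨9275, 2, 4⟩) (.one ⟨14050, 0, 3⟩)) (.node 1 (.one ⟨7561, 0, 2⟩) (.one ⟨3446, 2, 5⟩))) (.node 2 (.node 1 (.one ⟨2176, 2, 3⟩) (.one ⟨16990, 2, 2⟩)) (.node 1 (.one ⟨2146, 0, 5⟩) (.one ⟨16132, 2, 3⟩)))))))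
def par6_11_9 : Arr Par :=
  (.node 32 (.node 16 (.node 8 (.node 4 (.node 2 (.node 1 (.one ⟨17173, 1, 4⟩) (.one ⟨7097, 2, 3⟩)) (.node 1 (.one ⟨11315, 2, 5⟩) (.one ⟨9094, 2, 3⟩))) (.node 2 (.node 1 (.one ⟨13572, 2, 3⟩) (.one ⟨11791, 0, 3⟩)) (.node 1 (.one ⟨107, 2, 3⟩) (.one ⟨2131, 0, 2⟩)))) (.node 4 (.node 2 (.node 1 (.one ⟨2130, 0, 2⟩) (.one ⟨2127, 0, 2⟩)) (.node 1 (.one ⟨2134, 0, 2⟩) (.one ⟨1040, 0, 3⟩))) (.node 2 (.node 1 (.one ⟨51, 0, 2⟩) (.one ⟨552, 0, 3⟩)) (.node 1 (.one ⟨670, 0, 3⟩) (.one ⟨2219, 2, 4⟩))))) (.node 8 (.node 4 (.node 2 (.node 1 (.one ⟨9605, 0, 1⟩) (.one ⟨1732, 2, 4⟩)) (.node 1 (.one ⟨6940, 2, 5⟩) (.one ⟨2996, 2, 4⟩))) (.node 2 (.node 1 (.one ⟨5590, 2, 4⟩) (.one ⟨10463, 0, 1⟩)) (.node 1 (.one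 ⟨5963, 2, 4⟩) (.one ⟨5923, 2, 5⟩)))) (.node 4 (.node 2 (.node 1 (.one ⟨15433, 2, 4⟩) (.one ⟨15573, 2, 2⟩)) (.node 1 (.one ⟨5948, 2, 6⟩) (.one ⟨9708, 0, 4⟩))) (.node 2 (.node 1 (.one ⟨14954, 2, 4⟩) (.one ⟨8930, 1, 2⟩)) (.node 1 (.one ⟨5822, 0, 2⟩) (.one ⟨737, 2, 4⟩)))))) (.node 16 (.node 8 (.node 4 (.node 2 (.node 1 (.one ⟨696, 2, 5⟩) (.one ⟨11963, 0, 4⟩)) (.node 1 (.one ⟨1905, 0, 1⟩) (.one ⟨16259, 2, 3⟩))) (.node 2 (.node 1 (.one ⟨16261, 2, 5⟩) (.one ⟨10030, 1, 4⟩)) (.node 1 (.one ⟨3972, 0, 5⟩) (.one ⟨1388, 1, 4⟩)))) (.node 4 (.node 2 (.node 1 (.one ⟨2301, 2, 4⟩) (.one ⟨10317, 2, 6⟩)) (.node 1 (.one ⟨5866, 0, 3⟩) (.one ⟨14649, 2, 4⟩))) (.node 2 (.node 1 (.one ⟨86, 1, 1⟩) (.one ⟨9283, 1, 1⟩)) (.node 1 (.one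 ⟨6670, 2, 4⟩) (.one ⟨7185, 0, 4⟩))))) (.node 8 (.node 4 (.node 2 (.node 1 (.one ⟨6269, 2, 1⟩) (.one ⟨3971, 2, 3⟩)) (.node 1 (.one ⟨281, 2, 4⟩) (.one ⟨15573, 0, 2⟩))) (.node 2 (.node 1 (.one ⟨10583, 2, 3⟩) (.one ⟨1946, 0, 4⟩)) (.node 1 (.one ⟨14102, 2, 3⟩) (.one ⟨6317, 2, 3⟩)))) (.node 4 (.node 2 (.node 1 (.one ⟨13152, 1, 4⟩) (.one ⟨12026, 0, 2⟩)) (.node 1 (.one ⟨14235, 0, 2⟩) (.one ⟨12135, 0, 2⟩))) (.node 2 (.node 1 (.one ⟨14117, 0, 3⟩) (.one ⟨2029, 2, 4⟩)) (.node 1 (.one ⟨13904, 0, 5⟩) (.one ⟨4449, 0, 3⟩)))))))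
def par6_11_10 : Arr Par :=
  (.node 32 (.node 16 (.node 8 (.node 4 (.node 2 (.node 1 (.one ⟨3741, 0, 3⟩) (.one ⟨14551, 0, 3⟩)) (.node 1 (.one ⟨5132, 2, 2⟩) (.one ⟨5263, 0, 4⟩))) (.node 2 (.node 1 (.one ⟨12832, 1, 5⟩) (.one ⟨15266, 1, 4⟩)) (.node 1 (.one ⟨14867, 0, 1⟩) (.one ⟨16643, 2, 5⟩)))) (.node 4 (.node 2 (.node 1 (.one ⟨7271, 2, 5⟩) (.one ⟨8156, 2, 5⟩)) (.node 1 (.one ⟨6797, 1, 4⟩) (.one ⟨2991, 0, 3⟩))) (.node 2 (.node 1 (.one ⟨3762, 0, 4⟩) (.one ⟨1777, 0, 3⟩)) (.node 1 (.one ⟨4853, 0, 4⟩) (.one ⟨14983, 2, 5⟩))))) (.node 8 (.node 4 (.node 2 (.node 1 (.one ⟨9462, 2, 5⟩) (.one ⟨7341, 2, 5⟩)) (.node 1 (.one ⟨8911, 0, 4⟩) (.one ⟨8583, 0, 5⟩))) (.node 2 (.node 1 (.one ⟨16439, 2, 5⟩) (.one ⟨12316, 1, 4⟩)) (.node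 1 (.one ⟨2399, 1, 5⟩) (.one ⟨7957, 2, 2⟩)))) (.node 4 (.node 2 (.node 1 (.one ⟨13515, 1, 1⟩) (.one ⟨8205, 2, 5⟩)) (.node 1 (.one ⟨2643, 2, 3⟩) (.one ⟨12128, 1, 1⟩))) (.node 2 (.node 1 (.one ⟨7756, 2, 2⟩) (.one ⟨2304, 2, 4⟩)) (.node 1 (.one ⟨8279, 2, 2⟩) (.one ⟨7702, 2, 4⟩)))))) (.node 16 (.node 8 (.node 4 (.node 2 (.node 1 (.one ⟨1954, 0, 5⟩) (.one ⟨4734, 2, 4⟩)) (.node 1 (.one ⟨5821, 2, 5⟩) (.one ⟨14223, 0, 5⟩))) (.node 2 (.node 1 (.one ⟨13863, 2, 3⟩) (.one ⟨10490, 0, 5⟩)) (.node 1 (.one ⟨10801, 2, 5⟩) (.one ⟨16153, 2, 4⟩)))) (.node 4 (.node 2 (.node 1 (.one ⟨12544, 2, 4⟩) (.one ⟨11423, 2, 5⟩)) (.node 1 (.one ⟨5577, 0, 3⟩) (.one ⟨5015, 2, 5⟩))) (.node 2 (.node 1 (.one ⟨9087, 2, 4⟩) (.one ⟨6306, 2, 4⟩)) (.node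 1 (.one ⟨57, 2, 2⟩) (.one ⟨651, 0, 4⟩))))) (.node 8 (.node 4 (.node 2 (.node 1 (.one ⟨59, 0, 3⟩) (.one ⟨16386, 1, 3⟩)) (.node 1 (.one ⟨11784, 2, 5⟩) (.one ⟨8594, 2, 5⟩))) (.node 2 (.node 1 (.one ⟨12077, 0, 2⟩) (.one ⟨17109, 2, 3⟩)) (.node 1 (.one ⟨741, 0, 2⟩) (.one ⟨14740, 0, 4⟩)))) (.node 4 (.node 2 (.node 1 (.one ⟨9547, 2, 1⟩) (.one ⟨14068, 2, 4⟩)) (.node 1 (.one ⟨11728, 2, 5⟩) (.one ⟨3601, 2, 3⟩))) (.node 2 (.node 1 (.one ⟨9457, 0, 3⟩) (.one ⟨2218, 2, 2⟩)) (.node 1 (.one ⟨2260, 0, 5⟩) (.one ⟨4814, 0, 3⟩)))))))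
def par6_11_11 : Arr Par :=
  (.node 32 (.node 16 (.node 8 (.node 4 (.node 2 (.node 1 (.one ⟨14659, 2, 5⟩) (.one ⟨10910, 2, 3⟩)) (.node 1 (.one ⟨15147, 2, 5⟩) (.one ⟨15093, 0, 3⟩))) (.node 2 (.node 1 (.one ⟨10120, 2, 1⟩) (.one ⟨14031, 2, 4⟩)) (.node 1 (.one ⟨9666, 2, 5⟩) (.one ⟨367, 1, 0⟩)))) (.node 4 (.node 2 (.node 1 (.one ⟨7141, 0, 2⟩) (.one ⟨10341, 2, 4⟩)) (.node 1 (.one ⟨12951, 2, 5⟩) (.one ⟨7304, 2, 3⟩))) (.node 2 (.node 1 (.one ⟨4566, 1, 0⟩) (.one ⟨11374, 0, 1⟩)) (.node 1 (.one ⟨109, 2, 3⟩) (.one ⟨4279, 2, 5⟩))))) (.node 8 (.node 4 (.node 2 (.node 1 (.one ⟨1367, 0, 4⟩) (.one ⟨11997, 0, 4⟩)) (.node 1 (.one ⟨10998, 0, 1⟩) (.one ⟨13965, 2, 5⟩))) (.node 2 (.node 1 (.one ⟨6244, 2, 5⟩) (.one ⟨4292, 2, 3⟩))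 (.node 1 (.one ⟨13523, 1, 3⟩) (.one ⟨2169, 0, 4⟩)))) (.node 4 (.node 2 (.node 1 (.one ⟨11448, 2, 3⟩) (.one ⟨405, 1, 4⟩)) (.node 1 (.one ⟨5964, 0, 4⟩) (.one ⟨9901, 0, 4⟩))) (.node 2 (.node 1 (.one ⟨11245, 1, 4⟩) (.one ⟨8591, 2, 3⟩)) (.node 1 (.one ⟨4706, 1, 2⟩) (.one ⟨1564, 2, 1⟩)))))) (.node 16 (.node 8 (.node 4 (.node 2 (.node 1 (.one ⟨16841, 0, 4⟩) (.one ⟨6484, 1, 5⟩)) (.node 1 (.one ⟨470, 1, 4⟩) (.one ⟨8237, 2, 4⟩))) (.node 2 (.node 1 (.one ⟨420, 2, 5⟩) (.one ⟨14004, 2, 5⟩)) (.node 1 (.one ⟨12520, 2, 5⟩) (.one ⟨10182, 0, 2⟩)))) (.node 4 (.node 2 (.node 1 (.one ⟨11905, 2, 4⟩) (.one ⟨10672, 2, 4⟩)) (.node 1 (.one ⟨6572, 2, 5⟩) (.one ⟨11406, 2, 4⟩))) (.node 2 (.node 1 (.one ⟨15031, 0, 5⟩) (.one ⟨8487, 2, 4⟩))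 (.node 1 (.one ⟨14674, 0, 2⟩) (.one ⟨6012, 2, 4⟩))))) (.node 8 (.node 4 (.node 2 (.node 1 (.one ⟨14083, 2, 5⟩) (.one ⟨8584, 2, 4⟩)) (.node 1 (.one ⟨9564, 1, 4⟩) (.one ⟨11366, 2, 2⟩))) (.node 2 (.node 1 (.one ⟨3573, 0, 4⟩) (.one ⟨4620, 0, 4⟩)) (.node 1 (.one ⟨5676, 0, 3⟩) (.one ⟨4089, 0, 4⟩)))) (.node 4 (.node 2 (.node 1 (.one ⟨10855, 1, 5⟩) (.one ⟨8280, 2, 5⟩)) (.node 1 (.one ⟨9552, 2, 1⟩) (.one ⟨6293, 0, 4⟩))) (.node 2 (.node 1 (.one ⟨12811, 2, 5⟩) (.one ⟨5225, 2, 4⟩)) (.node 1 (.one ⟨15089, 2, 5⟩) (.one ⟨1286, 1, 1⟩)))))))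
def par6_11_12 : Arr Par :=
  (.node 32 (.node 16 (.node 8 (.node 4 (.node 2 (.node 1 (.one ⟨585, 1, 1⟩) (.one ⟨3945, 1, 5⟩)) (.node 1 (.one ⟨1817, 2, 4⟩) (.one ⟨15941, 2, 5⟩))) (.node 2 (.node 1 (.one ⟨7464, 2, 4⟩) (.one ⟨9437, 1, 1⟩)) (.node 1 (.one ⟨9566, 1, 1⟩) (.one ⟨5246, 2, 4⟩)))) (.node 4 (.node 2 (.node 1 (.one ⟨1842, 2, 6⟩) (.one ⟨9664, 2, 4⟩)) (.node 1 (.one ⟨13531, 2, 4⟩) (.one ⟨15244, 2, 4⟩))) (.node 2 (.node 1 (.one ⟨9212, 0, 1⟩) (.one ⟨7732, 2, 6⟩)) (.node 1 (.one ⟨5490, 0, 4⟩) (.one ⟨17022, 2, 4⟩))))) (.node 8 (.node 4 (.node 2 (.node 1 (.one ⟨8443, 2, 6⟩) (.one ⟨8655, 2, 4⟩)) (.node 1 (.one ⟨17103, 2, 3⟩) (.one ⟨2182, 2, 3⟩))) (.node 2 (.node 1 (.one ⟨10627, 2, 4⟩) (.one ⟨702, 0, 3⟩)) (.node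 1 (.one ⟨11373, 1, 4⟩) (.one ⟨1693, 2, 5⟩)))) (.node 4 (.node 2 (.node 1 (.one ⟨15611, 2, 5⟩) (.one ⟨6035, 2, 5⟩)) (.node 1 (.one ⟨11255, 2, 3⟩) (.one ⟨11505, 2, 4⟩))) (.node 2 (.node 1 (.one ⟨5931, 2, 3⟩) (.one ⟨15471, 2, 5⟩)) (.node 1 (.one ⟨2211, 2, 3⟩) (.one ⟨2228, 2, 2⟩)))))) (.node 16 (.node 8 (.node 4 (.node 2 (.node 1 (.one ⟨11672, 2, 4⟩) (.one ⟨13362, 2, 4⟩)) (.node 1 (.one ⟨3055, 2, 4⟩) (.one ⟨8112, 0, 5⟩))) (.node 2 (.node 1 (.one ⟨13095, 2, 4⟩) (.one ⟨11991, 1, 5⟩)) (.node 1 (.one ⟨1535, 2, 1⟩) (.one ⟨11427, 2, 5⟩)))) (.node 4 (.node 2 (.node 1 (.one ⟨4071, 0, 5⟩) (.one ⟨5021, 2, 4⟩)) (.node 1 (.one ⟨1628, 2, 6⟩) (.one ⟨4385, 1, 5⟩))) (.node 2 (.node 1 (.one ⟨4076, 0, 5⟩) (.one ⟨262, 0, 1⟩)) (.node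 1 (.one ⟨154, 0, 3⟩) (.one ⟨1731, 2, 4⟩))))) (.node 8 (.node 4 (.node 2 (.node 1 (.one ⟨12284, 2, 4⟩) (.one ⟨2222, 2, 4⟩)) (.node 1 (.one ⟨9180, 0, 1⟩) (.one ⟨2569, 2, 4⟩))) (.node 2 (.node 1 (.one ⟨11655, 2, 5⟩) (.one ⟨2227, 2, 4⟩)) (.node 1 (.one ⟨11930, 2, 4⟩) (.one ⟨5886, 2, 5⟩)))) (.node 4 (.node 2 (.node 1 (.one ⟨88, 2, 3⟩) (.one ⟨1126, 2, 2⟩)) (.node 1 (.one ⟨5895, 2, 4⟩) (.one ⟨9363, 2, 3⟩))) (.node 2 (.node 1 (.one ⟨13882, 2, 5⟩) (.one ⟨8575, 0, 4⟩)) (.node 1 (.one ⟨1626, 0, 4⟩) (.one ⟨10194, 0, 4⟩)))))))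
def par6_11_13 : Arr Par :=
  (.node 32 (.node 16 (.node 8 (.node 4 (.node 2 (.node 1 (.one ⟨10913, 0, 3⟩) (.one ⟨13886, 2, 5⟩)) (.node 1 (.one ⟨9189, 0, 4⟩) (.one ⟨6112, 2, 5⟩))) (.node 2 (.node 1 (.one ⟨6042, 2, 2⟩) (.one ⟨13155, 2, 3⟩)) (.node 1 (.one ⟨2535, 0, 3⟩) (.one ⟨4598, 2, 5⟩)))) (.node 4 (.node 2 (.node 1 (.one ⟨4255, 2, 4⟩) (.one ⟨4949, 2, 4⟩)) (.node 1 (.one ⟨13025, 0, 4⟩) (.one ⟨12786, 2, 3⟩))) (.node 2 (.node 1 (.one ⟨10278, 1, 3⟩) (.one ⟨13060, 2, 4⟩)) (.node 1 (.one ⟨12027, 2, 5⟩) (.one ⟨1500, 0, 4⟩))))) (.node 8 (.node 4 (.node 2 (.node 1 (.one ⟨764, 2, 3⟩) (.one ⟨428, 2, 3⟩)) (.node 1 (.one ⟨141, 2, 3⟩) (.one ⟨5662, 0, 5⟩))) (.node 2 (.node 1 (.one ⟨11647, 2, 5⟩) (.one ⟨11654, 2, 4⟩)) (.node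 1 (.one ⟨14866, 0, 3⟩) (.one ⟨1481, 2, 5⟩)))) (.node 4 (.node 2 (.node 1 (.one ⟨3821, 2, 3⟩) (.one ⟨6100, 2, 3⟩)) (.node 1 (.one ⟨13176, 0, 2⟩) (.one ⟨10513, 0, 3⟩))) (.node 2 (.node 1 (.one ⟨7658, 2, 2⟩) (.one ⟨504, 2, 4⟩)) (.node 1 (.one ⟨3851, 2, 5⟩) (.one ⟨6544, 2, 2⟩)))))) (.node 16 (.node 8 (.node 4 (.node 2 (.node 1 (.one ⟨679, 1, 0⟩) (.one ⟨8686, 2, 2⟩)) (.node 1 (.one ⟨2012, 1, 0⟩) (.one ⟨2088, 1, 0⟩))) (.node 2 (.node 1 (.one ⟨8814, 2, 4⟩) (.one ⟨15623, 0, 2⟩)) (.node 1 (.one ⟨5809, 2, 3⟩) (.one ⟨12128, 0, 1⟩)))) (.node 4 (.node 2 (.node 1 (.one ⟨16694, 0, 4⟩) (.one ⟨12397, 1, 1⟩)) (.node 1 (.one ⟨16586, 2, 4⟩) (.one ⟨17098, 1, 2⟩))) (.node 2 (.node 1 (.one ⟨5947, 2, 5⟩) (.one ⟨11399, 2, 5⟩)) (.node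 1 (.one ⟨5958, 2, 4⟩) (.one ⟨5362, 2, 5⟩))))) (.node 8 (.node 4 (.node 2 (.node 1 (.one ⟨9980, 2, 5⟩) (.one ⟨77, 0, 1⟩)) (.node 1 (.one ⟨78, 0, 1⟩) (.one ⟨17193, 2, 4⟩))) (.node 2 (.node 1 (.one ⟨5995, 2, 5⟩) (.one ⟨79, 0, 1⟩)) (.node 1 (.one ⟨9195, 1, 1⟩) (.one ⟨6314, 2, 5⟩)))) (.node 4 (.node 2 (.node 1 (.one ⟨1507, 2, 5⟩) (.one ⟨8753, 2, 5⟩)) (.node 1 (.one ⟨4550, 2, 5⟩) (.one ⟨7406, 2, 4⟩))) (.node 2 (.node 1 (.one ⟨4048, 0, 2⟩) (.one ⟨9371, 0, 2⟩)) (.node 1 (.one ⟨3514, 2, 6⟩) (.one ⟨7815, 2, 6⟩)))))))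
def par6_11_14 : Arr Par :=
  (.node 32 (.node 16 (.node 8 (.node 4 (.node 2 (.node 1 (.one ⟨13167, 2, 3⟩) (.one ⟨7459, 2, 6⟩)) (.node 1 (.one ⟨9284, 2, 1⟩) (.one ⟨11420, 2, 6⟩))) (.node 2 (.node 1 (.one ⟨5641, 2, 4⟩) (.one ⟨8081, 0, 4⟩)) (.node 1 (.one ⟨254, 0, 4⟩) (.one ⟨9148, 2, 6⟩)))) (.node 4 (.node 2 (.node 1 (.one ⟨9464, 0, 3⟩) (.one ⟨9989, 2, 3⟩)) (.node 1 (.one ⟨1910, 2, 6⟩) (.one ⟨9290, 2, 4⟩))) (.node 2 (.node 1 (.one ⟨84, 2, 1⟩) (.one ⟨9977, 2, 5⟩)) (.node 1 (.one ⟨1930, 2, 5⟩) (.one ⟨9826, 0, 4⟩))))) (.node 8 (.node 4 (.node 2 (.node 1 (.one ⟨1840, 2, 6⟩) (.one ⟨1299, 1, 0⟩)) (.node 1 (.one ⟨3008, 2, 2⟩) (.one ⟨1686, 2, 4⟩))) (.node 2 (.node 1 (.one ⟨1905, 1, 1⟩) (.one ⟨9547, 0, 1⟩)) (.node 1 (.one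 ⟨5441, 2, 5⟩) (.one ⟨7274, 2, 5⟩)))) (.node 4 (.node 2 (.node 1 (.one ⟨14723, 2, 5⟩) (.one ⟨15975, 2, 4⟩)) (.node 1 (.one ⟨8332, 2, 3⟩) (.one ⟨9051, 2, 5⟩))) (.node 2 (.node 1 (.one ⟨14647, 0, 2⟩) (.one ⟨4534, 0, 4⟩)) (.node 1 (.one ⟨6272, 2, 3⟩) (.one ⟨12813, 0, 3⟩)))))) (.node 16 (.node 8 (.node 4 (.node 2 (.node 1 (.one ⟨2460, 0, 3⟩) (.one ⟨8086, 0, 4⟩)) (.node 1 (.one ⟨15547, 0, 3⟩) (.one ⟨10847, 2, 5⟩))) (.node 2 (.node 1 (.one ⟨5199, 0, 3⟩) (.one ⟨6961, 0, 3⟩)) (.node 1 (.one ⟨16408, 0, 3⟩) (.one ⟨11670, 2, 5⟩)))) (.node 4 (.node 2 (.node 1 (.one ⟨2152, 0, 5⟩) (.one ⟨13727, 0, 5⟩)) (.node 1 (.one ⟨6484, 0, 5⟩) (.one ⟨13707, 2, 6⟩))) (.node 2 (.node 1 (.one ⟨6232, 0, 5⟩) (.one ⟨10727, 0, 4⟩)) (.node 1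 (.one ⟨3667, 2, 4⟩) (.one ⟨13028, 0, 3⟩))))) (.node 8 (.node 4 (.node 2 (.node 1 (.one ⟨13617, 2, 5⟩) (.one ⟨1593, 2, 4⟩)) (.node 1 (.one ⟨4589, 2, 5⟩) (.one ⟨5673, 2, 2⟩))) (.node 2 (.node 1 (.one ⟨8410, 2, 5⟩) (.one ⟨1497, 1, 1⟩)) (.node 1 (.one ⟨9520, 2, 1⟩) (.one ⟨9721, 0, 4⟩)))) (.node 4 (.node 2 (.node 1 (.one ⟨3443, 0, 1⟩) (.one ⟨7187, 0, 2⟩)) (.node 1 (.one ⟨14146, 0, 4⟩) (.one ⟨13401, 2, 3⟩))) (.node 2 (.node 1 (.one ⟨12363, 2, 3⟩) (.one ⟨15405, 0, 4⟩)) (.node 1 (.one ⟨6144, 0, 4⟩) (.one ⟨3715, 2, 4⟩)))))))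
def par6_11_15 : Arr Par :=
  (.node 32 (.node 16 (.node 8 (.node 4 (.node 2 (.node 1 (.one ⟨1988, 2, 4⟩) (.one ⟨3594, 2, 4⟩)) (.node 1 (.one ⟨543, 2, 4⟩) (.one ⟨11634, 2, 4⟩))) (.node 2 (.node 1 (.one ⟨9335, 2, 1⟩) (.one ⟨11772, 2, 4⟩)) (.node 1 (.one ⟨10075, 2, 5⟩) (.one ⟨4108, 0, 2⟩)))) (.node 4 (.node 2 (.node 1 (.one ⟨14112, 0, 2⟩) (.one ⟨16858, 0, 5⟩)) (.node 1 (.one ⟨3005, 0, 2⟩) (.one ⟨8930, 0, 2⟩))) (.node 2 (.node 1 (.one ⟨11633, 2, 3⟩) (.one ⟨6425, 1, 4⟩)) (.node 1 (.one ⟨6146, 0, 2⟩) (.one ⟨15394, 0, 4⟩))))) (.node 8 (.node 4 (.node 2 (.node 1 (.one ⟨7223, 2, 4⟩) (.one ⟨11832, 2, 5⟩)) (.node 1 (.one ⟨16494, 2, 3⟩) (.one ⟨5033, 0, 4⟩))) (.node 2 (.node 1 (.one ⟨6470, 2, 2⟩) (.one ⟨9181, 0, 1⟩)) (.node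 1 (.one ⟨16571, 0, 3⟩) (.one ⟨5866, 2, 3⟩)))) (.node 4 (.node 2 (.node 1 (.one ⟨1714, 1, 1⟩) (.one ⟨11199, 2, 4⟩)) (.node 1 (.one ⟨4839, 0, 4⟩) (.one ⟨15485, 2, 2⟩))) (.node 2 (.node 1 (.one ⟨15345, 2, 5⟩) (.one ⟨12871, 0, 4⟩)) (.node 1 (.one ⟨1751, 2, 2⟩) (.one ⟨5337, 1, 4⟩)))))) (.node 16 (.node 8 (.node 4 (.node 2 (.node 1 (.one ⟨12486, 1, 1⟩) (.one ⟨17119, 2, 4⟩)) (.node 1 (.one ⟨13044, 2, 4⟩) (.one ⟨16549, 1, 2⟩))) (.node 2 (.node 1 (.one ⟨12829, 2, 4⟩) (.one ⟨6149, 2, 5⟩)) (.node 1 (.one ⟨2654, 2, 5⟩) (.one ⟨1266, 1, 1⟩)))) (.node 4 (.node 2 (.node 1 (.one ⟨12135, 1, 2⟩) (.one ⟨1834, 2, 4⟩)) (.node 1 (.one ⟨10315, 2, 5⟩) (.one ⟨15126, 2, 3⟩))) (.node 2 (.node 1 (.one ⟨7477, 2, 4⟩) (.one ⟨5134, 2, 2⟩))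 (.node 1 (.one ⟨12905, 2, 5⟩) (.one ⟨16061, 2, 2⟩))))) (.node 8 (.node 4 (.node 2 (.node 1 (.one ⟨12303, 0, 2⟩) (.one ⟨12308, 0, 2⟩)) (.node 1 (.one ⟨2520, 2, 3⟩) (.one ⟨58, 0, 2⟩))) (.node 2 (.node 1 (.one ⟨12309, 0, 2⟩) (.one ⟨12306, 0, 2⟩)) (.node 1 (.one ⟨7460, 2, 3⟩) (.one ⟨4372, 0, 4⟩)))) (.node 4 (.node 2 (.node 1 (.one ⟨2202, 2, 5⟩) (.one ⟨6046, 2, 4⟩)) (.node 1 (.one ⟨6146, 1, 2⟩) (.one ⟨6141, 2, 5⟩))) (.node 2 (.node 1 (.one ⟨4145, 0, 3⟩) (.one ⟨1680, 0, 4⟩)) (.node 1 (.one ⟨1908, 2, 6⟩) (.one ⟨16426, 2, 3⟩)))))))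
def par6_11 : Arr Par :=
  (.node 512 (.node 256 (.node 128 (.node 64 par6_11_0 par6_11_1) (.node 64 par6_11_2 par6_11_3)) (.node 128 (.node 64 par6_11_4 par6_11_5) (.node 64 par6_11_6 par6_11_7))) (.node 256 (.node 128 (.node 64 par6_11_8 par6_11_9) (.node 64 par6_11_10 par6_11_11)) (.node 128 (.node 64 par6_11_12 par6_11_13) (.node 64 par6_11_14 par6_11_15))))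
def par6_12_0 : Arr Par :=
  (.node 32 (.node 16 (.node 8 (.node 4 (.node 2 (.node 1 (.one ⟨7133, 0, 3⟩) (.one ⟨5639, 2, 3⟩)) (.node 1 (.one ⟨7090, 2, 5⟩) (.one ⟨7128, 0, 4⟩))) (.node 2 (.node 1 (.one ⟨3207, 2, 3⟩) (.one ⟨7131, 0, 3⟩)) (.node 1 (.one ⟨13097, 2, 3⟩) (.one ⟨10464, 0, 1⟩)))) (.node 4 (.node 2 (.node 1 (.one ⟨14442, 2, 5⟩) (.one ⟨5241, 2, 6⟩)) (.node 1 (.one ⟨3986, 2, 6⟩) (.one ⟨7729, 2, 4⟩))) (.node 2 (.node 1 (.one ⟨8367, 2, 5⟩) (.one ⟨9698, 2, 4⟩)) (.node 1 (.one ⟨10879, 2, 4⟩) (.one ⟨1208, 1, 1⟩))))) (.node 8 (.node 4 (.node 2 (.node 1 (.one ⟨3727, 2, 5⟩) (.one ⟨16321, 1, 1⟩)) (.node 1 (.one ⟨69, 0, 1⟩) (.one ⟨1171, 0, 4⟩))) (.node 2 (.node 1 (.one ⟨70, 0, 1⟩) (.one ⟨67, 0, 1⟩)) (.node 1 (.one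 ⟨6142, 2, 5⟩) (.one ⟨1312, 2, 5⟩)))) (.node 4 (.node 2 (.node 1 (.one ⟨3900, 2, 5⟩) (.one ⟨16371, 2, 5⟩)) (.node 1 (.one ⟨14082, 2, 5⟩) (.one ⟨5773, 2, 4⟩))) (.node 2 (.node 1 (.one ⟨9374, 0, 3⟩) (.one ⟨12536, 2, 6⟩)) (.node 1 (.one ⟨4179, 0, 5⟩) (.one ⟨14930, 2, 5⟩)))))) (.node 16 (.node 8 (.node 4 (.node 2 (.node 1 (.one ⟨328, 2, 4⟩) (.one ⟨16668, 0, 2⟩)) (.node 1 (.one ⟨513, 0, 4⟩) (.one ⟨16670, 0, 4⟩))) (.node 2 (.node 1 (.one ⟨14929, 2, 3⟩) (.one ⟨794, 0, 4⟩)) (.node 1 (.one ⟨961, 2, 4⟩) (.one ⟨6639, 0, 2⟩)))) (.node 4 (.node 2 (.node 1 (.one ⟨14827, 0, 3⟩) (.one ⟨15924, 2, 5⟩)) (.node 1 (.one ⟨4510, 0, 5⟩) (.one ⟨8750, 0, 3⟩))) (.node 2 (.node 1 (.one ⟨12550, 2, 4⟩) (.one ⟨10446, 0, 5⟩)) (.node 1 (.one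 ⟨5371, 2, 4⟩) (.one ⟨8561, 2, 4⟩))))) (.node 8 (.node 4 (.node 2 (.node 1 (.one ⟨384, 0, 3⟩) (.one ⟨4845, 2, 5⟩)) (.node 1 (.one ⟨4811, 2, 3⟩) (.one ⟨1353, 2, 3⟩))) (.node 2 (.node 1 (.one ⟨2946, 0, 4⟩) (.one ⟨6124, 2, 5⟩)) (.node 1 (.one ⟨12480, 1, 4⟩) (.one ⟨7649, 0, 5⟩)))) (.node 4 (.node 2 (.node 1 (.one ⟨4948, 0, 3⟩) (.one ⟨8454, 2, 6⟩)) (.node 1 (.one ⟨4175, 0, 3⟩) (.one ⟨11214, 0, 1⟩))) (.node 2 (.node 1 (.one ⟨14517, 0, 3⟩) (.one ⟨9465, 0, 3⟩)) (.node 1 (.one ⟨2191, 2, 5⟩) (.one ⟨1253, 0, 4⟩)))))))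
def par6_12_1 : Arr Par :=
  (.node 32 (.node 16 (.node 8 (.node 4 (.node 2 (.node 1 (.one ⟨71, 0, 1⟩) (.one ⟨1563, 1, 1⟩)) (.node 1 (.one ⟨12554, 1, 1⟩) (.one ⟨8448, 2, 5⟩))) (.node 2 (.node 1 (.one ⟨73, 0, 1⟩) (.one ⟨2262, 2, 3⟩)) (.node 1 (.one ⟨8190, 2, 4⟩) (.one ⟨6577, 2, 6⟩)))) (.node 4 (.node 2 (.node 1 (.one ⟨13732, 0, 5⟩) (.one ⟨4192, 2, 4⟩)) (.node 1 (.one ⟨17101, 2, 5⟩) (.one ⟨8770, 0, 2⟩))) (.node 2 (.node 1 (.one ⟨17035, 2, 5⟩) (.one ⟨7024, 2, 3⟩)) (.node 1 (.one ⟨10173, 2, 5⟩) (.one ⟨4478, 1, 3⟩))))) (.node 8 (.node 4 (.node 2 (.node 1 (.one ⟨9492, 0, 4⟩) (.one ⟨3468, 2, 4⟩)) (.node 1 (.one ⟨13173, 2, 4⟩) (.one ⟨10710, 2, 2⟩))) (.node 2 (.node 1 (.one ⟨3946, 2, 5⟩) (.one ⟨15980, 2, 5⟩)) (.node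 1 (.one ⟨5819, 2, 2⟩) (.one ⟨10525, 2, 4⟩)))) (.node 4 (.node 2 (.node 1 (.one ⟨542, 0, 4⟩) (.one ⟨14366, 2, 6⟩)) (.node 1 (.one ⟨10247, 2, 2⟩) (.one ⟨6103, 2, 5⟩))) (.node 2 (.node 1 (.one ⟨2341, 2, 6⟩) (.one ⟨4165, 0, 3⟩)) (.node 1 (.one ⟨6438, 2, 4⟩) (.one ⟨12324, 0, 4⟩)))))) (.node 16 (.node 8 (.node 4 (.node 2 (.node 1 (.one ⟨8638, 2, 5⟩) (.one ⟨12926, 2, 4⟩)) (.node 1 (.one ⟨12322, 0, 5⟩) (.one ⟨14966, 1, 5⟩))) (.node 2 (.node 1 (.one ⟨4076, 1, 5⟩) (.one ⟨1758, 2, 4⟩)) (.node 1 (.one ⟨541, 0, 4⟩) (.one ⟨6106, 2, 4⟩)))) (.node 4 (.node 2 (.node 1 (.one ⟨3630, 2, 4⟩) (.one ⟨16814, 2, 4⟩)) (.node 1 (.one ⟨10842, 2, 4⟩) (.one ⟨10858, 2, 2⟩))) (.node 2 (.node 1 (.one ⟨14652, 0, 4⟩) (.one ⟨856, 1, 0⟩)) (.node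 1 (.one ⟨13411, 0, 1⟩) (.one ⟨9188, 0, 3⟩))))) (.node 8 (.node 4 (.node 2 (.node 1 (.one ⟨3790, 0, 3⟩) (.one ⟨11439, 0, 3⟩)) (.node 1 (.one ⟨8042, 2, 5⟩) (.one ⟨2506, 0, 5⟩))) (.node 2 (.node 1 (.one ⟨15773, 1, 4⟩) (.one ⟨2802, 0, 3⟩)) (.node 1 (.one ⟨11260, 2, 2⟩) (.one ⟨1609, 0, 2⟩)))) (.node 4 (.node 2 (.node 1 (.one ⟨13476, 2, 5⟩) (.one ⟨16468, 1, 2⟩)) (.node 1 (.one ⟨5260, 0, 4⟩) (.one ⟨2687, 2, 4⟩))) (.node 2 (.node 1 (.one ⟨3692, 2, 4⟩) (.one ⟨16362, 1, 4⟩)) (.node 1 (.one ⟨5700, 0, 3⟩) (.one ⟨6079, 2, 3⟩)))))))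
def par6_12_2 : Arr Par :=
  (.node 32 (.node 16 (.node 8 (.node 4 (.node 2 (.node 1 (.one ⟨1354, 2, 4⟩) (.one ⟨9206, 0, 5⟩)) (.node 1 (.one ⟨14406, 0, 2⟩) (.one ⟨7277, 0, 2⟩))) (.node 2 (.node 1 (.one ⟨2814, 0, 3⟩) (.one ⟨8656, 2, 5⟩)) (.node 1 (.one ⟨4576, 2, 3⟩) (.one ⟨6119, 0, 5⟩)))) (.node 4 (.node 2 (.node 1 (.one ⟨12936, 2, 2⟩) (.one ⟨14145, 0, 4⟩)) (.node 1 (.one ⟨9716, 1, 4⟩) (.one ⟨6801, 2, 2⟩))) (.node 2 (.node 1 (.one ⟨14154, 0, 3⟩) (.one ⟨12692, 2, 2⟩)) (.node 1 (.one ⟨16611, 2, 4⟩) (.one ⟨1352, 2, 5⟩))))) (.node 8 (.node 4 (.node 2 (.node 1 (.one ⟨12808, 2, 5⟩) (.one ⟨10977, 0, 3⟩)) (.node 1 (.one ⟨9709, 2, 5⟩) (.one ⟨9873, 2, 5⟩))) (.node 2 (.node 1 (.one ⟨13158, 0, 4⟩) (.one ⟨9912, 1, 4⟩)) (.node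 1 (.one ⟨1739, 2, 6⟩) (.one ⟨1033, 2, 4⟩)))) (.node 4 (.node 2 (.node 1 (.one ⟨16754, 2, 5⟩) (.one ⟨6548, 0, 4⟩)) (.node 1 (.one ⟨8677, 1, 5⟩) (.one ⟨13281, 0, 4⟩))) (.node 2 (.node 1 (.one ⟨8671, 1, 4⟩) (.one ⟨7423, 0, 4⟩)) (.node 1 (.one ⟨1034, 2, 4⟩) (.one ⟨16061, 0, 2⟩)))))) (.node 16 (.node 8 (.node 4 (.node 2 (.node 1 (.one ⟨10131, 2, 5⟩) (.one ⟨1556, 0, 4⟩)) (.node 1 (.one ⟨2482, 2, 5⟩) (.one ⟨7269, 2, 5⟩))) (.node 2 (.node 1 (.one ⟨14393, 0, 4⟩) (.one ⟨14856, 2, 3⟩)) (.node 1 (.one ⟨2510, 2, 4⟩) (.one ⟨9877, 2, 5⟩)))) (.node 4 (.node 2 (.node 1 (.one ⟨12877, 0, 2⟩) (.one ⟨10733, 2, 6⟩)) (.node 1 (.one ⟨2517, 2, 5⟩) (.one ⟨10439, 2, 6⟩))) (.node 2 (.node 1 (.one ⟨12953, 0, 2⟩) (.one ⟨15390, 0, 4⟩)) (.node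 1 (.one ⟨1890, 2, 6⟩) (.one ⟨4146, 2, 6⟩))))) (.node 8 (.node 4 (.node 2 (.node 1 (.one ⟨1652, 2, 5⟩) (.one ⟨5239, 2, 5⟩)) (.node 1 (.one ⟨3012, 2, 6⟩) (.one ⟨7574, 2, 4⟩))) (.node 2 (.node 1 (.one ⟨8369, 2, 6⟩) (.one ⟨6326, 2, 5⟩)) (.node 1 (.one ⟨8080, 2, 4⟩) (.one ⟨1368, 0, 3⟩)))) (.node 4 (.node 2 (.node 1 (.one ⟨14558, 2, 5⟩) (.one ⟨11163, 0, 3⟩)) (.node 1 (.one ⟨13136, 0, 3⟩) (.one ⟨2729, 2, 2⟩))) (.node 2 (.node 1 (.one ⟨12100, 0, 3⟩) (.one ⟨13126, 1, 4⟩)) (.node 1 (.one ⟨5332, 0, 5⟩) (.one ⟨13926, 1, 4⟩)))))))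
def par6_12_3 : Arr Par :=
  (.node 32 (.node 16 (.node 8 (.node 4 (.node 2 (.node 1 (.one ⟨15351, 0, 3⟩) (.one ⟨15112, 2, 1⟩)) (.node 1 (.one ⟨596, 2, 3⟩) (.one ⟨7033, 1, 3⟩))) (.node 2 (.node 1 (.one ⟨351, 1, 0⟩) (.one ⟨14692, 0, 3⟩)) (.node 1 (.one ⟨1155, 1, 0⟩) (.one ⟨9957, 0, 4⟩)))) (.node 4 (.node 2 (.node 1 (.one ⟨8652, 2, 2⟩) (.one ⟨13239, 2, 5⟩)) (.node 1 (.one ⟨16924, 2, 5⟩) (.one ⟨15096, 2, 3⟩))) (.node 2 (.node 1 (.one ⟨10979, 2, 3⟩) (.one ⟨7280, 2, 4⟩)) (.node 1 (.one ⟨3283, 2, 4⟩) (.one ⟨16100, 2, 4⟩))))) (.node 8 (.node 4 (.node 2 (.node 1 (.one ⟨15136, 2, 4⟩) (.one ⟨1816, 2, 4⟩)) (.node 1 (.one ⟨6886, 0, 2⟩) (.one ⟨9456, 0, 3⟩))) (.node 2 (.node 1 (.one ⟨15562, 0, 4⟩) (.one ⟨15133, 2, 2⟩)) (.node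 1 (.one ⟨16088, 2, 5⟩) (.one ⟨17124, 2, 4⟩)))) (.node 4 (.node 2 (.node 1 (.one ⟨15122, 2, 3⟩) (.one ⟨9186, 2, 3⟩)) (.node 1 (.one ⟨12123, 2, 4⟩) (.one ⟨6624, 2, 5⟩))) (.node 2 (.node 1 (.one ⟨8988, 2, 3⟩) (.one ⟨15559, 0, 2⟩)) (.node 1 (.one ⟨2127, 2, 2⟩) (.one ⟨2570, 0, 4⟩)))))) (.node 16 (.node 8 (.node 4 (.node 2 (.node 1 (.one ⟨4592, 2, 4⟩) (.one ⟨14200, 0, 3⟩)) (.node 1 (.one ⟨8799, 2, 3⟩) (.one ⟨5099, 2, 4⟩))) (.node 2 (.node 1 (.one ⟨7947, 2, 5⟩) (.one ⟨8380, 2, 4⟩)) (.node 1 (.one ⟨4308, 2, 4⟩) (.one ⟨8736, 2, 5⟩)))) (.node 4 (.node 2 (.node 1 (.one ⟨12979, 2, 4⟩) (.one ⟨14562, 2, 5⟩)) (.node 1 (.one ⟨2686, 2, 4⟩) (.one ⟨10392, 2, 4⟩))) (.node 2 (.node 1 (.one ⟨6339, 2, 5⟩) (.one ⟨15936, 0, 4⟩)) (.node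 1 (.one ⟨15831, 0, 2⟩) (.one ⟨3260, 2, 3⟩))))) (.node 8 (.node 4 (.node 2 (.node 1 (.one ⟨11311, 2, 5⟩) (.one ⟨12089, 2, 3⟩)) (.node 1 (.one ⟨3904, 1, 3⟩) (.one ⟨12101, 2, 4⟩))) (.node 2 (.node 1 (.one ⟨6820, 0, 2⟩) (.one ⟨2618, 0, 4⟩)) (.node 1 (.one ⟨11313, 0, 1⟩) (.one ⟨16728, 2, 5⟩)))) (.node 4 (.node 2 (.node 1 (.one ⟨10941, 0, 5⟩) (.one ⟨7982, 2, 5⟩)) (.node 1 (.one ⟨2945, 0, 3⟩) (.one ⟨4782, 0, 5⟩))) (.node 2 (.node 1 (.one ⟨4402, 2, 2⟩) (.one ⟨12706, 0, 3⟩)) (.node 1 (.one ⟨13414, 2, 6⟩) (.one ⟨3311, 1, 4⟩)))))))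
def par6_12_4 : Arr Par :=
  (.node 32 (.node 16 (.node 8 (.node 4 (.node 2 (.node 1 (.one ⟨10177, 2, 3⟩) (.one ⟨9464, 2, 3⟩)) (.node 1 (.one ⟨2148, 2, 3⟩) (.one ⟨1228, 2, 4⟩))) (.node 2 (.node 1 (.one ⟨14646, 0, 4⟩) (.one ⟨9199, 2, 3⟩)) (.node 1 (.one ⟨2212, 2, 3⟩) (.one ⟨629, 2, 3⟩)))) (.node 4 (.node 2 (.node 1 (.one ⟨14576, 1, 4⟩) (.one ⟨8861, 2, 6⟩)) (.node 1 (.one ⟨238, 1, 0⟩) (.one ⟨8855, 2, 3⟩))) (.node 2 (.node 1 (.one ⟨4074, 1, 0⟩) (.one ⟨371, 2, 3⟩)) (.node 1 (.one ⟨8858, 2, 5⟩) (.one ⟨6306, 0, 4⟩))))) (.node 8 (.node 4 (.node 2 (.node 1 (.one ⟨12874, 2, 4⟩) (.one ⟨11233, 0, 4⟩)) (.node 1 (.one ⟨14908, 2, 5⟩) (.one ⟨12351, 1, 5⟩))) (.node 2 (.node 1 (.one ⟨11732, 2, 5⟩) (.one ⟨14583, 2, 4⟩)) (.node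 1 (.one ⟨13865, 2, 5⟩) (.one ⟨9242, 2, 2⟩)))) (.node 4 (.node 2 (.node 1 (.one ⟨14378, 2, 5⟩) (.one ⟨5992, 2, 5⟩)) (.node 1 (.one ⟨2576, 2, 5⟩) (.one ⟨14028, 2, 5⟩))) (.node 2 (.node 1 (.one ⟨10614, 2, 5⟩) (.one ⟨913, 2, 4⟩)) (.node 1 (.one ⟨6286, 2, 2⟩) (.one ⟨6153, 2, 4⟩)))))) (.node 16 (.node 8 (.node 4 (.node 2 (.node 1 (.one ⟨8818, 2, 4⟩) (.one ⟨6262, 2, 4⟩)) (.node 1 (.one ⟨8717, 2, 4⟩) (.one ⟨4534, 2, 4⟩))) (.node 2 (.node 1 (.one ⟨2731, 2, 4⟩) (.one ⟨14303, 0, 1⟩)) (.node 1 (.one ⟨129, 2, 4⟩) (.one ⟨4181, 2, 4⟩)))) (.node 4 (.node 2 (.node 1 (.one ⟨592, 1, 1⟩) (.one ⟨7592, 0, 4⟩)) (.node 1 (.one ⟨10267, 2, 5⟩) (.one ⟨16837, 0, 3⟩))) (.node 2 (.node 1 (.one ⟨5494, 0, 4⟩) (.one ⟨15894, 0, 4⟩)) (.node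 1 (.one ⟨3757, 0, 4⟩) (.one ⟨10600, 2, 3⟩))))) (.node 8 (.node 4 (.node 2 (.node 1 (.one ⟨12648, 2, 4⟩) (.one ⟨15478, 2, 3⟩)) (.node 1 (.one ⟨16062, 2, 5⟩) (.one ⟨2832, 2, 3⟩))) (.node 2 (.node 1 (.one ⟨12856, 0, 4⟩) (.one ⟨6038, 2, 5⟩)) (.node 1 (.one ⟨3781, 0, 4⟩) (.one ⟨3439, 2, 4⟩)))) (.node 4 (.node 2 (.node 1 (.one ⟨13473, 0, 2⟩) (.one ⟨5344, 0, 2⟩)) (.node 1 (.one ⟨3677, 2, 4⟩) (.one ⟨13442, 0, 5⟩))) (.node 2 (.node 1 (.one ⟨10108, 2, 2⟩) (.one ⟨13386, 2, 4⟩)) (.node 1 (.one ⟨1018, 2, 4⟩) (.one ⟨943, 2, 3⟩)))))))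
def par6_12_5 : Arr Par :=
  (.node 32 (.node 16 (.node 8 (.node 4 (.node 2 (.node 1 (.one ⟨16870, 0, 4⟩) (.one ⟨515, 2, 3⟩)) (.node 1 (.one ⟨220, 2, 4⟩) (.one ⟨13150, 0, 4⟩))) (.node 2 (.node 1 (.one ⟨10360, 2, 4⟩) (.one ⟨10366, 2, 4⟩)) (.node 1 (.one ⟨4113, 0, 3⟩) (.one ⟨1092, 1, 3⟩)))) (.node 4 (.node 2 (.node 1 (.one ⟨13874, 0, 3⟩) (.one ⟨7730, 2, 4⟩)) (.node 1 (.one ⟨7343, 2, 3⟩) (.one ⟨5065, 2, 3⟩))) (.node 2 (.node 1 (.one ⟨10324, 0, 3⟩) (.one ⟨13284, 2, 4⟩)) (.node 1 (.one ⟨14711, 0, 3⟩) (.one ⟨8027, 2, 5⟩))))) (.node 8 (.node 4 (.node 2 (.node 1 (.one ⟨16409, 2, 3⟩) (.one ⟨5158, 2, 4⟩)) (.node 1 (.one ⟨12895, 2, 5⟩) (.one ⟨7064, 2, 5⟩))) (.node 2 (.node 1 (.one ⟨15581, 2, 3⟩) (.one ⟨1397, 0, 5⟩)) (.node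 1 (.one ⟨9891, 2, 5⟩) (.one ⟨13512, 2, 4⟩)))) (.node 4 (.node 2 (.node 1 (.one ⟨2388, 2, 4⟩) (.one ⟨13329, 2, 6⟩)) (.node 1 (.one ⟨2733, 2, 4⟩) (.one ⟨1743, 0, 2⟩))) (.node 2 (.node 1 (.one ⟨1937, 2, 4⟩) (.one ⟨3303, 0, 5⟩)) (.node 1 (.one ⟨365, 2, 4⟩) (.one ⟨7155, 1, 5⟩)))))) (.node 16 (.node 8 (.node 4 (.node 2 (.node 1 (.one ⟨5825, 2, 1⟩) (.one ⟨9197, 2, 1⟩)) (.node 1 (.one ⟨8514, 1, 3⟩) (.one ⟨8233, 2, 6⟩))) (.node 2 (.node 1 (.one ⟨158, 2, 5⟩) (.one ⟨13876, 2, 3⟩)) (.node 1 (.one ⟨12008, 2, 5⟩) (.one ⟨7873, 2, 5⟩)))) (.node 4 (.node 2 (.node 1 (.one ⟨13873, 0, 3⟩) (.one ⟨1570, 1, 5⟩)) (.node 1 (.one ⟨13269, 1, 4⟩) (.one ⟨2134, 2, 2⟩))) (.node 2 (.node 1 (.one ⟨15026, 0, 3⟩) (.one ⟨12871, 2, 4⟩)) (.node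 1 (.one ⟨5252, 0, 3⟩) (.one ⟨538, 2, 6⟩))))) (.node 8 (.node 4 (.node 2 (.node 1 (.one ⟨13352, 2, 4⟩) (.one ⟨5877, 2, 3⟩)) (.node 1 (.one ⟨16872, 2, 4⟩) (.one ⟨4892, 0, 2⟩))) (.node 2 (.node 1 (.one ⟨13248, 2, 4⟩) (.one ⟨5851, 2, 4⟩)) (.node 1 (.one ⟨16895, 2, 3⟩) (.one ⟨3976, 2, 6⟩)))) (.node 4 (.node 2 (.node 1 (.one ⟨2297, 0, 5⟩) (.one ⟨5777, 0, 5⟩)) (.node 1 (.one ⟨2492, 2, 4⟩) (.one ⟨14466, 0, 5⟩))) (.node 2 (.node 1 (.one ⟨10437, 2, 5⟩) (.one ⟨12482, 2, 4⟩)) (.node 1 (.one ⟨13827, 2, 4⟩) (.one ⟨7306, 0, 3⟩)))))))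
def par6_12_6 : Arr Par :=
  (.node 32 (.node 16 (.node 8 (.node 4 (.node 2 (.node 1 (.one ⟨6191, 2, 5⟩) (.one ⟨15029, 2, 3⟩)) (.node 1 (.one ⟨5283, 1, 5⟩) (.one ⟨16124, 0, 4⟩))) (.node 2 (.node 1 (.one ⟨6372, 2, 2⟩) (.one ⟨14968, 0, 4⟩)) (.node 1 (.one ⟨10564, 0, 2⟩) (.one ⟨12968, 2, 5⟩)))) (.node 4 (.node 2 (.node 1 (.one ⟨12941, 2, 3⟩) (.one ⟨16900, 1, 3⟩)) (.node 1 (.one ⟨187, 0, 3⟩) (.one ⟨16994, 0, 3⟩))) (.node 2 (.node 1 (.one ⟨4847, 2, 3⟩) (.one ⟨7981, 0, 5⟩)) (.node 1 (.one ⟨1426, 2, 4⟩) (.one ⟨7336, 2, 4⟩))))) (.node 8 (.node 4 (.node 2 (.node 1 (.one ⟨10416, 0, 4⟩) (.one ⟨2815, 2, 5⟩)) (.node 1 (.one ⟨5254, 2, 3⟩) (.one ⟨11122, 2, 4⟩))) (.node 2 (.node 1 (.one ⟨13517, 2, 1⟩) (.one ⟨15544, 2, 4⟩))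 (.node 1 (.one ⟨6811, 0, 4⟩) (.one ⟨7295, 1, 5⟩)))) (.node 4 (.node 2 (.node 1 (.one ⟨5001, 0, 3⟩) (.one ⟨10680, 2, 4⟩)) (.node 1 (.one ⟨5528, 2, 3⟩) (.one ⟨11512, 0, 4⟩))) (.node 2 (.node 1 (.one ⟨8199, 2, 4⟩) (.one ⟨13551, 2, 4⟩)) (.node 1 (.one ⟨3314, 0, 3⟩) (.one ⟨10996, 2, 5⟩)))))) (.node 16 (.node 8 (.node 4 (.node 2 (.node 1 (.one ⟨2947, 2, 5⟩) (.one ⟨9564, 2, 4⟩)) (.node 1 (.one ⟨1380, 2, 2⟩) (.one ⟨13075, 0, 4⟩))) (.node 2 (.node 1 (.one ⟨2936, 2, 3⟩) (.one ⟨11503, 0, 4⟩)) (.node 1 (.one ⟨1440, 2, 3⟩) (.one ⟨5751, 2, 1⟩)))) (.node 4 (.node 2 (.node 1 (.one ⟨11516, 0, 3⟩) (.one ⟨4634, 2, 3⟩)) (.node 1 (.one ⟨13081, 2, 3⟩) (.one ⟨2675, 2, 6⟩))) (.node 2 (.node 1 (.one ⟨10465, 2, 1⟩) (.one ⟨9096, 2, 3⟩))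 (.node 1 (.one ⟨16830, 2, 3⟩) (.one ⟨13735, 2, 4⟩))))) (.node 8 (.node 4 (.node 2 (.node 1 (.one ⟨2364, 2, 3⟩) (.one ⟨15059, 0, 2⟩)) (.node 1 (.one ⟨10266, 2, 5⟩) (.one ⟨14187, 2, 4⟩))) (.node 2 (.node 1 (.one ⟨2495, 2, 4⟩) (.one ⟨6392, 2, 4⟩)) (.node 1 (.one ⟨9613, 2, 1⟩) (.one ⟨13900, 2, 5⟩)))) (.node 4 (.node 2 (.node 1 (.one ⟨11462, 2, 4⟩) (.one ⟨1123, 2, 1⟩)) (.node 1 (.one ⟨10251, 0, 4⟩) (.one ⟨1168, 1, 1⟩))) (.node 2 (.node 1 (.one ⟨16008, 2, 3⟩) (.one ⟨8992, 2, 3⟩)) (.node 1 (.one ⟨9504, 1, 5⟩) (.one ⟨14151, 2, 4⟩)))))))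
def par6_12_7 : Arr Par :=
  (.node 32 (.node 16 (.node 8 (.node 4 (.node 2 (.node 1 (.one ⟨9328, 2, 1⟩) (.one ⟨4566, 2, 5⟩)) (.node 1 (.one ⟨8653, 2, 5⟩) (.one ⟨1884, 0, 2⟩))) (.node 2 (.node 1 (.one ⟨14359, 0, 2⟩) (.one ⟨7838, 2, 4⟩)) (.node 1 (.one ⟨3690, 2, 5⟩) (.one ⟨11368, 0, 1⟩)))) (.node 4 (.node 2 (.node 1 (.one ⟨7638, 2, 6⟩) (.one ⟨401, 2, 3⟩)) (.node 1 (.one ⟨11324, 0, 4⟩) (.one ⟨7636, 2, 5⟩))) (.node 2 (.node 1 (.one ⟨7632, 2, 6⟩) (.one ⟨615, 2, 5⟩)) (.node 1 (.one ⟨8, 2, 5⟩) (.one ⟨14273, 2, 5⟩))))) (.node 8 (.node 4 (.node 2 (.node 1 (.one ⟨13033, 2, 2⟩) (.one ⟨10154, 2, 5⟩)) (.node 1 (.one ⟨16955, 2, 5⟩) (.one ⟨10656, 1, 4⟩))) (.node 2 (.node 1 (.one ⟨11403, 2, 5⟩) (.one ⟨11993, 2, 5⟩)) (.node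 1 (.one ⟨14958, 2, 5⟩) (.one ⟨15201, 2, 5⟩)))) (.node 4 (.node 2 (.node 1 (.one ⟨612, 2, 5⟩) (.one ⟨62, 0, 4⟩)) (.node 1 (.one ⟨15205, 2, 6⟩) (.one ⟨676, 2, 5⟩))) (.node 2 (.node 1 (.one ⟨15202, 2, 6⟩) (.one ⟨7806, 0, 4⟩)) (.node 1 (.one ⟨143, 2, 5⟩) (.one ⟨9580, 2, 3⟩)))))) (.node 16 (.node 8 (.node 4 (.node 2 (.node 1 (.one ⟨1137, 1, 5⟩) (.one ⟨13102, 2, 4⟩)) (.node 1 (.one ⟨10247, 0, 2⟩) (.one ⟨1202, 0, 1⟩))) (.node 2 (.node 1 (.one ⟨4408, 0, 2⟩) (.one ⟨4236, 2, 4⟩)) (.node 1 (.one ⟨9511, 1, 1⟩) (.one ⟨13190, 2, 5⟩)))) (.node 4 (.node 2 (.node 1 (.one ⟨13836, 2, 5⟩) (.one ⟨3354, 2, 5⟩)) (.node 1 (.one ⟨7674, 2, 5⟩) (.one ⟨11582, 2, 5⟩))) (.node 2 (.node 1 (.one ⟨15378, 2, 5⟩) (.one ⟨1670, 2, 5⟩)) (.node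 1 (.one ⟨8898, 2, 5⟩) (.one ⟨1860, 1, 4⟩))))) (.node 8 (.node 4 (.node 2 (.node 1 (.one ⟨5959, 2, 2⟩) (.one ⟨6523, 0, 4⟩)) (.node 1 (.one ⟨4713, 2, 2⟩) (.one ⟨7778, 2, 5⟩))) (.node 2 (.node 1 (.one ⟨10399, 2, 4⟩) (.one ⟨3026, 2, 4⟩)) (.node 1 (.one ⟨17185, 2, 3⟩) (.one ⟨14469, 0, 3⟩)))) (.node 4 (.node 2 (.node 1 (.one ⟨6227, 2, 5⟩) (.one ⟨2139, 2, 6⟩)) (.node 1 (.one ⟨3936, 2, 5⟩) (.one ⟨16381, 2, 6⟩))) (.node 2 (.node 1 (.one ⟨13829, 2, 5⟩) (.one ⟨12508, 0, 4⟩)) (.node 1 (.one ⟨11574, 2, 4⟩) (.one ⟨11368, 2, 1⟩)))))))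
def par6_12_8 : Arr Par :=
  (.node 32 (.node 16 (.node 8 (.node 4 (.node 2 (.node 1 (.one ⟨11980, 2, 1⟩) (.one ⟨8371, 2, 3⟩)) (.node 1 (.one ⟨5696, 2, 1⟩) (.one ⟨17008, 1, 3⟩))) (.node 2 (.node 1 (.one ⟨9515, 2, 3⟩) (.one ⟨3480, 0, 4⟩)) (.node 1 (.one ⟨11104, 0, 4⟩) (.one ⟨14774, 0, 4⟩)))) (.node 4 (.node 2 (.node 1 (.one ⟨1828, 0, 4⟩) (.one ⟨15762, 0, 4⟩)) (.node 1 (.one ⟨4560, 0, 4⟩) (.one ⟨1403, 2, 4⟩))) (.node 2 (.node 1 (.one ⟨7611, 2, 5⟩) (.one ⟨12306, 2, 2⟩)) (.node 1 (.one ⟨4881, 0, 4⟩) (.one ⟨8058, 2, 6⟩))))) (.node 8 (.node 4 (.node 2 (.node 1 (.one ⟨8265, 0, 3⟩) (.one ⟨13558, 2, 5⟩)) (.node 1 (.one ⟨11286, 2, 4⟩) (.one ⟨5034, 2, 5⟩))) (.node 2 (.node 1 (.one ⟨2817, 2, 5⟩) (.one ⟨16420, 2, 6⟩)) (.node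 1 (.one ⟨14464, 2, 6⟩) (.one ⟨15496, 2, 1⟩)))) (.node 4 (.node 2 (.node 1 (.one ⟨11570, 0, 4⟩) (.one ⟨12556, 2, 1⟩)) (.node 1 (.one ⟨11555, 0, 4⟩) (.one ⟨4663, 2, 3⟩))) (.node 2 (.node 1 (.one ⟨5321, 0, 4⟩) (.one ⟨5939, 2, 3⟩)) (.node 1 (.one ⟨12937, 2, 5⟩) (.one ⟨1201, 2, 3⟩)))))) (.node 16 (.node 8 (.node 4 (.node 2 (.node 1 (.one ⟨1937, 0, 4⟩) (.one ⟨2727, 2, 2⟩)) (.node 1 (.one ⟨13269, 0, 4⟩) (.one ⟨13871, 2, 3⟩))) (.node 2 (.node 1 (.one ⟨15992, 2, 2⟩) (.one ⟨8877, 0, 5⟩)) (.node 1 (.one ⟨9129, 0, 3⟩) (.one ⟨3778, 0, 4⟩)))) (.node 4 (.node 2 (.node 1 (.one ⟨4207, 2, 2⟩) (.one ⟨10868, 2, 3⟩)) (.node 1 (.one ⟨16174, 1, 5⟩) (.one ⟨4134, 2, 4⟩))) (.node 2 (.node 1 (.one ⟨3418, 0, 4⟩) (.one ⟨1793, 0, 4⟩)) (.node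 1 (.one ⟨10951, 2, 5⟩) (.one ⟨7884, 0, 4⟩))))) (.node 8 (.node 4 (.node 2 (.node 1 (.one ⟨16030, 0, 2⟩) (.one ⟨120, 1, 4⟩)) (.node 1 (.one ⟨4560, 1, 4⟩) (.one ⟨6715, 0, 3⟩))) (.node 2 (.node 1 (.one ⟨14888, 0, 2⟩) (.one ⟨9348, 2, 5⟩)) (.node 1 (.one ⟨10096, 0, 4⟩) (.one ⟨15175, 0, 4⟩)))) (.node 4 (.node 2 (.node 1 (.one ⟨14315, 2, 3⟩) (.one ⟨12207, 1, 4⟩)) (.node 1 (.one ⟨4537, 2, 5⟩) (.one ⟨16864, 2, 6⟩))) (.node 2 (.node 1 (.one ⟨6985, 2, 5⟩) (.one ⟨3178, 1, 4⟩)) (.node 1 (.one ⟨1406, 1, 4⟩) (.one ⟨15618, 0, 4⟩)))))))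
def par6_12_9 : Arr Par :=
  (.node 32 (.node 16 (.node 8 (.node 4 (.node 2 (.node 1 (.one ⟨5246, 0, 4⟩) (.one ⟨5299, 0, 4⟩)) (.node 1 (.one ⟨15526, 0, 4⟩) (.one ⟨14887, 0, 2⟩))) (.node 2 (.node 1 (.one ⟨8241, 2, 4⟩) (.one ⟨6779, 2, 3⟩)) (.node 1 (.one ⟨7207, 2, 3⟩) (.one ⟨9176, 0, 3⟩)))) (.node 4 (.node 2 (.node 1 (.one ⟨10370, 0, 4⟩) (.one ⟨8564, 0, 4⟩)) (.node 1 (.one ⟨15690, 2, 3⟩) (.one ⟨4250, 0, 3⟩))) (.node 2 (.node 1 (.one ⟨3737, 0, 3⟩) (.one ⟨15211, 0, 1⟩)) (.node 1 (.one ⟨14709, 0, 4⟩) (.one ⟨10816, 2, 4⟩))))) (.node 8 (.node 4 (.node 2 (.node 1 (.one ⟨5161, 2, 4⟩) (.one ⟨12488, 2, 3⟩)) (.node 1 (.one ⟨3828, 0, 1⟩) (.one ⟨4680, 2, 4⟩))) (.node 2 (.node 1 (.one ⟨11402, 2, 4⟩) (.one ⟨13003, 0, 4⟩))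 (.node 1 (.one ⟨11897, 2, 3⟩) (.one ⟨4811, 0, 3⟩)))) (.node 4 (.node 2 (.node 1 (.one ⟨10406, 0, 3⟩) (.one ⟨14823, 2, 5⟩)) (.node 1 (.one ⟨10051, 0, 3⟩) (.one ⟨16896, 0, 3⟩))) (.node 2 (.node 1 (.one ⟨5809, 0, 3⟩) (.one ⟨16769, 0, 3⟩)) (.node 1 (.one ⟨6735, 2, 3⟩) (.one ⟨16329, 0, 4⟩)))))) (.node 16 (.node 8 (.node 4 (.node 2 (.node 1 (.one ⟨1436, 2, 5⟩) (.one ⟨2081, 2, 5⟩)) (.node 1 (.one ⟨827, 2, 2⟩) (.one ⟨10322, 2, 4⟩))) (.node 2 (.node 1 (.one ⟨10699, 2, 1⟩) (.one ⟨16324, 0, 2⟩)) (.node 1 (.one ⟨12549, 0, 4⟩) (.one ⟨7003, 2, 5⟩)))) (.node 4 (.node 2 (.node 1 (.one ⟨7193, 1, 4⟩) (.one ⟨16814, 1, 4⟩)) (.node 1 (.one ⟨5810, 0, 3⟩) (.one ⟨12546, 0, 4⟩))) (.node 2 (.node 1 (.one ⟨7136, 2, 3⟩) (.one ⟨16323,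 0, 1⟩)) (.node 1 (.one ⟨195, 1, 4⟩) (.one ⟨15318, 0, 4⟩))))) (.node 8 (.node 4 (.node 2 (.node 1 (.one ⟨13352, 0, 4⟩) (.one ⟨16582, 1, 4⟩)) (.node 1 (.one ⟨15213, 2, 4⟩) (.one ⟨5228, 0, 5⟩))) (.node 2 (.node 1 (.one ⟨7311, 0, 4⟩) (.one ⟨15821, 0, 4⟩)) (.node 1 (.one ⟨13639, 2, 4⟩) (.one ⟨5229, 0, 3⟩)))) (.node 4 (.node 2 (.node 1 (.one ⟨16993, 2, 3⟩) (.one ⟨3055, 0, 4⟩)) (.node 1 (.one ⟨9580, 0, 3⟩) (.one ⟨9441, 0, 3⟩))) (.node 2 (.node 1 (.one ⟨3108, 0, 3⟩) (.one ⟨12395, 0, 3⟩)) (.node 1 (.one ⟨11543, 2, 3⟩) (.one ⟨12215, 1, 5⟩)))))))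
def par6_12_10 : Arr Par :=
  (.node 32 (.node 16 (.node 8 (.node 4 (.node 2 (.node 1 (.one ⟨5644, 2, 4⟩) (.one ⟨8698, 1, 2⟩)) (.node 1 (.one ⟨16674, 0, 3⟩) (.one ⟨15821, 2, 4⟩))) (.node 2 (.node 1 (.one ⟨4419, 2, 5⟩) (.one ⟨2367, 2, 4⟩)) (.node 1 (.one ⟨14145, 2, 4⟩) (.one ⟨12967, 2, 4⟩)))) (.node 4 (.node 2 (.node 1 (.one ⟨11214, 2, 1⟩) (.one ⟨10263, 2, 4⟩)) (.node 1 (.one ⟨12253, 2, 5⟩) (.one ⟨5327, 2, 4⟩))) (.node 2 (.node 1 (.one ⟨3093, 2, 4⟩) (.one ⟨2311, 2, 2⟩)) (.node 1 (.one ⟨15817, 0, 4⟩) (.one ⟨4295, 2, 5⟩))))) (.node 8 (.node 4 (.node 2 (.node 1 (.one ⟨10141, 2, 5⟩) (.one ⟨13050, 0, 4⟩)) (.node 1 (.one ⟨17007, 2, 5⟩) (.one ⟨12204, 2, 6⟩))) (.node 2 (.node 1 (.one ⟨2967, 0, 4⟩) (.one ⟨13846, 0, 3⟩))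 (.node 1 (.one ⟨9121, 2, 6⟩) (.one ⟨5660, 0, 4⟩)))) (.node 4 (.node 2 (.node 1 (.one ⟨13820, 2, 3⟩) (.one ⟨16397, 0, 1⟩)) (.node 1 (.one ⟨10859, 2, 2⟩) (.one ⟨15187, 0, 4⟩))) (.node 2 (.node 1 (.one ⟨14304, 2, 3⟩) (.one ⟨8566, 0, 2⟩)) (.node 1 (.one ⟨11191, 2, 5⟩) (.one ⟨16639, 1, 3⟩)))))) (.node 16 (.node 8 (.node 4 (.node 2 (.node 1 (.one ⟨17145, 2, 4⟩) (.one ⟨11137, 0, 5⟩)) (.node 1 (.one ⟨4914, 0, 4⟩) (.one ⟨10160, 2, 4⟩))) (.node 2 (.node 1 (.one ⟨16644, 1, 5⟩) (.one ⟨3564, 0, 3⟩)) (.node 1 (.one ⟨8373, 2, 4⟩) (.one ⟨9687, 2, 3⟩)))) (.node 4 (.node 2 (.node 1 (.one ⟨1359, 2, 4⟩) (.one ⟨9189, 2, 4⟩)) (.node 1 (.one ⟨1689, 2, 5⟩) (.one ⟨611, 1, 1⟩))) (.node 2 (.node 1 (.one ⟨1210, 2, 4⟩) (.one ⟨9496, 2,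 4⟩)) (.node 1 (.one ⟨1607, 2, 2⟩) (.one ⟨3350, 0, 3⟩))))) (.node 8 (.node 4 (.node 2 (.node 1 (.one ⟨8404, 1, 4⟩) (.one ⟨11024, 1, 4⟩)) (.node 1 (.one ⟨4686, 2, 5⟩) (.one ⟨12498, 0, 3⟩))) (.node 2 (.node 1 (.one ⟨419, 0, 3⟩) (.one ⟨7981, 1, 5⟩)) (.node 1 (.one ⟨5617, 1, 4⟩) (.one ⟨13330, 0, 5⟩)))) (.node 4 (.node 2 (.node 1 (.one ⟨5447, 0, 4⟩) (.one ⟨4753, 0, 2⟩)) (.node 1 (.one ⟨10107, 2, 4⟩) (.one ⟨6807, 2, 4⟩))) (.node 2 (.node 1 (.one ⟨10112, 2, 4⟩) (.one ⟨10018, 0, 4⟩)) (.node 1 (.one ⟨1223, 0, 3⟩) (.one ⟨11850, 2, 3⟩)))))))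
def par6_12_11 : Arr Par :=
  (.node 32 (.node 16 (.node 8 (.node 4 (.node 2 (.node 1 (.one ⟨11330, 0, 3⟩) (.one ⟨13100, 2, 3⟩)) (.node 1 (.one ⟨11331, 0, 3⟩) (.one ⟨11332, 0, 3⟩))) (.node 2 (.node 1 (.one ⟨6783, 2, 3⟩) (.one ⟨1917, 2, 5⟩)) (.node 1 (.one ⟨5646, 2, 3⟩) (.one ⟨12225, 2, 5⟩)))) (.node 4 (.node 2 (.node 1 (.one ⟨16096, 2, 4⟩) (.one ⟨9360, 0, 1⟩)) (.node 1 (.one ⟨10485, 2, 2⟩) (.one ⟨8541, 2, 3⟩))) (.node 2 (.node 1 (.one ⟨5468, 2, 3⟩) (.one ⟨3119, 2, 5⟩)) (.node 1 (.one ⟨9634, 0, 4⟩) (.one ⟨3554, 2, 5⟩))))) (.node 8 (.node 4 (.node 2 (.node 1 (.one ⟨1733, 2, 5⟩) (.one ⟨4285, 2, 5⟩)) (.node 1 (.one ⟨2573, 2, 4⟩) (.one ⟨9331, 0, 1⟩))) (.node 2 (.node 1 (.one ⟨6373, 2, 4⟩) (.one ⟨5567, 0, 2⟩)) (.node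 1 (.one ⟨5966, 2, 4⟩) (.one ⟨229, 2, 3⟩)))) (.node 4 (.node 2 (.node 1 (.one ⟨11313, 2, 1⟩) (.one ⟨14305, 2, 1⟩)) (.node 1 (.one ⟨6753, 2, 3⟩) (.one ⟨11397, 2, 3⟩))) (.node 2 (.node 1 (.one ⟨1383, 2, 1⟩) (.one ⟨6809, 2, 2⟩)) (.node 1 (.one ⟨14352, 2, 3⟩) (.one ⟨8917, 0, 5⟩)))))) (.node 16 (.node 8 (.node 4 (.node 2 (.node 1 (.one ⟨6714, 2, 3⟩) (.one ⟨9264, 2, 3⟩)) (.node 1 (.one ⟨6401, 2, 5⟩) (.one ⟨3998, 2, 5⟩))) (.node 2 (.node 1 (.one ⟨15878, 2, 2⟩) (.one ⟨8590, 0, 4⟩)) (.node 1 (.one ⟨11577, 0, 5⟩) (.one ⟨12266, 2, 6⟩)))) (.node 4 (.node 2 (.node 1 (.one ⟨8918, 1, 5⟩) (.one ⟨15174, 2, 1⟩)) (.node 1 (.one ⟨3532, 2, 5⟩) (.one ⟨16968, 2, 5⟩))) (.node 2 (.node 1 (.one ⟨2404, 0, 5⟩) (.one ⟨10681, 2, 5⟩)) (.node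 1 (.one ⟨8539, 2, 4⟩) (.one ⟨10971, 0, 2⟩))))) (.node 8 (.node 4 (.node 2 (.node 1 (.one ⟨14235, 2, 2⟩) (.one ⟨7457, 1, 3⟩)) (.node 1 (.one ⟨9999, 2, 4⟩) (.one ⟨5726, 2, 2⟩))) (.node 2 (.node 1 (.one ⟨2366, 0, 3⟩) (.one ⟨14269, 0, 3⟩)) (.node 1 (.one ⟨1639, 0, 4⟩) (.one ⟨12188, 1, 3⟩)))) (.node 4 (.node 2 (.node 1 (.one ⟨4622, 2, 4⟩) (.one ⟨10101, 1, 4⟩)) (.node 1 (.one ⟨10454, 2, 3⟩) (.one ⟨5769, 2, 5⟩))) (.node 2 (.node 1 (.one ⟨13740, 2, 5⟩) (.one ⟨9017, 0, 3⟩)) (.node 1 (.one ⟨8957, 2, 5⟩) (.one ⟨7019, 0, 5⟩)))))))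
def par6_12_12 : Arr Par :=
  (.node 32 (.node 16 (.node 8 (.node 4 (.node 2 (.node 1 (.one ⟨11927, 0, 3⟩) (.one ⟨3281, 0, 3⟩)) (.node 1 (.one ⟨16204, 0, 3⟩) (.one ⟨5126, 1, 4⟩))) (.node 2 (.node 1 (.one ⟨10626, 0, 3⟩) (.one ⟨10431, 2, 5⟩)) (.node 1 (.one ⟨13684, 0, 3⟩) (.one ⟨10113, 2, 2⟩)))) (.node 4 (.node 2 (.node 1 (.one ⟨5232, 2, 2⟩) (.one ⟨6719, 0, 3⟩)) (.node 1 (.one ⟨3696, 1, 1⟩) (.one ⟨13381, 2, 4⟩))) (.node 2 (.node 1 (.one ⟨11975, 1, 1⟩) (.one ⟨950, 1, 1⟩)) (.node 1 (.one ⟨15040, 2, 2⟩) (.one ⟨2533, 2, 4⟩))))) (.node 8 (.node 4 (.node 2 (.node 1 (.one ⟨6588, 2, 4⟩) (.one ⟨6004, 2, 4⟩)) (.node 1 (.one ⟨3173, 2, 5⟩) (.one ⟨8282, 0, 3⟩))) (.node 2 (.node 1 (.one ⟨6305, 2, 4⟩) (.one ⟨7554, 2, 4⟩)) (.node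 1 (.one ⟨8572, 1, 1⟩) (.one ⟨14667, 0, 4⟩)))) (.node 4 (.node 2 (.node 1 (.one ⟨16972, 2, 2⟩) (.one ⟨3440, 2, 2⟩)) (.node 1 (.one ⟨2290, 0, 4⟩) (.one ⟨12503, 2, 5⟩))) (.node 2 (.node 1 (.one ⟨4408, 2, 2⟩) (.one ⟨14467, 2, 2⟩)) (.node 1 (.one ⟨6431, 2, 4⟩) (.one ⟨10041, 2, 5⟩)))))) (.node 16 (.node 8 (.node 4 (.node 2 (.node 1 (.one ⟨13288, 2, 2⟩) (.one ⟨12336, 0, 4⟩)) (.node 1 (.one ⟨8882, 2, 5⟩) (.one ⟨7861, 2, 4⟩))) (.node 2 (.node 1 (.one ⟨7147, 2, 5⟩) (.one ⟨11725, 2, 2⟩)) (.node 1 (.one ⟨11251, 2, 2⟩) (.one ⟨7004, 2, 3⟩)))) (.node 4 (.node 2 (.node 1 (.one ⟨10943, 0, 2⟩) (.one ⟨10946, 0, 2⟩)) (.node 1 (.one ⟨261, 0, 3⟩) (.one ⟨827, 0, 2⟩))) (.node 2 (.node 1 (.one ⟨10950, 0, 2⟩) (.one ⟨10947, 0, 2⟩)) (.node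 1 (.one ⟨872, 0, 3⟩) (.one ⟨6512, 0, 2⟩))))) (.node 8 (.node 4 (.node 2 (.node 1 (.one ⟨10047, 0, 4⟩) (.one ⟨9428, 0, 2⟩)) (.node 1 (.one ⟨6419, 0, 2⟩) (.one ⟨13860, 2, 3⟩))) (.node 2 (.node 1 (.one ⟨11304, 0, 2⟩) (.one ⟨9437, 2, 1⟩)) (.node 1 (.one ⟨17087, 2, 3⟩) (.one ⟨9377, 0, 4⟩)))) (.node 4 (.node 2 (.node 1 (.one ⟨14052, 0, 3⟩) (.one ⟨6050, 0, 2⟩)) (.node 1 (.one ⟨14185, 2, 5⟩) (.one ⟨11297, 1, 3⟩))) (.node 2 (.node 1 (.one ⟨7518, 0, 3⟩) (.one ⟨15544, 0, 4⟩)) (.node 1 (.one ⟨11301, 0, 3⟩) (.one ⟨1204, 0, 3⟩)))))))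
def par6_12_13 : Arr Par :=
  (.node 32 (.node 16 (.node 8 (.node 4 (.node 2 (.node 1 (.one ⟨10287, 0, 3⟩) (.one ⟨11870, 0, 3⟩)) (.node 1 (.one ⟨3330, 2, 3⟩) (.one ⟨10310, 0, 3⟩))) (.node 2 (.node 1 (.one ⟨11975, 2, 1⟩) (.one ⟨4421, 0, 5⟩)) (.node 1 (.one ⟨11837, 0, 3⟩) (.one ⟨2120, 2, 5⟩)))) (.node 4 (.node 2 (.node 1 (.one ⟨6346, 2, 1⟩) (.one ⟨10334, 2, 5⟩)) (.node 1 (.one ⟨6880, 1, 2⟩) (.one ⟨1620, 2, 4⟩))) (.node 2 (.node 1 (.one ⟨6452, 2, 4⟩) (.one ⟨10719, 2, 4⟩)) (.node 1 (.one ⟨14796, 0, 4⟩) (.one ⟨7185, 2, 4⟩))))) (.node 8 (.node 4 (.node 2 (.node 1 (.one ⟨16064, 0, 2⟩) (.one ⟨10795, 2, 4⟩)) (.node 1 (.one ⟨11690, 2, 4⟩) (.one ⟨4380, 2, 4⟩))) (.node 2 (.node 1 (.one ⟨1680, 2, 4⟩) (.one ⟨17002, 2, 2⟩))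 (.node 1 (.one ⟨8017, 0, 4⟩) (.one ⟨12721, 2, 3⟩)))) (.node 4 (.node 2 (.node 1 (.one ⟨12077, 1, 2⟩) (.one ⟨2723, 2, 3⟩)) (.node 1 (.one ⟨3178, 2, 4⟩) (.one ⟨12925, 1, 4⟩))) (.node 2 (.node 1 (.one ⟨8986, 2, 5⟩) (.one ⟨14810, 2, 4⟩)) (.node 1 (.one ⟨14059, 2, 3⟩) (.one ⟨8336, 0, 2⟩)))))) (.node 16 (.node 8 (.node 4 (.node 2 (.node 1 (.one ⟨11934, 0, 3⟩) (.one ⟨15612, 2, 2⟩)) (.node 1 (.one ⟨3434, 2, 4⟩) (.one ⟨11260, 0, 2⟩))) (.node 2 (.node 1 (.one ⟨6809, 1, 2⟩) (.one ⟨14034, 2, 5⟩)) (.node 1 (.one ⟨2041, 2, 3⟩) (.one ⟨5510, 2, 3⟩)))) (.node 4 (.node 2 (.node 1 (.one ⟨1590, 2, 5⟩) (.one ⟨1210, 1, 0⟩)) (.node 1 (.one ⟨11248, 0, 3⟩) (.one ⟨4115, 0, 3⟩))) (.node 2 (.node 1 (.one ⟨10197, 0, 4⟩) (.one ⟨8075, 2,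 5⟩)) (.node 1 (.one ⟨732, 1, 4⟩) (.one ⟨6763, 0, 2⟩))))) (.node 8 (.node 4 (.node 2 (.node 1 (.one ⟨5672, 0, 2⟩) (.one ⟨10494, 0, 2⟩)) (.node 1 (.one ⟨15623, 1, 2⟩) (.one ⟨3456, 2, 4⟩))) (.node 2 (.node 1 (.one ⟨10157, 2, 3⟩) (.one ⟨5955, 2, 3⟩)) (.node 1 (.one ⟨13842, 0, 2⟩) (.one ⟨11680, 0, 2⟩)))) (.node 4 (.node 2 (.node 1 (.one ⟨9335, 0, 1⟩) (.one ⟨15126, 0, 3⟩)) (.node 1 (.one ⟨16574, 0, 4⟩) (.one ⟨14263, 1, 4⟩))) (.node 2 (.node 1 (.one ⟨11963, 2, 4⟩) (.one ⟨5667, 0, 3⟩)) (.node 1 (.one ⟨424, 1, 4⟩) (.one ⟨13269, 2, 4⟩)))))))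
def par6_12_14 : Arr Par :=
  (.node 32 (.node 16 (.node 8 (.node 4 (.node 2 (.node 1 (.one ⟨1195, 2, 6⟩) (.one ⟨6576, 2, 1⟩)) (.node 1 (.one ⟨12433, 1, 4⟩) (.one ⟨2317, 2, 5⟩))) (.node 2 (.node 1 (.one ⟨15415, 1, 2⟩) (.one ⟨15815, 2, 5⟩)) (.node 1 (.one ⟨12875, 0, 4⟩) (.one ⟨2769, 0, 3⟩)))) (.node 4 (.node 2 (.node 1 (.one ⟨12614, 2, 4⟩) (.one ⟨16893, 2, 5⟩)) (.node 1 (.one ⟨14477, 2, 6⟩) (.one ⟨8959, 2, 5⟩))) (.node 2 (.node 1 (.one ⟨734, 1, 0⟩) (.one ⟨413, 2, 4⟩)) (.node 1 (.one ⟨4905, 2, 2⟩) (.one ⟨1220, 0, 5⟩))))) (.node 8 (.node 4 (.node 2 (.node 1 (.one ⟨13335, 0, 2⟩) (.one ⟨15875, 2, 5⟩)) (.node 1 (.one ⟨4854, 2, 3⟩) (.one ⟨4775, 0, 3⟩))) (.node 2 (.node 1 (.one ⟨2808, 2, 5⟩) (.one ⟨5620, 0, 3⟩)) (.node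 1 (.one ⟨16984, 0, 2⟩) (.one ⟨16818, 2, 5⟩)))) (.node 4 (.node 2 (.node 1 (.one ⟨12681, 2, 4⟩) (.one ⟨9246, 2, 4⟩)) (.node 1 (.one ⟨14382, 2, 4⟩) (.one ⟨14306, 2, 1⟩))) (.node 2 (.node 1 (.one ⟨5624, 0, 3⟩) (.one ⟨12611, 2, 5⟩)) (.node 1 (.one ⟨5388, 0, 2⟩) (.one ⟨1734, 2, 4⟩)))))) (.node 16 (.node 8 (.node 4 (.node 2 (.node 1 (.one ⟨15448, 2, 5⟩) (.one ⟨14701, 2, 6⟩)) (.node 1 (.one ⟨2226, 2, 4⟩) (.one ⟨6374, 2, 4⟩))) (.node 2 (.node 1 (.one ⟨9454, 0, 1⟩) (.one ⟨11209, 2, 4⟩)) (.node 1 (.one ⟨5588, 2, 4⟩) (.one ⟨7725, 2, 5⟩)))) (.node 4 (.node 2 (.node 1 (.one ⟨14383, 2, 5⟩) (.one ⟨13614, 1, 1⟩)) (.node 1 (.one ⟨11940, 2, 4⟩) (.one ⟨8295, 2, 4⟩))) (.node 2 (.node 1 (.one ⟨6794, 0, 4⟩) (.one ⟨14778, 0, 4⟩))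 (.node 1 (.one ⟨12201, 2, 6⟩) (.one ⟨5635, 2, 6⟩))))) (.node 8 (.node 4 (.node 2 (.node 1 (.one ⟨14225, 1, 5⟩) (.one ⟨5320, 0, 4⟩)) (.node 1 (.one ⟨9724, 2, 5⟩) (.one ⟨15857, 1, 2⟩))) (.node 2 (.node 1 (.one ⟨14207, 2, 1⟩) (.one ⟨2173, 2, 4⟩)) (.node 1 (.one ⟨2898, 1, 4⟩) (.one ⟨15143, 1, 4⟩)))) (.node 4 (.node 2 (.node 1 (.one ⟨8169, 2, 1⟩) (.one ⟨8965, 0, 4⟩)) (.node 1 (.one ⟨2225, 2, 1⟩) (.one ⟨8878, 0, 4⟩))) (.node 2 (.node 1 (.one ⟨3287, 2, 1⟩) (.one ⟨16329, 1, 4⟩)) (.node 1 (.one ⟨8842, 2, 1⟩) (.one ⟨10472, 2, 3⟩)))))))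
def par6_12_15 : Arr Par :=
  (.node 32 (.node 16 (.node 8 (.node 4 (.node 2 (.node 1 (.one ⟨8110, 2, 3⟩) (.one ⟨15591, 2, 1⟩)) (.node 1 (.one ⟨4742, 2, 3⟩) (.one ⟨6989, 2, 5⟩))) (.node 2 (.node 1 (.one ⟨5922, 0, 3⟩) (.one ⟨15045, 0, 4⟩)) (.node 1 (.one ⟨16393, 2, 5⟩) (.one ⟨15410, 1, 3⟩)))) (.node 4 (.node 2 (.node 1 (.one ⟨1161, 2, 5⟩) (.one ⟨6157, 0, 4⟩)) (.node 1 (.one ⟨15356, 0, 5⟩) (.one ⟨6464, 1, 2⟩))) (.node 2 (.node 1 (.one ⟨1860, 0, 4⟩) (.one ⟨16677, 2, 5⟩)) (.node 1 (.one ⟨11955, 2, 6⟩) (.one ⟨1565, 0, 4⟩))))) (.node 8 (.node 4 (.node 2 (.node 1 (.one ⟨8838, 0, 4⟩) (.one ⟨2821, 0, 4⟩)) (.node 1 (.one ⟨8191, 1, 3⟩) (.one ⟨149, 2, 6⟩))) (.node 2 (.node 1 (.one ⟨1878, 2, 4⟩) (.one ⟨4632, 0, 3⟩)) (.node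 1 (.one ⟨6267, 0, 4⟩) (.one ⟨9352, 1, 5⟩)))) (.node 4 (.node 2 (.node 1 (.one ⟨9382, 2, 4⟩) (.one ⟨16378, 2, 4⟩)) (.node 1 (.one ⟨588, 2, 1⟩) (.one ⟨8359, 2, 3⟩))) (.node 2 (.node 1 (.one ⟨9487, 2, 5⟩) (.one ⟨6756, 0, 3⟩)) (.node 1 (.one ⟨1199, 2, 2⟩) (.one ⟨8338, 0, 3⟩)))))) (.node 16 (.node 8 (.node 4 (.node 2 (.node 1 (.one ⟨16512, 0, 4⟩) (.one ⟨12321, 2, 3⟩)) (.node 1 (.one ⟨15015, 2, 5⟩) (.one ⟨3502, 2, 1⟩))) (.node 2 (.node 1 (.one ⟨14261, 0, 3⟩) (.one ⟨4861, 0, 3⟩)) (.node 1 (.one ⟨14457, 2, 2⟩) (.one ⟨12137, 2, 2⟩)))) (.node 4 (.node 2 (.node 1 (.one ⟨13513, 0, 1⟩) (.one ⟨13177, 0, 4⟩)) (.node 1 (.one ⟨10162, 0, 4⟩) (.one ⟨17052, 0, 5⟩))) (.node 2 (.node 1 (.one ⟨14072, 0, 4⟩) (.one ⟨4072, 1, 5⟩)) (.node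 1 (.one ⟨7609, 2, 5⟩) (.one ⟨17161, 2, 5⟩))))) (.node 8 (.node 4 (.node 2 (.node 1 (.one ⟨1107, 0, 4⟩) (.one ⟨12136, 2, 5⟩)) (.node 1 (.one ⟨11350, 2, 5⟩) (.one ⟨8062, 2, 5⟩))) (.node 2 (.node 1 (.one ⟨6964, 2, 4⟩) (.one ⟨4707, 2, 4⟩)) (.node 1 (.one ⟨928, 2, 4⟩) (.one ⟨8880, 2, 5⟩)))) (.node 4 (.node 2 (.node 1 (.one ⟨6512, 2, 2⟩) (.one ⟨12736, 2, 2⟩)) (.node 1 (.one ⟨10039, 2, 5⟩) (.one ⟨7939, 0, 4⟩))) (.node 2 (.node 1 (.one ⟨12538, 0, 4⟩) (.one ⟨14418, 0, 4⟩)) (.node 1 (.one ⟨2240, 2, 4⟩) (.one ⟨10093, 2, 3⟩)))))))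
def par6_12 : Arr Par :=
  (.node 512 (.node 256 (.node 128 (.node 64 par6_12_0 par6_12_1) (.node 64 par6_12_2 par6_12_3)) (.node 128 (.node 64 par6_12_4 par6_12_5) (.node 64 par6_12_6 par6_12_7))) (.node 256 (.node 128 (.node 64 par6_12_8 par6_12_9) (.node 64 par6_12_10 par6_12_11)) (.node 128 (.node 64 par6_12_12 par6_12_13) (.node 64 par6_12_14 par6_12_15))))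
def par6_13_0 : Arr Par :=
  (.node 32 (.node 16 (.node 8 (.node 4 (.node 2 (.node 1 (.one ⟨4397, 2, 5⟩) (.one ⟨12303, 2, 2⟩)) (.node 1 (.one ⟨2135, 2, 4⟩) (.one ⟨13651, 2, 4⟩))) (.node 2 (.node 1 (.one ⟨7810, 1, 3⟩) (.one ⟨55, 0, 3⟩)) (.node 1 (.one ⟨5655, 2, 3⟩) (.one ⟨9654, 1, 5⟩)))) (.node 4 (.node 2 (.node 1 (.one ⟨120, 0, 4⟩) (.one ⟨381, 1, 5⟩)) (.node 1 (.one ⟨229, 0, 3⟩) (.one ⟨6999, 1, 3⟩))) (.node 2 (.node 1 (.one ⟨15694, 0, 5⟩) (.one ⟨10243, 2, 5⟩)) (.node 1 (.one ⟨8095, 1, 5⟩) (.one ⟨16777, 0, 3⟩))))) (.node 8 (.node 4 (.node 2 (.node 1 (.one ⟨7289, 2, 6⟩) (.one ⟨6040, 0, 5⟩)) (.node 1 (.one ⟨2733, 0, 4⟩) (.one ⟨1086, 1, 4⟩))) (.node 2 (.node 1 (.one ⟨1421, 1, 4⟩) (.one ⟨14967, 2, 5⟩)) (.node 1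 (.one ⟨16179, 2, 6⟩) (.one ⟨1286, 0, 1⟩)))) (.node 4 (.node 2 (.node 1 (.one ⟨2933, 0, 1⟩) (.one ⟨203, 2, 4⟩)) (.node 1 (.one ⟨15646, 0, 3⟩) (.one ⟨202, 2, 4⟩))) (.node 2 (.node 1 (.one ⟨17117, 1, 4⟩) (.one ⟨4624, 2, 3⟩)) (.node 1 (.one ⟨204, 2, 3⟩) (.one ⟨9499, 0, 3⟩)))))) (.node 16 (.node 8 (.node 4 (.node 2 (.node 1 (.one ⟨175, 2, 5⟩) (.one ⟨14296, 2, 5⟩)) (.node 1 (.one ⟨14551, 2, 3⟩) (.one ⟨10698, 2, 1⟩))) (.node 2 (.node 1 (.one ⟨10488, 2, 2⟩) (.one ⟨5783, 2, 2⟩)) (.node 1 (.one ⟨3387, 0, 5⟩) (.one ⟨1544, 2, 3⟩)))) (.node 4 (.node 2 (.node 1 (.one ⟨4110, 2, 3⟩) (.one ⟨1307, 2, 4⟩)) (.node 1 (.one ⟨11105, 0, 4⟩) (.one ⟨8497, 0, 3⟩))) (.node 2 (.node 1 (.one ⟨4045, 2, 3⟩) (.one ⟨587, 2, 1⟩)) (.node 1 (.one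 ⟨15848, 0, 4⟩) (.one ⟨12994, 2, 4⟩))))) (.node 8 (.node 4 (.node 2 (.node 1 (.one ⟨4968, 0, 3⟩) (.one ⟨11840, 2, 5⟩)) (.node 1 (.one ⟨14048, 2, 3⟩) (.one ⟨12739, 2, 3⟩))) (.node 2 (.node 1 (.one ⟨17015, 0, 4⟩) (.one ⟨11661, 2, 5⟩)) (.node 1 (.one ⟨10162, 1, 4⟩) (.one ⟨6158, 2, 4⟩)))) (.node 4 (.node 2 (.node 1 (.one ⟨5786, 2, 4⟩) (.one ⟨14367, 0, 5⟩)) (.node 1 (.one ⟨1626, 2, 4⟩) (.one ⟨5879, 2, 5⟩))) (.node 2 (.node 1 (.one ⟨6071, 2, 6⟩) (.one ⟨359, 2, 4⟩)) (.node 1 (.one ⟨1938, 2, 4⟩) (.one ⟨15539, 0, 3⟩)))))))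
def par6_13_1 : Arr Par :=
  (.node 32 (.node 16 (.node 8 (.node 4 (.node 2 (.node 1 (.one ⟨4879, 1, 4⟩) (.one ⟨15982, 0, 3⟩)) (.node 1 (.one ⟨1345, 2, 2⟩) (.one ⟨4798, 1, 3⟩))) (.node 2 (.node 1 (.one ⟨5123, 0, 3⟩) (.one ⟨10599, 2, 3⟩)) (.node 1 (.one ⟨3423, 2, 3⟩) (.one ⟨11044, 0, 2⟩)))) (.node 4 (.node 2 (.node 1 (.one ⟨5317, 2, 5⟩) (.one ⟨10061, 2, 4⟩)) (.node 1 (.one ⟨9498, 2, 3⟩) (.one ⟨5026, 2, 2⟩))) (.node 2 (.node 1 (.one ⟨4859, 2, 5⟩) (.one ⟨10299, 2, 5⟩)) (.node 1 (.one ⟨10722, 2, 3⟩) (.one ⟨4570, 2, 4⟩))))) (.node 8 (.node 4 (.node 2 (.node 1 (.one ⟨7350, 2, 4⟩) (.one ⟨1343, 2, 4⟩)) (.node 1 (.one ⟨13211, 0, 2⟩) (.one ⟨10595, 2, 4⟩))) (.node 2 (.node 1 (.one ⟨16124, 2, 4⟩) (.one ⟨13435, 2, 4⟩))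 (.node 1 (.one ⟨15143, 2, 4⟩) (.one ⟨16140, 2, 4⟩)))) (.node 4 (.node 2 (.node 1 (.one ⟨4906, 2, 5⟩) (.one ⟨2592, 2, 2⟩)) (.node 1 (.one ⟨2734, 0, 4⟩) (.one ⟨5424, 2, 3⟩))) (.node 2 (.node 1 (.one ⟨13519, 0, 2⟩) (.one ⟨14969, 2, 5⟩)) (.node 1 (.one ⟨1058, 2, 4⟩) (.one ⟨5807, 2, 2⟩)))))) (.node 16 (.node 8 (.node 4 (.node 2 (.node 1 (.one ⟨2892, 1, 0⟩) (.one ⟨14046, 2, 5⟩)) (.node 1 (.one ⟨3602, 0, 4⟩) (.one ⟨2249, 1, 0⟩))) (.node 2 (.node 1 (.one ⟨6545, 2, 5⟩) (.one ⟨2900, 1, 0⟩)) (.node 1 (.one ⟨14497, 2, 5⟩) (.one ⟨1337, 1, 0⟩)))) (.node 4 (.node 2 (.node 1 (.one ⟨5275, 2, 3⟩) (.one ⟨5838, 2, 3⟩)) (.node 1 (.one ⟨4917, 2, 5⟩) (.one ⟨10747, 2, 4⟩))) (.node 2 (.node 1 (.one ⟨16840, 2, 4⟩) (.one ⟨1285, 0, 1⟩))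 (.node 1 (.one ⟨16801, 2, 4⟩) (.one ⟨2863, 0, 5⟩))))) (.node 8 (.node 4 (.node 2 (.node 1 (.one ⟨9700, 2, 4⟩) (.one ⟨11691, 2, 4⟩)) (.node 1 (.one ⟨8885, 2, 6⟩) (.one ⟨5721, 0, 5⟩))) (.node 2 (.node 1 (.one ⟨17059, 2, 2⟩) (.one ⟨15313, 2, 4⟩)) (.node 1 (.one ⟨14703, 0, 4⟩) (.one ⟨7707, 2, 1⟩)))) (.node 4 (.node 2 (.node 1 (.one ⟨5987, 0, 4⟩) (.one ⟨7094, 2, 4⟩)) (.node 1 (.one ⟨11319, 2, 4⟩) (.one ⟨16532, 2, 3⟩))) (.node 2 (.node 1 (.one ⟨4820, 1, 4⟩) (.one ⟨5189, 1, 3⟩)) (.node 1 (.one ⟨2370, 2, 4⟩) (.one ⟨1162, 2, 5⟩)))))))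
def par6_13_2 : Arr Par :=
  (.node 32 (.node 16 (.node 8 (.node 4 (.node 2 (.node 1 (.one ⟨6298, 2, 4⟩) (.one ⟨8351, 2, 4⟩)) (.node 1 (.one ⟨6158, 0, 4⟩) (.one ⟨14786, 2, 4⟩))) (.node 2 (.node 1 (.one ⟨11418, 2, 4⟩) (.one ⟨6568, 0, 4⟩)) (.node 1 (.one ⟨16761, 2, 3⟩) (.one ⟨14956, 0, 4⟩)))) (.node 4 (.node 2 (.node 1 (.one ⟨11317, 2, 2⟩) (.one ⟨4744, 0, 4⟩)) (.node 1 (.one ⟨781, 1, 4⟩) (.one ⟨15238, 2, 5⟩))) (.node 2 (.node 1 (.one ⟨1849, 0, 2⟩) (.one ⟨14050, 1, 3⟩)) (.node 1 (.one ⟨15545, 2, 5⟩) (.one ⟨3261, 0, 5⟩))))) (.node 8 (.node 4 (.node 2 (.node 1 (.one ⟨17125, 2, 4⟩) (.one ⟨4132, 2, 3⟩)) (.node 1 (.one ⟨9857, 2, 5⟩) (.one ⟨8931, 2, 6⟩))) (.node 2 (.node 1 (.one ⟨17059, 0, 2⟩) (.one ⟨10631, 0, 4⟩))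 (.node 1 (.one ⟨12453, 2, 4⟩) (.one ⟨10466, 2, 3⟩)))) (.node 4 (.node 2 (.node 1 (.one ⟨15668, 2, 5⟩) (.one ⟨2773, 2, 4⟩)) (.node 1 (.one ⟨8852, 2, 3⟩) (.one ⟨5933, 2, 5⟩))) (.node 2 (.node 1 (.one ⟨3995, 2, 5⟩) (.one ⟨15473, 2, 4⟩)) (.node 1 (.one ⟨12783, 2, 5⟩) (.one ⟨5480, 2, 5⟩)))))) (.node 16 (.node 8 (.node 4 (.node 2 (.node 1 (.one ⟨7806, 1, 4⟩) (.one ⟨7161, 2, 1⟩)) (.node 1 (.one ⟨1502, 0, 4⟩) (.one ⟨4224, 2, 1⟩))) (.node 2 (.node 1 (.one ⟨7231, 1, 4⟩) (.one ⟨6371, 2, 1⟩)) (.node 1 (.one ⟨1795, 0, 4⟩) (.one ⟨15019, 2, 5⟩)))) (.node 4 (.node 2 (.node 1 (.one ⟨12044, 0, 2⟩) (.one ⟨12207, 2, 4⟩)) (.node 1 (.one ⟨4867, 2, 5⟩) (.one ⟨9249, 0, 2⟩))) (.node 2 (.node 1 (.one ⟨1848, 0, 2⟩) (.one ⟨4086, 0, 2⟩))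 (.node 1 (.one ⟨11531, 2, 4⟩) (.one ⟨9766, 0, 3⟩))))) (.node 8 (.node 4 (.node 2 (.node 1 (.one ⟨14985, 2, 4⟩) (.one ⟨7294, 2, 4⟩)) (.node 1 (.one ⟨14725, 1, 2⟩) (.one ⟨14720, 1, 5⟩))) (.node 2 (.node 1 (.one ⟨2819, 2, 3⟩) (.one ⟨11456, 2, 4⟩)) (.node 1 (.one ⟨5474, 0, 3⟩) (.one ⟨2802, 2, 3⟩)))) (.node 4 (.node 2 (.node 1 (.one ⟨10471, 2, 5⟩) (.one ⟨13250, 2, 4⟩)) (.node 1 (.one ⟨3520, 2, 6⟩) (.one ⟨4722, 2, 3⟩))) (.node 2 (.node 1 (.one ⟨11959, 2, 5⟩) (.one ⟨11278, 2, 4⟩)) (.node 1 (.one ⟨160, 2, 6⟩) (.one ⟨524, 2, 3⟩)))))))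
def par6_13_3 : Arr Par :=
  (.node 32 (.node 16 (.node 8 (.node 4 (.node 2 (.node 1 (.one ⟨9299, 0, 4⟩) (.one ⟨15037, 1, 2⟩)) (.node 1 (.one ⟨14848, 0, 4⟩) (.one ⟨3588, 0, 5⟩))) (.node 2 (.node 1 (.one ⟨15865, 0, 4⟩) (.one ⟨652, 2, 4⟩)) (.node 1 (.one ⟨8404, 2, 4⟩) (.one ⟨2323, 1, 0⟩)))) (.node 4 (.node 2 (.node 1 (.one ⟨215, 2, 3⟩) (.one ⟨1202, 1, 0⟩)) (.node 1 (.one ⟨10068, 2, 3⟩) (.one ⟨4523, 1, 0⟩))) (.node 2 (.node 1 (.one ⟨5036, 2, 5⟩) (.one ⟨3442, 1, 0⟩)) (.node 1 (.one ⟨12954, 2, 3⟩) (.one ⟨14303, 2, 1⟩))))) (.node 8 (.node 4 (.node 2 (.node 1 (.one ⟨9378, 0, 4⟩) (.one ⟨4799, 2, 4⟩)) (.node 1 (.one ⟨10504, 2, 2⟩) (.one ⟨11960, 0, 2⟩))) (.node 2 (.node 1 (.one ⟨13158, 2, 4⟩) (.one ⟨14100, 1, 3⟩)) (.node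 1 (.one ⟨5805, 2, 3⟩) (.one ⟨16112, 0, 2⟩)))) (.node 4 (.node 2 (.node 1 (.one ⟨16653, 0, 2⟩) (.one ⟨2160, 2, 4⟩)) (.node 1 (.one ⟨6968, 0, 3⟩) (.one ⟨480, 0, 3⟩))) (.node 2 (.node 1 (.one ⟨15139, 1, 2⟩) (.one ⟨10078, 2, 4⟩)) (.node 1 (.one ⟨3497, 2, 5⟩) (.one ⟨12276, 2, 3⟩)))))) (.node 16 (.node 8 (.node 4 (.node 2 (.node 1 (.one ⟨2856, 2, 3⟩) (.one ⟨13569, 2, 3⟩)) (.node 1 (.one ⟨536, 2, 3⟩) (.one ⟨8103, 0, 3⟩))) (.node 2 (.node 1 (.one ⟨8106, 0, 3⟩) (.one ⟨2413, 1, 0⟩)) (.node 1 (.one ⟨8107, 0, 4⟩) (.one ⟨3527, 2, 4⟩)))) (.node 4 (.node 2 (.node 1 (.one ⟨10409, 2, 2⟩) (.one ⟨12133, 2, 3⟩)) (.node 1 (.one ⟨1501, 2, 2⟩) (.one ⟨13109, 2, 2⟩))) (.node 2 (.node 1 (.one ⟨2842, 2, 2⟩) (.one ⟨4708, 2, 3⟩)) (.node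 1 (.one ⟨10890, 0, 4⟩) (.one ⟨10177, 1, 3⟩))))) (.node 8 (.node 4 (.node 2 (.node 1 (.one ⟨11897, 1, 3⟩) (.one ⟨13105, 1, 3⟩)) (.node 1 (.one ⟨11290, 1, 3⟩) (.one ⟨10583, 1, 3⟩))) (.node 2 (.node 1 (.one ⟨12321, 1, 3⟩) (.one ⟨3692, 0, 4⟩)) (.node 1 (.one ⟨17122, 2, 4⟩) (.one ⟨8729, 2, 3⟩)))) (.node 4 (.node 2 (.node 1 (.one ⟨765, 1, 5⟩) (.one ⟨9157, 2, 6⟩)) (.node 1 (.one ⟨7458, 1, 3⟩) (.one ⟨928, 0, 4⟩))) (.node 2 (.node 1 (.one ⟨8095, 0, 5⟩) (.one ⟨16105, 1, 5⟩)) (.node 1 (.one ⟨16483, 2, 5⟩) (.one ⟨15889, 1, 5⟩)))))))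
def par6_13_4 : Arr Par :=
  (.node 32 (.node 16 (.node 8 (.node 4 (.node 2 (.node 1 (.one ⟨12509, 2, 3⟩) (.one ⟨5542, 0, 2⟩)) (.node 1 (.one ⟨5535, 0, 2⟩) (.one ⟨5539, 0, 2⟩))) (.node 2 (.node 1 (.one ⟨5538, 0, 2⟩) (.one ⟨241, 0, 2⟩)) (.node 1 (.one ⟨2821, 2, 4⟩) (.one ⟨7141, 1, 2⟩)))) (.node 4 (.node 2 (.node 1 (.one ⟨900, 0, 2⟩) (.one ⟨15635, 2, 5⟩)) (.node 1 (.one ⟨10275, 2, 4⟩) (.one ⟨5548, 0, 2⟩))) (.node 2 (.node 1 (.one ⟨12234, 2, 3⟩) (.one ⟨7492, 2, 3⟩)) (.node 1 (.one ⟨7347, 0, 4⟩) (.one ⟨10497, 2, 2⟩))))) (.node 8 (.node 4 (.node 2 (.node 1 (.one ⟨14810, 1, 4⟩) (.one ⟨8438, 2, 4⟩)) (.node 1 (.one ⟨9692, 1, 4⟩) (.one ⟨13193, 2, 6⟩))) (.node 2 (.node 1 (.one ⟨11288, 1, 4⟩) (.one ⟨7283, 1, 2⟩)) (.node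 1 (.one ⟨14430, 1, 1⟩) (.one ⟨622, 2, 3⟩)))) (.node 4 (.node 2 (.node 1 (.one ⟨308, 2, 5⟩) (.one ⟨9317, 0, 4⟩)) (.node 1 (.one ⟨14395, 0, 3⟩) (.one ⟨2283, 2, 4⟩))) (.node 2 (.node 1 (.one ⟨5473, 0, 4⟩) (.one ⟨2285, 2, 5⟩)) (.node 1 (.one ⟨16174, 0, 5⟩) (.one ⟨1586, 0, 2⟩)))))) (.node 16 (.node 8 (.node 4 (.node 2 (.node 1 (.one ⟨9730, 0, 4⟩) (.one ⟨6593, 1, 3⟩)) (.node 1 (.one ⟨2125, 2, 5⟩) (.one ⟨4862, 2, 4⟩))) (.node 2 (.node 1 (.one ⟨16586, 0, 4⟩) (.one ⟨4559, 2, 4⟩)) (.node 1 (.one ⟨8601, 0, 4⟩) (.one ⟨10615, 2, 2⟩)))) (.node 4 (.node 2 (.node 1 (.one ⟨12282, 2, 3⟩) (.one ⟨4034, 2, 4⟩)) (.node 1 (.one ⟨2368, 2, 4⟩) (.one ⟨4161, 1, 4⟩))) (.node 2 (.node 1 (.one ⟨11674, 2, 4⟩) (.one ⟨8359, 1, 3⟩)) (.node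 1 (.one ⟨2120, 1, 0⟩) (.one ⟨15906, 2, 5⟩))))) (.node 8 (.node 4 (.node 2 (.node 1 (.one ⟨1972, 2, 5⟩) (.one ⟨8441, 0, 4⟩)) (.node 1 (.one ⟨14788, 1, 5⟩) (.one ⟨12969, 2, 5⟩))) (.node 2 (.node 1 (.one ⟨7028, 2, 6⟩) (.one ⟨6041, 0, 4⟩)) (.node 1 (.one ⟨1589, 2, 4⟩) (.one ⟨3211, 2, 3⟩)))) (.node 4 (.node 2 (.node 1 (.one ⟨9041, 0, 3⟩) (.one ⟨11847, 2, 3⟩)) (.node 1 (.one ⟨9039, 0, 3⟩) (.one ⟨2441, 2, 3⟩))) (.node 2 (.node 1 (.one ⟨4035, 2, 5⟩) (.one ⟨13101, 2, 3⟩)) (.node 1 (.one ⟨10957, 2, 5⟩) (.one ⟨15888, 2, 3⟩)))))))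
def par6_13_5 : Arr Par :=
  (.node 32 (.node 16 (.node 8 (.node 4 (.node 2 (.node 1 (.one ⟨6047, 2, 5⟩) (.one ⟨6222, 0, 5⟩)) (.node 1 (.one ⟨13631, 2, 4⟩) (.one ⟨15681, 2, 3⟩))) (.node 2 (.node 1 (.one ⟨6150, 2, 6⟩) (.one ⟨9359, 1, 1⟩)) (.node 1 (.one ⟨6806, 0, 5⟩) (.one ⟨16386, 2, 3⟩)))) (.node 4 (.node 2 (.node 1 (.one ⟨12641, 2, 2⟩) (.one ⟨6400, 2, 2⟩)) (.node 1 (.one ⟨3050, 2, 4⟩) (.one ⟨4012, 2, 4⟩))) (.node 2 (.node 1 (.one ⟨8603, 2, 4⟩) (.one ⟨10796, 2, 4⟩)) (.node 1 (.one ⟨14877, 2, 4⟩) (.one ⟨12901, 2, 3⟩))))) (.node 8 (.node 4 (.node 2 (.node 1 (.one ⟨16834, 2, 3⟩) (.one ⟨8927, 2, 4⟩)) (.node 1 (.one ⟨4545, 2, 5⟩) (.one ⟨14372, 2, 3⟩))) (.node 2 (.node 1 (.one ⟨9782, 2, 5⟩) (.one ⟨1554, 2, 1⟩)) (.node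 1 (.one ⟨6320, 2, 5⟩) (.one ⟨3455, 2, 3⟩)))) (.node 4 (.node 2 (.node 1 (.one ⟨5924, 2, 5⟩) (.one ⟨10347, 2, 5⟩)) (.node 1 (.one ⟨14935, 2, 2⟩) (.one ⟨6684, 2, 5⟩))) (.node 2 (.node 1 (.one ⟨11889, 0, 4⟩) (.one ⟨8381, 0, 5⟩)) (.node 1 (.one ⟨11404, 2, 5⟩) (.one ⟨13278, 2, 3⟩)))))) (.node 16 (.node 8 (.node 4 (.node 2 (.node 1 (.one ⟨7865, 0, 4⟩) (.one ⟨15602, 1, 5⟩)) (.node 1 (.one ⟨9127, 0, 3⟩) (.one ⟨2942, 1, 3⟩))) (.node 2 (.node 1 (.one ⟨5262, 2, 4⟩) (.one ⟨13242, 2, 2⟩)) (.node 1 (.one ⟨12832, 0, 5⟩) (.one ⟨4942, 0, 4⟩)))) (.node 4 (.node 2 (.node 1 (.one ⟨4574, 2, 3⟩) (.one ⟨8643, 2, 5⟩)) (.node 1 (.one ⟨12826, 2, 5⟩) (.one ⟨15928, 1, 3⟩))) (.node 2 (.node 1 (.one ⟨4168, 2, 5⟩) (.one ⟨6855, 1, 1⟩)) (.node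 1 (.one ⟨3798, 0, 3⟩) (.one ⟨5532, 2, 4⟩))))) (.node 8 (.node 4 (.node 2 (.node 1 (.one ⟨7361, 2, 5⟩) (.one ⟨1775, 0, 4⟩)) (.node 1 (.one ⟨13126, 2, 4⟩) (.one ⟨163, 2, 4⟩))) (.node 2 (.node 1 (.one ⟨7955, 2, 2⟩) (.one ⟨16691, 0, 5⟩)) (.node 1 (.one ⟨10271, 2, 2⟩) (.one ⟨14842, 0, 5⟩)))) (.node 4 (.node 2 (.node 1 (.one ⟨1188, 1, 1⟩) (.one ⟨10872, 2, 2⟩)) (.node 1 (.one ⟨12682, 2, 4⟩) (.one ⟨11380, 0, 2⟩))) (.node 2 (.node 1 (.one ⟨13021, 0, 3⟩) (.one ⟨486, 2, 5⟩)) (.node 1 (.one ⟨575, 1, 1⟩) (.one ⟨4757, 2, 4⟩)))))))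
def par6_13_6 : Arr Par :=
  (.node 32 (.node 16 (.node 8 (.node 4 (.node 2 (.node 1 (.one ⟨16355, 0, 2⟩) (.one ⟨3175, 2, 4⟩)) (.node 1 (.one ⟨2771, 2, 5⟩) (.one ⟨14237, 0, 2⟩))) (.node 2 (.node 1 (.one ⟨10615, 0, 2⟩) (.one ⟨4150, 2, 3⟩)) (.node 1 (.one ⟨3304, 0, 5⟩) (.one ⟨9614, 2, 5⟩)))) (.node 4 (.node 2 (.node 1 (.one ⟨3765, 0, 1⟩) (.one ⟨8717, 1, 4⟩)) (.node 1 (.one ⟨10512, 0, 4⟩) (.one ⟨6125, 0, 5⟩))) (.node 2 (.node 1 (.one ⟨2694, 2, 4⟩) (.one ⟨7313, 2, 5⟩)) (.node 1 (.one ⟨12996, 2, 4⟩) (.one ⟨7282, 2, 4⟩))))) (.node 8 (.node 4 (.node 2 (.node 1 (.one ⟨9595, 2, 5⟩) (.one ⟨2746, 0, 2⟩)) (.node 1 (.one ⟨7114, 0, 3⟩) (.one ⟨15859, 2, 5⟩))) (.node 2 (.node 1 (.one ⟨5285, 2, 3⟩) (.one ⟨12534, 0, 2⟩)) (.node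 1 (.one ⟨13623, 2, 4⟩) (.one ⟨6312, 2, 4⟩)))) (.node 4 (.node 2 (.node 1 (.one ⟨7115, 0, 5⟩) (.one ⟨9451, 0, 5⟩)) (.node 1 (.one ⟨16005, 2, 4⟩) (.one ⟨11352, 0, 5⟩))) (.node 2 (.node 1 (.one ⟨8272, 2, 4⟩) (.one ⟨6295, 1, 5⟩)) (.node 1 (.one ⟨5785, 0, 4⟩) (.one ⟨3854, 2, 4⟩)))))) (.node 16 (.node 8 (.node 4 (.node 2 (.node 1 (.one ⟨4236, 1, 4⟩) (.one ⟨132, 2, 5⟩)) (.node 1 (.one ⟨3496, 0, 2⟩) (.one ⟨10011, 0, 2⟩))) (.node 2 (.node 1 (.one ⟨4056, 2, 4⟩) (.one ⟨16136, 2, 4⟩)) (.node 1 (.one ⟨14779, 0, 2⟩) (.one ⟨16991, 0, 3⟩)))) (.node 4 (.node 2 (.node 1 (.one ⟨10250, 2, 4⟩) (.one ⟨8417, 0, 4⟩)) (.node 1 (.one ⟨5187, 1, 3⟩) (.one ⟨13873, 1, 3⟩))) (.node 2 (.node 1 (.one ⟨14540, 2, 4⟩) (.one ⟨662, 0, 4⟩)) (.node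 1 (.one ⟨6433, 2, 4⟩) (.one ⟨13124, 0, 2⟩))))) (.node 8 (.node 4 (.node 2 (.node 1 (.one ⟨1644, 2, 4⟩) (.one ⟨15808, 0, 5⟩)) (.node 1 (.one ⟨11625, 0, 3⟩) (.one ⟨7169, 2, 4⟩))) (.node 2 (.node 1 (.one ⟨3341, 0, 2⟩) (.one ⟨75, 0, 3⟩)) (.node 1 (.one ⟨5602, 0, 4⟩) (.one ⟨10164, 2, 4⟩)))) (.node 4 (.node 2 (.node 1 (.one ⟨622, 0, 3⟩) (.one ⟨11551, 2, 5⟩)) (.node 1 (.one ⟨4714, 2, 5⟩) (.one ⟨4919, 2, 4⟩))) (.node 2 (.node 1 (.one ⟨5612, 0, 4⟩) (.one ⟨4260, 2, 4⟩)) (.node 1 (.one ⟨1035, 1, 0⟩) (.one ⟨6163, 2, 5⟩)))))))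
def par6_13_7 : Arr Par :=
  (.node 32 (.node 16 (.node 8 (.node 4 (.node 2 (.node 1 (.one ⟨945, 1, 4⟩) (.one ⟨13777, 2, 5⟩)) (.node 1 (.one ⟨6547, 2, 4⟩) (.one ⟨10451, 2, 5⟩))) (.node 2 (.node 1 (.one ⟨1943, 2, 4⟩) (.one ⟨2707, 2, 5⟩)) (.node 1 (.one ⟨9347, 2, 1⟩) (.one ⟨15790, 0, 5⟩)))) (.node 4 (.node 2 (.node 1 (.one ⟨7813, 2, 4⟩) (.one ⟨11451, 2, 4⟩)) (.node 1 (.one ⟨6004, 0, 4⟩) (.one ⟨11722, 0, 3⟩))) (.node 2 (.node 1 (.one ⟨14512, 2, 6⟩) (.one ⟨16865, 1, 4⟩)) (.node 1 (.one ⟨428, 0, 3⟩) (.one ⟨13623, 0, 4⟩))))) (.node 8 (.node 4 (.node 2 (.node 1 (.one ⟨13629, 0, 4⟩) (.one ⟨395, 0, 4⟩)) (.node 1 (.one ⟨9957, 2, 4⟩) (.one ⟨126, 0, 4⟩))) (.node 2 (.node 1 (.one ⟨504, 0, 4⟩) (.one ⟨13627, 0, 4⟩)) (.node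 1 (.one ⟨13625, 0, 4⟩) (.one ⟨13283, 2, 2⟩)))) (.node 4 (.node 2 (.node 1 (.one ⟨7590, 2, 4⟩) (.one ⟨6365, 2, 3⟩)) (.node 1 (.one ⟨12220, 2, 4⟩) (.one ⟨6954, 2, 4⟩))) (.node 2 (.node 1 (.one ⟨12872, 2, 5⟩) (.one ⟨11759, 2, 4⟩)) (.node 1 (.one ⟨5890, 2, 5⟩) (.one ⟨1690, 2, 5⟩)))))) (.node 16 (.node 8 (.node 4 (.node 2 (.node 1 (.one ⟨13847, 2, 4⟩) (.one ⟨2008, 2, 4⟩)) (.node 1 (.one ⟨15106, 1, 3⟩) (.one ⟨15441, 2, 5⟩))) (.node 2 (.node 1 (.one ⟨16771, 0, 3⟩) (.one ⟨15600, 2, 5⟩)) (.node 1 (.one ⟨6083, 0, 3⟩) (.one ⟨6734, 1, 2⟩)))) (.node 4 (.node 2 (.node 1 (.one ⟨9910, 2, 2⟩) (.one ⟨11888, 2, 2⟩)) (.node 1 (.one ⟨15183, 2, 2⟩) (.one ⟨16668, 2, 2⟩))) (.node 2 (.node 1 (.one ⟨10429, 2, 4⟩) (.one ⟨11986, 2, 2⟩))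 (.node 1 (.one ⟨15042, 2, 2⟩) (.one ⟨12405, 0, 4⟩))))) (.node 8 (.node 4 (.node 2 (.node 1 (.one ⟨6565, 0, 4⟩) (.one ⟨16709, 0, 3⟩)) (.node 1 (.one ⟨3022, 0, 4⟩) (.one ⟨10213, 2, 5⟩))) (.node 2 (.node 1 (.one ⟨9344, 0, 4⟩) (.one ⟨5288, 0, 3⟩)) (.node 1 (.one ⟨15513, 0, 3⟩) (.one ⟨1184, 2, 4⟩)))) (.node 4 (.node 2 (.node 1 (.one ⟨10679, 0, 2⟩) (.one ⟨11486, 2, 5⟩)) (.node 1 (.one ⟨8875, 0, 5⟩) (.one ⟨12971, 0, 2⟩))) (.node 2 (.node 1 (.one ⟨13069, 2, 2⟩) (.one ⟨5649, 1, 1⟩)) (.node 1 (.one ⟨4082, 2, 5⟩) (.one ⟨1379, 0, 4⟩)))))))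
def par6_13_8 : Arr Par :=
  (.node 32 (.node 16 (.node 8 (.node 4 (.node 2 (.node 1 (.one ⟨14677, 2, 4⟩) (.one ⟨7876, 2, 5⟩)) (.node 1 (.one ⟨1988, 0, 4⟩) (.one ⟨47, 1, 3⟩))) (.node 2 (.node 1 (.one ⟨3147, 1, 3⟩) (.one ⟨15240, 2, 4⟩)) (.node 1 (.one ⟨6272, 1, 3⟩) (.one ⟨348, 1, 3⟩)))) (.node 4 (.node 2 (.node 1 (.one ⟨10792, 0, 4⟩) (.one ⟨17060, 0, 4⟩)) (.node 1 (.one ⟨14901, 2, 5⟩) (.one ⟨16582, 0, 4⟩))) (.node 2 (.node 1 (.one ⟨528, 1, 4⟩) (.one ⟨16374, 0, 4⟩)) (.node 1 (.one ⟨13784, 2, 5⟩) (.one ⟨13748, 2, 3⟩))))) (.node 8 (.node 4 (.node 2 (.node 1 (.one ⟨7032, 2, 5⟩) (.one ⟨15254, 2, 5⟩)) (.node 1 (.one ⟨1226, 1, 1⟩) (.one ⟨14513, 2, 3⟩))) (.node 2 (.node 1 (.one ⟨14613, 1, 2⟩) (.one ⟨14207, 1, 1⟩)) (.node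 1 (.one ⟨2695, 0, 2⟩) (.one ⟨7512, 2, 3⟩)))) (.node 4 (.node 2 (.node 1 (.one ⟨1110, 2, 5⟩) (.one ⟨5140, 2, 4⟩)) (.node 1 (.one ⟨7884, 2, 4⟩) (.one ⟨13921, 0, 3⟩))) (.node 2 (.node 1 (.one ⟨13465, 2, 5⟩) (.one ⟨12031, 0, 2⟩)) (.node 1 (.one ⟨8382, 0, 4⟩) (.one ⟨5048, 2, 5⟩)))))) (.node 16 (.node 8 (.node 4 (.node 2 (.node 1 (.one ⟨16571, 2, 3⟩) (.one ⟨2710, 2, 4⟩)) (.node 1 (.one ⟨11567, 0, 4⟩) (.one ⟨14422, 2, 5⟩))) (.node 2 (.node 1 (.one ⟨2049, 2, 2⟩) (.one ⟨17150, 2, 3⟩)) (.node 1 (.one ⟨4669, 2, 5⟩) (.one ⟨3048, 0, 2⟩)))) (.node 4 (.node 2 (.node 1 (.one ⟨7212, 2, 5⟩) (.one ⟨15266, 2, 4⟩)) (.node 1 (.one ⟨11336, 2, 5⟩) (.one ⟨9162, 2, 6⟩))) (.node 2 (.node 1 (.one ⟨13839, 2, 4⟩) (.one ⟨5798, 2, 5⟩)) (.node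 1 (.one ⟨11581, 0, 4⟩) (.one ⟨9257, 2, 2⟩))))) (.node 8 (.node 4 (.node 2 (.node 1 (.one ⟨8180, 2, 4⟩) (.one ⟨6904, 0, 2⟩)) (.node 1 (.one ⟨6727, 0, 2⟩) (.one ⟨7715, 2, 5⟩))) (.node 2 (.node 1 (.one ⟨10482, 2, 2⟩) (.one ⟨9131, 0, 2⟩)) (.node 1 (.one ⟨15462, 2, 4⟩) (.one ⟨15325, 2, 5⟩)))) (.node 4 (.node 2 (.node 1 (.one ⟨939, 2, 3⟩) (.one ⟨15479, 1, 2⟩)) (.node 1 (.one ⟨15319, 2, 4⟩) (.one ⟨15321, 2, 4⟩))) (.node 2 (.node 1 (.one ⟨5652, 0, 4⟩) (.one ⟨8831, 0, 4⟩)) (.node 1 (.one ⟨11182, 0, 4⟩) (.one ⟨9221, 2, 3⟩)))))))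
def par6_13_9 : Arr Par :=
  (.node 32 (.node 16 (.node 8 (.node 4 (.node 2 (.node 1 (.one ⟨5496, 2, 3⟩) (.one ⟨14264, 2, 5⟩)) (.node 1 (.one ⟨8691, 2, 6⟩) (.one ⟨3287, 1, 1⟩))) (.node 2 (.node 1 (.one ⟨11401, 2, 5⟩) (.one ⟨1391, 0, 1⟩)) (.node 1 (.one ⟨6402, 0, 4⟩) (.one ⟨8556, 2, 4⟩)))) (.node 4 (.node 2 (.node 1 (.one ⟨8030, 1, 5⟩) (.one ⟨3387, 1, 5⟩)) (.node 1 (.one ⟨7021, 2, 4⟩) (.one ⟨6728, 0, 5⟩))) (.node 2 (.node 1 (.one ⟨9034, 1, 4⟩) (.one ⟨13677, 0, 2⟩)) (.node 1 (.one ⟨3149, 0, 3⟩) (.one ⟨13682, 2, 5⟩))))) (.node 8 (.node 4 (.node 2 (.node 1 (.one ⟨8682, 2, 4⟩) (.one ⟨13475, 2, 2⟩)) (.node 1 (.one ⟨2365, 2, 5⟩) (.one ⟨4592, 0, 4⟩))) (.node 2 (.node 1 (.one ⟨8925, 2, 5⟩) (.one ⟨6935, 1, 4⟩)) (.node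 1 (.one ⟨1700, 1, 5⟩) (.one ⟨4923, 0, 4⟩)))) (.node 4 (.node 2 (.node 1 (.one ⟨12284, 1, 4⟩) (.one ⟨11544, 0, 4⟩)) (.node 1 (.one ⟨9091, 2, 4⟩) (.one ⟨11691, 0, 4⟩))) (.node 2 (.node 1 (.one ⟨7991, 2, 4⟩) (.one ⟨15520, 2, 5⟩)) (.node 1 (.one ⟨15559, 1, 2⟩) (.one ⟨747, 2, 4⟩)))))) (.node 16 (.node 8 (.node 4 (.node 2 (.node 1 (.one ⟨3167, 2, 4⟩) (.one ⟨6310, 2, 2⟩)) (.node 1 (.one ⟨16362, 0, 4⟩) (.one ⟨5022, 2, 4⟩))) (.node 2 (.node 1 (.one ⟨4330, 2, 4⟩) (.one ⟨9088, 2, 5⟩)) (.node 1 (.one ⟨8143, 0, 3⟩) (.one ⟨10307, 1, 3⟩)))) (.node 4 (.node 2 (.node 1 (.one ⟨11262, 0, 4⟩) (.one ⟨9649, 1, 5⟩)) (.node 1 (.one ⟨2310, 2, 2⟩) (.one ⟨6928, 0, 4⟩))) (.node 2 (.node 1 (.one ⟨9754, 0, 4⟩) (.one ⟨16869, 0, 4⟩)) (.node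 1 (.one ⟨4332, 0, 4⟩) (.one ⟨14668, 0, 5⟩))))) (.node 8 (.node 4 (.node 2 (.node 1 (.one ⟨9090, 2, 3⟩) (.one ⟨15131, 2, 2⟩)) (.node 1 (.one ⟨4752, 0, 4⟩) (.one ⟨17106, 2, 3⟩))) (.node 2 (.node 1 (.one ⟨17019, 2, 4⟩) (.one ⟨6687, 2, 3⟩)) (.node 1 (.one ⟨6987, 2, 5⟩) (.one ⟨5146, 2, 3⟩)))) (.node 4 (.node 2 (.node 1 (.one ⟨6855, 0, 1⟩) (.one ⟨12736, 0, 2⟩)) (.node 1 (.one ⟨6076, 0, 4⟩) (.one ⟨3547, 2, 4⟩))) (.node 2 (.node 1 (.one ⟨11071, 2, 3⟩) (.one ⟨16761, 0, 3⟩)) (.node 1 (.one ⟨2762, 2, 4⟩) (.one ⟨14845, 1, 3⟩)))))))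
def par6_13_10 : Arr Par :=
  (.node 32 (.node 16 (.node 8 (.node 4 (.node 2 (.node 1 (.one ⟨6090, 0, 5⟩) (.one ⟨5820, 2, 5⟩)) (.node 1 (.one ⟨13316, 2, 4⟩) (.one ⟨7526, 2, 3⟩))) (.node 2 (.node 1 (.one ⟨15555, 0, 2⟩) (.one ⟨7818, 0, 2⟩)) (.node 1 (.one ⟨7834, 2, 3⟩) (.one ⟨16837, 1, 3⟩)))) (.node 4 (.node 2 (.node 1 (.one ⟨12014, 1, 3⟩) (.one ⟨3106, 2, 4⟩)) (.node 1 (.one ⟨6196, 0, 4⟩) (.one ⟨13568, 2, 4⟩))) (.node 2 (.node 1 (.one ⟨9093, 2, 5⟩) (.one ⟨13771, 2, 4⟩)) (.node 1 (.one ⟨411, 2, 5⟩) (.one ⟨272, 0, 4⟩))))) (.node 8 (.node 4 (.node 2 (.node 1 (.one ⟨413, 0, 4⟩) (.one ⟨811, 0, 4⟩)) (.node 1 (.one ⟨7244, 2, 6⟩) (.one ⟨8276, 0, 4⟩))) (.node 2 (.node 1 (.one ⟨8277, 0, 4⟩) (.one ⟨8272, 0, 4⟩)) (.node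 1 (.one ⟨8273, 0, 4⟩) (.one ⟨4396, 2, 4⟩)))) (.node 4 (.node 2 (.node 1 (.one ⟨106, 0, 4⟩) (.one ⟨1008, 2, 5⟩)) (.node 1 (.one ⟨12712, 0, 4⟩) (.one ⟨6497, 0, 2⟩))) (.node 2 (.node 1 (.one ⟨11087, 2, 6⟩) (.one ⟨12357, 2, 4⟩)) (.node 1 (.one ⟨85, 1, 1⟩) (.one ⟨10034, 2, 4⟩)))))) (.node 16 (.node 8 (.node 4 (.node 2 (.node 1 (.one ⟨4437, 2, 6⟩) (.one ⟨3979, 0, 5⟩)) (.node 1 (.one ⟨3706, 1, 5⟩) (.one ⟨3967, 0, 3⟩))) (.node 2 (.node 1 (.one ⟨15787, 0, 2⟩) (.one ⟨5199, 2, 3⟩)) (.node 1 (.one ⟨10917, 2, 3⟩) (.one ⟨7993, 2, 4⟩)))) (.node 4 (.node 2 (.node 1 (.one ⟨11076, 2, 3⟩) (.one ⟨9933, 2, 2⟩)) (.node 1 (.one ⟨8552, 2, 4⟩) (.one ⟨8988, 1, 3⟩))) (.node 2 (.node 1 (.one ⟨665, 2, 4⟩) (.one ⟨2765, 2, 6⟩)) (.node 1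 (.one ⟨15840, 2, 3⟩) (.one ⟨1524, 2, 1⟩))))) (.node 8 (.node 4 (.node 2 (.node 1 (.one ⟨3910, 2, 4⟩) (.one ⟨6616, 2, 5⟩)) (.node 1 (.one ⟨7658, 0, 2⟩) (.one ⟨12675, 2, 5⟩))) (.node 2 (.node 1 (.one ⟨11187, 2, 4⟩) (.one ⟨15721, 2, 2⟩)) (.node 1 (.one ⟨14290, 2, 5⟩) (.one ⟨4278, 2, 5⟩)))) (.node 4 (.node 2 (.node 1 (.one ⟨10144, 2, 5⟩) (.one ⟨3041, 2, 6⟩)) (.node 1 (.one ⟨13427, 2, 6⟩) (.one ⟨7589, 2, 5⟩))) (.node 2 (.node 1 (.one ⟨16695, 2, 4⟩) (.one ⟨14610, 0, 5⟩)) (.node 1 (.one ⟨14595, 2, 2⟩) (.one ⟨9963, 2, 4⟩)))))))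
def par6_13_11 : Arr Par :=
  (.node 32 (.node 16 (.node 8 (.node 4 (.node 2 (.node 1 (.one ⟨6658, 0, 4⟩) (.one ⟨2149, 2, 5⟩)) (.node 1 (.one ⟨3705, 1, 5⟩) (.one ⟨1921, 2, 6⟩))) (.node 2 (.node 1 (.one ⟨1773, 2, 4⟩) (.one ⟨10145, 2, 3⟩)) (.node 1 (.one ⟨9699, 2, 4⟩) (.one ⟨7276, 1, 5⟩)))) (.node 4 (.node 2 (.node 1 (.one ⟨2909, 0, 5⟩) (.one ⟨7091, 2, 4⟩)) (.node 1 (.one ⟨7277, 1, 2⟩) (.one ⟨8755, 2, 3⟩))) (.node 2 (.node 1 (.one ⟨16034, 2, 4⟩) (.one ⟨11553, 2, 4⟩)) (.node 1 (.one ⟨8628, 0, 4⟩) (.one ⟨14047, 2, 3⟩))))) (.node 8 (.node 4 (.node 2 (.node 1 (.one ⟨12374, 0, 3⟩) (.one ⟨3641, 2, 4⟩)) (.node 1 (.one ⟨15363, 2, 4⟩) (.one ⟨7644, 1, 4⟩))) (.node 2 (.node 1 (.one ⟨6905, 2, 4⟩) (.one ⟨14538, 0, 3⟩)) (.node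 1 (.one ⟨13099, 2, 3⟩) (.one ⟨15104, 0, 4⟩)))) (.node 4 (.node 2 (.node 1 (.one ⟨6081, 1, 1⟩) (.one ⟨7312, 0, 2⟩)) (.node 1 (.one ⟨6094, 1, 3⟩) (.one ⟨14608, 0, 4⟩))) (.node 2 (.node 1 (.one ⟨7943, 2, 6⟩) (.one ⟨5825, 0, 1⟩)) (.node 1 (.one ⟨11556, 1, 4⟩) (.one ⟨7367, 0, 2⟩)))))) (.node 16 (.node 8 (.node 4 (.node 2 (.node 1 (.one ⟨15795, 0, 2⟩) (.one ⟨1032, 0, 3⟩)) (.node 1 (.one ⟨13128, 0, 2⟩) (.one ⟨15334, 0, 2⟩))) (.node 2 (.node 1 (.one ⟨7664, 0, 2⟩) (.one ⟨9839, 0, 4⟩)) (.node 1 (.one ⟨7349, 2, 4⟩) (.one ⟨3997, 2, 5⟩)))) (.node 4 (.node 2 (.node 1 (.one ⟨9299, 2, 4⟩) (.one ⟨1555, 2, 4⟩)) (.node 1 (.one ⟨1403, 1, 4⟩) (.one ⟨4557, 0, 2⟩))) (.node 2 (.node 1 (.one ⟨9188, 2, 3⟩) (.one ⟨1360, 2, 4⟩)) (.node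 1 (.one ⟨9385, 0, 1⟩) (.one ⟨10779, 0, 3⟩))))) (.node 8 (.node 4 (.node 2 (.node 1 (.one ⟨13877, 0, 3⟩) (.one ⟨10543, 2, 5⟩)) (.node 1 (.one ⟨6460, 0, 4⟩) (.one ⟨5689, 0, 3⟩))) (.node 2 (.node 1 (.one ⟨2647, 0, 3⟩) (.one ⟨14586, 0, 4⟩)) (.node 1 (.one ⟨9716, 0, 4⟩) (.one ⟨4075, 2, 1⟩)))) (.node 4 (.node 2 (.node 1 (.one ⟨11583, 0, 3⟩) (.one ⟨16149, 0, 3⟩)) (.node 1 (.one ⟨1627, 1, 3⟩) (.one ⟨11834, 2, 3⟩))) (.node 2 (.node 1 (.one ⟨6488, 2, 6⟩) (.one ⟨7614, 0, 4⟩)) (.node 1 (.one ⟨5696, 0, 1⟩) (.one ⟨11528, 2, 4⟩)))))))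
def par6_13_12 : Arr Par :=
  (.node 32 (.node 16 (.node 8 (.node 4 (.node 2 (.node 1 (.one ⟨5336, 2, 4⟩) (.one ⟨2290, 2, 4⟩)) (.node 1 (.one ⟨10112, 0, 4⟩) (.one ⟨11116, 2, 4⟩))) (.node 2 (.node 1 (.one ⟨4931, 2, 2⟩) (.one ⟨732, 2, 4⟩)) (.node 1 (.one ⟨11579, 2, 4⟩) (.one ⟨6905, 0, 4⟩)))) (.node 4 (.node 2 (.node 1 (.one ⟨1575, 0, 4⟩) (.one ⟨16563, 2, 5⟩)) (.node 1 (.one ⟨7265, 2, 3⟩) (.one ⟨7498, 0, 2⟩))) (.node 2 (.node 1 (.one ⟨8842, 1, 1⟩) (.one ⟨13198, 0, 3⟩)) (.node 1 (.one ⟨11992, 2, 4⟩) (.one ⟨15582, 0, 2⟩))))) (.node 8 (.node 4 (.node 2 (.node 1 (.one ⟨246, 2, 4⟩) (.one ⟨7566, 2, 5⟩)) (.node 1 (.one ⟨4353, 2, 3⟩) (.one ⟨7231, 0, 4⟩))) (.node 2 (.node 1 (.one ⟨6096, 0, 2⟩) (.one ⟨16667, 2, 4⟩)) (.node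 1 (.one ⟨9905, 2, 2⟩) (.one ⟨13658, 2, 3⟩)))) (.node 4 (.node 2 (.node 1 (.one ⟨9737, 2, 5⟩) (.one ⟨3572, 2, 6⟩)) (.node 1 (.one ⟨2760, 1, 4⟩) (.one ⟨13542, 1, 5⟩))) (.node 2 (.node 1 (.one ⟨2809, 2, 4⟩) (.one ⟨4258, 1, 4⟩)) (.node 1 (.one ⟨7163, 1, 2⟩) (.one ⟨6853, 1, 4⟩)))))) (.node 16 (.node 8 (.node 4 (.node 2 (.node 1 (.one ⟨9429, 2, 1⟩) (.one ⟨5438, 1, 5⟩)) (.node 1 (.one ⟨3491, 2, 5⟩) (.one ⟨13747, 2, 5⟩))) (.node 2 (.node 1 (.one ⟨11111, 2, 4⟩) (.one ⟨7564, 2, 2⟩)) (.node 1 (.one ⟨2287, 2, 4⟩) (.one ⟨1380, 0, 2⟩)))) (.node 4 (.node 2 (.node 1 (.one ⟨4303, 0, 4⟩) (.one ⟨1994, 0, 4⟩)) (.node 1 (.one ⟨4124, 0, 2⟩) (.one ⟨6300, 2, 3⟩))) (.node 2 (.node 1 (.one ⟨5443, 2, 3⟩) (.one ⟨8648, 2, 3⟩)) (.node 1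 (.one ⟨1442, 2, 1⟩) (.one ⟨15851, 1, 4⟩))))) (.node 8 (.node 4 (.node 2 (.node 1 (.one ⟨8469, 0, 4⟩) (.one ⟨11543, 1, 3⟩)) (.node 1 (.one ⟨713, 2, 6⟩) (.one ⟨306, 2, 4⟩))) (.node 2 (.node 1 (.one ⟨8576, 0, 4⟩) (.one ⟨1010, 2, 5⟩)) (.node 1 (.one ⟨6557, 0, 3⟩) (.one ⟨7441, 2, 5⟩)))) (.node 4 (.node 2 (.node 1 (.one ⟨9271, 2, 4⟩) (.one ⟨15143, 0, 4⟩)) (.node 1 (.one ⟨16291, 0, 4⟩) (.one ⟨13535, 2, 4⟩))) (.node 2 (.node 1 (.one ⟨7880, 2, 2⟩) (.one ⟨13658, 0, 3⟩)) (.node 1 (.one ⟨5145, 2, 5⟩) (.one ⟨8558, 2, 4⟩)))))))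
def par6_13_13 : Arr Par :=
  (.node 32 (.node 16 (.node 8 (.node 4 (.node 2 (.node 1 (.one ⟨14423, 2, 6⟩) (.one ⟨7513, 2, 3⟩)) (.node 1 (.one ⟨15852, 2, 3⟩) (.one ⟨11055, 2, 3⟩))) (.node 2 (.node 1 (.one ⟨3942, 2, 2⟩) (.one ⟨13540, 2, 4⟩)) (.node 1 (.one ⟨360, 2, 4⟩) (.one ⟨13730, 2, 3⟩)))) (.node 4 (.node 2 (.node 1 (.one ⟨2844, 2, 4⟩) (.one ⟨10414, 2, 2⟩)) (.node 1 (.one ⟨7442, 2, 2⟩) (.one ⟨14826, 2, 4⟩))) (.node 2 (.node 1 (.one ⟨640, 2, 2⟩) (.one ⟨11358, 2, 5⟩)) (.node 1 (.one ⟨15184, 0, 1⟩) (.one ⟨13066, 2, 2⟩))))) (.node 8 (.node 4 (.node 2 (.node 1 (.one ⟨8243, 2, 4⟩) (.one ⟨12348, 2, 4⟩)) (.node 1 (.one ⟨8554, 2, 4⟩) (.one ⟨5446, 0, 2⟩))) (.node 2 (.node 1 (.one ⟨3597, 2, 5⟩) (.one ⟨15853, 2, 3⟩))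 (.node 1 (.one ⟨5176, 2, 5⟩) (.one ⟨16456, 1, 5⟩)))) (.node 4 (.node 2 (.node 1 (.one ⟨1013, 2, 5⟩) (.one ⟨3498, 2, 4⟩)) (.node 1 (.one ⟨8436, 0, 4⟩) (.one ⟨16651, 0, 4⟩))) (.node 2 (.node 1 (.one ⟨9522, 0, 4⟩) (.one ⟨4501, 2, 2⟩)) (.node 1 (.one ⟨8775, 2, 4⟩) (.one ⟨7333, 2, 5⟩)))))) (.node 16 (.node 8 (.node 4 (.node 2 (.node 1 (.one ⟨6045, 0, 3⟩) (.one ⟨237, 2, 4⟩)) (.node 1 (.one ⟨6013, 0, 4⟩) (.one ⟨7851, 2, 2⟩))) (.node 2 (.node 1 (.one ⟨15293, 2, 4⟩) (.one ⟨5175, 2, 6⟩)) (.node 1 (.one ⟨9633, 2, 2⟩) (.one ⟨14424, 2, 4⟩)))) (.node 4 (.node 2 (.node 1 (.one ⟨1843, 1, 1⟩) (.one ⟨8529, 0, 4⟩)) (.node 1 (.one ⟨15847, 2, 3⟩) (.one ⟨12740, 0, 3⟩))) (.node 2 (.node 1 (.one ⟨12720, 0, 4⟩) (.one ⟨9196, 2, 3⟩))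 (.node 1 (.one ⟨6561, 2, 4⟩) (.one ⟨4008, 2, 5⟩))))) (.node 8 (.node 4 (.node 2 (.node 1 (.one ⟨7196, 2, 6⟩) (.one ⟨16845, 2, 5⟩)) (.node 1 (.one ⟨4235, 1, 3⟩) (.one ⟨6936, 2, 5⟩))) (.node 2 (.node 1 (.one ⟨13342, 0, 4⟩) (.one ⟨9971, 2, 5⟩)) (.node 1 (.one ⟨13377, 0, 4⟩) (.one ⟨7228, 2, 3⟩)))) (.node 4 (.node 2 (.node 1 (.one ⟨9942, 2, 2⟩) (.one ⟨4238, 2, 3⟩)) (.node 1 (.one ⟨10785, 1, 4⟩) (.one ⟨9992, 2, 5⟩))) (.node 2 (.node 1 (.one ⟨13381, 0, 4⟩) (.one ⟨5525, 1, 4⟩)) (.node 1 (.one ⟨4303, 2, 4⟩) (.one ⟨2215, 1, 0⟩)))))))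
def par6_13_14 : Arr Par :=
  (.node 32 (.node 16 (.node 8 (.node 4 (.node 2 (.node 1 (.one ⟨7869, 2, 5⟩) (.one ⟨16447, 2, 4⟩)) (.node 1 (.one ⟨14031, 0, 4⟩) (.one ⟨1285, 2, 1⟩))) (.node 2 (.node 1 (.one ⟨4413, 0, 4⟩) (.one ⟨13378, 0, 3⟩)) (.node 1 (.one ⟨13990, 0, 4⟩) (.one ⟨15751, 2, 3⟩)))) (.node 4 (.node 2 (.node 1 (.one ⟨482, 2, 4⟩) (.one ⟨484, 2, 5⟩)) (.node 1 (.one ⟨4941, 1, 4⟩) (.one ⟨481, 2, 4⟩))) (.node 2 (.node 1 (.one ⟨13382, 0, 4⟩) (.one ⟨4938, 1, 4⟩)) (.node 1 (.one ⟨8953, 1, 5⟩) (.one ⟨15347, 0, 4⟩))))) (.node 8 (.node 4 (.node 2 (.node 1 (.one ⟨15363, 0, 4⟩) (.one ⟨15396, 0, 4⟩)) (.node 1 (.one ⟨16466, 2, 3⟩) (.one ⟨12022, 2, 4⟩))) (.node 2 (.node 1 (.one ⟨14706, 2, 4⟩) (.one ⟨4219, 0, 4⟩))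 (.node 1 (.one ⟨4236, 0, 4⟩) (.one ⟨11392, 0, 3⟩)))) (.node 4 (.node 2 (.node 1 (.one ⟨3811, 2, 5⟩) (.one ⟨3662, 0, 3⟩)) (.node 1 (.one ⟨16687, 0, 5⟩) (.one ⟨13515, 0, 1⟩))) (.node 2 (.node 1 (.one ⟨17121, 2, 4⟩) (.one ⟨1369, 0, 1⟩)) (.node 1 (.one ⟨5261, 2, 6⟩) (.one ⟨1758, 0, 4⟩)))))) (.node 16 (.node 8 (.node 4 (.node 2 (.node 1 (.one ⟨10441, 2, 5⟩) (.one ⟨8346, 2, 4⟩)) (.node 1 (.one ⟨3732, 2, 5⟩) (.one ⟨9324, 0, 2⟩))) (.node 2 (.node 1 (.one ⟨4252, 0, 3⟩) (.one ⟨1806, 0, 2⟩)) (.node 1 (.one ⟨12581, 0, 2⟩) (.one ⟨4103, 2, 2⟩)))) (.node 4 (.node 2 (.node 1 (.one ⟨16222, 2, 2⟩) (.one ⟨4660, 2, 2⟩)) (.node 1 (.one ⟨16440, 2, 2⟩) (.one ⟨2387, 0, 4⟩))) (.node 2 (.node 1 (.one ⟨16342, 0, 4⟩) (.one ⟨1219, 2, 6⟩))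 (.node 1 (.one ⟨4921, 0, 4⟩) (.one ⟨14237, 2, 2⟩))))) (.node 8 (.node 4 (.node 2 (.node 1 (.one ⟨2048, 2, 2⟩) (.one ⟨5670, 2, 5⟩)) (.node 1 (.one ⟨1851, 0, 4⟩) (.one ⟨9775, 2, 2⟩))) (.node 2 (.node 1 (.one ⟨5822, 2, 2⟩) (.one ⟨1864, 2, 2⟩)) (.node 1 (.one ⟨14062, 2, 2⟩) (.one ⟨8876, 0, 3⟩)))) (.node 4 (.node 2 (.node 1 (.one ⟨15243, 2, 4⟩) (.one ⟨3544, 0, 5⟩)) (.node 1 (.one ⟨16675, 2, 4⟩) (.one ⟨13249, 0, 2⟩))) (.node 2 (.node 1 (.one ⟨3148, 0, 2⟩) (.one ⟨15748, 0, 2⟩)) (.node 1 (.one ⟨5690, 0, 2⟩) (.one ⟨7599, 1, 5⟩)))))))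
def par6_13_15 : Arr Par :=
  (.node 32 (.node 16 (.node 8 (.node 4 (.node 2 (.node 1 (.one ⟨3822, 1, 3⟩) (.one ⟨504, 1, 4⟩)) (.node 1 (.one ⟨13793, 2, 5⟩) (.one ⟨6629, 2, 5⟩))) (.node 2 (.node 1 (.one ⟨5311, 2, 5⟩) (.one ⟨16836, 2, 5⟩)) (.node 1 (.one ⟨11041, 2, 5⟩) (.one ⟨13383, 2, 3⟩)))) (.node 4 (.node 2 (.node 1 (.one ⟨15913, 0, 4⟩) (.one ⟨10110, 2, 4⟩)) (.node 1 (.one ⟨5619, 1, 1⟩) (.one ⟨11409, 0, 3⟩))) (.node 2 (.node 1 (.one ⟨6713, 1, 4⟩) (.one ⟨14317, 1, 3⟩)) (.node 1 (.one ⟨5251, 2, 4⟩) (.one ⟨12344, 1, 4⟩))))) (.node 8 (.node 4 (.node 2 (.node 1 (.one ⟨15333, 1, 4⟩) (.one ⟨7741, 2, 6⟩)) (.node 1 (.one ⟨12992, 1, 4⟩) (.one ⟨8555, 1, 5⟩))) (.node 2 (.node 1 (.one ⟨15498, 2, 3⟩) (.one ⟨3203, 1, 4⟩))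 (.node 1 (.one ⟨10997, 2, 5⟩) (.one ⟨5579, 2, 4⟩)))) (.node 4 (.node 2 (.node 1 (.one ⟨11760, 2, 4⟩) (.one ⟨15400, 0, 2⟩)) (.node 1 (.one ⟨1298, 0, 3⟩) (.one ⟨13247, 0, 4⟩))) (.node 2 (.node 1 (.one ⟨7770, 0, 4⟩) (.one ⟨8451, 2, 4⟩)) (.node 1 (.one ⟨10936, 2, 4⟩) (.one ⟨3342, 1, 0⟩)))))) (.node 16 (.node 8 (.node 4 (.node 2 (.node 1 (.one ⟨11861, 1, 2⟩) (.one ⟨2410, 1, 0⟩)) (.node 1 (.one ⟨2060, 1, 0⟩) (.one ⟨14104, 2, 6⟩))) (.node 2 (.node 1 (.one ⟨5709, 2, 5⟩) (.one ⟨5028, 2, 5⟩)) (.node 1 (.one ⟨12857, 2, 5⟩) (.one ⟨4821, 2, 4⟩)))) (.node 4 (.node 2 (.node 1 (.one ⟨10426, 2, 4⟩) (.one ⟨13149, 2, 5⟩)) (.node 1 (.one ⟨898, 2, 4⟩) (.one ⟨5974, 0, 2⟩))) (.node 2 (.node 1 (.one ⟨5215, 2, 5⟩) (.one ⟨4653, 0, 2⟩))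 (.node 1 (.one ⟨12605, 0, 5⟩) (.one ⟨3965, 0, 4⟩))))) (.node 8 (.node 4 (.node 2 (.node 1 (.one ⟨9084, 0, 4⟩) (.one ⟨9489, 0, 4⟩)) (.node 1 (.one ⟨11048, 2, 5⟩) (.one ⟨5549, 0, 4⟩))) (.node 2 (.node 1 (.one ⟨8576, 2, 4⟩) (.one ⟨11080, 0, 4⟩)) (.node 1 (.one ⟨9875, 2, 5⟩) (.one ⟨8195, 2, 5⟩)))) (.node 4 (.node 2 (.node 1 (.one ⟨7304, 0, 3⟩) (.one ⟨10349, 2, 5⟩)) (.node 1 (.one ⟨15849, 1, 5⟩) (.one ⟨8491, 2, 5⟩))) (.node 2 (.node 1 (.one ⟨6347, 0, 3⟩) (.one ⟨8295, 1, 4⟩)) (.node 1 (.one ⟨14977, 0, 4⟩) (.one ⟨13205, 0, 4⟩)))))))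
def par6_13 : Arr Par :=
  (.node 512 (.node 256 (.node 128 (.node 64 par6_13_0 par6_13_1) (.node 64 par6_13_2 par6_13_3)) (.node 128 (.node 64 par6_13_4 par6_13_5) (.node 64 par6_13_6 par6_13_7))) (.node 256 (.node 128 (.node 64 par6_13_8 par6_13_9) (.node 64 par6_13_10 par6_13_11)) (.node 128 (.node 64 par6_13_12 par6_13_13) (.node 64 par6_13_14 par6_13_15))))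
def par6_14_0 : Arr Par :=
  (.node 32 (.node 16 (.node 8 (.node 4 (.node 2 (.node 1 (.one ⟨352, 2, 5⟩) (.one ⟨8237, 0, 4⟩)) (.node 1 (.one ⟨2948, 0, 4⟩) (.one ⟨14012, 2, 5⟩))) (.node 2 (.node 1 (.one ⟨2432, 0, 3⟩) (.one ⟨662, 2, 4⟩)) (.node 1 (.one ⟨15250, 0, 4⟩) (.one ⟨11626, 0, 3⟩)))) (.node 4 (.node 2 (.node 1 (.one ⟨1502, 2, 4⟩) (.one ⟨16133, 1, 4⟩)) (.node 1 (.one ⟨11388, 2, 5⟩) (.one ⟨2443, 1, 4⟩))) (.node 2 (.node 1 (.one ⟨12771, 0, 2⟩) (.one ⟨2851, 0, 5⟩)) (.node 1 (.one ⟨11767, 1, 5⟩) (.one ⟨8566, 2, 2⟩))))) (.node 8 (.node 4 (.node 2 (.node 1 (.one ⟨16653, 2, 2⟩) (.one ⟨14078, 2, 2⟩)) (.node 1 (.one ⟨6019, 2, 2⟩) (.one ⟨16638, 2, 4⟩))) (.node 2 (.node 1 (.one ⟨8582, 2, 4⟩) (.one ⟨6005, 2, 5⟩)) (.node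 1 (.one ⟨14093, 2, 4⟩) (.one ⟨9201, 2, 1⟩)))) (.node 4 (.node 2 (.node 1 (.one ⟨13478, 2, 5⟩) (.one ⟨5632, 0, 4⟩)) (.node 1 (.one ⟨5607, 0, 2⟩) (.one ⟨16309, 0, 2⟩))) (.node 2 (.node 1 (.one ⟨13530, 2, 4⟩) (.one ⟨8209, 0, 2⟩)) (.node 1 (.one ⟨8114, 0, 5⟩) (.one ⟨5248, 2, 4⟩)))))) (.node 16 (.node 8 (.node 4 (.node 2 (.node 1 (.one ⟨16792, 2, 4⟩) (.one ⟨14516, 2, 4⟩)) (.node 1 (.one ⟨1048, 2, 4⟩) (.one ⟨12505, 2, 4⟩))) (.node 2 (.node 1 (.one ⟨16245, 0, 2⟩) (.one ⟨7220, 2, 4⟩)) (.node 1 (.one ⟨11005, 2, 2⟩) (.one ⟨9047, 1, 3⟩)))) (.node 4 (.node 2 (.node 1 (.one ⟨14091, 2, 3⟩) (.one ⟨10098, 2, 4⟩)) (.node 1 (.one ⟨8467, 2, 4⟩) (.one ⟨5222, 2, 4⟩))) (.node 2 (.node 1 (.one ⟨14536, 2, 4⟩) (.one ⟨9053, 1, 5⟩))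 (.node 1 (.one ⟨13993, 0, 3⟩) (.one ⟨7879, 0, 4⟩))))) (.node 8 (.node 4 (.node 2 (.node 1 (.one ⟨16027, 0, 4⟩) (.one ⟨13078, 2, 2⟩)) (.node 1 (.one ⟨4862, 1, 4⟩) (.one ⟨7473, 1, 1⟩))) (.node 2 (.node 1 (.one ⟨10510, 0, 2⟩) (.one ⟨16454, 2, 5⟩)) (.node 1 (.one ⟨9524, 2, 5⟩) (.one ⟨13637, 2, 2⟩)))) (.node 4 (.node 2 (.node 1 (.one ⟨11555, 2, 4⟩) (.one ⟨4455, 2, 3⟩)) (.node 1 (.one ⟨8458, 2, 5⟩) (.one ⟨14479, 2, 2⟩))) (.node 2 (.node 1 (.one ⟨10929, 2, 5⟩) (.one ⟨3709, 2, 5⟩)) (.node 1 (.one ⟨8923, 2, 4⟩) (.one ⟨16160, 0, 3⟩)))))))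
def par6_14_1 : Arr Par :=
  (.node 32 (.node 16 (.node 8 (.node 4 (.node 2 (.node 1 (.one ⟨10918, 2, 6⟩) (.one ⟨1554, 0, 1⟩)) (.node 1 (.one ⟨7229, 0, 5⟩) (.one ⟨4183, 1, 0⟩))) (.node 2 (.node 1 (.one ⟨14848, 2, 4⟩) (.one ⟨2980, 2, 5⟩)) (.node 1 (.one ⟨8572, 0, 1⟩) (.one ⟨314, 1, 0⟩)))) (.node 4 (.node 2 (.node 1 (.one ⟨12581, 1, 2⟩) (.one ⟨4579, 1, 0⟩)) (.node 1 (.one ⟨1132, 1, 2⟩) (.one ⟨13586, 2, 5⟩))) (.node 2 (.node 1 (.one ⟨5025, 2, 5⟩) (.one ⟨14287, 2, 5⟩)) (.node 1 (.one ⟨5703, 2, 5⟩) (.one ⟨8171, 2, 3⟩))))) (.node 8 (.node 4 (.node 2 (.node 1 (.one ⟨14661, 2, 5⟩) (.one ⟨9776, 2, 4⟩)) (.node 1 (.one ⟨754, 0, 3⟩) (.one ⟨3430, 2, 3⟩))) (.node 2 (.node 1 (.one ⟨11716, 2, 5⟩) (.one ⟨16697, 2, 3⟩)) (.node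 1 (.one ⟨6481, 2, 4⟩) (.one ⟨11619, 2, 5⟩)))) (.node 4 (.node 2 (.node 1 (.one ⟨16130, 2, 3⟩) (.one ⟨9686, 0, 4⟩)) (.node 1 (.one ⟨16637, 2, 3⟩) (.one ⟨2858, 2, 3⟩))) (.node 2 (.node 1 (.one ⟨6983, 2, 5⟩) (.one ⟨423, 2, 3⟩)) (.node 1 (.one ⟨5021, 1, 0⟩) (.one ⟨7220, 1, 4⟩)))))) (.node 16 (.node 8 (.node 4 (.node 2 (.node 1 (.one ⟨15321, 0, 4⟩) (.one ⟨5288, 2, 3⟩)) (.node 1 (.one ⟨4348, 2, 3⟩) (.one ⟨5078, 2, 2⟩))) (.node 2 (.node 1 (.one ⟨4457, 2, 2⟩) (.one ⟨3048, 1, 2⟩)) (.node 1 (.one ⟨5666, 2, 5⟩) (.one ⟨1987, 2, 5⟩)))) (.node 4 (.node 2 (.node 1 (.one ⟨9339, 2, 4⟩) (.one ⟨8106, 2, 3⟩)) (.node 1 (.one ⟨15767, 2, 4⟩) (.one ⟨12914, 2, 5⟩))) (.node 2 (.node 1 (.one ⟨4994, 2, 3⟩) (.one ⟨7849, 1, 1⟩)) (.node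 1 (.one ⟨5391, 0, 2⟩) (.one ⟨4390, 0, 5⟩))))) (.node 8 (.node 4 (.node 2 (.node 1 (.one ⟨16511, 2, 3⟩) (.one ⟨10891, 2, 5⟩)) (.node 1 (.one ⟨223, 0, 4⟩) (.one ⟨9900, 1, 5⟩))) (.node 2 (.node 1 (.one ⟨2864, 2, 4⟩) (.one ⟨339, 0, 3⟩)) (.node 1 (.one ⟨4385, 0, 5⟩) (.one ⟨530, 0, 4⟩)))) (.node 4 (.node 2 (.node 1 (.one ⟨712, 2, 5⟩) (.one ⟨606, 2, 1⟩)) (.node 1 (.one ⟨15973, 2, 5⟩) (.one ⟨359, 0, 4⟩))) (.node 2 (.node 1 (.one ⟨117, 2, 4⟩) (.one ⟨15341, 0, 4⟩)) (.node 1 (.one ⟨820, 0, 4⟩) (.one ⟨6886, 2, 2⟩)))))))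
def par6_14_2 : Arr Par :=
  (.node 32 (.node 16 (.node 8 (.node 4 (.node 2 (.node 1 (.one ⟨12426, 2, 5⟩) (.one ⟨17026, 0, 2⟩)) (.node 1 (.one ⟨5487, 2, 4⟩) (.one ⟨1776, 1, 1⟩))) (.node 2 (.node 1 (.one ⟨14874, 2, 3⟩) (.one ⟨13211, 2, 2⟩)) (.node 1 (.one ⟨12130, 1, 1⟩) (.one ⟨14062, 0, 2⟩)))) (.node 4 (.node 2 (.node 1 (.one ⟨5695, 2, 5⟩) (.one ⟨13643, 0, 5⟩)) (.node 1 (.one ⟨14627, 0, 4⟩) (.one ⟨5106, 1, 1⟩))) (.node 2 (.node 1 (.one ⟨12401, 2, 4⟩) (.one ⟨16004, 2, 5⟩)) (.node 1 (.one ⟨1912, 0, 4⟩) (.one ⟨14850, 0, 1⟩))))) (.node 8 (.node 4 (.node 2 (.node 1 (.one ⟨1160, 2, 4⟩) (.one ⟨2679, 0, 2⟩)) (.node 1 (.one ⟨6196, 2, 4⟩) (.one ⟨11430, 0, 2⟩))) (.node 2 (.node 1 (.one ⟨2590, 2, 4⟩) (.one ⟨2207, 1, 1⟩))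 (.node 1 (.one ⟨6050, 2, 2⟩) (.one ⟨1967, 0, 5⟩)))) (.node 4 (.node 2 (.node 1 (.one ⟨14852, 0, 3⟩) (.one ⟨1998, 0, 5⟩)) (.node 1 (.one ⟨14841, 0, 5⟩) (.one ⟨4660, 0, 2⟩))) (.node 2 (.node 1 (.one ⟨16005, 0, 4⟩) (.one ⟨5642, 1, 4⟩)) (.node 1 (.one ⟨6433, 1, 4⟩) (.one ⟨4224, 1, 1⟩)))))) (.node 16 (.node 8 (.node 4 (.node 2 (.node 1 (.one ⟨3815, 2, 3⟩) (.one ⟨3416, 1, 4⟩)) (.node 1 (.one ⟨4322, 0, 4⟩) (.one ⟨4214, 0, 4⟩))) (.node 2 (.node 1 (.one ⟨10874, 2, 2⟩) (.one ⟨15991, 2, 5⟩)) (.node 1 (.one ⟨6393, 0, 4⟩) (.one ⟨7036, 2, 5⟩)))) (.node 4 (.node 2 (.node 1 (.one ⟨9144, 2, 3⟩) (.one ⟨15141, 2, 5⟩)) (.node 1 (.one ⟨1447, 2, 5⟩) (.one ⟨15088, 2, 5⟩))) (.node 2 (.node 1 (.one ⟨601, 2, 1⟩) (.one ⟨2830, 0, 4⟩))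 (.node 1 (.one ⟨9558, 2, 4⟩) (.one ⟨1669, 2, 5⟩))))) (.node 8 (.node 4 (.node 2 (.node 1 (.one ⟨10257, 2, 5⟩) (.one ⟨3158, 0, 2⟩)) (.node 1 (.one ⟨12245, 1, 2⟩) (.one ⟨1979, 2, 6⟩))) (.node 2 (.node 1 (.one ⟨9303, 2, 3⟩) (.one ⟨1579, 2, 2⟩)) (.node 1 (.one ⟨10109, 2, 5⟩) (.one ⟨15265, 0, 2⟩)))) (.node 4 (.node 2 (.node 1 (.one ⟨10756, 0, 2⟩) (.one ⟨9075, 2, 5⟩)) (.node 1 (.one ⟨8917, 1, 5⟩) (.one ⟨4057, 1, 1⟩))) (.node 2 (.node 1 (.one ⟨3318, 0, 1⟩) (.one ⟨5091, 2, 4⟩)) (.node 1 (.one ⟨16676, 2, 4⟩) (.one ⟨10085, 0, 4⟩)))))))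
def par6_14_3 : Arr Par :=
  (.node 32 (.node 16 (.node 8 (.node 4 (.node 2 (.node 1 (.one ⟨5754, 2, 5⟩) (.one ⟨3622, 2, 5⟩)) (.node 1 (.one ⟨7709, 2, 5⟩) (.one ⟨9631, 0, 2⟩))) (.node 2 (.node 1 (.one ⟨2440, 2, 4⟩) (.one ⟨8228, 2, 5⟩)) (.node 1 (.one ⟨3996, 2, 5⟩) (.one ⟨5016, 2, 4⟩)))) (.node 4 (.node 2 (.node 1 (.one ⟨14159, 0, 3⟩) (.one ⟨341, 2, 4⟩)) (.node 1 (.one ⟨14779, 2, 2⟩) (.one ⟨12925, 2, 4⟩))) (.node 2 (.node 1 (.one ⟨412, 0, 3⟩) (.one ⟨10099, 2, 4⟩)) (.node 1 (.one ⟨6902, 2, 3⟩) (.one ⟨4590, 2, 3⟩))))) (.node 8 (.node 4 (.node 2 (.node 1 (.one ⟨16808, 0, 3⟩) (.one ⟨16108, 2, 5⟩)) (.node 1 (.one ⟨13446, 0, 4⟩) (.one ⟨6761, 0, 3⟩))) (.node 2 (.node 1 (.one ⟨16044, 0, 4⟩) (.one ⟨7491, 1, 3⟩)) (.node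 1 (.one ⟨12574, 0, 3⟩) (.one ⟨6907, 0, 2⟩)))) (.node 4 (.node 2 (.node 1 (.one ⟨12428, 2, 4⟩) (.one ⟨13880, 0, 4⟩)) (.node 1 (.one ⟨3297, 0, 2⟩) (.one ⟨17137, 0, 4⟩))) (.node 2 (.node 1 (.one ⟨11882, 2, 4⟩) (.one ⟨6315, 2, 4⟩)) (.node 1 (.one ⟨12400, 2, 4⟩) (.one ⟨5085, 2, 3⟩)))))) (.node 16 (.node 8 (.node 4 (.node 2 (.node 1 (.one ⟨12598, 2, 5⟩) (.one ⟨15831, 2, 2⟩)) (.node 1 (.one ⟨5701, 1, 4⟩) (.one ⟨10221, 1, 5⟩))) (.node 2 (.node 1 (.one ⟨12245, 0, 2⟩) (.one ⟨2460, 2, 3⟩)) (.node 1 (.one ⟨3775, 0, 4⟩) (.one ⟨2289, 1, 4⟩)))) (.node 4 (.node 2 (.node 1 (.one ⟨12871, 1, 4⟩) (.one ⟨9864, 2, 4⟩)) (.node 1 (.one ⟨1296, 1, 3⟩) (.one ⟨9918, 2, 6⟩))) (.node 2 (.node 1 (.one ⟨16095, 2, 4⟩) (.one ⟨15940, 2, 4⟩))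 (.node 1 (.one ⟨12227, 0, 5⟩) (.one ⟨4925, 2, 4⟩))))) (.node 8 (.node 4 (.node 2 (.node 1 (.one ⟨16287, 0, 3⟩) (.one ⟨4309, 2, 5⟩)) (.node 1 (.one ⟨3202, 2, 4⟩) (.one ⟨10125, 2, 5⟩))) (.node 2 (.node 1 (.one ⟨12888, 2, 4⟩) (.one ⟨11557, 2, 4⟩)) (.node 1 (.one ⟨12211, 0, 3⟩) (.one ⟨7603, 2, 3⟩)))) (.node 4 (.node 2 (.node 1 (.one ⟨4530, 2, 3⟩) (.one ⟨15770, 2, 4⟩)) (.node 1 (.one ⟨7742, 0, 3⟩) (.one ⟨1465, 2, 4⟩))) (.node 2 (.node 1 (.one ⟨6634, 2, 5⟩) (.one ⟨9679, 2, 5⟩)) (.node 1 (.one ⟨8158, 0, 4⟩) (.one ⟨6765, 0, 5⟩)))))))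
def par6_14_4 : Arr Par :=
  (.node 32 (.node 16 (.node 8 (.node 4 (.node 2 (.node 1 (.one ⟨11054, 2, 5⟩) (.one ⟨8927, 0, 4⟩)) (.node 1 (.one ⟨11783, 2, 5⟩) (.one ⟨6269, 0, 1⟩))) (.node 2 (.node 1 (.one ⟨4579, 2, 6⟩) (.one ⟨7599, 0, 5⟩)) (.node 1 (.one ⟨1797, 0, 5⟩) (.one ⟨315, 1, 0⟩)))) (.node 4 (.node 2 (.node 1 (.one ⟨4505, 1, 3⟩) (.one ⟨4796, 1, 0⟩)) (.node 1 (.one ⟨9249, 1, 2⟩) (.one ⟨11455, 1, 4⟩))) (.node 2 (.node 1 (.one ⟨14109, 2, 5⟩) (.one ⟨13583, 2, 3⟩)) (.node 1 (.one ⟨12862, 2, 5⟩) (.one ⟨16037, 2, 5⟩))))) (.node 8 (.node 4 (.node 2 (.node 1 (.one ⟨14483, 2, 3⟩) (.one ⟨6870, 0, 3⟩)) (.node 1 (.one ⟨8646, 2, 4⟩) (.one ⟨11023, 1, 1⟩))) (.node 2 (.node 1 (.one ⟨2998, 2, 5⟩) (.one ⟨1266, 0, 1⟩)) (.node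 1 (.one ⟨10935, 0, 4⟩) (.one ⟨566, 0, 4⟩)))) (.node 4 (.node 2 (.node 1 (.one ⟨780, 2, 5⟩) (.one ⟨12761, 2, 5⟩)) (.node 1 (.one ⟨9360, 1, 1⟩) (.one ⟨353, 0, 4⟩))) (.node 2 (.node 1 (.one ⟨7838, 0, 4⟩) (.one ⟨394, 0, 4⟩)) (.node 1 (.one ⟨7837, 0, 2⟩) (.one ⟨1566, 2, 3⟩)))))) (.node 16 (.node 8 (.node 4 (.node 2 (.node 1 (.one ⟨14111, 2, 5⟩) (.one ⟨9309, 2, 5⟩)) (.node 1 (.one ⟨5983, 2, 4⟩) (.one ⟨14002, 2, 3⟩))) (.node 2 (.node 1 (.one ⟨602, 2, 1⟩) (.one ⟨9596, 1, 1⟩)) (.node 1 (.one ⟨9381, 2, 4⟩) (.one ⟨10225, 2, 5⟩)))) (.node 4 (.node 2 (.node 1 (.one ⟨13433, 2, 5⟩) (.one ⟨4333, 1, 4⟩)) (.node 1 (.one ⟨5768, 2, 5⟩) (.one ⟨12966, 2, 5⟩))) (.node 2 (.node 1 (.one ⟨10401, 2, 5⟩) (.one ⟨598, 0, 4⟩)) (.node 1 (.one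 ⟨8672, 2, 6⟩) (.one ⟨4329, 2, 5⟩))))) (.node 8 (.node 4 (.node 2 (.node 1 (.one ⟨14361, 2, 5⟩) (.one ⟨12410, 2, 5⟩)) (.node 1 (.one ⟨6217, 2, 2⟩) (.one ⟨12371, 2, 3⟩))) (.node 2 (.node 1 (.one ⟨6309, 2, 5⟩) (.one ⟨4356, 2, 5⟩)) (.node 1 (.one ⟨14261, 2, 3⟩) (.one ⟨10696, 2, 1⟩)))) (.node 4 (.node 2 (.node 1 (.one ⟨16631, 2, 4⟩) (.one ⟨11153, 2, 3⟩)) (.node 1 (.one ⟨16317, 2, 4⟩) (.one ⟨3626, 2, 4⟩))) (.node 2 (.node 1 (.one ⟨7222, 2, 3⟩) (.one ⟨5207, 2, 4⟩)) (.node 1 (.one ⟨5660, 2, 4⟩) (.one ⟨10393, 2, 5⟩)))))))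
def par6_14_5 : Arr Par :=
  (.node 32 (.node 16 (.node 8 (.node 4 (.node 2 (.node 1 (.one ⟨14414, 2, 6⟩) (.one ⟨5910, 2, 4⟩)) (.node 1 (.one ⟨10747, 0, 4⟩) (.one ⟨4516, 2, 4⟩))) (.node 2 (.node 1 (.one ⟨13531, 0, 4⟩) (.one ⟨6853, 0, 4⟩)) (.node 1 (.one ⟨11877, 2, 5⟩) (.one ⟨7804, 2, 6⟩)))) (.node 4 (.node 2 (.node 1 (.one ⟨14863, 2, 3⟩) (.one ⟨10271, 0, 2⟩)) (.node 1 (.one ⟨13216, 2, 6⟩) (.one ⟨8177, 2, 3⟩))) (.node 2 (.node 1 (.one ⟨1687, 0, 4⟩) (.one ⟨10062, 0, 2⟩)) (.node 1 (.one ⟨12635, 2, 3⟩) (.one ⟨4485, 2, 5⟩))))) (.node 8 (.node 4 (.node 2 (.node 1 (.one ⟨5759, 2, 4⟩) (.one ⟨8512, 1, 5⟩)) (.node 1 (.one ⟨16321, 2, 1⟩) (.one ⟨7013, 2, 3⟩))) (.node 2 (.node 1 (.one ⟨5183, 2, 5⟩) (.one ⟨16831, 2, 3⟩))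 (.node 1 (.one ⟨11046, 2, 6⟩) (.one ⟨9281, 2, 6⟩)))) (.node 4 (.node 2 (.node 1 (.one ⟨14205, 2, 5⟩) (.one ⟨5143, 0, 4⟩)) (.node 1 (.one ⟨14155, 0, 5⟩) (.one ⟨6133, 2, 6⟩))) (.node 2 (.node 1 (.one ⟨1292, 2, 4⟩) (.one ⟨14250, 2, 3⟩)) (.node 1 (.one ⟨9436, 2, 4⟩) (.one ⟨15601, 2, 3⟩)))))) (.node 16 (.node 8 (.node 4 (.node 2 (.node 1 (.one ⟨6239, 2, 5⟩) (.one ⟨10575, 2, 5⟩)) (.node 1 (.one ⟨3128, 2, 5⟩) (.one ⟨4668, 2, 5⟩))) (.node 2 (.node 1 (.one ⟨3436, 0, 2⟩) (.one ⟨13067, 0, 5⟩)) (.node 1 (.one ⟨16577, 2, 6⟩) (.one ⟨14576, 0, 4⟩)))) (.node 4 (.node 2 (.node 1 (.one ⟨1278, 1, 4⟩) (.one ⟨6448, 2, 3⟩)) (.node 1 (.one ⟨1839, 2, 5⟩) (.one ⟨13685, 2, 6⟩))) (.node 2 (.node 1 (.one ⟨10358, 2, 6⟩) (.one ⟨14480, 0,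 5⟩)) (.node 1 (.one ⟨1362, 0, 1⟩) (.one ⟨5492, 2, 3⟩))))) (.node 8 (.node 4 (.node 2 (.node 1 (.one ⟨13064, 0, 3⟩) (.one ⟨2618, 2, 4⟩)) (.node 1 (.one ⟨15120, 0, 3⟩) (.one ⟨1911, 2, 5⟩))) (.node 2 (.node 1 (.one ⟨15425, 2, 5⟩) (.one ⟨4916, 2, 3⟩)) (.node 1 (.one ⟨16269, 2, 5⟩) (.one ⟨11999, 0, 2⟩)))) (.node 4 (.node 2 (.node 1 (.one ⟨16662, 2, 4⟩) (.one ⟨2997, 0, 1⟩)) (.node 1 (.one ⟨10784, 0, 4⟩) (.one ⟨7782, 2, 4⟩))) (.node 2 (.node 1 (.one ⟨15730, 2, 4⟩) (.one ⟨7789, 0, 1⟩)) (.node 1 (.one ⟨17050, 0, 5⟩) (.one ⟨4851, 0, 1⟩)))))))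
def par6_14_6 : Arr Par :=
  (.node 32 (.node 16 (.node 8 (.node 4 (.node 2 (.node 1 (.one ⟨5271, 0, 4⟩) (.one ⟨13494, 1, 4⟩)) (.node 1 (.one ⟨5891, 0, 4⟩) (.one ⟨822, 2, 4⟩))) (.node 2 (.node 1 (.one ⟨13487, 1, 4⟩) (.one ⟨9285, 0, 1⟩)) (.node 1 (.one ⟨824, 2, 4⟩) (.one ⟨6810, 2, 5⟩)))) (.node 4 (.node 2 (.node 1 (.one ⟨3885, 2, 4⟩) (.one ⟨9265, 0, 4⟩)) (.node 1 (.one ⟨12331, 2, 4⟩) (.one ⟨17021, 2, 4⟩))) (.node 2 (.node 1 (.one ⟨10741, 2, 4⟩) (.one ⟨10203, 0, 4⟩)) (.node 1 (.one ⟨2686, 0, 4⟩) (.one ⟨13524, 0, 5⟩))))) (.node 8 (.node 4 (.node 2 (.node 1 (.one ⟨14971, 0, 2⟩) (.one ⟨8116, 0, 5⟩)) (.node 1 (.one ⟨6431, 1, 4⟩) (.one ⟨2706, 0, 4⟩))) (.node 2 (.node 1 (.one ⟨11183, 2, 3⟩) (.one ⟨3442, 1, 3⟩)) (.node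 1 (.one ⟨12729, 0, 2⟩) (.one ⟨10367, 2, 5⟩)))) (.node 4 (.node 2 (.node 1 (.one ⟨9929, 0, 2⟩) (.one ⟨3876, 2, 5⟩)) (.node 1 (.one ⟨13210, 2, 5⟩) (.one ⟨3479, 2, 4⟩))) (.node 2 (.node 1 (.one ⟨10269, 0, 2⟩) (.one ⟨9472, 0, 2⟩)) (.node 1 (.one ⟨1891, 0, 2⟩) (.one ⟨1515, 2, 5⟩)))))) (.node 16 (.node 8 (.node 4 (.node 2 (.node 1 (.one ⟨12327, 2, 3⟩) (.one ⟨3882, 2, 5⟩)) (.node 1 (.one ⟨10524, 2, 6⟩) (.one ⟨3775, 2, 4⟩))) (.node 2 (.node 1 (.one ⟨10419, 2, 5⟩) (.one ⟨783, 2, 4⟩)) (.node 1 (.one ⟨12224, 2, 5⟩) (.one ⟨10395, 0, 2⟩)))) (.node 4 (.node 2 (.node 1 (.one ⟨495, 2, 5⟩) (.one ⟨6808, 2, 3⟩)) (.node 1 (.one ⟨2155, 0, 3⟩) (.one ⟨3196, 2, 4⟩))) (.node 2 (.node 1 (.one ⟨3607, 0, 3⟩) (.one ⟨10458, 2, 5⟩)) (.node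 1 (.one ⟨11627, 0, 3⟩) (.one ⟨17197, 0, 2⟩))))) (.node 8 (.node 4 (.node 2 (.node 1 (.one ⟨13641, 0, 3⟩) (.one ⟨5376, 0, 3⟩)) (.node 1 (.one ⟨14793, 2, 2⟩) (.one ⟨7978, 0, 5⟩))) (.node 2 (.node 1 (.one ⟨11208, 2, 6⟩) (.one ⟨11803, 0, 2⟩)) (.node 1 (.one ⟨11193, 0, 3⟩) (.one ⟨12397, 0, 1⟩)))) (.node 4 (.node 2 (.node 1 (.one ⟨4396, 0, 4⟩) (.one ⟨3403, 2, 5⟩)) (.node 1 (.one ⟨10176, 2, 3⟩) (.one ⟨10022, 1, 1⟩))) (.node 2 (.node 1 (.one ⟨12349, 0, 4⟩) (.one ⟨12381, 0, 4⟩)) (.node 1 (.one ⟨4380, 0, 4⟩) (.one ⟨13513, 2, 1⟩)))))))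
def par6_14_7 : Arr Par :=
  (.node 32 (.node 16 (.node 8 (.node 4 (.node 2 (.node 1 (.one ⟨16233, 2, 3⟩) (.one ⟨10092, 0, 4⟩)) (.node 1 (.one ⟨13103, 2, 3⟩) (.one ⟨6824, 2, 3⟩))) (.node 2 (.node 1 (.one ⟨5589, 0, 4⟩) (.one ⟨490, 2, 4⟩)) (.node 1 (.one ⟨221, 1, 4⟩) (.one ⟨4635, 2, 3⟩)))) (.node 4 (.node 2 (.node 1 (.one ⟨7819, 2, 3⟩) (.one ⟨7190, 2, 1⟩)) (.node 1 (.one ⟨2435, 2, 2⟩) (.one ⟨4464, 2, 3⟩))) (.node 2 (.node 1 (.one ⟨9097, 2, 3⟩) (.one ⟨6127, 2, 1⟩)) (.node 1 (.one ⟨82, 1, 1⟩) (.one ⟨2076, 2, 3⟩))))) (.node 8 (.node 4 (.node 2 (.node 1 (.one ⟨1841, 2, 5⟩) (.one ⟨8503, 0, 1⟩)) (.node 1 (.one ⟨10026, 2, 4⟩) (.one ⟨1645, 2, 4⟩))) (.node 2 (.node 1 (.one ⟨8516, 0, 4⟩) (.one ⟨4366, 0, 3⟩)) (.node 1 (.one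 ⟨9801, 2, 5⟩) (.one ⟨12982, 2, 5⟩)))) (.node 4 (.node 2 (.node 1 (.one ⟨12272, 2, 3⟩) (.one ⟨214, 2, 3⟩)) (.node 1 (.one ⟨5831, 0, 3⟩) (.one ⟨7099, 2, 3⟩))) (.node 2 (.node 1 (.one ⟨5593, 2, 5⟩) (.one ⟨5838, 0, 3⟩)) (.node 1 (.one ⟨16632, 2, 3⟩) (.one ⟨5566, 2, 4⟩)))))) (.node 16 (.node 8 (.node 4 (.node 2 (.node 1 (.one ⟨10784, 1, 4⟩) (.one ⟨3618, 0, 2⟩)) (.node 1 (.one ⟨5617, 0, 4⟩) (.one ⟨16992, 0, 3⟩))) (.node 2 (.node 1 (.one ⟨2893, 2, 3⟩) (.one ⟨13093, 0, 3⟩)) (.node 1 (.one ⟨15101, 0, 4⟩) (.one ⟨11490, 0, 4⟩)))) (.node 4 (.node 2 (.node 1 (.one ⟨16877, 2, 5⟩) (.one ⟨5872, 2, 2⟩)) (.node 1 (.one ⟨6671, 2, 3⟩) (.one ⟨13357, 2, 2⟩))) (.node 2 (.node 1 (.one ⟨11654, 1, 4⟩) (.one ⟨2746, 2, 2⟩)) (.node 1 (.one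 ⟨12920, 0, 4⟩) (.one ⟨16748, 1, 4⟩))))) (.node 8 (.node 4 (.node 2 (.node 1 (.one ⟨11578, 0, 4⟩) (.one ⟨4540, 2, 3⟩)) (.node 1 (.one ⟨16907, 2, 5⟩) (.one ⟨11354, 2, 5⟩))) (.node 2 (.node 1 (.one ⟨8375, 0, 5⟩) (.one ⟨8918, 0, 5⟩)) (.node 1 (.one ⟨10288, 2, 2⟩) (.one ⟨4381, 2, 4⟩)))) (.node 4 (.node 2 (.node 1 (.one ⟨2018, 1, 5⟩) (.one ⟨2026, 2, 4⟩)) (.node 1 (.one ⟨14189, 2, 4⟩) (.one ⟨5397, 2, 2⟩))) (.node 2 (.node 1 (.one ⟨15037, 0, 2⟩) (.one ⟨11669, 0, 2⟩)) (.node 1 (.one ⟨679, 1, 4⟩) (.one ⟨13516, 2, 6⟩)))))))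
def par6_14_8 : Arr Par :=
  (.node 32 (.node 16 (.node 8 (.node 4 (.node 2 (.node 1 (.one ⟨4733, 0, 3⟩) (.one ⟨10197, 2, 4⟩)) (.node 1 (.one ⟨1987, 1, 0⟩) (.one ⟨11674, 0, 4⟩))) (.node 2 (.node 1 (.one ⟨4371, 2, 2⟩) (.one ⟨13143, 2, 4⟩)) (.node 1 (.one ⟨4622, 0, 4⟩) (.one ⟨3310, 0, 5⟩)))) (.node 4 (.node 2 (.node 1 (.one ⟨6925, 0, 2⟩) (.one ⟨1528, 2, 5⟩)) (.node 1 (.one ⟨5641, 1, 4⟩) (.one ⟨12137, 0, 2⟩))) (.node 2 (.node 1 (.one ⟨3240, 2, 3⟩) (.one ⟨12114, 0, 4⟩)) (.node 1 (.one ⟨15992, 0, 2⟩) (.one ⟨7259, 2, 2⟩))))) (.node 8 (.node 4 (.node 2 (.node 1 (.one ⟨9218, 2, 2⟩) (.one ⟨11380, 2, 2⟩)) (.node 1 (.one ⟨5926, 2, 2⟩) (.one ⟨802, 0, 0⟩))) (.node 2 (.node 1 (.one ⟨15701, 2, 2⟩) (.one ⟨2227, 0, 4⟩)) (.node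 1 (.one ⟨6514, 1, 4⟩) (.one ⟨1768, 0, 4⟩)))) (.node 4 (.node 2 (.node 1 (.one ⟨1537, 0, 4⟩) (.one ⟨10322, 0, 4⟩)) (.node 1 (.one ⟨10482, 0, 2⟩) (.one ⟨15860, 2, 4⟩))) (.node 2 (.node 1 (.one ⟨16599, 2, 4⟩) (.one ⟨9300, 2, 3⟩)) (.node 1 (.one ⟨11147, 2, 4⟩) (.one ⟨5568, 1, 5⟩)))))) (.node 16 (.node 8 (.node 4 (.node 2 (.node 1 (.one ⟨13503, 0, 4⟩) (.one ⟨16603, 2, 4⟩)) (.node 1 (.one ⟨14032, 2, 4⟩) (.one ⟨16608, 2, 4⟩))) (.node 2 (.node 1 (.one ⟨14060, 2, 4⟩) (.one ⟨15567, 0, 2⟩)) (.node 1 (.one ⟨9274, 0, 3⟩) (.one ⟨4131, 1, 1⟩)))) (.node 4 (.node 2 (.node 1 (.one ⟨1535, 1, 1⟩) (.one ⟨1068, 2, 5⟩)) (.node 1 (.one ⟨924, 2, 5⟩) (.one ⟨2064, 2, 5⟩))) (.node 2 (.node 1 (.one ⟨2065, 2, 5⟩) (.one ⟨13442, 1, 5⟩)) (.node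 1 (.one ⟨2069, 2, 4⟩) (.one ⟨1985, 2, 5⟩))))) (.node 8 (.node 4 (.node 2 (.node 1 (.one ⟨6740, 2, 4⟩) (.one ⟨14433, 2, 4⟩)) (.node 1 (.one ⟨11485, 2, 6⟩) (.one ⟨6917, 2, 4⟩))) (.node 2 (.node 1 (.one ⟨3429, 0, 5⟩) (.one ⟨11205, 2, 4⟩)) (.node 1 (.one ⟨14519, 2, 3⟩) (.one ⟨14706, 0, 4⟩)))) (.node 4 (.node 2 (.node 1 (.one ⟨1465, 0, 4⟩) (.one ⟨5071, 2, 2⟩)) (.node 1 (.one ⟨7087, 2, 5⟩) (.one ⟨11165, 1, 4⟩))) (.node 2 (.node 1 (.one ⟨9344, 2, 4⟩) (.one ⟨11419, 2, 3⟩)) (.node 1 (.one ⟨16964, 2, 3⟩) (.one ⟨5212, 2, 4⟩)))))))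
def par6_14_9 : Arr Par :=
  (.node 32 (.node 16 (.node 8 (.node 4 (.node 2 (.node 1 (.one ⟨11449, 2, 4⟩) (.one ⟨2912, 2, 4⟩)) (.node 1 (.one ⟨12838, 2, 4⟩) (.one ⟨2666, 0, 2⟩))) (.node 2 (.node 1 (.one ⟨4512, 2, 5⟩) (.one ⟨11769, 2, 5⟩)) (.node 1 (.one ⟨1187, 2, 1⟩) (.one ⟨9468, 2, 6⟩)))) (.node 4 (.node 2 (.node 1 (.one ⟨9697, 2, 4⟩) (.one ⟨15788, 2, 5⟩)) (.node 1 (.one ⟨15672, 2, 6⟩) (.one ⟨6550, 2, 3⟩))) (.node 2 (.node 1 (.one ⟨6466, 2, 6⟩) (.one ⟨4246, 2, 6⟩)) (.node 1 (.one ⟨4274, 2, 2⟩) (.one ⟨16205, 2, 5⟩))))) (.node 8 (.node 4 (.node 2 (.node 1 (.one ⟨9273, 0, 3⟩) (.one ⟨6734, 0, 2⟩)) (.node 1 (.one ⟨2864, 1, 4⟩) (.one ⟨8926, 0, 3⟩))) (.node 2 (.node 1 (.one ⟨7667, 1, 1⟩) (.one ⟨274, 2, 5⟩)) (.node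 1 (.one ⟨527, 2, 5⟩) (.one ⟨9876, 0, 1⟩)))) (.node 4 (.node 2 (.node 1 (.one ⟨10121, 0, 4⟩) (.one ⟨11903, 2, 4⟩)) (.node 1 (.one ⟨9216, 2, 2⟩) (.one ⟨2492, 0, 4⟩))) (.node 2 (.node 1 (.one ⟨2229, 0, 4⟩) (.one ⟨6558, 0, 3⟩)) (.node 1 (.one ⟨6273, 0, 3⟩) (.one ⟨1029, 2, 5⟩)))))) (.node 16 (.node 8 (.node 4 (.node 2 (.node 1 (.one ⟨11438, 0, 3⟩) (.one ⟨785, 2, 5⟩)) (.node 1 (.one ⟨6768, 2, 6⟩) (.one ⟨285, 2, 5⟩))) (.node 2 (.node 1 (.one ⟨1538, 0, 5⟩) (.one ⟨6358, 0, 4⟩)) (.node 1 (.one ⟨6774, 2, 6⟩) (.one ⟨3007, 2, 3⟩)))) (.node 4 (.node 2 (.node 1 (.one ⟨3631, 2, 1⟩) (.one ⟨6579, 2, 3⟩)) (.node 1 (.one ⟨7739, 2, 3⟩) (.one ⟨14269, 1, 3⟩))) (.node 2 (.node 1 (.one ⟨9420, 2, 3⟩) (.one ⟨4816, 0, 4⟩)) (.node 1 (.one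 ⟨16914, 1, 4⟩) (.one ⟨13411, 2, 1⟩))))) (.node 8 (.node 4 (.node 2 (.node 1 (.one ⟨9660, 2, 3⟩) (.one ⟨17031, 2, 3⟩)) (.node 1 (.one ⟨5174, 0, 4⟩) (.one ⟨7860, 2, 3⟩))) (.node 2 (.node 1 (.one ⟨11306, 0, 4⟩) (.one ⟨3567, 2, 3⟩)) (.node 1 (.one ⟨4381, 0, 4⟩) (.one ⟨12194, 2, 4⟩)))) (.node 4 (.node 2 (.node 1 (.one ⟨1602, 2, 3⟩) (.one ⟨14021, 0, 4⟩)) (.node 1 (.one ⟨16317, 0, 4⟩) (.one ⟨1, 1, 1⟩))) (.node 2 (.node 1 (.one ⟨12050, 0, 4⟩) (.one ⟨8281, 0, 4⟩)) (.node 1 (.one ⟨6019, 0, 2⟩) (.one ⟨16314, 0, 4⟩)))))))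
def par6_14_10 : Arr Par :=
  (.node 32 (.node 16 (.node 8 (.node 4 (.node 2 (.node 1 (.one ⟨16419, 0, 4⟩) (.one ⟨6981, 2, 3⟩)) (.node 1 (.one ⟨1706, 0, 4⟩) (.one ⟨1249, 1, 1⟩))) (.node 2 (.node 1 (.one ⟨4414, 0, 2⟩) (.one ⟨13989, 0, 4⟩)) (.node 1 (.one ⟨14285, 2, 4⟩) (.one ⟨16327, 2, 4⟩)))) (.node 4 (.node 2 (.node 1 (.one ⟨13546, 2, 3⟩) (.one ⟨9097, 0, 3⟩)) (.node 1 (.one ⟨13121, 2, 4⟩) (.one ⟨1370, 2, 3⟩))) (.node 2 (.node 1 (.one ⟨5590, 0, 4⟩) (.one ⟨1976, 2, 2⟩)) (.node 1 (.one ⟨6897, 2, 5⟩) (.one ⟨9268, 2, 6⟩))))) (.node 8 (.node 4 (.node 2 (.node 1 (.one ⟨11929, 2, 6⟩) (.one ⟨4558, 2, 5⟩)) (.node 1 (.one ⟨3057, 2, 5⟩) (.one ⟨17120, 2, 4⟩))) (.node 2 (.node 1 (.one ⟨15428, 2, 5⟩) (.one ⟨15273, 0, 5⟩))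 (.node 1 (.one ⟨8119, 2, 6⟩) (.one ⟨6729, 2, 5⟩)))) (.node 4 (.node 2 (.node 1 (.one ⟨15229, 2, 5⟩) (.one ⟨1578, 2, 5⟩)) (.node 1 (.one ⟨10459, 2, 5⟩) (.one ⟨10418, 2, 5⟩))) (.node 2 (.node 1 (.one ⟨1387, 2, 5⟩) (.one ⟨15248, 2, 5⟩)) (.node 1 (.one ⟨6757, 2, 5⟩) (.one ⟨9562, 2, 5⟩)))))) (.node 16 (.node 8 (.node 4 (.node 2 (.node 1 (.one ⟨12910, 2, 5⟩) (.one ⟨5508, 2, 5⟩)) (.node 1 (.one ⟨764, 0, 3⟩) (.one ⟨5054, 2, 5⟩))) (.node 2 (.node 1 (.one ⟨2377, 2, 6⟩) (.one ⟨10246, 2, 4⟩)) (.node 1 (.one ⟨13082, 2, 5⟩) (.one ⟨16676, 0, 4⟩)))) (.node 4 (.node 2 (.node 1 (.one ⟨5660, 1, 4⟩) (.one ⟨3955, 2, 4⟩)) (.node 1 (.one ⟨4137, 1, 5⟩) (.one ⟨15811, 0, 4⟩))) (.node 2 (.node 1 (.one ⟨15829, 0, 2⟩) (.one ⟨5369, 2, 3⟩))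 (.node 1 (.one ⟨2907, 2, 5⟩) (.one ⟨9774, 1, 5⟩))))) (.node 8 (.node 4 (.node 2 (.node 1 (.one ⟨16874, 0, 4⟩) (.one ⟨3220, 2, 4⟩)) (.node 1 (.one ⟨4748, 0, 2⟩) (.one ⟨17123, 2, 4⟩))) (.node 2 (.node 1 (.one ⟨14623, 2, 4⟩) (.one ⟨3618, 2, 2⟩)) (.node 1 (.one ⟨3440, 0, 2⟩) (.one ⟨16872, 0, 4⟩)))) (.node 4 (.node 2 (.node 1 (.one ⟨8049, 2, 4⟩) (.one ⟨5868, 2, 5⟩)) (.node 1 (.one ⟨17078, 2, 6⟩) (.one ⟨15856, 0, 5⟩))) (.node 2 (.node 1 (.one ⟨14484, 0, 5⟩) (.one ⟨9284, 0, 1⟩)) (.node 1 (.one ⟨7303, 2, 5⟩) (.one ⟨416, 2, 3⟩)))))))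
def par6_14_11 : Arr Par :=
  (.node 32 (.node 16 (.node 8 (.node 4 (.node 2 (.node 1 (.one ⟨1904, 2, 1⟩) (.one ⟨9990, 2, 3⟩)) (.node 1 (.one ⟨9292, 2, 1⟩) (.one ⟨11392, 2, 3⟩))) (.node 2 (.node 1 (.one ⟨610, 1, 1⟩) (.one ⟨3488, 2, 3⟩)) (.node 1 (.one ⟨3349, 2, 5⟩) (.one ⟨5001, 2, 3⟩)))) (.node 4 (.node 2 (.node 1 (.one ⟨7870, 0, 5⟩) (.one ⟨13056, 2, 4⟩)) (.node 1 (.one ⟨16036, 0, 4⟩) (.one ⟨4732, 0, 4⟩))) (.node 2 (.node 1 (.one ⟨13043, 2, 3⟩) (.one ⟨9448, 2, 4⟩)) (.node 1 (.one ⟨4990, 2, 3⟩) (.one ⟨6273, 2, 3⟩))))) (.node 8 (.node 4 (.node 2 (.node 1 (.one ⟨8825, 2, 3⟩) (.one ⟨7068, 2, 3⟩)) (.node 1 (.one ⟨14189, 0, 4⟩) (.one ⟨10597, 2, 1⟩))) (.node 2 (.node 1 (.one ⟨13404, 2, 3⟩) (.one ⟨9912, 0, 4⟩)) (.node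 1 (.one ⟨11592, 2, 3⟩) (.one ⟨6928, 2, 4⟩)))) (.node 4 (.node 2 (.node 1 (.one ⟨6642, 2, 5⟩) (.one ⟨16908, 2, 5⟩)) (.node 1 (.one ⟨15236, 1, 5⟩) (.one ⟨16918, 0, 4⟩))) (.node 2 (.node 1 (.one ⟨452, 2, 5⟩) (.one ⟨12060, 2, 4⟩)) (.node 1 (.one ⟨12269, 2, 3⟩) (.one ⟨13236, 2, 2⟩)))))) (.node 16 (.node 8 (.node 4 (.node 2 (.node 1 (.one ⟨2830, 1, 4⟩) (.one ⟨13235, 2, 3⟩)) (.node 1 (.one ⟨13402, 0, 5⟩) (.one ⟨951, 2, 5⟩))) (.node 2 (.node 1 (.one ⟨9212, 1, 1⟩) (.one ⟨1015, 2, 4⟩)) (.node 1 (.one ⟨496, 2, 4⟩) (.one ⟨3137, 2, 4⟩)))) (.node 4 (.node 2 (.node 1 (.one ⟨9578, 2, 4⟩) (.one ⟨9864, 0, 4⟩)) (.node 1 (.one ⟨11885, 2, 2⟩) (.one ⟨15940, 0, 4⟩))) (.node 2 (.node 1 (.one ⟨12601, 2, 3⟩) (.one ⟨15340, 1, 5⟩)) (.node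 1 (.one ⟨11142, 2, 4⟩) (.one ⟨6675, 2, 4⟩))))) (.node 8 (.node 4 (.node 2 (.node 1 (.one ⟨4965, 2, 4⟩) (.one ⟨7644, 2, 4⟩)) (.node 1 (.one ⟨16914, 0, 4⟩) (.one ⟨6643, 2, 2⟩))) (.node 2 (.node 1 (.one ⟨4927, 2, 2⟩) (.one ⟨7612, 2, 2⟩)) (.node 1 (.one ⟨1928, 2, 4⟩) (.one ⟨11444, 2, 5⟩)))) (.node 4 (.node 2 (.node 1 (.one ⟨13336, 2, 2⟩) (.one ⟨566, 2, 4⟩)) (.node 1 (.one ⟨3750, 2, 5⟩) (.one ⟨15644, 2, 4⟩))) (.node 2 (.node 1 (.one ⟨16865, 2, 4⟩) (.one ⟨2934, 0, 3⟩)) (.node 1 (.one ⟨11209, 0, 4⟩) (.one ⟨11130, 1, 2⟩)))))))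
def par6_14_12 : Arr Par :=
  (.node 32 (.node 16 (.node 8 (.node 4 (.node 2 (.node 1 (.one ⟨14179, 0, 3⟩) (.one ⟨6534, 2, 5⟩)) (.node 1 (.one ⟨6626, 0, 2⟩) (.one ⟨14412, 2, 6⟩))) (.node 2 (.node 1 (.one ⟨1268, 0, 2⟩) (.one ⟨15747, 2, 2⟩)) (.node 1 (.one ⟨14544, 2, 4⟩) (.one ⟨2534, 2, 4⟩)))) (.node 4 (.node 2 (.node 1 (.one ⟨5272, 1, 0⟩) (.one ⟨821, 2, 4⟩)) (.node 1 (.one ⟨5138, 2, 5⟩) (.one ⟨5117, 2, 5⟩))) (.node 2 (.node 1 (.one ⟨7923, 1, 5⟩) (.one ⟨4940, 2, 6⟩)) (.node 1 (.one ⟨2577, 2, 5⟩) (.one ⟨6944, 0, 4⟩))))) (.node 8 (.node 4 (.node 2 (.node 1 (.one ⟨15555, 2, 2⟩) (.one ⟨10521, 0, 4⟩)) (.node 1 (.one ⟨10040, 2, 2⟩) (.one ⟨16009, 0, 4⟩))) (.node 2 (.node 1 (.one ⟨7139, 2, 3⟩) (.one ⟨5504, 2, 5⟩)) (.node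 1 (.one ⟨1722, 2, 2⟩) (.one ⟨10470, 2, 4⟩)))) (.node 4 (.node 2 (.node 1 (.one ⟨9150, 1, 1⟩) (.one ⟨4955, 2, 5⟩)) (.node 1 (.one ⟨9292, 1, 1⟩) (.one ⟨1446, 1, 1⟩))) (.node 2 (.node 1 (.one ⟨3819, 0, 3⟩) (.one ⟨1382, 1, 1⟩)) (.node 1 (.one ⟨8293, 2, 4⟩) (.one ⟨14713, 0, 2⟩)))))) (.node 16 (.node 8 (.node 4 (.node 2 (.node 1 (.one ⟨10810, 0, 3⟩) (.one ⟨12029, 0, 5⟩)) (.node 1 (.one ⟨16181, 0, 2⟩) (.one ⟨9283, 0, 1⟩))) (.node 2 (.node 1 (.one ⟨3564, 2, 3⟩) (.one ⟨4914, 2, 4⟩)) (.node 1 (.one ⟨13288, 0, 2⟩) (.one ⟨2200, 0, 3⟩)))) (.node 4 (.node 2 (.node 1 (.one ⟨11902, 2, 6⟩) (.one ⟨9266, 0, 5⟩)) (.node 1 (.one ⟨13850, 0, 5⟩) (.one ⟨14609, 1, 4⟩))) (.node 2 (.node 1 (.one ⟨6412, 0, 5⟩) (.one ⟨10699, 0, 1⟩)) (.node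 1 (.one ⟨14573, 0, 5⟩) (.one ⟨5161, 0, 4⟩))))) (.node 8 (.node 4 (.node 2 (.node 1 (.one ⟨6690, 2, 3⟩) (.one ⟨3754, 1, 4⟩)) (.node 1 (.one ⟨7791, 2, 5⟩) (.one ⟨8563, 0, 4⟩))) (.node 2 (.node 1 (.one ⟨6135, 2, 2⟩) (.one ⟨707, 1, 4⟩)) (.node 1 (.one ⟨8527, 2, 3⟩) (.one ⟨15944, 2, 5⟩)))) (.node 4 (.node 2 (.node 1 (.one ⟨16159, 0, 3⟩) (.one ⟨2562, 2, 5⟩)) (.node 1 (.one ⟨7197, 2, 6⟩) (.one ⟨7594, 2, 5⟩))) (.node 2 (.node 1 (.one ⟨9311, 0, 3⟩) (.one ⟨13055, 2, 6⟩)) (.node 1 (.one ⟨15675, 2, 5⟩) (.one ⟨16539, 1, 5⟩)))))))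
def par6_14_13 : Arr Par :=
  (.node 32 (.node 16 (.node 8 (.node 4 (.node 2 (.node 1 (.one ⟨12207, 0, 4⟩) (.one ⟨1406, 0, 4⟩)) (.node 1 (.one ⟨3441, 0, 4⟩) (.one ⟨12112, 0, 4⟩))) (.node 2 (.node 1 (.one ⟨1694, 2, 5⟩) (.one ⟨13959, 2, 4⟩)) (.node 1 (.one ⟨5264, 1, 0⟩) (.one ⟨16837, 2, 3⟩)))) (.node 4 (.node 2 (.node 1 (.one ⟨7592, 2, 4⟩) (.one ⟨5494, 2, 4⟩)) (.node 1 (.one ⟨3788, 0, 4⟩) (.one ⟨12037, 0, 2⟩))) (.node 2 (.node 1 (.one ⟨15894, 2, 4⟩) (.one ⟨9183, 2, 3⟩)) (.node 1 (.one ⟨3757, 2, 4⟩) (.one ⟨9434, 2, 1⟩))))) (.node 8 (.node 4 (.node 2 (.node 1 (.one ⟨1877, 0, 0⟩) (.one ⟨10085, 2, 4⟩)) (.node 1 (.one ⟨11957, 2, 4⟩) (.one ⟨2188, 2, 3⟩))) (.node 2 (.node 1 (.one ⟨13079, 1, 5⟩) (.one ⟨1640, 2, 5⟩))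 (.node 1 (.one ⟨4469, 2, 3⟩) (.one ⟨7921, 2, 5⟩)))) (.node 4 (.node 2 (.node 1 (.one ⟨3393, 1, 4⟩) (.one ⟨3523, 2, 5⟩)) (.node 1 (.one ⟨3588, 1, 5⟩) (.one ⟨10815, 0, 5⟩))) (.node 2 (.node 1 (.one ⟨7460, 1, 3⟩) (.one ⟨16620, 0, 2⟩)) (.node 1 (.one ⟨6369, 0, 4⟩) (.one ⟨8745, 1, 2⟩)))))) (.node 16 (.node 8 (.node 4 (.node 2 (.node 1 (.one ⟨14544, 1, 4⟩) (.one ⟨10309, 2, 4⟩)) (.node 1 (.one ⟨3461, 0, 5⟩) (.one ⟨831, 1, 4⟩))) (.node 2 (.node 1 (.one ⟨10176, 0, 3⟩) (.one ⟨6644, 2, 5⟩)) (.node 1 (.one ⟨11227, 0, 4⟩) (.one ⟨13049, 2, 5⟩)))) (.node 4 (.node 2 (.node 1 (.one ⟨1049, 2, 5⟩) (.one ⟨9106, 0, 3⟩)) (.node 1 (.one ⟨3783, 0, 3⟩) (.one ⟨1869, 1, 0⟩))) (.node 2 (.node 1 (.one ⟨13053, 2, 4⟩) (.one ⟨1634, 1, 3⟩))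 (.node 1 (.one ⟨907, 2, 5⟩) (.one ⟨1441, 1, 1⟩))))) (.node 8 (.node 4 (.node 2 (.node 1 (.one ⟨9635, 2, 5⟩) (.one ⟨9430, 1, 1⟩)) (.node 1 (.one ⟨1671, 2, 5⟩) (.one ⟨7330, 2, 4⟩))) (.node 2 (.node 1 (.one ⟨5099, 0, 4⟩) (.one ⟨15235, 2, 4⟩)) (.node 1 (.one ⟨10043, 0, 4⟩) (.one ⟨2766, 0, 4⟩)))) (.node 4 (.node 2 (.node 1 (.one ⟨2763, 0, 4⟩) (.one ⟨2762, 0, 4⟩)) (.node 1 (.one ⟨2759, 0, 4⟩) (.one ⟨155, 0, 4⟩))) (.node 2 (.node 1 (.one ⟨528, 0, 4⟩) (.one ⟨732, 0, 4⟩)) (.node 1 (.one ⟨6174, 2, 4⟩) (.one ⟨9862, 0, 4⟩)))))))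
def par6_14_14 : Arr Par :=
  (.node 32 (.node 16 (.node 8 (.node 4 (.node 2 (.node 1 (.one ⟨10931, 2, 3⟩) (.one ⟨272, 1, 4⟩)) (.node 1 (.one ⟨11211, 2, 1⟩) (.one ⟨8829, 2, 3⟩))) (.node 2 (.node 1 (.one ⟨1731, 0, 4⟩) (.one ⟨6036, 1, 3⟩)) (.node 1 (.one ⟨7577, 2, 4⟩) (.one ⟨16463, 1, 3⟩)))) (.node 4 (.node 2 (.node 1 (.one ⟨3663, 0, 3⟩) (.one ⟨6251, 1, 3⟩)) (.node 1 (.one ⟨4362, 0, 4⟩) (.one ⟨16991, 1, 3⟩))) (.node 2 (.node 1 (.one ⟨2432, 1, 3⟩) (.one ⟨5689, 1, 3⟩)) (.node 1 (.one ⟨2289, 0, 4⟩) (.one ⟨6652, 2, 5⟩))))) (.node 8 (.node 4 (.node 2 (.node 1 (.one ⟨181, 1, 4⟩) (.one ⟨5553, 2, 1⟩)) (.node 1 (.one ⟨15096, 0, 3⟩) (.one ⟨8287, 0, 2⟩))) (.node 2 (.node 1 (.one ⟨4006, 2, 4⟩) (.one ⟨12218, 2, 5⟩)) (.node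 1 (.one ⟨5089, 2, 4⟩) (.one ⟨13545, 0, 4⟩)))) (.node 4 (.node 2 (.node 1 (.one ⟨13544, 0, 3⟩) (.one ⟨2444, 2, 3⟩)) (.node 1 (.one ⟨13096, 2, 3⟩) (.one ⟨6788, 2, 3⟩))) (.node 2 (.node 1 (.one ⟨16424, 2, 3⟩) (.one ⟨5421, 2, 4⟩)) (.node 1 (.one ⟨13546, 0, 3⟩) (.one ⟨10042, 0, 3⟩)))))) (.node 16 (.node 8 (.node 4 (.node 2 (.node 1 (.one ⟨9712, 2, 5⟩) (.one ⟨14850, 1, 1⟩)) (.node 1 (.one ⟨15091, 0, 3⟩) (.one ⟨4361, 0, 5⟩))) (.node 2 (.node 1 (.one ⟨9541, 1, 1⟩) (.one ⟨1598, 2, 5⟩)) (.node 1 (.one ⟨9053, 0, 5⟩) (.one ⟨2929, 1, 1⟩)))) (.node 4 (.node 2 (.node 1 (.one ⟨2351, 2, 2⟩) (.one ⟨7693, 2, 4⟩)) (.node 1 (.one ⟨13413, 1, 1⟩) (.one ⟨2583, 2, 4⟩))) (.node 2 (.node 1 (.one ⟨4240, 2, 4⟩) (.one ⟨7548, 0, 2⟩)) (.node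 1 (.one ⟨8022, 2, 2⟩) (.one ⟨13804, 2, 5⟩))))) (.node 8 (.node 4 (.node 2 (.node 1 (.one ⟨2985, 2, 4⟩) (.one ⟨10288, 0, 2⟩)) (.node 1 (.one ⟨4540, 0, 3⟩) (.one ⟨15893, 2, 3⟩))) (.node 2 (.node 1 (.one ⟨5002, 2, 5⟩) (.one ⟨3571, 2, 5⟩)) (.node 1 (.one ⟨16645, 2, 5⟩) (.one ⟨15461, 2, 2⟩)))) (.node 4 (.node 2 (.node 1 (.one ⟨11618, 2, 6⟩) (.one ⟨16855, 2, 2⟩)) (.node 1 (.one ⟨9324, 2, 2⟩) (.one ⟨12328, 2, 4⟩))) (.node 2 (.node 1 (.one ⟨6342, 0, 4⟩) (.one ⟨10701, 2, 3⟩)) (.node 1 (.one ⟨16714, 2, 2⟩) (.one ⟨6705, 2, 2⟩)))))))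
def par6_14_15 : Arr Par :=
  (.node 32 (.node 16 (.node 8 (.node 4 (.node 2 (.node 1 (.one ⟨6883, 0, 2⟩) (.one ⟨6436, 2, 4⟩)) (.node 1 (.one ⟨12054, 2, 5⟩) (.one ⟨3262, 2, 5⟩))) (.node 2 (.node 1 (.one ⟨16857, 2, 5⟩) (.one ⟨1827, 2, 5⟩)) (.node 1 (.one ⟨15759, 2, 5⟩) (.one ⟨221, 0, 4⟩)))) (.node 4 (.node 2 (.node 1 (.one ⟨363, 0, 4⟩) (.one ⟨13535, 0, 4⟩)) (.node 1 (.one ⟨13538, 0, 4⟩) (.one ⟨13537, 0, 4⟩))) (.node 2 (.node 1 (.one ⟨13536, 0, 4⟩) (.one ⟨490, 0, 4⟩)) (.node 1 (.one ⟨11349, 2, 3⟩) (.one ⟨777, 2, 5⟩))))) (.node 8 (.node 4 (.node 2 (.node 1 (.one ⟨3318, 2, 1⟩) (.one ⟨883, 2, 3⟩)) (.node 1 (.one ⟨6824, 0, 3⟩) (.one ⟨3311, 2, 4⟩))) (.node 2 (.node 1 (.one ⟨370, 2, 5⟩) (.one ⟨3314, 2, 3⟩)) (.node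 1 (.one ⟨251, 2, 3⟩) (.one ⟨2366, 1, 3⟩)))) (.node 4 (.node 2 (.node 1 (.one ⟨16104, 0, 5⟩) (.one ⟨573, 0, 3⟩)) (.node 1 (.one ⟨664, 1, 5⟩) (.one ⟨929, 0, 4⟩))) (.node 2 (.node 1 (.one ⟨16105, 0, 5⟩) (.one ⟨269, 0, 4⟩)) (.node 1 (.one ⟨15694, 1, 5⟩) (.one ⟨8249, 2, 6⟩)))))) (.node 16 (.node 8 (.node 4 (.node 2 (.node 1 (.one ⟨268, 0, 4⟩) (.one ⟨67, 1, 1⟩)) (.node 1 (.one ⟨6514, 2, 4⟩) (.one ⟨16926, 2, 5⟩))) (.node 2 (.node 1 (.one ⟨6825, 0, 3⟩) (.one ⟨14794, 0, 3⟩)) (.node 1 (.one ⟨9181, 1, 1⟩) (.one ⟨4318, 2, 5⟩)))) (.node 4 (.node 2 (.node 1 (.one ⟨10134, 2, 4⟩) (.one ⟨15700, 2, 5⟩)) (.node 1 (.one ⟨6387, 2, 4⟩) (.one ⟨2755, 0, 4⟩))) (.node 2 (.node 1 (.one ⟨2758, 0, 4⟩) (.one ⟨7052, 2, 3⟩)) (.node 1 (.one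 ⟨29, 0, 3⟩) (.one ⟨14160, 2, 5⟩))))) (.node 8 (.node 4 (.node 2 (.node 1 (.one ⟨13022, 0, 4⟩) (.one ⟨1861, 2, 4⟩)) (.node 1 (.one ⟨10985, 2, 2⟩) (.one ⟨10721, 2, 3⟩))) (.node 2 (.node 1 (.one ⟨3406, 2, 2⟩) (.one ⟨6447, 2, 4⟩)) (.node 1 (.one ⟨15576, 2, 5⟩) (.one ⟨2515, 2, 2⟩)))) (.node 4 (.node 2 (.node 1 (.one ⟨12915, 2, 6⟩) (.one ⟨15152, 0, 4⟩)) (.node 1 (.one ⟨14078, 0, 2⟩) (.one ⟨13013, 2, 3⟩))) (.node 2 (.node 1 (.one ⟨11406, 0, 4⟩) (.one ⟨3911, 0, 4⟩)) (.node 1 (.one ⟨5035, 0, 2⟩) (.one ⟨3745, 0, 5⟩)))))))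
def par6_14 : Arr Par :=
  (.node 512 (.node 256 (.node 128 (.node 64 par6_14_0 par6_14_1) (.node 64 par6_14_2 par6_14_3)) (.node 128 (.node 64 par6_14_4 par6_14_5) (.node 64 par6_14_6 par6_14_7))) (.node 256 (.node 128 (.node 64 par6_14_8 par6_14_9) (.node 64 par6_14_10 par6_14_11)) (.node 128 (.node 64 par6_14_12 par6_14_13) (.node 64 par6_14_14 par6_14_15))))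
def par6_15_0 : Arr Par :=
  (.node 32 (.node 16 (.node 8 (.node 4 (.node 2 (.node 1 (.one ⟨4749, 0, 4⟩) (.one ⟨13185, 0, 2⟩)) (.node 1 (.one ⟨1603, 2, 5⟩) (.one ⟨12251, 0, 3⟩))) (.node 2 (.node 1 (.one ⟨13503, 2, 4⟩) (.one ⟨4635, 0, 3⟩)) (.node 1 (.one ⟨2682, 2, 2⟩) (.one ⟨5751, 1, 1⟩)))) (.node 4 (.node 2 (.node 1 (.one ⟨231, 2, 4⟩) (.one ⟨12369, 2, 5⟩)) (.node 1 (.one ⟨7385, 2, 5⟩) (.one ⟨16716, 2, 5⟩))) (.node 2 (.node 1 (.one ⟨1675, 2, 5⟩) (.one ⟨2212, 1, 3⟩)) (.node 1 (.one ⟨5038, 0, 4⟩) (.one ⟨12140, 2, 6⟩))))) (.node 8 (.node 4 (.node 2 (.node 1 (.one ⟨6641, 2, 5⟩) (.one ⟨13469, 2, 5⟩)) (.node 1 (.one ⟨8746, 1, 4⟩) (.one ⟨16971, 2, 3⟩))) (.node 2 (.node 1 (.one ⟨475, 2, 4⟩) (.one ⟨16358, 2, 4⟩)) (.node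 1 (.one ⟨3064, 2, 3⟩) (.one ⟨15519, 0, 4⟩)))) (.node 4 (.node 2 (.node 1 (.one ⟨16975, 2, 3⟩) (.one ⟨8565, 0, 4⟩)) (.node 1 (.one ⟨16606, 2, 3⟩) (.one ⟨11142, 0, 4⟩))) (.node 2 (.node 1 (.one ⟨16322, 2, 5⟩) (.one ⟨14764, 1, 4⟩)) (.node 1 (.one ⟨15869, 2, 3⟩) (.one ⟨6144, 2, 4⟩)))))) (.node 16 (.node 8 (.node 4 (.node 2 (.node 1 (.one ⟨8394, 2, 2⟩) (.one ⟨12726, 2, 2⟩)) (.node 1 (.one ⟨10042, 2, 3⟩) (.one ⟨13914, 2, 5⟩))) (.node 2 (.node 1 (.one ⟨16602, 2, 3⟩) (.one ⟨4986, 2, 2⟩)) (.node 1 (.one ⟨2234, 0, 4⟩) (.one ⟨11504, 2, 3⟩)))) (.node 4 (.node 2 (.node 1 (.one ⟨7987, 1, 1⟩) (.one ⟨7735, 2, 3⟩)) (.node 1 (.one ⟨5190, 2, 5⟩) (.one ⟨14697, 0, 4⟩))) (.node 2 (.node 1 (.one ⟨11713, 2, 3⟩) (.one ⟨1212, 2, 3⟩))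 (.node 1 (.one ⟨7272, 2, 4⟩) (.one ⟨5657, 2, 2⟩))))) (.node 8 (.node 4 (.node 2 (.node 1 (.one ⟨9678, 2, 2⟩) (.one ⟨886, 2, 4⟩)) (.node 1 (.one ⟨16821, 0, 2⟩) (.one ⟨15181, 2, 4⟩))) (.node 2 (.node 1 (.one ⟨3160, 2, 2⟩) (.one ⟨11282, 2, 4⟩)) (.node 1 (.one ⟨16851, 0, 4⟩) (.one ⟨1377, 0, 1⟩)))) (.node 4 (.node 2 (.node 1 (.one ⟨16915, 2, 4⟩) (.one ⟨9211, 2, 3⟩)) (.node 1 (.one ⟨12231, 2, 3⟩) (.one ⟨1760, 0, 3⟩))) (.node 2 (.node 1 (.one ⟨16985, 2, 1⟩) (.one ⟨1980, 0, 3⟩)) (.node 1 (.one ⟨12486, 2, 1⟩) (.one ⟨6190, 2, 4⟩)))))))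
def par6_15_1 : Arr Par :=
  (.node 32 (.node 16 (.node 8 (.node 4 (.node 2 (.node 1 (.one ⟨1041, 2, 4⟩) (.one ⟨9796, 2, 4⟩)) (.node 1 (.one ⟨14075, 2, 4⟩) (.one ⟨16912, 2, 3⟩))) (.node 2 (.node 1 (.one ⟨13554, 2, 4⟩) (.one ⟨5338, 2, 5⟩)) (.node 1 (.one ⟨8913, 2, 4⟩) (.one ⟨4899, 2, 5⟩)))) (.node 4 (.node 2 (.node 1 (.one ⟨13339, 2, 5⟩) (.one ⟨12129, 0, 3⟩)) (.node 1 (.one ⟨4739, 2, 4⟩) (.one ⟨10702, 0, 4⟩))) (.node 2 (.node 1 (.one ⟨4847, 0, 3⟩) (.one ⟨146, 2, 4⟩)) (.node 1 (.one ⟨10294, 2, 5⟩) (.one ⟨14345, 2, 5⟩))))) (.node 8 (.node 4 (.node 2 (.node 1 (.one ⟨16066, 2, 5⟩) (.one ⟨3282, 2, 4⟩)) (.node 1 (.one ⟨2062, 1, 2⟩) (.one ⟨8649, 2, 4⟩))) (.node 2 (.node 1 (.one ⟨7160, 2, 4⟩) (.one ⟨11738, 2, 5⟩)) (.node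 1 (.one ⟨10469, 2, 6⟩) (.one ⟨17073, 1, 2⟩)))) (.node 4 (.node 2 (.node 1 (.one ⟨5978, 1, 4⟩) (.one ⟨1586, 2, 2⟩)) (.node 1 (.one ⟨4371, 0, 2⟩) (.one ⟨6131, 2, 6⟩))) (.node 2 (.node 1 (.one ⟨14177, 2, 5⟩) (.one ⟨8746, 0, 4⟩)) (.node 1 (.one ⟨1918, 2, 5⟩) (.one ⟨14052, 1, 3⟩)))))) (.node 16 (.node 8 (.node 4 (.node 2 (.node 1 (.one ⟨16591, 2, 4⟩) (.one ⟨9101, 2, 4⟩)) (.node 1 (.one ⟨2506, 1, 5⟩) (.one ⟨3637, 2, 5⟩))) (.node 2 (.node 1 (.one ⟨10374, 2, 5⟩) (.one ⟨1289, 2, 1⟩)) (.node 1 (.one ⟨5603, 0, 3⟩) (.one ⟨14858, 2, 5⟩)))) (.node 4 (.node 2 (.node 1 (.one ⟨15571, 2, 4⟩) (.one ⟨8196, 2, 5⟩)) (.node 1 (.one ⟨5218, 0, 4⟩) (.one ⟨10965, 2, 5⟩))) (.node 2 (.node 1 (.one ⟨11400, 2, 5⟩) (.one ⟨4319, 2, 3⟩)) (.node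 1 (.one ⟨3590, 2, 5⟩) (.one ⟨13555, 2, 4⟩))))) (.node 8 (.node 4 (.node 2 (.node 1 (.one ⟨9617, 2, 5⟩) (.one ⟨16401, 0, 3⟩)) (.node 1 (.one ⟨9393, 2, 4⟩) (.one ⟨1248, 2, 5⟩))) (.node 2 (.node 1 (.one ⟨5521, 2, 4⟩) (.one ⟨0, 2, 3⟩)) (.node 1 (.one ⟨5543, 2, 2⟩) (.one ⟨9566, 0, 1⟩)))) (.node 4 (.node 2 (.node 1 (.one ⟨12551, 2, 4⟩) (.one ⟨10658, 2, 5⟩)) (.node 1 (.one ⟨2838, 0, 5⟩) (.one ⟨11339, 0, 5⟩))) (.node 2 (.node 1 (.one ⟨5083, 0, 5⟩) (.one ⟨12177, 0, 1⟩)) (.node 1 (.one ⟨3512, 2, 4⟩) (.one ⟨13573, 2, 3⟩)))))))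
def par6_15_2 : Arr Par :=
  (.node 32 (.node 16 (.node 8 (.node 4 (.node 2 (.node 1 (.one ⟨3857, 0, 2⟩) (.one ⟨15215, 0, 2⟩)) (.node 1 (.one ⟨6988, 0, 3⟩) (.one ⟨2894, 2, 5⟩))) (.node 2 (.node 1 (.one ⟨15540, 0, 4⟩) (.one ⟨12052, 2, 5⟩)) (.node 1 (.one ⟨4805, 2, 5⟩) (.one ⟨11781, 2, 4⟩)))) (.node 4 (.node 2 (.node 1 (.one ⟨1873, 1, 0⟩) (.one ⟨11620, 0, 3⟩)) (.node 1 (.one ⟨3508, 0, 2⟩) (.one ⟨10081, 2, 5⟩))) (.node 2 (.node 1 (.one ⟨6007, 2, 4⟩) (.one ⟨3827, 2, 2⟩)) (.node 1 (.one ⟨11628, 0, 5⟩) (.one ⟨4266, 0, 2⟩))))) (.node 8 (.node 4 (.node 2 (.node 1 (.one ⟨4458, 0, 4⟩) (.one ⟨4577, 2, 4⟩)) (.node 1 (.one ⟨3847, 2, 4⟩) (.one ⟨4134, 0, 4⟩))) (.node 2 (.node 1 (.one ⟨4012, 0, 4⟩) (.one ⟨11285, 2, 4⟩)) (.node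 1 (.one ⟨10758, 2, 4⟩) (.one ⟨12599, 0, 5⟩)))) (.node 4 (.node 2 (.node 1 (.one ⟨16569, 2, 4⟩) (.one ⟨16854, 0, 2⟩)) (.node 1 (.one ⟨15044, 0, 2⟩) (.one ⟨9613, 1, 1⟩))) (.node 2 (.node 1 (.one ⟨600, 1, 1⟩) (.one ⟨8019, 0, 2⟩)) (.node 1 (.one ⟨6286, 0, 2⟩) (.one ⟨2602, 2, 3⟩)))))) (.node 16 (.node 8 (.node 4 (.node 2 (.node 1 (.one ⟨11746, 0, 4⟩) (.one ⟨9457, 2, 3⟩)) (.node 1 (.one ⟨13159, 0, 4⟩) (.one ⟨2538, 2, 3⟩))) (.node 2 (.node 1 (.one ⟨10586, 2, 3⟩) (.one ⟨9210, 2, 5⟩)) (.node 1 (.one ⟨74, 2, 3⟩) (.one ⟨1407, 2, 6⟩)))) (.node 4 (.node 2 (.node 1 (.one ⟨2026, 0, 4⟩) (.one ⟨1721, 1, 4⟩)) (.node 1 (.one ⟨13931, 2, 5⟩) (.one ⟨5505, 1, 2⟩))) (.node 2 (.node 1 (.one ⟨5575, 2, 5⟩) (.one ⟨9880, 2, 3⟩)) (.node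 1 (.one ⟨11006, 0, 4⟩) (.one ⟨1926, 0, 4⟩))))) (.node 8 (.node 4 (.node 2 (.node 1 (.one ⟨4472, 2, 3⟩) (.one ⟨5750, 0, 4⟩)) (.node 1 (.one ⟨3967, 2, 3⟩) (.one ⟨6178, 0, 2⟩))) (.node 2 (.node 1 (.one ⟨9925, 2, 3⟩) (.one ⟨12130, 2, 1⟩)) (.node 1 (.one ⟨9786, 2, 3⟩) (.one ⟨9859, 0, 4⟩)))) (.node 4 (.node 2 (.node 1 (.one ⟨9480, 2, 3⟩) (.one ⟨1526, 2, 4⟩)) (.node 1 (.one ⟨13300, 2, 5⟩) (.one ⟨9313, 2, 2⟩))) (.node 2 (.node 1 (.one ⟨5167, 2, 4⟩) (.one ⟨13268, 2, 5⟩)) (.node 1 (.one ⟨1133, 2, 4⟩) (.one ⟨4907, 2, 5⟩)))))))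
def par6_15_3 : Arr Par :=
  (.node 32 (.node 16 (.node 8 (.node 4 (.node 2 (.node 1 (.one ⟨12371, 0, 3⟩) (.one ⟨13523, 0, 3⟩)) (.node 1 (.one ⟨16826, 1, 2⟩) (.one ⟨9605, 2, 1⟩))) (.node 2 (.node 1 (.one ⟨7925, 0, 4⟩) (.one ⟨4086, 2, 2⟩)) (.node 1 (.one ⟨11355, 2, 5⟩) (.one ⟨9565, 0, 1⟩)))) (.node 4 (.node 2 (.node 1 (.one ⟨10343, 2, 4⟩) (.one ⟨11898, 2, 3⟩)) (.node 1 (.one ⟨6388, 2, 3⟩) (.one ⟨12743, 1, 2⟩))) (.node 2 (.node 1 (.one ⟨8690, 2, 5⟩) (.one ⟨7264, 2, 5⟩)) (.node 1 (.one ⟨3338, 0, 4⟩) (.one ⟨8503, 1, 1⟩))))) (.node 8 (.node 4 (.node 2 (.node 1 (.one ⟨9730, 2, 4⟩) (.one ⟨14915, 0, 3⟩)) (.node 1 (.one ⟨9050, 2, 4⟩) (.one ⟨15855, 0, 3⟩))) (.node 2 (.node 1 (.one ⟨15868, 0, 4⟩) (.one ⟨16263, 2, 1⟩))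 (.node 1 (.one ⟨3828, 2, 1⟩) (.one ⟨16950, 2, 5⟩)))) (.node 4 (.node 2 (.node 1 (.one ⟨4453, 2, 4⟩) (.one ⟨5741, 0, 2⟩)) (.node 1 (.one ⟨15021, 2, 4⟩) (.one ⟨4252, 2, 3⟩))) (.node 2 (.node 1 (.one ⟨16815, 2, 2⟩) (.one ⟨15076, 2, 2⟩)) (.node 1 (.one ⟨1714, 2, 1⟩) (.one ⟨13487, 2, 4⟩)))))) (.node 16 (.node 8 (.node 4 (.node 2 (.node 1 (.one ⟨15870, 2, 5⟩) (.one ⟨1313, 2, 5⟩)) (.node 1 (.one ⟨8576, 1, 4⟩) (.one ⟨11992, 0, 4⟩))) (.node 2 (.node 1 (.one ⟨8493, 0, 3⟩) (.one ⟨7265, 0, 3⟩)) (.node 1 (.one ⟨8582, 1, 4⟩) (.one ⟨3788, 1, 0⟩)))) (.node 4 (.node 2 (.node 1 (.one ⟨2653, 0, 1⟩) (.one ⟨7755, 0, 4⟩)) (.node 1 (.one ⟨12641, 0, 2⟩) (.one ⟨16191, 0, 5⟩))) (.node 2 (.node 1 (.one ⟨2468, 2, 5⟩) (.one ⟨14213, 2,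 4⟩)) (.node 1 (.one ⟨14608, 2, 4⟩) (.one ⟨8528, 2, 2⟩))))) (.node 8 (.node 4 (.node 2 (.node 1 (.one ⟨13191, 0, 4⟩) (.one ⟨12352, 2, 2⟩)) (.node 1 (.one ⟨5046, 0, 4⟩) (.one ⟨673, 1, 0⟩))) (.node 2 (.node 1 (.one ⟨8658, 2, 2⟩) (.one ⟨10164, 0, 4⟩)) (.node 1 (.one ⟨12584, 2, 2⟩) (.one ⟨10237, 1, 5⟩)))) (.node 4 (.node 2 (.node 1 (.one ⟨12367, 2, 4⟩) (.one ⟨9505, 2, 5⟩)) (.node 1 (.one ⟨2430, 1, 3⟩) (.one ⟨4335, 2, 4⟩))) (.node 2 (.node 1 (.one ⟨1168, 2, 1⟩) (.one ⟨8870, 0, 2⟩)) (.node 1 (.one ⟨37, 2, 3⟩) (.one ⟨9321, 2, 3⟩)))))))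
def par6_15_4 : Arr Par :=
  (.node 32 (.node 16 (.node 8 (.node 4 (.node 2 (.node 1 (.one ⟨7252, 2, 5⟩) (.one ⟨1773, 0, 4⟩)) (.node 1 (.one ⟨68, 2, 3⟩) (.one ⟨7297, 2, 5⟩))) (.node 2 (.node 1 (.one ⟨16811, 0, 4⟩) (.one ⟨8717, 0, 4⟩)) (.node 1 (.one ⟨1765, 0, 3⟩) (.one ⟨1378, 0, 1⟩)))) (.node 4 (.node 2 (.node 1 (.one ⟨5259, 0, 2⟩) (.one ⟨1974, 0, 2⟩)) (.node 1 (.one ⟨5306, 0, 2⟩) (.one ⟨15489, 2, 3⟩))) (.node 2 (.node 1 (.one ⟨10811, 0, 5⟩) (.one ⟨8628, 2, 4⟩)) (.node 1 (.one ⟨9664, 1, 4⟩) (.one ⟨5610, 2, 4⟩))))) (.node 8 (.node 4 (.node 2 (.node 1 (.one ⟨5887, 2, 4⟩) (.one ⟨15174, 1, 1⟩)) (.node 1 (.one ⟨12873, 2, 5⟩) (.one ⟨8586, 2, 4⟩))) (.node 2 (.node 1 (.one ⟨8746, 2, 4⟩) (.one ⟨4028, 0, 4⟩)) (.node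 1 (.one ⟨10058, 2, 5⟩) (.one ⟨13410, 2, 5⟩)))) (.node 4 (.node 2 (.node 1 (.one ⟨9969, 2, 3⟩) (.one ⟨10618, 2, 4⟩)) (.node 1 (.one ⟨13098, 2, 4⟩) (.one ⟨4551, 2, 5⟩))) (.node 2 (.node 1 (.one ⟨8988, 0, 3⟩) (.one ⟨1458, 2, 4⟩)) (.node 1 (.one ⟨15249, 0, 2⟩) (.one ⟨10384, 2, 5⟩)))))) (.node 16 (.node 8 (.node 4 (.node 2 (.node 1 (.one ⟨508, 1, 5⟩) (.one ⟨2035, 1, 5⟩)) (.node 1 (.one ⟨7681, 0, 5⟩) (.one ⟨4922, 2, 4⟩))) (.node 2 (.node 1 (.one ⟨9637, 1, 5⟩) (.one ⟨14106, 2, 5⟩)) (.node 1 (.one ⟨2148, 1, 3⟩) (.one ⟨11834, 1, 3⟩)))) (.node 4 (.node 2 (.node 1 (.one ⟨11106, 0, 4⟩) (.one ⟨12323, 1, 5⟩)) (.node 1 (.one ⟨10436, 1, 1⟩) (.one ⟨3203, 0, 4⟩))) (.node 2 (.node 1 (.one ⟨12904, 2, 5⟩) (.one ⟨15333, 0, 4⟩))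 (.node 1 (.one ⟨12344, 0, 4⟩) (.one ⟨1170, 2, 5⟩))))) (.node 8 (.node 4 (.node 2 (.node 1 (.one ⟨16652, 2, 2⟩) (.one ⟨16684, 2, 4⟩)) (.node 1 (.one ⟨1, 2, 1⟩) (.one ⟨9616, 2, 5⟩))) (.node 2 (.node 1 (.one ⟨8508, 2, 4⟩) (.one ⟨8537, 2, 4⟩)) (.node 1 (.one ⟨9407, 2, 5⟩) (.one ⟨14037, 2, 4⟩)))) (.node 4 (.node 2 (.node 1 (.one ⟨6313, 2, 5⟩) (.one ⟨15385, 2, 5⟩)) (.node 1 (.one ⟨6883, 2, 2⟩) (.one ⟨1151, 0, 4⟩))) (.node 2 (.node 1 (.one ⟨10333, 2, 5⟩) (.one ⟨3219, 2, 4⟩)) (.node 1 (.one ⟨10935, 2, 4⟩) (.one ⟨12105, 2, 5⟩)))))))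
def par6_15_5 : Arr Par :=
  (.node 32 (.node 16 (.node 8 (.node 4 (.node 2 (.node 1 (.one ⟨16064, 2, 2⟩) (.one ⟨13001, 0, 2⟩)) (.node 1 (.one ⟨10988, 2, 4⟩) (.one ⟨13939, 2, 4⟩))) (.node 2 (.node 1 (.one ⟨10726, 2, 4⟩) (.one ⟨12738, 2, 6⟩)) (.node 1 (.one ⟨17088, 2, 5⟩) (.one ⟨913, 0, 4⟩)))) (.node 4 (.node 2 (.node 1 (.one ⟨70, 2, 1⟩) (.one ⟨245, 0, 4⟩)) (.node 1 (.one ⟨8457, 0, 2⟩) (.one ⟨239, 2, 5⟩))) (.node 2 (.node 1 (.one ⟨1043, 0, 4⟩) (.one ⟨206, 2, 4⟩)) (.node 1 (.one ⟨130, 0, 4⟩) (.one ⟨7216, 0, 4⟩))))) (.node 8 (.node 4 (.node 2 (.node 1 (.one ⟨3095, 2, 1⟩) (.one ⟨13145, 0, 4⟩)) (.node 1 (.one ⟨8518, 2, 1⟩) (.one ⟨1087, 2, 5⟩))) (.node 2 (.node 1 (.one ⟨3137, 1, 4⟩) (.one ⟨7849, 2, 1⟩)) (.node 1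 (.one ⟨13058, 1, 4⟩) (.one ⟨6602, 2, 5⟩)))) (.node 4 (.node 2 (.node 1 (.one ⟨17063, 2, 5⟩) (.one ⟨4597, 0, 3⟩)) (.node 1 (.one ⟨16385, 0, 4⟩) (.one ⟨10781, 0, 4⟩))) (.node 2 (.node 1 (.one ⟨6766, 0, 4⟩) (.one ⟨12724, 2, 5⟩)) (.node 1 (.one ⟨3322, 2, 5⟩) (.one ⟨8397, 2, 4⟩)))))) (.node 16 (.node 8 (.node 4 (.node 2 (.node 1 (.one ⟨14042, 2, 4⟩) (.one ⟨12425, 2, 5⟩)) (.node 1 (.one ⟨3153, 2, 5⟩) (.one ⟨6622, 2, 5⟩))) (.node 2 (.node 1 (.one ⟨15988, 2, 3⟩) (.one ⟨10601, 2, 3⟩)) (.node 1 (.one ⟨413, 1, 4⟩) (.one ⟨14566, 1, 5⟩)))) (.node 4 (.node 2 (.node 1 (.one ⟨13175, 0, 3⟩) (.one ⟨11363, 1, 1⟩)) (.node 1 (.one ⟨8532, 2, 5⟩) (.one ⟨6727, 2, 2⟩))) (.node 2 (.node 1 (.one ⟨119, 2, 4⟩) (.one ⟨10514, 0, 2⟩)) (.node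 1 (.one ⟨1238, 2, 2⟩) (.one ⟨2370, 0, 4⟩))))) (.node 8 (.node 4 (.node 2 (.node 1 (.one ⟨2534, 0, 4⟩) (.one ⟨12788, 2, 5⟩)) (.node 1 (.one ⟨2393, 2, 3⟩) (.one ⟨1947, 2, 4⟩))) (.node 2 (.node 1 (.one ⟨13529, 2, 5⟩) (.one ⟨11068, 2, 4⟩)) (.node 1 (.one ⟨2159, 0, 4⟩) (.one ⟨3067, 2, 5⟩)))) (.node 4 (.node 2 (.node 1 (.one ⟨13143, 0, 4⟩) (.one ⟨8470, 2, 5⟩)) (.node 1 (.one ⟨4909, 2, 5⟩) (.one ⟨9336, 2, 5⟩))) (.node 2 (.node 1 (.one ⟨13770, 2, 5⟩) (.one ⟨16128, 2, 4⟩)) (.node 1 (.one ⟨15393, 0, 3⟩) (.one ⟨14146, 2, 4⟩)))))))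
def par6_15_6 : Arr Par :=
  (.node 32 (.node 16 (.node 8 (.node 4 (.node 2 (.node 1 (.one ⟨6762, 0, 4⟩) (.one ⟨15039, 0, 4⟩)) (.node 1 (.one ⟨5665, 0, 3⟩) (.one ⟨3574, 2, 1⟩))) (.node 2 (.node 1 (.one ⟨3950, 2, 1⟩) (.one ⟨10803, 2, 5⟩)) (.node 1 (.one ⟨11917, 0, 4⟩) (.one ⟨10135, 0, 2⟩)))) (.node 4 (.node 2 (.node 1 (.one ⟨12810, 2, 5⟩) (.one ⟨7018, 2, 5⟩)) (.node 1 (.one ⟨9713, 2, 5⟩) (.one ⟨2515, 0, 2⟩))) (.node 2 (.node 1 (.one ⟨3729, 0, 2⟩) (.one ⟨2375, 0, 2⟩)) (.node 1 (.one ⟨9413, 2, 4⟩) (.one ⟨6694, 1, 4⟩))))) (.node 8 (.node 4 (.node 2 (.node 1 (.one ⟨11092, 0, 3⟩) (.one ⟨1707, 2, 3⟩)) (.node 1 (.one ⟨1605, 2, 3⟩) (.one ⟨5875, 2, 4⟩))) (.node 2 (.node 1 (.one ⟨5848, 2, 4⟩) (.one ⟨9746, 1, 4⟩)) (.node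 1 (.one ⟨5749, 2, 5⟩) (.one ⟨16639, 0, 3⟩)))) (.node 4 (.node 2 (.node 1 (.one ⟨15027, 2, 5⟩) (.one ⟨7746, 2, 3⟩)) (.node 1 (.one ⟨6485, 0, 3⟩) (.one ⟨11212, 2, 1⟩))) (.node 2 (.node 1 (.one ⟨4417, 0, 4⟩) (.one ⟨11098, 0, 3⟩)) (.node 1 (.one ⟨4178, 2, 2⟩) (.one ⟨10561, 0, 4⟩)))))) (.node 16 (.node 8 (.node 4 (.node 2 (.node 1 (.one ⟨9476, 2, 4⟩) (.one ⟨10552, 0, 4⟩)) (.node 1 (.one ⟨7305, 0, 5⟩) (.one ⟨9865, 2, 4⟩))) (.node 2 (.node 1 (.one ⟨2862, 1, 4⟩) (.one ⟨14979, 0, 2⟩)) (.node 1 (.one ⟨5572, 2, 5⟩) (.one ⟨4888, 2, 5⟩)))) (.node 4 (.node 2 (.node 1 (.one ⟨5126, 2, 4⟩) (.one ⟨9502, 0, 1⟩)) (.node 1 (.one ⟨6778, 0, 4⟩) (.one ⟨6346, 0, 1⟩))) (.node 2 (.node 1 (.one ⟨15241, 2, 4⟩) (.one ⟨15728, 2, 5⟩)) (.node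 1 (.one ⟨16300, 2, 4⟩) (.one ⟨8514, 0, 3⟩))))) (.node 8 (.node 4 (.node 2 (.node 1 (.one ⟨12985, 2, 3⟩) (.one ⟨8113, 0, 3⟩)) (.node 1 (.one ⟨14513, 0, 3⟩) (.one ⟨13515, 2, 1⟩))) (.node 2 (.node 1 (.one ⟨11836, 0, 4⟩) (.one ⟨3383, 0, 3⟩)) (.node 1 (.one ⟨2384, 2, 2⟩) (.one ⟨4803, 0, 4⟩)))) (.node 4 (.node 2 (.node 1 (.one ⟨4607, 2, 3⟩) (.one ⟨11483, 1, 3⟩)) (.node 1 (.one ⟨16874, 2, 4⟩) (.one ⟨12534, 1, 2⟩))) (.node 2 (.node 1 (.one ⟨14362, 2, 3⟩) (.one ⟨6672, 2, 5⟩)) (.node 1 (.one ⟨767, 1, 4⟩) (.one ⟨16392, 2, 2⟩)))))))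
def par6_15_7 : Arr Par :=
  (.node 32 (.node 16 (.node 8 (.node 4 (.node 2 (.node 1 (.one ⟨7500, 2, 4⟩) (.one ⟨13192, 2, 5⟩)) (.node 1 (.one ⟨13105, 0, 3⟩) (.one ⟨3611, 0, 3⟩))) (.node 2 (.node 1 (.one ⟨4538, 0, 4⟩) (.one ⟨15542, 2, 4⟩)) (.node 1 (.one ⟨8306, 2, 3⟩) (.one ⟨9809, 0, 4⟩)))) (.node 4 (.node 2 (.node 1 (.one ⟨11703, 0, 4⟩) (.one ⟨1298, 2, 3⟩)) (.node 1 (.one ⟨3831, 0, 2⟩) (.one ⟨9269, 2, 3⟩))) (.node 2 (.node 1 (.one ⟨1227, 2, 3⟩) (.one ⟨6999, 2, 3⟩)) (.node 1 (.one ⟨11085, 0, 4⟩) (.one ⟨13609, 2, 5⟩))))) (.node 8 (.node 4 (.node 2 (.node 1 (.one ⟨6193, 2, 5⟩) (.one ⟨1189, 0, 3⟩)) (.node 1 (.one ⟨12191, 0, 4⟩) (.one ⟨4985, 2, 5⟩))) (.node 2 (.node 1 (.one ⟨13857, 2, 5⟩) (.one ⟨7190, 1, 1⟩)) (.node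 1 (.one ⟨2625, 0, 4⟩) (.one ⟨16397, 2, 1⟩)))) (.node 4 (.node 2 (.node 1 (.one ⟨9375, 2, 3⟩) (.one ⟨6003, 2, 5⟩)) (.node 1 (.one ⟨3911, 2, 4⟩) (.one ⟨8364, 2, 3⟩))) (.node 2 (.node 1 (.one ⟨171, 2, 5⟩) (.one ⟨14006, 2, 6⟩)) (.node 1 (.one ⟨12007, 2, 3⟩) (.one ⟨12888, 0, 4⟩)))))) (.node 16 (.node 8 (.node 4 (.node 2 (.node 1 (.one ⟨6884, 0, 2⟩) (.one ⟨16099, 0, 5⟩)) (.node 1 (.one ⟨11884, 2, 2⟩) (.one ⟨8838, 2, 4⟩))) (.node 2 (.node 1 (.one ⟨2574, 0, 4⟩) (.one ⟨11740, 2, 2⟩)) (.node 1 (.one ⟨7945, 2, 2⟩) (.one ⟨12082, 2, 2⟩)))) (.node 4 (.node 2 (.node 1 (.one ⟨15599, 2, 3⟩) (.one ⟨12908, 0, 4⟩)) (.node 1 (.one ⟨11858, 2, 6⟩) (.one ⟨1691, 0, 3⟩))) (.node 2 (.node 1 (.one ⟨10077, 0, 2⟩) (.one ⟨12581, 2, 2⟩))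 (.node 1 (.one ⟨15390, 2, 4⟩) (.one ⟨7046, 2, 2⟩))))) (.node 8 (.node 4 (.node 2 (.node 1 (.one ⟨8921, 0, 4⟩) (.one ⟨16969, 0, 1⟩)) (.node 1 (.one ⟨16961, 0, 4⟩) (.one ⟨10785, 0, 4⟩))) (.node 2 (.node 1 (.one ⟨1792, 2, 3⟩) (.one ⟨8760, 2, 4⟩)) (.node 1 (.one ⟨196, 2, 4⟩) (.one ⟨5966, 0, 4⟩)))) (.node 4 (.node 2 (.node 1 (.one ⟨8972, 2, 2⟩) (.one ⟨7863, 0, 3⟩)) (.node 1 (.one ⟨4475, 0, 3⟩) (.one ⟨12728, 2, 5⟩))) (.node 2 (.node 1 (.one ⟨10774, 2, 3⟩) (.one ⟨1268, 1, 2⟩)) (.node 1 (.one ⟨1477, 1, 4⟩) (.one ⟨13240, 0, 2⟩)))))))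
def par6_15_8 : Arr Par :=
  (.node 32 (.node 16 (.node 8 (.node 4 (.node 2 (.node 1 (.one ⟨976, 2, 4⟩) (.one ⟨975, 2, 4⟩)) (.node 1 (.one ⟨8257, 2, 3⟩) (.one ⟨5140, 1, 4⟩))) (.node 2 (.node 1 (.one ⟨9799, 0, 4⟩) (.one ⟨977, 2, 4⟩)) (.node 1 (.one ⟨1381, 0, 1⟩) (.one ⟨10691, 2, 3⟩)))) (.node 4 (.node 2 (.node 1 (.one ⟨5513, 2, 3⟩) (.one ⟨11548, 1, 1⟩)) (.node 1 (.one ⟨12433, 0, 4⟩) (.one ⟨10000, 2, 5⟩))) (.node 2 (.node 1 (.one ⟨4956, 2, 5⟩) (.one ⟨6700, 2, 5⟩)) (.node 1 (.one ⟨15711, 2, 5⟩) (.one ⟨4001, 0, 4⟩))))) (.node 8 (.node 4 (.node 2 (.node 1 (.one ⟨17162, 0, 2⟩) (.one ⟨4662, 0, 4⟩)) (.node 1 (.one ⟨7419, 2, 4⟩) (.one ⟨11246, 0, 3⟩))) (.node 2 (.node 1 (.one ⟨6467, 0, 4⟩) (.one ⟨9216, 0, 2⟩)) (.node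 1 (.one ⟨5779, 2, 3⟩) (.one ⟨14935, 0, 2⟩)))) (.node 4 (.node 2 (.node 1 (.one ⟨14864, 2, 3⟩) (.one ⟨2934, 2, 3⟩)) (.node 1 (.one ⟨3455, 0, 3⟩) (.one ⟨3749, 2, 5⟩))) (.node 2 (.node 1 (.one ⟨5527, 2, 5⟩) (.one ⟨16867, 2, 5⟩)) (.node 1 (.one ⟨15791, 2, 4⟩) (.one ⟨5039, 2, 5⟩)))))) (.node 16 (.node 8 (.node 4 (.node 2 (.node 1 (.one ⟨4750, 0, 2⟩) (.one ⟨15123, 0, 5⟩)) (.node 1 (.one ⟨13949, 2, 4⟩) (.one ⟨5764, 2, 5⟩))) (.node 2 (.node 1 (.one ⟨1428, 2, 5⟩) (.one ⟨17025, 2, 5⟩)) (.node 1 (.one ⟨13179, 2, 5⟩) (.one ⟨8489, 0, 3⟩)))) (.node 4 (.node 2 (.node 1 (.one ⟨3909, 0, 3⟩) (.one ⟨7749, 2, 3⟩)) (.node 1 (.one ⟨3566, 2, 5⟩) (.one ⟨1191, 2, 1⟩))) (.node 2 (.node 1 (.one ⟨5583, 2, 2⟩) (.one ⟨3487, 1, 2⟩)) (.node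 1 (.one ⟨5061, 2, 5⟩) (.one ⟨12344, 2, 4⟩))))) (.node 8 (.node 4 (.node 2 (.node 1 (.one ⟨15290, 2, 3⟩) (.one ⟨4490, 1, 2⟩)) (.node 1 (.one ⟨10583, 0, 3⟩) (.one ⟨13085, 0, 3⟩))) (.node 2 (.node 1 (.one ⟨15794, 2, 4⟩) (.one ⟨6151, 2, 2⟩)) (.node 1 (.one ⟨9091, 0, 4⟩) (.one ⟨13436, 2, 5⟩)))) (.node 4 (.node 2 (.node 1 (.one ⟨2621, 0, 2⟩) (.one ⟨8460, 2, 4⟩)) (.node 1 (.one ⟨11412, 2, 4⟩) (.one ⟨5752, 2, 5⟩))) (.node 2 (.node 1 (.one ⟨12018, 2, 5⟩) (.one ⟨10687, 2, 3⟩)) (.node 1 (.one ⟨7975, 2, 4⟩) (.one ⟨2099, 2, 3⟩)))))))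
def par6_15_9 : Arr Par :=
  (.node 32 (.node 16 (.node 8 (.node 4 (.node 2 (.node 1 (.one ⟨4979, 2, 3⟩) (.one ⟨13285, 1, 4⟩)) (.node 1 (.one ⟨12409, 2, 3⟩) (.one ⟨12128, 2, 1⟩))) (.node 2 (.node 1 (.one ⟨11271, 2, 3⟩) (.one ⟨3515, 0, 4⟩)) (.node 1 (.one ⟨7516, 1, 3⟩) (.one ⟨9640, 2, 4⟩)))) (.node 4 (.node 2 (.node 1 (.one ⟨15553, 2, 4⟩) (.one ⟨2352, 2, 4⟩)) (.node 1 (.one ⟨7000, 2, 6⟩) (.one ⟨14819, 2, 4⟩))) (.node 2 (.node 1 (.one ⟨15541, 0, 2⟩) (.one ⟨7165, 2, 5⟩)) (.node 1 (.one ⟨1851, 2, 4⟩) (.one ⟨8498, 2, 5⟩))))) (.node 8 (.node 4 (.node 2 (.node 1 (.one ⟨5863, 0, 3⟩) (.one ⟨673, 2, 5⟩)) (.node 1 (.one ⟨17004, 0, 4⟩) (.one ⟨8502, 2, 5⟩))) (.node 2 (.node 1 (.one ⟨2006, 1, 5⟩) (.one ⟨28, 2, 5⟩)) (.node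 1 (.one ⟨851, 2, 5⟩) (.one ⟨9548, 2, 6⟩)))) (.node 4 (.node 2 (.node 1 (.one ⟨14175, 2, 6⟩) (.one ⟨11863, 2, 6⟩)) (.node 1 (.one ⟨5550, 0, 5⟩) (.one ⟨7962, 0, 2⟩))) (.node 2 (.node 1 (.one ⟨4641, 2, 5⟩) (.one ⟨6605, 2, 5⟩)) (.node 1 (.one ⟨3053, 2, 5⟩) (.one ⟨14570, 2, 4⟩)))))) (.node 16 (.node 8 (.node 4 (.node 2 (.node 1 (.one ⟨14574, 2, 6⟩) (.one ⟨849, 2, 5⟩)) (.node 1 (.one ⟨61, 2, 5⟩) (.one ⟨15496, 0, 1⟩))) (.node 2 (.node 1 (.one ⟨11642, 0, 3⟩) (.one ⟨15835, 0, 4⟩)) (.node 1 (.one ⟨912, 2, 5⟩) (.one ⟨6680, 2, 3⟩)))) (.node 4 (.node 2 (.node 1 (.one ⟨14201, 0, 4⟩) (.one ⟨7263, 2, 5⟩)) (.node 1 (.one ⟨5159, 2, 5⟩) (.one ⟨14764, 0, 4⟩))) (.node 2 (.node 1 (.one ⟨1086, 0, 4⟩) (.one ⟨3093, 0, 4⟩)) (.node 1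 (.one ⟨6573, 2, 2⟩) (.one ⟨9205, 2, 6⟩))))) (.node 8 (.node 4 (.node 2 (.node 1 (.one ⟨14236, 2, 5⟩) (.one ⟨9741, 2, 5⟩)) (.node 1 (.one ⟨14142, 2, 6⟩) (.one ⟨8230, 2, 5⟩))) (.node 2 (.node 1 (.one ⟨4182, 2, 2⟩) (.one ⟨8132, 2, 6⟩)) (.node 1 (.one ⟨4382, 2, 4⟩) (.one ⟨14279, 0, 4⟩)))) (.node 4 (.node 2 (.node 1 (.one ⟨1497, 2, 1⟩) (.one ⟨16052, 0, 2⟩)) (.node 1 (.one ⟨1564, 0, 1⟩) (.one ⟨5969, 0, 4⟩))) (.node 2 (.node 1 (.one ⟨12813, 2, 3⟩) (.one ⟨8200, 0, 4⟩)) (.node 1 (.one ⟨10622, 0, 4⟩) (.one ⟨16177, 0, 4⟩)))))))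
def par6_15_10 : Arr Par :=
  (.node 32 (.node 16 (.node 8 (.node 4 (.node 2 (.node 1 (.one ⟨14905, 2, 3⟩) (.one ⟨1169, 1, 5⟩)) (.node 1 (.one ⟨2367, 0, 4⟩) (.one ⟨10166, 2, 4⟩))) (.node 2 (.node 1 (.one ⟨15433, 1, 4⟩) (.one ⟨5877, 0, 3⟩)) (.node 1 (.one ⟨7708, 0, 4⟩) (.one ⟨1411, 0, 4⟩)))) (.node 4 (.node 2 (.node 1 (.one ⟨12356, 2, 2⟩) (.one ⟨11093, 2, 3⟩)) (.node 1 (.one ⟨3416, 0, 4⟩) (.one ⟨4438, 2, 4⟩))) (.node 2 (.node 1 (.one ⟨5294, 0, 4⟩) (.one ⟨3753, 0, 4⟩)) (.node 1 (.one ⟨15367, 0, 2⟩) (.one ⟨15453, 2, 5⟩))))) (.node 8 (.node 4 (.node 2 (.node 1 (.one ⟨5060, 2, 4⟩) (.one ⟨4633, 2, 5⟩)) (.node 1 (.one ⟨14790, 2, 5⟩) (.one ⟨10298, 2, 5⟩))) (.node 2 (.node 1 (.one ⟨8160, 2, 5⟩) (.one ⟨7759, 2, 3⟩))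 (.node 1 (.one ⟨2351, 0, 2⟩) (.one ⟨1091, 2, 3⟩)))) (.node 4 (.node 2 (.node 1 (.one ⟨8503, 2, 1⟩) (.one ⟨15211, 2, 1⟩)) (.node 1 (.one ⟨12264, 2, 3⟩) (.one ⟨1172, 2, 3⟩))) (.node 2 (.node 1 (.one ⟨3054, 0, 4⟩) (.one ⟨2290, 1, 4⟩)) (.node 1 (.one ⟨1382, 0, 1⟩) (.one ⟨13057, 2, 4⟩)))))) (.node 16 (.node 8 (.node 4 (.node 2 (.node 1 (.one ⟨10923, 2, 3⟩) (.one ⟨9184, 2, 3⟩)) (.node 1 (.one ⟨9990, 0, 3⟩) (.one ⟨3393, 2, 4⟩))) (.node 2 (.node 1 (.one ⟨13428, 0, 3⟩) (.one ⟨4031, 2, 4⟩)) (.node 1 (.one ⟨2567, 2, 2⟩) (.one ⟨17117, 0, 4⟩)))) (.node 4 (.node 2 (.node 1 (.one ⟨1454, 2, 5⟩) (.one ⟨15090, 2, 5⟩)) (.node 1 (.one ⟨15937, 2, 5⟩) (.one ⟨8711, 0, 4⟩))) (.node 2 (.node 1 (.one ⟨2702, 2, 3⟩) (.one ⟨15233, 2, 5⟩))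 (.node 1 (.one ⟨16215, 2, 6⟩) (.one ⟨3574, 1, 1⟩))))) (.node 8 (.node 4 (.node 2 (.node 1 (.one ⟨6102, 0, 3⟩) (.one ⟨7394, 2, 3⟩)) (.node 1 (.one ⟨3719, 2, 4⟩) (.one ⟨9362, 1, 1⟩))) (.node 2 (.node 1 (.one ⟨15496, 1, 1⟩) (.one ⟨6735, 0, 3⟩)) (.node 1 (.one ⟨11864, 2, 5⟩) (.one ⟨1250, 2, 5⟩)))) (.node 4 (.node 2 (.node 1 (.one ⟨4256, 0, 4⟩) (.one ⟨36, 2, 3⟩)) (.node 1 (.one ⟨16101, 2, 4⟩) (.one ⟨9410, 2, 5⟩))) (.node 2 (.node 1 (.one ⟨8005, 2, 4⟩) (.one ⟨9506, 2, 1⟩)) (.node 1 (.one ⟨7989, 2, 4⟩) (.one ⟨3664, 2, 1⟩)))))))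
def par6_15_11 : Arr Par :=
  (.node 32 (.node 16 (.node 8 (.node 4 (.node 2 (.node 1 (.one ⟨5801, 2, 1⟩) (.one ⟨8408, 2, 4⟩)) (.node 1 (.one ⟨11132, 1, 4⟩) (.one ⟨6842, 2, 5⟩))) (.node 2 (.node 1 (.one ⟨4808, 2, 1⟩) (.one ⟨8969, 0, 4⟩)) (.node 1 (.one ⟨13648, 0, 4⟩) (.one ⟨9702, 2, 4⟩)))) (.node 4 (.node 2 (.node 1 (.one ⟨7529, 2, 5⟩) (.one ⟨8069, 0, 2⟩)) (.node 1 (.one ⟨1971, 2, 3⟩) (.one ⟨13614, 2, 1⟩))) (.node 2 (.node 1 (.one ⟨7785, 2, 3⟩) (.one ⟨15943, 2, 5⟩)) (.node 1 (.one ⟨5077, 2, 2⟩) (.one ⟨15865, 1, 4⟩))))) (.node 8 (.node 4 (.node 2 (.node 1 (.one ⟨6736, 2, 3⟩) (.one ⟨1077, 2, 5⟩)) (.node 1 (.one ⟨342, 0, 3⟩) (.one ⟨2012, 1, 3⟩))) (.node 2 (.node 1 (.one ⟨6750, 2, 3⟩) (.one ⟨178, 2, 4⟩)) (.node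 1 (.one ⟨7613, 2, 5⟩) (.one ⟨7837, 2, 2⟩)))) (.node 4 (.node 2 (.node 1 (.one ⟨1860, 2, 4⟩) (.one ⟨10591, 2, 3⟩)) (.node 1 (.one ⟨16296, 2, 2⟩) (.one ⟨8288, 2, 2⟩))) (.node 2 (.node 1 (.one ⟨2397, 2, 2⟩) (.one ⟨9858, 2, 2⟩)) (.node 1 (.one ⟨16022, 2, 3⟩) (.one ⟨7686, 1, 3⟩)))))) (.node 16 (.node 8 (.node 4 (.node 2 (.node 1 (.one ⟨3092, 1, 3⟩) (.one ⟨11324, 2, 4⟩)) (.node 1 (.one ⟨3601, 1, 3⟩) (.one ⟨10664, 2, 4⟩))) (.node 2 (.node 1 (.one ⟨8720, 1, 3⟩) (.one ⟨4992, 1, 3⟩)) (.node 1 (.one ⟨5794, 1, 3⟩) (.one ⟨9250, 1, 1⟩)))) (.node 4 (.node 2 (.node 1 (.one ⟨870, 0, 4⟩) (.one ⟨916, 0, 4⟩)) (.node 1 (.one ⟨635, 2, 5⟩) (.one ⟨76, 0, 4⟩))) (.node 2 (.node 1 (.one ⟨14433, 0, 4⟩) (.one ⟨14434, 0, 4⟩)) (.node 1 (.one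 ⟨127, 0, 4⟩) (.one ⟨6907, 2, 2⟩))))) (.node 8 (.node 4 (.node 2 (.node 1 (.one ⟨338, 1, 1⟩) (.one ⟨11211, 1, 1⟩)) (.node 1 (.one ⟨13519, 2, 2⟩) (.one ⟨10229, 0, 5⟩))) (.node 2 (.node 1 (.one ⟨14797, 2, 2⟩) (.one ⟨5052, 2, 5⟩)) (.node 1 (.one ⟨7079, 0, 4⟩) (.one ⟨1509, 2, 5⟩)))) (.node 4 (.node 2 (.node 1 (.one ⟨11917, 2, 4⟩) (.one ⟨3973, 1, 3⟩)) (.node 1 (.one ⟨1848, 2, 2⟩) (.one ⟨10708, 2, 5⟩))) (.node 2 (.node 1 (.one ⟨8286, 0, 3⟩) (.one ⟨4144, 2, 4⟩)) (.node 1 (.one ⟨10463, 2, 1⟩) (.one ⟨6002, 2, 3⟩)))))))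
def par6_15_12 : Arr Par :=
  (.node 32 (.node 16 (.node 8 (.node 4 (.node 2 (.node 1 (.one ⟨53, 0, 3⟩) (.one ⟨10859, 0, 2⟩)) (.node 1 (.one ⟨10858, 0, 2⟩) (.one ⟨10857, 0, 4⟩))) (.node 2 (.node 1 (.one ⟨10860, 0, 2⟩) (.one ⟨90, 0, 3⟩)) (.node 1 (.one ⟨14742, 1, 3⟩) (.one ⟨6183, 2, 3⟩)))) (.node 4 (.node 2 (.node 1 (.one ⟨6676, 2, 3⟩) (.one ⟨8011, 0, 4⟩)) (.node 1 (.one ⟨5743, 2, 4⟩) (.one ⟨10873, 2, 2⟩))) (.node 2 (.node 1 (.one ⟨9987, 2, 3⟩) (.one ⟨9150, 2, 1⟩)) (.node 1 (.one ⟨11089, 2, 5⟩) (.one ⟨6057, 2, 2⟩))))) (.node 8 (.node 4 (.node 2 (.node 1 (.one ⟨633, 2, 5⟩) (.one ⟨9519, 2, 5⟩)) (.node 1 (.one ⟨14029, 2, 5⟩) (.one ⟨7054, 0, 4⟩))) (.node 2 (.node 1 (.one ⟨4939, 2, 4⟩) (.one ⟨13016, 2, 2⟩)) (.node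 1 (.one ⟨16525, 2, 3⟩) (.one ⟨3760, 0, 3⟩)))) (.node 4 (.node 2 (.node 1 (.one ⟨3746, 2, 5⟩) (.one ⟨5794, 2, 3⟩)) (.node 1 (.one ⟨1046, 2, 4⟩) (.one ⟨8435, 2, 4⟩))) (.node 2 (.node 1 (.one ⟨4897, 2, 5⟩) (.one ⟨6944, 2, 4⟩)) (.node 1 (.one ⟨3005, 2, 2⟩) (.one ⟨1806, 2, 2⟩)))))) (.node 16 (.node 8 (.node 4 (.node 2 (.node 1 (.one ⟨16052, 2, 2⟩) (.one ⟨12877, 2, 2⟩)) (.node 1 (.one ⟨7025, 2, 2⟩) (.one ⟨15518, 1, 3⟩))) (.node 2 (.node 1 (.one ⟨9315, 0, 1⟩) (.one ⟨6365, 0, 3⟩)) (.node 1 (.one ⟨13205, 2, 4⟩) (.one ⟨4240, 0, 4⟩)))) (.node 4 (.node 2 (.node 1 (.one ⟨5058, 2, 2⟩) (.one ⟨5889, 2, 5⟩)) (.node 1 (.one ⟨12799, 2, 2⟩) (.one ⟨1345, 0, 2⟩))) (.node 2 (.node 1 (.one ⟨13779, 2, 5⟩) (.one ⟨10923, 0, 3⟩)) (.node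 1 (.one ⟨13492, 0, 4⟩) (.one ⟨10464, 2, 1⟩))))) (.node 8 (.node 4 (.node 2 (.node 1 (.one ⟨4756, 2, 2⟩) (.one ⟨6459, 2, 3⟩)) (.node 1 (.one ⟨16803, 2, 5⟩) (.one ⟨17048, 0, 5⟩))) (.node 2 (.node 1 (.one ⟨8960, 0, 4⟩) (.one ⟨10696, 0, 1⟩)) (.node 1 (.one ⟨13377, 1, 4⟩) (.one ⟨15990, 2, 5⟩)))) (.node 4 (.node 2 (.node 1 (.one ⟨14773, 2, 3⟩) (.one ⟨1342, 0, 3⟩)) (.node 1 (.one ⟨13961, 2, 5⟩) (.one ⟨3443, 1, 1⟩))) (.node 2 (.node 1 (.one ⟨11229, 2, 5⟩) (.one ⟨13521, 2, 5⟩)) (.node 1 (.one ⟨2644, 0, 3⟩) (.one ⟨10253, 2, 4⟩)))))))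
def par6_15_13 : Arr Par :=
  (.node 32 (.node 16 (.node 8 (.node 4 (.node 2 (.node 1 (.one ⟨16477, 0, 5⟩) (.one ⟨829, 1, 2⟩)) (.node 1 (.one ⟨4157, 2, 5⟩) (.one ⟨12278, 2, 4⟩))) (.node 2 (.node 1 (.one ⟨7218, 0, 4⟩) (.one ⟨1305, 2, 1⟩)) (.node 1 (.one ⟨2115, 2, 4⟩) (.one ⟨4927, 1, 2⟩)))) (.node 4 (.node 2 (.node 1 (.one ⟨1119, 2, 6⟩) (.one ⟨363, 1, 4⟩)) (.node 1 (.one ⟨13556, 2, 4⟩) (.one ⟨2100, 2, 5⟩))) (.node 2 (.node 1 (.one ⟨7956, 2, 2⟩) (.one ⟨13116, 2, 4⟩)) (.node 1 (.one ⟨3433, 0, 3⟩) (.one ⟨1613, 2, 4⟩))))) (.node 8 (.node 4 (.node 2 (.node 1 (.one ⟨15552, 2, 4⟩) (.one ⟨11636, 0, 3⟩)) (.node 1 (.one ⟨7569, 2, 4⟩) (.one ⟨15443, 2, 5⟩))) (.node 2 (.node 1 (.one ⟨2209, 2, 4⟩) (.one ⟨14002, 0, 3⟩)) (.node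 1 (.one ⟨10055, 2, 4⟩) (.one ⟨16648, 0, 5⟩)))) (.node 4 (.node 2 (.node 1 (.one ⟨2193, 2, 5⟩) (.one ⟨12249, 2, 5⟩)) (.node 1 (.one ⟨3977, 0, 4⟩) (.one ⟨7557, 0, 4⟩))) (.node 2 (.node 1 (.one ⟨16491, 2, 5⟩) (.one ⟨7428, 2, 5⟩)) (.node 1 (.one ⟨603, 1, 1⟩) (.one ⟨642, 2, 5⟩)))))) (.node 16 (.node 8 (.node 4 (.node 2 (.node 1 (.one ⟨10290, 2, 5⟩) (.one ⟨8333, 0, 5⟩)) (.node 1 (.one ⟨11441, 2, 5⟩) (.one ⟨3774, 2, 3⟩))) (.node 2 (.node 1 (.one ⟨13407, 0, 3⟩) (.one ⟨11981, 0, 2⟩)) (.node 1 (.one ⟨13106, 2, 3⟩) (.one ⟨1042, 2, 4⟩)))) (.node 4 (.node 2 (.node 1 (.one ⟨8776, 0, 2⟩) (.one ⟨3487, 0, 2⟩)) (.node 1 (.one ⟨2839, 2, 4⟩) (.one ⟨14828, 2, 5⟩))) (.node 2 (.node 1 (.one ⟨3306, 1, 5⟩) (.one ⟨16139, 2, 3⟩)) (.node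 1 (.one ⟨13728, 2, 5⟩) (.one ⟨1193, 2, 5⟩))))) (.node 8 (.node 4 (.node 2 (.node 1 (.one ⟨3151, 2, 2⟩) (.one ⟨4614, 1, 5⟩)) (.node 1 (.one ⟨11226, 2, 3⟩) (.one ⟨7976, 0, 4⟩))) (.node 2 (.node 1 (.one ⟨11207, 2, 3⟩) (.one ⟨15603, 1, 1⟩)) (.node 1 (.one ⟨3141, 2, 4⟩) (.one ⟨9715, 2, 5⟩)))) (.node 4 (.node 2 (.node 1 (.one ⟨13421, 0, 2⟩) (.one ⟨17166, 2, 3⟩)) (.node 1 (.one ⟨11748, 2, 4⟩) (.one ⟨14072, 1, 4⟩))) (.node 2 (.node 1 (.one ⟨13995, 2, 4⟩) (.one ⟨487, 1, 0⟩)) (.node 1 (.one ⟨13553, 2, 4⟩) (.one ⟨9859, 2, 4⟩)))))))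
def par6_15_14 : Arr Par :=
  (.node 32 (.node 16 (.node 8 (.node 4 (.node 2 (.node 1 (.one ⟨4594, 1, 5⟩) (.one ⟨4203, 2, 6⟩)) (.node 1 (.one ⟨7236, 2, 6⟩) (.one ⟨51, 1, 2⟩))) (.node 2 (.node 1 (.one ⟨10553, 0, 4⟩) (.one ⟨3185, 0, 4⟩)) (.node 1 (.one ⟨10933, 0, 3⟩) (.one ⟨475, 1, 0⟩)))) (.node 4 (.node 2 (.node 1 (.one ⟨13401, 0, 3⟩) (.one ⟨395, 2, 4⟩)) (.node 1 (.one ⟨13991, 2, 5⟩) (.one ⟨5219, 2, 5⟩))) (.node 2 (.node 1 (.one ⟨16892, 2, 5⟩) (.one ⟨5403, 0, 4⟩)) (.node 1 (.one ⟨8056, 2, 4⟩) (.one ⟨2787, 2, 2⟩))))) (.node 8 (.node 4 (.node 2 (.node 1 (.one ⟨11608, 2, 3⟩) (.one ⟨15156, 0, 3⟩)) (.node 1 (.one ⟨1688, 2, 5⟩) (.one ⟨13058, 2, 4⟩))) (.node 2 (.node 1 (.one ⟨11402, 0, 4⟩) (.one ⟨3018, 2, 6⟩)) (.node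 1 (.one ⟨8685, 0, 2⟩) (.one ⟨16889, 2, 4⟩)))) (.node 4 (.node 2 (.node 1 (.one ⟨9460, 2, 1⟩) (.one ⟨15592, 2, 2⟩)) (.node 1 (.one ⟨15231, 1, 5⟩) (.one ⟨10308, 2, 5⟩))) (.node 2 (.node 1 (.one ⟨16461, 2, 4⟩) (.one ⟨12232, 2, 3⟩)) (.node 1 (.one ⟨10337, 0, 5⟩) (.one ⟨4313, 2, 2⟩)))))) (.node 16 (.node 8 (.node 4 (.node 2 (.node 1 (.one ⟨16588, 2, 4⟩) (.one ⟨10962, 2, 5⟩)) (.node 1 (.one ⟨6571, 2, 4⟩) (.one ⟨14938, 2, 3⟩))) (.node 2 (.node 1 (.one ⟨2507, 2, 5⟩) (.one ⟨8337, 2, 2⟩)) (.node 1 (.one ⟨10074, 1, 3⟩) (.one ⟨7015, 0, 4⟩)))) (.node 4 (.node 2 (.node 1 (.one ⟨9291, 2, 1⟩) (.one ⟨2928, 2, 6⟩)) (.node 1 (.one ⟨5218, 2, 4⟩) (.one ⟨4779, 2, 6⟩))) (.node 2 (.node 1 (.one ⟨3490, 2, 3⟩) (.one ⟨16032, 0, 4⟩))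 (.node 1 (.one ⟨11749, 2, 5⟩) (.one ⟨11981, 1, 2⟩))))) (.node 8 (.node 4 (.node 2 (.node 1 (.one ⟨11212, 0, 1⟩) (.one ⟨16683, 0, 4⟩)) (.node 1 (.one ⟨15641, 0, 5⟩) (.one ⟨14609, 2, 4⟩))) (.node 2 (.node 1 (.one ⟨4194, 1, 0⟩) (.one ⟨9379, 0, 1⟩)) (.node 1 (.one ⟨12064, 0, 5⟩) (.one ⟨8781, 0, 3⟩)))) (.node 4 (.node 2 (.node 1 (.one ⟨5394, 2, 4⟩) (.one ⟨16171, 2, 3⟩)) (.node 1 (.one ⟨8130, 2, 3⟩) (.one ⟨888, 1, 0⟩))) (.node 2 (.node 1 (.one ⟨182, 0, 3⟩) (.one ⟨15103, 2, 3⟩)) (.node 1 (.one ⟨7396, 2, 6⟩) (.one ⟨16143, 2, 3⟩)))))))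
def par6_15_15 : Arr Par :=
  (.node 32 (.node 16 (.node 8 (.node 4 (.node 2 (.node 1 (.one ⟨389, 2, 4⟩) (.one ⟨2091, 1, 0⟩)) (.node 1 (.one ⟨11109, 0, 4⟩) (.one ⟨4030, 1, 0⟩))) (.node 2 (.node 1 (.one ⟨11313, 1, 1⟩) (.one ⟨1238, 0, 2⟩)) (.node 1 (.one ⟨15853, 0, 3⟩) (.one ⟨8648, 0, 3⟩)))) (.node 4 (.node 2 (.node 1 (.one ⟨10566, 0, 5⟩) (.one ⟨6064, 0, 3⟩)) (.node 1 (.one ⟨13413, 0, 1⟩) (.one ⟨11868, 0, 5⟩))) (.node 2 (.node 1 (.one ⟨10533, 2, 6⟩) (.one ⟨14848, 1, 4⟩)) (.node 1 (.one ⟨8329, 0, 5⟩) (.one ⟨8113, 1, 3⟩))))) (.node 8 (.node 4 (.node 2 (.node 1 (.one ⟨5088, 2, 5⟩) (.one ⟨11066, 2, 3⟩)) (.node 1 (.one ⟨2944, 2, 5⟩) (.one ⟨5283, 0, 5⟩))) (.node 2 (.node 1 (.one ⟨10004, 2, 3⟩) (.one ⟨15915, 0, 2⟩))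 (.node 1 (.one ⟨11956, 2, 3⟩) (.one ⟨1600, 2, 5⟩)))) (.node 4 (.node 2 (.node 1 (.one ⟨3521, 2, 6⟩) (.one ⟨5854, 2, 4⟩)) (.node 1 (.one ⟨7607, 2, 4⟩) (.one ⟨3591, 2, 3⟩))) (.node 2 (.node 1 (.one ⟨357, 2, 4⟩) (.one ⟨7666, 2, 2⟩)) (.node 1 (.one ⟨4328, 0, 4⟩) (.one ⟨13894, 2, 5⟩)))))) (.node 16 (.node 8 (.node 4 (.node 2 (.node 1 (.one ⟨14725, 2, 2⟩) (.one ⟨4457, 1, 2⟩)) (.node 1 (.one ⟨8161, 2, 5⟩) (.one ⟨1493, 1, 1⟩))) (.node 2 (.node 1 (.one ⟨3570, 2, 3⟩) (.one ⟨12215, 0, 5⟩)) (.node 1 (.one ⟨11228, 2, 3⟩) (.one ⟨15864, 0, 3⟩)))) (.node 4 (.node 2 (.node 1 (.one ⟨11986, 0, 2⟩) (.one ⟨11228, 1, 3⟩)) (.node 1 (.one ⟨11164, 0, 3⟩) (.one ⟨14559, 2, 4⟩))) (.node 2 (.node 1 (.one ⟨2972, 2, 5⟩) (.one ⟨11220, 0,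 4⟩)) (.node 1 (.one ⟨14838, 0, 3⟩) (.one ⟨9435, 2, 4⟩))))) (.node 8 (.node 4 (.node 2 (.node 1 (.one ⟨5725, 0, 5⟩) (.one ⟨7140, 2, 5⟩)) (.node 1 (.one ⟨9140, 2, 2⟩) (.one ⟨2767, 0, 4⟩))) (.node 2 (.node 1 (.one ⟨7168, 2, 5⟩) (.one ⟨7088, 2, 5⟩)) (.node 1 (.one ⟨9282, 2, 3⟩) (.one ⟨11773, 0, 3⟩)))) (.node 4 (.node 2 (.node 1 (.one ⟨4750, 2, 2⟩) (.one ⟨4675, 0, 4⟩)) (.node 1 (.one ⟨2867, 0, 3⟩) (.one ⟨7895, 0, 4⟩))) (.node 2 (.node 1 (.one ⟨5574, 0, 3⟩) (.one ⟨10940, 2, 5⟩)) (.node 1 (.one ⟨16411, 2, 4⟩) (.one ⟨12407, 2, 3⟩)))))))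
def par6_15 : Arr Par :=
  (.node 512 (.node 256 (.node 128 (.node 64 par6_15_0 par6_15_1) (.node 64 par6_15_2 par6_15_3)) (.node 128 (.node 64 par6_15_4 par6_15_5) (.node 64 par6_15_6 par6_15_7))) (.node 256 (.node 128 (.node 64 par6_15_8 par6_15_9) (.node 64 par6_15_10 par6_15_11)) (.node 128 (.node 64 par6_15_12 par6_15_13) (.node 64 par6_15_14 par6_15_15))))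
def par6_16_0 : Arr Par :=
  (.node 32 (.node 16 (.node 8 (.node 4 (.node 2 (.node 1 (.one ⟨10727, 2, 4⟩) (.one ⟨13731, 2, 3⟩)) (.node 1 (.one ⟨4747, 0, 2⟩) (.one ⟨15128, 2, 2⟩))) (.node 2 (.node 1 (.one ⟨7029, 0, 2⟩) (.one ⟨13356, 2, 4⟩)) (.node 1 (.one ⟨11220, 2, 4⟩) (.one ⟨3943, 1, 0⟩)))) (.node 4 (.node 2 (.node 1 (.one ⟨6207, 2, 1⟩) (.one ⟨15355, 0, 4⟩)) (.node 1 (.one ⟨6210, 2, 5⟩) (.one ⟨1064, 2, 5⟩))) (.node 2 (.node 1 (.one ⟨6209, 2, 6⟩) (.one ⟨1145, 1, 0⟩)) (.node 1 (.one ⟨7092, 1, 1⟩) (.one ⟨7865, 2, 4⟩))))) (.node 8 (.node 4 (.node 2 (.node 1 (.one ⟨13162, 1, 4⟩) (.one ⟨14611, 2, 2⟩)) (.node 1 (.one ⟨14032, 0, 4⟩) (.one ⟨7806, 2, 4⟩))) (.node 2 (.node 1 (.one ⟨2167, 2, 6⟩) (.one ⟨14385, 2, 3⟩))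 (.node 1 (.one ⟨12532, 2, 3⟩) (.one ⟨6707, 2, 2⟩)))) (.node 4 (.node 2 (.node 1 (.one ⟨10871, 2, 2⟩) (.one ⟨6282, 2, 2⟩)) (.node 1 (.one ⟨10395, 2, 2⟩) (.one ⟨7450, 1, 3⟩))) (.node 2 (.node 1 (.one ⟨16817, 2, 2⟩) (.one ⟨3608, 2, 5⟩)) (.node 1 (.one ⟨15939, 0, 2⟩) (.one ⟨6218, 0, 3⟩)))))) (.node 16 (.node 8 (.node 4 (.node 2 (.node 1 (.one ⟨2990, 2, 4⟩) (.one ⟨14959, 2, 2⟩)) (.node 1 (.one ⟨10602, 2, 3⟩) (.one ⟨12406, 2, 3⟩))) (.node 2 (.node 1 (.one ⟨16613, 2, 5⟩) (.one ⟨4989, 2, 2⟩)) (.node 1 (.one ⟨8287, 2, 2⟩) (.one ⟨57, 0, 2⟩)))) (.node 4 (.node 2 (.node 1 (.one ⟨5133, 0, 2⟩) (.one ⟨14052, 2, 3⟩)) (.node 1 (.one ⟨5132, 0, 2⟩) (.one ⟨8833, 2, 4⟩))) (.node 2 (.node 1 (.one ⟨5134, 0, 2⟩) (.one ⟨14862, 1, 3⟩))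 (.node 1 (.one ⟨5131, 0, 2⟩) (.one ⟨1112, 1, 4⟩))))) (.node 8 (.node 4 (.node 2 (.node 1 (.one ⟨3181, 1, 4⟩) (.one ⟨15255, 1, 5⟩)) (.node 1 (.one ⟨10953, 2, 5⟩) (.one ⟨7478, 2, 3⟩))) (.node 2 (.node 1 (.one ⟨13624, 1, 4⟩) (.one ⟨6711, 2, 3⟩)) (.node 1 (.one ⟨3171, 1, 4⟩) (.one ⟨1367, 2, 4⟩)))) (.node 4 (.node 2 (.node 1 (.one ⟨9494, 0, 1⟩) (.one ⟨607, 2, 1⟩)) (.node 1 (.one ⟨12508, 2, 4⟩) (.one ⟨1565, 2, 4⟩))) (.node 2 (.node 1 (.one ⟨12479, 2, 5⟩) (.one ⟨1200, 2, 4⟩)) (.node 1 (.one ⟨12526, 2, 3⟩) (.one ⟨9326, 2, 3⟩)))))))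
def par6_16_1 : Arr Par :=
  (.node 32 (.node 16 (.node 8 (.node 4 (.node 2 (.node 1 (.one ⟨4520, 0, 4⟩) (.one ⟨12527, 0, 4⟩)) (.node 1 (.one ⟨9256, 2, 4⟩) (.one ⟨593, 2, 3⟩))) (.node 2 (.node 1 (.one ⟨12551, 0, 4⟩) (.one ⟨7375, 2, 4⟩)) (.node 1 (.one ⟨1122, 2, 4⟩) (.one ⟨10521, 1, 4⟩)))) (.node 4 (.node 2 (.node 1 (.one ⟨5824, 0, 4⟩) (.one ⟨9084, 1, 4⟩)) (.node 1 (.one ⟨13607, 2, 3⟩) (.one ⟨13079, 0, 5⟩))) (.node 2 (.node 1 (.one ⟨126, 1, 4⟩) (.one ⟨10972, 2, 3⟩)) (.node 1 (.one ⟨16811, 1, 4⟩) (.one ⟨8394, 0, 2⟩))))) (.node 8 (.node 4 (.node 2 (.node 1 (.one ⟨7574, 0, 4⟩) (.one ⟨13274, 0, 2⟩)) (.node 1 (.one ⟨11141, 0, 2⟩) (.one ⟨7131, 2, 3⟩))) (.node 2 (.node 1 (.one ⟨12486, 0, 1⟩) (.one ⟨3674, 2, 3⟩)) (.node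 1 (.one ⟨6719, 2, 3⟩) (.one ⟨2052, 2, 2⟩)))) (.node 4 (.node 2 (.node 1 (.one ⟨8972, 0, 2⟩) (.one ⟨4327, 1, 4⟩)) (.node 1 (.one ⟨5699, 0, 1⟩) (.one ⟨14665, 1, 3⟩))) (.node 2 (.node 1 (.one ⟨5163, 0, 2⟩) (.one ⟨5044, 0, 4⟩)) (.node 1 (.one ⟨8167, 2, 3⟩) (.one ⟨1244, 2, 5⟩)))))) (.node 16 (.node 8 (.node 4 (.node 2 (.node 1 (.one ⟨9735, 2, 5⟩) (.one ⟨13966, 2, 6⟩)) (.node 1 (.one ⟨5722, 2, 2⟩) (.one ⟨11507, 2, 4⟩))) (.node 2 (.node 1 (.one ⟨13173, 0, 4⟩) (.one ⟨10981, 0, 4⟩)) (.node 1 (.one ⟨4100, 0, 3⟩) (.one ⟨3869, 2, 5⟩)))) (.node 4 (.node 2 (.node 1 (.one ⟨7100, 2, 4⟩) (.one ⟨1397, 1, 5⟩)) (.node 1 (.one ⟨8871, 0, 5⟩) (.one ⟨6633, 2, 4⟩))) (.node 2 (.node 1 (.one ⟨4414, 2, 2⟩) (.one ⟨8565, 2, 4⟩)) (.node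 1 (.one ⟨2385, 2, 2⟩) (.one ⟨9483, 2, 2⟩))))) (.node 8 (.node 4 (.node 2 (.node 1 (.one ⟨15521, 0, 4⟩) (.one ⟨5050, 2, 5⟩)) (.node 1 (.one ⟨4433, 0, 4⟩) (.one ⟨9248, 2, 4⟩))) (.node 2 (.node 1 (.one ⟨9318, 2, 3⟩) (.one ⟨12482, 0, 4⟩)) (.node 1 (.one ⟨5097, 2, 5⟩) (.one ⟨12546, 2, 4⟩)))) (.node 4 (.node 2 (.node 1 (.one ⟨3306, 0, 5⟩) (.one ⟨8197, 0, 3⟩)) (.node 1 (.one ⟨1935, 2, 2⟩) (.one ⟨15535, 1, 5⟩))) (.node 2 (.node 1 (.one ⟨4274, 1, 2⟩) (.one ⟨9899, 2, 4⟩)) (.node 1 (.one ⟨1301, 0, 3⟩) (.one ⟨1577, 0, 2⟩)))))))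
def par6_16_2 : Arr Par :=
  (.node 32 (.node 16 (.node 8 (.node 4 (.node 2 (.node 1 (.one ⟨2678, 2, 3⟩) (.one ⟨15811, 1, 4⟩)) (.node 1 (.one ⟨11950, 2, 3⟩) (.one ⟨10378, 0, 3⟩))) (.node 2 (.node 1 (.one ⟨8587, 2, 3⟩) (.one ⟨1316, 2, 5⟩)) (.node 1 (.one ⟨15620, 2, 5⟩) (.one ⟨11439, 1, 3⟩)))) (.node 4 (.node 2 (.node 1 (.one ⟨5562, 2, 4⟩) (.one ⟨14582, 2, 4⟩)) (.node 1 (.one ⟨2716, 2, 3⟩) (.one ⟨8692, 0, 4⟩))) (.node 2 (.node 1 (.one ⟨5166, 0, 5⟩) (.one ⟨14719, 1, 2⟩)) (.node 1 (.one ⟨14310, 2, 6⟩) (.one ⟨11907, 2, 5⟩))))) (.node 8 (.node 4 (.node 2 (.node 1 (.one ⟨10127, 2, 6⟩) (.one ⟨5950, 2, 6⟩)) (.node 1 (.one ⟨7909, 2, 4⟩) (.one ⟨14128, 2, 5⟩))) (.node 2 (.node 1 (.one ⟨5351, 1, 2⟩) (.one ⟨10842, 0, 4⟩))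 (.node 1 (.one ⟨1952, 2, 6⟩) (.one ⟨16727, 0, 4⟩)))) (.node 4 (.node 2 (.node 1 (.one ⟨3309, 2, 5⟩) (.one ⟨3963, 2, 3⟩)) (.node 1 (.one ⟨1834, 1, 4⟩) (.one ⟨8624, 0, 4⟩))) (.node 2 (.node 1 (.one ⟨4047, 2, 5⟩) (.one ⟨10357, 1, 4⟩)) (.node 1 (.one ⟨1735, 2, 2⟩) (.one ⟨8764, 0, 3⟩)))))) (.node 16 (.node 8 (.node 4 (.node 2 (.node 1 (.one ⟨15819, 0, 4⟩) (.one ⟨12360, 2, 6⟩)) (.node 1 (.one ⟨10025, 0, 4⟩) (.one ⟨15688, 2, 2⟩))) (.node 2 (.node 1 (.one ⟨6792, 0, 4⟩) (.one ⟨12556, 0, 1⟩)) (.node 1 (.one ⟨7686, 2, 3⟩) (.one ⟨2732, 0, 4⟩)))) (.node 4 (.node 2 (.node 1 (.one ⟨14973, 2, 5⟩) (.one ⟨15482, 2, 6⟩)) (.node 1 (.one ⟨1757, 2, 5⟩) (.one ⟨3185, 1, 4⟩))) (.node 2 (.node 1 (.one ⟨15344, 2, 5⟩) (.one ⟨15036, 2,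 6⟩)) (.node 1 (.one ⟨2712, 2, 5⟩) (.one ⟨9004, 2, 4⟩))))) (.node 8 (.node 4 (.node 2 (.node 1 (.one ⟨12923, 2, 4⟩) (.one ⟨3186, 2, 4⟩)) (.node 1 (.one ⟨10664, 0, 4⟩) (.one ⟨5558, 0, 4⟩))) (.node 2 (.node 1 (.one ⟨1307, 0, 4⟩) (.one ⟨12710, 2, 4⟩)) (.node 1 (.one ⟨10534, 0, 4⟩) (.one ⟨5978, 2, 4⟩)))) (.node 4 (.node 2 (.node 1 (.one ⟨10272, 2, 2⟩) (.one ⟨9001, 2, 3⟩)) (.node 1 (.one ⟨13185, 2, 2⟩) (.one ⟨17073, 2, 2⟩))) (.node 2 (.node 1 (.one ⟨5465, 2, 2⟩) (.one ⟨7910, 0, 5⟩)) (.node 1 (.one ⟨34, 2, 3⟩) (.one ⟨4529, 2, 5⟩)))))))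
def par6_16_3 : Arr Par :=
  (.node 32 (.node 16 (.node 8 (.node 4 (.node 2 (.node 1 (.one ⟨4780, 2, 5⟩) (.one ⟨3218, 0, 5⟩)) (.node 1 (.one ⟨7868, 0, 5⟩) (.one ⟨8896, 2, 5⟩))) (.node 2 (.node 1 (.one ⟨9003, 2, 5⟩) (.one ⟨5664, 0, 3⟩)) (.node 1 (.one ⟨5342, 0, 3⟩) (.one ⟨10906, 0, 5⟩)))) (.node 4 (.node 2 (.node 1 (.one ⟨6385, 0, 5⟩) (.one ⟨9319, 2, 4⟩)) (.node 1 (.one ⟨9204, 0, 3⟩) (.one ⟨9002, 2, 6⟩))) (.node 2 (.node 1 (.one ⟨16170, 0, 3⟩) (.one ⟨16749, 2, 6⟩)) (.node 1 (.one ⟨4243, 0, 3⟩) (.one ⟨11852, 2, 3⟩))))) (.node 8 (.node 4 (.node 2 (.node 1 (.one ⟨1196, 2, 5⟩) (.one ⟨7575, 2, 4⟩)) (.node 1 (.one ⟨17058, 2, 5⟩) (.one ⟨2371, 2, 5⟩))) (.node 2 (.node 1 (.one ⟨12251, 2, 3⟩) (.one ⟨16535, 2, 5⟩)) (.node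 1 (.one ⟨7074, 2, 5⟩) (.one ⟨3215, 2, 3⟩)))) (.node 4 (.node 2 (.node 1 (.one ⟨16972, 0, 2⟩) (.one ⟨2692, 2, 3⟩)) (.node 1 (.one ⟨13704, 0, 2⟩) (.one ⟨10966, 0, 3⟩))) (.node 2 (.node 1 (.one ⟨12429, 0, 3⟩) (.one ⟨4159, 1, 4⟩)) (.node 1 (.one ⟨11130, 0, 2⟩) (.one ⟨17106, 0, 3⟩)))))) (.node 16 (.node 8 (.node 4 (.node 2 (.node 1 (.one ⟨8597, 0, 3⟩) (.one ⟨8171, 0, 3⟩)) (.node 1 (.one ⟨15871, 0, 3⟩) (.one ⟨3591, 0, 3⟩))) (.node 2 (.node 1 (.one ⟨12101, 0, 4⟩) (.one ⟨6460, 1, 4⟩)) (.node 1 (.one ⟨5334, 0, 3⟩) (.one ⟨9285, 1, 1⟩)))) (.node 4 (.node 2 (.node 1 (.one ⟨7072, 2, 4⟩) (.one ⟨66, 1, 1⟩)) (.node 1 (.one ⟨15060, 2, 4⟩) (.one ⟨4553, 2, 4⟩))) (.node 2 (.node 1 (.one ⟨9434, 1, 1⟩) (.one ⟨12805, 2, 5⟩)) (.node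 1 (.one ⟨5837, 2, 5⟩) (.one ⟨6139, 2, 5⟩))))) (.node 8 (.node 4 (.node 2 (.node 1 (.one ⟨12705, 2, 5⟩) (.one ⟨11157, 2, 5⟩)) (.node 1 (.one ⟨7677, 2, 5⟩) (.one ⟨195, 2, 4⟩))) (.node 2 (.node 1 (.one ⟨9444, 0, 3⟩) (.one ⟨14765, 2, 6⟩)) (.node 1 (.one ⟨10070, 0, 4⟩) (.one ⟨828, 0, 3⟩)))) (.node 4 (.node 2 (.node 1 (.one ⟨1702, 0, 2⟩) (.one ⟨1698, 0, 2⟩)) (.node 1 (.one ⟨16073, 2, 3⟩) (.one ⟨14267, 2, 3⟩))) (.node 2 (.node 1 (.one ⟨1701, 0, 2⟩) (.one ⟨1697, 0, 2⟩)) (.node 1 (.one ⟨260, 0, 3⟩) (.one ⟨7446, 0, 2⟩)))))))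
def par6_16_4 : Arr Par :=
  (.node 32 (.node 16 (.node 8 (.node 4 (.node 2 (.node 1 (.one ⟨4155, 0, 4⟩) (.one ⟨16550, 0, 4⟩)) (.node 1 (.one ⟨10063, 0, 4⟩) (.one ⟨247, 2, 4⟩))) (.node 2 (.node 1 (.one ⟨16735, 0, 4⟩) (.one ⟨12965, 1, 4⟩)) (.node 1 (.one ⟨249, 2, 4⟩) (.one ⟨2118, 0, 4⟩)))) (.node 4 (.node 2 (.node 1 (.one ⟨2476, 2, 4⟩) (.one ⟨15717, 2, 4⟩)) (.node 1 (.one ⟨12131, 1, 1⟩) (.one ⟨17087, 0, 3⟩))) (.node 2 (.node 1 (.one ⟨3765, 1, 1⟩) (.one ⟨13511, 1, 1⟩)) (.node 1 (.one ⟨16126, 2, 2⟩) (.one ⟨2069, 0, 4⟩))))) (.node 8 (.node 4 (.node 2 (.node 1 (.one ⟨13409, 2, 6⟩) (.one ⟨13318, 2, 4⟩)) (.node 1 (.one ⟨1377, 2, 1⟩) (.one ⟨10252, 0, 4⟩))) (.node 2 (.node 1 (.one ⟨9641, 0, 4⟩) (.one ⟨16323, 1, 1⟩))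 (.node 1 (.one ⟨10068, 0, 3⟩) (.one ⟨16748, 2, 4⟩)))) (.node 4 (.node 2 (.node 1 (.one ⟨16342, 2, 4⟩) (.one ⟨7563, 2, 5⟩)) (.node 1 (.one ⟨6140, 2, 4⟩) (.one ⟨11396, 2, 3⟩))) (.node 2 (.node 1 (.one ⟨9556, 2, 1⟩) (.one ⟨4706, 2, 2⟩)) (.node 1 (.one ⟨4061, 2, 3⟩) (.one ⟨7199, 2, 5⟩)))))) (.node 16 (.node 8 (.node 4 (.node 2 (.node 1 (.one ⟨10065, 0, 4⟩) (.one ⟨11100, 2, 4⟩)) (.node 1 (.one ⟨5446, 2, 2⟩) (.one ⟨3612, 0, 3⟩))) (.node 2 (.node 1 (.one ⟨1069, 0, 3⟩) (.one ⟨12381, 1, 4⟩)) (.node 1 (.one ⟨12886, 2, 4⟩) (.one ⟨8472, 2, 4⟩)))) (.node 4 (.node 2 (.node 1 (.one ⟨7498, 2, 2⟩) (.one ⟨4368, 2, 4⟩)) (.node 1 (.one ⟨12070, 0, 2⟩) (.one ⟨1597, 2, 3⟩))) (.node 2 (.node 1 (.one ⟨13956, 1, 3⟩) (.one ⟨7565, 2,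 2⟩)) (.node 1 (.one ⟨9707, 0, 4⟩) (.one ⟨2373, 2, 4⟩))))) (.node 8 (.node 4 (.node 2 (.node 1 (.one ⟨1085, 2, 4⟩) (.one ⟨6789, 2, 4⟩)) (.node 1 (.one ⟨15717, 0, 4⟩) (.one ⟨15615, 2, 4⟩))) (.node 2 (.node 1 (.one ⟨15104, 2, 4⟩) (.one ⟨10030, 2, 4⟩)) (.node 1 (.one ⟨10797, 2, 3⟩) (.one ⟨5237, 0, 3⟩)))) (.node 4 (.node 2 (.node 1 (.one ⟨13139, 0, 5⟩) (.one ⟨6256, 2, 2⟩)) (.node 1 (.one ⟨7751, 2, 5⟩) (.one ⟨9969, 0, 3⟩))) (.node 2 (.node 1 (.one ⟨8901, 2, 5⟩) (.one ⟨6338, 2, 5⟩)) (.node 1 (.one ⟨9107, 1, 5⟩) (.one ⟨5511, 2, 3⟩)))))))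
def par6_16_5 : Arr Par :=
  (.node 32 (.node 16 (.node 8 (.node 4 (.node 2 (.node 1 (.one ⟨11837, 2, 3⟩) (.one ⟨11514, 2, 4⟩)) (.node 1 (.one ⟨1999, 2, 2⟩) (.one ⟨5936, 2, 4⟩))) (.node 2 (.node 1 (.one ⟨15562, 2, 4⟩) (.one ⟨16296, 0, 2⟩)) (.node 1 (.one ⟨9017, 2, 3⟩) (.one ⟨14358, 2, 5⟩)))) (.node 4 (.node 2 (.node 1 (.one ⟨9059, 1, 2⟩) (.one ⟨4722, 0, 3⟩)) (.node 1 (.one ⟨594, 2, 1⟩) (.one ⟨3582, 0, 4⟩))) (.node 2 (.node 1 (.one ⟨1448, 2, 4⟩) (.one ⟨14262, 2, 3⟩)) (.node 1 (.one ⟨1280, 2, 2⟩) (.one ⟨6174, 0, 4⟩))))) (.node 8 (.node 4 (.node 2 (.node 1 (.one ⟨7284, 2, 4⟩) (.one ⟨8105, 1, 5⟩)) (.node 1 (.one ⟨10879, 0, 4⟩) (.one ⟨10318, 2, 6⟩))) (.node 2 (.node 1 (.one ⟨15982, 2, 3⟩) (.one ⟨14493, 2, 5⟩)) (.node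 1 (.one ⟨11914, 2, 5⟩) (.one ⟨16994, 2, 3⟩)))) (.node 4 (.node 2 (.node 1 (.one ⟨14664, 0, 4⟩) (.one ⟨12708, 0, 4⟩)) (.node 1 (.one ⟨11118, 0, 4⟩) (.one ⟨6792, 1, 4⟩))) (.node 2 (.node 1 (.one ⟨9274, 2, 3⟩) (.one ⟨9214, 2, 3⟩)) (.node 1 (.one ⟨610, 2, 1⟩) (.one ⟨8168, 2, 3⟩)))))) (.node 16 (.node 8 (.node 4 (.node 2 (.node 1 (.one ⟨13273, 2, 5⟩) (.one ⟨9043, 2, 5⟩)) (.node 1 (.one ⟨10074, 0, 3⟩) (.one ⟨14742, 2, 3⟩))) (.node 2 (.node 1 (.one ⟨1086, 2, 4⟩) (.one ⟨14249, 2, 3⟩)) (.node 1 (.one ⟨3025, 2, 4⟩) (.one ⟨4608, 2, 3⟩)))) (.node 4 (.node 2 (.node 1 (.one ⟨3126, 2, 5⟩) (.one ⟨6229, 2, 5⟩)) (.node 1 (.one ⟨7819, 0, 3⟩) (.one ⟨10272, 0, 2⟩))) (.node 2 (.node 1 (.one ⟨9482, 0, 3⟩) (.one ⟨2837, 0, 5⟩)) (.node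 1 (.one ⟨7803, 2, 6⟩) (.one ⟨7906, 2, 5⟩))))) (.node 8 (.node 4 (.node 2 (.node 1 (.one ⟨16958, 2, 5⟩) (.one ⟨12850, 2, 5⟩)) (.node 1 (.one ⟨4315, 2, 4⟩) (.one ⟨10704, 0, 2⟩))) (.node 2 (.node 1 (.one ⟨5956, 2, 4⟩) (.one ⟨11861, 0, 2⟩)) (.node 1 (.one ⟨3503, 0, 2⟩) (.one ⟨2624, 0, 4⟩)))) (.node 4 (.node 2 (.node 1 (.one ⟨13713, 2, 3⟩) (.one ⟨13845, 2, 2⟩)) (.node 1 (.one ⟨7444, 2, 5⟩) (.one ⟨2608, 0, 4⟩))) (.node 2 (.node 1 (.one ⟨1793, 2, 4⟩) (.one ⟨120, 2, 4⟩)) (.node 1 (.one ⟨10728, 0, 4⟩) (.one ⟨13084, 0, 3⟩)))))))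
def par6_16_6 : Arr Par :=
  (.node 32 (.node 16 (.node 8 (.node 4 (.node 2 (.node 1 (.one ⟨10705, 0, 4⟩) (.one ⟨10971, 2, 2⟩)) (.node 1 (.one ⟨4208, 2, 5⟩) (.one ⟨16661, 2, 2⟩))) (.node 2 (.node 1 (.one ⟨17002, 0, 2⟩) (.one ⟨9696, 2, 4⟩)) (.node 1 (.one ⟨12378, 0, 3⟩) (.one ⟨2603, 2, 2⟩)))) (.node 4 (.node 2 (.node 1 (.one ⟨2731, 0, 4⟩) (.one ⟨14971, 2, 2⟩)) (.node 1 (.one ⟨9207, 2, 6⟩) (.one ⟨7443, 2, 2⟩))) (.node 2 (.node 1 (.one ⟨2683, 2, 2⟩) (.one ⟨4756, 0, 2⟩)) (.node 1 (.one ⟨15044, 2, 2⟩) (.one ⟨7783, 0, 5⟩))))) (.node 8 (.node 4 (.node 2 (.node 1 (.one ⟨9602, 2, 5⟩) (.one ⟨1947, 0, 4⟩)) (.node 1 (.one ⟨5108, 2, 5⟩) (.one ⟨10480, 2, 5⟩))) (.node 2 (.node 1 (.one ⟨16023, 0, 4⟩) (.one ⟨4877, 2, 5⟩)) (.node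 1 (.one ⟨5181, 2, 5⟩) (.one ⟨2690, 0, 4⟩)))) (.node 4 (.node 2 (.node 1 (.one ⟨1366, 2, 3⟩) (.one ⟨3052, 2, 4⟩)) (.node 1 (.one ⟨2522, 0, 4⟩) (.one ⟨14494, 2, 5⟩))) (.node 2 (.node 1 (.one ⟨9790, 0, 4⟩) (.one ⟨9213, 0, 4⟩)) (.node 1 (.one ⟨15627, 2, 4⟩) (.one ⟨9011, 0, 3⟩)))))) (.node 16 (.node 8 (.node 4 (.node 2 (.node 1 (.one ⟨8821, 2, 5⟩) (.one ⟨15410, 0, 3⟩)) (.node 1 (.one ⟨6749, 0, 3⟩) (.one ⟨2990, 1, 4⟩))) (.node 2 (.node 1 (.one ⟨5548, 2, 2⟩) (.one ⟨6156, 2, 2⟩)) (.node 1 (.one ⟨3596, 0, 4⟩) (.one ⟨12789, 2, 5⟩)))) (.node 4 (.node 2 (.node 1 (.one ⟨12711, 2, 2⟩) (.one ⟨3513, 2, 4⟩)) (.node 1 (.one ⟨3606, 2, 3⟩) (.one ⟨2162, 0, 3⟩))) (.node 2 (.node 1 (.one ⟨8948, 0, 5⟩) (.one ⟨10139, 0, 3⟩)) (.node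 1 (.one ⟨16960, 0, 3⟩) (.one ⟨5368, 2, 1⟩))))) (.node 8 (.node 4 (.node 2 (.node 1 (.one ⟨7802, 1, 4⟩) (.one ⟨5106, 2, 1⟩)) (.node 1 (.one ⟨9895, 0, 4⟩) (.one ⟨4049, 2, 1⟩))) (.node 2 (.node 1 (.one ⟨8927, 1, 4⟩) (.one ⟨4513, 2, 1⟩)) (.node 1 (.one ⟨15417, 0, 4⟩) (.one ⟨4347, 2, 5⟩)))) (.node 4 (.node 2 (.node 1 (.one ⟨6296, 2, 5⟩) (.one ⟨12420, 2, 4⟩)) (.node 1 (.one ⟨1524, 0, 1⟩) (.one ⟨13944, 2, 2⟩))) (.node 2 (.node 1 (.one ⟨11931, 2, 2⟩) (.one ⟨5888, 2, 2⟩)) (.node 1 (.one ⟨3874, 2, 2⟩) (.one ⟨14126, 0, 2⟩)))))))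
def par6_16_7 : Arr Par :=
  (.node 32 (.node 16 (.node 8 (.node 4 (.node 2 (.node 1 (.one ⟨11879, 2, 5⟩) (.one ⟨15386, 2, 4⟩)) (.node 1 (.one ⟨16025, 0, 2⟩) (.one ⟨5024, 2, 5⟩))) (.node 2 (.node 1 (.one ⟨16699, 2, 4⟩) (.one ⟨15422, 0, 2⟩)) (.node 1 (.one ⟨6344, 2, 4⟩) (.one ⟨16522, 0, 4⟩)))) (.node 4 (.node 2 (.node 1 (.one ⟨15594, 0, 3⟩) (.one ⟨9989, 0, 3⟩)) (.node 1 (.one ⟨12014, 0, 3⟩) (.one ⟨12739, 1, 3⟩))) (.node 2 (.node 1 (.one ⟨4744, 2, 4⟩) (.one ⟨12876, 2, 4⟩)) (.node 1 (.one ⟨12671, 2, 4⟩) (.one ⟨6556, 2, 3⟩))))) (.node 8 (.node 4 (.node 2 (.node 1 (.one ⟨14577, 2, 6⟩) (.one ⟨3493, 2, 3⟩)) (.node 1 (.one ⟨11527, 2, 4⟩) (.one ⟨6754, 2, 3⟩))) (.node 2 (.node 1 (.one ⟨14867, 2, 1⟩) (.one ⟨300, 2, 3⟩))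 (.node 1 (.one ⟨9430, 2, 1⟩) (.one ⟨1441, 2, 1⟩)))) (.node 4 (.node 2 (.node 1 (.one ⟨12415, 2, 4⟩) (.one ⟨2968, 0, 4⟩)) (.node 1 (.one ⟨14496, 2, 4⟩) (.one ⟨16166, 2, 5⟩))) (.node 2 (.node 1 (.one ⟨6364, 2, 4⟩) (.one ⟨9728, 2, 5⟩)) (.node 1 (.one ⟨4242, 2, 5⟩) (.one ⟨8213, 1, 2⟩)))))) (.node 16 (.node 8 (.node 4 (.node 2 (.node 1 (.one ⟨1944, 2, 5⟩) (.one ⟨12567, 0, 3⟩)) (.node 1 (.one ⟨13359, 2, 5⟩) (.one ⟨6242, 2, 4⟩))) (.node 2 (.node 1 (.one ⟨17148, 2, 5⟩) (.one ⟨4472, 0, 3⟩)) (.node 1 (.one ⟨6011, 2, 3⟩) (.one ⟨5094, 2, 5⟩)))) (.node 4 (.node 2 (.node 1 (.one ⟨12418, 2, 3⟩) (.one ⟨3059, 2, 1⟩)) (.node 1 (.one ⟨9887, 2, 3⟩) (.one ⟨4688, 1, 2⟩))) (.node 2 (.node 1 (.one ⟨13279, 2, 4⟩) (.one ⟨11376, 0, 4⟩))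 (.node 1 (.one ⟨10994, 2, 5⟩) (.one ⟨2491, 2, 5⟩))))) (.node 8 (.node 4 (.node 2 (.node 1 (.one ⟨13177, 1, 4⟩) (.one ⟨15336, 2, 5⟩)) (.node 1 (.one ⟨7306, 2, 3⟩) (.one ⟨10563, 2, 5⟩))) (.node 2 (.node 1 (.one ⟨2596, 2, 2⟩) (.one ⟨7248, 2, 5⟩)) (.node 1 (.one ⟨15346, 2, 3⟩) (.one ⟨11845, 2, 4⟩)))) (.node 4 (.node 2 (.node 1 (.one ⟨13214, 1, 3⟩) (.one ⟨2144, 2, 3⟩)) (.node 1 (.one ⟨3176, 2, 6⟩) (.one ⟨12180, 2, 2⟩))) (.node 2 (.node 1 (.one ⟨12995, 2, 4⟩) (.one ⟨4260, 1, 4⟩)) (.node 1 (.one ⟨2942, 2, 3⟩) (.one ⟨15785, 2, 2⟩)))))))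
def par6_16_8 : Arr Par :=
  (.node 32 (.node 16 (.node 8 (.node 4 (.node 2 (.node 1 (.one ⟨5072, 2, 2⟩) (.one ⟨3508, 2, 2⟩)) (.node 1 (.one ⟨17030, 2, 2⟩) (.one ⟨1662, 0, 4⟩))) (.node 2 (.node 1 (.one ⟨9633, 0, 2⟩) (.one ⟨7119, 0, 4⟩)) (.node 1 (.one ⟨15398, 2, 5⟩) (.one ⟨13798, 2, 4⟩)))) (.node 4 (.node 2 (.node 1 (.one ⟨6801, 0, 2⟩) (.one ⟨9187, 2, 4⟩)) (.node 1 (.one ⟨9388, 2, 5⟩) (.one ⟨1556, 2, 4⟩))) (.node 2 (.node 1 (.one ⟨1209, 2, 4⟩) (.one ⟨5760, 2, 5⟩)) (.node 1 (.one ⟨9351, 1, 1⟩) (.one ⟨16103, 2, 2⟩))))) (.node 8 (.node 4 (.node 2 (.node 1 (.one ⟨15633, 2, 2⟩) (.one ⟨3311, 0, 4⟩)) (.node 1 (.one ⟨11341, 0, 3⟩) (.one ⟨15278, 0, 3⟩))) (.node 2 (.node 1 (.one ⟨5214, 2, 6⟩) (.one ⟨4389, 2, 3⟩)) (.node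 1 (.one ⟨13783, 0, 3⟩) (.one ⟨5270, 2, 4⟩)))) (.node 4 (.node 2 (.node 1 (.one ⟨13722, 2, 5⟩) (.one ⟨6036, 0, 3⟩)) (.node 1 (.one ⟨9770, 2, 4⟩) (.one ⟨16681, 0, 5⟩))) (.node 2 (.node 1 (.one ⟨13098, 1, 4⟩) (.one ⟨4361, 1, 5⟩)) (.node 1 (.one ⟨16638, 1, 4⟩) (.one ⟨2372, 2, 2⟩)))))) (.node 16 (.node 8 (.node 4 (.node 2 (.node 1 (.one ⟨10404, 2, 4⟩) (.one ⟨2636, 2, 4⟩)) (.node 1 (.one ⟨10621, 2, 5⟩) (.one ⟨16053, 2, 4⟩))) (.node 2 (.node 1 (.one ⟨14799, 0, 4⟩) (.one ⟨6568, 1, 4⟩)) (.node 1 (.one ⟨12526, 1, 3⟩) (.one ⟨2665, 2, 5⟩)))) (.node 4 (.node 2 (.node 1 (.one ⟨13416, 2, 4⟩) (.one ⟨16730, 2, 5⟩)) (.node 1 (.one ⟨12447, 1, 3⟩) (.one ⟨4231, 2, 5⟩))) (.node 2 (.node 1 (.one ⟨11511, 2, 4⟩) (.one ⟨16658, 0, 2⟩))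 (.node 1 (.one ⟨8066, 2, 4⟩) (.one ⟨694, 2, 4⟩))))) (.node 8 (.node 4 (.node 2 (.node 1 (.one ⟨4570, 1, 4⟩) (.one ⟨13990, 2, 4⟩)) (.node 1 (.one ⟨191, 2, 5⟩) (.one ⟨700, 2, 4⟩))) (.node 2 (.node 1 (.one ⟨13985, 2, 6⟩) (.one ⟨2366, 1, 0⟩)) (.node 1 (.one ⟨16285, 0, 4⟩) (.one ⟨2617, 2, 5⟩)))) (.node 4 (.node 2 (.node 1 (.one ⟨16843, 2, 4⟩) (.one ⟨13241, 2, 5⟩)) (.node 1 (.one ⟨6516, 2, 4⟩) (.one ⟨709, 1, 4⟩))) (.node 2 (.node 1 (.one ⟨13968, 2, 5⟩) (.one ⟨9596, 2, 1⟩)) (.node 1 (.one ⟨8671, 2, 4⟩) (.one ⟨14909, 0, 4⟩)))))))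
def par6_16_9 : Arr Par :=
  (.node 32 (.node 16 (.node 8 (.node 4 (.node 2 (.node 1 (.one ⟨4124, 2, 2⟩) (.one ⟨15142, 2, 3⟩)) (.node 1 (.one ⟨12843, 0, 5⟩) (.one ⟨5353, 2, 2⟩))) (.node 2 (.node 1 (.one ⟨5872, 0, 2⟩) (.one ⟨17071, 2, 4⟩)) (.node 1 (.one ⟨13706, 2, 5⟩) (.one ⟨15389, 2, 5⟩)))) (.node 4 (.node 2 (.node 1 (.one ⟨14886, 2, 4⟩) (.one ⟨1701, 1, 0⟩)) (.node 1 (.one ⟨6123, 0, 4⟩) (.one ⟨2053, 2, 2⟩))) (.node 2 (.node 1 (.one ⟨13511, 0, 1⟩) (.one ⟨2042, 2, 4⟩)) (.node 1 (.one ⟨2571, 2, 2⟩) (.one ⟨16051, 2, 2⟩))))) (.node 8 (.node 4 (.node 2 (.node 1 (.one ⟨12123, 1, 4⟩) (.one ⟨5101, 2, 5⟩)) (.node 1 (.one ⟨409, 1, 3⟩) (.one ⟨8361, 1, 3⟩))) (.node 2 (.node 1 (.one ⟨5794, 0, 3⟩) (.one ⟨15010, 2, 4⟩)) (.node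 1 (.one ⟨14280, 2, 5⟩) (.one ⟨14354, 0, 3⟩)))) (.node 4 (.node 2 (.node 1 (.one ⟨3950, 0, 1⟩) (.one ⟨2401, 1, 0⟩)) (.node 1 (.one ⟨3324, 0, 5⟩) (.one ⟨15832, 0, 4⟩))) (.node 2 (.node 1 (.one ⟨15187, 2, 4⟩) (.one ⟨14650, 0, 5⟩)) (.node 1 (.one ⟨4532, 0, 1⟩) (.one ⟨4340, 0, 2⟩)))))) (.node 16 (.node 8 (.node 4 (.node 2 (.node 1 (.one ⟨1280, 0, 2⟩) (.one ⟨15666, 0, 2⟩)) (.node 1 (.one ⟨14628, 0, 2⟩) (.one ⟨13800, 2, 3⟩))) (.node 2 (.node 1 (.one ⟨13028, 2, 3⟩) (.one ⟨9138, 2, 3⟩)) (.node 1 (.one ⟨16719, 2, 5⟩) (.one ⟨155, 1, 4⟩)))) (.node 4 (.node 2 (.node 1 (.one ⟨12506, 2, 5⟩) (.one ⟨8171, 1, 3⟩)) (.node 1 (.one ⟨1202, 2, 1⟩) (.one ⟨3945, 0, 5⟩))) (.node 2 (.node 1 (.one ⟨409, 2, 3⟩) (.one ⟨13878, 2, 5⟩)) (.node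 1 (.one ⟨12519, 2, 6⟩) (.one ⟨7830, 0, 4⟩))))) (.node 8 (.node 4 (.node 2 (.node 1 (.one ⟨6238, 0, 2⟩) (.one ⟨8766, 2, 4⟩)) (.node 1 (.one ⟨7040, 2, 4⟩) (.one ⟨4491, 2, 4⟩))) (.node 2 (.node 1 (.one ⟨15055, 0, 4⟩) (.one ⟨6527, 2, 4⟩)) (.node 1 (.one ⟨7755, 2, 4⟩) (.one ⟨14437, 2, 3⟩)))) (.node 4 (.node 2 (.node 1 (.one ⟨9195, 2, 1⟩) (.one ⟨4351, 1, 5⟩)) (.node 1 (.one ⟨16328, 2, 6⟩) (.one ⟨16014, 2, 3⟩))) (.node 2 (.node 1 (.one ⟨12548, 2, 5⟩) (.one ⟨10407, 2, 3⟩)) (.node 1 (.one ⟨13873, 2, 3⟩) (.one ⟨7852, 2, 4⟩)))))))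
def par6_16_10 : Arr Par :=
  (.node 32 (.node 16 (.node 8 (.node 4 (.node 2 (.node 1 (.one ⟨15538, 2, 4⟩) (.one ⟨9087, 0, 4⟩)) (.node 1 (.one ⟨1450, 1, 1⟩) (.one ⟨1909, 2, 5⟩))) (.node 2 (.node 1 (.one ⟨13346, 2, 4⟩) (.one ⟨1285, 1, 1⟩)) (.node 1 (.one ⟨594, 1, 1⟩) (.one ⟨16972, 1, 2⟩)))) (.node 4 (.node 2 (.node 1 (.one ⟨4392, 2, 3⟩) (.one ⟨4372, 2, 4⟩)) (.node 1 (.one ⟨6257, 2, 2⟩) (.one ⟨14298, 2, 4⟩))) (.node 2 (.node 1 (.one ⟨12349, 2, 4⟩) (.one ⟨12353, 2, 2⟩)) (.node 1 (.one ⟨14308, 2, 6⟩) (.one ⟨16150, 0, 4⟩))))) (.node 8 (.node 4 (.node 2 (.node 1 (.one ⟨15483, 2, 6⟩) (.one ⟨15997, 2, 5⟩)) (.node 1 (.one ⟨1942, 0, 4⟩) (.one ⟨9119, 2, 6⟩))) (.node 2 (.node 1 (.one ⟨5463, 2, 4⟩) (.one ⟨11426, 0, 4⟩))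 (.node 1 (.one ⟨5869, 2, 5⟩) (.one ⟨3582, 2, 4⟩)))) (.node 4 (.node 2 (.node 1 (.one ⟨7434, 2, 4⟩) (.one ⟨2860, 2, 4⟩)) (.node 1 (.one ⟨8210, 2, 4⟩) (.one ⟨5632, 2, 4⟩))) (.node 2 (.node 1 (.one ⟨5113, 2, 4⟩) (.one ⟨8463, 2, 5⟩)) (.node 1 (.one ⟨2339, 2, 4⟩) (.one ⟨5896, 2, 5⟩)))))) (.node 16 (.node 8 (.node 4 (.node 2 (.node 1 (.one ⟨2860, 1, 4⟩) (.one ⟨9359, 2, 1⟩)) (.node 1 (.one ⟨7096, 1, 4⟩) (.one ⟨6576, 0, 1⟩))) (.node 2 (.node 1 (.one ⟨11383, 2, 3⟩) (.one ⟨9937, 0, 4⟩)) (.node 1 (.one ⟨7299, 2, 4⟩) (.one ⟨234, 2, 4⟩)))) (.node 4 (.node 2 (.node 1 (.one ⟨3449, 0, 4⟩) (.one ⟨8836, 0, 4⟩)) (.node 1 (.one ⟨13323, 2, 4⟩) (.one ⟨4464, 0, 3⟩))) (.node 2 (.node 1 (.one ⟨936, 2, 6⟩) (.one ⟨13322, 2, 4⟩)) (.node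 1 (.one ⟨47, 2, 3⟩) (.one ⟨7487, 1, 3⟩))))) (.node 8 (.node 4 (.node 2 (.node 1 (.one ⟨9327, 2, 5⟩) (.one ⟨10597, 0, 1⟩)) (.node 1 (.one ⟨10121, 2, 4⟩) (.one ⟨9759, 2, 5⟩))) (.node 2 (.node 1 (.one ⟨8096, 1, 5⟩) (.one ⟨13421, 1, 2⟩)) (.node 1 (.one ⟨14653, 0, 5⟩) (.one ⟨16829, 2, 3⟩)))) (.node 4 (.node 2 (.node 1 (.one ⟨9095, 2, 3⟩) (.one ⟨13813, 2, 4⟩)) (.node 1 (.one ⟨2147, 0, 4⟩) (.one ⟨7822, 2, 3⟩))) (.node 2 (.node 1 (.one ⟨16162, 2, 3⟩) (.one ⟨7092, 2, 1⟩)) (.node 1 (.one ⟨15623, 2, 2⟩) (.one ⟨8308, 2, 2⟩)))))))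
def par6_16_11 : Arr Par :=
  (.node 32 (.node 16 (.node 8 (.node 4 (.node 2 (.node 1 (.one ⟨8748, 0, 4⟩) (.one ⟨14309, 2, 6⟩)) (.node 1 (.one ⟨11786, 2, 5⟩) (.one ⟨10509, 2, 5⟩))) (.node 2 (.node 1 (.one ⟨16158, 2, 3⟩) (.one ⟨4517, 2, 4⟩)) (.node 1 (.one ⟨5799, 2, 4⟩) (.one ⟨7618, 2, 4⟩)))) (.node 4 (.node 2 (.node 1 (.one ⟨1907, 2, 6⟩) (.one ⟨1936, 2, 2⟩)) (.node 1 (.one ⟨11980, 0, 1⟩) (.one ⟨12398, 1, 2⟩))) (.node 2 (.node 1 (.one ⟨14764, 2, 4⟩) (.one ⟨7653, 0, 4⟩)) (.node 1 (.one ⟨12990, 2, 4⟩) (.one ⟨2949, 1, 2⟩))))) (.node 8 (.node 4 (.node 2 (.node 1 (.one ⟨9389, 2, 1⟩) (.one ⟨6623, 2, 5⟩)) (.node 1 (.one ⟨11664, 0, 2⟩) (.one ⟨10316, 2, 6⟩))) (.node 2 (.node 1 (.one ⟨10995, 0, 4⟩) (.one ⟨11580, 0, 2⟩))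 (.node 1 (.one ⟨5636, 1, 2⟩) (.one ⟨14148, 0, 3⟩)))) (.node 4 (.node 2 (.node 1 (.one ⟨13336, 1, 2⟩) (.one ⟨7266, 2, 4⟩)) (.node 1 (.one ⟨13335, 1, 2⟩) (.one ⟨14941, 2, 4⟩))) (.node 2 (.node 1 (.one ⟨12852, 2, 3⟩) (.one ⟨14926, 0, 3⟩)) (.node 1 (.one ⟨3584, 2, 3⟩) (.one ⟨6489, 1, 3⟩)))))) (.node 16 (.node 8 (.node 4 (.node 2 (.node 1 (.one ⟨5185, 1, 3⟩) (.one ⟨6114, 1, 3⟩)) (.node 1 (.one ⟨7478, 0, 3⟩) (.one ⟨10586, 1, 3⟩))) (.node 2 (.node 1 (.one ⟨16992, 1, 3⟩) (.one ⟨10176, 1, 3⟩)) (.node 1 (.one ⟨11748, 0, 4⟩) (.one ⟨5209, 2, 5⟩)))) (.node 4 (.node 2 (.node 1 (.one ⟨14761, 2, 4⟩) (.one ⟨16214, 2, 5⟩)) (.node 1 (.one ⟨811, 2, 4⟩) (.one ⟨12818, 2, 5⟩))) (.node 2 (.node 1 (.one ⟨9341, 0, 3⟩) (.one ⟨7622, 2,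 5⟩)) (.node 1 (.one ⟨10101, 0, 4⟩) (.one ⟨13492, 2, 4⟩))))) (.node 8 (.node 4 (.node 2 (.node 1 (.one ⟨2212, 0, 3⟩) (.one ⟨2329, 2, 3⟩)) (.node 1 (.one ⟨10224, 2, 5⟩) (.one ⟨14147, 0, 4⟩))) (.node 2 (.node 1 (.one ⟨1868, 2, 2⟩) (.one ⟨5418, 2, 4⟩)) (.node 1 (.one ⟨12963, 2, 5⟩) (.one ⟨8274, 2, 4⟩)))) (.node 4 (.node 2 (.node 1 (.one ⟨2156, 2, 2⟩) (.one ⟨5459, 0, 3⟩)) (.node 1 (.one ⟨13628, 2, 6⟩) (.one ⟨3351, 1, 3⟩))) (.node 2 (.node 1 (.one ⟨2420, 2, 4⟩) (.one ⟨7487, 0, 3⟩)) (.node 1 (.one ⟨14629, 2, 2⟩) (.one ⟨8606, 2, 4⟩)))))))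
def par6_16_12 : Arr Par :=
  (.node 23 (.node 11 (.node 5 (.node 2 (.node 1 (.one ⟨1553, 2, 4⟩) (.one ⟨7534, 1, 3⟩)) (.node 1 (.one ⟨11690, 0, 4⟩) (.node 1 (.one ⟨14504, 2, 4⟩) (.one ⟨14605, 0, 4⟩)))) (.node 3 (.node 1 (.one ⟨4438, 0, 4⟩) (.node 1 (.one ⟨7193, 2, 4⟩) (.one ⟨14506, 2, 6⟩))) (.node 1 (.one ⟨16538, 2, 5⟩) (.node 1 (.one ⟨12499, 2, 4⟩) (.one ⟨16969, 1, 1⟩))))) (.node 6 (.node 3 (.node 1 (.one ⟨3482, 2, 4⟩) (.node 1 (.one ⟨3753, 2, 4⟩) (.one ⟨8929, 2, 4⟩))) (.node 1 (.one ⟨5585, 2, 2⟩) (.node 1 (.one ⟨4332, 1, 4⟩) (.one ⟨13539, 1, 4⟩)))) (.node 3 (.node 1 (.one ⟨11262, 1, 4⟩) (.node 1 (.one ⟨3573, 2, 4⟩) (.one ⟨2761, 1, 5⟩))) (.node 1 (.one ⟨9754, 1, 4⟩) (.node 1 (.one ⟨12178, 0, 3⟩) (.one ⟨2304,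 0, 4⟩)))))) (.node 12 (.node 6 (.node 3 (.node 1 (.one ⟨280, 0, 4⟩) (.node 1 (.one ⟨11134, 2, 4⟩) (.one ⟨2991, 2, 3⟩))) (.node 1 (.one ⟨9169, 2, 5⟩) (.node 1 (.one ⟨8720, 0, 3⟩) (.one ⟨6865, 0, 4⟩)))) (.node 3 (.node 1 (.one ⟨15840, 1, 3⟩) (.node 1 (.one ⟨11102, 2, 3⟩) (.one ⟨10357, 2, 4⟩))) (.node 1 (.one ⟨5776, 2, 6⟩) (.node 1 (.one ⟨1132, 2, 2⟩) (.one ⟨14508, 2, 2⟩))))) (.node 6 (.node 3 (.node 1 (.one ⟨10167, 2, 4⟩) (.node 1 (.one ⟨6497, 2, 2⟩) (.one ⟨2619, 2, 5⟩))) (.node 1 (.one ⟨14126, 2, 2⟩) (.node 1 (.one ⟨8809, 2, 3⟩) (.one ⟨6525, 0, 4⟩)))) (.node 3 (.node 1 (.one ⟨12786, 0, 3⟩) (.node 1 (.one ⟨16578, 2, 6⟩) (.one ⟨4715, 2, 5⟩))) (.node 1 (.one ⟨6165, 2, 6⟩) (.node 1 (.one ⟨9389, 0, 1⟩) (.one ⟨1648,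 0, 4⟩)))))))
def par6_16 : Arr Par :=
  (.node 384 (.node 192 (.node 64 par6_16_0 (.node 64 par6_16_1 par6_16_2)) (.node 64 par6_16_3 (.node 64 par6_16_4 par6_16_5))) (.node 192 (.node 64 par6_16_6 (.node 64 par6_16_7 par6_16_8)) (.node 128 (.node 64 par6_16_9 par6_16_10) (.node 64 par6_16_11 par6_16_12))))
def par6 : Arr Par :=
  (.node 8192 (.node 4096 (.node 2048 (.node 1024 par6_0 par6_1) (.node 1024 par6_2 par6_3)) (.node 2048 (.node 1024 par6_4 par6_5) (.node 1024 par6_6 par6_7))) (.node 4096 (.node 2048 (.node 1024 par6_8 par6_9) (.node 1024 par6_10 par6_11)) (.node 2048 (.node 1024 par6_12 par6_13) (.node 1024 par6_14 (.node 1024 par6_15 par6_16)))))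

end CfsgLib.ThIndex62.Data
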