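import Cfsg.Agent.ThIndex62.Closure

/-! Orbit forest of node 7 on the points. -/

set_option autoImplicit false
set_option maxRecDepth 100000

namespace CfsgLib.ThIndex62.Data

open CfsgLib.ThModel83

def par7_0_0 : Arr Par :=
  (.node 32 (.node 16 (.node 8 (.node 4 (.node 2 (.node 1 (.one ⟨6855, 2, 5⟩) (.one ⟨10473, 1, 7⟩)) (.node 1 (.one ⟨10566, 1, 6⟩) (.one ⟨16368, 0, 4⟩))) (.node 2 (.node 1 (.one ⟨1711, 0, 4⟩) (.one ⟨16191, 2, 8⟩)) (.node 1 (.one ⟨8377, 1, 7⟩) (.one ⟨10761, 0, 4⟩)))) (.node 4 (.node 2 (.node 1 (.one ⟨16348, 1, 7⟩) (.one ⟨16080, 1, 5⟩)) (.node 1 (.one ⟨10599, 0, 4⟩) (.one ⟨8349, 1, 5⟩))) (.node 2 (.node 1 (.one ⟨6569, 1, 4⟩) (.one ⟨6130, 0, 5⟩)) (.node 1 (.one ⟨12174, 0, 5⟩) (.one ⟨15434,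 2, 6⟩))))) (.node 8 (.node 4 (.node 2 (.node 1 (.one ⟨14301, 1, 2⟩) (.one ⟨5946, 0, 5⟩)) (.node 1 (.one ⟨14304, 0, 4⟩) (.one ⟨14784, 1, 3⟩))) (.node 2 (.node 1 (.one ⟨6477, 2, 6⟩) (.one ⟨5876, 2, 6⟩)) (.node 1 (.one ⟨12121, 1, 3⟩) (.one ⟨12064, 2, 4⟩)))) (.node 4 (.node 2 (.node 1 (.one ⟨5462, 2, 4⟩) (.one ⟨4181, 1, 0⟩)) (.node 1 (.one ⟨11578, 1, 3⟩) (.one ⟨12274, 1, 4⟩))) (.node 2 (.node 1 (.one ⟨6777, 1, 5⟩) (.one ⟨8665, 2, 8⟩)) (.node 1 (.one ⟨7229, 2, 8⟩) (.one ⟨13502, 1, 5⟩)))))) (.node 16 (.node 8 (.node 4 (.node 2 (.node 1 (.one ⟨6204, 2, 8⟩) (.one ⟨7098, 1, 4⟩)) (.node 1 (.one ⟨3324, 2, 6⟩) (.one ⟨4663, 2, 5⟩))) (.node 2 (.node 1 (.one ⟨6385, 1, 5⟩) (.one ⟨14140, 1, 6⟩)) (.node 1 (.one ⟨13695, 1, 6⟩)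 (.one ⟨10220, 1, 3⟩)))) (.node 4 (.node 2 (.node 1 (.one ⟨1880, 1, 3⟩) (.one ⟨7717, 1, 3⟩)) (.node 1 (.one ⟨178, 1, 3⟩) (.one ⟨8585, 1, 7⟩))) (.node 2 (.node 1 (.one ⟨2674, 0, 6⟩) (.one ⟨15056, 1, 3⟩)) (.node 1 (.one ⟨14421, 1, 3⟩) (.one ⟨155, 1, 3⟩))))) (.node 8 (.node 4 (.node 2 (.node 1 (.one ⟨11889, 1, 7⟩) (.one ⟨4166, 1, 4⟩)) (.node 1 (.one ⟨7483, 1, 5⟩) (.one ⟨8043, 1, 6⟩))) (.node 2 (.node 1 (.one ⟨5612, 1, 5⟩) (.one ⟨9798, 2, 6⟩)) (.node 1 (.one ⟨8473, 2, 6⟩) (.one ⟨14013, 2, 6⟩)))) (.node 4 (.node 2 (.node 1 (.one ⟨5405, 2, 6⟩) (.one ⟨11084, 0, 3⟩)) (.node 1 (.one ⟨12496, 1, 6⟩) (.one ⟨567, 1, 3⟩))) (.node 2 (.node 1 (.one ⟨1636, 0, 6⟩) (.one ⟨2654, 1, 5⟩)) (.node 1 (.one ⟨12185, 2, 6⟩) (.one ⟨715,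 1, 7⟩)))))))
def par7_0_1 : Arr Par :=
  (.node 32 (.node 16 (.node 8 (.node 4 (.node 2 (.node 1 (.one ⟨3631, 2, 3⟩) (.one ⟨6465, 1, 4⟩)) (.node 1 (.one ⟨2927, 2, 5⟩) (.one ⟨9941, 1, 5⟩))) (.node 2 (.node 1 (.one ⟨2669, 1, 3⟩) (.one ⟨14360, 1, 4⟩)) (.node 1 (.one ⟨8503, 2, 2⟩) (.one ⟨2331, 1, 4⟩)))) (.node 4 (.node 2 (.node 1 (.one ⟨2665, 1, 3⟩) (.one ⟨6058, 1, 5⟩)) (.node 1 (.one ⟨5750, 1, 2⟩) (.one ⟨11160, 0, 4⟩))) (.node 2 (.node 1 (.one ⟨1336, 1, 1⟩) (.one ⟨14365, 1, 6⟩)) (.node 1 (.one ⟨602, 0, 3⟩) (.one ⟨9936, 1, 2⟩))))) (.node 8 (.node 4 (.node 2 (.node 1 (.one ⟨14407, 2, 2⟩) (.one ⟨6468, 1, 3⟩)) (.node 1 (.one ⟨11359, 2, 1⟩) (.one ⟨524, 1, 7⟩))) (.node 2 (.node 1 (.one ⟨12128, 2, 1⟩) (.one ⟨16199, 2,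 4⟩)) (.node 1 (.one ⟨13511, 2, 3⟩) (.one ⟨1010, 1, 6⟩)))) (.node 4 (.node 2 (.node 1 (.one ⟨10759, 2, 1⟩) (.one ⟨1328, 2, 1⟩)) (.node 1 (.one ⟨3327, 1, 4⟩) (.one ⟨9829, 2, 5⟩))) (.node 2 (.node 1 (.one ⟨14295, 1, 3⟩) (.one ⟨12550, 0, 6⟩)) (.node 1 (.one ⟨15994, 1, 3⟩) (.one ⟨16567, 0, 4⟩)))))) (.node 16 (.node 8 (.node 4 (.node 2 (.node 1 (.one ⟨11469, 1, 3⟩) (.one ⟨4122, 1, 0⟩)) (.node 1 (.one ⟨5447, 0, 6⟩) (.one ⟨14269, 1, 9⟩))) (.node 2 (.node 1 (.one ⟨2319, 0, 4⟩) (.one ⟨13239, 2, 3⟩)) (.node 1 (.one ⟨5140, 1, 0⟩) (.one ⟨6957, 2, 6⟩)))) (.node 4 (.node 2 (.node 1 (.one ⟨16973, 0, 3⟩) (.one ⟨2277, 1, 5⟩)) (.node 1 (.one ⟨3726, 2, 6⟩) (.one ⟨4043, 1, 5⟩))) (.node 2 (.node 1 (.one ⟨14540, 1, 5⟩) (.one ⟨11495,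 0, 8⟩)) (.node 1 (.one ⟨16921, 2, 2⟩) (.one ⟨584, 1, 5⟩))))) (.node 8 (.node 4 (.node 2 (.node 1 (.one ⟨9656, 1, 4⟩) (.one ⟨11710, 1, 5⟩)) (.node 1 (.one ⟨16542, 2, 7⟩) (.one ⟨2958, 0, 8⟩))) (.node 2 (.node 1 (.one ⟨11473, 0, 4⟩) (.one ⟨3591, 1, 10⟩)) (.node 1 (.one ⟨340, 1, 5⟩) (.one ⟨8506, 2, 3⟩)))) (.node 4 (.node 2 (.node 1 (.one ⟨3217, 1, 7⟩) (.one ⟨1441, 2, 3⟩)) (.node 1 (.one ⟨16173, 0, 4⟩) (.one ⟨2806, 0, 4⟩))) (.node 2 (.node 1 (.one ⟨11651, 2, 5⟩) (.one ⟨11208, 0, 8⟩)) (.node 1 (.one ⟨91, 0, 6⟩) (.one ⟨9454, 1, 3⟩)))))))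
def par7_0_2 : Arr Par :=
  (.node 32 (.node 16 (.node 8 (.node 4 (.node 2 (.node 1 (.one ⟨2853, 1, 7⟩) (.one ⟨4808, 0, 5⟩)) (.node 1 (.one ⟨178, 0, 3⟩) (.one ⟨5086, 0, 7⟩))) (.node 2 (.node 1 (.one ⟨3976, 1, 7⟩) (.one ⟨9218, 1, 3⟩)) (.node 1 (.one ⟨9003, 0, 5⟩) (.one ⟨14986, 0, 6⟩)))) (.node 4 (.node 2 (.node 1 (.one ⟨11851, 2, 6⟩) (.one ⟨14903, 2, 6⟩)) (.node 1 (.one ⟨8129, 0, 4⟩) (.one ⟨12219, 1, 8⟩))) (.node 2 (.node 1 (.one ⟨2622, 1, 3⟩) (.one ⟨7945, 1, 3⟩)) (.node 1 (.one ⟨751, 2, 4⟩) (.one ⟨868, 2, 8⟩))))) (.node 8 (.node 4 (.node 2 (.node 1 (.one ⟨8111, 0, 4⟩) (.one ⟨368, 2, 8⟩)) (.node 1 (.one ⟨9449, 1, 5⟩) (.one ⟨8105, 1, 3⟩))) (.node 2 (.node 1 (.one ⟨85, 1, 5⟩) (.one ⟨9816, 2, 6⟩)) (.node 1 (.one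 ⟨7600, 1, 7⟩) (.one ⟨7606, 1, 7⟩)))) (.node 4 (.node 2 (.node 1 (.one ⟨7601, 1, 7⟩) (.one ⟨5333, 0, 4⟩)) (.node 1 (.one ⟨794, 1, 2⟩) (.one ⟨8369, 2, 2⟩))) (.node 2 (.node 1 (.one ⟨16243, 0, 8⟩) (.one ⟨16852, 0, 8⟩)) (.node 1 (.one ⟨4871, 2, 4⟩) (.one ⟨8141, 2, 6⟩)))))) (.node 16 (.node 8 (.node 4 (.node 2 (.node 1 (.one ⟨15040, 0, 2⟩) (.one ⟨9658, 1, 5⟩)) (.node 1 (.one ⟨15307, 0, 8⟩) (.one ⟨7303, 1, 7⟩))) (.node 2 (.node 1 (.one ⟨9997, 0, 8⟩) (.one ⟨14726, 0, 4⟩)) (.node 1 (.one ⟨11164, 0, 7⟩) (.one ⟨7330, 1, 4⟩)))) (.node 4 (.node 2 (.node 1 (.one ⟨10904, 1, 5⟩) (.one ⟨106, 0, 7⟩)) (.node 1 (.one ⟨5592, 1, 2⟩) (.one ⟨14489, 2, 2⟩))) (.node 2 (.node 1 (.one ⟨8019, 0, 5⟩) (.one ⟨15056, 2, 3⟩)) (.node 1 (.one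 ⟨11138, 1, 6⟩) (.one ⟨11267, 2, 8⟩))))) (.node 8 (.node 4 (.node 2 (.node 1 (.one ⟨3012, 2, 3⟩) (.one ⟨8425, 1, 7⟩)) (.node 1 (.one ⟨1840, 2, 2⟩) (.one ⟨2556, 0, 8⟩))) (.node 2 (.node 1 (.one ⟨12439, 0, 6⟩) (.one ⟨12859, 1, 7⟩)) (.node 1 (.one ⟨15873, 0, 4⟩) (.one ⟨5715, 1, 3⟩)))) (.node 4 (.node 2 (.node 1 (.one ⟨9973, 0, 6⟩) (.one ⟨6938, 2, 5⟩)) (.node 1 (.one ⟨16775, 1, 7⟩) (.one ⟨13625, 2, 7⟩))) (.node 2 (.node 1 (.one ⟨4564, 2, 6⟩) (.one ⟨7301, 1, 7⟩)) (.node 1 (.one ⟨11801, 1, 7⟩) (.one ⟨10958, 1, 7⟩)))))))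
def par7_0_3 : Arr Par :=
  (.node 32 (.node 16 (.node 8 (.node 4 (.node 2 (.node 1 (.one ⟨5524, 2, 7⟩) (.one ⟨14617, 2, 3⟩)) (.node 1 (.one ⟨15412, 0, 9⟩) (.one ⟨7290, 2, 7⟩))) (.node 2 (.node 1 (.one ⟨15590, 1, 5⟩) (.one ⟨5656, 0, 9⟩)) (.node 1 (.one ⟨3906, 1, 7⟩) (.one ⟨3216, 1, 5⟩)))) (.node 4 (.node 2 (.node 1 (.one ⟨15661, 1, 5⟩) (.one ⟨4668, 1, 3⟩)) (.node 1 (.one ⟨8079, 2, 3⟩) (.one ⟨13959, 0, 5⟩))) (.node 2 (.node 1 (.one ⟨17044, 1, 6⟩) (.one ⟨11844, 2, 7⟩)) (.node 1 (.one ⟨11098, 1, 6⟩) (.one ⟨9348, 2, 3⟩))))) (.node 8 (.node 4 (.node 2 (.node 1 (.one ⟨10458, 0, 8⟩) (.one ⟨11215, 1, 3⟩)) (.node 1 (.one ⟨11578, 2, 3⟩) (.one ⟨9104, 1, 5⟩))) (.node 2 (.node 1 (.one ⟨6668, 2, 8⟩) (.one ⟨2798, 2, 8⟩))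 (.node 1 (.one ⟨7542, 1, 5⟩) (.one ⟨4400, 0, 8⟩)))) (.node 4 (.node 2 (.node 1 (.one ⟨15411, 0, 9⟩) (.one ⟨11185, 1, 6⟩)) (.node 1 (.one ⟨13352, 2, 7⟩) (.one ⟨6984, 1, 5⟩))) (.node 2 (.node 1 (.one ⟨15357, 1, 5⟩) (.one ⟨4336, 2, 7⟩)) (.node 1 (.one ⟨16522, 2, 9⟩) (.one ⟨14035, 1, 5⟩)))))) (.node 16 (.node 8 (.node 4 (.node 2 (.node 1 (.one ⟨2819, 2, 3⟩) (.one ⟨12712, 0, 7⟩)) (.node 1 (.one ⟨5413, 1, 6⟩) (.one ⟨8633, 1, 5⟩))) (.node 2 (.node 1 (.one ⟨1220, 2, 3⟩) (.one ⟨353, 1, 5⟩)) (.node 1 (.one ⟨14462, 2, 5⟩) (.one ⟨5523, 2, 4⟩)))) (.node 4 (.node 2 (.node 1 (.one ⟨5079, 1, 4⟩) (.one ⟨5084, 1, 5⟩)) (.node 1 (.one ⟨5081, 1, 4⟩) (.one ⟨5086, 1, 7⟩))) (.node 2 (.node 1 (.one ⟨9056, 0, 1⟩) (.one ⟨5236, 1, 7⟩))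 (.node 1 (.one ⟨13040, 1, 10⟩) (.one ⟨1344, 2, 2⟩))))) (.node 8 (.node 4 (.node 2 (.node 1 (.one ⟨8585, 2, 7⟩) (.one ⟨10931, 2, 7⟩)) (.node 1 (.one ⟨3397, 1, 2⟩) (.one ⟨9173, 2, 3⟩))) (.node 2 (.node 1 (.one ⟨8816, 1, 4⟩) (.one ⟨9180, 1, 3⟩)) (.node 1 (.one ⟨3816, 0, 3⟩) (.one ⟨11090, 1, 8⟩)))) (.node 4 (.node 2 (.node 1 (.one ⟨11047, 0, 8⟩) (.one ⟨8005, 2, 6⟩)) (.node 1 (.one ⟨7531, 1, 4⟩) (.one ⟨6155, 2, 3⟩))) (.node 2 (.node 1 (.one ⟨14728, 2, 2⟩) (.one ⟨6640, 0, 3⟩)) (.node 1 (.one ⟨16345, 2, 2⟩) (.one ⟨8490, 1, 7⟩)))))))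
def par7_0_4 : Arr Par :=
  (.node 32 (.node 16 (.node 8 (.node 4 (.node 2 (.node 1 (.one ⟨15109, 0, 7⟩) (.one ⟨10259, 0, 6⟩)) (.node 1 (.one ⟨14551, 1, 8⟩) (.one ⟨13287, 2, 6⟩))) (.node 2 (.node 1 (.one ⟨9446, 2, 5⟩) (.one ⟨13174, 0, 1⟩)) (.node 1 (.one ⟨1366, 2, 8⟩) (.one ⟨1156, 2, 7⟩)))) (.node 4 (.node 2 (.node 1 (.one ⟨8703, 0, 6⟩) (.one ⟨7391, 0, 4⟩)) (.node 1 (.one ⟨8375, 1, 7⟩) (.one ⟨496, 1, 6⟩))) (.node 2 (.node 1 (.one ⟨16565, 2, 6⟩) (.one ⟨7731, 2, 6⟩)) (.node 1 (.one ⟨4429, 2, 7⟩) (.one ⟨12142, 0, 3⟩))))) (.node 8 (.node 4 (.node 2 (.node 1 (.one ⟨5244, 2, 7⟩) (.one ⟨3365, 1, 7⟩)) (.node 1 (.one ⟨640, 2, 3⟩) (.one ⟨472, 2, 8⟩))) (.node 2 (.node 1 (.one ⟨411, 2, 8⟩) (.one ⟨6082, 2, 7⟩)) (.node 1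 (.one ⟨7244, 2, 6⟩) (.one ⟨4306, 1, 6⟩)))) (.node 4 (.node 2 (.node 1 (.one ⟨7994, 2, 3⟩) (.one ⟨3983, 2, 2⟩)) (.node 1 (.one ⟨3388, 0, 5⟩) (.one ⟨9962, 2, 4⟩))) (.node 2 (.node 1 (.one ⟨237, 2, 8⟩) (.one ⟨549, 2, 8⟩)) (.node 1 (.one ⟨16274, 0, 3⟩) (.one ⟨844, 2, 8⟩)))))) (.node 16 (.node 8 (.node 4 (.node 2 (.node 1 (.one ⟨3486, 0, 7⟩) (.one ⟨1327, 1, 1⟩)) (.node 1 (.one ⟨2620, 1, 6⟩) (.one ⟨12222, 1, 6⟩))) (.node 2 (.node 1 (.one ⟨8918, 1, 5⟩) (.one ⟨3011, 2, 3⟩)) (.node 1 (.one ⟨3426, 0, 7⟩) (.one ⟨9093, 1, 4⟩)))) (.node 4 (.node 2 (.node 1 (.one ⟨12711, 0, 4⟩) (.one ⟨15046, 0, 8⟩)) (.node 1 (.one ⟨5177, 2, 6⟩) (.one ⟨14962, 1, 4⟩))) (.node 2 (.node 1 (.one ⟨1019, 1, 2⟩) (.one ⟨3411, 1, 5⟩)) (.node 1 (.one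 ⟨8311, 2, 5⟩) (.one ⟨7154, 0, 5⟩))))) (.node 8 (.node 4 (.node 2 (.node 1 (.one ⟨7158, 1, 7⟩) (.one ⟨7157, 1, 6⟩)) (.node 1 (.one ⟨7153, 1, 7⟩) (.one ⟨7154, 1, 5⟩))) (.node 2 (.node 1 (.one ⟨8651, 2, 2⟩) (.one ⟨6285, 0, 8⟩)) (.node 1 (.one ⟨3984, 2, 4⟩) (.one ⟨13017, 0, 2⟩)))) (.node 4 (.node 2 (.node 1 (.one ⟨599, 0, 7⟩) (.one ⟨9181, 1, 1⟩)) (.node 1 (.one ⟨15970, 2, 9⟩) (.one ⟨15888, 1, 7⟩))) (.node 2 (.node 1 (.one ⟨460, 2, 6⟩) (.one ⟨304, 2, 8⟩)) (.node 1 (.one ⟨11753, 1, 4⟩) (.one ⟨637, 2, 4⟩)))))))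
def par7_0_5 : Arr Par :=
  (.node 32 (.node 16 (.node 8 (.node 4 (.node 2 (.node 1 (.one ⟨11191, 0, 4⟩) (.one ⟨10538, 1, 6⟩)) (.node 1 (.one ⟨6591, 0, 8⟩) (.one ⟨4005, 1, 0⟩))) (.node 2 (.node 1 (.one ⟨8087, 0, 5⟩) (.one ⟨14223, 2, 5⟩)) (.node 1 (.one ⟨15073, 1, 5⟩) (.one ⟨12431, 0, 2⟩)))) (.node 4 (.node 2 (.node 1 (.one ⟨2802, 1, 2⟩) (.one ⟨8169, 0, 1⟩)) (.node 1 (.one ⟨8021, 0, 7⟩) (.one ⟨14793, 0, 2⟩))) (.node 2 (.node 1 (.one ⟨268, 0, 7⟩) (.one ⟨15891, 2, 4⟩)) (.node 1 (.one ⟨13005, 2, 2⟩) (.one ⟨10306, 0, 4⟩))))) (.node 8 (.node 4 (.node 2 (.node 1 (.one ⟨16730, 2, 7⟩) (.one ⟨14219, 0, 6⟩)) (.node 1 (.one ⟨9137, 2, 5⟩) (.one ⟨12608, 2, 6⟩))) (.node 2 (.node 1 (.one ⟨4587, 0, 4⟩) (.one ⟨8979, 2, 5⟩))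 (.node 1 (.one ⟨1572, 2, 5⟩) (.one ⟨15081, 2, 7⟩)))) (.node 4 (.node 2 (.node 1 (.one ⟨11940, 2, 4⟩) (.one ⟨8247, 0, 4⟩)) (.node 1 (.one ⟨2896, 1, 6⟩) (.one ⟨7516, 1, 9⟩))) (.node 2 (.node 1 (.one ⟨11855, 0, 4⟩) (.one ⟨3423, 0, 4⟩)) (.node 1 (.one ⟨7562, 2, 7⟩) (.one ⟨7319, 0, 7⟩)))))) (.node 16 (.node 8 (.node 4 (.node 2 (.node 1 (.one ⟨7552, 2, 7⟩) (.one ⟨8126, 2, 4⟩)) (.node 1 (.one ⟨9453, 1, 5⟩) (.one ⟨2636, 1, 7⟩))) (.node 2 (.node 1 (.one ⟨17000, 1, 7⟩) (.one ⟨12716, 0, 2⟩)) (.node 1 (.one ⟨6024, 1, 5⟩) (.one ⟨4224, 0, 6⟩)))) (.node 4 (.node 2 (.node 1 (.one ⟨10624, 1, 7⟩) (.one ⟨9233, 2, 3⟩)) (.node 1 (.one ⟨16772, 2, 6⟩) (.one ⟨7568, 2, 7⟩))) (.node 2 (.node 1 (.one ⟨6337, 0, 8⟩) (.one ⟨7157, 0, 6⟩))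 (.node 1 (.one ⟨6079, 1, 3⟩) (.one ⟨11838, 2, 5⟩))))) (.node 8 (.node 4 (.node 2 (.node 1 (.one ⟨6080, 1, 7⟩) (.one ⟨6082, 1, 7⟩)) (.node 1 (.one ⟨15002, 2, 6⟩) (.one ⟨5784, 2, 2⟩))) (.node 2 (.node 1 (.one ⟨2649, 2, 7⟩) (.one ⟨11223, 2, 7⟩)) (.node 1 (.one ⟨9173, 1, 3⟩) (.one ⟨14558, 1, 6⟩)))) (.node 4 (.node 2 (.node 1 (.one ⟨1902, 1, 3⟩) (.one ⟨9911, 2, 4⟩)) (.node 1 (.one ⟨15026, 1, 4⟩) (.one ⟨13388, 0, 7⟩))) (.node 2 (.node 1 (.one ⟨9958, 1, 7⟩) (.one ⟨15589, 1, 4⟩)) (.node 1 (.one ⟨11441, 0, 6⟩) (.one ⟨9552, 2, 3⟩)))))))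
def par7_0_6 : Arr Par :=
  (.node 32 (.node 16 (.node 8 (.node 4 (.node 2 (.node 1 (.one ⟨14985, 2, 5⟩) (.one ⟨10110, 2, 6⟩)) (.node 1 (.one ⟨16446, 2, 8⟩) (.one ⟨2040, 0, 6⟩))) (.node 2 (.node 1 (.one ⟨14487, 1, 7⟩) (.one ⟨9156, 2, 2⟩)) (.node 1 (.one ⟨10443, 1, 7⟩) (.one ⟨13462, 2, 6⟩)))) (.node 4 (.node 2 (.node 1 (.one ⟨4116, 2, 2⟩) (.one ⟨1335, 1, 1⟩)) (.node 1 (.one ⟨3424, 0, 6⟩) (.one ⟨2553, 1, 7⟩))) (.node 2 (.node 1 (.one ⟨7779, 1, 4⟩) (.one ⟨9956, 1, 4⟩)) (.node 1 (.one ⟨15944, 1, 7⟩) (.one ⟨5445, 2, 4⟩))))) (.node 8 (.node 4 (.node 2 (.node 1 (.one ⟨521, 2, 4⟩) (.one ⟨315, 2, 8⟩)) (.node 1 (.one ⟨190, 2, 8⟩) (.one ⟨163, 2, 8⟩))) (.node 2 (.node 1 (.one ⟨1966, 1, 5⟩) (.one ⟨3986, 2, 3⟩)) (.node 1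 (.one ⟨5988, 1, 6⟩) (.one ⟨10811, 2, 6⟩)))) (.node 4 (.node 2 (.node 1 (.one ⟨1912, 1, 6⟩) (.one ⟨14741, 2, 2⟩)) (.node 1 (.one ⟨16532, 1, 4⟩) (.one ⟨9750, 1, 7⟩))) (.node 2 (.node 1 (.one ⟨8060, 1, 8⟩) (.one ⟨13140, 0, 6⟩)) (.node 1 (.one ⟨4390, 2, 3⟩) (.one ⟨7437, 2, 5⟩)))))) (.node 16 (.node 8 (.node 4 (.node 2 (.node 1 (.one ⟨3799, 2, 6⟩) (.one ⟨7287, 2, 7⟩)) (.node 1 (.one ⟨2638, 1, 8⟩) (.one ⟨13898, 1, 6⟩))) (.node 2 (.node 1 (.one ⟨9818, 1, 7⟩) (.one ⟨7960, 1, 5⟩)) (.node 1 (.one ⟨252, 0, 3⟩) (.one ⟨15367, 2, 3⟩)))) (.node 4 (.node 2 (.node 1 (.one ⟨16427, 2, 6⟩) (.one ⟨9955, 2, 4⟩)) (.node 1 (.one ⟨5525, 2, 3⟩) (.one ⟨14172, 1, 4⟩))) (.node 2 (.node 1 (.one ⟨9048, 0, 4⟩) (.one ⟨11994, 1, 3⟩)) (.node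 1 (.one ⟨1596, 0, 6⟩) (.one ⟨12218, 1, 5⟩))))) (.node 8 (.node 4 (.node 2 (.node 1 (.one ⟨16958, 2, 6⟩) (.one ⟨5808, 1, 9⟩)) (.node 1 (.one ⟨1053, 1, 5⟩) (.one ⟨14789, 1, 7⟩))) (.node 2 (.node 1 (.one ⟨1885, 1, 5⟩) (.one ⟨5803, 0, 6⟩)) (.node 1 (.one ⟨10136, 1, 10⟩) (.one ⟨6728, 2, 6⟩)))) (.node 4 (.node 2 (.node 1 (.one ⟨3817, 1, 10⟩) (.one ⟨3815, 1, 4⟩)) (.node 1 (.one ⟨3816, 1, 3⟩) (.one ⟨10801, 1, 3⟩))) (.node 2 (.node 1 (.one ⟨15586, 1, 7⟩) (.one ⟨4291, 2, 7⟩)) (.node 1 (.one ⟨16684, 2, 4⟩) (.one ⟨1169, 2, 5⟩)))))))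
def par7_0_7 : Arr Par :=
  (.node 32 (.node 16 (.node 8 (.node 4 (.node 2 (.node 1 (.one ⟨11744, 1, 8⟩) (.one ⟨5728, 1, 4⟩)) (.node 1 (.one ⟨11895, 1, 2⟩) (.one ⟨6881, 1, 4⟩))) (.node 2 (.node 1 (.one ⟨9300, 2, 6⟩) (.one ⟨5090, 0, 7⟩)) (.node 1 (.one ⟨4988, 1, 6⟩) (.one ⟨13384, 0, 7⟩)))) (.node 4 (.node 2 (.node 1 (.one ⟨13161, 0, 1⟩) (.one ⟨10893, 0, 6⟩)) (.node 1 (.one ⟨3386, 0, 4⟩) (.one ⟨1750, 1, 6⟩))) (.node 2 (.node 1 (.one ⟨3496, 1, 5⟩) (.one ⟨965, 0, 7⟩)) (.node 1 (.one ⟨15662, 2, 4⟩) (.one ⟨15537, 1, 8⟩))))) (.node 8 (.node 4 (.node 2 (.node 1 (.one ⟨12215, 1, 3⟩) (.one ⟨2426, 1, 8⟩)) (.node 1 (.one ⟨8911, 1, 7⟩) (.one ⟨1842, 2, 7⟩))) (.node 2 (.node 1 (.one ⟨8368, 2, 2⟩) (.one ⟨1598, 2, 3⟩)) (.node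 1 (.one ⟨3451, 1, 7⟩) (.one ⟨11344, 1, 4⟩)))) (.node 4 (.node 2 (.node 1 (.one ⟨9120, 1, 7⟩) (.one ⟨3606, 0, 6⟩)) (.node 1 (.one ⟨5349, 2, 3⟩) (.one ⟨10910, 1, 7⟩))) (.node 2 (.node 1 (.one ⟨7244, 1, 6⟩) (.one ⟨6537, 2, 7⟩)) (.node 1 (.one ⟨15843, 2, 6⟩) (.one ⟨7732, 2, 6⟩)))))) (.node 16 (.node 8 (.node 4 (.node 2 (.node 1 (.one ⟨7138, 0, 6⟩) (.one ⟨6343, 2, 5⟩)) (.node 1 (.one ⟨9668, 2, 3⟩) (.one ⟨14913, 1, 7⟩))) (.node 2 (.node 1 (.one ⟨11306, 1, 5⟩) (.one ⟨3045, 2, 3⟩)) (.node 1 (.one ⟨6916, 1, 7⟩) (.one ⟨7398, 2, 4⟩)))) (.node 4 (.node 2 (.node 1 (.one ⟨14247, 1, 6⟩) (.one ⟨1990, 2, 6⟩)) (.node 1 (.one ⟨8367, 2, 2⟩) (.one ⟨1539, 2, 3⟩))) (.node 2 (.node 1 (.one ⟨12029, 2, 8⟩) (.one ⟨8798, 1, 4⟩)) (.node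 1 (.one ⟨3304, 2, 8⟩) (.one ⟨15173, 1, 5⟩))))) (.node 8 (.node 4 (.node 2 (.node 1 (.one ⟨7091, 1, 5⟩) (.one ⟨8429, 2, 7⟩)) (.node 1 (.one ⟨2362, 0, 8⟩) (.one ⟨8590, 1, 8⟩))) (.node 2 (.node 1 (.one ⟨14788, 1, 3⟩) (.one ⟨708, 1, 3⟩)) (.node 1 (.one ⟨1473, 2, 2⟩) (.one ⟨2903, 0, 2⟩)))) (.node 4 (.node 2 (.node 1 (.one ⟨3808, 1, 7⟩) (.one ⟨17108, 0, 7⟩)) (.node 1 (.one ⟨76, 1, 2⟩) (.one ⟨15313, 1, 6⟩))) (.node 2 (.node 1 (.one ⟨6408, 2, 5⟩) (.one ⟨15336, 2, 4⟩)) (.node 1 (.one ⟨8504, 2, 2⟩) (.one ⟨15292, 1, 5⟩)))))))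
def par7_0_8 : Arr Par :=
  (.node 32 (.node 16 (.node 8 (.node 4 (.node 2 (.node 1 (.one ⟨12750, 2, 9⟩) (.one ⟨8513, 0, 2⟩)) (.node 1 (.one ⟨9445, 1, 3⟩) (.one ⟨2613, 2, 9⟩))) (.node 2 (.node 1 (.one ⟨3196, 0, 7⟩) (.one ⟨4607, 1, 7⟩)) (.node 1 (.one ⟨16297, 1, 5⟩) (.one ⟨15040, 2, 2⟩)))) (.node 4 (.node 2 (.node 1 (.one ⟨432, 0, 7⟩) (.one ⟨3425, 1, 3⟩)) (.node 1 (.one ⟨3423, 1, 4⟩) (.one ⟨3426, 1, 7⟩))) (.node 2 (.node 1 (.one ⟨3424, 1, 6⟩) (.one ⟨9442, 1, 2⟩)) (.node 1 (.one ⟨15802, 1, 7⟩) (.one ⟨12658, 1, 8⟩))))) (.node 8 (.node 4 (.node 2 (.node 1 (.one ⟨507, 2, 7⟩) (.one ⟨377, 1, 5⟩)) (.node 1 (.one ⟨1328, 1, 1⟩) (.one ⟨7792, 0, 4⟩))) (.node 2 (.node 1 (.one ⟨5286, 0, 5⟩) (.one ⟨887, 2, 4⟩)) (.node 1 (.one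 ⟨1069, 2, 8⟩) (.one ⟨7824, 0, 4⟩)))) (.node 4 (.node 2 (.node 1 (.one ⟨12282, 1, 5⟩) (.one ⟨13904, 2, 6⟩)) (.node 1 (.one ⟨1101, 1, 7⟩) (.one ⟨10902, 2, 4⟩))) (.node 2 (.node 1 (.one ⟨1940, 2, 7⟩) (.one ⟨8505, 2, 6⟩)) (.node 1 (.one ⟨15802, 2, 7⟩) (.one ⟨10826, 2, 7⟩)))))) (.node 16 (.node 8 (.node 4 (.node 2 (.node 1 (.one ⟨3333, 1, 3⟩) (.one ⟨12988, 1, 2⟩)) (.node 1 (.one ⟨188, 1, 7⟩) (.one ⟨10903, 1, 4⟩))) (.node 2 (.node 1 (.one ⟨12902, 1, 6⟩) (.one ⟨9643, 1, 7⟩)) (.node 1 (.one ⟨9038, 1, 4⟩) (.one ⟨4066, 2, 8⟩)))) (.node 4 (.node 2 (.node 1 (.one ⟨3330, 1, 8⟩) (.one ⟨5505, 2, 7⟩)) (.node 1 (.one ⟨2741, 2, 3⟩) (.one ⟨11100, 0, 4⟩))) (.node 2 (.node 1 (.one ⟨4402, 0, 4⟩) (.one ⟨10244, 1, 4⟩)) (.node 1 (.one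 ⟨5101, 1, 5⟩) (.one ⟨791, 0, 7⟩))))) (.node 8 (.node 4 (.node 2 (.node 1 (.one ⟨14950, 0, 4⟩) (.one ⟨7111, 2, 8⟩)) (.node 1 (.one ⟨13227, 1, 4⟩) (.one ⟨1742, 0, 5⟩))) (.node 2 (.node 1 (.one ⟨15168, 1, 6⟩) (.one ⟨9179, 1, 6⟩)) (.node 1 (.one ⟨5081, 0, 4⟩) (.one ⟨7988, 2, 2⟩)))) (.node 4 (.node 2 (.node 1 (.one ⟨17106, 2, 6⟩) (.one ⟨7418, 1, 7⟩)) (.node 1 (.one ⟨14033, 1, 7⟩) (.one ⟨2602, 2, 6⟩))) (.node 2 (.node 1 (.one ⟨7848, 2, 3⟩) (.one ⟨789, 1, 2⟩)) (.node 1 (.one ⟨8441, 0, 7⟩) (.one ⟨13700, 1, 5⟩)))))))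
def par7_0_9 : Arr Par :=
  (.node 32 (.node 16 (.node 8 (.node 4 (.node 2 (.node 1 (.one ⟨14135, 1, 4⟩) (.one ⟨12264, 2, 4⟩)) (.node 1 (.one ⟨16863, 2, 6⟩) (.one ⟨16391, 2, 1⟩))) (.node 2 (.node 1 (.one ⟨6386, 1, 4⟩) (.one ⟨10311, 2, 3⟩)) (.node 1 (.one ⟨305, 1, 7⟩) (.one ⟨13044, 0, 4⟩)))) (.node 4 (.node 2 (.node 1 (.one ⟨15199, 2, 4⟩) (.one ⟨14363, 1, 5⟩)) (.node 1 (.one ⟨13415, 2, 3⟩) (.one ⟨9893, 1, 3⟩))) (.node 2 (.node 1 (.one ⟨2668, 1, 2⟩) (.one ⟨2328, 1, 3⟩)) (.node 1 (.one ⟨14599, 2, 1⟩) (.one ⟨9890, 1, 3⟩))))) (.node 8 (.node 4 (.node 2 (.node 1 (.one ⟨3007, 2, 2⟩) (.one ⟨9892, 1, 2⟩)) (.node 1 (.one ⟨5747, 1, 4⟩) (.one ⟨6056, 1, 2⟩))) (.node 2 (.node 1 (.one ⟨12311, 1, 3⟩) (.one ⟨8865, 2, 2⟩)) (.node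 1 (.one ⟨5960, 2, 2⟩) (.one ⟨2305, 2, 6⟩)))) (.node 4 (.node 2 (.node 1 (.one ⟨2329, 1, 4⟩) (.one ⟨9887, 1, 3⟩)) (.node 1 (.one ⟨7023, 2, 2⟩) (.one ⟨14362, 1, 3⟩))) (.node 2 (.node 1 (.one ⟨10560, 1, 4⟩) (.one ⟨939, 1, 2⟩)) (.node 1 (.one ⟨14138, 1, 2⟩) (.one ⟨6387, 1, 2⟩)))))) (.node 16 (.node 8 (.node 4 (.node 2 (.node 1 (.one ⟨10564, 1, 5⟩) (.one ⟨10471, 1, 3⟩)) (.node 1 (.one ⟨2142, 1, 7⟩) (.one ⟨3567, 2, 6⟩))) (.node 2 (.node 1 (.one ⟨16345, 1, 2⟩) (.one ⟨255, 2, 8⟩)) (.node 1 (.one ⟨653, 2, 8⟩) (.one ⟨826, 2, 8⟩)))) (.node 4 (.node 2 (.node 1 (.one ⟨10992, 1, 7⟩) (.one ⟨9661, 1, 5⟩)) (.node 1 (.one ⟨7953, 1, 4⟩) (.one ⟨15301, 0, 3⟩))) (.node 2 (.node 1 (.one ⟨14105, 1, 7⟩) (.one ⟨14859, 1, 7⟩)) (.node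 1 (.one ⟨2480, 1, 8⟩) (.one ⟨14514, 0, 4⟩))))) (.node 8 (.node 4 (.node 2 (.node 1 (.one ⟨8588, 1, 6⟩) (.one ⟨1047, 1, 3⟩)) (.node 1 (.one ⟨8379, 1, 7⟩) (.one ⟨16708, 2, 2⟩))) (.node 2 (.node 1 (.one ⟨4172, 2, 7⟩) (.one ⟨11699, 1, 3⟩)) (.node 1 (.one ⟨7572, 2, 3⟩) (.one ⟨9610, 1, 1⟩)))) (.node 4 (.node 2 (.node 1 (.one ⟨897, 1, 5⟩) (.one ⟨1183, 1, 1⟩)) (.node 1 (.one ⟨1880, 2, 3⟩) (.one ⟨11465, 0, 1⟩))) (.node 2 (.node 1 (.one ⟨8742, 0, 8⟩) (.one ⟨7977, 1, 3⟩)) (.node 1 (.one ⟨555, 1, 5⟩) (.one ⟨3743, 0, 4⟩)))))))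
def par7_0_10 : Arr Par :=
  (.node 32 (.node 16 (.node 8 (.node 4 (.node 2 (.node 1 (.one ⟨17059, 1, 2⟩) (.one ⟨13928, 1, 3⟩)) (.node 1 (.one ⟨2864, 0, 7⟩) (.one ⟨7571, 2, 3⟩))) (.node 2 (.node 1 (.one ⟨15536, 1, 7⟩) (.one ⟨10785, 0, 7⟩)) (.node 1 (.one ⟨15231, 1, 3⟩) (.one ⟨14012, 1, 3⟩)))) (.node 4 (.node 2 (.node 1 (.one ⟨9576, 0, 3⟩) (.one ⟨5716, 1, 6⟩)) (.node 1 (.one ⟨2705, 1, 6⟩) (.one ⟨6486, 1, 7⟩))) (.node 2 (.node 1 (.one ⟨6482, 1, 5⟩) (.one ⟨6483, 1, 7⟩)) (.node 1 (.one ⟨6479, 1, 6⟩) (.one ⟨15391, 0, 4⟩))))) (.node 8 (.node 4 (.node 2 (.node 1 (.one ⟨3918, 1, 0⟩) (.one ⟨16816, 2, 7⟩)) (.node 1 (.one ⟨8800, 2, 4⟩) (.one ⟨14567, 1, 6⟩))) (.node 2 (.node 1 (.one ⟨3970, 1, 0⟩) (.one ⟨3815, 0, 4⟩)) (.node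 1 (.one ⟨3647, 0, 4⟩) (.one ⟨3305, 0, 9⟩)))) (.node 4 (.node 2 (.node 1 (.one ⟨17053, 2, 5⟩) (.one ⟨3988, 2, 2⟩)) (.node 1 (.one ⟨1715, 1, 6⟩) (.one ⟨3969, 2, 5⟩))) (.node 2 (.node 1 (.one ⟨8822, 1, 2⟩) (.one ⟨5353, 2, 7⟩)) (.node 1 (.one ⟨3391, 1, 3⟩) (.one ⟨566, 0, 5⟩)))))) (.node 16 (.node 8 (.node 4 (.node 2 (.node 1 (.one ⟨6661, 1, 7⟩) (.one ⟨703, 2, 4⟩)) (.node 1 (.one ⟨856, 2, 4⟩) (.one ⟨177, 2, 8⟩))) (.node 2 (.node 1 (.one ⟨388, 2, 8⟩) (.one ⟨9586, 2, 3⟩)) (.node 1 (.one ⟨1436, 1, 6⟩) (.one ⟨5239, 2, 3⟩)))) (.node 4 (.node 2 (.node 1 (.one ⟨1900, 1, 4⟩) (.one ⟨12700, 1, 3⟩)) (.node 1 (.one ⟨8815, 1, 8⟩) (.one ⟨14557, 1, 2⟩))) (.node 2 (.node 1 (.one ⟨8516, 2, 7⟩) (.one ⟨7745, 2, 7⟩)) (.node 1 (.one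 ⟨11607, 0, 4⟩) (.one ⟨8167, 0, 4⟩))))) (.node 8 (.node 4 (.node 2 (.node 1 (.one ⟨15856, 2, 4⟩) (.one ⟨11485, 1, 9⟩)) (.node 1 (.one ⟨6773, 1, 4⟩) (.one ⟨3247, 0, 4⟩))) (.node 2 (.node 1 (.one ⟨5816, 2, 7⟩) (.one ⟨15173, 2, 5⟩)) (.node 1 (.one ⟨4555, 2, 5⟩) (.one ⟨404, 1, 6⟩)))) (.node 4 (.node 2 (.node 1 (.one ⟨1667, 0, 6⟩) (.one ⟨10049, 2, 5⟩)) (.node 1 (.one ⟨1205, 2, 6⟩) (.one ⟨12096, 0, 4⟩))) (.node 2 (.node 1 (.one ⟨6541, 0, 2⟩) (.one ⟨9285, 2, 3⟩)) (.node 1 (.one ⟨6377, 1, 5⟩) (.one ⟨12834, 1, 3⟩)))))))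
def par7_0_11 : Arr Par :=
  (.node 32 (.node 16 (.node 8 (.node 4 (.node 2 (.node 1 (.one ⟨10637, 1, 7⟩) (.one ⟨11951, 2, 8⟩)) (.node 1 (.one ⟨123, 1, 5⟩) (.one ⟨830, 0, 4⟩))) (.node 2 (.node 1 (.one ⟨15816, 0, 2⟩) (.one ⟨8739, 1, 8⟩)) (.node 1 (.one ⟨13650, 2, 2⟩) (.one ⟨13934, 1, 6⟩)))) (.node 4 (.node 2 (.node 1 (.one ⟨13017, 2, 2⟩) (.one ⟨4225, 1, 7⟩)) (.node 1 (.one ⟨4226, 1, 7⟩) (.one ⟨4224, 1, 6⟩))) (.node 2 (.node 1 (.one ⟨4223, 1, 7⟩) (.one ⟨15986, 2, 5⟩)) (.node 1 (.one ⟨2698, 2, 5⟩) (.one ⟨16448, 2, 5⟩))))) (.node 8 (.node 4 (.node 2 (.node 1 (.one ⟨7790, 1, 6⟩) (.one ⟨4196, 2, 6⟩)) (.node 1 (.one ⟨15930, 1, 6⟩) (.one ⟨1137, 2, 5⟩))) (.node 2 (.node 1 (.one ⟨7601, 2, 7⟩) (.one ⟨10940, 1, 7⟩)) (.node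 1 (.one ⟨8896, 0, 8⟩) (.one ⟨11869, 0, 4⟩)))) (.node 4 (.node 2 (.node 1 (.one ⟨837, 0, 4⟩) (.one ⟨14784, 2, 3⟩)) (.node 1 (.one ⟨12513, 0, 4⟩) (.one ⟨13930, 1, 5⟩))) (.node 2 (.node 1 (.one ⟨2244, 1, 7⟩) (.one ⟨3964, 0, 7⟩)) (.node 1 (.one ⟨16643, 0, 6⟩) (.one ⟨7534, 1, 5⟩)))))) (.node 16 (.node 8 (.node 4 (.node 2 (.node 1 (.one ⟨3008, 2, 2⟩) (.one ⟨3584, 2, 3⟩)) (.node 1 (.one ⟨6925, 1, 3⟩) (.one ⟨10952, 1, 7⟩))) (.node 2 (.node 1 (.one ⟨8516, 1, 7⟩) (.one ⟨13118, 2, 5⟩)) (.node 1 (.one ⟨8511, 1, 4⟩) (.one ⟨8513, 1, 2⟩)))) (.node 4 (.node 2 (.node 1 (.one ⟨8693, 1, 1⟩) (.one ⟨15662, 1, 4⟩)) (.node 1 (.one ⟨7532, 1, 5⟩) (.one ⟨13847, 1, 4⟩))) (.node 2 (.node 1 (.one ⟨15792, 1, 2⟩) (.one ⟨2166, 1, 7⟩)) (.node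 1 (.one ⟨13336, 0, 4⟩) (.one ⟨13631, 1, 3⟩))))) (.node 8 (.node 4 (.node 2 (.node 1 (.one ⟨10763, 1, 6⟩) (.one ⟨14971, 1, 2⟩)) (.node 1 (.one ⟨12789, 0, 8⟩) (.one ⟨3412, 1, 4⟩))) (.node 2 (.node 1 (.one ⟨4660, 1, 2⟩) (.one ⟨6808, 0, 5⟩)) (.node 1 (.one ⟨16572, 1, 6⟩) (.one ⟨2780, 1, 6⟩)))) (.node 4 (.node 2 (.node 1 (.one ⟨5457, 1, 3⟩) (.one ⟨15178, 1, 3⟩)) (.node 1 (.one ⟨5511, 1, 7⟩) (.one ⟨17173, 0, 6⟩))) (.node 2 (.node 1 (.one ⟨4600, 2, 8⟩) (.one ⟨8334, 2, 5⟩)) (.node 1 (.one ⟨11889, 2, 7⟩) (.one ⟨3380, 1, 5⟩)))))))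
def par7_0_12 : Arr Par :=
  (.node 32 (.node 16 (.node 8 (.node 4 (.node 2 (.node 1 (.one ⟨1844, 2, 3⟩) (.one ⟨155, 0, 3⟩)) (.node 1 (.one ⟨5842, 2, 8⟩) (.one ⟨700, 1, 3⟩))) (.node 2 (.node 1 (.one ⟨11893, 1, 5⟩) (.one ⟨4085, 1, 0⟩)) (.node 1 (.one ⟨13346, 1, 4⟩) (.one ⟨9601, 1, 1⟩)))) (.node 4 (.node 2 (.node 1 (.one ⟨16016, 2, 2⟩) (.one ⟨5520, 2, 5⟩)) (.node 1 (.one ⟨1729, 2, 7⟩) (.one ⟨15176, 2, 7⟩))) (.node 2 (.node 1 (.one ⟨14800, 0, 5⟩) (.one ⟨6656, 1, 5⟩)) (.node 1 (.one ⟨2782, 2, 8⟩) (.one ⟨7911, 1, 8⟩))))) (.node 8 (.node 4 (.node 2 (.node 1 (.one ⟨6810, 1, 2⟩) (.one ⟨16708, 1, 2⟩)) (.node 1 (.one ⟨15408, 0, 4⟩) (.one ⟨1008, 2, 8⟩))) (.node 2 (.node 1 (.one ⟨6252, 1, 9⟩) (.one ⟨1196, 1, 1⟩)) (.node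 1 (.one ⟨12782, 2, 2⟩) (.one ⟨17155, 2, 6⟩)))) (.node 4 (.node 2 (.node 1 (.one ⟨6995, 2, 7⟩) (.one ⟨3365, 2, 7⟩)) (.node 1 (.one ⟨1428, 1, 1⟩) (.one ⟨2866, 1, 7⟩))) (.node 2 (.node 1 (.one ⟨2870, 1, 3⟩) (.one ⟨2864, 1, 7⟩)) (.node 1 (.one ⟨2273, 0, 5⟩) (.one ⟨446, 0, 5⟩)))))) (.node 16 (.node 8 (.node 4 (.node 2 (.node 1 (.one ⟨16432, 0, 6⟩) (.one ⟨11653, 1, 7⟩)) (.node 1 (.one ⟨2735, 2, 7⟩) (.one ⟨14568, 0, 5⟩))) (.node 2 (.node 1 (.one ⟨8377, 2, 7⟩) (.one ⟨9656, 2, 4⟩)) (.node 1 (.one ⟨4807, 2, 7⟩) (.one ⟨4612, 2, 6⟩)))) (.node 4 (.node 2 (.node 1 (.one ⟨6313, 1, 7⟩) (.one ⟨11163, 2, 8⟩)) (.node 1 (.one ⟨14649, 1, 2⟩) (.one ⟨2736, 2, 3⟩))) (.node 2 (.node 1 (.one ⟨13396, 1, 2⟩) (.one ⟨15384, 2, 7⟩)) (.node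 1 (.one ⟨8685, 1, 5⟩) (.one ⟨6988, 1, 7⟩))))) (.node 8 (.node 4 (.node 2 (.node 1 (.one ⟨259, 1, 7⟩) (.one ⟨13501, 1, 5⟩)) (.node 1 (.one ⟨744, 2, 2⟩) (.one ⟨862, 2, 3⟩))) (.node 2 (.node 1 (.one ⟨16298, 2, 4⟩) (.one ⟨5084, 0, 5⟩)) (.node 1 (.one ⟨5114, 0, 5⟩) (.one ⟨3414, 1, 6⟩)))) (.node 4 (.node 2 (.node 1 (.one ⟨4816, 1, 8⟩) (.one ⟨14896, 1, 6⟩)) (.node 1 (.one ⟨12663, 1, 7⟩) (.one ⟨13405, 2, 5⟩))) (.node 2 (.node 1 (.one ⟨8041, 1, 4⟩) (.one ⟨12985, 1, 4⟩)) (.node 1 (.one ⟨5488, 2, 3⟩) (.one ⟨11415, 1, 7⟩)))))))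
def par7_0_13 : Arr Par :=
  (.node 32 (.node 16 (.node 8 (.node 4 (.node 2 (.node 1 (.one ⟨11542, 1, 6⟩) (.one ⟨11991, 1, 7⟩)) (.node 1 (.one ⟨8912, 1, 6⟩) (.one ⟨17103, 0, 4⟩))) (.node 2 (.node 1 (.one ⟨12810, 2, 5⟩) (.one ⟨13469, 2, 3⟩)) (.node 1 (.one ⟨9031, 1, 4⟩) (.one ⟨9049, 0, 4⟩)))) (.node 4 (.node 2 (.node 1 (.one ⟨10042, 2, 7⟩) (.one ⟨12805, 1, 4⟩)) (.node 1 (.one ⟨10102, 0, 6⟩) (.one ⟨15619, 2, 7⟩))) (.node 2 (.node 1 (.one ⟨13428, 1, 7⟩) (.one ⟨3379, 1, 4⟩)) (.node 1 (.one ⟨13339, 0, 4⟩) (.one ⟨11858, 2, 7⟩))))) (.node 8 (.node 4 (.node 2 (.node 1 (.one ⟨1188, 1, 1⟩) (.one ⟨443, 2, 4⟩)) (.node 1 (.one ⟨132, 2, 8⟩) (.one ⟨983, 2, 2⟩))) (.node 2 (.node 1 (.one ⟨795, 2, 8⟩) (.one ⟨9331, 1, 1⟩)) (.node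 1 (.one ⟨14808, 2, 2⟩) (.one ⟨2458, 1, 7⟩)))) (.node 4 (.node 2 (.node 1 (.one ⟨2457, 1, 3⟩) (.one ⟨2456, 1, 3⟩)) (.node 1 (.one ⟨2455, 1, 7⟩) (.one ⟨16895, 1, 4⟩))) (.node 2 (.node 1 (.one ⟨16640, 0, 4⟩) (.one ⟨12716, 2, 2⟩)) (.node 1 (.one ⟨4579, 1, 2⟩) (.one ⟨4475, 2, 5⟩)))))) (.node 16 (.node 8 (.node 4 (.node 2 (.node 1 (.one ⟨13185, 2, 7⟩) (.one ⟨11148, 2, 6⟩)) (.node 1 (.one ⟨4686, 0, 6⟩) (.one ⟨1817, 1, 2⟩))) (.node 2 (.node 1 (.one ⟨10185, 1, 7⟩) (.one ⟨6318, 1, 5⟩)) (.node 1 (.one ⟨567, 0, 3⟩) (.one ⟨2431, 0, 5⟩)))) (.node 4 (.node 2 (.node 1 (.one ⟨12498, 1, 8⟩) (.one ⟨1183, 2, 1⟩)) (.node 1 (.one ⟨11440, 0, 4⟩) (.one ⟨15238, 0, 3⟩))) (.node 2 (.node 1 (.one ⟨2854, 2, 9⟩) (.one ⟨4164, 2, 3⟩)) (.node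 1 (.one ⟨14174, 1, 6⟩) (.one ⟨8362, 1, 4⟩))))) (.node 8 (.node 4 (.node 2 (.node 1 (.one ⟨4810, 0, 3⟩) (.one ⟨7630, 2, 6⟩)) (.node 1 (.one ⟨15682, 2, 7⟩) (.one ⟨12223, 2, 6⟩))) (.node 2 (.node 1 (.one ⟨2217, 2, 7⟩) (.one ⟨6418, 2, 6⟩)) (.node 1 (.one ⟨1431, 1, 1⟩) (.one ⟨3187, 1, 3⟩)))) (.node 4 (.node 2 (.node 1 (.one ⟨3391, 2, 3⟩) (.one ⟨5911, 0, 4⟩)) (.node 1 (.one ⟨2063, 0, 8⟩) (.one ⟨3881, 1, 0⟩))) (.node 2 (.node 1 (.one ⟨13600, 2, 4⟩) (.one ⟨6065, 1, 6⟩)) (.node 1 (.one ⟨13745, 1, 4⟩) (.one ⟨8511, 0, 4⟩)))))))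
def par7_0_14 : Arr Par :=
  (.node 32 (.node 16 (.node 8 (.node 4 (.node 2 (.node 1 (.one ⟨1963, 1, 4⟩) (.one ⟨8130, 0, 4⟩)) (.node 1 (.one ⟨14841, 0, 6⟩) (.one ⟨1392, 2, 3⟩))) (.node 2 (.node 1 (.one ⟨8453, 0, 5⟩) (.one ⟨9957, 1, 4⟩)) (.node 1 (.one ⟨8507, 2, 2⟩) (.one ⟨6246, 1, 6⟩)))) (.node 4 (.node 2 (.node 1 (.one ⟨2097, 0, 3⟩) (.one ⟨14390, 1, 6⟩)) (.node 1 (.one ⟨14020, 2, 6⟩) (.one ⟨3460, 2, 3⟩))) (.node 2 (.node 1 (.one ⟨2456, 0, 3⟩) (.one ⟨1062, 2, 8⟩)) (.node 1 (.one ⟨13135, 0, 4⟩) (.one ⟨198, 2, 8⟩))))) (.node 8 (.node 4 (.node 2 (.node 1 (.one ⟨156, 2, 9⟩) (.one ⟨4809, 0, 6⟩)) (.node 1 (.one ⟨9614, 1, 2⟩) (.one ⟨13087, 0, 4⟩))) (.node 2 (.node 1 (.one ⟨5079, 0, 4⟩) (.one ⟨2364, 1, 4⟩)) (.node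 1 (.one ⟨9111, 0, 4⟩) (.one ⟨11786, 2, 7⟩)))) (.node 4 (.node 2 (.node 1 (.one ⟨15204, 1, 4⟩) (.one ⟨9215, 0, 4⟩)) (.node 1 (.one ⟨2511, 0, 4⟩) (.one ⟨2345, 1, 7⟩))) (.node 2 (.node 1 (.one ⟨122, 1, 5⟩) (.one ⟨9955, 1, 4⟩)) (.node 1 (.one ⟨5371, 0, 6⟩) (.one ⟨15519, 2, 7⟩)))))) (.node 16 (.node 8 (.node 4 (.node 2 (.node 1 (.one ⟨9183, 2, 6⟩) (.one ⟨15493, 1, 5⟩)) (.node 1 (.one ⟨7359, 1, 2⟩) (.one ⟨1090, 1, 7⟩))) (.node 2 (.node 1 (.one ⟨12113, 1, 8⟩) (.one ⟨10213, 1, 4⟩)) (.node 1 (.one ⟨2747, 2, 6⟩) (.one ⟨1956, 1, 8⟩)))) (.node 4 (.node 2 (.node 1 (.one ⟨8168, 1, 7⟩) (.one ⟨8170, 1, 6⟩)) (.node 1 (.one ⟨8167, 1, 4⟩) (.one ⟨8169, 1, 1⟩))) (.node 2 (.node 1 (.one ⟨14513, 2, 6⟩) (.one ⟨4942, 2, 7⟩)) (.node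 1 (.one ⟨6173, 1, 5⟩) (.one ⟨8120, 1, 6⟩))))) (.node 8 (.node 4 (.node 2 (.node 1 (.one ⟨10160, 2, 6⟩) (.one ⟨14374, 0, 4⟩)) (.node 1 (.one ⟨3210, 2, 6⟩) (.one ⟨10781, 1, 2⟩))) (.node 2 (.node 1 (.one ⟨1846, 2, 6⟩) (.one ⟨14171, 1, 4⟩)) (.node 1 (.one ⟨10623, 0, 4⟩) (.one ⟨6446, 0, 6⟩)))) (.node 4 (.node 2 (.node 1 (.one ⟨4758, 1, 4⟩) (.one ⟨1825, 0, 5⟩)) (.node 1 (.one ⟨7534, 2, 5⟩) (.one ⟨14711, 2, 6⟩))) (.node 2 (.node 1 (.one ⟨2719, 1, 6⟩) (.one ⟨1461, 2, 3⟩)) (.node 1 (.one ⟨1888, 2, 7⟩) (.one ⟨11945, 0, 4⟩)))))))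
def par7_0_15 : Arr Par :=
  (.node 32 (.node 16 (.node 8 (.node 4 (.node 2 (.node 1 (.one ⟨7896, 0, 8⟩) (.one ⟨2763, 2, 7⟩)) (.node 1 (.one ⟨14542, 1, 8⟩) (.one ⟨5066, 0, 4⟩))) (.node 2 (.node 1 (.one ⟨11890, 1, 6⟩) (.one ⟨9713, 2, 6⟩)) (.node 1 (.one ⟨10367, 2, 6⟩) (.one ⟨93, 1, 7⟩)))) (.node 4 (.node 2 (.node 1 (.one ⟨7727, 2, 7⟩) (.one ⟨5386, 1, 2⟩)) (.node 1 (.one ⟨10995, 1, 2⟩) (.one ⟨7271, 0, 6⟩))) (.node 2 (.node 1 (.one ⟨15742, 0, 6⟩) (.one ⟨12196, 0, 6⟩)) (.node 1 (.one ⟨13555, 2, 9⟩) (.one ⟨15022, 0, 5⟩))))) (.node 8 (.node 4 (.node 2 (.node 1 (.one ⟨8537, 2, 6⟩) (.one ⟨5313, 1, 4⟩)) (.node 1 (.one ⟨14668, 1, 5⟩) (.one ⟨2509, 0, 7⟩))) (.node 2 (.node 1 (.one ⟨4730, 2, 5⟩) (.one ⟨10935, 1, 8⟩)) (.node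 1 (.one ⟨4899, 0, 6⟩) (.one ⟨12551, 1, 1⟩)))) (.node 4 (.node 2 (.node 1 (.one ⟨15741, 0, 8⟩) (.one ⟨6290, 2, 6⟩)) (.node 1 (.one ⟨3080, 2, 3⟩) (.one ⟨7607, 2, 7⟩))) (.node 2 (.node 1 (.one ⟨2164, 1, 5⟩) (.one ⟨16591, 0, 4⟩)) (.node 1 (.one ⟨3204, 0, 6⟩) (.one ⟨6415, 2, 7⟩)))))) (.node 16 (.node 8 (.node 4 (.node 2 (.node 1 (.one ⟨3535, 1, 9⟩) (.one ⟨5200, 2, 9⟩)) (.node 1 (.one ⟨11998, 1, 7⟩) (.one ⟨2427, 1, 3⟩))) (.node 2 (.node 1 (.one ⟨8917, 1, 8⟩) (.one ⟨7241, 1, 8⟩)) (.node 1 (.one ⟨7395, 1, 5⟩) (.one ⟨16599, 1, 6⟩)))) (.node 4 (.node 2 (.node 1 (.one ⟨503, 1, 3⟩) (.one ⟨7941, 2, 8⟩)) (.node 1 (.one ⟨8583, 1, 7⟩) (.one ⟨13746, 0, 8⟩))) (.node 2 (.node 1 (.one ⟨1237, 2, 2⟩) (.one ⟨8557, 2, 2⟩)) (.node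 1 (.one ⟨16226, 0, 1⟩) (.one ⟨7825, 2, 3⟩))))) (.node 8 (.node 4 (.node 2 (.node 1 (.one ⟨4734, 1, 7⟩) (.one ⟨4810, 1, 3⟩)) (.node 1 (.one ⟨4808, 1, 5⟩) (.one ⟨4809, 1, 6⟩))) (.node 2 (.node 1 (.one ⟨4807, 1, 7⟩) (.one ⟨1963, 2, 4⟩)) (.node 1 (.one ⟨14579, 1, 5⟩) (.one ⟨6803, 2, 3⟩)))) (.node 4 (.node 2 (.node 1 (.one ⟨9336, 1, 5⟩) (.one ⟨8170, 0, 6⟩)) (.node 1 (.one ⟨1191, 1, 1⟩) (.one ⟨9602, 1, 1⟩))) (.node 2 (.node 1 (.one ⟨12993, 2, 7⟩) (.one ⟨13256, 2, 5⟩)) (.node 1 (.one ⟨7746, 1, 3⟩) (.one ⟨3340, 0, 4⟩)))))))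
def par7_0 : Arr Par :=
  (.node 512 (.node 256 (.node 128 (.node 64 par7_0_0 par7_0_1) (.node 64 par7_0_2 par7_0_3)) (.node 128 (.node 64 par7_0_4 par7_0_5) (.node 64 par7_0_6 par7_0_7))) (.node 256 (.node 128 (.node 64 par7_0_8 par7_0_9) (.node 64 par7_0_10 par7_0_11)) (.node 128 (.node 64 par7_0_12 par7_0_13) (.node 64 par7_0_14 par7_0_15))))
def par7_1_0 : Arr Par :=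
  (.node 32 (.node 16 (.node 8 (.node 4 (.node 2 (.node 1 (.one ⟨9606, 2, 5⟩) (.one ⟨15432, 0, 1⟩)) (.node 1 (.one ⟨10596, 0, 4⟩) (.one ⟨15640, 1, 6⟩))) (.node 2 (.node 1 (.one ⟨2649, 1, 7⟩) (.one ⟨621, 2, 8⟩)) (.node 1 (.one ⟨486, 2, 8⟩) (.one ⟨128, 2, 8⟩)))) (.node 4 (.node 2 (.node 1 (.one ⟨15108, 0, 4⟩) (.one ⟨15120, 1, 6⟩)) (.node 1 (.one ⟨4682, 1, 7⟩) (.one ⟨11348, 1, 4⟩))) (.node 2 (.node 1 (.one ⟨9066, 1, 6⟩) (.one ⟨1722, 2, 7⟩)) (.node 1 (.one ⟨1901, 1, 2⟩) (.one ⟨4116, 1, 0⟩))))) (.node 8 (.node 4 (.node 2 (.node 1 (.one ⟨7873, 0, 6⟩) (.one ⟨6683, 1, 7⟩)) (.node 1 (.one ⟨2870, 0, 3⟩) (.one ⟨1427, 1, 1⟩))) (.node 2 (.node 1 (.one ⟨11317, 1, 7⟩) (.one ⟨11444, 0, 6⟩)) (.node 1 (.one ⟨9339, 1, 1⟩) (.one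 ⟨16728, 0, 2⟩)))) (.node 4 (.node 2 (.node 1 (.one ⟨9605, 1, 1⟩) (.one ⟨4697, 2, 6⟩)) (.node 1 (.one ⟨16255, 2, 7⟩) (.one ⟨5586, 2, 2⟩))) (.node 2 (.node 1 (.one ⟨11434, 2, 7⟩) (.one ⟨7317, 0, 4⟩)) (.node 1 (.one ⟨6311, 1, 7⟩) (.one ⟨10638, 1, 7⟩)))))) (.node 16 (.node 8 (.node 4 (.node 2 (.node 1 (.one ⟨14368, 0, 9⟩) (.one ⟨15491, 1, 5⟩)) (.node 1 (.one ⟨4223, 0, 7⟩) (.one ⟨6746, 1, 3⟩))) (.node 2 (.node 1 (.one ⟨11696, 0, 5⟩) (.one ⟨6743, 1, 6⟩)) (.node 1 (.one ⟨6744, 1, 7⟩) (.one ⟨9335, 1, 6⟩)))) (.node 4 (.node 2 (.node 1 (.one ⟨7967, 2, 2⟩) (.one ⟨3990, 2, 5⟩)) (.node 1 (.one ⟨12853, 1, 4⟩) (.one ⟨7110, 2, 6⟩))) (.node 2 (.node 1 (.one ⟨2932, 0, 8⟩) (.one ⟨15926, 1, 7⟩)) (.node 1 (.one ⟨14027, 2, 7⟩) (.one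 ⟨3951, 0, 2⟩))))) (.node 8 (.node 4 (.node 2 (.node 1 (.one ⟨13419, 2, 5⟩) (.one ⟨10072, 1, 6⟩)) (.node 1 (.one ⟨15556, 2, 7⟩) (.one ⟨357, 2, 3⟩))) (.node 2 (.node 1 (.one ⟨8762, 1, 5⟩) (.one ⟨7672, 2, 5⟩)) (.node 1 (.one ⟨1103, 2, 4⟩) (.one ⟨8309, 0, 2⟩)))) (.node 4 (.node 2 (.node 1 (.one ⟨15419, 2, 6⟩) (.one ⟨13601, 1, 5⟩)) (.node 1 (.one ⟨4580, 2, 7⟩) (.one ⟨8324, 0, 7⟩))) (.node 2 (.node 1 (.one ⟨16419, 0, 4⟩) (.one ⟨16665, 1, 8⟩)) (.node 1 (.one ⟨12760, 1, 4⟩) (.one ⟨1727, 0, 4⟩)))))))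
def par7_1_1 : Arr Par :=
  (.node 32 (.node 16 (.node 8 (.node 4 (.node 2 (.node 1 (.one ⟨6626, 0, 5⟩) (.one ⟨1462, 2, 6⟩)) (.node 1 (.one ⟨4788, 0, 6⟩) (.one ⟨69, 2, 5⟩))) (.node 2 (.node 1 (.one ⟨2899, 0, 6⟩) (.one ⟨13989, 1, 3⟩)) (.node 1 (.one ⟨8641, 0, 5⟩) (.one ⟨16840, 2, 8⟩)))) (.node 4 (.node 2 (.node 1 (.one ⟨14399, 1, 5⟩) (.one ⟨2551, 1, 3⟩)) (.node 1 (.one ⟨11357, 2, 8⟩) (.one ⟨1727, 1, 4⟩))) (.node 2 (.node 1 (.one ⟨16213, 2, 6⟩) (.one ⟨11732, 0, 6⟩)) (.node 1 (.one ⟨14071, 1, 5⟩) (.one ⟨7572, 0, 3⟩))))) (.node 8 (.node 4 (.node 2 (.node 1 (.one ⟨11438, 2, 7⟩) (.one ⟨3186, 0, 4⟩)) (.node 1 (.one ⟨654, 1, 7⟩) (.one ⟨2327, 1, 4⟩))) (.node 2 (.node 1 (.one ⟨7806, 2, 5⟩) (.one ⟨16865, 2, 5⟩)) (.node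 1 (.one ⟨235, 1, 8⟩) (.one ⟨14139, 1, 8⟩)))) (.node 4 (.node 2 (.node 1 (.one ⟨17006, 2, 2⟩) (.one ⟨15647, 0, 4⟩)) (.node 1 (.one ⟨16263, 2, 1⟩) (.one ⟨11242, 2, 5⟩))) (.node 2 (.node 1 (.one ⟨1750, 2, 6⟩) (.one ⟨7592, 0, 2⟩)) (.node 1 (.one ⟨743, 1, 3⟩) (.one ⟨14600, 2, 4⟩)))))) (.node 16 (.node 8 (.node 4 (.node 2 (.node 1 (.one ⟨5682, 2, 2⟩) (.one ⟨2997, 0, 5⟩)) (.node 1 (.one ⟨10783, 2, 3⟩) (.one ⟨7, 2, 5⟩))) (.node 2 (.node 1 (.one ⟨10760, 2, 1⟩) (.one ⟨9837, 1, 4⟩)) (.node 1 (.one ⟨3059, 0, 5⟩) (.one ⟨6128, 2, 2⟩)))) (.node 4 (.node 2 (.node 1 (.one ⟨14304, 2, 4⟩) (.one ⟨6730, 0, 5⟩)) (.node 1 (.one ⟨8032, 1, 6⟩) (.one ⟨10463, 2, 1⟩))) (.node 2 (.node 1 (.one ⟨1904, 2, 5⟩) (.one ⟨15936, 1, 6⟩)) (.node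 1 (.one ⟨14559, 2, 5⟩) (.one ⟨2966, 2, 5⟩))))) (.node 8 (.node 4 (.node 2 (.node 1 (.one ⟨8401, 2, 5⟩) (.one ⟨9758, 0, 4⟩)) (.node 1 (.one ⟨4077, 1, 5⟩) (.one ⟨456, 2, 2⟩))) (.node 2 (.node 1 (.one ⟨13464, 1, 7⟩) (.one ⟨4668, 2, 3⟩)) (.node 1 (.one ⟨16534, 1, 5⟩) (.one ⟨2550, 1, 5⟩)))) (.node 4 (.node 2 (.node 1 (.one ⟨5955, 0, 4⟩) (.one ⟨5671, 1, 8⟩)) (.node 1 (.one ⟨6370, 2, 5⟩) (.one ⟨3182, 1, 6⟩))) (.node 2 (.node 1 (.one ⟨15948, 2, 5⟩) (.one ⟨12735, 2, 5⟩)) (.node 1 (.one ⟨14915, 2, 3⟩) (.one ⟨15024, 0, 8⟩)))))))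
def par7_1_2 : Arr Par :=
  (.node 32 (.node 16 (.node 8 (.node 4 (.node 2 (.node 1 (.one ⟨8583, 2, 7⟩) (.one ⟨503, 2, 3⟩)) (.node 1 (.one ⟨1895, 0, 8⟩) (.one ⟨10864, 2, 7⟩))) (.node 2 (.node 1 (.one ⟨16467, 0, 6⟩) (.one ⟨11122, 1, 4⟩)) (.node 1 (.one ⟨5760, 1, 7⟩) (.one ⟨11601, 0, 9⟩)))) (.node 4 (.node 2 (.node 1 (.one ⟨4839, 2, 5⟩) (.one ⟨11554, 1, 4⟩)) (.node 1 (.one ⟨2129, 1, 7⟩) (.one ⟨11217, 1, 8⟩))) (.node 2 (.node 1 (.one ⟨8418, 0, 5⟩) (.one ⟨10656, 1, 4⟩)) (.node 1 (.one ⟨6969, 0, 8⟩) (.one ⟨3772, 1, 3⟩))))) (.node 8 (.node 4 (.node 2 (.node 1 (.one ⟨3994, 1, 0⟩) (.one ⟨3143, 0, 4⟩)) (.node 1 (.one ⟨15674, 1, 7⟩) (.one ⟨8711, 1, 6⟩))) (.node 2 (.node 1 (.one ⟨15566, 0, 3⟩) (.one ⟨1092, 2, 7⟩)) (.node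 1 (.one ⟨4665, 2, 7⟩) (.one ⟨7492, 0, 4⟩)))) (.node 4 (.node 2 (.node 1 (.one ⟨15568, 0, 9⟩) (.one ⟨10487, 1, 6⟩)) (.node 1 (.one ⟨4026, 1, 0⟩) (.one ⟨15950, 2, 7⟩))) (.node 2 (.node 1 (.one ⟨14811, 1, 4⟩) (.one ⟨2888, 1, 3⟩)) (.node 1 (.one ⟨15930, 2, 6⟩) (.one ⟨4135, 1, 0⟩)))))) (.node 16 (.node 8 (.node 4 (.node 2 (.node 1 (.one ⟨6069, 2, 6⟩) (.one ⟨13198, 0, 3⟩)) (.node 1 (.one ⟨5146, 0, 6⟩) (.one ⟨8464, 1, 3⟩))) (.node 2 (.node 1 (.one ⟨4165, 1, 0⟩) (.one ⟨12243, 2, 3⟩)) (.node 1 (.one ⟨5165, 0, 9⟩) (.one ⟨3962, 1, 0⟩)))) (.node 4 (.node 2 (.node 1 (.one ⟨6503, 1, 6⟩) (.one ⟨6169, 2, 3⟩)) (.node 1 (.one ⟨16121, 1, 6⟩) (.one ⟨13740, 1, 9⟩))) (.node 2 (.node 1 (.one ⟨3889, 1, 0⟩) (.one ⟨9122, 0, 3⟩)) (.node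 1 (.one ⟨3806, 1, 3⟩) (.one ⟨1551, 0, 3⟩))))) (.node 8 (.node 4 (.node 2 (.node 1 (.one ⟨5943, 1, 6⟩) (.one ⟨16826, 1, 3⟩)) (.node 1 (.one ⟨13474, 1, 3⟩) (.one ⟨17094, 2, 5⟩))) (.node 2 (.node 1 (.one ⟨2118, 2, 2⟩) (.one ⟨16748, 1, 5⟩)) (.node 1 (.one ⟨2100, 2, 6⟩) (.one ⟨66, 0, 6⟩)))) (.node 4 (.node 2 (.node 1 (.one ⟨8891, 1, 3⟩) (.one ⟨8446, 2, 3⟩)) (.node 1 (.one ⟨1566, 0, 3⟩) (.one ⟨4702, 1, 5⟩))) (.node 2 (.node 1 (.one ⟨1967, 2, 4⟩) (.one ⟨10578, 2, 3⟩)) (.node 1 (.one ⟨8633, 2, 5⟩) (.one ⟨12554, 2, 1⟩)))))))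
def par7_1_3 : Arr Par :=
  (.node 32 (.node 16 (.node 8 (.node 4 (.node 2 (.node 1 (.one ⟨822, 2, 6⟩) (.one ⟨1329, 2, 4⟩)) (.node 1 (.one ⟨12590, 2, 3⟩) (.one ⟨3877, 1, 0⟩))) (.node 2 (.node 1 (.one ⟨13969, 0, 2⟩) (.one ⟨15763, 1, 6⟩)) (.node 1 (.one ⟨7876, 1, 5⟩) (.one ⟨6792, 2, 3⟩)))) (.node 4 (.node 2 (.node 1 (.one ⟨17188, 2, 3⟩) (.one ⟨2107, 0, 2⟩)) (.node 1 (.one ⟨3910, 1, 0⟩) (.one ⟨12560, 1, 7⟩))) (.node 2 (.node 1 (.one ⟨3737, 2, 3⟩) (.one ⟨9870, 1, 3⟩)) (.node 1 (.one ⟨2219, 1, 6⟩) (.one ⟨160, 2, 3⟩))))) (.node 8 (.node 4 (.node 2 (.node 1 (.one ⟨4856, 1, 8⟩) (.one ⟨15969, 1, 8⟩)) (.node 1 (.one ⟨11310, 2, 5⟩) (.one ⟨15564, 2, 8⟩))) (.node 2 (.node 1 (.one ⟨16177, 0, 2⟩) (.one ⟨12484, 0, 1⟩)) (.node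 1 (.one ⟨6004, 2, 5⟩) (.one ⟨2918, 2, 5⟩)))) (.node 4 (.node 2 (.node 1 (.one ⟨11250, 1, 8⟩) (.one ⟨4453, 0, 4⟩)) (.node 1 (.one ⟨2003, 2, 8⟩) (.one ⟨14346, 2, 5⟩))) (.node 2 (.node 1 (.one ⟨14777, 1, 7⟩) (.one ⟨14499, 1, 5⟩)) (.node 1 (.one ⟨4410, 0, 5⟩) (.one ⟨11294, 0, 9⟩)))))) (.node 16 (.node 8 (.node 4 (.node 2 (.node 1 (.one ⟨5013, 2, 5⟩) (.one ⟨4045, 1, 0⟩)) (.node 1 (.one ⟨1876, 2, 5⟩) (.one ⟨14424, 1, 4⟩))) (.node 2 (.node 1 (.one ⟨11273, 0, 3⟩) (.one ⟨10158, 1, 6⟩)) (.node 1 (.one ⟨4670, 2, 7⟩) (.one ⟨5486, 2, 5⟩)))) (.node 4 (.node 2 (.node 1 (.one ⟨4088, 1, 3⟩) (.one ⟨2733, 2, 5⟩)) (.node 1 (.one ⟨3965, 1, 0⟩) (.one ⟨9161, 2, 5⟩))) (.node 2 (.node 1 (.one ⟨14896, 2, 6⟩) (.one ⟨12056, 1, 3⟩)) (.node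 1 (.one ⟨15928, 2, 7⟩) (.one ⟨3673, 2, 7⟩))))) (.node 8 (.node 4 (.node 2 (.node 1 (.one ⟨1394, 2, 6⟩) (.one ⟨5903, 0, 2⟩)) (.node 1 (.one ⟨15566, 2, 3⟩) (.one ⟨8352, 1, 5⟩))) (.node 2 (.node 1 (.one ⟨15714, 1, 3⟩) (.one ⟨14127, 1, 6⟩)) (.node 1 (.one ⟨6393, 1, 9⟩) (.one ⟨10280, 0, 2⟩)))) (.node 4 (.node 2 (.node 1 (.one ⟨11517, 2, 3⟩) (.one ⟨16340, 2, 3⟩)) (.node 1 (.one ⟨14334, 2, 7⟩) (.one ⟨5852, 2, 3⟩))) (.node 2 (.node 1 (.one ⟨4533, 1, 3⟩) (.one ⟨2923, 2, 3⟩)) (.node 1 (.one ⟨6873, 1, 4⟩) (.one ⟨15591, 1, 6⟩)))))))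
def par7_1_4 : Arr Par :=
  (.node 32 (.node 16 (.node 8 (.node 4 (.node 2 (.node 1 (.one ⟨6992, 1, 9⟩) (.one ⟨12133, 2, 6⟩)) (.node 1 (.one ⟨10519, 1, 5⟩) (.one ⟨2876, 1, 5⟩))) (.node 2 (.node 1 (.one ⟨11459, 1, 6⟩) (.one ⟨2992, 2, 5⟩)) (.node 1 (.one ⟨13408, 2, 3⟩) (.one ⟨2434, 1, 6⟩)))) (.node 4 (.node 2 (.node 1 (.one ⟨9577, 1, 9⟩) (.one ⟨13188, 0, 2⟩)) (.node 1 (.one ⟨11212, 2, 3⟩) (.one ⟨13805, 1, 5⟩))) (.node 2 (.node 1 (.one ⟨6198, 1, 9⟩) (.one ⟨3865, 1, 0⟩)) (.node 1 (.one ⟨3696, 2, 5⟩) (.one ⟨16320, 2, 1⟩))))) (.node 8 (.node 4 (.node 2 (.node 1 (.one ⟨5015, 1, 0⟩) (.one ⟨9176, 2, 2⟩)) (.node 1 (.one ⟨13053, 2, 5⟩) (.one ⟨1608, 2, 3⟩))) (.node 2 (.node 1 (.one ⟨1731, 1, 3⟩) (.one ⟨15240, 1, 4⟩)) (.node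 1 (.one ⟨7134, 2, 3⟩) (.one ⟨14770, 2, 5⟩)))) (.node 4 (.node 2 (.node 1 (.one ⟨2946, 1, 8⟩) (.one ⟨5261, 1, 0⟩)) (.node 1 (.one ⟨14624, 0, 5⟩) (.one ⟨11123, 1, 6⟩))) (.node 2 (.node 1 (.one ⟨14897, 1, 3⟩) (.one ⟨6574, 0, 2⟩)) (.node 1 (.one ⟨16397, 2, 4⟩) (.one ⟨2141, 1, 4⟩)))))) (.node 16 (.node 8 (.node 4 (.node 2 (.node 1 (.one ⟨14318, 2, 1⟩) (.one ⟨796, 1, 4⟩)) (.node 1 (.one ⟨9210, 2, 6⟩) (.one ⟨11642, 2, 6⟩))) (.node 2 (.node 1 (.one ⟨4541, 2, 6⟩) (.one ⟨11895, 0, 2⟩)) (.node 1 (.one ⟨8787, 2, 7⟩) (.one ⟨7845, 0, 2⟩)))) (.node 4 (.node 2 (.node 1 (.one ⟨14366, 1, 4⟩) (.one ⟨15670, 2, 6⟩)) (.node 1 (.one ⟨742, 1, 5⟩) (.one ⟨1011, 1, 7⟩))) (.node 2 (.node 1 (.one ⟨13898, 2, 6⟩) (.one ⟨3142, 2, 7⟩)) (.node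 1 (.one ⟨15501, 2, 4⟩) (.one ⟨3997, 1, 0⟩))))) (.node 8 (.node 4 (.node 2 (.node 1 (.one ⟨4050, 1, 0⟩) (.one ⟨10378, 0, 3⟩)) (.node 1 (.one ⟨7307, 1, 6⟩) (.one ⟨10370, 1, 8⟩))) (.node 2 (.node 1 (.one ⟨2582, 1, 3⟩) (.one ⟨10406, 0, 6⟩)) (.node 1 (.one ⟨14167, 2, 5⟩) (.one ⟨4102, 1, 0⟩)))) (.node 4 (.node 2 (.node 1 (.one ⟨4179, 1, 0⟩) (.one ⟨14592, 0, 3⟩)) (.node 1 (.one ⟨7256, 2, 4⟩) (.one ⟨5109, 1, 3⟩))) (.node 2 (.node 1 (.one ⟨8497, 2, 8⟩) (.one ⟨12117, 1, 3⟩)) (.node 1 (.one ⟨8193, 2, 3⟩) (.one ⟨11749, 2, 5⟩)))))))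
def par7_1_5 : Arr Par :=
  (.node 32 (.node 16 (.node 8 (.node 4 (.node 2 (.node 1 (.one ⟨16321, 0, 1⟩) (.one ⟨13207, 1, 4⟩)) (.node 1 (.one ⟨14101, 2, 5⟩) (.one ⟨3928, 0, 4⟩))) (.node 2 (.node 1 (.one ⟨12955, 1, 5⟩) (.one ⟨3894, 0, 2⟩)) (.node 1 (.one ⟨8972, 1, 7⟩) (.one ⟨8298, 2, 5⟩)))) (.node 4 (.node 2 (.node 1 (.one ⟨6304, 1, 7⟩) (.one ⟨4014, 2, 4⟩)) (.node 1 (.one ⟨9226, 1, 8⟩) (.one ⟨6025, 1, 4⟩))) (.node 2 (.node 1 (.one ⟨8281, 0, 2⟩) (.one ⟨16318, 0, 7⟩)) (.node 1 (.one ⟨8240, 0, 4⟩) (.one ⟨9370, 2, 4⟩))))) (.node 8 (.node 4 (.node 2 (.node 1 (.one ⟨4140, 2, 3⟩) (.one ⟨16967, 2, 4⟩)) (.node 1 (.one ⟨3994, 1, 7⟩) (.one ⟨2104, 1, 4⟩))) (.node 2 (.node 1 (.one ⟨1204, 0, 3⟩) (.one ⟨7814, 1, 3⟩)) (.node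 1 (.one ⟨4457, 1, 7⟩) (.one ⟨16532, 2, 4⟩)))) (.node 4 (.node 2 (.node 1 (.one ⟨7401, 2, 3⟩) (.one ⟨12135, 2, 4⟩)) (.node 1 (.one ⟨749, 2, 8⟩) (.one ⟨1209, 0, 4⟩))) (.node 2 (.node 1 (.one ⟨1213, 0, 4⟩) (.one ⟨86, 0, 4⟩)) (.node 1 (.one ⟨15700, 1, 3⟩) (.one ⟨9680, 1, 5⟩)))))) (.node 16 (.node 8 (.node 4 (.node 2 (.node 1 (.one ⟨14403, 1, 5⟩) (.one ⟨13589, 0, 4⟩)) (.node 1 (.one ⟨10698, 2, 5⟩) (.one ⟨10343, 1, 7⟩))) (.node 2 (.node 1 (.one ⟨13988, 1, 8⟩) (.one ⟨5534, 0, 4⟩)) (.node 1 (.one ⟨5509, 0, 2⟩) (.one ⟨11976, 2, 5⟩)))) (.node 4 (.node 2 (.node 1 (.one ⟨14491, 1, 4⟩) (.one ⟨11117, 1, 5⟩)) (.node 1 (.one ⟨15626, 1, 5⟩) (.one ⟨950, 2, 5⟩))) (.node 2 (.node 1 (.one ⟨17008, 0, 4⟩) (.one ⟨11558, 1, 7⟩)) (.node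 1 (.one ⟨15017, 1, 5⟩) (.one ⟨13565, 0, 2⟩))))) (.node 8 (.node 4 (.node 2 (.node 1 (.one ⟨5549, 0, 2⟩) (.one ⟨13574, 0, 5⟩)) (.node 1 (.one ⟨5520, 0, 5⟩) (.one ⟨716, 1, 8⟩))) (.node 2 (.node 1 (.one ⟨24, 1, 5⟩) (.one ⟨5155, 2, 5⟩)) (.node 1 (.one ⟨13592, 0, 8⟩) (.one ⟨16867, 2, 8⟩)))) (.node 4 (.node 2 (.node 1 (.one ⟨232, 1, 5⟩) (.one ⟨13697, 1, 5⟩)) (.node 1 (.one ⟨8931, 2, 5⟩) (.one ⟨17060, 0, 2⟩))) (.node 2 (.node 1 (.one ⟨8949, 0, 2⟩) (.one ⟨17053, 0, 5⟩)) (.node 1 (.one ⟨13698, 1, 8⟩) (.one ⟨16762, 1, 7⟩)))))))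
def par7_1_6 : Arr Par :=
  (.node 32 (.node 16 (.node 8 (.node 4 (.node 2 (.node 1 (.one ⟨8830, 2, 5⟩) (.one ⟨1798, 1, 8⟩)) (.node 1 (.one ⟨9705, 0, 2⟩) (.one ⟨4672, 1, 8⟩))) (.node 2 (.node 1 (.one ⟨9593, 2, 6⟩) (.one ⟨14043, 1, 5⟩)) (.node 1 (.one ⟨1597, 0, 4⟩) (.one ⟨14098, 0, 4⟩)))) (.node 4 (.node 2 (.node 1 (.one ⟨7668, 2, 8⟩) (.one ⟨5882, 1, 3⟩)) (.node 1 (.one ⟨12677, 2, 5⟩) (.one ⟨6021, 0, 2⟩))) (.node 2 (.node 1 (.one ⟨11273, 2, 3⟩) (.one ⟨4004, 2, 5⟩)) (.node 1 (.one ⟨6298, 2, 5⟩) (.one ⟨13016, 1, 5⟩))))) (.node 8 (.node 4 (.node 2 (.node 1 (.one ⟨6769, 2, 8⟩) (.one ⟨10556, 1, 8⟩)) (.node 1 (.one ⟨9404, 2, 5⟩) (.one ⟨4100, 1, 0⟩))) (.node 2 (.node 1 (.one ⟨4120, 1, 0⟩) (.one ⟨14159, 2, 3⟩)) (.node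 1 (.one ⟨12651, 0, 6⟩) (.one ⟨3887, 1, 0⟩)))) (.node 4 (.node 2 (.node 1 (.one ⟨6268, 1, 3⟩) (.one ⟨13525, 1, 8⟩)) (.node 1 (.one ⟨14204, 2, 3⟩) (.one ⟨14090, 1, 8⟩))) (.node 2 (.node 1 (.one ⟨15203, 2, 5⟩) (.one ⟨9660, 2, 5⟩)) (.node 1 (.one ⟨4890, 1, 5⟩) (.one ⟨3059, 1, 5⟩)))))) (.node 16 (.node 8 (.node 4 (.node 2 (.node 1 (.one ⟨15135, 1, 5⟩) (.one ⟨13799, 0, 2⟩)) (.node 1 (.one ⟨4531, 2, 5⟩) (.one ⟨6833, 1, 4⟩))) (.node 2 (.node 1 (.one ⟨11012, 1, 9⟩) (.one ⟨5773, 0, 2⟩)) (.node 1 (.one ⟨5704, 0, 4⟩) (.one ⟨1658, 1, 8⟩)))) (.node 4 (.node 2 (.node 1 (.one ⟨13678, 1, 8⟩) (.one ⟨2078, 0, 5⟩)) (.node 1 (.one ⟨2997, 2, 5⟩) (.one ⟨5838, 1, 4⟩))) (.node 2 (.node 1 (.one ⟨9794, 1, 5⟩) (.one ⟨2929, 2, 1⟩)) (.node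 1 (.one ⟨10126, 0, 4⟩) (.one ⟨13772, 0, 5⟩))))) (.node 8 (.node 4 (.node 2 (.node 1 (.one ⟨15422, 2, 8⟩) (.one ⟨8782, 2, 5⟩)) (.node 1 (.one ⟨5323, 2, 5⟩) (.one ⟨6235, 1, 8⟩))) (.node 2 (.node 1 (.one ⟨5805, 0, 2⟩) (.one ⟨5699, 0, 2⟩)) (.node 1 (.one ⟨11425, 1, 5⟩) (.one ⟨10094, 0, 5⟩)))) (.node 4 (.node 2 (.node 1 (.one ⟨8809, 1, 5⟩) (.one ⟨7898, 1, 8⟩)) (.node 1 (.one ⟨10118, 0, 2⟩) (.one ⟨8264, 2, 5⟩))) (.node 2 (.node 1 (.one ⟨13506, 1, 8⟩) (.one ⟨3981, 2, 5⟩)) (.node 1 (.one ⟨5942, 2, 8⟩) (.one ⟨4565, 1, 7⟩)))))))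
def par7_1_7 : Arr Par :=
  (.node 32 (.node 16 (.node 8 (.node 4 (.node 2 (.node 1 (.one ⟨8211, 0, 4⟩) (.one ⟨12554, 0, 1⟩)) (.node 1 (.one ⟨11720, 2, 5⟩) (.one ⟨13252, 2, 3⟩))) (.node 2 (.node 1 (.one ⟨11516, 2, 3⟩) (.one ⟨14945, 1, 8⟩)) (.node 1 (.one ⟨7249, 1, 4⟩) (.one ⟨311, 2, 3⟩)))) (.node 4 (.node 2 (.node 1 (.one ⟨3634, 2, 3⟩) (.one ⟨2524, 2, 4⟩)) (.node 1 (.one ⟨3974, 2, 5⟩) (.one ⟨12589, 0, 7⟩))) (.node 2 (.node 1 (.one ⟨4511, 0, 4⟩) (.one ⟨12613, 2, 3⟩)) (.node 1 (.one ⟨3704, 1, 7⟩) (.one ⟨3178, 0, 5⟩))))) (.node 8 (.node 4 (.node 2 (.node 1 (.one ⟨11212, 0, 3⟩) (.one ⟨10466, 2, 6⟩)) (.node 1 (.one ⟨5553, 2, 5⟩) (.one ⟨10188, 2, 5⟩))) (.node 2 (.node 1 (.one ⟨5374, 1, 6⟩) (.one ⟨6129, 2, 3⟩)) (.node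 1 (.one ⟨10599, 2, 4⟩) (.one ⟨7484, 0, 3⟩)))) (.node 4 (.node 2 (.node 1 (.one ⟨14646, 1, 6⟩) (.one ⟨17, 2, 6⟩)) (.node 1 (.one ⟨14409, 2, 1⟩) (.one ⟨6468, 2, 3⟩))) (.node 2 (.node 1 (.one ⟨7500, 0, 5⟩) (.one ⟨14601, 2, 3⟩)) (.node 1 (.one ⟨2105, 2, 2⟩) (.one ⟨16390, 2, 2⟩)))))) (.node 16 (.node 8 (.node 4 (.node 2 (.node 1 (.one ⟨3581, 0, 4⟩) (.one ⟨7217, 2, 7⟩)) (.node 1 (.one ⟨13075, 0, 6⟩) (.one ⟨2829, 0, 4⟩))) (.node 2 (.node 1 (.one ⟨4380, 2, 4⟩) (.one ⟨10029, 0, 4⟩)) (.node 1 (.one ⟨7080, 0, 5⟩) (.one ⟨12232, 2, 7⟩)))) (.node 4 (.node 2 (.node 1 (.one ⟨2647, 2, 4⟩) (.one ⟨1893, 2, 3⟩)) (.node 1 (.one ⟨15815, 1, 6⟩) (.one ⟨12546, 1, 7⟩))) (.node 2 (.node 1 (.one ⟨5159, 1, 8⟩) (.one ⟨15098, 0, 4⟩)) (.node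 1 (.one ⟨12007, 2, 7⟩) (.one ⟨10601, 2, 3⟩))))) (.node 8 (.node 4 (.node 2 (.node 1 (.one ⟨14305, 2, 5⟩) (.one ⟨12825, 1, 4⟩)) (.node 1 (.one ⟨10698, 0, 5⟩) (.one ⟨1906, 2, 4⟩))) (.node 2 (.node 1 (.one ⟨5554, 2, 2⟩) (.one ⟨5293, 1, 4⟩)) (.node 1 (.one ⟨2283, 2, 5⟩) (.one ⟨14602, 2, 2⟩)))) (.node 4 (.node 2 (.node 1 (.one ⟨10314, 2, 6⟩) (.one ⟨2668, 2, 2⟩)) (.node 1 (.one ⟨14430, 0, 5⟩) (.one ⟨5946, 2, 5⟩))) (.node 2 (.node 1 (.one ⟨25, 2, 1⟩) (.one ⟨6346, 0, 5⟩)) (.node 1 (.one ⟨7476, 1, 4⟩) (.one ⟨14412, 0, 2⟩)))))))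
def par7_1_8 : Arr Par :=
  (.node 32 (.node 16 (.node 8 (.node 4 (.node 2 (.node 1 (.one ⟨6366, 0, 5⟩) (.one ⟨3343, 2, 3⟩)) (.node 1 (.one ⟨6370, 0, 5⟩) (.one ⟨9862, 1, 2⟩))) (.node 2 (.node 1 (.one ⟨4012, 1, 0⟩) (.one ⟨13835, 2, 3⟩)) (.node 1 (.one ⟨16860, 1, 2⟩) (.one ⟨12741, 1, 5⟩)))) (.node 4 (.node 2 (.node 1 (.one ⟨16149, 2, 3⟩) (.one ⟨1941, 1, 5⟩)) (.node 1 (.one ⟨3988, 1, 0⟩) (.one ⟨11798, 2, 2⟩))) (.node 2 (.node 1 (.one ⟨16678, 1, 6⟩) (.one ⟨10722, 0, 2⟩)) (.node 1 (.one ⟨5570, 1, 3⟩) (.one ⟨9480, 2, 2⟩))))) (.node 8 (.node 4 (.node 2 (.node 1 (.one ⟨1360, 0, 4⟩) (.one ⟨1584, 2, 6⟩)) (.node 1 (.one ⟨14749, 1, 5⟩) (.one ⟨5680, 1, 5⟩))) (.node 2 (.node 1 (.one ⟨10244, 2, 4⟩) (.one ⟨11405, 1, 7⟩)) (.node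 1 (.one ⟨84, 0, 2⟩) (.one ⟨3048, 1, 5⟩)))) (.node 4 (.node 2 (.node 1 (.one ⟨3487, 1, 7⟩) (.one ⟨7394, 2, 5⟩)) (.node 1 (.one ⟨2453, 2, 5⟩) (.one ⟨6952, 1, 5⟩))) (.node 2 (.node 1 (.one ⟨7027, 2, 8⟩) (.one ⟨1368, 0, 4⟩)) (.node 1 (.one ⟨7588, 2, 2⟩) (.one ⟨15770, 0, 3⟩)))))) (.node 16 (.node 8 (.node 4 (.node 2 (.node 1 (.one ⟨8886, 2, 2⟩) (.one ⟨3182, 2, 6⟩)) (.node 1 (.one ⟨13538, 2, 6⟩) (.one ⟨14427, 2, 4⟩))) (.node 2 (.node 1 (.one ⟨11814, 0, 4⟩) (.one ⟨5867, 1, 6⟩)) (.node 1 (.one ⟨11268, 1, 8⟩) (.one ⟨16158, 1, 8⟩)))) (.node 4 (.node 2 (.node 1 (.one ⟨13632, 2, 5⟩) (.one ⟨16647, 1, 7⟩)) (.node 1 (.one ⟨7837, 1, 4⟩) (.one ⟨13113, 1, 6⟩))) (.node 2 (.node 1 (.one ⟨4417, 1, 8⟩) (.one ⟨12095, 1, 6⟩)) (.node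 1 (.one ⟨14195, 0, 4⟩) (.one ⟨16715, 1, 8⟩))))) (.node 8 (.node 4 (.node 2 (.node 1 (.one ⟨10179, 1, 5⟩) (.one ⟨17021, 2, 5⟩)) (.node 1 (.one ⟨9389, 2, 7⟩) (.one ⟨8949, 2, 2⟩))) (.node 2 (.node 1 (.one ⟨1373, 2, 5⟩) (.one ⟨17060, 2, 2⟩)) (.node 1 (.one ⟨9310, 2, 6⟩) (.one ⟨16115, 1, 5⟩)))) (.node 4 (.node 2 (.node 1 (.one ⟨13350, 1, 5⟩) (.one ⟨6079, 2, 3⟩)) (.node 1 (.one ⟨11273, 1, 3⟩) (.one ⟨3661, 1, 7⟩))) (.node 2 (.node 1 (.one ⟨15913, 2, 5⟩) (.one ⟨1225, 0, 3⟩)) (.node 1 (.one ⟨4414, 0, 2⟩) (.one ⟨9921, 2, 9⟩)))))))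
def par7_1_9 : Arr Par :=
  (.node 32 (.node 16 (.node 8 (.node 4 (.node 2 (.node 1 (.one ⟨13895, 2, 9⟩) (.one ⟨6152, 2, 2⟩)) (.node 1 (.one ⟨394, 2, 7⟩) (.one ⟨13697, 2, 5⟩))) (.node 2 (.node 1 (.one ⟨10045, 2, 2⟩) (.one ⟨1728, 2, 6⟩)) (.node 1 (.one ⟨5961, 2, 4⟩) (.one ⟨8360, 1, 4⟩)))) (.node 4 (.node 2 (.node 1 (.one ⟨17006, 0, 2⟩) (.one ⟨6140, 0, 5⟩)) (.node 1 (.one ⟨9415, 2, 8⟩) (.one ⟨9024, 0, 7⟩))) (.node 2 (.node 1 (.one ⟨1217, 0, 5⟩) (.one ⟨171, 1, 3⟩)) (.node 1 (.one ⟨14070, 1, 5⟩) (.one ⟨2032, 1, 4⟩))))) (.node 8 (.node 4 (.node 2 (.node 1 (.one ⟨9399, 0, 5⟩) (.one ⟨14395, 2, 5⟩)) (.node 1 (.one ⟨13160, 1, 9⟩) (.one ⟨3355, 1, 4⟩))) (.node 2 (.node 1 (.one ⟨5861, 2, 5⟩) (.one ⟨3621, 0, 4⟩)) (.node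 1 (.one ⟨11805, 0, 4⟩) (.one ⟨4462, 2, 4⟩)))) (.node 4 (.node 2 (.node 1 (.one ⟨9565, 1, 4⟩) (.one ⟨14516, 2, 6⟩)) (.node 1 (.one ⟨13581, 1, 5⟩) (.one ⟨2841, 1, 8⟩))) (.node 2 (.node 1 (.one ⟨13113, 2, 6⟩) (.one ⟨1272, 0, 4⟩)) (.node 1 (.one ⟨12132, 1, 6⟩) (.one ⟨552, 2, 9⟩)))))) (.node 16 (.node 8 (.node 4 (.node 2 (.node 1 (.one ⟨8639, 2, 5⟩) (.one ⟨5963, 2, 5⟩)) (.node 1 (.one ⟨4877, 2, 7⟩) (.one ⟨7414, 1, 7⟩))) (.node 2 (.node 1 (.one ⟨16453, 2, 5⟩) (.one ⟨9396, 0, 8⟩)) (.node 1 (.one ⟨13060, 2, 7⟩) (.one ⟨11029, 1, 8⟩)))) (.node 4 (.node 2 (.node 1 (.one ⟨705, 0, 9⟩) (.one ⟨10265, 1, 4⟩)) (.node 1 (.one ⟨16625, 2, 8⟩) (.one ⟨13791, 0, 4⟩))) (.node 2 (.node 1 (.one ⟨1273, 0, 4⟩) (.one ⟨5189, 1, 4⟩)) (.node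 1 (.one ⟨9742, 2, 7⟩) (.one ⟨2032, 0, 4⟩))))) (.node 8 (.node 4 (.node 2 (.node 1 (.one ⟨9398, 0, 8⟩) (.one ⟨656, 1, 1⟩)) (.node 1 (.one ⟨7932, 2, 7⟩) (.one ⟨5476, 1, 6⟩))) (.node 2 (.node 1 (.one ⟨10209, 1, 4⟩) (.one ⟨5461, 1, 2⟩)) (.node 1 (.one ⟨15481, 2, 3⟩) (.one ⟨15550, 2, 5⟩)))) (.node 4 (.node 2 (.node 1 (.one ⟨12741, 2, 5⟩) (.one ⟨13831, 0, 4⟩)) (.node 1 (.one ⟨6678, 1, 7⟩) (.one ⟨3605, 0, 4⟩))) (.node 2 (.node 1 (.one ⟨14917, 0, 3⟩) (.one ⟨12003, 2, 9⟩)) (.node 1 (.one ⟨14118, 2, 9⟩) (.one ⟨1983, 1, 5⟩)))))))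
def par7_1_10 : Arr Par :=
  (.node 32 (.node 16 (.node 8 (.node 4 (.node 2 (.node 1 (.one ⟨15302, 2, 5⟩) (.one ⟨12283, 1, 9⟩)) (.node 1 (.one ⟨4339, 1, 7⟩) (.one ⟨5895, 2, 5⟩))) (.node 2 (.node 1 (.one ⟨5176, 0, 5⟩) (.one ⟨16458, 1, 5⟩)) (.node 1 (.one ⟨11693, 0, 9⟩) (.one ⟨15111, 1, 6⟩)))) (.node 4 (.node 2 (.node 1 (.one ⟨8238, 2, 2⟩) (.one ⟨13563, 2, 7⟩)) (.node 1 (.one ⟨1275, 0, 4⟩) (.one ⟨12572, 1, 4⟩))) (.node 2 (.node 1 (.one ⟨10677, 2, 6⟩) (.one ⟨2793, 1, 7⟩)) (.node 1 (.one ⟨762, 2, 8⟩) (.one ⟨11482, 2, 5⟩))))) (.node 8 (.node 4 (.node 2 (.node 1 (.one ⟨7919, 1, 5⟩) (.one ⟨13694, 1, 3⟩)) (.node 1 (.one ⟨11740, 1, 3⟩) (.one ⟨2542, 2, 8⟩))) (.node 2 (.node 1 (.one ⟨4718, 1, 2⟩) (.one ⟨11032, 1, 2⟩))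 (.node 1 (.one ⟨11058, 0, 4⟩) (.one ⟨7597, 1, 6⟩)))) (.node 4 (.node 2 (.node 1 (.one ⟨10378, 1, 3⟩) (.one ⟨11829, 2, 2⟩)) (.node 1 (.one ⟨12826, 1, 7⟩) (.one ⟨17075, 2, 8⟩))) (.node 2 (.node 1 (.one ⟨16338, 1, 4⟩) (.one ⟨10651, 2, 8⟩)) (.node 1 (.one ⟨16246, 2, 7⟩) (.one ⟨13690, 0, 6⟩)))))) (.node 16 (.node 8 (.node 4 (.node 2 (.node 1 (.one ⟨1154, 2, 9⟩) (.one ⟨2049, 2, 5⟩)) (.node 1 (.one ⟨13748, 0, 4⟩) (.one ⟨16918, 1, 2⟩))) (.node 2 (.node 1 (.one ⟨2042, 2, 5⟩) (.one ⟨668, 2, 3⟩)) (.node 1 (.one ⟨11658, 1, 4⟩) (.one ⟨5098, 0, 7⟩)))) (.node 4 (.node 2 (.node 1 (.one ⟨12841, 2, 5⟩) (.one ⟨5412, 0, 9⟩)) (.node 1 (.one ⟨7909, 2, 7⟩) (.one ⟨8924, 2, 6⟩))) (.node 2 (.node 1 (.one ⟨15015, 2, 4⟩) (.one ⟨12488,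 2, 7⟩)) (.node 1 (.one ⟨17139, 1, 5⟩) (.one ⟨5944, 0, 3⟩))))) (.node 8 (.node 4 (.node 2 (.node 1 (.one ⟨14409, 0, 1⟩) (.one ⟨18, 0, 5⟩)) (.node 1 (.one ⟨10760, 0, 1⟩) (.one ⟨12847, 0, 5⟩))) (.node 2 (.node 1 (.one ⟨11347, 2, 4⟩) (.one ⟨11375, 2, 6⟩)) (.node 1 (.one ⟨8802, 0, 1⟩) (.one ⟨17050, 2, 8⟩)))) (.node 4 (.node 2 (.node 1 (.one ⟨11851, 1, 6⟩) (.one ⟨16429, 1, 5⟩)) (.node 1 (.one ⟨2445, 1, 6⟩) (.one ⟨12292, 1, 4⟩))) (.node 2 (.node 1 (.one ⟨12930, 2, 8⟩) (.one ⟨8241, 0, 6⟩)) (.node 1 (.one ⟨3674, 0, 6⟩) (.one ⟨5951, 0, 3⟩)))))))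
def par7_1_11 : Arr Par :=
  (.node 32 (.node 16 (.node 8 (.node 4 (.node 2 (.node 1 (.one ⟨4666, 0, 5⟩) (.one ⟨35, 1, 6⟩)) (.node 1 (.one ⟨7465, 0, 1⟩) (.one ⟨9176, 1, 2⟩))) (.node 2 (.node 1 (.one ⟨10861, 2, 3⟩) (.one ⟨12919, 0, 4⟩)) (.node 1 (.one ⟨14198, 0, 6⟩) (.one ⟨694, 0, 6⟩)))) (.node 4 (.node 2 (.node 1 (.one ⟨10745, 0, 7⟩) (.one ⟨4017, 1, 0⟩)) (.node 1 (.one ⟨6497, 1, 4⟩) (.one ⟨2970, 1, 5⟩))) (.node 2 (.node 1 (.one ⟨12980, 0, 7⟩) (.one ⟨11237, 1, 4⟩)) (.node 1 (.one ⟨1337, 2, 4⟩) (.one ⟨10077, 0, 3⟩))))) (.node 8 (.node 4 (.node 2 (.node 1 (.one ⟨14078, 0, 6⟩) (.one ⟨15587, 2, 6⟩)) (.node 1 (.one ⟨789, 2, 2⟩) (.one ⟨2630, 1, 4⟩))) (.node 2 (.node 1 (.one ⟨1259, 1, 6⟩) (.one ⟨12269, 1, 8⟩)) (.node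 1 (.one ⟨8704, 0, 5⟩) (.one ⟨2662, 1, 8⟩)))) (.node 4 (.node 2 (.node 1 (.one ⟨17038, 0, 3⟩) (.one ⟨5486, 1, 5⟩)) (.node 1 (.one ⟨6575, 0, 6⟩) (.one ⟨1834, 1, 9⟩))) (.node 2 (.node 1 (.one ⟨2565, 1, 7⟩) (.one ⟨12395, 0, 6⟩)) (.node 1 (.one ⟨5366, 1, 4⟩) (.one ⟨10593, 1, 2⟩)))))) (.node 16 (.node 8 (.node 4 (.node 2 (.node 1 (.one ⟨1732, 0, 4⟩) (.one ⟨9584, 1, 3⟩)) (.node 1 (.one ⟨6870, 2, 5⟩) (.one ⟨16007, 0, 4⟩))) (.node 2 (.node 1 (.one ⟨10685, 2, 6⟩) (.one ⟨3445, 2, 8⟩)) (.node 1 (.one ⟨2265, 2, 6⟩) (.one ⟨5997, 1, 5⟩)))) (.node 4 (.node 2 (.node 1 (.one ⟨10668, 1, 8⟩) (.one ⟨10771, 0, 8⟩)) (.node 1 (.one ⟨4750, 2, 4⟩) (.one ⟨5905, 0, 8⟩))) (.node 2 (.node 1 (.one ⟨14354, 1, 7⟩) (.one ⟨1690, 2, 8⟩)) (.node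 1 (.one ⟨14001, 1, 2⟩) (.one ⟨1446, 2, 5⟩))))) (.node 8 (.node 4 (.node 2 (.node 1 (.one ⟨2099, 0, 4⟩) (.one ⟨14117, 1, 7⟩)) (.node 1 (.one ⟨16085, 2, 6⟩) (.one ⟨9555, 2, 4⟩))) (.node 2 (.node 1 (.one ⟨7588, 0, 2⟩) (.one ⟨8735, 0, 4⟩)) (.node 1 (.one ⟨12026, 1, 4⟩) (.one ⟨8597, 1, 8⟩)))) (.node 4 (.node 2 (.node 1 (.one ⟨9007, 1, 5⟩) (.one ⟨10072, 2, 6⟩)) (.node 1 (.one ⟨4022, 1, 4⟩) (.one ⟨15163, 1, 6⟩))) (.node 2 (.node 1 (.one ⟨10608, 2, 4⟩) (.one ⟨10740, 0, 5⟩)) (.node 1 (.one ⟨10267, 1, 1⟩) (.one ⟨16422, 1, 5⟩)))))))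
def par7_1_12 : Arr Par :=
  (.node 32 (.node 16 (.node 8 (.node 4 (.node 2 (.node 1 (.one ⟨16604, 1, 4⟩) (.one ⟨4674, 1, 8⟩)) (.node 1 (.one ⟨14056, 2, 3⟩) (.one ⟨14101, 1, 5⟩))) (.node 2 (.node 1 (.one ⟨15556, 1, 7⟩) (.one ⟨3184, 1, 4⟩)) (.node 1 (.one ⟨1314, 1, 7⟩) (.one ⟨9302, 1, 3⟩)))) (.node 4 (.node 2 (.node 1 (.one ⟨9228, 1, 6⟩) (.one ⟨1410, 2, 3⟩)) (.node 1 (.one ⟨6738, 1, 5⟩) (.one ⟨16664, 1, 8⟩))) (.node 2 (.node 1 (.one ⟨13179, 0, 5⟩) (.one ⟨3850, 1, 6⟩)) (.node 1 (.one ⟨3871, 1, 4⟩) (.one ⟨7887, 1, 5⟩))))) (.node 8 (.node 4 (.node 2 (.node 1 (.one ⟨4941, 0, 1⟩) (.one ⟨8236, 1, 3⟩)) (.node 1 (.one ⟨16275, 2, 8⟩) (.one ⟨1957, 0, 3⟩))) (.node 2 (.node 1 (.one ⟨3599, 1, 8⟩) (.one ⟨16276, 2, 8⟩)) (.node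 1 (.one ⟨15942, 0, 4⟩) (.one ⟨9856, 2, 4⟩)))) (.node 4 (.node 2 (.node 1 (.one ⟨9971, 1, 5⟩) (.one ⟨4131, 2, 1⟩)) (.node 1 (.one ⟨16685, 1, 7⟩) (.one ⟨16256, 1, 6⟩))) (.node 2 (.node 1 (.one ⟨16884, 1, 6⟩) (.one ⟨11399, 1, 6⟩)) (.node 1 (.one ⟨8494, 0, 4⟩) (.one ⟨5580, 2, 7⟩)))))) (.node 16 (.node 8 (.node 4 (.node 2 (.node 1 (.one ⟨2915, 1, 5⟩) (.one ⟨2056, 2, 4⟩)) (.node 1 (.one ⟨14002, 1, 10⟩) (.one ⟨14711, 1, 6⟩))) (.node 2 (.node 1 (.one ⟨15291, 0, 4⟩) (.one ⟨14176, 2, 3⟩)) (.node 1 (.one ⟨9706, 2, 7⟩) (.one ⟨12183, 1, 3⟩)))) (.node 4 (.node 2 (.node 1 (.one ⟨4127, 1, 9⟩) (.one ⟨8389, 0, 7⟩)) (.node 1 (.one ⟨8390, 0, 8⟩) (.one ⟨11407, 1, 5⟩))) (.node 2 (.node 1 (.one ⟨259, 0, 7⟩) (.one ⟨12762, 1, 9⟩))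 (.node 1 (.one ⟨1989, 2, 1⟩) (.one ⟨9585, 2, 6⟩))))) (.node 8 (.node 4 (.node 2 (.node 1 (.one ⟨12484, 1, 1⟩) (.one ⟨1391, 2, 3⟩)) (.node 1 (.one ⟨8624, 1, 6⟩) (.one ⟨5696, 0, 8⟩))) (.node 2 (.node 1 (.one ⟨15208, 1, 2⟩) (.one ⟨7195, 0, 8⟩)) (.node 1 (.one ⟨3346, 0, 5⟩) (.one ⟨16855, 2, 3⟩)))) (.node 4 (.node 2 (.node 1 (.one ⟨9567, 2, 6⟩) (.one ⟨1466, 1, 3⟩)) (.node 1 (.one ⟨13905, 2, 8⟩) (.one ⟨3716, 1, 3⟩))) (.node 2 (.node 1 (.one ⟨16592, 1, 7⟩) (.one ⟨5879, 2, 6⟩)) (.node 1 (.one ⟨345, 1, 5⟩) (.one ⟨1220, 1, 3⟩)))))))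
def par7_1_13 : Arr Par :=
  (.node 32 (.node 16 (.node 8 (.node 4 (.node 2 (.node 1 (.one ⟨8081, 2, 5⟩) (.one ⟨5089, 1, 5⟩)) (.node 1 (.one ⟨14905, 0, 3⟩) (.one ⟨1508, 0, 5⟩))) (.node 2 (.node 1 (.one ⟨16014, 0, 3⟩) (.one ⟨4163, 2, 3⟩)) (.node 1 (.one ⟨13652, 0, 9⟩) (.one ⟨13682, 1, 5⟩)))) (.node 4 (.node 2 (.node 1 (.one ⟨2933, 1, 4⟩) (.one ⟨6948, 1, 3⟩)) (.node 1 (.one ⟨9576, 1, 3⟩) (.one ⟨11732, 1, 6⟩))) (.node 2 (.node 1 (.one ⟨8399, 1, 5⟩) (.one ⟨4737, 1, 4⟩)) (.node 1 (.one ⟨15982, 1, 8⟩) (.one ⟨11855, 1, 4⟩))))) (.node 8 (.node 4 (.node 2 (.node 1 (.one ⟨9296, 1, 8⟩) (.one ⟨9215, 1, 4⟩)) (.node 1 (.one ⟨7471, 2, 6⟩) (.one ⟨5171, 2, 6⟩))) (.node 2 (.node 1 (.one ⟨12929, 0, 4⟩) (.one ⟨14793, 1, 2⟩)) (.node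 1 (.one ⟨16567, 1, 4⟩) (.one ⟨12588, 1, 5⟩)))) (.node 4 (.node 2 (.node 1 (.one ⟨5824, 0, 2⟩) (.one ⟨7315, 0, 4⟩)) (.node 1 (.one ⟨12354, 1, 7⟩) (.one ⟨12548, 0, 5⟩))) (.node 2 (.node 1 (.one ⟨325, 0, 6⟩) (.one ⟨5242, 1, 4⟩)) (.node 1 (.one ⟨7848, 1, 3⟩) (.one ⟨13041, 0, 5⟩)))))) (.node 16 (.node 8 (.node 4 (.node 2 (.node 1 (.one ⟨447, 0, 6⟩) (.one ⟨13562, 1, 5⟩)) (.node 1 (.one ⟨10611, 2, 7⟩) (.one ⟨6279, 2, 6⟩))) (.node 2 (.node 1 (.one ⟨13491, 2, 4⟩) (.one ⟨10380, 1, 2⟩)) (.node 1 (.one ⟨13046, 0, 6⟩) (.one ⟨8760, 2, 7⟩)))) (.node 4 (.node 2 (.node 1 (.one ⟨2901, 0, 9⟩) (.one ⟨4214, 0, 8⟩)) (.node 1 (.one ⟨5163, 0, 7⟩) (.one ⟨3688, 2, 8⟩))) (.node 2 (.node 1 (.one ⟨10647, 2, 3⟩) (.one ⟨9566, 1, 1⟩)) (.node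 1 (.one ⟨2816, 1, 2⟩) (.one ⟨4, 0, 5⟩))))) (.node 8 (.node 4 (.node 2 (.node 1 (.one ⟨10600, 0, 4⟩) (.one ⟨5945, 0, 2⟩)) (.node 1 (.one ⟨14303, 0, 3⟩) (.one ⟨11817, 2, 7⟩))) (.node 2 (.node 1 (.one ⟨13602, 0, 1⟩) (.one ⟨13071, 1, 6⟩)) (.node 1 (.one ⟨16993, 0, 1⟩) (.one ⟨11789, 0, 4⟩)))) (.node 4 (.node 2 (.node 1 (.one ⟨839, 1, 5⟩) (.one ⟨16611, 2, 3⟩)) (.node 1 (.one ⟨3151, 0, 4⟩) (.one ⟨866, 1, 7⟩))) (.node 2 (.node 1 (.one ⟨13344, 2, 4⟩) (.one ⟨13345, 2, 2⟩)) (.node 1 (.one ⟨14, 1, 6⟩) (.one ⟨15026, 0, 4⟩)))))))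
def par7_1_14 : Arr Par :=
  (.node 32 (.node 16 (.node 8 (.node 4 (.node 2 (.node 1 (.one ⟨16038, 0, 3⟩) (.one ⟨4125, 1, 0⟩)) (.node 1 (.one ⟨4960, 0, 6⟩) (.one ⟨13014, 2, 6⟩))) (.node 2 (.node 1 (.one ⟨16412, 2, 4⟩) (.one ⟨3284, 0, 8⟩)) (.node 1 (.one ⟨7020, 2, 6⟩) (.one ⟨2971, 2, 4⟩)))) (.node 4 (.node 2 (.node 1 (.one ⟨11925, 2, 3⟩) (.one ⟨4128, 2, 9⟩)) (.node 1 (.one ⟨11219, 2, 4⟩) (.one ⟨10501, 2, 5⟩))) (.node 2 (.node 1 (.one ⟨3856, 1, 8⟩) (.one ⟨8705, 0, 8⟩)) (.node 1 (.one ⟨3719, 1, 5⟩) (.one ⟨1087, 0, 5⟩))))) (.node 8 (.node 4 (.node 2 (.node 1 (.one ⟨8522, 0, 4⟩) (.one ⟨13889, 2, 4⟩)) (.node 1 (.one ⟨4879, 0, 4⟩) (.one ⟨86, 1, 4⟩))) (.node 2 (.node 1 (.one ⟨0, 1, 6⟩) (.one ⟨1185, 1, 4⟩)) (.node 1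 (.one ⟨1186, 1, 7⟩) (.one ⟨813, 1, 8⟩)))) (.node 4 (.node 2 (.node 1 (.one ⟨10552, 0, 8⟩) (.one ⟨5011, 0, 7⟩)) (.node 1 (.one ⟨13848, 2, 6⟩) (.one ⟨14107, 1, 7⟩))) (.node 2 (.node 1 (.one ⟨16984, 1, 4⟩) (.one ⟨5963, 1, 5⟩)) (.node 1 (.one ⟨8896, 1, 8⟩) (.one ⟨3899, 1, 6⟩)))))) (.node 16 (.node 8 (.node 4 (.node 2 (.node 1 (.one ⟨17159, 0, 3⟩) (.one ⟨13865, 2, 7⟩)) (.node 1 (.one ⟨2101, 0, 3⟩) (.one ⟨15684, 2, 7⟩))) (.node 2 (.node 1 (.one ⟨698, 0, 7⟩) (.one ⟨10508, 0, 2⟩)) (.node 1 (.one ⟨1828, 1, 5⟩) (.one ⟨9230, 2, 6⟩)))) (.node 4 (.node 2 (.node 1 (.one ⟨7918, 2, 8⟩) (.one ⟨4693, 2, 4⟩)) (.node 1 (.one ⟨14945, 2, 8⟩) (.one ⟨14534, 1, 3⟩))) (.node 2 (.node 1 (.one ⟨11293, 2, 9⟩) (.one ⟨6965, 1, 5⟩)) (.node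 1 (.one ⟨3928, 2, 4⟩) (.one ⟨10165, 1, 3⟩))))) (.node 8 (.node 4 (.node 2 (.node 1 (.one ⟨4577, 2, 6⟩) (.one ⟨8390, 1, 8⟩)) (.node 1 (.one ⟨2509, 1, 7⟩) (.one ⟨1207, 2, 7⟩))) (.node 2 (.node 1 (.one ⟨4597, 2, 3⟩) (.one ⟨12710, 2, 4⟩)) (.node 1 (.one ⟨9195, 2, 3⟩) (.one ⟨7643, 1, 3⟩)))) (.node 4 (.node 2 (.node 1 (.one ⟨1219, 1, 1⟩) (.one ⟨13111, 2, 2⟩)) (.node 1 (.one ⟨5610, 2, 9⟩) (.one ⟨3257, 2, 2⟩))) (.node 2 (.node 1 (.one ⟨11371, 1, 6⟩) (.one ⟨14274, 1, 7⟩)) (.node 1 (.one ⟨9536, 0, 4⟩) (.one ⟨5844, 0, 4⟩)))))))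
def par7_1_15 : Arr Par :=
  (.node 32 (.node 16 (.node 8 (.node 4 (.node 2 (.node 1 (.one ⟨10824, 2, 7⟩) (.one ⟨3637, 1, 2⟩)) (.node 1 (.one ⟨6508, 0, 4⟩) (.one ⟨4478, 2, 5⟩))) (.node 2 (.node 1 (.one ⟨14805, 1, 7⟩) (.one ⟨4167, 1, 0⟩)) (.node 1 (.one ⟨8724, 0, 5⟩) (.one ⟨13402, 2, 6⟩)))) (.node 4 (.node 2 (.node 1 (.one ⟨16882, 2, 7⟩) (.one ⟨7978, 0, 5⟩)) (.node 1 (.one ⟨13302, 1, 3⟩) (.one ⟨14199, 2, 6⟩))) (.node 2 (.node 1 (.one ⟨9828, 2, 9⟩) (.one ⟨8982, 1, 7⟩)) (.node 1 (.one ⟨17103, 2, 4⟩) (.one ⟨15271, 1, 9⟩))))) (.node 8 (.node 4 (.node 2 (.node 1 (.one ⟨13366, 1, 9⟩) (.one ⟨13367, 1, 9⟩)) (.node 1 (.one ⟨15268, 1, 4⟩) (.one ⟨1412, 0, 7⟩))) (.node 2 (.node 1 (.one ⟨9275, 2, 6⟩) (.one ⟨1309, 2, 3⟩))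 (.node 1 (.one ⟨1546, 2, 1⟩) (.one ⟨5844, 1, 4⟩)))) (.node 4 (.node 2 (.node 1 (.one ⟨5205, 1, 7⟩) (.one ⟨50, 1, 6⟩)) (.node 1 (.one ⟨13276, 0, 5⟩) (.one ⟨3910, 1, 2⟩))) (.node 2 (.node 1 (.one ⟨6595, 1, 7⟩) (.one ⟨1135, 0, 6⟩)) (.node 1 (.one ⟨2813, 1, 2⟩) (.one ⟨13903, 2, 2⟩)))))) (.node 16 (.node 8 (.node 4 (.node 2 (.node 1 (.one ⟨5953, 1, 4⟩) (.one ⟨11805, 1, 4⟩)) (.node 1 (.one ⟨16471, 0, 6⟩) (.one ⟨15701, 1, 6⟩))) (.node 2 (.node 1 (.one ⟨13359, 2, 6⟩) (.one ⟨15685, 1, 5⟩)) (.node 1 (.one ⟨316, 1, 7⟩) (.one ⟨17098, 0, 6⟩)))) (.node 4 (.node 2 (.node 1 (.one ⟨12146, 1, 4⟩) (.one ⟨7002, 2, 6⟩)) (.node 1 (.one ⟨7514, 2, 6⟩) (.one ⟨12768, 1, 3⟩))) (.node 2 (.node 1 (.one ⟨4655, 1, 9⟩) (.one ⟨11380, 1, 4⟩))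 (.node 1 (.one ⟨3341, 1, 4⟩) (.one ⟨1148, 0, 6⟩))))) (.node 8 (.node 4 (.node 2 (.node 1 (.one ⟨2546, 2, 3⟩) (.one ⟨14084, 1, 6⟩)) (.node 1 (.one ⟨8005, 1, 6⟩) (.one ⟨15513, 1, 8⟩))) (.node 2 (.node 1 (.one ⟨8805, 1, 4⟩) (.one ⟨13379, 1, 4⟩)) (.node 1 (.one ⟨3438, 1, 7⟩) (.one ⟨2297, 2, 5⟩)))) (.node 4 (.node 2 (.node 1 (.one ⟨11943, 2, 5⟩) (.one ⟨1414, 0, 5⟩)) (.node 1 (.one ⟨6935, 1, 4⟩) (.one ⟨5109, 2, 3⟩))) (.node 2 (.node 1 (.one ⟨11230, 1, 3⟩) (.one ⟨6264, 2, 3⟩)) (.node 1 (.one ⟨6183, 0, 6⟩) (.one ⟨5339, 1, 6⟩)))))))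
def par7_1 : Arr Par :=
  (.node 512 (.node 256 (.node 128 (.node 64 par7_1_0 par7_1_1) (.node 64 par7_1_2 par7_1_3)) (.node 128 (.node 64 par7_1_4 par7_1_5) (.node 64 par7_1_6 par7_1_7))) (.node 256 (.node 128 (.node 64 par7_1_8 par7_1_9) (.node 64 par7_1_10 par7_1_11)) (.node 128 (.node 64 par7_1_12 par7_1_13) (.node 64 par7_1_14 par7_1_15))))
def par7_2_0 : Arr Par :=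
  (.node 32 (.node 16 (.node 8 (.node 4 (.node 2 (.node 1 (.one ⟨11212, 1, 3⟩) (.one ⟨4178, 1, 4⟩)) (.node 1 (.one ⟨10375, 1, 3⟩) (.one ⟨5604, 0, 6⟩))) (.node 2 (.node 1 (.one ⟨15713, 1, 4⟩) (.one ⟨6939, 1, 4⟩)) (.node 1 (.one ⟨14948, 2, 3⟩) (.one ⟨3353, 1, 7⟩)))) (.node 4 (.node 2 (.node 1 (.one ⟨327, 0, 3⟩) (.one ⟨2626, 2, 8⟩)) (.node 1 (.one ⟨9539, 0, 4⟩) (.one ⟨2629, 2, 9⟩))) (.node 2 (.node 1 (.one ⟨8001, 1, 4⟩) (.one ⟨2630, 2, 4⟩)) (.node 1 (.one ⟨2175, 0, 5⟩) (.one ⟨16723, 2, 7⟩))))) (.node 8 (.node 4 (.node 2 (.node 1 (.one ⟨2095, 0, 5⟩) (.one ⟨9542, 0, 7⟩)) (.node 1 (.one ⟨8739, 0, 8⟩) (.one ⟨10258, 0, 6⟩))) (.node 2 (.node 1 (.one ⟨13136, 1, 9⟩) (.one ⟨14791, 2, 9⟩)) (.node 1 (.one ⟨11571, 1, 6⟩)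 (.one ⟨14183, 2, 3⟩)))) (.node 4 (.node 2 (.node 1 (.one ⟨6522, 2, 3⟩) (.one ⟨13916, 2, 9⟩)) (.node 1 (.one ⟨6255, 2, 4⟩) (.one ⟨9896, 2, 6⟩))) (.node 2 (.node 1 (.one ⟨2230, 2, 4⟩) (.one ⟨10089, 2, 9⟩)) (.node 1 (.one ⟨2568, 2, 4⟩) (.one ⟨8680, 1, 6⟩)))))) (.node 16 (.node 8 (.node 4 (.node 2 (.node 1 (.one ⟨10902, 1, 4⟩) (.one ⟨8473, 1, 6⟩)) (.node 1 (.one ⟨8895, 2, 4⟩) (.one ⟨7967, 1, 2⟩))) (.node 2 (.node 1 (.one ⟨8897, 2, 4⟩) (.one ⟨7822, 1, 4⟩)) (.node 1 (.one ⟨10277, 1, 3⟩) (.one ⟨5807, 1, 6⟩)))) (.node 4 (.node 2 (.node 1 (.one ⟨4907, 0, 6⟩) (.one ⟨172, 1, 6⟩)) (.node 1 (.one ⟨7257, 0, 6⟩) (.one ⟨1676, 1, 7⟩))) (.node 2 (.node 1 (.one ⟨5036, 1, 8⟩) (.one ⟨1136, 0, 6⟩)) (.node 1 (.one ⟨7674, 2, 8⟩) (.one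 ⟨1202, 2, 4⟩))))) (.node 8 (.node 4 (.node 2 (.node 1 (.one ⟨1558, 2, 3⟩) (.one ⟨14468, 2, 2⟩)) (.node 1 (.one ⟨14504, 2, 2⟩) (.one ⟨607, 2, 3⟩))) (.node 2 (.node 1 (.one ⟨3388, 1, 5⟩) (.one ⟨14449, 2, 2⟩)) (.node 1 (.one ⟨14494, 2, 6⟩) (.one ⟨6127, 0, 1⟩)))) (.node 4 (.node 2 (.node 1 (.one ⟨593, 2, 3⟩) (.one ⟨25, 0, 1⟩)) (.node 1 (.one ⟨1714, 0, 2⟩) (.one ⟨9416, 0, 1⟩))) (.node 2 (.node 1 (.one ⟨9815, 0, 5⟩) (.one ⟨14224, 0, 3⟩)) (.node 1 (.one ⟨5516, 2, 6⟩) (.one ⟨13419, 1, 5⟩)))))))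
def par7_2_1 : Arr Par :=
  (.node 32 (.node 16 (.node 8 (.node 4 (.node 2 (.node 1 (.one ⟨1467, 0, 6⟩) (.one ⟨10398, 2, 4⟩)) (.node 1 (.one ⟨6527, 1, 5⟩) (.one ⟨14774, 2, 5⟩))) (.node 2 (.node 1 (.one ⟨12042, 1, 8⟩) (.one ⟨7247, 1, 5⟩)) (.node 1 (.one ⟨2929, 0, 1⟩) (.one ⟨2528, 1, 3⟩)))) (.node 4 (.node 2 (.node 1 (.one ⟨4474, 1, 5⟩) (.one ⟨10167, 1, 5⟩)) (.node 1 (.one ⟨11781, 1, 8⟩) (.one ⟨1260, 1, 7⟩))) (.node 2 (.node 1 (.one ⟨14674, 0, 6⟩) (.one ⟨2264, 0, 5⟩)) (.node 1 (.one ⟨9457, 0, 8⟩) (.one ⟨5548, 1, 6⟩))))) (.node 8 (.node 4 (.node 2 (.node 1 (.one ⟨13372, 1, 3⟩) (.one ⟨15333, 0, 6⟩)) (.node 1 (.one ⟨5880, 1, 4⟩) (.one ⟨6156, 1, 3⟩))) (.node 2 (.node 1 (.one ⟨9755, 0, 6⟩) (.one ⟨14928, 2, 3⟩)) (.node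 1 (.one ⟨7145, 0, 4⟩) (.one ⟨5962, 1, 6⟩)))) (.node 4 (.node 2 (.node 1 (.one ⟨13116, 2, 5⟩) (.one ⟨11847, 2, 4⟩)) (.node 1 (.one ⟨3390, 2, 5⟩) (.one ⟨14189, 1, 6⟩))) (.node 2 (.node 1 (.one ⟨13108, 2, 4⟩) (.one ⟨9420, 1, 3⟩)) (.node 1 (.one ⟨8706, 1, 6⟩) (.one ⟨15982, 2, 8⟩)))))) (.node 16 (.node 8 (.node 4 (.node 2 (.node 1 (.one ⟨645, 1, 8⟩) (.one ⟨1787, 2, 7⟩)) (.node 1 (.one ⟨6051, 2, 3⟩) (.one ⟨1469, 0, 6⟩))) (.node 2 (.node 1 (.one ⟨10983, 1, 7⟩) (.one ⟨5556, 2, 4⟩)) (.node 1 (.one ⟨2083, 2, 3⟩) (.one ⟨5869, 2, 7⟩)))) (.node 4 (.node 2 (.node 1 (.one ⟨17096, 0, 5⟩) (.one ⟨5158, 2, 7⟩)) (.node 1 (.one ⟨12391, 0, 3⟩) (.one ⟨1587, 0, 3⟩))) (.node 2 (.node 1 (.one ⟨11643, 2, 7⟩) (.one ⟨6580, 0, 3⟩)) (.node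 1 (.one ⟨15347, 2, 9⟩) (.one ⟨6412, 2, 4⟩))))) (.node 8 (.node 4 (.node 2 (.node 1 (.one ⟨3326, 1, 9⟩) (.one ⟨10515, 1, 4⟩)) (.node 1 (.one ⟨691, 2, 5⟩) (.one ⟨3358, 1, 7⟩))) (.node 2 (.node 1 (.one ⟨11868, 2, 4⟩) (.one ⟨11374, 1, 7⟩)) (.node 1 (.one ⟨13695, 2, 6⟩) (.one ⟨14605, 0, 2⟩)))) (.node 4 (.node 2 (.node 1 (.one ⟨7286, 0, 8⟩) (.one ⟨10445, 2, 6⟩)) (.node 1 (.one ⟨6506, 0, 4⟩) (.one ⟨1604, 0, 3⟩))) (.node 2 (.node 1 (.one ⟨11042, 0, 8⟩) (.one ⟨8082, 2, 6⟩)) (.node 1 (.one ⟨9470, 0, 2⟩) (.one ⟨14767, 2, 4⟩)))))))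
def par7_2_2 : Arr Par :=
  (.node 32 (.node 16 (.node 8 (.node 4 (.node 2 (.node 1 (.one ⟨9887, 2, 3⟩) (.one ⟨1166, 1, 9⟩)) (.node 1 (.one ⟨11296, 2, 6⟩) (.one ⟨14978, 1, 3⟩))) (.node 2 (.node 1 (.one ⟨4713, 1, 2⟩) (.one ⟨6434, 2, 3⟩)) (.node 1 (.one ⟨15516, 1, 5⟩) (.one ⟨8999, 2, 6⟩)))) (.node 4 (.node 2 (.node 1 (.one ⟨4874, 1, 4⟩) (.one ⟨16921, 1, 2⟩)) (.node 1 (.one ⟨14467, 1, 2⟩) (.one ⟨14349, 1, 9⟩))) (.node 2 (.node 1 (.one ⟨17015, 1, 4⟩) (.one ⟨4593, 1, 5⟩)) (.node 1 (.one ⟨4199, 1, 0⟩) (.one ⟨5715, 2, 3⟩))))) (.node 8 (.node 4 (.node 2 (.node 1 (.one ⟨673, 0, 5⟩) (.one ⟨12423, 1, 7⟩)) (.node 1 (.one ⟨2687, 2, 4⟩) (.one ⟨1470, 0, 9⟩))) (.node 2 (.node 1 (.one ⟨2420, 2, 1⟩) (.one ⟨6173, 2, 5⟩)) (.node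 1 (.one ⟨6149, 1, 5⟩) (.one ⟨10184, 1, 3⟩)))) (.node 4 (.node 2 (.node 1 (.one ⟨15945, 1, 5⟩) (.one ⟨9471, 1, 4⟩)) (.node 1 (.one ⟨15856, 1, 4⟩) (.one ⟨9898, 1, 6⟩))) (.node 2 (.node 1 (.one ⟨15783, 1, 6⟩) (.one ⟨648, 2, 4⟩)) (.node 1 (.one ⟨9469, 0, 2⟩) (.one ⟨2728, 2, 1⟩)))))) (.node 16 (.node 8 (.node 4 (.node 2 (.node 1 (.one ⟨5753, 2, 6⟩) (.one ⟨6519, 2, 4⟩)) (.node 1 (.one ⟨1241, 2, 5⟩) (.one ⟨6368, 2, 3⟩))) (.node 2 (.node 1 (.one ⟨2168, 2, 9⟩) (.one ⟨2223, 2, 4⟩)) (.node 1 (.one ⟨5981, 2, 9⟩) (.one ⟨602, 1, 3⟩)))) (.node 4 (.node 2 (.node 1 (.one ⟨88, 1, 2⟩) (.one ⟨8706, 0, 6⟩)) (.node 1 (.one ⟨586, 1, 4⟩) (.one ⟨9337, 1, 5⟩))) (.node 2 (.node 1 (.one ⟨9341, 1, 5⟩) (.one ⟨9420, 0, 3⟩)) (.node 1 (.one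 ⟨14189, 0, 6⟩) (.one ⟨8834, 0, 3⟩))))) (.node 8 (.node 4 (.node 2 (.node 1 (.one ⟨1337, 1, 4⟩) (.one ⟨6371, 0, 2⟩)) (.node 1 (.one ⟨1252, 0, 4⟩) (.one ⟨3416, 0, 4⟩))) (.node 2 (.node 1 (.one ⟨64, 1, 4⟩) (.one ⟨1338, 1, 5⟩)) (.node 1 (.one ⟨592, 1, 3⟩) (.one ⟨13321, 0, 5⟩)))) (.node 4 (.node 2 (.node 1 (.one ⟨10143, 0, 6⟩) (.one ⟨14167, 1, 5⟩)) (.node 1 (.one ⟨1115, 0, 6⟩) (.one ⟨2654, 0, 5⟩))) (.node 2 (.node 1 (.one ⟨806, 1, 8⟩) (.one ⟨10315, 0, 8⟩)) (.node 1 (.one ⟨14357, 2, 6⟩) (.one ⟨9007, 2, 5⟩)))))))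
def par7_2_3 : Arr Par :=
  (.node 32 (.node 16 (.node 8 (.node 4 (.node 2 (.node 1 (.one ⟨12319, 0, 8⟩) (.one ⟨10543, 1, 8⟩)) (.node 1 (.one ⟨12274, 0, 4⟩) (.one ⟨9122, 2, 3⟩))) (.node 2 (.node 1 (.one ⟨765, 0, 6⟩) (.one ⟨13153, 2, 5⟩)) (.node 1 (.one ⟨12946, 1, 7⟩) (.one ⟨6441, 1, 2⟩)))) (.node 4 (.node 2 (.node 1 (.one ⟨1112, 0, 3⟩) (.one ⟨9856, 1, 4⟩)) (.node 1 (.one ⟨16695, 1, 7⟩) (.one ⟨2531, 1, 4⟩))) (.node 2 (.node 1 (.one ⟨7746, 2, 3⟩) (.one ⟨11139, 2, 4⟩)) (.node 1 (.one ⟨1902, 2, 3⟩) (.one ⟨6962, 2, 6⟩))))) (.node 8 (.node 4 (.node 2 (.node 1 (.one ⟨1875, 0, 7⟩) (.one ⟨12597, 2, 6⟩)) (.node 1 (.one ⟨14299, 1, 5⟩) (.one ⟨3850, 2, 6⟩))) (.node 2 (.node 1 (.one ⟨11716, 2, 3⟩) (.one ⟨13655, 2, 6⟩)) (.node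 1 (.one ⟨262, 1, 9⟩) (.one ⟨3888, 2, 2⟩)))) (.node 4 (.node 2 (.node 1 (.one ⟨514, 2, 4⟩) (.one ⟨835, 1, 5⟩)) (.node 1 (.one ⟨10641, 2, 4⟩) (.one ⟨1525, 2, 5⟩))) (.node 2 (.node 1 (.one ⟨3948, 2, 6⟩) (.one ⟨10565, 2, 5⟩)) (.node 1 (.one ⟨2635, 1, 6⟩) (.one ⟨9246, 1, 3⟩)))))) (.node 16 (.node 8 (.node 4 (.node 2 (.node 1 (.one ⟨13440, 1, 6⟩) (.one ⟨11906, 2, 4⟩)) (.node 1 (.one ⟨16824, 1, 2⟩) (.one ⟨5038, 2, 2⟩))) (.node 2 (.node 1 (.one ⟨2445, 0, 6⟩) (.one ⟨5685, 0, 4⟩)) (.node 1 (.one ⟨6088, 0, 5⟩) (.one ⟨14125, 1, 9⟩)))) (.node 4 (.node 2 (.node 1 (.one ⟨2860, 0, 4⟩) (.one ⟨11468, 0, 6⟩)) (.node 1 (.one ⟨6518, 2, 7⟩) (.one ⟨2639, 1, 4⟩))) (.node 2 (.node 1 (.one ⟨1250, 0, 6⟩) (.one ⟨10649, 0, 3⟩)) (.node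 1 (.one ⟨8652, 1, 7⟩) (.one ⟨12872, 2, 6⟩))))) (.node 8 (.node 4 (.node 2 (.node 1 (.one ⟨760, 1, 4⟩) (.one ⟨10667, 2, 8⟩)) (.node 1 (.one ⟨16063, 2, 7⟩) (.one ⟨2239, 1, 6⟩))) (.node 2 (.node 1 (.one ⟨16302, 2, 8⟩) (.one ⟨11420, 1, 9⟩)) (.node 1 (.one ⟨9623, 0, 2⟩) (.one ⟨850, 1, 9⟩)))) (.node 4 (.node 2 (.node 1 (.one ⟨7845, 1, 2⟩) (.one ⟨3186, 1, 4⟩)) (.node 1 (.one ⟨9002, 1, 6⟩) (.one ⟨349, 0, 5⟩))) (.node 2 (.node 1 (.one ⟨16544, 2, 5⟩) (.one ⟨16603, 1, 3⟩)) (.node 1 (.one ⟨8240, 2, 4⟩) (.one ⟨14955, 0, 8⟩)))))))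
def par7_2_4 : Arr Par :=
  (.node 32 (.node 16 (.node 8 (.node 4 (.node 2 (.node 1 (.one ⟨2438, 1, 4⟩) (.one ⟨9505, 1, 5⟩)) (.node 1 (.one ⟨9107, 2, 6⟩) (.one ⟨13010, 1, 5⟩))) (.node 2 (.node 1 (.one ⟨5797, 1, 9⟩) (.one ⟨9110, 2, 8⟩)) (.node 1 (.one ⟨9105, 2, 4⟩) (.one ⟨1566, 1, 3⟩)))) (.node 4 (.node 2 (.node 1 (.one ⟨8825, 2, 6⟩) (.one ⟨10863, 1, 4⟩)) (.node 1 (.one ⟨5843, 0, 7⟩) (.one ⟨12620, 1, 8⟩))) (.node 2 (.node 1 (.one ⟨6696, 2, 5⟩) (.one ⟨13953, 2, 7⟩)) (.node 1 (.one ⟨12786, 2, 3⟩) (.one ⟨10305, 0, 3⟩))))) (.node 8 (.node 4 (.node 2 (.node 1 (.one ⟨12714, 2, 4⟩) (.one ⟨6467, 2, 7⟩)) (.node 1 (.one ⟨303, 2, 6⟩) (.one ⟨14293, 1, 9⟩))) (.node 2 (.node 1 (.one ⟨4941, 2, 1⟩) (.one ⟨14375, 2, 8⟩)) (.node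 1 (.one ⟨6713, 1, 1⟩) (.one ⟨5327, 2, 3⟩)))) (.node 4 (.node 2 (.node 1 (.one ⟨9021, 1, 2⟩) (.one ⟨7842, 1, 3⟩)) (.node 1 (.one ⟨12919, 1, 4⟩) (.one ⟨2225, 1, 3⟩))) (.node 2 (.node 1 (.one ⟨15390, 1, 2⟩) (.one ⟨14198, 1, 6⟩)) (.node 1 (.one ⟨13100, 2, 4⟩) (.one ⟨10530, 2, 5⟩)))))) (.node 16 (.node 8 (.node 4 (.node 2 (.node 1 (.one ⟨750, 2, 5⟩) (.one ⟨4144, 2, 4⟩)) (.node 1 (.one ⟨5796, 1, 9⟩) (.one ⟨6201, 1, 6⟩))) (.node 2 (.node 1 (.one ⟨5435, 1, 3⟩) (.one ⟨3896, 1, 0⟩)) (.node 1 (.one ⟨9620, 0, 4⟩) (.one ⟨634, 0, 4⟩)))) (.node 4 (.node 2 (.node 1 (.one ⟨9243, 1, 9⟩) (.one ⟨10510, 2, 6⟩)) (.node 1 (.one ⟨14946, 0, 5⟩) (.one ⟨4634, 1, 7⟩))) (.node 2 (.node 1 (.one ⟨15971, 0, 8⟩) (.one ⟨8218, 1, 7⟩)) (.node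 1 (.one ⟨5392, 1, 7⟩) (.one ⟨16582, 2, 2⟩))))) (.node 8 (.node 4 (.node 2 (.node 1 (.one ⟨8065, 1, 9⟩) (.one ⟨1403, 1, 3⟩)) (.node 1 (.one ⟨7644, 1, 5⟩) (.one ⟨3777, 2, 8⟩))) (.node 2 (.node 1 (.one ⟨14769, 2, 5⟩) (.one ⟨6460, 1, 3⟩)) (.node 1 (.one ⟨11211, 0, 2⟩) (.one ⟨15616, 1, 5⟩)))) (.node 4 (.node 2 (.node 1 (.one ⟨16400, 0, 8⟩) (.one ⟨14414, 2, 8⟩)) (.node 1 (.one ⟨3405, 2, 7⟩) (.one ⟨14907, 2, 3⟩))) (.node 2 (.node 1 (.one ⟨785, 2, 3⟩) (.one ⟨14217, 1, 6⟩)) (.node 1 (.one ⟨16260, 0, 8⟩) (.one ⟨7741, 0, 6⟩)))))))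
def par7_2_5 : Arr Par :=
  (.node 32 (.node 16 (.node 8 (.node 4 (.node 2 (.node 1 (.one ⟨2613, 1, 9⟩) (.one ⟨880, 2, 4⟩)) (.node 1 (.one ⟨12765, 2, 3⟩) (.one ⟨8460, 2, 3⟩))) (.node 2 (.node 1 (.one ⟨10363, 1, 7⟩) (.one ⟨10006, 2, 8⟩)) (.node 1 (.one ⟨4221, 1, 7⟩) (.one ⟨7435, 2, 4⟩)))) (.node 4 (.node 2 (.node 1 (.one ⟨10325, 1, 1⟩) (.one ⟨2263, 1, 3⟩)) (.node 1 (.one ⟨15210, 2, 6⟩) (.one ⟨10306, 1, 4⟩))) (.node 2 (.node 1 (.one ⟨3173, 1, 5⟩) (.one ⟨15495, 0, 5⟩)) (.node 1 (.one ⟨2251, 1, 5⟩) (.one ⟨590, 1, 2⟩))))) (.node 8 (.node 4 (.node 2 (.node 1 (.one ⟨66, 1, 6⟩) (.one ⟨7857, 0, 6⟩)) (.node 1 (.one ⟨3585, 0, 2⟩) (.one ⟨9444, 1, 5⟩))) (.node 2 (.node 1 (.one ⟨11563, 0, 4⟩) (.one ⟨9678, 0, 5⟩)) (.node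 1 (.one ⟨9443, 1, 5⟩) (.one ⟨3883, 1, 3⟩)))) (.node 4 (.node 2 (.node 1 (.one ⟨16909, 0, 3⟩) (.one ⟨16388, 1, 3⟩)) (.node 1 (.one ⟨8527, 2, 6⟩) (.one ⟨16600, 1, 3⟩))) (.node 2 (.node 1 (.one ⟨14489, 1, 2⟩) (.one ⟨5544, 1, 2⟩)) (.node 1 (.one ⟨8673, 0, 8⟩) (.one ⟨10133, 2, 5⟩)))))) (.node 16 (.node 8 (.node 4 (.node 2 (.node 1 (.one ⟨2366, 1, 9⟩) (.one ⟨13869, 1, 5⟩)) (.node 1 (.one ⟨2448, 1, 9⟩) (.one ⟨322, 1, 9⟩))) (.node 2 (.node 1 (.one ⟨6570, 0, 5⟩) (.one ⟨1507, 1, 5⟩)) (.node 1 (.one ⟨16528, 0, 7⟩) (.one ⟨917, 2, 5⟩)))) (.node 4 (.node 2 (.node 1 (.one ⟨8512, 1, 10⟩) (.one ⟨8517, 1, 9⟩)) (.node 1 (.one ⟨8515, 1, 9⟩) (.one ⟨13514, 2, 8⟩))) (.node 2 (.node 1 (.one ⟨9622, 2, 8⟩) (.one ⟨8972, 2, 7⟩)) (.node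 1 (.one ⟨6058, 2, 5⟩) (.one ⟨10579, 1, 4⟩))))) (.node 8 (.node 4 (.node 2 (.node 1 (.one ⟨4606, 1, 5⟩) (.one ⟨13389, 1, 2⟩)) (.node 1 (.one ⟨1523, 1, 5⟩) (.one ⟨10001, 2, 5⟩))) (.node 2 (.node 1 (.one ⟨4174, 1, 0⟩) (.one ⟨3852, 1, 0⟩)) (.node 1 (.one ⟨17096, 1, 5⟩) (.one ⟨2904, 0, 5⟩)))) (.node 4 (.node 2 (.node 1 (.one ⟨10160, 1, 6⟩) (.one ⟨97, 0, 1⟩)) (.node 1 (.one ⟨5130, 2, 7⟩) (.one ⟨2738, 1, 2⟩))) (.node 2 (.node 1 (.one ⟨16727, 0, 6⟩) (.one ⟨2819, 1, 3⟩)) (.node 1 (.one ⟨15815, 0, 6⟩) (.one ⟨10687, 2, 4⟩)))))))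
def par7_2_6 : Arr Par :=
  (.node 32 (.node 16 (.node 8 (.node 4 (.node 2 (.node 1 (.one ⟨1353, 1, 5⟩) (.one ⟨13730, 2, 4⟩)) (.node 1 (.one ⟨10692, 2, 5⟩) (.one ⟨10688, 2, 3⟩))) (.node 2 (.node 1 (.one ⟨13733, 2, 5⟩) (.one ⟨13727, 2, 5⟩)) (.node 1 (.one ⟨10691, 2, 3⟩) (.one ⟨7548, 1, 5⟩)))) (.node 4 (.node 2 (.node 1 (.one ⟨10693, 0, 5⟩) (.one ⟨1685, 2, 3⟩)) (.node 1 (.one ⟨1629, 1, 5⟩) (.one ⟨2251, 2, 5⟩))) (.node 2 (.node 1 (.one ⟨11740, 0, 3⟩) (.one ⟨915, 2, 5⟩)) (.node 1 (.one ⟨8658, 0, 3⟩) (.one ⟨10194, 2, 9⟩))))) (.node 8 (.node 4 (.node 2 (.node 1 (.one ⟨11977, 0, 8⟩) (.one ⟨14909, 1, 7⟩)) (.node 1 (.one ⟨3000, 1, 6⟩) (.one ⟨9852, 1, 5⟩))) (.node 2 (.node 1 (.one ⟨5615, 1, 2⟩) (.one ⟨121, 0, 4⟩)) (.node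 1 (.one ⟨11535, 2, 8⟩) (.one ⟨10353, 1, 6⟩)))) (.node 4 (.node 2 (.node 1 (.one ⟨14412, 2, 2⟩) (.one ⟨7851, 1, 2⟩)) (.node 1 (.one ⟨7448, 1, 6⟩) (.one ⟨16296, 1, 8⟩))) (.node 2 (.node 1 (.one ⟨14850, 1, 4⟩) (.one ⟨312, 1, 8⟩)) (.node 1 (.one ⟨10412, 0, 5⟩) (.one ⟨14844, 2, 8⟩)))))) (.node 16 (.node 8 (.node 4 (.node 2 (.node 1 (.one ⟨13643, 2, 8⟩) (.one ⟨627, 0, 3⟩)) (.node 1 (.one ⟨15, 0, 7⟩) (.one ⟨10403, 1, 4⟩))) (.node 2 (.node 1 (.one ⟨11510, 1, 6⟩) (.one ⟨5752, 2, 4⟩)) (.node 1 (.one ⟨3104, 1, 6⟩) (.one ⟨7681, 1, 6⟩)))) (.node 4 (.node 2 (.node 1 (.one ⟨11294, 1, 9⟩) (.one ⟨7258, 0, 3⟩)) (.node 1 (.one ⟨11074, 2, 8⟩) (.one ⟨4744, 0, 5⟩))) (.node 2 (.node 1 (.one ⟨3960, 1, 8⟩) (.one ⟨11075, 2, 8⟩)) (.node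 1 (.one ⟨11077, 2, 8⟩) (.one ⟨16935, 0, 7⟩))))) (.node 8 (.node 4 (.node 2 (.node 1 (.one ⟨11759, 0, 7⟩) (.one ⟨10589, 2, 6⟩)) (.node 1 (.one ⟨5753, 1, 6⟩) (.one ⟨15567, 0, 4⟩))) (.node 2 (.node 1 (.one ⟨9695, 0, 4⟩) (.one ⟨11132, 1, 5⟩)) (.node 1 (.one ⟨16095, 0, 5⟩) (.one ⟨10094, 2, 5⟩)))) (.node 4 (.node 2 (.node 1 (.one ⟨4721, 0, 3⟩) (.one ⟨12389, 0, 5⟩)) (.node 1 (.one ⟨4925, 2, 9⟩) (.one ⟨2619, 1, 6⟩))) (.node 2 (.node 1 (.one ⟨2621, 1, 9⟩) (.one ⟨871, 1, 6⟩)) (.node 1 (.one ⟨754, 1, 9⟩) (.one ⟨728, 2, 5⟩)))))))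
def par7_2_7 : Arr Par :=
  (.node 32 (.node 16 (.node 8 (.node 4 (.node 2 (.node 1 (.one ⟨2948, 1, 5⟩) (.one ⟨4374, 1, 3⟩)) (.node 1 (.one ⟨12536, 2, 9⟩) (.one ⟨14768, 2, 5⟩))) (.node 2 (.node 1 (.one ⟨7334, 1, 3⟩) (.one ⟨7577, 0, 5⟩)) (.node 1 (.one ⟨9084, 2, 9⟩) (.one ⟨7925, 2, 9⟩)))) (.node 4 (.node 2 (.node 1 (.one ⟨5669, 1, 6⟩) (.one ⟨11100, 1, 4⟩)) (.node 1 (.one ⟨15124, 1, 9⟩) (.one ⟨8649, 2, 9⟩))) (.node 2 (.node 1 (.one ⟨2913, 0, 4⟩) (.one ⟨14365, 2, 6⟩)) (.node 1 (.one ⟨11719, 0, 4⟩) (.one ⟨5328, 0, 3⟩))))) (.node 8 (.node 4 (.node 2 (.node 1 (.one ⟨15502, 1, 2⟩) (.one ⟨1122, 1, 4⟩)) (.node 1 (.one ⟨4618, 2, 5⟩) (.one ⟨16847, 2, 4⟩))) (.node 2 (.node 1 (.one ⟨15654, 1, 5⟩) (.one ⟨2298, 2, 7⟩)) (.node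 1 (.one ⟨5332, 0, 9⟩) (.one ⟨9254, 1, 6⟩)))) (.node 4 (.node 2 (.node 1 (.one ⟨12037, 0, 8⟩) (.one ⟨4064, 0, 8⟩)) (.node 1 (.one ⟨11476, 1, 5⟩) (.one ⟨3991, 1, 0⟩))) (.node 2 (.node 1 (.one ⟨3011, 0, 3⟩) (.one ⟨5910, 2, 6⟩)) (.node 1 (.one ⟨7524, 1, 6⟩) (.one ⟨17190, 1, 3⟩)))))) (.node 16 (.node 8 (.node 4 (.node 2 (.node 1 (.one ⟨9042, 1, 2⟩) (.one ⟨12322, 2, 6⟩)) (.node 1 (.one ⟨5832, 1, 4⟩) (.one ⟨9876, 2, 3⟩))) (.node 2 (.node 1 (.one ⟨4383, 1, 8⟩) (.one ⟨10878, 1, 8⟩)) (.node 1 (.one ⟨7915, 2, 4⟩) (.one ⟨3929, 0, 8⟩)))) (.node 4 (.node 2 (.node 1 (.one ⟨13940, 1, 7⟩) (.one ⟨13474, 2, 3⟩)) (.node 1 (.one ⟨1621, 1, 5⟩) (.one ⟨10469, 2, 4⟩))) (.node 2 (.node 1 (.one ⟨4738, 2, 9⟩) (.one ⟨14469, 1, 6⟩)) (.node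 1 (.one ⟨10199, 1, 7⟩) (.one ⟨5375, 0, 5⟩))))) (.node 8 (.node 4 (.node 2 (.node 1 (.one ⟨1092, 1, 7⟩) (.one ⟨2877, 2, 4⟩)) (.node 1 (.one ⟨5773, 1, 2⟩) (.one ⟨14915, 1, 3⟩))) (.node 2 (.node 1 (.one ⟨760, 2, 4⟩) (.one ⟨10837, 2, 9⟩)) (.node 1 (.one ⟨3071, 0, 4⟩) (.one ⟨5372, 0, 2⟩)))) (.node 4 (.node 2 (.node 1 (.one ⟨10468, 2, 6⟩) (.one ⟨302, 0, 6⟩)) (.node 1 (.one ⟨11050, 1, 6⟩) (.one ⟨11406, 2, 5⟩))) (.node 2 (.node 1 (.one ⟨8175, 2, 7⟩) (.one ⟨11222, 1, 3⟩)) (.node 1 (.one ⟨2949, 1, 6⟩) (.one ⟨10661, 1, 6⟩)))))))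
def par7_2_8 : Arr Par :=
  (.node 32 (.node 16 (.node 8 (.node 4 (.node 2 (.node 1 (.one ⟨9896, 1, 6⟩) (.one ⟨11220, 1, 5⟩)) (.node 1 (.one ⟨11127, 1, 4⟩) (.one ⟨5430, 1, 7⟩))) (.node 2 (.node 1 (.one ⟨4545, 1, 6⟩) (.one ⟨4070, 1, 6⟩)) (.node 1 (.one ⟨14229, 2, 6⟩) (.one ⟨82, 1, 2⟩)))) (.node 4 (.node 2 (.node 1 (.one ⟨5480, 0, 3⟩) (.one ⟨1656, 0, 6⟩)) (.node 1 (.one ⟨13941, 2, 3⟩) (.one ⟨2751, 0, 4⟩))) (.node 2 (.node 1 (.one ⟨6857, 0, 5⟩) (.one ⟨8201, 0, 6⟩)) (.node 1 (.one ⟨4295, 0, 4⟩) (.one ⟨8779, 2, 9⟩))))) (.node 8 (.node 4 (.node 2 (.node 1 (.one ⟨10813, 1, 7⟩) (.one ⟨1775, 0, 6⟩)) (.node 1 (.one ⟨1722, 1, 7⟩) (.one ⟨2786, 1, 3⟩))) (.node 2 (.node 1 (.one ⟨9798, 1, 6⟩) (.one ⟨9829, 1, 5⟩)) (.node 1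 (.one ⟨2754, 1, 2⟩) (.one ⟨9265, 1, 8⟩)))) (.node 4 (.node 2 (.node 1 (.one ⟨14414, 1, 8⟩) (.one ⟨11837, 2, 7⟩)) (.node 1 (.one ⟨14604, 1, 6⟩) (.one ⟨5949, 1, 6⟩))) (.node 2 (.node 1 (.one ⟨14138, 2, 2⟩) (.one ⟨5686, 0, 2⟩)) (.node 1 (.one ⟨4607, 2, 7⟩) (.one ⟨16653, 1, 6⟩)))))) (.node 16 (.node 8 (.node 4 (.node 2 (.node 1 (.one ⟨15653, 1, 5⟩) (.one ⟨16919, 1, 7⟩)) (.node 1 (.one ⟨14735, 1, 9⟩) (.one ⟨3051, 1, 2⟩))) (.node 2 (.node 1 (.one ⟨5491, 1, 6⟩) (.one ⟨1735, 2, 7⟩)) (.node 1 (.one ⟨4871, 1, 4⟩) (.one ⟨3666, 0, 4⟩)))) (.node 4 (.node 2 (.node 1 (.one ⟨14844, 1, 8⟩) (.one ⟨15539, 2, 9⟩)) (.node 1 (.one ⟨12869, 0, 5⟩) (.one ⟨13572, 0, 3⟩))) (.node 2 (.node 1 (.one ⟨7478, 1, 6⟩) (.one ⟨5310, 2, 4⟩)) (.node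 1 (.one ⟨3987, 0, 7⟩) (.one ⟨13378, 1, 5⟩))))) (.node 8 (.node 4 (.node 2 (.node 1 (.one ⟨5228, 1, 2⟩) (.one ⟨12407, 0, 6⟩)) (.node 1 (.one ⟨16539, 1, 8⟩) (.one ⟨6544, 1, 4⟩))) (.node 2 (.node 1 (.one ⟨14500, 1, 4⟩) (.one ⟨7241, 0, 8⟩)) (.node 1 (.one ⟨16673, 0, 6⟩) (.one ⟨13165, 2, 8⟩)))) (.node 4 (.node 2 (.node 1 (.one ⟨2638, 2, 8⟩) (.one ⟨3984, 1, 4⟩)) (.node 1 (.one ⟨6986, 2, 4⟩) (.one ⟨13356, 0, 5⟩))) (.node 2 (.node 1 (.one ⟨1494, 0, 5⟩) (.one ⟨352, 0, 8⟩)) (.node 1 (.one ⟨13258, 0, 2⟩) (.one ⟨12431, 2, 2⟩)))))))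
def par7_2_9 : Arr Par :=
  (.node 32 (.node 16 (.node 8 (.node 4 (.node 2 (.node 1 (.one ⟨15206, 1, 9⟩) (.one ⟨12245, 2, 6⟩)) (.node 1 (.one ⟨7979, 1, 7⟩) (.one ⟨9641, 1, 3⟩))) (.node 2 (.node 1 (.one ⟨13437, 1, 4⟩) (.one ⟨5345, 1, 8⟩)) (.node 1 (.one ⟨1005, 1, 3⟩) (.one ⟨1210, 1, 4⟩)))) (.node 4 (.node 2 (.node 1 (.one ⟨6261, 2, 7⟩) (.one ⟨5164, 0, 5⟩)) (.node 1 (.one ⟨7943, 2, 5⟩) (.one ⟨1641, 2, 5⟩))) (.node 2 (.node 1 (.one ⟨671, 1, 6⟩) (.one ⟨7821, 1, 4⟩)) (.node 1 (.one ⟨1182, 0, 7⟩) (.one ⟨8471, 2, 3⟩))))) (.node 8 (.node 4 (.node 2 (.node 1 (.one ⟨1179, 0, 8⟩) (.one ⟨11983, 2, 9⟩)) (.node 1 (.one ⟨3368, 2, 8⟩) (.one ⟨10619, 1, 3⟩))) (.node 2 (.node 1 (.one ⟨8191, 2, 6⟩) (.one ⟨6318, 0, 5⟩)) (.node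 1 (.one ⟨12865, 2, 5⟩) (.one ⟨11716, 1, 3⟩)))) (.node 4 (.node 2 (.node 1 (.one ⟨16058, 1, 7⟩) (.one ⟨9503, 1, 6⟩)) (.node 1 (.one ⟨13835, 1, 3⟩) (.one ⟨6264, 1, 3⟩))) (.node 2 (.node 1 (.one ⟨6540, 0, 7⟩) (.one ⟨17073, 2, 6⟩)) (.node 1 (.one ⟨10239, 2, 4⟩) (.one ⟨2587, 1, 7⟩)))))) (.node 16 (.node 8 (.node 4 (.node 2 (.node 1 (.one ⟨14437, 1, 8⟩) (.one ⟨14757, 1, 4⟩)) (.node 1 (.one ⟨3101, 1, 8⟩) (.one ⟨12627, 1, 8⟩))) (.node 2 (.node 1 (.one ⟨14202, 2, 7⟩) (.one ⟨1489, 0, 7⟩)) (.node 1 (.one ⟨6559, 0, 7⟩) (.one ⟨6161, 1, 4⟩)))) (.node 4 (.node 2 (.node 1 (.one ⟨12192, 2, 8⟩) (.one ⟨5106, 1, 2⟩)) (.node 1 (.one ⟨9995, 2, 7⟩) (.one ⟨8177, 1, 4⟩))) (.node 2 (.node 1 (.one ⟨6521, 1, 1⟩) (.one ⟨2960, 1, 2⟩)) (.node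 1 (.one ⟨4879, 1, 4⟩) (.one ⟨1364, 1, 4⟩))))) (.node 8 (.node 4 (.node 2 (.node 1 (.one ⟨9518, 0, 8⟩) (.one ⟨2569, 2, 7⟩)) (.node 1 (.one ⟨15548, 2, 5⟩) (.one ⟨11910, 2, 4⟩))) (.node 2 (.node 1 (.one ⟨8698, 2, 6⟩) (.one ⟨2322, 1, 7⟩)) (.node 1 (.one ⟨2818, 1, 6⟩) (.one ⟨6788, 2, 5⟩)))) (.node 4 (.node 2 (.node 1 (.one ⟨1757, 1, 7⟩) (.one ⟨6153, 2, 5⟩)) (.node 1 (.one ⟨2064, 1, 6⟩) (.one ⟨1776, 1, 5⟩))) (.node 2 (.node 1 (.one ⟨9604, 0, 6⟩) (.one ⟨2154, 1, 4⟩)) (.node 1 (.one ⟨5839, 0, 7⟩) (.one ⟨1204, 1, 3⟩)))))))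
def par7_2_10 : Arr Par :=
  (.node 32 (.node 16 (.node 8 (.node 4 (.node 2 (.node 1 (.one ⟨12853, 0, 4⟩) (.one ⟨9653, 2, 3⟩)) (.node 1 (.one ⟨12518, 1, 6⟩) (.one ⟨13952, 2, 5⟩))) (.node 2 (.node 1 (.one ⟨7068, 2, 7⟩) (.one ⟨14100, 2, 5⟩)) (.node 1 (.one ⟨6698, 2, 5⟩) (.one ⟨10540, 1, 6⟩)))) (.node 4 (.node 2 (.node 1 (.one ⟨17179, 1, 3⟩) (.one ⟨852, 1, 9⟩)) (.node 1 (.one ⟨8709, 1, 4⟩) (.one ⟨6067, 1, 5⟩))) (.node 2 (.node 1 (.one ⟨4731, 1, 5⟩) (.one ⟨14571, 1, 5⟩)) (.node 1 (.one ⟨13317, 1, 8⟩) (.one ⟨9008, 2, 7⟩))))) (.node 8 (.node 4 (.node 2 (.node 1 (.one ⟨15162, 2, 7⟩) (.one ⟨14692, 2, 5⟩)) (.node 1 (.one ⟨8592, 2, 7⟩) (.one ⟨1843, 1, 9⟩))) (.node 2 (.node 1 (.one ⟨11844, 1, 7⟩) (.one ⟨1412, 1, 7⟩))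 (.node 1 (.one ⟨11605, 1, 7⟩) (.one ⟨15144, 0, 4⟩)))) (.node 4 (.node 2 (.node 1 (.one ⟨9517, 0, 8⟩) (.one ⟨5333, 1, 4⟩)) (.node 1 (.one ⟨10790, 0, 6⟩) (.one ⟨1556, 1, 5⟩))) (.node 2 (.node 1 (.one ⟨13538, 1, 6⟩) (.one ⟨2198, 2, 6⟩)) (.node 1 (.one ⟨7034, 0, 2⟩) (.one ⟨9466, 1, 5⟩)))))) (.node 16 (.node 8 (.node 4 (.node 2 (.node 1 (.one ⟨5619, 1, 7⟩) (.one ⟨15285, 1, 5⟩)) (.node 1 (.one ⟨16948, 2, 4⟩) (.one ⟨2091, 2, 8⟩))) (.node 2 (.node 1 (.one ⟨11800, 2, 7⟩) (.one ⟨9600, 0, 4⟩)) (.node 1 (.one ⟨10187, 2, 7⟩) (.one ⟨5368, 0, 3⟩)))) (.node 4 (.node 2 (.node 1 (.one ⟨3807, 0, 0⟩) (.one ⟨84, 1, 2⟩)) (.node 1 (.one ⟨7874, 0, 4⟩) (.one ⟨16190, 0, 4⟩))) (.node 2 (.node 1 (.one ⟨9603, 1, 7⟩) (.one ⟨9515, 0, 4⟩))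 (.node 1 (.one ⟨12892, 0, 6⟩) (.one ⟨5701, 1, 6⟩))))) (.node 8 (.node 4 (.node 2 (.node 1 (.one ⟨5827, 1, 2⟩) (.one ⟨5797, 0, 9⟩)) (.node 1 (.one ⟨9520, 2, 1⟩) (.one ⟨12556, 0, 8⟩))) (.node 2 (.node 1 (.one ⟨9344, 2, 7⟩) (.one ⟨16323, 1, 2⟩)) (.node 1 (.one ⟨16397, 1, 4⟩) (.one ⟨2822, 0, 3⟩)))) (.node 4 (.node 2 (.node 1 (.one ⟨11945, 1, 4⟩) (.one ⟨12882, 1, 4⟩)) (.node 1 (.one ⟨3646, 2, 7⟩) (.one ⟨13872, 0, 5⟩))) (.node 2 (.node 1 (.one ⟨3643, 2, 7⟩) (.one ⟨3050, 1, 8⟩)) (.node 1 (.one ⟨4561, 1, 5⟩) (.one ⟨3664, 2, 3⟩)))))))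
def par7_2_11 : Arr Par :=
  (.node 32 (.node 16 (.node 8 (.node 4 (.node 2 (.node 1 (.one ⟨13135, 1, 4⟩) (.one ⟨11865, 1, 3⟩)) (.node 1 (.one ⟨11323, 0, 1⟩) (.one ⟨5911, 1, 4⟩))) (.node 2 (.node 1 (.one ⟨1071, 2, 3⟩) (.one ⟨7943, 1, 5⟩)) (.node 1 (.one ⟨3672, 2, 9⟩) (.one ⟨16713, 1, 3⟩)))) (.node 4 (.node 2 (.node 1 (.one ⟨11867, 1, 7⟩) (.one ⟨3667, 2, 8⟩)) (.node 1 (.one ⟨6577, 1, 3⟩) (.one ⟨16326, 0, 6⟩))) (.node 2 (.node 1 (.one ⟨9081, 2, 6⟩) (.one ⟨17104, 1, 7⟩)) (.node 1 (.one ⟨12286, 1, 3⟩) (.one ⟨12844, 0, 3⟩))))) (.node 8 (.node 4 (.node 2 (.node 1 (.one ⟨6950, 0, 3⟩) (.one ⟨1503, 0, 3⟩)) (.node 1 (.one ⟨7386, 1, 8⟩) (.one ⟨10218, 2, 4⟩))) (.node 2 (.node 1 (.one ⟨15719, 2, 8⟩) (.one ⟨7717, 2, 3⟩))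 (.node 1 (.one ⟨2014, 2, 3⟩) (.one ⟨1114, 1, 2⟩)))) (.node 4 (.node 2 (.node 1 (.one ⟨9118, 1, 5⟩) (.one ⟨16273, 1, 7⟩)) (.node 1 (.one ⟨11074, 1, 8⟩) (.one ⟨15885, 2, 3⟩))) (.node 2 (.node 1 (.one ⟨5286, 1, 5⟩) (.one ⟨10819, 0, 5⟩)) (.node 1 (.one ⟨14662, 1, 7⟩) (.one ⟨13490, 2, 6⟩)))))) (.node 16 (.node 8 (.node 4 (.node 2 (.node 1 (.one ⟨12978, 2, 4⟩) (.one ⟨6267, 2, 7⟩)) (.node 1 (.one ⟨2805, 0, 2⟩) (.one ⟨9058, 2, 5⟩))) (.node 2 (.node 1 (.one ⟨15610, 1, 2⟩) (.one ⟨6145, 1, 10⟩)) (.node 1 (.one ⟨9357, 2, 6⟩) (.one ⟨9035, 1, 6⟩)))) (.node 4 (.node 2 (.node 1 (.one ⟨3532, 2, 8⟩) (.one ⟨508, 1, 6⟩)) (.node 1 (.one ⟨11713, 2, 7⟩) (.one ⟨698, 1, 7⟩))) (.node 2 (.node 1 (.one ⟨8916, 0, 6⟩) (.one ⟨2425, 0, 2⟩))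 (.node 1 (.one ⟨4294, 0, 7⟩) (.one ⟨2916, 0, 5⟩))))) (.node 8 (.node 4 (.node 2 (.node 1 (.one ⟨6762, 1, 4⟩) (.one ⟨13700, 2, 5⟩)) (.node 1 (.one ⟨13304, 1, 1⟩) (.one ⟨14851, 2, 5⟩))) (.node 2 (.node 1 (.one ⟨16961, 1, 9⟩) (.one ⟨891, 2, 1⟩)) (.node 1 (.one ⟨3806, 2, 3⟩) (.one ⟨1335, 2, 1⟩)))) (.node 4 (.node 2 (.node 1 (.one ⟨6860, 0, 8⟩) (.one ⟨12115, 2, 3⟩)) (.node 1 (.one ⟨4133, 2, 9⟩) (.one ⟨12085, 2, 8⟩))) (.node 2 (.node 1 (.one ⟨7058, 1, 3⟩) (.one ⟨1431, 2, 1⟩)) (.node 1 (.one ⟨12736, 0, 9⟩) (.one ⟨16447, 2, 3⟩)))))))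
def par7_2_12 : Arr Par :=
  (.node 32 (.node 16 (.node 8 (.node 4 (.node 2 (.node 1 (.one ⟨8648, 2, 1⟩) (.one ⟨353, 0, 5⟩)) (.node 1 (.one ⟨14720, 0, 5⟩) (.one ⟨14504, 1, 2⟩))) (.node 2 (.node 1 (.one ⟨676, 1, 9⟩) (.one ⟨9000, 1, 4⟩)) (.node 1 (.one ⟨5903, 2, 2⟩) (.one ⟨8319, 0, 5⟩)))) (.node 4 (.node 2 (.node 1 (.one ⟨6578, 0, 6⟩) (.one ⟨15658, 1, 8⟩)) (.node 1 (.one ⟨13086, 2, 7⟩) (.one ⟨11312, 2, 3⟩))) (.node 2 (.node 1 (.one ⟨15940, 0, 7⟩) (.one ⟨4468, 2, 3⟩)) (.node 1 (.one ⟨9099, 2, 3⟩) (.one ⟨9555, 1, 4⟩))))) (.node 8 (.node 4 (.node 2 (.node 1 (.one ⟨3845, 2, 4⟩) (.one ⟨3358, 0, 7⟩)) (.node 1 (.one ⟨9812, 2, 3⟩) (.one ⟨10782, 0, 9⟩))) (.node 2 (.node 1 (.one ⟨16602, 0, 8⟩) (.one ⟨5119, 0, 5⟩)) (.node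 1 (.one ⟨16922, 1, 10⟩) (.one ⟨6966, 0, 8⟩)))) (.node 4 (.node 2 (.node 1 (.one ⟨6299, 0, 8⟩) (.one ⟨10256, 0, 7⟩)) (.node 1 (.one ⟨11251, 0, 3⟩) (.one ⟨2006, 1, 2⟩))) (.node 2 (.node 1 (.one ⟨10743, 2, 8⟩) (.one ⟨10391, 2, 6⟩)) (.node 1 (.one ⟨11166, 1, 6⟩) (.one ⟨4897, 2, 8⟩)))))) (.node 16 (.node 8 (.node 4 (.node 2 (.node 1 (.one ⟨10921, 2, 4⟩) (.one ⟨10265, 0, 4⟩)) (.node 1 (.one ⟨6913, 2, 3⟩) (.one ⟨8153, 2, 8⟩))) (.node 2 (.node 1 (.one ⟨14423, 2, 3⟩) (.one ⟨7955, 1, 6⟩)) (.node 1 (.one ⟨15074, 1, 8⟩) (.one ⟨8632, 1, 4⟩)))) (.node 4 (.node 2 (.node 1 (.one ⟨16712, 1, 2⟩) (.one ⟨568, 1, 7⟩)) (.node 1 (.one ⟨9321, 1, 2⟩) (.one ⟨10560, 2, 4⟩))) (.node 2 (.node 1 (.one ⟨15373, 2, 3⟩) (.one ⟨7394, 1, 5⟩))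 (.node 1 (.one ⟨15450, 1, 4⟩) (.one ⟨16655, 1, 8⟩))))) (.node 8 (.node 4 (.node 2 (.node 1 (.one ⟨11371, 2, 6⟩) (.one ⟨4304, 0, 9⟩)) (.node 1 (.one ⟨2299, 1, 6⟩) (.one ⟨14786, 2, 8⟩))) (.node 2 (.node 1 (.one ⟨15897, 1, 4⟩) (.one ⟨16011, 0, 9⟩)) (.node 1 (.one ⟨10316, 2, 2⟩) (.one ⟨2867, 0, 9⟩)))) (.node 4 (.node 2 (.node 1 (.one ⟨17178, 1, 6⟩) (.one ⟨15733, 2, 5⟩)) (.node 1 (.one ⟨11369, 2, 4⟩) (.one ⟨14850, 2, 4⟩))) (.node 2 (.node 1 (.one ⟨12065, 2, 4⟩) (.one ⟨17143, 1, 3⟩)) (.node 1 (.one ⟨422, 2, 4⟩) (.one ⟨8267, 2, 7⟩)))))))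
def par7_2_13 : Arr Par :=
  (.node 32 (.node 16 (.node 8 (.node 4 (.node 2 (.node 1 (.one ⟨13951, 0, 5⟩) (.one ⟨13969, 1, 2⟩)) (.node 1 (.one ⟨15091, 2, 7⟩) (.one ⟨6651, 2, 3⟩))) (.node 2 (.node 1 (.one ⟨8322, 1, 4⟩) (.one ⟨2910, 0, 7⟩)) (.node 1 (.one ⟨8837, 1, 3⟩) (.one ⟨6132, 1, 2⟩)))) (.node 4 (.node 2 (.node 1 (.one ⟨14412, 1, 2⟩) (.one ⟨5558, 1, 6⟩)) (.node 1 (.one ⟨6535, 2, 8⟩) (.one ⟨16873, 2, 7⟩))) (.node 2 (.node 1 (.one ⟨5877, 2, 9⟩) (.one ⟨2665, 2, 3⟩)) (.node 1 (.one ⟨12505, 1, 4⟩) (.one ⟨349, 2, 5⟩))))) (.node 8 (.node 4 (.node 2 (.node 1 (.one ⟨144, 2, 5⟩) (.one ⟨1011, 2, 7⟩)) (.node 1 (.one ⟨17029, 1, 6⟩) (.one ⟨535, 2, 5⟩))) (.node 2 (.node 1 (.one ⟨242, 2, 3⟩) (.one ⟨936, 2, 8⟩)) (.node 1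 (.one ⟨716, 2, 8⟩) (.one ⟨8802, 2, 1⟩)))) (.node 4 (.node 2 (.node 1 (.one ⟨15857, 2, 4⟩) (.one ⟨16872, 2, 6⟩)) (.node 1 (.one ⟨7800, 2, 4⟩) (.one ⟨57, 2, 4⟩))) (.node 2 (.node 1 (.one ⟨4107, 1, 10⟩) (.one ⟨106, 1, 7⟩)) (.node 1 (.one ⟨3370, 2, 6⟩) (.one ⟨1900, 0, 4⟩)))))) (.node 16 (.node 8 (.node 4 (.node 2 (.node 1 (.one ⟨14428, 1, 3⟩) (.one ⟨14423, 0, 3⟩)) (.node 1 (.one ⟨11423, 0, 6⟩) (.one ⟨13943, 0, 4⟩))) (.node 2 (.node 1 (.one ⟨13505, 2, 4⟩) (.one ⟨7674, 1, 8⟩)) (.node 1 (.one ⟨7569, 0, 4⟩) (.one ⟨226, 2, 7⟩)))) (.node 4 (.node 2 (.node 1 (.one ⟨7671, 1, 4⟩) (.one ⟨14230, 1, 6⟩)) (.node 1 (.one ⟨2271, 2, 4⟩) (.one ⟨13005, 1, 2⟩))) (.node 2 (.node 1 (.one ⟨3045, 1, 3⟩) (.one ⟨12716, 1, 2⟩)) (.node 1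 (.one ⟨2790, 1, 7⟩) (.one ⟨12264, 0, 4⟩))))) (.node 8 (.node 4 (.node 2 (.node 1 (.one ⟨8895, 0, 4⟩) (.one ⟨3832, 1, 0⟩)) (.node 1 (.one ⟨6684, 0, 4⟩) (.one ⟨9284, 2, 1⟩))) (.node 2 (.node 1 (.one ⟨5271, 2, 7⟩) (.one ⟨1382, 2, 3⟩)) (.node 1 (.one ⟨6664, 1, 8⟩) (.one ⟨10363, 2, 7⟩)))) (.node 4 (.node 2 (.node 1 (.one ⟨15901, 1, 10⟩) (.one ⟨2284, 2, 7⟩)) (.node 1 (.one ⟨8931, 1, 5⟩) (.one ⟨15680, 1, 5⟩))) (.node 2 (.node 1 (.one ⟨2090, 2, 7⟩) (.one ⟨8787, 1, 7⟩)) (.node 1 (.one ⟨10185, 2, 7⟩) (.one ⟨16746, 2, 7⟩)))))))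
def par7_2_14 : Arr Par :=
  (.node 32 (.node 16 (.node 8 (.node 4 (.node 2 (.node 1 (.one ⟨8296, 1, 5⟩) (.one ⟨3527, 2, 6⟩)) (.node 1 (.one ⟨5011, 1, 7⟩) (.one ⟨7864, 2, 7⟩))) (.node 2 (.node 1 (.one ⟨7256, 1, 4⟩) (.one ⟨12566, 1, 5⟩)) (.node 1 (.one ⟨14231, 2, 5⟩) (.one ⟨828, 2, 5⟩)))) (.node 4 (.node 2 (.node 1 (.one ⟨16772, 1, 6⟩) (.one ⟨4030, 2, 5⟩)) (.node 1 (.one ⟨12750, 1, 9⟩) (.one ⟨15913, 1, 5⟩))) (.node 2 (.node 1 (.one ⟨9868, 1, 10⟩) (.one ⟨12430, 2, 7⟩)) (.node 1 (.one ⟨12343, 2, 7⟩) (.one ⟨3501, 1, 6⟩))))) (.node 8 (.node 4 (.node 2 (.node 1 (.one ⟨4049, 2, 1⟩) (.one ⟨13996, 1, 8⟩)) (.node 1 (.one ⟨15554, 1, 6⟩) (.one ⟨8927, 1, 4⟩))) (.node 2 (.node 1 (.one ⟨7918, 1, 8⟩) (.one ⟨11925, 1, 3⟩))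 (.node 1 (.one ⟨11545, 0, 4⟩) (.one ⟨2051, 1, 7⟩)))) (.node 4 (.node 2 (.node 1 (.one ⟨13702, 2, 5⟩) (.one ⟨14933, 1, 8⟩)) (.node 1 (.one ⟨11963, 1, 4⟩) (.one ⟨1979, 0, 3⟩))) (.node 2 (.node 1 (.one ⟨5277, 2, 4⟩) (.one ⟨130, 2, 4⟩)) (.node 1 (.one ⟨13200, 2, 4⟩) (.one ⟨11908, 1, 8⟩)))))) (.node 16 (.node 8 (.node 4 (.node 2 (.node 1 (.one ⟨8876, 2, 8⟩) (.one ⟨2768, 1, 4⟩)) (.node 1 (.one ⟨392, 0, 3⟩) (.one ⟨8111, 2, 4⟩))) (.node 2 (.node 1 (.one ⟨12653, 1, 6⟩) (.one ⟨884, 0, 8⟩)) (.node 1 (.one ⟨1857, 1, 6⟩) (.one ⟨16494, 0, 6⟩)))) (.node 4 (.node 2 (.node 1 (.one ⟨13295, 2, 7⟩) (.one ⟨9968, 1, 6⟩)) (.node 1 (.one ⟨7754, 0, 4⟩) (.one ⟨4436, 2, 4⟩))) (.node 2 (.node 1 (.one ⟨13547, 2, 2⟩) (.one ⟨12373, 1, 7⟩))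 (.node 1 (.one ⟨7258, 1, 3⟩) (.one ⟨16857, 1, 6⟩))))) (.node 8 (.node 4 (.node 2 (.node 1 (.one ⟨13336, 1, 4⟩) (.one ⟨10966, 1, 8⟩)) (.node 1 (.one ⟨3867, 0, 6⟩) (.one ⟨12139, 0, 6⟩))) (.node 2 (.node 1 (.one ⟨12561, 1, 5⟩) (.one ⟨9370, 0, 4⟩)) (.node 1 (.one ⟨15650, 2, 3⟩) (.one ⟨11809, 1, 9⟩)))) (.node 4 (.node 2 (.node 1 (.one ⟨5013, 1, 5⟩) (.one ⟨13086, 1, 7⟩)) (.node 1 (.one ⟨3758, 1, 5⟩) (.one ⟨11792, 1, 9⟩))) (.node 2 (.node 1 (.one ⟨10148, 2, 5⟩) (.one ⟨10979, 0, 5⟩)) (.node 1 (.one ⟨3741, 1, 5⟩) (.one ⟨16391, 0, 1⟩)))))))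
def par7_2_15 : Arr Par :=
  (.node 32 (.node 16 (.node 8 (.node 4 (.node 2 (.node 1 (.one ⟨16391, 1, 1⟩) (.one ⟨1105, 2, 5⟩)) (.node 1 (.one ⟨4917, 1, 9⟩) (.one ⟨5530, 0, 2⟩))) (.node 2 (.node 1 (.one ⟨11365, 1, 2⟩) (.one ⟨1426, 0, 6⟩)) (.node 1 (.one ⟨5825, 1, 6⟩) (.one ⟨5191, 1, 7⟩)))) (.node 4 (.node 2 (.node 1 (.one ⟨11836, 0, 8⟩) (.one ⟨14364, 2, 7⟩)) (.node 1 (.one ⟨5150, 2, 4⟩) (.one ⟨11831, 0, 6⟩))) (.node 2 (.node 1 (.one ⟨1017, 2, 7⟩) (.one ⟨5059, 1, 9⟩)) (.node 1 (.one ⟨1107, 2, 5⟩) (.one ⟨11984, 2, 2⟩))))) (.node 8 (.node 4 (.node 2 (.node 1 (.one ⟨686, 1, 5⟩) (.one ⟨8493, 1, 7⟩)) (.node 1 (.one ⟨9526, 0, 7⟩) (.one ⟨16122, 0, 5⟩))) (.node 2 (.node 1 (.one ⟨11203, 2, 4⟩) (.one ⟨2850, 0, 4⟩)) (.node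 1 (.one ⟨12796, 2, 5⟩) (.one ⟨10215, 1, 3⟩)))) (.node 4 (.node 2 (.node 1 (.one ⟨275, 0, 9⟩) (.one ⟨627, 1, 3⟩)) (.node 1 (.one ⟨6573, 1, 3⟩) (.one ⟨11931, 2, 4⟩))) (.node 2 (.node 1 (.one ⟨13669, 1, 4⟩) (.one ⟨2383, 1, 3⟩)) (.node 1 (.one ⟨6160, 1, 5⟩) (.one ⟨8380, 1, 7⟩)))))) (.node 16 (.node 8 (.node 4 (.node 2 (.node 1 (.one ⟨800, 1, 7⟩) (.one ⟨951, 1, 7⟩)) (.node 1 (.one ⟨9694, 2, 8⟩) (.one ⟨8378, 1, 7⟩))) (.node 2 (.node 1 (.one ⟨387, 1, 7⟩) (.one ⟨5827, 0, 2⟩)) (.node 1 (.one ⟨8376, 1, 7⟩) (.one ⟨10327, 1, 3⟩)))) (.node 4 (.node 2 (.node 1 (.one ⟨2223, 1, 4⟩) (.one ⟨10302, 1, 7⟩)) (.node 1 (.one ⟨12663, 0, 7⟩) (.one ⟨10313, 1, 1⟩))) (.node 2 (.node 1 (.one ⟨2271, 1, 4⟩) (.one ⟨10349, 1, 5⟩)) (.node 1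 (.one ⟨2245, 1, 6⟩) (.one ⟨8729, 1, 7⟩))))) (.node 8 (.node 4 (.node 2 (.node 1 (.one ⟨4023, 0, 7⟩) (.one ⟨10638, 0, 7⟩)) (.node 1 (.one ⟨8395, 2, 6⟩) (.one ⟨4108, 2, 4⟩))) (.node 2 (.node 1 (.one ⟨3679, 1, 3⟩) (.one ⟨15591, 2, 6⟩)) (.node 1 (.one ⟨3782, 0, 7⟩) (.one ⟨3018, 0, 5⟩)))) (.node 4 (.node 2 (.node 1 (.one ⟨9528, 0, 4⟩) (.one ⟨8200, 2, 3⟩)) (.node 1 (.one ⟨8508, 1, 6⟩) (.one ⟨6581, 0, 5⟩))) (.node 2 (.node 1 (.one ⟨9709, 2, 8⟩) (.one ⟨1156, 1, 7⟩)) (.node 1 (.one ⟨14657, 1, 6⟩) (.one ⟨7511, 2, 3⟩)))))))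
def par7_2 : Arr Par :=
  (.node 512 (.node 256 (.node 128 (.node 64 par7_2_0 par7_2_1) (.node 64 par7_2_2 par7_2_3)) (.node 128 (.node 64 par7_2_4 par7_2_5) (.node 64 par7_2_6 par7_2_7))) (.node 256 (.node 128 (.node 64 par7_2_8 par7_2_9) (.node 64 par7_2_10 par7_2_11)) (.node 128 (.node 64 par7_2_12 par7_2_13) (.node 64 par7_2_14 par7_2_15))))
def par7_3_0 : Arr Par :=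
  (.node 32 (.node 16 (.node 8 (.node 4 (.node 2 (.node 1 (.one ⟨13166, 1, 5⟩) (.one ⟨17183, 2, 9⟩)) (.node 1 (.one ⟨12683, 1, 5⟩) (.one ⟨16199, 1, 4⟩))) (.node 2 (.node 1 (.one ⟨8501, 1, 2⟩) (.one ⟨15810, 1, 4⟩)) (.node 1 (.one ⟨13546, 2, 6⟩) (.one ⟨6037, 2, 7⟩)))) (.node 4 (.node 2 (.node 1 (.one ⟨13976, 1, 2⟩) (.one ⟨7386, 2, 8⟩)) (.node 1 (.one ⟨11870, 0, 4⟩) (.one ⟨293, 0, 4⟩))) (.node 2 (.node 1 (.one ⟨13639, 1, 4⟩) (.one ⟨16801, 1, 5⟩)) (.node 1 (.one ⟨7503, 2, 7⟩) (.one ⟨1993, 1, 6⟩))))) (.node 8 (.node 4 (.node 2 (.node 1 (.one ⟨6894, 1, 8⟩) (.one ⟨15555, 1, 7⟩)) (.node 1 (.one ⟨10673, 1, 2⟩) (.one ⟨846, 1, 5⟩))) (.node 2 (.node 1 (.one ⟨1901, 2, 2⟩) (.one ⟨15435, 1, 6⟩)) (.node 1 (.one ⟨10300, 1,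 4⟩) (.one ⟨9195, 1, 3⟩)))) (.node 4 (.node 2 (.node 1 (.one ⟨10674, 1, 7⟩) (.one ⟨6567, 1, 6⟩)) (.node 1 (.one ⟨5910, 1, 6⟩) (.one ⟨1466, 2, 3⟩))) (.node 2 (.node 1 (.one ⟨15958, 1, 6⟩) (.one ⟨9372, 0, 7⟩)) (.node 1 (.one ⟨3919, 1, 8⟩) (.one ⟨12126, 2, 3⟩)))))) (.node 16 (.node 8 (.node 4 (.node 2 (.node 1 (.one ⟨9580, 0, 5⟩) (.one ⟨14563, 2, 6⟩)) (.node 1 (.one ⟨881, 1, 7⟩) (.one ⟨7716, 2, 3⟩))) (.node 2 (.node 1 (.one ⟨710, 0, 3⟩) (.one ⟨2013, 2, 7⟩)) (.node 1 (.one ⟨10345, 1, 8⟩) (.one ⟨1464, 2, 6⟩)))) (.node 4 (.node 2 (.node 1 (.one ⟨2223, 0, 4⟩) (.one ⟨1431, 0, 1⟩)) (.node 1 (.one ⟨10761, 1, 4⟩) (.one ⟨5369, 2, 5⟩))) (.node 2 (.node 1 (.one ⟨7680, 2, 4⟩) (.one ⟨13983, 1, 9⟩)) (.node 1 (.one ⟨7399, 0,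 2⟩) (.one ⟨9261, 0, 5⟩))))) (.node 8 (.node 4 (.node 2 (.node 1 (.one ⟨16810, 2, 3⟩) (.one ⟨5563, 1, 6⟩)) (.node 1 (.one ⟨11236, 1, 3⟩) (.one ⟨5444, 1, 3⟩))) (.node 2 (.node 1 (.one ⟨16085, 1, 6⟩) (.one ⟨14828, 2, 6⟩)) (.node 1 (.one ⟨16328, 1, 6⟩) (.one ⟨5357, 1, 5⟩)))) (.node 4 (.node 2 (.node 1 (.one ⟨9958, 2, 7⟩) (.one ⟨555, 2, 5⟩)) (.node 1 (.one ⟨10045, 1, 2⟩) (.one ⟨1347, 0, 5⟩))) (.node 2 (.node 1 (.one ⟨12992, 2, 5⟩) (.one ⟨13293, 1, 7⟩)) (.node 1 (.one ⟨9661, 2, 5⟩) (.one ⟨14163, 1, 4⟩)))))))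
def par7_3_1 : Arr Par :=
  (.node 32 (.node 16 (.node 8 (.node 4 (.node 2 (.node 1 (.one ⟨6729, 2, 5⟩) (.one ⟨9258, 0, 3⟩)) (.node 1 (.one ⟨2436, 0, 6⟩) (.one ⟨15744, 0, 7⟩))) (.node 2 (.node 1 (.one ⟨15725, 1, 7⟩) (.one ⟨15435, 0, 6⟩)) (.node 1 (.one ⟨6612, 0, 6⟩) (.one ⟨1349, 0, 3⟩)))) (.node 4 (.node 2 (.node 1 (.one ⟨6262, 0, 4⟩) (.one ⟨9531, 1, 5⟩)) (.node 1 (.one ⟨6122, 1, 6⟩) (.one ⟨5658, 2, 3⟩))) (.node 2 (.node 1 (.one ⟨4527, 1, 6⟩) (.one ⟨12835, 2, 3⟩)) (.node 1 (.one ⟨15136, 0, 4⟩) (.one ⟨14110, 2, 3⟩))))) (.node 8 (.node 4 (.node 2 (.node 1 (.one ⟨6155, 1, 3⟩) (.one ⟨7572, 1, 3⟩)) (.node 1 (.one ⟨14103, 2, 7⟩) (.one ⟨16329, 1, 3⟩))) (.node 2 (.node 1 (.one ⟨12185, 1, 6⟩) (.one ⟨12782, 1, 2⟩)) (.node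 1 (.one ⟨12452, 0, 5⟩) (.one ⟨9693, 1, 9⟩)))) (.node 4 (.node 2 (.node 1 (.one ⟨16360, 1, 5⟩) (.one ⟨4622, 2, 6⟩)) (.node 1 (.one ⟨16550, 0, 7⟩) (.one ⟨16331, 1, 5⟩))) (.node 2 (.node 1 (.one ⟨9751, 1, 4⟩) (.one ⟨1317, 1, 3⟩)) (.node 1 (.one ⟨8312, 1, 9⟩) (.one ⟨8696, 2, 9⟩)))))) (.node 16 (.node 8 (.node 4 (.node 2 (.node 1 (.one ⟨3249, 2, 7⟩) (.one ⟨7144, 0, 4⟩)) (.node 1 (.one ⟨13038, 2, 7⟩) (.one ⟨8790, 2, 9⟩))) (.node 2 (.node 1 (.one ⟨2946, 2, 8⟩) (.one ⟨7451, 0, 4⟩)) (.node 1 (.one ⟨12236, 0, 4⟩) (.one ⟨8950, 1, 3⟩)))) (.node 4 (.node 2 (.node 1 (.one ⟨4129, 1, 0⟩) (.one ⟨8448, 0, 6⟩)) (.node 1 (.one ⟨10113, 2, 4⟩) (.one ⟨9820, 2, 4⟩))) (.node 2 (.node 1 (.one ⟨10223, 1, 3⟩) (.one ⟨12542, 2, 2⟩)) (.node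 1 (.one ⟨12266, 1, 5⟩) (.one ⟨11637, 1, 3⟩))))) (.node 8 (.node 4 (.node 2 (.node 1 (.one ⟨9278, 2, 3⟩) (.one ⟨10665, 1, 4⟩)) (.node 1 (.one ⟨9173, 0, 3⟩) (.one ⟨2105, 1, 2⟩))) (.node 2 (.node 1 (.one ⟨10530, 1, 5⟩) (.one ⟨4011, 1, 8⟩)) (.node 1 (.one ⟨11503, 2, 4⟩) (.one ⟨3880, 1, 4⟩)))) (.node 4 (.node 2 (.node 1 (.one ⟨7465, 2, 1⟩) (.one ⟨8343, 0, 6⟩)) (.node 1 (.one ⟨6269, 2, 1⟩) (.one ⟨1484, 0, 5⟩))) (.node 2 (.node 1 (.one ⟨2823, 2, 6⟩) (.one ⟨2299, 2, 6⟩)) (.node 1 (.one ⟨4007, 1, 8⟩) (.one ⟨12091, 2, 9⟩)))))))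
def par7_3_2 : Arr Par :=
  (.node 32 (.node 16 (.node 8 (.node 4 (.node 2 (.node 1 (.one ⟨11409, 0, 4⟩) (.one ⟨13941, 1, 3⟩)) (.node 1 (.one ⟨16615, 1, 7⟩) (.one ⟨14677, 2, 5⟩))) (.node 2 (.node 1 (.one ⟨8980, 2, 5⟩) (.one ⟨10777, 0, 6⟩)) (.node 1 (.one ⟨13444, 2, 9⟩) (.one ⟨12139, 1, 6⟩)))) (.node 4 (.node 2 (.node 1 (.one ⟨9255, 1, 2⟩) (.one ⟨5294, 2, 7⟩)) (.node 1 (.one ⟨9170, 0, 5⟩) (.one ⟨7401, 1, 3⟩))) (.node 2 (.node 1 (.one ⟨8483, 1, 4⟩) (.one ⟨95, 2, 5⟩)) (.node 1 (.one ⟨14570, 0, 5⟩) (.one ⟨3964, 1, 7⟩))))) (.node 8 (.node 4 (.node 2 (.node 1 (.one ⟨8128, 2, 4⟩) (.one ⟨1222, 2, 6⟩)) (.node 1 (.one ⟨12021, 1, 7⟩) (.one ⟨10473, 2, 7⟩))) (.node 2 (.node 1 (.one ⟨4008, 1, 9⟩) (.one ⟨1479, 0, 4⟩)) (.node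 1 (.one ⟨3978, 1, 7⟩) (.one ⟨17, 1, 6⟩)))) (.node 4 (.node 2 (.node 1 (.one ⟨4134, 1, 8⟩) (.one ⟨2107, 1, 2⟩)) (.node 1 (.one ⟨14362, 2, 3⟩) (.one ⟨97, 2, 1⟩))) (.node 2 (.node 1 (.one ⟨2802, 2, 2⟩) (.one ⟨1907, 1, 8⟩)) (.node 1 (.one ⟨15984, 2, 7⟩) (.one ⟨12259, 1, 5⟩)))))) (.node 16 (.node 8 (.node 4 (.node 2 (.node 1 (.one ⟨3683, 2, 7⟩) (.one ⟨13159, 1, 4⟩)) (.node 1 (.one ⟨6511, 1, 5⟩) (.one ⟨7635, 1, 6⟩))) (.node 2 (.node 1 (.one ⟨11021, 1, 5⟩) (.one ⟨8495, 1, 4⟩)) (.node 1 (.one ⟨9760, 1, 3⟩) (.one ⟨2621, 2, 9⟩)))) (.node 4 (.node 2 (.node 1 (.one ⟨3603, 1, 6⟩) (.one ⟨1474, 0, 6⟩)) (.node 1 (.one ⟨5808, 0, 9⟩) (.one ⟨16741, 1, 4⟩))) (.node 2 (.node 1 (.one ⟨4937, 0, 6⟩) (.one ⟨10768, 1, 6⟩)) (.node 1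 (.one ⟨9734, 1, 6⟩) (.one ⟨5031, 0, 3⟩))))) (.node 8 (.node 4 (.node 2 (.node 1 (.one ⟨13261, 0, 7⟩) (.one ⟨5802, 1, 6⟩)) (.node 1 (.one ⟨4393, 0, 7⟩) (.one ⟨16369, 2, 6⟩))) (.node 2 (.node 1 (.one ⟨3461, 1, 9⟩) (.one ⟨14024, 1, 9⟩)) (.node 1 (.one ⟨6502, 2, 6⟩) (.one ⟨11949, 1, 6⟩)))) (.node 4 (.node 2 (.node 1 (.one ⟨6827, 1, 5⟩) (.one ⟨9547, 1, 1⟩)) (.node 1 (.one ⟨2767, 2, 4⟩) (.one ⟨4845, 0, 6⟩))) (.node 2 (.node 1 (.one ⟨10858, 0, 4⟩) (.one ⟨3227, 0, 2⟩)) (.node 1 (.one ⟨11021, 2, 5⟩) (.one ⟨16586, 0, 6⟩)))))))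
def par7_3_3 : Arr Par :=
  (.node 32 (.node 16 (.node 8 (.node 4 (.node 2 (.node 1 (.one ⟨10828, 1, 5⟩) (.one ⟨60, 2, 7⟩)) (.node 1 (.one ⟨7303, 2, 7⟩) (.one ⟨11649, 0, 4⟩))) (.node 2 (.node 1 (.one ⟨10370, 2, 8⟩) (.one ⟨4573, 1, 6⟩)) (.node 1 (.one ⟨7051, 0, 7⟩) (.one ⟨4000, 1, 0⟩)))) (.node 4 (.node 2 (.node 1 (.one ⟨3353, 0, 7⟩) (.one ⟨12142, 1, 3⟩)) (.node 1 (.one ⟨15843, 1, 6⟩) (.one ⟨16023, 1, 4⟩))) (.node 2 (.node 1 (.one ⟨17065, 0, 3⟩) (.one ⟨16943, 1, 4⟩)) (.node 1 (.one ⟨2440, 2, 6⟩) (.one ⟨7905, 1, 5⟩))))) (.node 8 (.node 4 (.node 2 (.node 1 (.one ⟨3947, 1, 0⟩) (.one ⟨3923, 1, 0⟩)) (.node 1 (.one ⟨1355, 2, 5⟩) (.one ⟨11826, 1, 4⟩))) (.node 2 (.node 1 (.one ⟨7158, 2, 7⟩) (.one ⟨3423, 2, 4⟩)) (.node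 1 (.one ⟨8564, 2, 8⟩) (.one ⟨9183, 1, 6⟩)))) (.node 4 (.node 2 (.node 1 (.one ⟨17060, 1, 2⟩) (.one ⟨4511, 2, 4⟩)) (.node 1 (.one ⟨7557, 1, 7⟩) (.one ⟨401, 1, 9⟩))) (.node 2 (.node 1 (.one ⟨9006, 1, 8⟩) (.one ⟨11897, 1, 7⟩)) (.node 1 (.one ⟨15629, 1, 4⟩) (.one ⟨2743, 2, 4⟩)))))) (.node 16 (.node 8 (.node 4 (.node 2 (.node 1 (.one ⟨11177, 2, 4⟩) (.one ⟨8541, 2, 3⟩)) (.node 1 (.one ⟨142, 1, 5⟩) (.one ⟨9719, 1, 5⟩))) (.node 2 (.node 1 (.one ⟨9965, 2, 9⟩) (.one ⟨8001, 2, 4⟩)) (.node 1 (.one ⟨15862, 2, 4⟩) (.one ⟨5493, 2, 6⟩)))) (.node 4 (.node 2 (.node 1 (.one ⟨16499, 0, 7⟩) (.one ⟨15658, 2, 8⟩)) (.node 1 (.one ⟨11145, 2, 7⟩) (.one ⟨6405, 2, 8⟩))) (.node 2 (.node 1 (.one ⟨12983, 1, 2⟩) (.one ⟨12057, 2, 3⟩)) (.node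 1 (.one ⟨341, 1, 6⟩) (.one ⟨16869, 0, 2⟩))))) (.node 8 (.node 4 (.node 2 (.node 1 (.one ⟨1842, 1, 7⟩) (.one ⟨2735, 1, 7⟩)) (.node 1 (.one ⟨8809, 0, 5⟩) (.one ⟨12293, 0, 6⟩))) (.node 2 (.node 1 (.one ⟨8864, 2, 9⟩) (.one ⟨5523, 1, 4⟩)) (.node 1 (.one ⟨16248, 2, 9⟩) (.one ⟨911, 0, 9⟩)))) (.node 4 (.node 2 (.node 1 (.one ⟨9570, 1, 4⟩) (.one ⟨1911, 0, 5⟩)) (.node 1 (.one ⟨4241, 1, 7⟩) (.one ⟨3804, 1, 3⟩))) (.node 2 (.node 1 (.one ⟨9857, 1, 5⟩) (.one ⟨6835, 2, 4⟩)) (.node 1 (.one ⟨10970, 2, 8⟩) (.one ⟨12681, 2, 3⟩)))))))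
def par7_3_4 : Arr Par :=
  (.node 32 (.node 16 (.node 8 (.node 4 (.node 2 (.node 1 (.one ⟨14709, 2, 8⟩) (.one ⟨12256, 0, 9⟩)) (.node 1 (.one ⟨9643, 2, 7⟩) (.one ⟨7612, 0, 5⟩))) (.node 2 (.node 1 (.one ⟨7836, 2, 8⟩) (.one ⟨5654, 1, 2⟩)) (.node 1 (.one ⟨7103, 0, 6⟩) (.one ⟨5391, 2, 5⟩)))) (.node 4 (.node 2 (.node 1 (.one ⟨1117, 1, 3⟩) (.one ⟨12507, 2, 1⟩)) (.node 1 (.one ⟨17053, 1, 5⟩) (.one ⟨16032, 2, 3⟩))) (.node 2 (.node 1 (.one ⟨10881, 2, 3⟩) (.one ⟨13408, 1, 3⟩)) (.node 1 (.one ⟨14643, 1, 7⟩) (.one ⟨5615, 0, 2⟩))))) (.node 8 (.node 4 (.node 2 (.node 1 (.one ⟨5272, 1, 5⟩) (.one ⟨7660, 1, 6⟩)) (.node 1 (.one ⟨12345, 2, 4⟩) (.one ⟨982, 2, 7⟩))) (.node 2 (.node 1 (.one ⟨9750, 2, 7⟩) (.one ⟨4220, 2, 8⟩)) (.node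 1 (.one ⟨12380, 2, 7⟩) (.one ⟨9700, 2, 8⟩)))) (.node 4 (.node 2 (.node 1 (.one ⟨5174, 1, 4⟩) (.one ⟨9633, 2, 6⟩)) (.node 1 (.one ⟨5319, 1, 8⟩) (.one ⟨10799, 0, 3⟩))) (.node 2 (.node 1 (.one ⟨7323, 2, 7⟩) (.one ⟨15242, 2, 5⟩)) (.node 1 (.one ⟨7119, 2, 6⟩) (.one ⟨4558, 1, 3⟩)))))) (.node 16 (.node 8 (.node 4 (.node 2 (.node 1 (.one ⟨5977, 2, 6⟩) (.one ⟨13705, 2, 8⟩)) (.node 1 (.one ⟨15068, 2, 7⟩) (.one ⟨12839, 1, 9⟩))) (.node 2 (.node 1 (.one ⟨14961, 2, 3⟩) (.one ⟨9624, 1, 6⟩)) (.node 1 (.one ⟨12590, 1, 3⟩) (.one ⟨11190, 2, 6⟩)))) (.node 4 (.node 2 (.node 1 (.one ⟨1316, 1, 7⟩) (.one ⟨7122, 0, 5⟩)) (.node 1 (.one ⟨8958, 0, 5⟩) (.one ⟨16403, 1, 7⟩))) (.node 2 (.node 1 (.one ⟨7863, 0, 3⟩) (.one ⟨15624, 1, 8⟩)) (.node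 1 (.one ⟨1743, 2, 4⟩) (.one ⟨4889, 1, 6⟩))))) (.node 8 (.node 4 (.node 2 (.node 1 (.one ⟨662, 2, 5⟩) (.one ⟨6385, 2, 5⟩)) (.node 1 (.one ⟨6064, 2, 4⟩) (.one ⟨12014, 0, 3⟩))) (.node 2 (.node 1 (.one ⟨13684, 2, 4⟩) (.one ⟨12959, 1, 5⟩)) (.node 1 (.one ⟨1075, 0, 4⟩) (.one ⟨15393, 1, 4⟩)))) (.node 4 (.node 2 (.node 1 (.one ⟨6582, 2, 5⟩) (.one ⟨8297, 0, 3⟩)) (.node 1 (.one ⟨3308, 2, 3⟩) (.one ⟨6347, 2, 8⟩))) (.node 2 (.node 1 (.one ⟨2329, 2, 4⟩) (.one ⟨660, 2, 1⟩)) (.node 1 (.one ⟨2834, 1, 4⟩) (.one ⟨1808, 1, 2⟩)))))))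
def par7_3_5 : Arr Par :=
  (.node 32 (.node 16 (.node 8 (.node 4 (.node 2 (.node 1 (.one ⟨10386, 1, 4⟩) (.one ⟨9594, 0, 8⟩)) (.node 1 (.one ⟨8688, 1, 8⟩) (.one ⟨8973, 2, 4⟩))) (.node 2 (.node 1 (.one ⟨7312, 0, 5⟩) (.one ⟨6806, 1, 1⟩)) (.node 1 (.one ⟨8654, 2, 9⟩) (.one ⟨4437, 0, 3⟩)))) (.node 4 (.node 2 (.node 1 (.one ⟨15002, 1, 6⟩) (.one ⟨13583, 2, 3⟩)) (.node 1 (.one ⟨4172, 1, 7⟩) (.one ⟨9870, 0, 3⟩))) (.node 2 (.node 1 (.one ⟨13589, 2, 4⟩) (.one ⟨15434, 1, 6⟩)) (.node 1 (.one ⟨8823, 1, 3⟩) (.one ⟨11960, 0, 6⟩))))) (.node 8 (.node 4 (.node 2 (.node 1 (.one ⟨13253, 0, 2⟩) (.one ⟨4303, 0, 5⟩)) (.node 1 (.one ⟨5446, 0, 5⟩) (.one ⟨2809, 0, 4⟩))) (.node 2 (.node 1 (.one ⟨9154, 1, 3⟩) (.one ⟨7112, 1, 8⟩)) (.node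 1 (.one ⟨3289, 1, 5⟩) (.one ⟨16354, 0, 5⟩)))) (.node 4 (.node 2 (.node 1 (.one ⟨6856, 2, 3⟩) (.one ⟨15915, 1, 9⟩)) (.node 1 (.one ⟨15102, 1, 4⟩) (.one ⟨7218, 1, 2⟩))) (.node 2 (.node 1 (.one ⟨8297, 1, 3⟩) (.one ⟨13973, 1, 4⟩)) (.node 1 (.one ⟨16701, 1, 2⟩) (.one ⟨9596, 0, 3⟩)))))) (.node 16 (.node 8 (.node 4 (.node 2 (.node 1 (.one ⟨6857, 2, 5⟩) (.one ⟨8225, 1, 2⟩)) (.node 1 (.one ⟨5684, 2, 6⟩) (.one ⟨8255, 0, 9⟩))) (.node 2 (.node 1 (.one ⟨16298, 1, 4⟩) (.one ⟨169, 1, 8⟩)) (.node 1 (.one ⟨3048, 2, 5⟩) (.one ⟨3525, 0, 7⟩)))) (.node 4 (.node 2 (.node 1 (.one ⟨6952, 2, 5⟩) (.one ⟨12569, 1, 3⟩)) (.node 1 (.one ⟨1071, 0, 3⟩) (.one ⟨3114, 2, 5⟩))) (.node 2 (.node 1 (.one ⟨5686, 2, 2⟩) (.one ⟨6240, 0, 9⟩)) (.node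 1 (.one ⟨11166, 2, 6⟩) (.one ⟨15932, 2, 6⟩))))) (.node 8 (.node 4 (.node 2 (.node 1 (.one ⟨14831, 2, 4⟩) (.one ⟨10499, 2, 6⟩)) (.node 1 (.one ⟨8163, 0, 7⟩) (.one ⟨12534, 2, 4⟩))) (.node 2 (.node 1 (.one ⟨11221, 2, 6⟩) (.one ⟨7368, 1, 7⟩)) (.node 1 (.one ⟨16765, 2, 6⟩) (.one ⟨16807, 2, 5⟩)))) (.node 4 (.node 2 (.node 1 (.one ⟨5146, 1, 6⟩) (.one ⟨2767, 1, 4⟩)) (.node 1 (.one ⟨1858, 1, 4⟩) (.one ⟨1065, 0, 6⟩))) (.node 2 (.node 1 (.one ⟨13646, 2, 8⟩) (.one ⟨4085, 1, 7⟩)) (.node 1 (.one ⟨370, 0, 7⟩) (.one ⟨12605, 1, 7⟩)))))))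
def par7_3_6 : Arr Par :=
  (.node 32 (.node 16 (.node 8 (.node 4 (.node 2 (.node 1 (.one ⟨11519, 1, 6⟩) (.one ⟨3485, 1, 8⟩)) (.node 1 (.one ⟨4648, 1, 8⟩) (.one ⟨12574, 1, 3⟩))) (.node 2 (.node 1 (.one ⟨9623, 1, 2⟩) (.one ⟨517, 2, 8⟩)) (.node 1 (.one ⟨12077, 2, 6⟩) (.one ⟨9222, 2, 6⟩)))) (.node 4 (.node 2 (.node 1 (.one ⟨3276, 1, 4⟩) (.one ⟨7264, 2, 9⟩)) (.node 1 (.one ⟨556, 0, 5⟩) (.one ⟨491, 0, 4⟩))) (.node 2 (.node 1 (.one ⟨8421, 1, 7⟩) (.one ⟨15323, 2, 5⟩)) (.node 1 (.one ⟨2242, 1, 5⟩) (.one ⟨9937, 2, 7⟩))))) (.node 8 (.node 4 (.node 2 (.node 1 (.one ⟨14026, 2, 6⟩) (.one ⟨16438, 1, 7⟩)) (.node 1 (.one ⟨14382, 2, 7⟩) (.one ⟨4417, 0, 8⟩))) (.node 2 (.node 1 (.one ⟨6471, 2, 7⟩) (.one ⟨913, 2, 7⟩)) (.node 1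 (.one ⟨5652, 2, 7⟩) (.one ⟨16294, 0, 5⟩)))) (.node 4 (.node 2 (.node 1 (.one ⟨10045, 0, 2⟩) (.one ⟨2221, 1, 4⟩)) (.node 1 (.one ⟨11160, 2, 4⟩) (.one ⟨15111, 2, 6⟩))) (.node 2 (.node 1 (.one ⟨1241, 0, 5⟩) (.one ⟨999, 2, 7⟩)) (.node 1 (.one ⟨13071, 2, 6⟩) (.one ⟨129, 1, 6⟩)))))) (.node 16 (.node 8 (.node 4 (.node 2 (.node 1 (.one ⟨4441, 0, 3⟩) (.one ⟨10015, 2, 6⟩)) (.node 1 (.one ⟨1048, 1, 2⟩) (.one ⟨1046, 1, 2⟩))) (.node 2 (.node 1 (.one ⟨12216, 2, 7⟩) (.one ⟨11664, 2, 6⟩)) (.node 1 (.one ⟨130, 1, 4⟩) (.one ⟨16173, 2, 4⟩)))) (.node 4 (.node 2 (.node 1 (.one ⟨2056, 1, 4⟩) (.one ⟨1242, 0, 9⟩)) (.node 1 (.one ⟨13539, 2, 5⟩) (.one ⟨11348, 2, 4⟩))) (.node 2 (.node 1 (.one ⟨10046, 1, 7⟩) (.one ⟨12566, 0, 5⟩)) (.node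 1 (.one ⟨13930, 2, 5⟩) (.one ⟨8643, 2, 4⟩))))) (.node 8 (.node 4 (.node 2 (.node 1 (.one ⟨75, 2, 5⟩) (.one ⟨4168, 2, 6⟩)) (.node 1 (.one ⟨7367, 2, 3⟩) (.one ⟨12451, 2, 3⟩))) (.node 2 (.node 1 (.one ⟨4850, 1, 2⟩) (.one ⟨16790, 2, 5⟩)) (.node 1 (.one ⟨9751, 2, 4⟩) (.one ⟨16603, 2, 3⟩)))) (.node 4 (.node 2 (.node 1 (.one ⟨4984, 1, 7⟩) (.one ⟨16842, 1, 6⟩)) (.node 1 (.one ⟨5213, 1, 5⟩) (.one ⟨9916, 0, 2⟩))) (.node 2 (.node 1 (.one ⟨671, 2, 6⟩) (.one ⟨7851, 2, 2⟩)) (.node 1 (.one ⟨8464, 2, 3⟩) (.one ⟨7623, 1, 6⟩)))))))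
def par7_3_7 : Arr Par :=
  (.node 32 (.node 16 (.node 8 (.node 4 (.node 2 (.node 1 (.one ⟨13012, 1, 9⟩) (.one ⟨14724, 1, 9⟩)) (.node 1 (.one ⟨1944, 1, 9⟩) (.one ⟨1226, 2, 1⟩))) (.node 2 (.node 1 (.one ⟨9276, 2, 3⟩) (.one ⟨1545, 2, 6⟩)) (.node 1 (.one ⟨9547, 2, 1⟩) (.one ⟨5912, 0, 5⟩)))) (.node 4 (.node 2 (.node 1 (.one ⟨1913, 0, 4⟩) (.one ⟨14098, 2, 4⟩)) (.node 1 (.one ⟨15404, 1, 10⟩) (.one ⟨3440, 0, 5⟩))) (.node 2 (.node 1 (.one ⟨7320, 0, 7⟩) (.one ⟨9675, 2, 8⟩)) (.node 1 (.one ⟨6111, 0, 7⟩) (.one ⟨9690, 0, 8⟩))))) (.node 8 (.node 4 (.node 2 (.node 1 (.one ⟨14428, 2, 3⟩) (.one ⟨6078, 0, 8⟩)) (.node 1 (.one ⟨14046, 1, 9⟩) (.one ⟨8686, 1, 4⟩))) (.node 2 (.node 1 (.one ⟨16501, 1, 6⟩) (.one ⟨12954, 1, 4⟩)) (.node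 1 (.one ⟨3462, 0, 7⟩) (.one ⟨10267, 2, 1⟩)))) (.node 4 (.node 2 (.node 1 (.one ⟨12968, 2, 3⟩) (.one ⟨1673, 1, 8⟩)) (.node 1 (.one ⟨3090, 2, 3⟩) (.one ⟨6068, 1, 8⟩))) (.node 2 (.node 1 (.one ⟨5334, 2, 5⟩) (.one ⟨12251, 2, 8⟩)) (.node 1 (.one ⟨16808, 1, 8⟩) (.one ⟨3800, 1, 6⟩)))))) (.node 16 (.node 8 (.node 4 (.node 2 (.node 1 (.one ⟨7955, 2, 6⟩) (.one ⟨9142, 1, 2⟩)) (.node 1 (.one ⟨9808, 1, 5⟩) (.one ⟨1734, 2, 7⟩))) (.node 2 (.node 1 (.one ⟨1966, 0, 5⟩) (.one ⟨12607, 1, 8⟩)) (.node 1 (.one ⟨12894, 1, 7⟩) (.one ⟨2005, 1, 4⟩)))) (.node 4 (.node 2 (.node 1 (.one ⟨16614, 1, 5⟩) (.one ⟨2017, 2, 5⟩)) (.node 1 (.one ⟨5093, 1, 7⟩) (.one ⟨3838, 1, 7⟩))) (.node 2 (.node 1 (.one ⟨14986, 1, 6⟩) (.one ⟨1573, 2, 7⟩)) (.node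 1 (.one ⟨13259, 2, 7⟩) (.one ⟨4663, 0, 5⟩))))) (.node 8 (.node 4 (.node 2 (.node 1 (.one ⟨3019, 2, 7⟩) (.one ⟨11137, 2, 8⟩)) (.node 1 (.one ⟨7861, 0, 7⟩) (.one ⟨1427, 2, 1⟩))) (.node 2 (.node 1 (.one ⟨3957, 1, 0⟩) (.one ⟨11110, 2, 3⟩)) (.node 1 (.one ⟨9328, 2, 4⟩) (.one ⟨458, 1, 5⟩)))) (.node 4 (.node 2 (.node 1 (.one ⟨1745, 0, 7⟩) (.one ⟨16823, 2, 3⟩)) (.node 1 (.one ⟨9660, 1, 5⟩) (.one ⟨10517, 0, 6⟩))) (.node 2 (.node 1 (.one ⟨153, 1, 5⟩) (.one ⟨4466, 2, 3⟩)) (.node 1 (.one ⟨7816, 2, 5⟩) (.one ⟨8646, 2, 3⟩)))))))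
def par7_3_8 : Arr Par :=
  (.node 32 (.node 16 (.node 8 (.node 4 (.node 2 (.node 1 (.one ⟨8949, 1, 2⟩) (.one ⟨5801, 2, 1⟩)) (.node 1 (.one ⟨3968, 1, 0⟩) (.one ⟨16648, 1, 6⟩))) (.node 2 (.node 1 (.one ⟨15140, 1, 6⟩) (.one ⟨12232, 1, 7⟩)) (.node 1 (.one ⟨10758, 1, 3⟩) (.one ⟨15915, 0, 9⟩)))) (.node 4 (.node 2 (.node 1 (.one ⟨7835, 1, 4⟩) (.one ⟨8253, 1, 4⟩)) (.node 1 (.one ⟨14373, 2, 9⟩) (.one ⟨13420, 0, 6⟩))) (.node 2 (.node 1 (.one ⟨15581, 2, 7⟩) (.one ⟨4515, 2, 9⟩)) (.node 1 (.one ⟨11156, 2, 4⟩) (.one ⟨14158, 2, 7⟩))))) (.node 8 (.node 4 (.node 2 (.node 1 (.one ⟨10414, 2, 5⟩) (.one ⟨8691, 0, 6⟩)) (.node 1 (.one ⟨14153, 2, 3⟩) (.one ⟨14156, 2, 5⟩))) (.node 2 (.node 1 (.one ⟨11750, 1, 5⟩) (.one ⟨10408, 2, 3⟩))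 (.node 1 (.one ⟨14151, 2, 5⟩) (.one ⟨13794, 2, 8⟩)))) (.node 4 (.node 2 (.node 1 (.one ⟨8637, 2, 7⟩) (.one ⟨12835, 1, 3⟩)) (.node 1 (.one ⟨4517, 1, 5⟩) (.one ⟨10418, 0, 9⟩))) (.node 2 (.node 1 (.one ⟨10155, 2, 8⟩) (.one ⟨13670, 0, 8⟩)) (.node 1 (.one ⟨11470, 1, 7⟩) (.one ⟨11008, 1, 6⟩)))))) (.node 16 (.node 8 (.node 4 (.node 2 (.node 1 (.one ⟨2152, 1, 6⟩) (.one ⟨1716, 0, 5⟩)) (.node 1 (.one ⟨3804, 2, 3⟩) (.one ⟨13443, 1, 8⟩))) (.node 2 (.node 1 (.one ⟨4510, 1, 4⟩) (.one ⟨1731, 2, 3⟩)) (.node 1 (.one ⟨5219, 1, 10⟩) (.one ⟨13730, 1, 4⟩)))) (.node 4 (.node 2 (.node 1 (.one ⟨8991, 0, 4⟩) (.one ⟨6848, 0, 9⟩)) (.node 1 (.one ⟨14832, 2, 3⟩) (.one ⟨10576, 1, 2⟩))) (.node 2 (.node 1 (.one ⟨15102, 0, 4⟩) (.one ⟨12106,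 1, 4⟩)) (.node 1 (.one ⟨2191, 0, 4⟩) (.one ⟨8503, 0, 2⟩))))) (.node 8 (.node 4 (.node 2 (.node 1 (.one ⟨12076, 2, 5⟩) (.one ⟨15621, 1, 5⟩)) (.node 1 (.one ⟨13650, 0, 2⟩) (.one ⟨2324, 1, 2⟩))) (.node 2 (.node 1 (.one ⟨6928, 1, 8⟩) (.one ⟨1540, 2, 1⟩)) (.node 1 (.one ⟨13147, 1, 9⟩) (.one ⟨7519, 2, 4⟩)))) (.node 4 (.node 2 (.node 1 (.one ⟨10787, 1, 9⟩) (.one ⟨8457, 2, 4⟩)) (.node 1 (.one ⟨8919, 0, 9⟩) (.one ⟨4218, 1, 6⟩))) (.node 2 (.node 1 (.one ⟨294, 2, 8⟩) (.one ⟨12380, 1, 7⟩)) (.node 1 (.one ⟨5618, 0, 6⟩) (.one ⟨14042, 0, 3⟩)))))))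
def par7_3_9 : Arr Par :=
  (.node 32 (.node 16 (.node 8 (.node 4 (.node 2 (.node 1 (.one ⟨12703, 2, 3⟩) (.one ⟨10582, 2, 4⟩)) (.node 1 (.one ⟨8705, 1, 8⟩) (.one ⟨1678, 1, 9⟩))) (.node 2 (.node 1 (.one ⟨8940, 0, 7⟩) (.one ⟨1049, 1, 7⟩)) (.node 1 (.one ⟨4405, 2, 4⟩) (.one ⟨16468, 1, 9⟩)))) (.node 4 (.node 2 (.node 1 (.one ⟨3469, 0, 6⟩) (.one ⟨13664, 2, 3⟩)) (.node 1 (.one ⟨8275, 2, 3⟩) (.one ⟨6068, 0, 8⟩))) (.node 2 (.node 1 (.one ⟨10077, 1, 3⟩) (.one ⟨16631, 0, 6⟩)) (.node 1 (.one ⟨16473, 1, 7⟩) (.one ⟨6795, 2, 6⟩))))) (.node 8 (.node 4 (.node 2 (.node 1 (.one ⟨5960, 0, 2⟩) (.one ⟨11606, 1, 6⟩)) (.node 1 (.one ⟨6268, 2, 3⟩) (.one ⟨12414, 1, 7⟩))) (.node 2 (.node 1 (.one ⟨3288, 2, 3⟩) (.one ⟨1271, 2, 3⟩)) (.node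 1 (.one ⟨2733, 1, 5⟩) (.one ⟨5599, 1, 7⟩)))) (.node 4 (.node 2 (.node 1 (.one ⟨4134, 0, 8⟩) (.one ⟨6416, 0, 6⟩)) (.node 1 (.one ⟨7222, 2, 5⟩) (.one ⟨2590, 0, 8⟩))) (.node 2 (.node 1 (.one ⟨6946, 1, 6⟩) (.one ⟨2828, 1, 8⟩)) (.node 1 (.one ⟨4118, 1, 3⟩) (.one ⟨9461, 1, 2⟩)))))) (.node 16 (.node 8 (.node 4 (.node 2 (.node 1 (.one ⟨8856, 2, 3⟩) (.one ⟨13406, 2, 5⟩)) (.node 1 (.one ⟨2224, 1, 5⟩) (.one ⟨16467, 1, 6⟩))) (.node 2 (.node 1 (.one ⟨15118, 2, 3⟩) (.one ⟨14904, 1, 7⟩)) (.node 1 (.one ⟨8120, 2, 6⟩) (.one ⟨5575, 1, 7⟩)))) (.node 4 (.node 2 (.node 1 (.one ⟨7364, 1, 7⟩) (.one ⟨5067, 1, 6⟩)) (.node 1 (.one ⟨3523, 1, 2⟩) (.one ⟨14228, 0, 7⟩))) (.node 2 (.node 1 (.one ⟨10668, 2, 8⟩) (.one ⟨14093, 0, 7⟩)) (.node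 1 (.one ⟨3973, 2, 5⟩) (.one ⟨13907, 1, 8⟩))))) (.node 8 (.node 4 (.node 2 (.node 1 (.one ⟨11058, 1, 4⟩) (.one ⟨15724, 2, 8⟩)) (.node 1 (.one ⟨10485, 0, 3⟩) (.one ⟨2118, 0, 2⟩))) (.node 2 (.node 1 (.one ⟨10810, 1, 8⟩) (.one ⟨9566, 2, 1⟩)) (.node 1 (.one ⟨7639, 2, 4⟩) (.one ⟨12345, 1, 4⟩)))) (.node 4 (.node 2 (.node 1 (.one ⟨3195, 1, 6⟩) (.one ⟨12615, 2, 3⟩)) (.node 1 (.one ⟨7899, 1, 8⟩) (.one ⟨4526, 2, 4⟩))) (.node 2 (.node 1 (.one ⟨5702, 1, 8⟩) (.one ⟨4285, 0, 3⟩)) (.node 1 (.one ⟨525, 2, 3⟩) (.one ⟨12496, 2, 6⟩)))))))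
def par7_3_10 : Arr Par :=
  (.node 32 (.node 16 (.node 8 (.node 4 (.node 2 (.node 1 (.one ⟨16390, 1, 2⟩) (.one ⟨8724, 1, 5⟩)) (.node 1 (.one ⟨14882, 2, 4⟩) (.one ⟨4398, 0, 9⟩))) (.node 2 (.node 1 (.one ⟨11408, 1, 2⟩) (.one ⟨639, 1, 5⟩)) (.node 1 (.one ⟨5670, 0, 7⟩) (.one ⟨9758, 1, 4⟩)))) (.node 4 (.node 2 (.node 1 (.one ⟨8725, 1, 5⟩) (.one ⟨14667, 2, 4⟩)) (.node 1 (.one ⟨14663, 2, 8⟩) (.one ⟨4720, 1, 9⟩))) (.node 2 (.node 1 (.one ⟨7954, 0, 7⟩) (.one ⟨14664, 2, 4⟩)) (.node 1 (.one ⟨9417, 1, 5⟩) (.one ⟨14396, 1, 4⟩))))) (.node 8 (.node 4 (.node 2 (.node 1 (.one ⟨16677, 2, 6⟩) (.one ⟨3119, 1, 6⟩)) (.node 1 (.one ⟨14781, 2, 6⟩) (.one ⟨6875, 1, 8⟩))) (.node 2 (.node 1 (.one ⟨12678, 1, 5⟩) (.one ⟨10082, 1, 6⟩))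 (.node 1 (.one ⟨7800, 1, 4⟩) (.one ⟨7806, 1, 5⟩)))) (.node 4 (.node 2 (.node 1 (.one ⟨11642, 1, 6⟩) (.one ⟨13194, 0, 2⟩)) (.node 1 (.one ⟨16982, 1, 5⟩) (.one ⟨5573, 1, 9⟩))) (.node 2 (.node 1 (.one ⟨3537, 2, 9⟩) (.one ⟨5366, 0, 4⟩)) (.node 1 (.one ⟨1045, 2, 7⟩) (.one ⟨5328, 2, 3⟩)))))) (.node 16 (.node 8 (.node 4 (.node 2 (.node 1 (.one ⟨8691, 1, 6⟩) (.one ⟨6881, 2, 4⟩)) (.node 1 (.one ⟨16766, 1, 4⟩) (.one ⟨8704, 1, 5⟩))) (.node 2 (.node 1 (.one ⟨16812, 1, 3⟩) (.one ⟨1955, 0, 8⟩)) (.node 1 (.one ⟨9716, 0, 5⟩) (.one ⟨8719, 1, 1⟩)))) (.node 4 (.node 2 (.node 1 (.one ⟨873, 0, 2⟩) (.one ⟨13642, 0, 8⟩)) (.node 1 (.one ⟨13644, 0, 8⟩) (.one ⟨6095, 1, 5⟩))) (.node 2 (.node 1 (.one ⟨12336, 2, 8⟩) (.one ⟨13645, 0, 7⟩))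 (.node 1 (.one ⟨13639, 0, 4⟩) (.one ⟨3838, 1, 0⟩))))) (.node 8 (.node 4 (.node 2 (.node 1 (.one ⟨7075, 1, 5⟩) (.one ⟨9561, 2, 3⟩)) (.node 1 (.one ⟨10156, 2, 2⟩) (.one ⟨11885, 0, 3⟩))) (.node 2 (.node 1 (.one ⟨787, 1, 9⟩) (.one ⟨1293, 2, 1⟩)) (.node 1 (.one ⟨2010, 2, 6⟩) (.one ⟨15928, 1, 7⟩)))) (.node 4 (.node 2 (.node 1 (.one ⟨14475, 2, 1⟩) (.one ⟨14898, 1, 10⟩)) (.node 1 (.one ⟨6330, 1, 8⟩) (.one ⟨5582, 0, 7⟩))) (.node 2 (.node 1 (.one ⟨456, 1, 2⟩) (.one ⟨12536, 1, 9⟩)) (.node 1 (.one ⟨4663, 1, 5⟩) (.one ⟨15551, 1, 4⟩)))))))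
def par7_3_11 : Arr Par :=
  (.node 32 (.node 16 (.node 8 (.node 4 (.node 2 (.node 1 (.one ⟨377, 0, 5⟩) (.one ⟨12601, 0, 7⟩)) (.node 1 (.one ⟨12603, 0, 4⟩) (.one ⟨16383, 1, 3⟩))) (.node 2 (.node 1 (.one ⟨13175, 1, 6⟩) (.one ⟨12010, 2, 4⟩)) (.node 1 (.one ⟨16521, 2, 6⟩) (.one ⟨12664, 1, 7⟩)))) (.node 4 (.node 2 (.node 1 (.one ⟨1031, 1, 9⟩) (.one ⟨14495, 2, 2⟩)) (.node 1 (.one ⟨14629, 1, 6⟩) (.one ⟨14307, 0, 7⟩))) (.node 2 (.node 1 (.one ⟨13073, 1, 8⟩) (.one ⟨14357, 1, 6⟩)) (.node 1 (.one ⟨8792, 1, 3⟩) (.one ⟨8048, 1, 6⟩))))) (.node 8 (.node 4 (.node 2 (.node 1 (.one ⟨282, 2, 6⟩) (.one ⟨16990, 2, 6⟩)) (.node 1 (.one ⟨15058, 2, 9⟩) (.one ⟨3763, 1, 4⟩))) (.node 2 (.node 1 (.one ⟨11722, 1, 5⟩) (.one ⟨16578, 0, 7⟩))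 (.node 1 (.one ⟨13200, 1, 4⟩) (.one ⟨9329, 0, 5⟩)))) (.node 4 (.node 2 (.node 1 (.one ⟨295, 2, 5⟩) (.one ⟨3789, 2, 7⟩)) (.node 1 (.one ⟨11117, 0, 5⟩) (.one ⟨2522, 2, 6⟩))) (.node 2 (.node 1 (.one ⟨8503, 1, 2⟩) (.one ⟨10763, 2, 6⟩)) (.node 1 (.one ⟨1344, 1, 2⟩) (.one ⟨13640, 2, 8⟩)))))) (.node 16 (.node 8 (.node 4 (.node 2 (.node 1 (.one ⟨777, 0, 6⟩) (.one ⟨15408, 2, 4⟩)) (.node 1 (.one ⟨2040, 1, 6⟩) (.one ⟨5143, 1, 4⟩))) (.node 2 (.node 1 (.one ⟨10613, 1, 4⟩) (.one ⟨11910, 1, 4⟩)) (.node 1 (.one ⟨3224, 2, 9⟩) (.one ⟨9246, 0, 3⟩)))) (.node 4 (.node 2 (.node 1 (.one ⟨10764, 2, 2⟩) (.one ⟨6278, 0, 9⟩)) (.node 1 (.one ⟨3083, 1, 5⟩) (.one ⟨2978, 1, 4⟩))) (.node 2 (.node 1 (.one ⟨4210, 1, 8⟩) (.one ⟨9577, 0, 9⟩))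 (.node 1 (.one ⟨13022, 2, 6⟩) (.one ⟨14625, 1, 5⟩))))) (.node 8 (.node 4 (.node 2 (.node 1 (.one ⟨15160, 2, 5⟩) (.one ⟨11411, 1, 2⟩)) (.node 1 (.one ⟨9646, 0, 8⟩) (.one ⟨7071, 1, 5⟩))) (.node 2 (.node 1 (.one ⟨854, 0, 3⟩) (.one ⟨1494, 1, 5⟩)) (.node 1 (.one ⟨5303, 2, 5⟩) (.one ⟨9240, 0, 8⟩)))) (.node 4 (.node 2 (.node 1 (.one ⟨13399, 0, 6⟩) (.one ⟨4265, 1, 6⟩)) (.node 1 (.one ⟨59, 2, 4⟩) (.one ⟨10637, 0, 7⟩))) (.node 2 (.node 1 (.one ⟨687, 2, 5⟩) (.one ⟨857, 2, 4⟩)) (.node 1 (.one ⟨652, 2, 6⟩) (.one ⟨16081, 1, 5⟩)))))))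
def par7_3_12 : Arr Par :=
  (.node 32 (.node 16 (.node 8 (.node 4 (.node 2 (.node 1 (.one ⟨12778, 2, 8⟩) (.one ⟨4163, 1, 3⟩)) (.node 1 (.one ⟨14420, 1, 3⟩) (.one ⟨16653, 2, 6⟩))) (.node 2 (.node 1 (.one ⟨12242, 1, 7⟩) (.one ⟨9316, 1, 3⟩)) (.node 1 (.one ⟨8036, 1, 3⟩) (.one ⟨14921, 2, 9⟩)))) (.node 4 (.node 2 (.node 1 (.one ⟨1908, 0, 2⟩) (.one ⟨12247, 1, 8⟩)) (.node 1 (.one ⟨15918, 0, 5⟩) (.one ⟨10468, 1, 6⟩))) (.node 2 (.node 1 (.one ⟨12037, 1, 8⟩) (.one ⟨18, 1, 5⟩)) (.node 1 (.one ⟨2719, 2, 6⟩) (.one ⟨2788, 1, 3⟩))))) (.node 8 (.node 4 (.node 2 (.node 1 (.one ⟨9636, 0, 7⟩) (.one ⟨14061, 1, 8⟩)) (.node 1 (.one ⟨5280, 2, 8⟩) (.one ⟨6854, 1, 9⟩))) (.node 2 (.node 1 (.one ⟨12322, 1, 6⟩) (.one ⟨9740, 0, 5⟩)) (.node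 1 (.one ⟨8960, 1, 10⟩) (.one ⟨16351, 1, 4⟩)))) (.node 4 (.node 2 (.node 1 (.one ⟨13974, 1, 6⟩) (.one ⟨547, 2, 5⟩)) (.node 1 (.one ⟨7056, 1, 10⟩) (.one ⟨9189, 2, 5⟩))) (.node 2 (.node 1 (.one ⟨13342, 1, 6⟩) (.one ⟨13409, 0, 4⟩)) (.node 1 (.one ⟨4507, 1, 5⟩) (.one ⟨1127, 0, 3⟩)))))) (.node 16 (.node 8 (.node 4 (.node 2 (.node 1 (.one ⟨14949, 1, 8⟩) (.one ⟨15424, 1, 6⟩)) (.node 1 (.one ⟨5483, 1, 4⟩) (.one ⟨2010, 1, 6⟩))) (.node 2 (.node 1 (.one ⟨15917, 1, 6⟩) (.one ⟨16353, 1, 4⟩)) (.node 1 (.one ⟨14830, 0, 5⟩) (.one ⟨13733, 0, 5⟩)))) (.node 4 (.node 2 (.node 1 (.one ⟨9876, 1, 3⟩) (.one ⟨6848, 1, 9⟩)) (.node 1 (.one ⟨6000, 2, 8⟩) (.one ⟨5945, 1, 2⟩))) (.node 2 (.node 1 (.one ⟨14001, 2, 2⟩) (.one ⟨9335, 0, 6⟩))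 (.node 1 (.one ⟨9378, 2, 4⟩) (.one ⟨4289, 2, 9⟩))))) (.node 8 (.node 4 (.node 2 (.node 1 (.one ⟨13271, 1, 1⟩) (.one ⟨5294, 1, 7⟩)) (.node 1 (.one ⟨16598, 2, 5⟩) (.one ⟨15511, 2, 6⟩))) (.node 2 (.node 1 (.one ⟨16720, 2, 5⟩) (.one ⟨4524, 2, 4⟩)) (.node 1 (.one ⟨1546, 0, 1⟩) (.one ⟨12340, 1, 6⟩)))) (.node 4 (.node 2 (.node 1 (.one ⟨9379, 1, 5⟩) (.one ⟨1527, 0, 3⟩)) (.node 1 (.one ⟨1084, 2, 5⟩) (.one ⟨7170, 0, 5⟩))) (.node 2 (.node 1 (.one ⟨16584, 1, 5⟩) (.one ⟨3897, 1, 4⟩)) (.node 1 (.one ⟨1945, 1, 8⟩) (.one ⟨7500, 1, 5⟩)))))))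
def par7_3_13 : Arr Par :=
  (.node 32 (.node 16 (.node 8 (.node 4 (.node 2 (.node 1 (.one ⟨13222, 0, 5⟩) (.one ⟨2566, 0, 7⟩)) (.node 1 (.one ⟨15939, 1, 6⟩) (.one ⟨4186, 1, 0⟩))) (.node 2 (.node 1 (.one ⟨13403, 1, 5⟩) (.one ⟨1854, 1, 6⟩)) (.node 1 (.one ⟨3176, 2, 1⟩) (.one ⟨14680, 1, 6⟩)))) (.node 4 (.node 2 (.node 1 (.one ⟨1849, 1, 4⟩) (.one ⟨8036, 2, 3⟩)) (.node 1 (.one ⟨930, 2, 3⟩) (.one ⟨3083, 2, 5⟩))) (.node 2 (.node 1 (.one ⟨15074, 0, 8⟩) (.one ⟨15738, 1, 5⟩)) (.node 1 (.one ⟨5021, 1, 5⟩) (.one ⟨1528, 0, 7⟩))))) (.node 8 (.node 4 (.node 2 (.node 1 (.one ⟨5102, 0, 7⟩) (.one ⟨8166, 1, 8⟩)) (.node 1 (.one ⟨13191, 0, 4⟩) (.one ⟨8582, 2, 4⟩))) (.node 2 (.node 1 (.one ⟨14839, 2, 1⟩) (.one ⟨12827, 1, 6⟩)) (.node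 1 (.one ⟨7620, 0, 5⟩) (.one ⟨6909, 1, 6⟩)))) (.node 4 (.node 2 (.node 1 (.one ⟨1549, 0, 3⟩) (.one ⟨7208, 2, 7⟩)) (.node 1 (.one ⟨17170, 0, 8⟩) (.one ⟨17160, 0, 5⟩))) (.node 2 (.node 1 (.one ⟨1771, 1, 9⟩) (.one ⟨12492, 2, 7⟩)) (.node 1 (.one ⟨16586, 1, 6⟩) (.one ⟨13132, 2, 7⟩)))))) (.node 16 (.node 8 (.node 4 (.node 2 (.node 1 (.one ⟨1804, 1, 6⟩) (.one ⟨17161, 0, 8⟩)) (.node 1 (.one ⟨6964, 0, 5⟩) (.one ⟨928, 0, 7⟩))) (.node 2 (.node 1 (.one ⟨15742, 1, 6⟩) (.one ⟨7109, 2, 7⟩)) (.node 1 (.one ⟨15681, 2, 7⟩) (.one ⟨12989, 2, 6⟩)))) (.node 4 (.node 2 (.node 1 (.one ⟨15963, 2, 6⟩) (.one ⟨16810, 1, 3⟩)) (.node 1 (.one ⟨13203, 0, 5⟩) (.one ⟨15827, 1, 7⟩))) (.node 2 (.node 1 (.one ⟨95, 1, 5⟩) (.one ⟨7074, 2, 8⟩)) (.node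 1 (.one ⟨3092, 1, 3⟩) (.one ⟨1296, 0, 1⟩))))) (.node 8 (.node 4 (.node 2 (.node 1 (.one ⟨8996, 0, 8⟩) (.one ⟨14868, 2, 8⟩)) (.node 1 (.one ⟨12634, 2, 6⟩) (.one ⟨419, 2, 7⟩))) (.node 2 (.node 1 (.one ⟨3884, 1, 0⟩) (.one ⟨8019, 1, 5⟩)) (.node 1 (.one ⟨9631, 2, 4⟩) (.one ⟨14602, 1, 2⟩)))) (.node 4 (.node 2 (.node 1 (.one ⟨6217, 2, 7⟩) (.one ⟨6218, 2, 8⟩)) (.node 1 (.one ⟨6222, 2, 4⟩) (.one ⟨6219, 2, 6⟩))) (.node 2 (.node 1 (.one ⟨6215, 2, 6⟩) (.one ⟨16747, 1, 4⟩)) (.node 1 (.one ⟨15207, 0, 6⟩) (.one ⟨3672, 1, 9⟩)))))))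
def par7_3_14 : Arr Par :=
  (.node 32 (.node 16 (.node 8 (.node 4 (.node 2 (.node 1 (.one ⟨1295, 0, 2⟩) (.one ⟨13867, 1, 4⟩)) (.node 1 (.one ⟨15827, 2, 7⟩) (.one ⟨8089, 1, 4⟩))) (.node 2 (.node 1 (.one ⟨8811, 0, 6⟩) (.one ⟨9748, 1, 4⟩)) (.node 1 (.one ⟨7733, 0, 4⟩) (.one ⟨9460, 1, 1⟩)))) (.node 4 (.node 2 (.node 1 (.one ⟨10314, 1, 6⟩) (.one ⟨1328, 0, 1⟩)) (.node 1 (.one ⟨2111, 2, 6⟩) (.one ⟨9824, 0, 6⟩))) (.node 2 (.node 1 (.one ⟨3671, 1, 8⟩) (.one ⟨5519, 0, 4⟩)) (.node 1 (.one ⟨11701, 1, 5⟩) (.one ⟨11363, 1, 1⟩))))) (.node 8 (.node 4 (.node 2 (.node 1 (.one ⟨14320, 0, 3⟩) (.one ⟨16808, 0, 8⟩)) (.node 1 (.one ⟨5824, 1, 2⟩) (.one ⟨9242, 2, 6⟩))) (.node 2 (.node 1 (.one ⟨16320, 1, 1⟩) (.one ⟨4979, 1, 8⟩)) (.node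 1 (.one ⟨1329, 0, 4⟩) (.one ⟨10582, 1, 4⟩)))) (.node 4 (.node 2 (.node 1 (.one ⟨7322, 1, 5⟩) (.one ⟨15302, 1, 5⟩)) (.node 1 (.one ⟨2572, 1, 6⟩) (.one ⟨16240, 2, 3⟩))) (.node 2 (.node 1 (.one ⟨10650, 2, 5⟩) (.one ⟨12684, 2, 5⟩)) (.node 1 (.one ⟨7884, 1, 10⟩) (.one ⟨15159, 2, 4⟩)))))) (.node 16 (.node 8 (.node 4 (.node 2 (.node 1 (.one ⟨3675, 1, 9⟩) (.one ⟨6825, 2, 3⟩)) (.node 1 (.one ⟨9009, 2, 7⟩) (.one ⟨14797, 1, 9⟩))) (.node 2 (.node 1 (.one ⟨207, 0, 4⟩) (.one ⟨1078, 1, 5⟩)) (.node 1 (.one ⟨8371, 1, 4⟩) (.one ⟨11307, 1, 7⟩)))) (.node 4 (.node 2 (.node 1 (.one ⟨12247, 0, 8⟩) (.one ⟨13586, 1, 3⟩)) (.node 1 (.one ⟨4614, 1, 7⟩) (.one ⟨1764, 1, 7⟩))) (.node 2 (.node 1 (.one ⟨16513, 0, 7⟩) (.one ⟨10983, 2, 7⟩))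 (.node 1 (.one ⟨7571, 0, 3⟩) (.one ⟨6169, 1, 3⟩))))) (.node 8 (.node 4 (.node 2 (.node 1 (.one ⟨724, 1, 8⟩) (.one ⟨1590, 0, 7⟩)) (.node 1 (.one ⟨16825, 2, 3⟩) (.one ⟨6168, 1, 8⟩))) (.node 2 (.node 1 (.one ⟨1910, 2, 2⟩) (.one ⟨10369, 0, 6⟩)) (.node 1 (.one ⟨7815, 2, 3⟩) (.one ⟨5148, 2, 6⟩)))) (.node 4 (.node 2 (.node 1 (.one ⟨12209, 2, 9⟩) (.one ⟨11447, 1, 4⟩)) (.node 1 (.one ⟨14405, 1, 8⟩) (.one ⟨13526, 2, 4⟩))) (.node 2 (.node 1 (.one ⟨16928, 1, 6⟩) (.one ⟨14901, 1, 3⟩)) (.node 1 (.one ⟨9312, 1, 4⟩) (.one ⟨1066, 2, 5⟩)))))))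
def par7_3_15 : Arr Par :=
  (.node 32 (.node 16 (.node 8 (.node 4 (.node 2 (.node 1 (.one ⟨16012, 0, 3⟩) (.one ⟨9665, 2, 3⟩)) (.node 1 (.one ⟨2235, 2, 6⟩) (.one ⟨14420, 2, 3⟩))) (.node 2 (.node 1 (.one ⟨7907, 0, 3⟩) (.one ⟨16462, 1, 3⟩)) (.node 1 (.one ⟨4737, 0, 4⟩) (.one ⟨4425, 1, 8⟩)))) (.node 4 (.node 2 (.node 1 (.one ⟨10884, 1, 10⟩) (.one ⟨12084, 0, 4⟩)) (.node 1 (.one ⟨6501, 2, 4⟩) (.one ⟨2933, 0, 4⟩))) (.node 2 (.node 1 (.one ⟨16167, 2, 7⟩) (.one ⟨1785, 0, 7⟩)) (.node 1 (.one ⟨13389, 2, 2⟩) (.one ⟨4300, 1, 8⟩))))) (.node 8 (.node 4 (.node 2 (.node 1 (.one ⟨2661, 1, 8⟩) (.one ⟨4429, 1, 0⟩)) (.node 1 (.one ⟨1356, 2, 3⟩) (.one ⟨4906, 2, 6⟩))) (.node 2 (.node 1 (.one ⟨8906, 1, 8⟩) (.one ⟨8541, 1, 3⟩)) (.node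 1 (.one ⟨7059, 1, 6⟩) (.one ⟨1771, 2, 9⟩)))) (.node 4 (.node 2 (.node 1 (.one ⟨2567, 2, 3⟩) (.one ⟨6371, 2, 2⟩)) (.node 1 (.one ⟨6014, 2, 6⟩) (.one ⟨6187, 2, 8⟩))) (.node 2 (.node 1 (.one ⟨6256, 2, 3⟩) (.one ⟨2729, 2, 3⟩)) (.node 1 (.one ⟨1358, 2, 5⟩) (.one ⟨11879, 1, 8⟩)))))) (.node 16 (.node 8 (.node 4 (.node 2 (.node 1 (.one ⟨5511, 2, 7⟩) (.one ⟨5947, 1, 9⟩)) (.node 1 (.one ⟨14765, 0, 7⟩) (.one ⟨12066, 2, 5⟩))) (.node 2 (.node 1 (.one ⟨3955, 1, 8⟩) (.one ⟨13358, 2, 5⟩)) (.node 1 (.one ⟨921, 2, 5⟩) (.one ⟨3442, 1, 8⟩)))) (.node 4 (.node 2 (.node 1 (.one ⟨8537, 1, 6⟩) (.one ⟨14273, 0, 5⟩)) (.node 1 (.one ⟨8357, 1, 6⟩) (.one ⟨11986, 1, 5⟩))) (.node 2 (.node 1 (.one ⟨13979, 1, 6⟩) (.one ⟨12737, 1, 4⟩)) (.node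 1 (.one ⟨15427, 1, 6⟩) (.one ⟨5277, 1, 4⟩))))) (.node 8 (.node 4 (.node 2 (.node 1 (.one ⟨3736, 2, 7⟩) (.one ⟨12836, 2, 5⟩)) (.node 1 (.one ⟨7337, 1, 2⟩) (.one ⟨7066, 2, 5⟩))) (.node 2 (.node 1 (.one ⟨2428, 2, 7⟩) (.one ⟨14390, 0, 6⟩)) (.node 1 (.one ⟨13957, 2, 5⟩) (.one ⟨14699, 0, 5⟩)))) (.node 4 (.node 2 (.node 1 (.one ⟨635, 1, 2⟩) (.one ⟨647, 2, 4⟩)) (.node 1 (.one ⟨15948, 1, 5⟩) (.one ⟨14900, 1, 9⟩))) (.node 2 (.node 1 (.one ⟨7335, 2, 6⟩) (.one ⟨4686, 1, 6⟩)) (.node 1 (.one ⟨2260, 1, 4⟩) (.one ⟨16330, 0, 6⟩)))))))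
def par7_3 : Arr Par :=
  (.node 512 (.node 256 (.node 128 (.node 64 par7_3_0 par7_3_1) (.node 64 par7_3_2 par7_3_3)) (.node 128 (.node 64 par7_3_4 par7_3_5) (.node 64 par7_3_6 par7_3_7))) (.node 256 (.node 128 (.node 64 par7_3_8 par7_3_9) (.node 64 par7_3_10 par7_3_11)) (.node 128 (.node 64 par7_3_12 par7_3_13) (.node 64 par7_3_14 par7_3_15))))
def par7_4_0 : Arr Par :=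
  (.node 32 (.node 16 (.node 8 (.node 4 (.node 2 (.node 1 (.one ⟨14401, 1, 6⟩) (.one ⟨4662, 1, 3⟩)) (.node 1 (.one ⟨14266, 2, 5⟩) (.one ⟨7944, 1, 2⟩))) (.node 2 (.node 1 (.one ⟨7461, 2, 2⟩) (.one ⟨14363, 2, 5⟩)) (.node 1 (.one ⟨11500, 1, 5⟩) (.one ⟨11976, 1, 5⟩)))) (.node 4 (.node 2 (.node 1 (.one ⟨8103, 1, 8⟩) (.one ⟨15788, 2, 8⟩)) (.node 1 (.one ⟨2430, 2, 7⟩) (.one ⟨14671, 0, 9⟩))) (.node 2 (.node 1 (.one ⟨16637, 1, 3⟩) (.one ⟨7919, 0, 5⟩)) (.node 1 (.one ⟨5309, 2, 6⟩) (.one ⟨8844, 1, 4⟩))))) (.node 8 (.node 4 (.node 2 (.node 1 (.one ⟨3680, 0, 4⟩) (.one ⟨10425, 0, 5⟩)) (.node 1 (.one ⟨13053, 1, 5⟩) (.one ⟨7769, 1, 6⟩))) (.node 2 (.node 1 (.one ⟨1258, 1, 1⟩) (.one ⟨14633, 1, 6⟩)) (.node 1 (.one ⟨1908, 2, 2⟩)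 (.one ⟨10624, 0, 7⟩)))) (.node 4 (.node 2 (.node 1 (.one ⟨16024, 2, 4⟩) (.one ⟨7791, 1, 4⟩)) (.node 1 (.one ⟨11822, 2, 4⟩) (.one ⟨16800, 1, 2⟩))) (.node 2 (.node 1 (.one ⟨1952, 2, 4⟩) (.one ⟨9359, 1, 7⟩)) (.node 1 (.one ⟨15328, 1, 9⟩) (.one ⟨8815, 0, 8⟩)))))) (.node 16 (.node 8 (.node 4 (.node 2 (.node 1 (.one ⟨8361, 0, 8⟩) (.one ⟨7229, 1, 8⟩)) (.node 1 (.one ⟨14430, 1, 5⟩) (.one ⟨3979, 1, 0⟩))) (.node 2 (.node 1 (.one ⟨12827, 2, 6⟩) (.one ⟨6972, 0, 8⟩)) (.node 1 (.one ⟨217, 2, 7⟩) (.one ⟨9741, 1, 8⟩)))) (.node 4 (.node 2 (.node 1 (.one ⟨7703, 1, 5⟩) (.one ⟨7580, 1, 9⟩)) (.node 1 (.one ⟨2968, 0, 6⟩) (.one ⟨9711, 2, 4⟩))) (.node 2 (.node 1 (.one ⟨10593, 0, 2⟩) (.one ⟨11238, 0, 6⟩)) (.node 1 (.one ⟨7871, 1, 3⟩)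 (.one ⟨5974, 1, 2⟩))))) (.node 8 (.node 4 (.node 2 (.node 1 (.one ⟨14981, 1, 3⟩) (.one ⟨6897, 1, 3⟩)) (.node 1 (.one ⟨14062, 1, 5⟩) (.one ⟨4720, 0, 9⟩))) (.node 2 (.node 1 (.one ⟨16617, 1, 3⟩) (.one ⟨5621, 2, 4⟩)) (.node 1 (.one ⟨16005, 1, 3⟩) (.one ⟨701, 0, 4⟩)))) (.node 4 (.node 2 (.node 1 (.one ⟨5021, 2, 5⟩) (.one ⟨12296, 1, 6⟩)) (.node 1 (.one ⟨3697, 0, 9⟩) (.one ⟨12442, 1, 7⟩))) (.node 2 (.node 1 (.one ⟨7007, 1, 3⟩) (.one ⟨2928, 0, 5⟩)) (.node 1 (.one ⟨12921, 2, 7⟩) (.one ⟨16905, 0, 7⟩)))))))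
def par7_4_1 : Arr Par :=
  (.node 32 (.node 16 (.node 8 (.node 4 (.node 2 (.node 1 (.one ⟨6510, 1, 10⟩) (.one ⟨15364, 2, 9⟩)) (.node 1 (.one ⟨4981, 2, 7⟩) (.one ⟨13328, 1, 2⟩))) (.node 2 (.node 1 (.one ⟨13970, 1, 2⟩) (.one ⟨16881, 1, 8⟩)) (.node 1 (.one ⟨9362, 1, 3⟩) (.one ⟨4995, 1, 9⟩)))) (.node 4 (.node 2 (.node 1 (.one ⟨13872, 1, 5⟩) (.one ⟨12457, 2, 9⟩)) (.node 1 (.one ⟨12461, 2, 7⟩) (.one ⟨12455, 2, 8⟩))) (.node 2 (.node 1 (.one ⟨1255, 1, 6⟩) (.one ⟨14615, 1, 5⟩)) (.node 1 (.one ⟨12826, 0, 7⟩) (.one ⟨3326, 0, 9⟩))))) (.node 8 (.node 4 (.node 2 (.node 1 (.one ⟨676, 0, 9⟩) (.one ⟨12852, 2, 6⟩)) (.node 1 (.one ⟨8891, 2, 3⟩) (.one ⟨5949, 2, 6⟩))) (.node 2 (.node 1 (.one ⟨3960, 0, 8⟩) (.one ⟨16178, 1, 6⟩))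 (.node 1 (.one ⟨6812, 0, 5⟩) (.one ⟨9852, 2, 5⟩)))) (.node 4 (.node 2 (.node 1 (.one ⟨5867, 2, 6⟩) (.one ⟨13589, 1, 4⟩)) (.node 1 (.one ⟨1957, 2, 3⟩) (.one ⟨8361, 1, 8⟩))) (.node 2 (.node 1 (.one ⟨14197, 2, 6⟩) (.one ⟨14204, 1, 3⟩)) (.node 1 (.one ⟨8710, 1, 8⟩) (.one ⟨5872, 1, 8⟩)))))) (.node 16 (.node 8 (.node 4 (.node 2 (.node 1 (.one ⟨9104, 0, 5⟩) (.one ⟨12538, 1, 9⟩)) (.node 1 (.one ⟨13289, 1, 8⟩) (.one ⟨12048, 2, 5⟩))) (.node 2 (.node 1 (.one ⟨12011, 0, 5⟩) (.one ⟨12050, 2, 7⟩)) (.node 1 (.one ⟨5954, 1, 4⟩) (.one ⟨16386, 0, 8⟩)))) (.node 4 (.node 2 (.node 1 (.one ⟨16834, 0, 3⟩) (.one ⟨15385, 2, 8⟩)) (.node 1 (.one ⟨16079, 2, 6⟩) (.one ⟨10127, 1, 5⟩))) (.node 2 (.node 1 (.one ⟨1889, 2, 6⟩) (.one ⟨459, 2,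 7⟩)) (.node 1 (.one ⟨3348, 0, 8⟩) (.one ⟨13327, 1, 4⟩))))) (.node 8 (.node 4 (.node 2 (.node 1 (.one ⟨2769, 1, 4⟩) (.one ⟨12651, 1, 6⟩)) (.node 1 (.one ⟨56, 0, 7⟩) (.one ⟨4490, 1, 6⟩))) (.node 2 (.node 1 (.one ⟨776, 0, 3⟩) (.one ⟨254, 0, 3⟩)) (.node 1 (.one ⟨5632, 2, 7⟩) (.one ⟨14829, 2, 4⟩)))) (.node 4 (.node 2 (.node 1 (.one ⟨10654, 2, 7⟩) (.one ⟨8811, 1, 6⟩)) (.node 1 (.one ⟨16675, 2, 5⟩) (.one ⟨6543, 1, 2⟩))) (.node 2 (.node 1 (.one ⟨12901, 0, 7⟩) (.one ⟨15201, 0, 6⟩)) (.node 1 (.one ⟨16133, 0, 4⟩) (.one ⟨5948, 2, 6⟩)))))))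
def par7_4_2 : Arr Par :=
  (.node 32 (.node 16 (.node 8 (.node 4 (.node 2 (.node 1 (.one ⟨4666, 2, 5⟩) (.one ⟨6517, 1, 6⟩)) (.node 1 (.one ⟨8527, 1, 6⟩) (.one ⟨2979, 1, 5⟩))) (.node 2 (.node 1 (.one ⟨4207, 1, 5⟩) (.one ⟨1678, 0, 9⟩)) (.node 1 (.one ⟨15184, 1, 4⟩) (.one ⟨5573, 2, 9⟩)))) (.node 4 (.node 2 (.node 1 (.one ⟨1558, 1, 3⟩) (.one ⟨3556, 1, 6⟩)) (.node 1 (.one ⟨5583, 2, 8⟩) (.one ⟨1925, 2, 9⟩))) (.node 2 (.node 1 (.one ⟨365, 2, 7⟩) (.one ⟨1460, 2, 3⟩)) (.node 1 (.one ⟨1935, 2, 6⟩) (.one ⟨3406, 2, 4⟩))))) (.node 8 (.node 4 (.node 2 (.node 1 (.one ⟨6542, 1, 4⟩) (.one ⟨7985, 1, 6⟩)) (.node 1 (.one ⟨9048, 1, 4⟩) (.one ⟨4996, 2, 4⟩))) (.node 2 (.node 1 (.one ⟨4109, 1, 6⟩) (.one ⟨1490, 1, 6⟩)) (.node 1 (.one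 ⟨975, 2, 6⟩) (.one ⟨2055, 2, 8⟩)))) (.node 4 (.node 2 (.node 1 (.one ⟨8289, 2, 4⟩) (.one ⟨320, 1, 5⟩)) (.node 1 (.one ⟨15659, 0, 5⟩) (.one ⟨15789, 1, 8⟩))) (.node 2 (.node 1 (.one ⟨7929, 2, 7⟩) (.one ⟨14828, 1, 6⟩)) (.node 1 (.one ⟨14555, 2, 6⟩) (.one ⟨9000, 0, 4⟩)))))) (.node 16 (.node 8 (.node 4 (.node 2 (.node 1 (.one ⟨4664, 2, 3⟩) (.one ⟨8618, 2, 5⟩)) (.node 1 (.one ⟨6358, 2, 9⟩) (.one ⟨321, 2, 7⟩))) (.node 2 (.node 1 (.one ⟨5450, 2, 9⟩) (.one ⟨8975, 2, 5⟩)) (.node 1 (.one ⟨6056, 2, 2⟩) (.one ⟨6890, 0, 7⟩)))) (.node 4 (.node 2 (.node 1 (.one ⟨13528, 1, 6⟩) (.one ⟨8620, 2, 5⟩)) (.node 1 (.one ⟨5063, 1, 8⟩) (.one ⟨10138, 1, 4⟩))) (.node 2 (.node 1 (.one ⟨5964, 2, 6⟩) (.one ⟨253, 1, 4⟩)) (.node 1 (.one ⟨7209,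 0, 9⟩) (.one ⟨452, 0, 7⟩))))) (.node 8 (.node 4 (.node 2 (.node 1 (.one ⟨15905, 1, 5⟩) (.one ⟨5484, 1, 6⟩)) (.node 1 (.one ⟨997, 2, 9⟩) (.one ⟨5364, 1, 4⟩))) (.node 2 (.node 1 (.one ⟨15683, 2, 7⟩) (.one ⟨16581, 1, 5⟩)) (.node 1 (.one ⟨12269, 0, 8⟩) (.one ⟨15651, 2, 7⟩)))) (.node 4 (.node 2 (.node 1 (.one ⟨6584, 1, 7⟩) (.one ⟨9141, 1, 5⟩)) (.node 1 (.one ⟨14971, 2, 2⟩) (.one ⟨357, 0, 3⟩))) (.node 2 (.node 1 (.one ⟨14806, 1, 9⟩) (.one ⟨4713, 2, 2⟩)) (.node 1 (.one ⟨10528, 0, 6⟩) (.one ⟨271, 2, 4⟩)))))))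
def par7_4_3 : Arr Par :=
  (.node 32 (.node 16 (.node 8 (.node 4 (.node 2 (.node 1 (.one ⟨16686, 1, 4⟩) (.one ⟨7010, 1, 8⟩)) (.node 1 (.one ⟨3565, 1, 8⟩) (.one ⟨8104, 0, 6⟩))) (.node 2 (.node 1 (.one ⟨4960, 1, 6⟩) (.one ⟨4884, 2, 6⟩)) (.node 1 (.one ⟨1753, 2, 6⟩) (.one ⟨9165, 2, 3⟩)))) (.node 4 (.node 2 (.node 1 (.one ⟨11916, 1, 4⟩) (.one ⟨4958, 0, 6⟩)) (.node 1 (.one ⟨15911, 1, 2⟩) (.one ⟨15669, 1, 3⟩))) (.node 2 (.node 1 (.one ⟨15125, 0, 7⟩) (.one ⟨11721, 1, 4⟩)) (.node 1 (.one ⟨15025, 2, 6⟩) (.one ⟨12177, 2, 4⟩))))) (.node 8 (.node 4 (.node 2 (.node 1 (.one ⟨4695, 2, 8⟩) (.one ⟨13599, 2, 5⟩)) (.node 1 (.one ⟨3703, 2, 5⟩) (.one ⟨14, 2, 6⟩))) (.node 2 (.node 1 (.one ⟨12093, 0, 4⟩) (.one ⟨14791, 1, 9⟩)) (.node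 1 (.one ⟨10727, 2, 5⟩) (.one ⟨889, 1, 5⟩)))) (.node 4 (.node 2 (.node 1 (.one ⟨3532, 1, 8⟩) (.one ⟨10819, 1, 5⟩)) (.node 1 (.one ⟨15988, 2, 4⟩) (.one ⟨2486, 1, 6⟩))) (.node 2 (.node 1 (.one ⟨4483, 1, 6⟩) (.one ⟨1025, 2, 2⟩)) (.node 1 (.one ⟨6939, 2, 4⟩) (.one ⟨17164, 0, 7⟩)))))) (.node 16 (.node 8 (.node 4 (.node 2 (.node 1 (.one ⟨6422, 1, 6⟩) (.one ⟨8359, 1, 10⟩)) (.node 1 (.one ⟨10397, 0, 7⟩) (.one ⟨4025, 2, 5⟩))) (.node 2 (.node 1 (.one ⟨8280, 2, 5⟩) (.one ⟨244, 2, 5⟩)) (.node 1 (.one ⟨6163, 2, 5⟩) (.one ⟨9164, 2, 5⟩)))) (.node 4 (.node 2 (.node 1 (.one ⟨12226, 0, 6⟩) (.one ⟨13889, 1, 4⟩)) (.node 1 (.one ⟨11123, 2, 6⟩) (.one ⟨7142, 0, 6⟩))) (.node 2 (.node 1 (.one ⟨14455, 1, 8⟩) (.one ⟨16678, 2, 6⟩)) (.node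 1 (.one ⟨6515, 0, 4⟩) (.one ⟨9133, 0, 5⟩))))) (.node 8 (.node 4 (.node 2 (.node 1 (.one ⟨4977, 1, 6⟩) (.one ⟨1117, 2, 3⟩)) (.node 1 (.one ⟨4912, 1, 8⟩) (.one ⟨1400, 2, 6⟩))) (.node 2 (.node 1 (.one ⟨14866, 0, 7⟩) (.one ⟨9532, 2, 7⟩)) (.node 1 (.one ⟨11992, 2, 9⟩) (.one ⟨9867, 2, 9⟩)))) (.node 4 (.node 2 (.node 1 (.one ⟨2218, 2, 5⟩) (.one ⟨13718, 2, 9⟩)) (.node 1 (.one ⟨5959, 2, 5⟩) (.one ⟨14150, 2, 6⟩))) (.node 2 (.node 1 (.one ⟨5783, 2, 4⟩) (.one ⟨9940, 2, 5⟩)) (.node 1 (.one ⟨111, 2, 6⟩) (.one ⟨13387, 1, 6⟩)))))))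
def par7_4_4 : Arr Par :=
  (.node 32 (.node 16 (.node 8 (.node 4 (.node 2 (.node 1 (.one ⟨17032, 0, 9⟩) (.one ⟨13449, 1, 8⟩)) (.node 1 (.one ⟨5373, 1, 4⟩) (.one ⟨4020, 0, 3⟩))) (.node 2 (.node 1 (.one ⟨16913, 2, 6⟩) (.one ⟨8743, 2, 5⟩)) (.node 1 (.one ⟨4384, 1, 6⟩) (.one ⟨12789, 1, 8⟩)))) (.node 4 (.node 2 (.node 1 (.one ⟨11993, 2, 7⟩) (.one ⟨16338, 2, 4⟩)) (.node 1 (.one ⟨7388, 1, 7⟩) (.one ⟨10149, 0, 7⟩))) (.node 2 (.node 1 (.one ⟨13956, 2, 5⟩) (.one ⟨16206, 1, 9⟩)) (.node 1 (.one ⟨10587, 0, 5⟩) (.one ⟨7934, 0, 9⟩))))) (.node 8 (.node 4 (.node 2 (.node 1 (.one ⟨14969, 1, 5⟩) (.one ⟨1974, 0, 4⟩)) (.node 1 (.one ⟨1864, 1, 5⟩) (.one ⟨15995, 1, 3⟩))) (.node 2 (.node 1 (.one ⟨11616, 0, 4⟩) (.one ⟨5003, 1, 5⟩))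 (.node 1 (.one ⟨13704, 0, 2⟩) (.one ⟨10821, 1, 3⟩)))) (.node 4 (.node 2 (.node 1 (.one ⟨14936, 0, 8⟩) (.one ⟨2797, 1, 3⟩)) (.node 1 (.one ⟨10853, 1, 4⟩) (.one ⟨2743, 1, 4⟩))) (.node 2 (.node 1 (.one ⟨10799, 1, 3⟩) (.one ⟨10831, 1, 4⟩)) (.node 1 (.one ⟨2775, 1, 3⟩) (.one ⟨15515, 0, 7⟩)))))) (.node 16 (.node 8 (.node 4 (.node 2 (.node 1 (.one ⟨3495, 1, 5⟩) (.one ⟨6126, 2, 9⟩)) (.node 1 (.one ⟨2747, 1, 6⟩) (.one ⟨6710, 0, 4⟩))) (.node 2 (.node 1 (.one ⟨2971, 1, 4⟩) (.one ⟨14695, 1, 6⟩)) (.node 1 (.one ⟨11794, 0, 2⟩) (.one ⟨6516, 0, 6⟩)))) (.node 4 (.node 2 (.node 1 (.one ⟨11826, 0, 4⟩) (.one ⟨13994, 2, 6⟩)) (.node 1 (.one ⟨11547, 2, 6⟩) (.one ⟨11502, 2, 4⟩))) (.node 2 (.node 1 (.one ⟨6066, 1, 7⟩) (.one ⟨15925,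 1, 3⟩)) (.node 1 (.one ⟨10154, 2, 8⟩) (.one ⟨2473, 2, 4⟩))))) (.node 8 (.node 4 (.node 2 (.node 1 (.one ⟨9010, 2, 7⟩) (.one ⟨12844, 1, 3⟩)) (.node 1 (.one ⟨9352, 0, 3⟩) (.one ⟨963, 1, 5⟩))) (.node 2 (.node 1 (.one ⟨6584, 2, 7⟩) (.one ⟨14905, 1, 3⟩)) (.node 1 (.one ⟨6364, 1, 6⟩) (.one ⟨3709, 2, 4⟩)))) (.node 4 (.node 2 (.node 1 (.one ⟨11958, 2, 3⟩) (.one ⟨17093, 2, 6⟩)) (.node 1 (.one ⟨8459, 2, 4⟩) (.one ⟨10563, 2, 7⟩))) (.node 2 (.node 1 (.one ⟨1058, 2, 8⟩) (.one ⟨2088, 1, 7⟩)) (.node 1 (.one ⟨3572, 0, 1⟩) (.one ⟨7284, 2, 9⟩)))))))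
def par7_4_5 : Arr Par :=
  (.node 32 (.node 16 (.node 8 (.node 4 (.node 2 (.node 1 (.one ⟨6736, 0, 5⟩) (.one ⟨8492, 2, 7⟩)) (.node 1 (.one ⟨12392, 2, 5⟩) (.one ⟨3632, 0, 6⟩))) (.node 2 (.node 1 (.one ⟨5467, 0, 6⟩) (.one ⟨3904, 2, 6⟩)) (.node 1 (.one ⟨3573, 1, 4⟩) (.one ⟨13070, 1, 6⟩)))) (.node 4 (.node 2 (.node 1 (.one ⟨9208, 0, 7⟩) (.one ⟨2450, 2, 7⟩)) (.node 1 (.one ⟨7051, 1, 7⟩) (.one ⟨16305, 1, 4⟩))) (.node 2 (.node 1 (.one ⟨16813, 0, 5⟩) (.one ⟨1257, 1, 6⟩)) (.node 1 (.one ⟨2608, 1, 3⟩) (.one ⟨12498, 0, 8⟩))))) (.node 8 (.node 4 (.node 2 (.node 1 (.one ⟨3178, 1, 5⟩) (.one ⟨15151, 2, 9⟩)) (.node 1 (.one ⟨5315, 1, 3⟩) (.one ⟨16065, 1, 4⟩))) (.node 2 (.node 1 (.one ⟨8935, 0, 3⟩) (.one ⟨10605, 0, 2⟩)) (.node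 1 (.one ⟨3576, 1, 8⟩) (.one ⟨14178, 2, 5⟩)))) (.node 4 (.node 2 (.node 1 (.one ⟨9356, 0, 4⟩) (.one ⟨9705, 2, 2⟩)) (.node 1 (.one ⟨12014, 1, 3⟩) (.one ⟨17100, 0, 5⟩))) (.node 2 (.node 1 (.one ⟨8204, 2, 6⟩) (.one ⟨11390, 1, 10⟩)) (.node 1 (.one ⟨4242, 2, 5⟩) (.one ⟨6836, 1, 5⟩)))))) (.node 16 (.node 8 (.node 4 (.node 2 (.node 1 (.one ⟨2280, 1, 5⟩) (.one ⟨6080, 2, 7⟩)) (.node 1 (.one ⟨5942, 1, 8⟩) (.one ⟨3029, 1, 5⟩))) (.node 2 (.node 1 (.one ⟨6355, 1, 5⟩) (.one ⟨9212, 0, 3⟩)) (.node 1 (.one ⟨7606, 2, 7⟩) (.one ⟨4636, 1, 6⟩)))) (.node 4 (.node 2 (.node 1 (.one ⟨8388, 1, 8⟩) (.one ⟨6257, 1, 6⟩)) (.node 1 (.one ⟨2231, 1, 6⟩) (.one ⟨13885, 1, 6⟩))) (.node 2 (.node 1 (.one ⟨5036, 2, 8⟩) (.one ⟨13867, 0, 4⟩)) (.node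 1 (.one ⟨17065, 1, 3⟩) (.one ⟨848, 1, 2⟩))))) (.node 8 (.node 4 (.node 2 (.node 1 (.one ⟨5040, 0, 3⟩) (.one ⟨15701, 2, 6⟩)) (.node 1 (.one ⟨530, 1, 2⟩) (.one ⟨14179, 2, 8⟩))) (.node 2 (.node 1 (.one ⟨631, 1, 2⟩) (.one ⟨245, 1, 4⟩)) (.node 1 (.one ⟨5045, 0, 5⟩) (.one ⟨6653, 2, 2⟩)))) (.node 4 (.node 2 (.node 1 (.one ⟨9652, 1, 4⟩) (.one ⟨6378, 2, 5⟩)) (.node 1 (.one ⟨11789, 1, 4⟩) (.one ⟨3546, 1, 4⟩))) (.node 2 (.node 1 (.one ⟨9264, 0, 2⟩) (.one ⟨2082, 1, 5⟩)) (.node 1 (.one ⟨3658, 1, 4⟩) (.one ⟨13944, 0, 5⟩)))))))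
def par7_4_6 : Arr Par :=
  (.node 32 (.node 16 (.node 8 (.node 4 (.node 2 (.node 1 (.one ⟨17192, 0, 4⟩) (.one ⟨6180, 1, 10⟩)) (.node 1 (.one ⟨7578, 1, 6⟩) (.one ⟨17120, 0, 5⟩))) (.node 2 (.node 1 (.one ⟨13825, 0, 5⟩) (.one ⟨9274, 0, 4⟩)) (.node 1 (.one ⟨13496, 0, 7⟩) (.one ⟨905, 2, 7⟩)))) (.node 4 (.node 2 (.node 1 (.one ⟨11602, 1, 10⟩) (.one ⟨16080, 2, 5⟩)) (.node 1 (.one ⟨15020, 0, 5⟩) (.one ⟨12341, 2, 3⟩))) (.node 2 (.node 1 (.one ⟨343, 0, 8⟩) (.one ⟨6424, 2, 6⟩)) (.node 1 (.one ⟨12813, 0, 3⟩) (.one ⟨6091, 2, 7⟩))))) (.node 8 (.node 4 (.node 2 (.node 1 (.one ⟨6092, 2, 8⟩) (.one ⟨5093, 0, 7⟩)) (.node 1 (.one ⟨3143, 1, 4⟩) (.one ⟨344, 0, 5⟩))) (.node 2 (.node 1 (.one ⟨6087, 2, 4⟩) (.one ⟨6093, 2, 9⟩)) (.node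 1 (.one ⟨12011, 1, 5⟩) (.one ⟨16814, 1, 5⟩)))) (.node 4 (.node 2 (.node 1 (.one ⟨1585, 0, 6⟩) (.one ⟨5868, 2, 8⟩)) (.node 1 (.one ⟨9730, 2, 7⟩) (.one ⟨1801, 1, 4⟩))) (.node 2 (.node 1 (.one ⟨7720, 2, 7⟩) (.one ⟨1968, 0, 7⟩)) (.node 1 (.one ⟨17102, 0, 3⟩) (.one ⟨9267, 0, 3⟩)))))) (.node 16 (.node 8 (.node 4 (.node 2 (.node 1 (.one ⟨15566, 1, 3⟩) (.one ⟨9376, 1, 5⟩)) (.node 1 (.one ⟨6743, 2, 6⟩) (.one ⟨8392, 1, 8⟩))) (.node 2 (.node 1 (.one ⟨16520, 1, 7⟩) (.one ⟨12403, 1, 4⟩)) (.node 1 (.one ⟨4222, 1, 5⟩) (.one ⟨2074, 1, 5⟩)))) (.node 4 (.node 2 (.node 1 (.one ⟨4212, 2, 4⟩) (.one ⟨16655, 2, 8⟩)) (.node 1 (.one ⟨10079, 1, 6⟩) (.one ⟨14613, 2, 7⟩))) (.node 2 (.node 1 (.one ⟨1979, 1, 3⟩) (.one ⟨8956, 2, 4⟩)) (.node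 1 (.one ⟨468, 0, 3⟩) (.one ⟨3886, 0, 5⟩))))) (.node 8 (.node 4 (.node 2 (.node 1 (.one ⟨1289, 2, 3⟩) (.one ⟨7423, 2, 5⟩)) (.node 1 (.one ⟨13905, 1, 8⟩) (.one ⟨16532, 0, 4⟩))) (.node 2 (.node 1 (.one ⟨9480, 0, 2⟩) (.one ⟨10961, 1, 2⟩)) (.node 1 (.one ⟨10814, 1, 5⟩) (.one ⟨10525, 1, 9⟩)))) (.node 4 (.node 2 (.node 1 (.one ⟨13374, 2, 7⟩) (.one ⟨10686, 1, 5⟩)) (.node 1 (.one ⟨7521, 1, 4⟩) (.one ⟨957, 0, 4⟩))) (.node 2 (.node 1 (.one ⟨14918, 0, 9⟩) (.one ⟨1876, 1, 5⟩)) (.node 1 (.one ⟨9610, 2, 1⟩) (.one ⟨5493, 1, 6⟩)))))))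
def par7_4_7 : Arr Par :=
  (.node 32 (.node 16 (.node 8 (.node 4 (.node 2 (.node 1 (.one ⟨4689, 1, 8⟩) (.one ⟨9475, 0, 5⟩)) (.node 1 (.one ⟨3137, 1, 4⟩) (.one ⟨6426, 1, 8⟩))) (.node 2 (.node 1 (.one ⟨6014, 1, 6⟩) (.one ⟨7832, 1, 7⟩)) (.node 1 (.one ⟨8300, 1, 5⟩) (.one ⟨8448, 1, 6⟩)))) (.node 4 (.node 2 (.node 1 (.one ⟨2436, 1, 6⟩) (.one ⟨15136, 1, 4⟩)) (.node 1 (.one ⟨12236, 1, 4⟩) (.one ⟨12710, 1, 4⟩))) (.node 2 (.node 1 (.one ⟨14449, 1, 2⟩) (.one ⟨661, 0, 5⟩)) (.node 1 (.one ⟨8341, 1, 2⟩) (.one ⟨14624, 1, 5⟩))))) (.node 8 (.node 4 (.node 2 (.node 1 (.one ⟨14930, 1, 7⟩) (.one ⟨2524, 1, 4⟩)) (.node 1 (.one ⟨2918, 1, 5⟩) (.one ⟨5582, 1, 7⟩))) (.node 2 (.node 1 (.one ⟨7333, 1, 5⟩) (.one ⟨9593, 1, 6⟩)) (.node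 1 (.one ⟨11271, 1, 9⟩) (.one ⟨641, 1, 4⟩)))) (.node 4 (.node 2 (.node 1 (.one ⟨6777, 0, 5⟩) (.one ⟨1321, 0, 7⟩)) (.node 1 (.one ⟨3490, 2, 3⟩) (.one ⟨7839, 0, 7⟩))) (.node 2 (.node 1 (.one ⟨15459, 0, 6⟩) (.one ⟨11398, 2, 5⟩)) (.node 1 (.one ⟨9983, 2, 2⟩) (.one ⟨4069, 0, 6⟩)))))) (.node 16 (.node 8 (.node 4 (.node 2 (.node 1 (.one ⟨3790, 1, 4⟩) (.one ⟨295, 1, 5⟩)) (.node 1 (.one ⟨2523, 1, 1⟩) (.one ⟨10760, 1, 1⟩))) (.node 2 (.node 1 (.one ⟨3009, 0, 6⟩) (.one ⟨11702, 1, 7⟩)) (.node 1 (.one ⟨11250, 2, 8⟩) (.one ⟨15575, 2, 9⟩)))) (.node 4 (.node 2 (.node 1 (.one ⟨2806, 1, 4⟩) (.one ⟨7758, 2, 4⟩)) (.node 1 (.one ⟨17165, 2, 5⟩) (.one ⟨11747, 2, 3⟩))) (.node 2 (.node 1 (.one ⟨15911, 0, 2⟩) (.one ⟨3283, 2, 5⟩)) (.node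 1 (.one ⟨6741, 0, 7⟩) (.one ⟨8454, 2, 3⟩))))) (.node 8 (.node 4 (.node 2 (.node 1 (.one ⟨15144, 1, 4⟩) (.one ⟨14600, 1, 4⟩)) (.node 1 (.one ⟨15595, 2, 5⟩) (.one ⟨13202, 2, 6⟩))) (.node 2 (.node 1 (.one ⟨565, 2, 7⟩) (.one ⟨9442, 0, 2⟩)) (.node 1 (.one ⟨11724, 1, 7⟩) (.one ⟨6103, 1, 7⟩)))) (.node 4 (.node 2 (.node 1 (.one ⟨15543, 1, 7⟩) (.one ⟨1312, 0, 2⟩)) (.node 1 (.one ⟨8905, 0, 8⟩) (.one ⟨9066, 2, 6⟩))) (.node 2 (.node 1 (.one ⟨1871, 1, 5⟩) (.one ⟨10131, 2, 4⟩)) (.node 1 (.one ⟨7249, 2, 4⟩) (.one ⟨9273, 1, 6⟩)))))))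
def par7_4_8 : Arr Par :=
  (.node 32 (.node 16 (.node 8 (.node 4 (.node 2 (.node 1 (.one ⟨3142, 1, 7⟩) (.one ⟨5863, 1, 5⟩)) (.node 1 (.one ⟨15496, 1, 6⟩) (.one ⟨3656, 2, 7⟩))) (.node 2 (.node 1 (.one ⟨9444, 0, 5⟩) (.one ⟨2281, 2, 7⟩)) (.node 1 (.one ⟨10361, 2, 6⟩) (.one ⟨5837, 1, 5⟩)))) (.node 4 (.node 2 (.node 1 (.one ⟨17072, 0, 7⟩) (.one ⟨11794, 1, 2⟩)) (.node 1 (.one ⟨13802, 1, 4⟩) (.one ⟨6337, 1, 8⟩))) (.node 2 (.node 1 (.one ⟨12507, 0, 1⟩) (.one ⟨11451, 0, 7⟩)) (.node 1 (.one ⟨14454, 1, 5⟩) (.one ⟨7712, 1, 3⟩))))) (.node 8 (.node 4 (.node 2 (.node 1 (.one ⟨14416, 1, 6⟩) (.one ⟨1066, 1, 5⟩)) (.node 1 (.one ⟨7347, 2, 9⟩) (.one ⟨6760, 2, 2⟩))) (.node 2 (.node 1 (.one ⟨8276, 1, 4⟩) (.one ⟨11827, 1, 8⟩)) (.node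 1 (.one ⟨2519, 1, 7⟩) (.one ⟨566, 1, 5⟩)))) (.node 4 (.node 2 (.node 1 (.one ⟨3065, 0, 4⟩) (.one ⟨294, 1, 8⟩)) (.node 1 (.one ⟨7893, 2, 6⟩) (.one ⟨3068, 0, 9⟩))) (.node 2 (.node 1 (.one ⟨687, 1, 5⟩) (.one ⟨10939, 1, 7⟩)) (.node 1 (.one ⟨886, 1, 2⟩) (.one ⟨8052, 0, 6⟩)))))) (.node 16 (.node 8 (.node 4 (.node 2 (.node 1 (.one ⟨2520, 1, 9⟩) (.one ⟨10910, 0, 7⟩)) (.node 1 (.one ⟨14771, 0, 5⟩) (.one ⟨15557, 1, 5⟩))) (.node 2 (.node 1 (.one ⟨6676, 1, 5⟩) (.one ⟨15592, 2, 4⟩)) (.node 1 (.one ⟨8510, 0, 9⟩) (.one ⟨13237, 2, 9⟩)))) (.node 4 (.node 2 (.node 1 (.one ⟨11106, 0, 7⟩) (.one ⟨3028, 0, 5⟩)) (.node 1 (.one ⟨3934, 2, 7⟩) (.one ⟨744, 1, 2⟩))) (.node 2 (.node 1 (.one ⟨13832, 0, 5⟩) (.one ⟨5755, 0, 7⟩)) (.node 1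 (.one ⟨6596, 2, 7⟩) (.one ⟨15263, 0, 8⟩))))) (.node 8 (.node 4 (.node 2 (.node 1 (.one ⟨6193, 0, 9⟩) (.one ⟨16854, 2, 8⟩)) (.node 1 (.one ⟨8417, 0, 9⟩) (.one ⟨11352, 0, 9⟩))) (.node 2 (.node 1 (.one ⟨2929, 1, 1⟩) (.one ⟨2199, 2, 4⟩)) (.node 1 (.one ⟨4802, 0, 2⟩) (.one ⟨15199, 0, 4⟩)))) (.node 4 (.node 2 (.node 1 (.one ⟨5805, 1, 2⟩) (.one ⟨10538, 0, 6⟩)) (.node 1 (.one ⟨6255, 0, 4⟩) (.one ⟨16237, 1, 3⟩))) (.node 2 (.node 1 (.one ⟨7633, 0, 2⟩) (.one ⟨16451, 0, 5⟩)) (.node 1 (.one ⟨4785, 0, 6⟩) (.one ⟨11994, 2, 3⟩)))))))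
def par7_4_9 : Arr Par :=
  (.node 32 (.node 16 (.node 8 (.node 4 (.node 2 (.node 1 (.one ⟨5896, 1, 7⟩) (.one ⟨15535, 2, 6⟩)) (.node 1 (.one ⟨5857, 1, 7⟩) (.one ⟨12218, 2, 5⟩))) (.node 2 (.node 1 (.one ⟨11946, 1, 4⟩) (.one ⟨6849, 1, 6⟩)) (.node 1 (.one ⟨6023, 2, 6⟩) (.one ⟨8039, 2, 2⟩)))) (.node 4 (.node 2 (.node 1 (.one ⟨909, 0, 9⟩) (.one ⟨9490, 1, 3⟩)) (.node 1 (.one ⟨6771, 0, 6⟩) (.one ⟨3951, 1, 2⟩))) (.node 2 (.node 1 (.one ⟨11467, 0, 6⟩) (.one ⟨8200, 1, 3⟩)) (.node 1 (.one ⟨1345, 2, 5⟩) (.one ⟨6851, 1, 5⟩))))) (.node 8 (.node 4 (.node 2 (.node 1 (.one ⟨8912, 2, 6⟩) (.one ⟨4595, 1, 7⟩)) (.node 1 (.one ⟨4570, 1, 4⟩) (.one ⟨15538, 2, 4⟩))) (.node 2 (.node 1 (.one ⟨11991, 2, 7⟩) (.one ⟨1689, 1, 3⟩)) (.node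 1 (.one ⟨14779, 2, 6⟩) (.one ⟨3736, 1, 7⟩)))) (.node 4 (.node 2 (.node 1 (.one ⟨14863, 1, 7⟩) (.one ⟨9391, 1, 5⟩)) (.node 1 (.one ⟨8743, 1, 5⟩) (.one ⟨3343, 1, 3⟩))) (.node 2 (.node 1 (.one ⟨2776, 2, 6⟩) (.one ⟨13607, 1, 5⟩)) (.node 1 (.one ⟨6255, 1, 4⟩) (.one ⟨8903, 1, 8⟩)))))) (.node 16 (.node 8 (.node 4 (.node 2 (.node 1 (.one ⟨6198, 2, 9⟩) (.one ⟨11353, 2, 6⟩)) (.node 1 (.one ⟨6367, 1, 3⟩) (.one ⟨7384, 2, 5⟩))) (.node 2 (.node 1 (.one ⟨12871, 1, 6⟩) (.one ⟨9823, 1, 5⟩)) (.node 1 (.one ⟨10350, 2, 6⟩) (.one ⟨10346, 0, 9⟩)))) (.node 4 (.node 2 (.node 1 (.one ⟨15042, 2, 8⟩) (.one ⟨1226, 1, 1⟩)) (.node 1 (.one ⟨14799, 0, 9⟩) (.one ⟨12715, 2, 6⟩))) (.node 2 (.node 1 (.one ⟨7385, 0, 9⟩) (.one ⟨16358, 1, 6⟩)) (.node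 1 (.one ⟨10512, 1, 1⟩) (.one ⟨11897, 2, 7⟩))))) (.node 8 (.node 4 (.node 2 (.node 1 (.one ⟨12659, 2, 8⟩) (.one ⟨2326, 2, 2⟩)) (.node 1 (.one ⟨15520, 1, 8⟩) (.one ⟨4305, 1, 6⟩))) (.node 2 (.node 1 (.one ⟨97, 1, 1⟩) (.one ⟨4337, 1, 4⟩)) (.node 1 (.one ⟨1441, 1, 3⟩) (.one ⟨16802, 0, 9⟩)))) (.node 4 (.node 2 (.node 1 (.one ⟨8973, 1, 4⟩) (.one ⟨14811, 2, 4⟩)) (.node 1 (.one ⟨8071, 0, 4⟩) (.one ⟨228, 1, 4⟩))) (.node 2 (.node 1 (.one ⟨7995, 2, 4⟩) (.one ⟨9845, 1, 7⟩)) (.node 1 (.one ⟨15795, 1, 6⟩) (.one ⟨7218, 2, 2⟩)))))))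
def par7_4_10 : Arr Par :=
  (.node 32 (.node 16 (.node 8 (.node 4 (.node 2 (.node 1 (.one ⟨14760, 1, 4⟩) (.one ⟨16388, 2, 3⟩)) (.node 1 (.one ⟨13289, 0, 8⟩) (.one ⟨9022, 1, 4⟩))) (.node 2 (.node 1 (.one ⟨3582, 0, 6⟩) (.one ⟨4022, 0, 4⟩)) (.node 1 (.one ⟨371, 1, 3⟩) (.one ⟨5624, 1, 10⟩)))) (.node 4 (.node 2 (.node 1 (.one ⟨13638, 2, 4⟩) (.one ⟨6714, 1, 10⟩)) (.node 1 (.one ⟨8457, 1, 4⟩) (.one ⟨3711, 0, 7⟩))) (.node 2 (.node 1 (.one ⟨3596, 1, 8⟩) (.one ⟨2805, 1, 2⟩)) (.node 1 (.one ⟨4588, 1, 3⟩) (.one ⟨11914, 1, 8⟩))))) (.node 8 (.node 4 (.node 2 (.node 1 (.one ⟨13117, 1, 6⟩) (.one ⟨2510, 1, 5⟩)) (.node 1 (.one ⟨2842, 1, 4⟩) (.one ⟨13080, 1, 7⟩))) (.node 2 (.node 1 (.one ⟨888, 0, 4⟩) (.one ⟨17133, 0, 3⟩)) (.node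 1 (.one ⟨14911, 0, 3⟩) (.one ⟨2432, 2, 6⟩)))) (.node 4 (.node 2 (.node 1 (.one ⟨2512, 2, 3⟩) (.one ⟨5160, 1, 6⟩)) (.node 1 (.one ⟨13499, 2, 7⟩) (.one ⟨10049, 1, 5⟩))) (.node 2 (.node 1 (.one ⟨7311, 1, 8⟩) (.one ⟨15816, 1, 2⟩)) (.node 1 (.one ⟨414, 0, 4⟩) (.one ⟨13003, 2, 4⟩)))))) (.node 16 (.node 8 (.node 4 (.node 2 (.node 1 (.one ⟨12143, 2, 3⟩) (.one ⟨245, 2, 4⟩)) (.node 1 (.one ⟨5065, 0, 7⟩) (.one ⟨2332, 2, 3⟩))) (.node 2 (.node 1 (.one ⟨3050, 2, 8⟩) (.one ⟨11122, 0, 4⟩)) (.node 1 (.one ⟨11571, 2, 6⟩) (.one ⟨13640, 1, 8⟩)))) (.node 4 (.node 2 (.node 1 (.one ⟨14424, 2, 4⟩) (.one ⟨13420, 1, 6⟩)) (.node 1 (.one ⟨8962, 1, 6⟩) (.one ⟨10304, 2, 7⟩))) (.node 2 (.node 1 (.one ⟨3175, 2, 4⟩) (.one ⟨15260, 2, 6⟩)) (.node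 1 (.one ⟨15808, 1, 4⟩) (.one ⟨152, 2, 8⟩))))) (.node 8 (.node 4 (.node 2 (.node 1 (.one ⟨606, 2, 3⟩) (.one ⟨895, 2, 5⟩)) (.node 1 (.one ⟨442, 2, 4⟩) (.one ⟨742, 2, 5⟩))) (.node 2 (.node 1 (.one ⟨265, 2, 5⟩) (.one ⟨556, 2, 5⟩)) (.node 1 (.one ⟨1010, 2, 6⟩) (.one ⟨5593, 1, 7⟩)))) (.node 4 (.node 2 (.node 1 (.one ⟨14592, 1, 3⟩) (.one ⟨1152, 0, 8⟩)) (.node 1 (.one ⟨10000, 0, 7⟩) (.one ⟨2488, 1, 4⟩))) (.node 2 (.node 1 (.one ⟨9592, 1, 9⟩) (.one ⟨10670, 1, 7⟩)) (.node 1 (.one ⟨7675, 2, 4⟩) (.one ⟨11699, 0, 3⟩)))))))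
def par7_4_11 : Arr Par :=
  (.node 32 (.node 16 (.node 8 (.node 4 (.node 2 (.node 1 (.one ⟨228, 0, 4⟩) (.one ⟨171, 0, 3⟩)) (.node 1 (.one ⟨14639, 2, 1⟩) (.one ⟨1871, 2, 5⟩))) (.node 2 (.node 1 (.one ⟨7149, 1, 5⟩) (.one ⟨1581, 1, 7⟩)) (.node 1 (.one ⟨16487, 1, 10⟩) (.one ⟨14584, 1, 6⟩)))) (.node 4 (.node 2 (.node 1 (.one ⟨6519, 0, 4⟩) (.one ⟨1781, 2, 5⟩)) (.node 1 (.one ⟨2107, 2, 2⟩) (.one ⟨7814, 2, 3⟩))) (.node 2 (.node 1 (.one ⟨15183, 1, 4⟩) (.one ⟨12409, 0, 9⟩)) (.node 1 (.one ⟨1882, 2, 8⟩) (.one ⟨12144, 0, 6⟩))))) (.node 8 (.node 4 (.node 2 (.node 1 (.one ⟨11698, 2, 7⟩) (.one ⟨170, 2, 3⟩)) (.node 1 (.one ⟨4457, 2, 7⟩) (.one ⟨2763, 1, 7⟩))) (.node 2 (.node 1 (.one ⟨7782, 1, 6⟩) (.one ⟨13635, 1, 8⟩)) (.node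 1 (.one ⟨12635, 1, 7⟩) (.one ⟨3517, 0, 3⟩)))) (.node 4 (.node 2 (.node 1 (.one ⟨10333, 1, 6⟩) (.one ⟨16919, 0, 7⟩)) (.node 1 (.one ⟨6883, 1, 4⟩) (.one ⟨6436, 2, 8⟩))) (.node 2 (.node 1 (.one ⟨13884, 0, 7⟩) (.one ⟨410, 2, 5⟩)) (.node 1 (.one ⟨6296, 2, 4⟩) (.one ⟨10087, 1, 8⟩)))))) (.node 16 (.node 8 (.node 4 (.node 2 (.node 1 (.one ⟨16293, 1, 3⟩) (.one ⟨3899, 1, 0⟩)) (.node 1 (.one ⟨6472, 2, 7⟩) (.one ⟨13066, 1, 5⟩))) (.node 2 (.node 1 (.one ⟨15260, 1, 6⟩) (.one ⟨13282, 2, 7⟩)) (.node 1 (.one ⟨4926, 1, 7⟩) (.one ⟨5168, 0, 4⟩)))) (.node 4 (.node 2 (.node 1 (.one ⟨11554, 0, 4⟩) (.one ⟨6465, 2, 4⟩)) (.node 1 (.one ⟨8778, 0, 5⟩) (.one ⟨5555, 1, 9⟩))) (.node 2 (.node 1 (.one ⟨4194, 2, 9⟩) (.one ⟨4308, 2, 5⟩)) (.node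 1 (.one ⟨7664, 2, 9⟩) (.one ⟨5181, 1, 4⟩))))) (.node 8 (.node 4 (.node 2 (.node 1 (.one ⟨13423, 2, 4⟩) (.one ⟨10244, 0, 4⟩)) (.node 1 (.one ⟨9562, 2, 1⟩) (.one ⟨9293, 2, 3⟩))) (.node 2 (.node 1 (.one ⟨9437, 2, 1⟩) (.one ⟨534, 1, 9⟩)) (.node 1 (.one ⟨2055, 1, 8⟩) (.one ⟨11310, 1, 5⟩)))) (.node 4 (.node 2 (.node 1 (.one ⟨9353, 1, 7⟩) (.one ⟨12426, 1, 5⟩)) (.node 1 (.one ⟨11376, 2, 4⟩) (.one ⟨14334, 1, 7⟩))) (.node 2 (.node 1 (.one ⟨14712, 1, 8⟩) (.one ⟨14324, 2, 4⟩)) (.node 1 (.one ⟨15953, 1, 8⟩) (.one ⟨6320, 1, 3⟩)))))))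
def par7_4_12 : Arr Par :=
  (.node 32 (.node 16 (.node 8 (.node 4 (.node 2 (.node 1 (.one ⟨6564, 0, 5⟩) (.one ⟨11064, 1, 7⟩)) (.node 1 (.one ⟨8304, 1, 8⟩) (.one ⟨5468, 1, 5⟩))) (.node 2 (.node 1 (.one ⟨14085, 1, 6⟩) (.one ⟨15885, 1, 3⟩)) (.node 1 (.one ⟨3227, 1, 2⟩) (.one ⟨4437, 1, 3⟩)))) (.node 4 (.node 2 (.node 1 (.one ⟨6828, 1, 8⟩) (.one ⟨9010, 1, 7⟩)) (.node 1 (.one ⟨1225, 1, 3⟩) (.one ⟨3457, 2, 9⟩))) (.node 2 (.node 1 (.one ⟨16746, 1, 7⟩) (.one ⟨5278, 0, 6⟩)) (.node 1 (.one ⟨11715, 0, 3⟩) (.one ⟨14901, 2, 3⟩))))) (.node 8 (.node 4 (.node 2 (.node 1 (.one ⟨14328, 1, 7⟩) (.one ⟨13309, 0, 9⟩)) (.node 1 (.one ⟨382, 1, 7⟩) (.one ⟨12449, 1, 4⟩))) (.node 2 (.node 1 (.one ⟨15552, 1, 5⟩) (.one ⟨7914, 1, 8⟩)) (.node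 1 (.one ⟨2913, 1, 4⟩) (.one ⟨10406, 1, 6⟩)))) (.node 4 (.node 2 (.node 1 (.one ⟨5417, 1, 4⟩) (.one ⟨8015, 0, 5⟩)) (.node 1 (.one ⟨12981, 1, 4⟩) (.one ⟨2688, 1, 5⟩))) (.node 2 (.node 1 (.one ⟨1049, 0, 7⟩) (.one ⟨12599, 2, 8⟩)) (.node 1 (.one ⟨14371, 2, 7⟩) (.one ⟨14868, 1, 8⟩)))))) (.node 16 (.node 8 (.node 4 (.node 2 (.node 1 (.one ⟨6763, 1, 8⟩) (.one ⟨13828, 1, 7⟩)) (.node 1 (.one ⟨5205, 2, 7⟩) (.one ⟨13323, 2, 5⟩))) (.node 2 (.node 1 (.one ⟨10515, 2, 4⟩) (.one ⟨14769, 1, 5⟩)) (.node 1 (.one ⟨328, 2, 3⟩) (.one ⟨16983, 2, 5⟩)))) (.node 4 (.node 2 (.node 1 (.one ⟨4461, 2, 5⟩) (.one ⟨10863, 0, 4⟩)) (.node 1 (.one ⟨16700, 1, 5⟩) (.one ⟨14453, 2, 5⟩))) (.node 2 (.node 1 (.one ⟨12097, 1, 7⟩) (.one ⟨16742, 0, 5⟩))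 (.node 1 (.one ⟨3523, 0, 2⟩) (.one ⟨8097, 2, 8⟩))))) (.node 8 (.node 4 (.node 2 (.node 1 (.one ⟨1177, 2, 7⟩) (.one ⟨10921, 1, 4⟩)) (.node 1 (.one ⟨11208, 1, 8⟩) (.one ⟨4061, 1, 0⟩))) (.node 2 (.node 1 (.one ⟨8105, 2, 3⟩) (.one ⟨9626, 2, 8⟩)) (.node 1 (.one ⟨16137, 2, 8⟩) (.one ⟨4016, 2, 9⟩)))) (.node 4 (.node 2 (.node 1 (.one ⟨13708, 0, 6⟩) (.one ⟨5385, 2, 9⟩)) (.node 1 (.one ⟨1420, 1, 4⟩) (.one ⟨3650, 2, 9⟩))) (.node 2 (.node 1 (.one ⟨11598, 2, 5⟩) (.one ⟨12319, 1, 8⟩)) (.node 1 (.one ⟨15140, 0, 6⟩) (.one ⟨15554, 2, 6⟩)))))))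
def par7_4_13 : Arr Par :=
  (.node 32 (.node 16 (.node 8 (.node 4 (.node 2 (.node 1 (.one ⟨14473, 1, 9⟩) (.one ⟨9753, 2, 8⟩)) (.node 1 (.one ⟨8774, 0, 7⟩) (.one ⟨11334, 2, 8⟩))) (.node 2 (.node 1 (.one ⟨10027, 2, 8⟩) (.one ⟨2243, 1, 4⟩)) (.node 1 (.one ⟨13322, 1, 7⟩) (.one ⟨13319, 1, 5⟩)))) (.node 4 (.node 2 (.node 1 (.one ⟨5179, 1, 3⟩) (.one ⟨846, 2, 5⟩)) (.node 1 (.one ⟨5245, 1, 4⟩) (.one ⟨13353, 1, 9⟩))) (.node 2 (.node 1 (.one ⟨7708, 0, 9⟩) (.one ⟨4015, 1, 0⟩)) (.node 1 (.one ⟨5278, 1, 6⟩) (.one ⟨4740, 1, 7⟩))))) (.node 8 (.node 4 (.node 2 (.node 1 (.one ⟨12643, 1, 5⟩) (.one ⟨16339, 1, 5⟩)) (.node 1 (.one ⟨8342, 1, 5⟩) (.one ⟨3425, 2, 3⟩))) (.node 2 (.node 1 (.one ⟨2455, 2, 7⟩) (.one ⟨6486, 2, 7⟩)) (.node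 1 (.one ⟨7153, 2, 7⟩) (.one ⟨14335, 1, 5⟩)))) (.node 4 (.node 2 (.node 1 (.one ⟨12327, 2, 2⟩) (.one ⟨8047, 1, 4⟩)) (.node 1 (.one ⟨889, 0, 5⟩) (.one ⟨13048, 1, 6⟩))) (.node 2 (.node 1 (.one ⟨17136, 1, 6⟩) (.one ⟨3311, 1, 3⟩)) (.node 1 (.one ⟨7965, 2, 5⟩) (.one ⟨13044, 1, 4⟩)))))) (.node 16 (.node 8 (.node 4 (.node 2 (.node 1 (.one ⟨3496, 2, 5⟩) (.one ⟨17029, 0, 6⟩)) (.node 1 (.one ⟨13321, 1, 5⟩) (.one ⟨7269, 0, 6⟩))) (.node 2 (.node 1 (.one ⟨122, 0, 5⟩) (.one ⟨3501, 2, 6⟩)) (.node 1 (.one ⟨16986, 1, 8⟩) (.one ⟨890, 1, 9⟩)))) (.node 4 (.node 2 (.node 1 (.one ⟨12845, 1, 9⟩) (.one ⟨10972, 1, 8⟩)) (.node 1 (.one ⟨16529, 0, 3⟩) (.one ⟨1625, 0, 7⟩))) (.node 2 (.node 1 (.one ⟨16081, 0, 5⟩) (.one ⟨7677, 2, 9⟩)) (.node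 1 (.one ⟨2362, 1, 8⟩) (.one ⟨14454, 2, 5⟩))))) (.node 8 (.node 4 (.node 2 (.node 1 (.one ⟨7660, 0, 6⟩) (.one ⟨9615, 2, 5⟩)) (.node 1 (.one ⟨5183, 1, 4⟩) (.one ⟨2, 2, 7⟩))) (.node 2 (.node 1 (.one ⟨14461, 2, 8⟩) (.one ⟨10922, 1, 6⟩)) (.node 1 (.one ⟨3846, 1, 0⟩) (.one ⟨6798, 1, 6⟩)))) (.node 4 (.node 2 (.node 1 (.one ⟨10922, 2, 6⟩) (.one ⟨17141, 1, 8⟩)) (.node 1 (.one ⟨11612, 1, 5⟩) (.one ⟨13792, 0, 9⟩))) (.node 2 (.node 1 (.one ⟨7703, 0, 5⟩) (.one ⟨662, 0, 5⟩)) (.node 1 (.one ⟨14632, 1, 6⟩) (.one ⟨6749, 1, 10⟩)))))))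
def par7_4_14 : Arr Par :=
  (.node 32 (.node 16 (.node 8 (.node 4 (.node 2 (.node 1 (.one ⟨14378, 0, 9⟩) (.one ⟨16054, 0, 5⟩)) (.node 1 (.one ⟨5702, 0, 8⟩) (.one ⟨1140, 2, 8⟩))) (.node 2 (.node 1 (.one ⟨490, 1, 3⟩) (.one ⟨531, 1, 5⟩)) (.node 1 (.one ⟨510, 1, 3⟩) (.one ⟨455, 1, 8⟩)))) (.node 4 (.node 2 (.node 1 (.one ⟨2319, 2, 4⟩) (.one ⟨12250, 2, 4⟩)) (.node 1 (.one ⟨867, 1, 3⟩) (.one ⟨701, 1, 4⟩))) (.node 2 (.node 1 (.one ⟨6650, 0, 9⟩) (.one ⟨1814, 2, 5⟩)) (.node 1 (.one ⟨138, 1, 5⟩) (.one ⟨3849, 2, 9⟩))))) (.node 8 (.node 4 (.node 2 (.node 1 (.one ⟨4226, 2, 7⟩) (.one ⟨8169, 2, 1⟩)) (.node 1 (.one ⟨10494, 1, 7⟩) (.one ⟨6479, 2, 6⟩))) (.node 2 (.node 1 (.one ⟨10930, 1, 7⟩) (.one ⟨8184, 0, 4⟩)) (.node 1 (.one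 ⟨2458, 2, 7⟩) (.one ⟨10945, 1, 3⟩)))) (.node 4 (.node 2 (.node 1 (.one ⟨11324, 2, 9⟩) (.one ⟨16601, 0, 6⟩)) (.node 1 (.one ⟨15763, 2, 6⟩) (.one ⟨346, 2, 7⟩))) (.node 2 (.node 1 (.one ⟨16860, 2, 2⟩) (.one ⟨1266, 1, 4⟩)) (.node 1 (.one ⟨9893, 2, 3⟩) (.one ⟨11510, 2, 6⟩)))))) (.node 16 (.node 8 (.node 4 (.node 2 (.node 1 (.one ⟨3131, 1, 6⟩) (.one ⟨4197, 1, 8⟩)) (.node 1 (.one ⟨4257, 0, 6⟩) (.one ⟨10166, 0, 6⟩))) (.node 2 (.node 1 (.one ⟨6117, 2, 4⟩) (.one ⟨12908, 2, 5⟩)) (.node 1 (.one ⟨6134, 2, 5⟩) (.one ⟨14001, 0, 2⟩)))) (.node 4 (.node 2 (.node 1 (.one ⟨11675, 0, 8⟩) (.one ⟨12051, 1, 8⟩)) (.node 1 (.one ⟨6022, 1, 6⟩) (.one ⟨10671, 2, 5⟩))) (.node 2 (.node 1 (.one ⟨16197, 1, 7⟩) (.one ⟨12586, 1, 7⟩)) (.node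 1 (.one ⟨10512, 0, 1⟩) (.one ⟨12265, 0, 5⟩))))) (.node 8 (.node 4 (.node 2 (.node 1 (.one ⟨16177, 2, 2⟩) (.one ⟨11393, 1, 6⟩)) (.node 1 (.one ⟨13682, 2, 5⟩) (.one ⟨4028, 2, 7⟩))) (.node 2 (.node 1 (.one ⟨11735, 0, 5⟩) (.one ⟨670, 2, 4⟩)) (.node 1 (.one ⟨2253, 0, 5⟩) (.one ⟨15939, 2, 6⟩)))) (.node 4 (.node 2 (.node 1 (.one ⟨3802, 1, 6⟩) (.one ⟨10057, 1, 8⟩)) (.node 1 (.one ⟨16100, 2, 7⟩) (.one ⟨6603, 0, 5⟩))) (.node 2 (.node 1 (.one ⟨4001, 1, 4⟩) (.one ⟨10802, 0, 2⟩)) (.node 1 (.one ⟨10551, 1, 7⟩) (.one ⟨3912, 2, 5⟩)))))))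
def par7_4_15 : Arr Par :=
  (.node 32 (.node 16 (.node 8 (.node 4 (.node 2 (.node 1 (.one ⟨12923, 1, 5⟩) (.one ⟨1382, 0, 3⟩)) (.node 1 (.one ⟨11459, 0, 6⟩) (.one ⟨12113, 0, 8⟩))) (.node 2 (.node 1 (.one ⟨2191, 1, 4⟩) (.one ⟨3170, 0, 8⟩)) (.node 1 (.one ⟨14605, 2, 2⟩) (.one ⟨6644, 0, 7⟩)))) (.node 4 (.node 2 (.node 1 (.one ⟨14952, 0, 8⟩) (.one ⟨6553, 2, 6⟩)) (.node 1 (.one ⟨573, 2, 3⟩) (.one ⟨7483, 0, 5⟩))) (.node 2 (.node 1 (.one ⟨15322, 0, 5⟩) (.one ⟨10343, 0, 7⟩)) (.node 1 (.one ⟨11347, 1, 4⟩) (.one ⟨6074, 1, 2⟩))))) (.node 8 (.node 4 (.node 2 (.node 1 (.one ⟨12352, 2, 2⟩) (.one ⟨5603, 0, 6⟩)) (.node 1 (.one ⟨7235, 2, 5⟩) (.one ⟨1893, 1, 3⟩))) (.node 2 (.node 1 (.one ⟨14549, 1, 2⟩) (.one ⟨10488, 1, 6⟩))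 (.node 1 (.one ⟨5783, 1, 4⟩) (.one ⟨1391, 0, 3⟩)))) (.node 4 (.node 2 (.node 1 (.one ⟨14207, 1, 4⟩) (.one ⟨8428, 0, 3⟩)) (.node 1 (.one ⟨4892, 1, 8⟩) (.one ⟨15732, 1, 5⟩))) (.node 2 (.node 1 (.one ⟨8798, 0, 4⟩) (.one ⟨7505, 0, 9⟩)) (.node 1 (.one ⟨14604, 2, 6⟩) (.one ⟨12251, 1, 8⟩)))))) (.node 16 (.node 8 (.node 4 (.node 2 (.node 1 (.one ⟨14765, 1, 7⟩) (.one ⟨14760, 0, 4⟩)) (.node 1 (.one ⟨953, 2, 6⟩) (.one ⟨12623, 2, 8⟩))) (.node 2 (.node 1 (.one ⟨7624, 2, 4⟩) (.one ⟨2496, 2, 6⟩)) (.node 1 (.one ⟨10554, 0, 6⟩) (.one ⟨11790, 0, 5⟩)))) (.node 4 (.node 2 (.node 1 (.one ⟨12401, 2, 8⟩) (.one ⟨6782, 1, 4⟩)) (.node 1 (.one ⟨12402, 2, 6⟩) (.one ⟨15798, 2, 5⟩))) (.node 2 (.node 1 (.one ⟨243, 1, 4⟩) (.one ⟨13326, 0,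 4⟩)) (.node 1 (.one ⟨15795, 2, 6⟩) (.one ⟨916, 0, 5⟩))))) (.node 8 (.node 4 (.node 2 (.node 1 (.one ⟨8454, 1, 3⟩) (.one ⟨2432, 1, 6⟩)) (.node 1 (.one ⟨3280, 2, 1⟩) (.one ⟨1419, 2, 3⟩))) (.node 2 (.node 1 (.one ⟨4512, 2, 4⟩) (.one ⟨12075, 1, 2⟩)) (.node 1 (.one ⟨3600, 1, 6⟩) (.one ⟨13297, 2, 7⟩)))) (.node 4 (.node 2 (.node 1 (.one ⟨11950, 1, 8⟩) (.one ⟨7922, 1, 8⟩)) (.node 1 (.one ⟨9612, 2, 4⟩) (.one ⟨13020, 1, 4⟩))) (.node 2 (.node 1 (.one ⟨10055, 0, 9⟩) (.one ⟨13992, 2, 6⟩)) (.node 1 (.one ⟨6103, 2, 7⟩) (.one ⟨11449, 2, 4⟩)))))))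
def par7_4 : Arr Par :=
  (.node 512 (.node 256 (.node 128 (.node 64 par7_4_0 par7_4_1) (.node 64 par7_4_2 par7_4_3)) (.node 128 (.node 64 par7_4_4 par7_4_5) (.node 64 par7_4_6 par7_4_7))) (.node 256 (.node 128 (.node 64 par7_4_8 par7_4_9) (.node 64 par7_4_10 par7_4_11)) (.node 128 (.node 64 par7_4_12 par7_4_13) (.node 64 par7_4_14 par7_4_15))))
def par7_5_0 : Arr Par :=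
  (.node 32 (.node 16 (.node 8 (.node 4 (.node 2 (.node 1 (.one ⟨875, 2, 4⟩) (.one ⟨10791, 1, 8⟩)) (.node 1 (.one ⟨11620, 1, 4⟩) (.one ⟨11132, 2, 5⟩))) (.node 2 (.node 1 (.one ⟨2256, 2, 8⟩) (.one ⟨7793, 2, 8⟩)) (.node 1 (.one ⟨4032, 1, 4⟩) (.one ⟨17072, 1, 7⟩)))) (.node 4 (.node 2 (.node 1 (.one ⟨14506, 2, 4⟩) (.one ⟨9756, 0, 6⟩)) (.node 1 (.one ⟨9357, 1, 6⟩) (.one ⟨11260, 1, 5⟩))) (.node 2 (.node 1 (.one ⟨13819, 0, 4⟩) (.one ⟨1038, 2, 3⟩)) (.node 1 (.one ⟨7407, 0, 6⟩) (.one ⟨2912, 2, 4⟩))))) (.node 8 (.node 4 (.node 2 (.node 1 (.one ⟨14393, 2, 5⟩) (.one ⟨13110, 0, 5⟩)) (.node 1 (.one ⟨11923, 2, 6⟩) (.one ⟨3033, 2, 4⟩))) (.node 2 (.node 1 (.one ⟨13185, 1, 7⟩) (.one ⟨12072, 1, 5⟩)) (.node 1 (.one ⟨11721, 2,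 4⟩) (.one ⟨6832, 0, 3⟩)))) (.node 4 (.node 2 (.node 1 (.one ⟨6574, 2, 2⟩) (.one ⟨14561, 2, 3⟩)) (.node 1 (.one ⟨4378, 2, 5⟩) (.one ⟨4769, 0, 5⟩))) (.node 2 (.node 1 (.one ⟨12076, 1, 5⟩) (.one ⟨7712, 2, 3⟩)) (.node 1 (.one ⟨12615, 1, 3⟩) (.one ⟨10734, 2, 7⟩)))))) (.node 16 (.node 8 (.node 4 (.node 2 (.node 1 (.one ⟨11769, 2, 4⟩) (.one ⟨10253, 1, 7⟩)) (.node 1 (.one ⟨4279, 1, 8⟩) (.one ⟨3099, 0, 4⟩))) (.node 2 (.node 1 (.one ⟨4082, 2, 3⟩) (.one ⟨9434, 0, 5⟩)) (.node 1 (.one ⟨12210, 1, 6⟩) (.one ⟨51, 2, 7⟩)))) (.node 4 (.node 2 (.node 1 (.one ⟨11425, 2, 5⟩) (.one ⟨14225, 2, 4⟩)) (.node 1 (.one ⟨7554, 2, 6⟩) (.one ⟨16328, 2, 6⟩))) (.node 2 (.node 1 (.one ⟨8664, 2, 4⟩) (.one ⟨4119, 2, 8⟩)) (.node 1 (.one ⟨599, 1,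 7⟩) (.one ⟨14685, 1, 4⟩))))) (.node 8 (.node 4 (.node 2 (.node 1 (.one ⟨8837, 2, 3⟩) (.one ⟨8225, 2, 2⟩)) (.node 1 (.one ⟨12104, 0, 5⟩) (.one ⟨2226, 1, 5⟩))) (.node 2 (.node 1 (.one ⟨2781, 1, 6⟩) (.one ⟨10019, 2, 8⟩)) (.node 1 (.one ⟨7469, 2, 3⟩) (.one ⟨13544, 1, 5⟩)))) (.node 4 (.node 2 (.node 1 (.one ⟨8253, 2, 4⟩) (.one ⟨12452, 1, 5⟩)) (.node 1 (.one ⟨8247, 2, 4⟩) (.one ⟨5461, 0, 2⟩))) (.node 2 (.node 1 (.one ⟨2856, 1, 3⟩) (.one ⟨3181, 0, 3⟩)) (.node 1 (.one ⟨1442, 1, 6⟩) (.one ⟨7332, 0, 3⟩)))))))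
def par7_5_1 : Arr Par :=
  (.node 32 (.node 16 (.node 8 (.node 4 (.node 2 (.node 1 (.one ⟨15, 1, 7⟩) (.one ⟨14549, 2, 2⟩)) (.node 1 (.one ⟨11320, 1, 7⟩) (.one ⟨17057, 2, 2⟩))) (.node 2 (.node 1 (.one ⟨15478, 1, 7⟩) (.one ⟨3187, 2, 3⟩)) (.node 1 (.one ⟨5618, 1, 6⟩) (.one ⟨11193, 0, 6⟩)))) (.node 4 (.node 2 (.node 1 (.one ⟨3237, 1, 5⟩) (.one ⟨346, 1, 7⟩)) (.node 1 (.one ⟨11288, 1, 6⟩) (.one ⟨10516, 2, 6⟩))) (.node 2 (.node 1 (.one ⟨12362, 1, 7⟩) (.one ⟨13036, 1, 7⟩)) (.node 1 (.one ⟨12794, 2, 7⟩) (.one ⟨8941, 0, 6⟩))))) (.node 8 (.node 4 (.node 2 (.node 1 (.one ⟨8567, 0, 8⟩) (.one ⟨4218, 0, 6⟩)) (.node 1 (.one ⟨3131, 2, 6⟩) (.one ⟨11873, 1, 6⟩))) (.node 2 (.node 1 (.one ⟨3130, 2, 3⟩) (.one ⟨2635, 0, 6⟩)) (.node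 1 (.one ⟨3133, 2, 8⟩) (.one ⟨4034, 0, 7⟩)))) (.node 4 (.node 2 (.node 1 (.one ⟨6074, 2, 2⟩) (.one ⟨17156, 1, 8⟩)) (.node 1 (.one ⟨9334, 2, 9⟩) (.one ⟨16854, 1, 8⟩))) (.node 2 (.node 1 (.one ⟨8070, 1, 8⟩) (.one ⟨5956, 0, 4⟩)) (.node 1 (.one ⟨2289, 0, 9⟩) (.one ⟨3809, 0, 5⟩)))))) (.node 16 (.node 8 (.node 4 (.node 2 (.node 1 (.one ⟨5061, 1, 9⟩) (.one ⟨2734, 1, 7⟩)) (.node 1 (.one ⟨5029, 1, 6⟩) (.one ⟨6960, 0, 9⟩))) (.node 2 (.node 1 (.one ⟨17173, 1, 6⟩) (.one ⟨14398, 1, 4⟩)) (.node 1 (.one ⟨16437, 1, 6⟩) (.one ⟨14033, 0, 7⟩)))) (.node 4 (.node 2 (.node 1 (.one ⟨7449, 0, 8⟩) (.one ⟨7704, 1, 3⟩)) (.node 1 (.one ⟨13969, 2, 2⟩) (.one ⟨3823, 2, 6⟩))) (.node 2 (.node 1 (.one ⟨8719, 2, 1⟩) (.one ⟨12999, 2, 7⟩)) (.node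 1 (.one ⟨3930, 1, 9⟩) (.one ⟨11614, 0, 3⟩))))) (.node 8 (.node 4 (.node 2 (.node 1 (.one ⟨2387, 1, 6⟩) (.one ⟨14807, 2, 1⟩)) (.node 1 (.one ⟨1043, 2, 2⟩) (.one ⟨7120, 1, 8⟩))) (.node 2 (.node 1 (.one ⟨9633, 1, 6⟩) (.one ⟨4649, 2, 6⟩)) (.node 1 (.one ⟨10716, 0, 8⟩) (.one ⟨15209, 1, 2⟩)))) (.node 4 (.node 2 (.node 1 (.one ⟨1113, 2, 5⟩) (.one ⟨822, 1, 6⟩)) (.node 1 (.one ⟨9352, 2, 3⟩) (.one ⟨1404, 2, 3⟩))) (.node 2 (.node 1 (.one ⟨12557, 1, 6⟩) (.one ⟨9598, 2, 3⟩)) (.node 1 (.one ⟨8690, 1, 6⟩) (.one ⟨4569, 2, 8⟩)))))))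
def par7_5_2 : Arr Par :=
  (.node 32 (.node 16 (.node 8 (.node 4 (.node 2 (.node 1 (.one ⟨11422, 1, 5⟩) (.one ⟨8425, 0, 7⟩)) (.node 1 (.one ⟨11355, 1, 6⟩) (.one ⟨3336, 1, 4⟩))) (.node 2 (.node 1 (.one ⟨13631, 2, 3⟩) (.one ⟨3271, 1, 1⟩)) (.node 1 (.one ⟨11323, 1, 1⟩) (.one ⟨8076, 1, 4⟩)))) (.node 4 (.node 2 (.node 1 (.one ⟨17042, 0, 2⟩) (.one ⟨5629, 1, 5⟩)) (.node 1 (.one ⟨4062, 0, 6⟩) (.one ⟨10879, 0, 5⟩))) (.node 2 (.node 1 (.one ⟨2808, 1, 9⟩) (.one ⟨5894, 0, 9⟩)) (.node 1 (.one ⟨2531, 0, 4⟩) (.one ⟨11799, 0, 5⟩))))) (.node 8 (.node 4 (.node 2 (.node 1 (.one ⟨1415, 1, 5⟩) (.one ⟨5521, 1, 6⟩)) (.node 1 (.one ⟨9710, 2, 5⟩) (.one ⟨13216, 0, 7⟩))) (.node 2 (.node 1 (.one ⟨2602, 1, 6⟩) (.one ⟨5576, 2, 6⟩)) (.node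 1 (.one ⟨15368, 0, 5⟩) (.one ⟨8947, 1, 6⟩)))) (.node 4 (.node 2 (.node 1 (.one ⟨1198, 2, 4⟩) (.one ⟨16289, 1, 2⟩)) (.node 1 (.one ⟨16260, 1, 8⟩) (.one ⟨8995, 1, 5⟩))) (.node 2 (.node 1 (.one ⟨8959, 1, 6⟩) (.one ⟨665, 0, 3⟩)) (.node 1 (.one ⟨4207, 2, 5⟩) (.one ⟨4692, 0, 8⟩)))))) (.node 16 (.node 8 (.node 4 (.node 2 (.node 1 (.one ⟨8389, 1, 7⟩) (.one ⟨1398, 1, 9⟩)) (.node 1 (.one ⟨3089, 2, 8⟩) (.one ⟨2573, 1, 7⟩))) (.node 2 (.node 1 (.one ⟨12748, 0, 5⟩) (.one ⟨7769, 2, 6⟩)) (.node 1 (.one ⟨16943, 2, 4⟩) (.one ⟨4195, 0, 6⟩)))) (.node 4 (.node 2 (.node 1 (.one ⟨14295, 2, 3⟩) (.one ⟨8301, 1, 4⟩)) (.node 1 (.one ⟨5463, 1, 7⟩) (.one ⟨5471, 2, 6⟩))) (.node 2 (.node 1 (.one ⟨13003, 1, 4⟩) (.one ⟨7101, 2, 3⟩)) (.node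 1 (.one ⟨9061, 1, 6⟩) (.one ⟨6560, 2, 8⟩))))) (.node 8 (.node 4 (.node 2 (.node 1 (.one ⟨5631, 1, 8⟩) (.one ⟨7626, 2, 3⟩)) (.node 1 (.one ⟨8652, 2, 7⟩) (.one ⟨2695, 1, 7⟩))) (.node 2 (.node 1 (.one ⟨5147, 2, 6⟩) (.one ⟨7763, 1, 7⟩)) (.node 1 (.one ⟨3075, 1, 5⟩) (.one ⟨5902, 0, 4⟩)))) (.node 4 (.node 2 (.node 1 (.one ⟨7570, 0, 7⟩) (.one ⟨3057, 2, 8⟩)) (.node 1 (.one ⟨16308, 2, 4⟩) (.one ⟨5831, 1, 3⟩))) (.node 2 (.node 1 (.one ⟨11824, 2, 6⟩) (.one ⟨4841, 0, 5⟩)) (.node 1 (.one ⟨4262, 0, 3⟩) (.one ⟨13349, 0, 4⟩)))))))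
def par7_5_3 : Arr Par :=
  (.node 32 (.node 16 (.node 8 (.node 4 (.node 2 (.node 1 (.one ⟨4833, 1, 1⟩) (.one ⟨14672, 1, 3⟩)) (.node 1 (.one ⟨6190, 2, 5⟩) (.one ⟨1790, 2, 2⟩))) (.node 2 (.node 1 (.one ⟨15500, 1, 3⟩) (.one ⟨15776, 2, 4⟩)) (.node 1 (.one ⟨5638, 1, 10⟩) (.one ⟨16749, 2, 7⟩)))) (.node 4 (.node 2 (.node 1 (.one ⟨4067, 0, 6⟩) (.one ⟨10864, 1, 7⟩)) (.node 1 (.one ⟨14691, 2, 4⟩) (.one ⟨899, 0, 4⟩))) (.node 2 (.node 1 (.one ⟨12993, 1, 7⟩) (.one ⟨7825, 1, 3⟩)) (.node 1 (.one ⟨13673, 1, 10⟩) (.one ⟨4620, 1, 2⟩))))) (.node 8 (.node 4 (.node 2 (.node 1 (.one ⟨16701, 0, 2⟩) (.one ⟨8244, 2, 9⟩)) (.node 1 (.one ⟨11087, 1, 6⟩) (.one ⟨2809, 1, 4⟩))) (.node 2 (.node 1 (.one ⟨15577, 2, 8⟩) (.one ⟨11240, 2, 3⟩))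 (.node 1 (.one ⟨13091, 1, 4⟩) (.one ⟨3485, 0, 8⟩)))) (.node 4 (.node 2 (.node 1 (.one ⟨3744, 2, 7⟩) (.one ⟨4889, 2, 6⟩)) (.node 1 (.one ⟨647, 1, 4⟩) (.one ⟨11169, 0, 5⟩))) (.node 2 (.node 1 (.one ⟨2231, 2, 6⟩) (.one ⟨2240, 1, 9⟩)) (.node 1 (.one ⟨8119, 2, 8⟩) (.one ⟨15770, 1, 3⟩)))))) (.node 16 (.node 8 (.node 4 (.node 2 (.node 1 (.one ⟨4139, 0, 5⟩) (.one ⟨7255, 2, 7⟩)) (.node 1 (.one ⟨7329, 1, 10⟩) (.one ⟨16058, 2, 7⟩))) (.node 2 (.node 1 (.one ⟨11623, 1, 2⟩) (.one ⟨3337, 1, 2⟩)) (.node 1 (.one ⟨5848, 1, 4⟩) (.one ⟨8552, 2, 6⟩)))) (.node 4 (.node 2 (.node 1 (.one ⟨7913, 0, 9⟩) (.one ⟨13567, 1, 6⟩)) (.node 1 (.one ⟨9948, 2, 6⟩) (.one ⟨7995, 1, 4⟩))) (.node 2 (.node 1 (.one ⟨9686, 1, 9⟩) (.one ⟨3684, 0, 4⟩))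 (.node 1 (.one ⟨5427, 1, 6⟩) (.one ⟨10727, 1, 5⟩))))) (.node 8 (.node 4 (.node 2 (.node 1 (.one ⟨9502, 1, 4⟩) (.one ⟨7525, 1, 7⟩)) (.node 1 (.one ⟨6818, 1, 8⟩) (.one ⟨14150, 1, 6⟩))) (.node 2 (.node 1 (.one ⟨1236, 2, 3⟩) (.one ⟨2887, 1, 3⟩)) (.node 1 (.one ⟨3825, 2, 3⟩) (.one ⟨4317, 0, 3⟩)))) (.node 4 (.node 2 (.node 1 (.one ⟨5784, 0, 2⟩) (.one ⟨13950, 0, 4⟩)) (.node 1 (.one ⟨6138, 1, 7⟩) (.one ⟨4567, 2, 5⟩))) (.node 2 (.node 1 (.one ⟨6806, 2, 1⟩) (.one ⟨4558, 2, 3⟩)) (.node 1 (.one ⟨16360, 0, 5⟩) (.one ⟨8143, 2, 4⟩)))))))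
def par7_5_4 : Arr Par :=
  (.node 32 (.node 16 (.node 8 (.node 4 (.node 2 (.node 1 (.one ⟨6234, 1, 7⟩) (.one ⟨9947, 1, 5⟩)) (.node 1 (.one ⟨5316, 2, 4⟩) (.one ⟨1265, 1, 3⟩))) (.node 2 (.node 1 (.one ⟨5688, 1, 6⟩) (.one ⟨10734, 1, 7⟩)) (.node 1 (.one ⟨2155, 2, 4⟩) (.one ⟨7786, 2, 4⟩)))) (.node 4 (.node 2 (.node 1 (.one ⟨2294, 1, 3⟩) (.one ⟨4454, 1, 8⟩)) (.node 1 (.one ⟨7789, 2, 1⟩) (.one ⟨7790, 2, 6⟩))) (.node 2 (.node 1 (.one ⟨13800, 1, 4⟩) (.one ⟨11904, 0, 7⟩)) (.node 1 (.one ⟨10415, 1, 4⟩) (.one ⟨193, 1, 4⟩))))) (.node 8 (.node 4 (.node 2 (.node 1 (.one ⟨10709, 2, 6⟩) (.one ⟨11312, 1, 3⟩)) (.node 1 (.one ⟨812, 1, 3⟩) (.one ⟨773, 1, 1⟩))) (.node 2 (.node 1 (.one ⟨11311, 1, 4⟩) (.one ⟨12299, 2, 4⟩)) (.node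 1 (.one ⟨218, 1, 8⟩) (.one ⟨9681, 1, 3⟩)))) (.node 4 (.node 2 (.node 1 (.one ⟨15324, 1, 5⟩) (.one ⟨8098, 2, 3⟩)) (.node 1 (.one ⟨16949, 2, 4⟩) (.one ⟨9649, 1, 8⟩))) (.node 2 (.node 1 (.one ⟨15289, 1, 10⟩) (.one ⟨1169, 1, 5⟩)) (.node 1 (.one ⟨7134, 1, 3⟩) (.one ⟨3025, 2, 8⟩)))))) (.node 16 (.node 8 (.node 4 (.node 2 (.node 1 (.one ⟨7484, 1, 3⟩) (.one ⟨244, 1, 5⟩)) (.node 1 (.one ⟨1024, 1, 6⟩) (.one ⟨3024, 2, 6⟩))) (.node 2 (.node 1 (.one ⟨3026, 2, 8⟩) (.one ⟨874, 1, 5⟩)) (.node 1 (.one ⟨91, 1, 6⟩) (.one ⟨6573, 2, 3⟩)))) (.node 4 (.node 2 (.node 1 (.one ⟨11475, 2, 8⟩) (.one ⟨7903, 0, 3⟩)) (.node 1 (.one ⟨5247, 0, 9⟩) (.one ⟨6948, 0, 3⟩))) (.node 2 (.node 1 (.one ⟨10220, 2, 3⟩) (.one ⟨6684, 1, 4⟩)) (.node 1 (.one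 ⟨16008, 0, 3⟩) (.one ⟨14547, 2, 4⟩))))) (.node 8 (.node 4 (.node 2 (.node 1 (.one ⟨12397, 0, 9⟩) (.one ⟨2688, 2, 5⟩)) (.node 1 (.one ⟨12857, 0, 7⟩) (.one ⟨16911, 2, 5⟩))) (.node 2 (.node 1 (.one ⟨11507, 0, 7⟩) (.one ⟨4138, 1, 7⟩)) (.node 1 (.one ⟨9311, 0, 6⟩) (.one ⟨3339, 0, 4⟩)))) (.node 4 (.node 2 (.node 1 (.one ⟨11032, 2, 2⟩) (.one ⟨8138, 1, 2⟩)) (.node 1 (.one ⟨5354, 1, 7⟩) (.one ⟨10576, 2, 2⟩))) (.node 2 (.node 1 (.one ⟨11928, 1, 5⟩) (.one ⟨12309, 2, 3⟩)) (.node 1 (.one ⟨75, 0, 5⟩) (.one ⟨15976, 1, 8⟩)))))))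
def par7_5_5 : Arr Par :=
  (.node 32 (.node 16 (.node 8 (.node 4 (.node 2 (.node 1 (.one ⟨12336, 1, 8⟩) (.one ⟨16505, 1, 8⟩)) (.node 1 (.one ⟨13771, 2, 7⟩) (.one ⟨12878, 0, 5⟩))) (.node 2 (.node 1 (.one ⟨9315, 0, 2⟩) (.one ⟨8236, 0, 3⟩)) (.node 1 (.one ⟨10622, 2, 4⟩) (.one ⟨7591, 2, 5⟩)))) (.node 4 (.node 2 (.node 1 (.one ⟨1419, 1, 3⟩) (.one ⟨12873, 1, 5⟩)) (.node 1 (.one ⟨5008, 1, 8⟩) (.one ⟨11248, 1, 5⟩))) (.node 2 (.node 1 (.one ⟨3431, 1, 8⟩) (.one ⟨7823, 2, 4⟩)) (.node 1 (.one ⟨16184, 0, 7⟩) (.one ⟨16481, 0, 9⟩))))) (.node 8 (.node 4 (.node 2 (.node 1 (.one ⟨7004, 1, 9⟩) (.one ⟨14684, 2, 2⟩)) (.node 1 (.one ⟨2360, 1, 9⟩) (.one ⟨6851, 2, 5⟩))) (.node 2 (.node 1 (.one ⟨657, 1, 8⟩) (.one ⟨3907, 2, 1⟩)) (.node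 1 (.one ⟨7511, 1, 3⟩) (.one ⟨7107, 0, 6⟩)))) (.node 4 (.node 2 (.node 1 (.one ⟨6139, 0, 2⟩) (.one ⟨6524, 1, 8⟩)) (.node 1 (.one ⟨3314, 2, 6⟩) (.one ⟨6024, 2, 5⟩))) (.node 2 (.node 1 (.one ⟨9312, 0, 4⟩) (.one ⟨1628, 0, 7⟩)) (.node 1 (.one ⟨11754, 2, 8⟩) (.one ⟨12731, 0, 5⟩)))))) (.node 16 (.node 8 (.node 4 (.node 2 (.node 1 (.one ⟨5310, 1, 4⟩) (.one ⟨5026, 1, 7⟩)) (.node 1 (.one ⟨10259, 1, 6⟩) (.one ⟨6374, 1, 5⟩))) (.node 2 (.node 1 (.one ⟨15473, 0, 5⟩) (.one ⟨16433, 1, 7⟩)) (.node 1 (.one ⟨16203, 0, 9⟩) (.one ⟨4842, 1, 6⟩)))) (.node 4 (.node 2 (.node 1 (.one ⟨6152, 0, 2⟩) (.one ⟨15724, 1, 8⟩)) (.node 1 (.one ⟨14831, 1, 4⟩) (.one ⟨9316, 0, 3⟩))) (.node 2 (.node 1 (.one ⟨3775, 2, 5⟩) (.one ⟨11958, 1, 3⟩)) (.node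 1 (.one ⟨7171, 0, 4⟩) (.one ⟨9455, 1, 8⟩))))) (.node 8 (.node 4 (.node 2 (.node 1 (.one ⟨1910, 1, 2⟩) (.one ⟨2590, 1, 8⟩)) (.node 1 (.one ⟨10318, 1, 4⟩) (.one ⟨10, 1, 5⟩))) (.node 2 (.node 1 (.one ⟨10471, 2, 3⟩) (.one ⟨16700, 0, 5⟩)) (.node 1 (.one ⟨4761, 2, 7⟩) (.one ⟨9032, 0, 5⟩)))) (.node 4 (.node 2 (.node 1 (.one ⟨15213, 0, 9⟩) (.one ⟨656, 2, 1⟩)) (.node 1 (.one ⟨3821, 1, 10⟩) (.one ⟨360, 1, 8⟩))) (.node 2 (.node 1 (.one ⟨9507, 2, 4⟩) (.one ⟨14360, 2, 4⟩)) (.node 1 (.one ⟨16718, 2, 8⟩) (.one ⟨5644, 1, 8⟩)))))))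
def par7_5_6 : Arr Par :=
  (.node 32 (.node 16 (.node 8 (.node 4 (.node 2 (.node 1 (.one ⟨6789, 1, 4⟩) (.one ⟨13102, 1, 6⟩)) (.node 1 (.one ⟨11852, 1, 8⟩) (.one ⟨14426, 1, 4⟩))) (.node 2 (.node 1 (.one ⟨15341, 1, 7⟩) (.one ⟨1293, 0, 1⟩)) (.node 1 (.one ⟨5875, 2, 4⟩) (.one ⟨1538, 1, 6⟩)))) (.node 4 (.node 2 (.node 1 (.one ⟨2614, 2, 7⟩) (.one ⟨11242, 1, 5⟩)) (.node 1 (.one ⟨10789, 2, 7⟩) (.one ⟨1189, 0, 4⟩))) (.node 2 (.node 1 (.one ⟨1742, 1, 5⟩) (.one ⟨180, 2, 7⟩)) (.node 1 (.one ⟨11368, 1, 7⟩) (.one ⟨1403, 2, 3⟩))))) (.node 8 (.node 4 (.node 2 (.node 1 (.one ⟨1185, 0, 4⟩) (.one ⟨5500, 0, 5⟩)) (.node 1 (.one ⟨1319, 2, 3⟩) (.one ⟨1608, 1, 3⟩))) (.node 2 (.node 1 (.one ⟨447, 1, 6⟩) (.one ⟨15318, 1, 2⟩)) (.node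 1 (.one ⟨15211, 1, 9⟩) (.one ⟨7454, 1, 7⟩)))) (.node 4 (.node 2 (.node 1 (.one ⟨14634, 2, 5⟩) (.one ⟨8440, 1, 4⟩)) (.node 1 (.one ⟨14318, 0, 1⟩) (.one ⟨6690, 0, 8⟩))) (.node 2 (.node 1 (.one ⟨692, 0, 8⟩) (.one ⟨15097, 2, 5⟩)) (.node 1 (.one ⟨12582, 2, 3⟩) (.one ⟨12821, 1, 4⟩)))))) (.node 16 (.node 8 (.node 4 (.node 2 (.node 1 (.one ⟨11290, 0, 4⟩) (.one ⟨13384, 1, 7⟩)) (.node 1 (.one ⟨1939, 1, 5⟩) (.one ⟨1624, 1, 5⟩))) (.node 2 (.node 1 (.one ⟨13217, 1, 5⟩) (.one ⟨13689, 0, 8⟩)) (.node 1 (.one ⟨13068, 1, 7⟩) (.one ⟨11901, 0, 8⟩)))) (.node 4 (.node 2 (.node 1 (.one ⟨5681, 1, 1⟩) (.one ⟨2469, 0, 5⟩)) (.node 1 (.one ⟨8434, 0, 5⟩) (.one ⟨12235, 0, 7⟩))) (.node 2 (.node 1 (.one ⟨14749, 2, 5⟩) (.one ⟨1196, 0, 1⟩))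 (.node 1 (.one ⟨8983, 0, 7⟩) (.one ⟨5679, 0, 1⟩))))) (.node 8 (.node 4 (.node 2 (.node 1 (.one ⟨14601, 0, 3⟩) (.one ⟨1906, 0, 4⟩)) (.node 1 (.one ⟨10464, 0, 1⟩) (.one ⟨12607, 0, 8⟩))) (.node 2 (.node 1 (.one ⟨17159, 1, 3⟩) (.one ⟨16760, 0, 1⟩)) (.node 1 (.one ⟨8786, 0, 5⟩) (.one ⟨12088, 2, 3⟩)))) (.node 4 (.node 2 (.node 1 (.one ⟨4001, 0, 4⟩) (.one ⟨842, 1, 7⟩)) (.node 1 (.one ⟨13838, 0, 6⟩) (.one ⟨5907, 0, 5⟩))) (.node 2 (.node 1 (.one ⟨7305, 0, 7⟩) (.one ⟨12311, 2, 3⟩)) (.node 1 (.one ⟨15585, 2, 6⟩) (.one ⟨12936, 0, 6⟩)))))))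
def par7_5_7 : Arr Par :=
  (.node 32 (.node 16 (.node 8 (.node 4 (.node 2 (.node 1 (.one ⟨16474, 0, 6⟩) (.one ⟨12868, 0, 5⟩)) (.node 1 (.one ⟨794, 2, 2⟩) (.one ⟨7107, 1, 6⟩))) (.node 2 (.node 1 (.one ⟨6961, 1, 8⟩) (.one ⟨684, 0, 8⟩)) (.node 1 (.one ⟨14783, 2, 6⟩) (.one ⟨11423, 1, 6⟩)))) (.node 4 (.node 2 (.node 1 (.one ⟨9250, 1, 5⟩) (.one ⟨15596, 1, 8⟩)) (.node 1 (.one ⟨8766, 2, 6⟩) (.one ⟨10607, 2, 4⟩))) (.node 2 (.node 1 (.one ⟨11441, 1, 6⟩) (.one ⟨6054, 2, 4⟩)) (.node 1 (.one ⟨8145, 2, 6⟩) (.one ⟨578, 1, 7⟩))))) (.node 8 (.node 4 (.node 2 (.node 1 (.one ⟨80, 1, 3⟩) (.one ⟨8402, 0, 4⟩)) (.node 1 (.one ⟨5801, 0, 1⟩) (.one ⟨15405, 0, 4⟩))) (.node 2 (.node 1 (.one ⟨9612, 1, 4⟩) (.one ⟨9608, 1, 5⟩)) (.node 1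 (.one ⟨9708, 0, 6⟩) (.one ⟨6111, 1, 7⟩)))) (.node 4 (.node 2 (.node 1 (.one ⟨1039, 1, 1⟩) (.one ⟨7366, 2, 6⟩)) (.node 1 (.one ⟨3042, 0, 9⟩) (.one ⟨7362, 2, 2⟩))) (.node 2 (.node 1 (.one ⟨51, 1, 7⟩) (.one ⟨5819, 0, 2⟩)) (.node 1 (.one ⟨7360, 2, 6⟩) (.one ⟨10109, 2, 6⟩)))))) (.node 16 (.node 8 (.node 4 (.node 2 (.node 1 (.one ⟨1404, 1, 3⟩) (.one ⟨7626, 1, 3⟩)) (.node 1 (.one ⟨9975, 0, 6⟩) (.one ⟨14989, 2, 5⟩))) (.node 2 (.node 1 (.one ⟨11573, 2, 5⟩) (.one ⟨3771, 1, 8⟩)) (.node 1 (.one ⟨3671, 2, 8⟩) (.one ⟨10429, 1, 5⟩)))) (.node 4 (.node 2 (.node 1 (.one ⟨1593, 0, 4⟩) (.one ⟨3222, 2, 8⟩)) (.node 1 (.one ⟨4834, 0, 8⟩) (.one ⟨9056, 2, 1⟩))) (.node 2 (.node 1 (.one ⟨7140, 0, 4⟩) (.one ⟨15672, 1, 8⟩)) (.node 1 (.one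 ⟨12822, 2, 5⟩) (.one ⟨1428, 2, 1⟩))))) (.node 8 (.node 4 (.node 2 (.node 1 (.one ⟨1188, 2, 1⟩) (.one ⟨11687, 0, 6⟩)) (.node 1 (.one ⟨13564, 2, 5⟩) (.one ⟨1091, 0, 6⟩))) (.node 2 (.node 1 (.one ⟨14900, 0, 9⟩) (.one ⟨10433, 1, 3⟩)) (.node 1 (.one ⟨7198, 1, 9⟩) (.one ⟨7681, 2, 6⟩)))) (.node 4 (.node 2 (.node 1 (.one ⟨13184, 0, 9⟩) (.one ⟨8104, 1, 6⟩)) (.node 1 (.one ⟨498, 1, 9⟩) (.one ⟨8524, 1, 5⟩))) (.node 2 (.node 1 (.one ⟨14892, 2, 6⟩) (.one ⟨8655, 0, 4⟩)) (.node 1 (.one ⟨4822, 2, 8⟩) (.one ⟨6234, 0, 7⟩)))))))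
def par7_5_8 : Arr Par :=
  (.node 32 (.node 16 (.node 8 (.node 4 (.node 2 (.node 1 (.one ⟨16500, 0, 6⟩) (.one ⟨9817, 2, 4⟩)) (.node 1 (.one ⟨9002, 0, 6⟩) (.one ⟨2210, 0, 6⟩))) (.node 2 (.node 1 (.one ⟨2446, 1, 4⟩) (.one ⟨13804, 1, 4⟩)) (.node 1 (.one ⟨4929, 0, 9⟩) (.one ⟨9370, 1, 4⟩)))) (.node 4 (.node 2 (.node 1 (.one ⟨16025, 2, 3⟩) (.one ⟨8714, 1, 4⟩)) (.node 1 (.one ⟨7493, 1, 4⟩) (.one ⟨15528, 1, 7⟩))) (.node 2 (.node 1 (.one ⟨6066, 0, 7⟩) (.one ⟨4151, 1, 5⟩)) (.node 1 (.one ⟨2118, 1, 2⟩) (.one ⟨8702, 2, 9⟩))))) (.node 8 (.node 4 (.node 2 (.node 1 (.one ⟨3885, 1, 7⟩) (.one ⟨9300, 1, 6⟩)) (.node 1 (.one ⟨4902, 0, 4⟩) (.one ⟨8523, 1, 4⟩))) (.node 2 (.node 1 (.one ⟨11902, 1, 6⟩) (.one ⟨1029, 1, 9⟩)) (.node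 1 (.one ⟨3281, 2, 1⟩) (.one ⟨5880, 2, 4⟩)))) (.node 4 (.node 2 (.node 1 (.one ⟨10081, 2, 8⟩) (.one ⟨8525, 1, 5⟩)) (.node 1 (.one ⟨13396, 0, 2⟩) (.one ⟨16367, 1, 5⟩))) (.node 2 (.node 1 (.one ⟨1315, 1, 7⟩) (.one ⟨4679, 1, 3⟩)) (.node 1 (.one ⟨4827, 0, 9⟩) (.one ⟨5345, 0, 8⟩)))))) (.node 16 (.node 8 (.node 4 (.node 2 (.node 1 (.one ⟨4482, 2, 7⟩) (.one ⟨7836, 1, 8⟩)) (.node 1 (.one ⟨12784, 1, 4⟩) (.one ⟨6869, 1, 6⟩))) (.node 2 (.node 1 (.one ⟨10270, 1, 4⟩) (.one ⟨6377, 0, 5⟩)) (.node 1 (.one ⟨8711, 2, 6⟩) (.one ⟨5739, 0, 7⟩)))) (.node 4 (.node 2 (.node 1 (.one ⟨9001, 0, 6⟩) (.one ⟨850, 0, 9⟩)) (.node 1 (.one ⟨5135, 0, 5⟩) (.one ⟨8447, 0, 4⟩))) (.node 2 (.node 1 (.one ⟨11063, 1, 8⟩) (.one ⟨13680, 1, 5⟩)) (.node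 1 (.one ⟨10573, 2, 4⟩) (.one ⟨4036, 1, 0⟩))))) (.node 8 (.node 4 (.node 2 (.node 1 (.one ⟨2104, 0, 4⟩) (.one ⟨4191, 1, 0⟩)) (.node 1 (.one ⟨10313, 0, 1⟩) (.one ⟨7246, 2, 9⟩))) (.node 2 (.node 1 (.one ⟨1144, 0, 5⟩) (.one ⟨10585, 0, 3⟩)) (.node 1 (.one ⟨10753, 0, 1⟩) (.one ⟨10645, 1, 9⟩)))) (.node 4 (.node 2 (.node 1 (.one ⟨5251, 2, 5⟩) (.one ⟨6124, 1, 7⟩)) (.node 1 (.one ⟨9245, 1, 2⟩) (.one ⟨2030, 2, 5⟩))) (.node 2 (.node 1 (.one ⟨4592, 1, 5⟩) (.one ⟨1416, 0, 9⟩)) (.node 1 (.one ⟨9641, 2, 3⟩) (.one ⟨12383, 2, 7⟩)))))))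
def par7_5_9 : Arr Par :=
  (.node 32 (.node 16 (.node 8 (.node 4 (.node 2 (.node 1 (.one ⟨37, 2, 7⟩) (.one ⟨4383, 2, 8⟩)) (.node 1 (.one ⟨2932, 1, 8⟩) (.one ⟨1168, 2, 1⟩))) (.node 2 (.node 1 (.one ⟨13965, 0, 4⟩) (.one ⟨9505, 2, 5⟩)) (.node 1 (.one ⟨4351, 2, 7⟩) (.one ⟨12966, 1, 6⟩)))) (.node 4 (.node 2 (.node 1 (.one ⟨9561, 0, 3⟩) (.one ⟨6229, 1, 6⟩)) (.node 1 (.one ⟨14086, 1, 5⟩) (.one ⟨16539, 2, 8⟩))) (.node 2 (.node 1 (.one ⟨15631, 1, 4⟩) (.one ⟨12195, 1, 5⟩)) (.node 1 (.one ⟨5417, 2, 4⟩) (.one ⟨5871, 0, 7⟩))))) (.node 8 (.node 4 (.node 2 (.node 1 (.one ⟨6614, 0, 8⟩) (.one ⟨16734, 0, 5⟩)) (.node 1 (.one ⟨14947, 2, 8⟩) (.one ⟨11917, 0, 2⟩))) (.node 2 (.node 1 (.one ⟨2302, 1, 5⟩) (.one ⟨13989, 2, 3⟩)) (.node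 1 (.one ⟨1421, 0, 6⟩) (.one ⟨14503, 1, 3⟩)))) (.node 4 (.node 2 (.node 1 (.one ⟨3975, 1, 2⟩) (.one ⟨105, 1, 6⟩)) (.node 1 (.one ⟨15857, 1, 4⟩) (.one ⟨3959, 1, 3⟩))) (.node 2 (.node 1 (.one ⟨14488, 0, 4⟩) (.one ⟨15887, 1, 6⟩)) (.node 1 (.one ⟨12231, 2, 4⟩) (.one ⟨7518, 1, 9⟩)))))) (.node 16 (.node 8 (.node 4 (.node 2 (.node 1 (.one ⟨6365, 1, 3⟩) (.one ⟨350, 1, 8⟩)) (.node 1 (.one ⟨12286, 0, 3⟩) (.one ⟨13744, 1, 4⟩))) (.node 2 (.node 1 (.one ⟨14903, 1, 6⟩) (.one ⟨5998, 2, 9⟩)) (.node 1 (.one ⟨10332, 1, 5⟩) (.one ⟨9579, 2, 7⟩)))) (.node 4 (.node 2 (.node 1 (.one ⟨1917, 0, 3⟩) (.one ⟨6833, 2, 4⟩)) (.node 1 (.one ⟨284, 0, 9⟩) (.one ⟨7000, 2, 6⟩))) (.node 2 (.node 1 (.one ⟨12425, 1, 5⟩) (.one ⟨9803, 2, 7⟩)) (.node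 1 (.one ⟨15976, 2, 8⟩) (.one ⟨2215, 1, 4⟩))))) (.node 8 (.node 4 (.node 2 (.node 1 (.one ⟨6089, 1, 4⟩) (.one ⟨1139, 1, 3⟩)) (.node 1 (.one ⟨3833, 2, 7⟩) (.one ⟨4057, 1, 3⟩))) (.node 2 (.node 1 (.one ⟨8162, 1, 6⟩) (.one ⟨4419, 2, 7⟩)) (.node 1 (.one ⟨8305, 1, 1⟩) (.one ⟨11986, 2, 5⟩)))) (.node 4 (.node 2 (.node 1 (.one ⟨9860, 1, 3⟩) (.one ⟨5909, 0, 5⟩)) (.node 1 (.one ⟨5857, 0, 7⟩) (.one ⟨6322, 2, 6⟩))) (.node 2 (.node 1 (.one ⟨14729, 1, 9⟩) (.one ⟨15589, 2, 4⟩)) (.node 1 (.one ⟨1419, 0, 3⟩) (.one ⟨7617, 1, 4⟩)))))))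
def par7_5_10 : Arr Par :=
  (.node 32 (.node 16 (.node 8 (.node 4 (.node 2 (.node 1 (.one ⟨7448, 2, 6⟩) (.one ⟨774, 2, 5⟩)) (.node 1 (.one ⟨4922, 1, 5⟩) (.one ⟨1935, 1, 6⟩))) (.node 2 (.node 1 (.one ⟨8398, 2, 3⟩) (.one ⟨4121, 2, 5⟩)) (.node 1 (.one ⟨6696, 1, 5⟩) (.one ⟨2772, 1, 9⟩)))) (.node 4 (.node 2 (.node 1 (.one ⟨13050, 0, 8⟩) (.one ⟨11955, 2, 4⟩)) (.node 1 (.one ⟨2740, 1, 8⟩) (.one ⟨10618, 0, 5⟩))) (.node 2 (.node 1 (.one ⟨382, 2, 7⟩) (.one ⟨9562, 0, 1⟩)) (.node 1 (.one ⟨1769, 1, 9⟩) (.one ⟨10721, 1, 7⟩))))) (.node 8 (.node 4 (.node 2 (.node 1 (.one ⟨4056, 1, 0⟩) (.one ⟨8678, 0, 6⟩)) (.node 1 (.one ⟨14136, 2, 5⟩) (.one ⟨16602, 1, 8⟩))) (.node 2 (.node 1 (.one ⟨76, 2, 2⟩) (.one ⟨1418, 0, 6⟩)) (.node 1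 (.one ⟨16971, 1, 6⟩) (.one ⟨4057, 0, 3⟩)))) (.node 4 (.node 2 (.node 1 (.one ⟨8305, 0, 1⟩) (.one ⟨6089, 0, 4⟩)) (.node 1 (.one ⟨1139, 0, 3⟩) (.one ⟨611, 1, 7⟩))) (.node 2 (.node 1 (.one ⟨78, 1, 4⟩) (.one ⟨1430, 1, 7⟩)) (.node 1 (.one ⟨8162, 0, 6⟩) (.one ⟨2369, 0, 5⟩)))))) (.node 16 (.node 8 (.node 4 (.node 2 (.node 1 (.one ⟨4814, 1, 9⟩) (.one ⟨4811, 1, 4⟩)) (.node 1 (.one ⟨4813, 1, 10⟩) (.one ⟨231, 1, 5⟩))) (.node 2 (.node 1 (.one ⟨8948, 2, 8⟩) (.one ⟨9406, 2, 8⟩)) (.node 1 (.one ⟨14330, 2, 8⟩) (.one ⟨1506, 1, 7⟩)))) (.node 4 (.node 2 (.node 1 (.one ⟨9745, 1, 7⟩) (.one ⟨3824, 1, 0⟩)) (.node 1 (.one ⟨6482, 2, 5⟩) (.one ⟨2915, 2, 5⟩))) (.node 2 (.node 1 (.one ⟨5768, 1, 9⟩) (.one ⟨9547, 0, 1⟩)) (.node 1 (.one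 ⟨5084, 2, 5⟩) (.one ⟨15431, 2, 5⟩))))) (.node 8 (.node 4 (.node 2 (.node 1 (.one ⟨6735, 2, 8⟩) (.one ⟨4436, 1, 4⟩)) (.node 1 (.one ⟨13831, 1, 4⟩) (.one ⟨10299, 2, 7⟩))) (.node 2 (.node 1 (.one ⟨14280, 1, 6⟩) (.one ⟨9412, 0, 8⟩)) (.node 1 (.one ⟨16052, 0, 9⟩) (.one ⟨12855, 2, 5⟩)))) (.node 4 (.node 2 (.node 1 (.one ⟨3726, 1, 6⟩) (.one ⟨5520, 1, 5⟩)) (.node 1 (.one ⟨6550, 1, 6⟩) (.one ⟨1921, 0, 1⟩))) (.node 2 (.node 1 (.one ⟨4697, 1, 6⟩) (.one ⟨4116, 1, 2⟩)) (.node 1 (.one ⟨7314, 1, 6⟩) (.one ⟨9649, 2, 8⟩)))))))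
def par7_5_11 : Arr Par :=
  (.node 32 (.node 16 (.node 8 (.node 4 (.node 2 (.node 1 (.one ⟨9514, 2, 1⟩) (.one ⟨9466, 0, 5⟩)) (.node 1 (.one ⟨9030, 0, 5⟩) (.one ⟨1258, 2, 1⟩))) (.node 2 (.node 1 (.one ⟨12519, 1, 6⟩) (.one ⟨8233, 1, 6⟩)) (.node 1 (.one ⟨8803, 1, 6⟩) (.one ⟨1215, 1, 2⟩)))) (.node 4 (.node 2 (.node 1 (.one ⟨10827, 2, 3⟩) (.one ⟨1445, 0, 3⟩)) (.node 1 (.one ⟨4651, 2, 3⟩) (.one ⟨14048, 0, 8⟩))) (.node 2 (.node 1 (.one ⟨5700, 1, 5⟩) (.one ⟨14366, 0, 4⟩)) (.node 1 (.one ⟨8942, 1, 3⟩) (.one ⟨11050, 2, 6⟩))))) (.node 8 (.node 4 (.node 2 (.node 1 (.one ⟨9414, 0, 8⟩) (.one ⟨9744, 0, 6⟩)) (.node 1 (.one ⟨15940, 1, 7⟩) (.one ⟨15424, 2, 6⟩))) (.node 2 (.node 1 (.one ⟨15426, 2, 3⟩) (.one ⟨15427, 2, 6⟩)) (.node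 1 (.one ⟨7497, 1, 6⟩) (.one ⟨12081, 1, 6⟩)))) (.node 4 (.node 2 (.node 1 (.one ⟨9212, 2, 3⟩) (.one ⟨12618, 0, 7⟩)) (.node 1 (.one ⟨5924, 2, 7⟩) (.one ⟨3267, 1, 5⟩))) (.node 2 (.node 1 (.one ⟨13005, 0, 2⟩) (.one ⟨1549, 2, 3⟩)) (.node 1 (.one ⟨12094, 1, 9⟩) (.one ⟨5379, 1, 4⟩)))))) (.node 16 (.node 8 (.node 4 (.node 2 (.node 1 (.one ⟨13668, 2, 8⟩) (.one ⟨17177, 2, 6⟩)) (.node 1 (.one ⟨2481, 0, 7⟩) (.one ⟨7123, 1, 4⟩))) (.node 2 (.node 1 (.one ⟨9638, 1, 8⟩) (.one ⟨1847, 0, 4⟩)) (.node 1 (.one ⟨15244, 1, 3⟩) (.one ⟨5364, 0, 4⟩)))) (.node 4 (.node 2 (.node 1 (.one ⟨4899, 1, 6⟩) (.one ⟨4311, 1, 6⟩)) (.node 1 (.one ⟨1446, 0, 5⟩) (.one ⟨2849, 0, 5⟩))) (.node 2 (.node 1 (.one ⟨12901, 1, 7⟩) (.one ⟨12241, 1, 6⟩)) (.node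 1 (.one ⟨4298, 2, 3⟩) (.one ⟨4157, 2, 6⟩))))) (.node 8 (.node 4 (.node 2 (.node 1 (.one ⟨5411, 0, 7⟩) (.one ⟨6847, 1, 5⟩)) (.node 1 (.one ⟨15979, 2, 9⟩) (.one ⟨5597, 0, 3⟩))) (.node 2 (.node 1 (.one ⟨12533, 1, 5⟩) (.one ⟨16818, 1, 8⟩)) (.node 1 (.one ⟨4770, 2, 8⟩) (.one ⟨13594, 1, 5⟩)))) (.node 4 (.node 2 (.node 1 (.one ⟨9561, 1, 3⟩) (.one ⟨3799, 1, 6⟩)) (.node 1 (.one ⟨3194, 1, 2⟩) (.one ⟨12872, 1, 6⟩))) (.node 2 (.node 1 (.one ⟨10554, 1, 6⟩) (.one ⟨4082, 1, 3⟩)) (.node 1 (.one ⟨2919, 1, 8⟩) (.one ⟨1647, 1, 5⟩)))))))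
def par7_5_12 : Arr Par :=
  (.node 32 (.node 16 (.node 8 (.node 4 (.node 2 (.node 1 (.one ⟨15917, 2, 6⟩) (.one ⟨9410, 0, 5⟩)) (.node 1 (.one ⟨11676, 0, 9⟩) (.one ⟨13280, 2, 6⟩))) (.node 2 (.node 1 (.one ⟨2340, 1, 4⟩) (.one ⟨13246, 2, 2⟩)) (.node 1 (.one ⟨15331, 2, 8⟩) (.one ⟨11085, 1, 4⟩)))) (.node 4 (.node 2 (.node 1 (.one ⟨7467, 2, 6⟩) (.one ⟨6370, 1, 5⟩)) (.node 1 (.one ⟨13048, 2, 6⟩) (.one ⟨1460, 0, 3⟩))) (.node 2 (.node 1 (.one ⟨6853, 1, 8⟩) (.one ⟨11252, 1, 7⟩)) (.node 1 (.one ⟨2296, 2, 3⟩) (.one ⟨9460, 0, 1⟩))))) (.node 8 (.node 4 (.node 2 (.node 1 (.one ⟨11712, 2, 9⟩) (.one ⟨6483, 2, 7⟩)) (.node 1 (.one ⟨13258, 1, 2⟩) (.one ⟨8167, 2, 4⟩))) (.node 2 (.node 1 (.one ⟨11803, 1, 6⟩) (.one ⟨5081, 2, 4⟩))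 (.node 1 (.one ⟨14579, 0, 5⟩) (.one ⟨8807, 0, 3⟩)))) (.node 4 (.node 2 (.node 1 (.one ⟨11083, 2, 4⟩) (.one ⟨16544, 1, 5⟩)) (.node 1 (.one ⟨7619, 2, 6⟩) (.one ⟨3541, 2, 5⟩))) (.node 2 (.node 1 (.one ⟨5793, 2, 5⟩) (.one ⟨776, 1, 3⟩)) (.node 1 (.one ⟨13015, 2, 4⟩) (.one ⟨1632, 1, 6⟩)))))) (.node 16 (.node 8 (.node 4 (.node 2 (.node 1 (.one ⟨393, 2, 2⟩) (.one ⟨930, 1, 3⟩)) (.node 1 (.one ⟨3724, 2, 8⟩) (.one ⟨9408, 0, 5⟩))) (.node 2 (.node 1 (.one ⟨1636, 1, 6⟩) (.one ⟨11607, 2, 4⟩)) (.node 1 (.one ⟨3508, 2, 3⟩) (.one ⟨13257, 2, 5⟩)))) (.node 4 (.node 2 (.node 1 (.one ⟨8314, 1, 7⟩) (.one ⟨11144, 2, 9⟩)) (.node 1 (.one ⟨8401, 0, 5⟩) (.one ⟨11162, 2, 6⟩))) (.node 2 (.node 1 (.one ⟨9571, 2, 3⟩) (.one ⟨8558, 1, 5⟩))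 (.node 1 (.one ⟨5664, 0, 8⟩) (.one ⟨2780, 2, 6⟩))))) (.node 8 (.node 4 (.node 2 (.node 1 (.one ⟨13842, 1, 5⟩) (.one ⟨2752, 2, 5⟩)) (.node 1 (.one ⟨3016, 1, 9⟩) (.one ⟨595, 2, 3⟩))) (.node 2 (.node 1 (.one ⟨14803, 0, 7⟩) (.one ⟨15001, 1, 6⟩)) (.node 1 (.one ⟨1264, 0, 7⟩) (.one ⟨604, 2, 5⟩)))) (.node 4 (.node 2 (.node 1 (.one ⟨5551, 0, 2⟩) (.one ⟨10463, 0, 1⟩)) (.node 1 (.one ⟨10312, 0, 4⟩) (.one ⟨9807, 0, 8⟩))) (.node 2 (.node 1 (.one ⟨9391, 0, 5⟩) (.one ⟨6378, 0, 5⟩)) (.node 1 (.one ⟨6305, 0, 5⟩) (.one ⟨5586, 0, 2⟩)))))))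
def par7_5_13 : Arr Par :=
  (.node 32 (.node 16 (.node 8 (.node 4 (.node 2 (.node 1 (.one ⟨1672, 1, 3⟩) (.one ⟨4556, 2, 3⟩)) (.node 1 (.one ⟨1349, 2, 3⟩) (.one ⟨1265, 0, 3⟩))) (.node 2 (.node 1 (.one ⟨3627, 2, 3⟩) (.one ⟨9653, 1, 3⟩)) (.node 1 (.one ⟨10087, 0, 8⟩) (.one ⟨7473, 0, 4⟩)))) (.node 4 (.node 2 (.node 1 (.one ⟨3280, 0, 1⟩) (.one ⟨70, 1, 3⟩)) (.node 1 (.one ⟨577, 1, 5⟩) (.one ⟨11460, 0, 4⟩))) (.node 2 (.node 1 (.one ⟨9448, 1, 5⟩) (.one ⟨1649, 2, 2⟩)) (.node 1 (.one ⟨1347, 2, 5⟩) (.one ⟨8578, 2, 6⟩))))) (.node 8 (.node 4 (.node 2 (.node 1 (.one ⟨16796, 2, 6⟩) (.one ⟨1216, 0, 7⟩)) (.node 1 (.one ⟨5690, 2, 3⟩) (.one ⟨2285, 1, 4⟩))) (.node 2 (.node 1 (.one ⟨12528, 2, 6⟩) (.one ⟨3136, 1, 6⟩)) (.node 1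 (.one ⟨11214, 1, 1⟩) (.one ⟨13738, 2, 8⟩)))) (.node 4 (.node 2 (.node 1 (.one ⟨2440, 1, 6⟩) (.one ⟨5642, 1, 5⟩)) (.node 1 (.one ⟨6784, 1, 5⟩) (.one ⟨15259, 1, 9⟩))) (.node 2 (.node 1 (.one ⟨7201, 2, 5⟩) (.one ⟨4948, 0, 8⟩)) (.node 1 (.one ⟨9138, 0, 1⟩) (.one ⟨1934, 2, 6⟩)))))) (.node 16 (.node 8 (.node 4 (.node 2 (.node 1 (.one ⟨17121, 0, 7⟩) (.one ⟨5425, 0, 6⟩)) (.node 1 (.one ⟨1223, 0, 4⟩) (.one ⟨6179, 1, 9⟩))) (.node 2 (.node 1 (.one ⟨15245, 0, 5⟩) (.one ⟨3297, 0, 4⟩)) (.node 1 (.one ⟨15143, 1, 6⟩) (.one ⟨1547, 1, 3⟩)))) (.node 4 (.node 2 (.node 1 (.one ⟨1875, 1, 7⟩) (.one ⟨11741, 0, 7⟩)) (.node 1 (.one ⟨14548, 1, 5⟩) (.one ⟨6816, 1, 8⟩))) (.node 2 (.node 1 (.one ⟨12362, 2, 7⟩) (.one ⟨3511, 0, 4⟩)) (.node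 1 (.one ⟨11474, 1, 8⟩) (.one ⟨1621, 2, 5⟩))))) (.node 8 (.node 4 (.node 2 (.node 1 (.one ⟨2552, 1, 7⟩) (.one ⟨15029, 2, 6⟩)) (.node 1 (.one ⟨15265, 2, 4⟩) (.one ⟨1228, 0, 4⟩))) (.node 2 (.node 1 (.one ⟨7983, 0, 4⟩) (.one ⟨5545, 1, 6⟩)) (.node 1 (.one ⟨16477, 1, 9⟩) (.one ⟨11743, 0, 4⟩)))) (.node 4 (.node 2 (.node 1 (.one ⟨5884, 2, 7⟩) (.one ⟨114, 1, 8⟩)) (.node 1 (.one ⟨1998, 0, 5⟩) (.one ⟨14981, 0, 3⟩))) (.node 2 (.node 1 (.one ⟨14290, 1, 5⟩) (.one ⟨6772, 0, 9⟩)) (.node 1 (.one ⟨8650, 0, 5⟩) (.one ⟨8072, 1, 7⟩)))))))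
def par7_5_14 : Arr Par :=
  (.node 32 (.node 16 (.node 8 (.node 4 (.node 2 (.node 1 (.one ⟨3549, 0, 9⟩) (.one ⟨2842, 2, 4⟩)) (.node 1 (.one ⟨3537, 1, 9⟩) (.one ⟨7832, 2, 7⟩))) (.node 2 (.node 1 (.one ⟨337, 1, 7⟩) (.one ⟨1219, 0, 1⟩)) (.node 1 (.one ⟨7106, 0, 5⟩) (.one ⟨2082, 0, 5⟩)))) (.node 4 (.node 2 (.node 1 (.one ⟨8012, 0, 4⟩) (.one ⟨6254, 1, 3⟩)) (.node 1 (.one ⟨57, 1, 4⟩) (.one ⟨9137, 0, 5⟩))) (.node 2 (.node 1 (.one ⟨15768, 2, 6⟩) (.one ⟨261, 1, 2⟩)) (.node 1 (.one ⟨6251, 1, 7⟩) (.one ⟨13295, 1, 7⟩))))) (.node 8 (.node 4 (.node 2 (.node 1 (.one ⟨5422, 2, 4⟩) (.one ⟨4519, 2, 6⟩)) (.node 1 (.one ⟨3071, 1, 4⟩) (.one ⟨3139, 1, 8⟩))) (.node 2 (.node 1 (.one ⟨8129, 2, 4⟩) (.one ⟨6869, 0, 6⟩)) (.node 1 (.one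 ⟨5906, 2, 3⟩) (.one ⟨14451, 1, 5⟩)))) (.node 4 (.node 2 (.node 1 (.one ⟨3257, 1, 2⟩) (.one ⟨16975, 2, 5⟩)) (.node 1 (.one ⟨15135, 2, 5⟩) (.one ⟨3223, 1, 7⟩))) (.node 2 (.node 1 (.one ⟨14350, 0, 2⟩) (.one ⟨1790, 1, 2⟩)) (.node 1 (.one ⟨14775, 1, 4⟩) (.one ⟨12223, 1, 6⟩)))))) (.node 16 (.node 8 (.node 4 (.node 2 (.node 1 (.one ⟨5223, 1, 8⟩) (.one ⟨6957, 1, 6⟩)) (.node 1 (.one ⟨14287, 2, 5⟩) (.one ⟨5586, 1, 2⟩))) (.node 2 (.node 1 (.one ⟨15150, 1, 3⟩) (.one ⟨1746, 0, 3⟩)) (.node 1 (.one ⟨4471, 1, 3⟩) (.one ⟨9483, 2, 5⟩)))) (.node 4 (.node 2 (.node 1 (.one ⟨3280, 1, 1⟩) (.one ⟨3852, 2, 9⟩)) (.node 1 (.one ⟨7473, 1, 4⟩) (.one ⟨9404, 1, 5⟩))) (.node 2 (.node 1 (.one ⟨4584, 2, 5⟩) (.one ⟨14179, 1, 8⟩)) (.node 1 (.one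 ⟨11460, 1, 4⟩) (.one ⟨6313, 0, 7⟩))))) (.node 8 (.node 4 (.node 2 (.node 1 (.one ⟨12742, 1, 3⟩) (.one ⟨786, 2, 5⟩)) (.node 1 (.one ⟨307, 2, 6⟩) (.one ⟨5939, 0, 4⟩))) (.node 2 (.node 1 (.one ⟨654, 2, 7⟩) (.one ⟨10932, 0, 5⟩)) (.node 1 (.one ⟨796, 2, 4⟩) (.one ⟨12729, 2, 4⟩)))) (.node 4 (.node 2 (.node 1 (.one ⟨10994, 2, 8⟩) (.one ⟨16005, 2, 3⟩)) (.node 1 (.one ⟨9562, 1, 1⟩) (.one ⟨13050, 1, 8⟩))) (.node 2 (.node 1 (.one ⟨3635, 2, 3⟩) (.one ⟨158, 0, 5⟩)) (.node 1 (.one ⟨8405, 2, 7⟩) (.one ⟨11829, 1, 2⟩)))))))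
def par7_5_15 : Arr Par :=
  (.node 32 (.node 16 (.node 8 (.node 4 (.node 2 (.node 1 (.one ⟨6801, 1, 6⟩) (.one ⟨9298, 1, 4⟩)) (.node 1 (.one ⟨8577, 1, 6⟩) (.one ⟨8380, 2, 7⟩))) (.node 2 (.node 1 (.one ⟨1076, 2, 6⟩) (.one ⟨13353, 0, 9⟩)) (.node 1 (.one ⟨16657, 1, 8⟩) (.one ⟨1917, 1, 3⟩)))) (.node 4 (.node 2 (.node 1 (.one ⟨2248, 2, 4⟩) (.one ⟨6839, 2, 3⟩)) (.node 1 (.one ⟨2229, 1, 6⟩) (.one ⟨2487, 1, 6⟩))) (.node 2 (.node 1 (.one ⟨13077, 1, 7⟩) (.one ⟨13137, 1, 8⟩)) (.node 1 (.one ⟨3678, 2, 4⟩) (.one ⟨8041, 0, 4⟩))))) (.node 8 (.node 4 (.node 2 (.node 1 (.one ⟨14128, 2, 4⟩) (.one ⟨13265, 2, 3⟩)) (.node 1 (.one ⟨16751, 1, 6⟩) (.one ⟨7503, 1, 7⟩))) (.node 2 (.node 1 (.one ⟨9367, 1, 5⟩) (.one ⟨529, 2, 6⟩)) (.node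 1 (.one ⟨11519, 2, 6⟩) (.one ⟨3504, 1, 6⟩)))) (.node 4 (.node 2 (.node 1 (.one ⟨8827, 0, 8⟩) (.one ⟨12523, 2, 7⟩)) (.node 1 (.one ⟨7933, 1, 5⟩) (.one ⟨15744, 1, 7⟩))) (.node 2 (.node 1 (.one ⟨6044, 0, 3⟩) (.one ⟨1737, 1, 1⟩)) (.node 1 (.one ⟨4009, 2, 4⟩) (.one ⟨1721, 2, 6⟩)))))) (.node 16 (.node 8 (.node 4 (.node 2 (.node 1 (.one ⟨2695, 2, 7⟩) (.one ⟨15471, 1, 7⟩)) (.node 1 (.one ⟨11145, 1, 7⟩) (.one ⟨8230, 1, 3⟩))) (.node 2 (.node 1 (.one ⟨16732, 0, 5⟩) (.one ⟨5595, 1, 3⟩)) (.node 1 (.one ⟨2519, 2, 7⟩) (.one ⟨4670, 1, 7⟩)))) (.node 4 (.node 2 (.node 1 (.one ⟨7147, 2, 4⟩) (.one ⟨239, 1, 3⟩)) (.node 1 (.one ⟨14181, 0, 5⟩) (.one ⟨4680, 1, 10⟩))) (.node 2 (.node 1 (.one ⟨4073, 1, 6⟩) (.one ⟨1089, 1, 7⟩)) (.node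 1 (.one ⟨3306, 1, 8⟩) (.one ⟨4197, 1, 0⟩))))) (.node 8 (.node 4 (.node 2 (.node 1 (.one ⟨10465, 0, 1⟩) (.one ⟨5554, 0, 2⟩)) (.node 1 (.one ⟨14600, 0, 4⟩) (.one ⟨4591, 0, 4⟩))) (.node 2 (.node 1 (.one ⟨13481, 0, 1⟩) (.one ⟨8719, 0, 1⟩)) (.node 1 (.one ⟨8839, 1, 4⟩) (.one ⟨9269, 1, 3⟩)))) (.node 4 (.node 2 (.node 1 (.one ⟨14023, 1, 10⟩) (.one ⟨2004, 1, 7⟩)) (.node 1 (.one ⟨8233, 2, 6⟩) (.one ⟨17147, 2, 1⟩))) (.node 2 (.node 1 (.one ⟨11181, 2, 4⟩) (.one ⟨10751, 1, 5⟩)) (.node 1 (.one ⟨14397, 1, 4⟩) (.one ⟨6436, 1, 8⟩)))))))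
def par7_5 : Arr Par :=
  (.node 512 (.node 256 (.node 128 (.node 64 par7_5_0 par7_5_1) (.node 64 par7_5_2 par7_5_3)) (.node 128 (.node 64 par7_5_4 par7_5_5) (.node 64 par7_5_6 par7_5_7))) (.node 256 (.node 128 (.node 64 par7_5_8 par7_5_9) (.node 64 par7_5_10 par7_5_11)) (.node 128 (.node 64 par7_5_12 par7_5_13) (.node 64 par7_5_14 par7_5_15))))
def par7_6_0 : Arr Par :=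
  (.node 32 (.node 16 (.node 8 (.node 4 (.node 2 (.node 1 (.one ⟨13573, 1, 5⟩) (.one ⟨16961, 0, 9⟩)) (.node 1 (.one ⟨557, 1, 5⟩) (.one ⟨8551, 1, 7⟩))) (.node 2 (.node 1 (.one ⟨7166, 0, 4⟩) (.one ⟨16508, 2, 4⟩)) (.node 1 (.one ⟨5532, 1, 9⟩) (.one ⟨3192, 0, 2⟩)))) (.node 4 (.node 2 (.node 1 (.one ⟨4049, 0, 1⟩) (.one ⟨1329, 1, 4⟩)) (.node 1 (.one ⟨1333, 1, 7⟩) (.one ⟨5009, 0, 2⟩))) (.node 2 (.node 1 (.one ⟨2207, 0, 2⟩) (.one ⟨4327, 0, 6⟩)) (.node 1 (.one ⟨11025, 2, 7⟩) (.one ⟨5646, 1, 3⟩))))) (.node 8 (.node 4 (.node 2 (.node 1 (.one ⟨1519, 1, 4⟩) (.one ⟨4100, 0, 3⟩)) (.node 1 (.one ⟨8800, 1, 4⟩) (.one ⟨1841, 1, 4⟩))) (.node 2 (.node 1 (.one ⟨6011, 1, 4⟩) (.one ⟨10401, 2, 6⟩)) (.node 1 (.one ⟨2178, 0, 7⟩) (.one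 ⟨12763, 2, 8⟩)))) (.node 4 (.node 2 (.node 1 (.one ⟨1605, 0, 7⟩) (.one ⟨3526, 0, 2⟩)) (.node 1 (.one ⟨15953, 2, 8⟩) (.one ⟨13662, 1, 6⟩))) (.node 2 (.node 1 (.one ⟨16259, 2, 3⟩) (.one ⟨6712, 0, 4⟩)) (.node 1 (.one ⟨7372, 2, 9⟩) (.one ⟨13379, 2, 4⟩)))))) (.node 16 (.node 8 (.node 4 (.node 2 (.node 1 (.one ⟨16791, 1, 5⟩) (.one ⟨9858, 2, 9⟩)) (.node 1 (.one ⟨15947, 2, 8⟩) (.one ⟨4950, 0, 8⟩))) (.node 2 (.node 1 (.one ⟨10228, 0, 9⟩) (.one ⟨9844, 1, 7⟩)) (.node 1 (.one ⟨14835, 2, 6⟩) (.one ⟨9569, 2, 5⟩)))) (.node 4 (.node 2 (.node 1 (.one ⟨6242, 1, 6⟩) (.one ⟨2484, 1, 5⟩)) (.node 1 (.one ⟨13254, 0, 2⟩) (.one ⟨1182, 1, 7⟩))) (.node 2 (.node 1 (.one ⟨5984, 1, 8⟩) (.one ⟨662, 1, 5⟩)) (.node 1 (.one ⟨5956, 1, 4⟩) (.one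 ⟨8228, 0, 5⟩))))) (.node 8 (.node 4 (.node 2 (.node 1 (.one ⟨5313, 2, 4⟩) (.one ⟨8910, 2, 8⟩)) (.node 1 (.one ⟨6818, 2, 8⟩) (.one ⟨15883, 2, 8⟩))) (.node 2 (.node 1 (.one ⟨14391, 2, 4⟩) (.one ⟨10352, 1, 4⟩)) (.node 1 (.one ⟨4818, 0, 8⟩) (.one ⟨15019, 1, 5⟩)))) (.node 4 (.node 2 (.node 1 (.one ⟨13746, 1, 8⟩) (.one ⟨2849, 2, 5⟩)) (.node 1 (.one ⟨14587, 0, 8⟩) (.one ⟨9803, 1, 7⟩))) (.node 2 (.node 1 (.one ⟨10969, 1, 7⟩) (.one ⟨16250, 2, 4⟩)) (.node 1 (.one ⟨101, 1, 4⟩) (.one ⟨4060, 0, 4⟩)))))))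
def par7_6_1 : Arr Par :=
  (.node 32 (.node 16 (.node 8 (.node 4 (.node 2 (.node 1 (.one ⟨11367, 0, 2⟩) (.one ⟨3295, 0, 5⟩)) (.node 1 (.one ⟨12112, 0, 7⟩) (.one ⟨7966, 0, 4⟩))) (.node 2 (.node 1 (.one ⟨3012, 1, 3⟩) (.one ⟨899, 1, 4⟩)) (.node 1 (.one ⟨7568, 1, 7⟩) (.one ⟨16373, 1, 5⟩)))) (.node 4 (.node 2 (.node 1 (.one ⟨10396, 2, 3⟩) (.one ⟨3853, 1, 6⟩)) (.node 1 (.one ⟨17061, 1, 7⟩) (.one ⟨3114, 1, 5⟩))) (.node 2 (.node 1 (.one ⟨16927, 2, 5⟩) (.one ⟨15625, 1, 7⟩)) (.node 1 (.one ⟨392, 1, 3⟩) (.one ⟨1726, 1, 7⟩))))) (.node 8 (.node 4 (.node 2 (.node 1 (.one ⟨15168, 2, 6⟩) (.one ⟨7610, 2, 4⟩)) (.node 1 (.one ⟨6976, 0, 6⟩) (.one ⟨10903, 0, 4⟩))) (.node 2 (.node 1 (.one ⟨13916, 1, 9⟩) (.one ⟨13839, 0, 5⟩)) (.node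 1 (.one ⟨9917, 1, 5⟩) (.one ⟨2923, 1, 3⟩)))) (.node 4 (.node 2 (.node 1 (.one ⟨14738, 1, 9⟩) (.one ⟨10114, 1, 7⟩)) (.node 1 (.one ⟨13978, 2, 6⟩) (.one ⟨9530, 1, 7⟩))) (.node 2 (.node 1 (.one ⟨6004, 1, 5⟩) (.one ⟨2771, 1, 5⟩)) (.node 1 (.one ⟨15138, 1, 6⟩) (.one ⟨5632, 1, 7⟩)))))) (.node 16 (.node 8 (.node 4 (.node 2 (.node 1 (.one ⟨15571, 2, 8⟩) (.one ⟨14184, 0, 4⟩)) (.node 1 (.one ⟨9678, 2, 5⟩) (.one ⟨13264, 0, 4⟩))) (.node 2 (.node 1 (.one ⟨1933, 1, 9⟩) (.one ⟨15863, 0, 4⟩)) (.node 1 (.one ⟨9117, 0, 5⟩) (.one ⟨13351, 0, 5⟩)))) (.node 4 (.node 2 (.node 1 (.one ⟨339, 0, 7⟩) (.one ⟨4752, 2, 7⟩)) (.node 1 (.one ⟨6835, 1, 4⟩) (.one ⟨15317, 0, 6⟩))) (.node 2 (.node 1 (.one ⟨2655, 2, 8⟩) (.one ⟨13080, 2, 7⟩)) (.node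 1 (.one ⟨16708, 0, 2⟩) (.one ⟨3664, 0, 3⟩))))) (.node 8 (.node 4 (.node 2 (.node 1 (.one ⟨7849, 0, 2⟩) (.one ⟨3112, 0, 5⟩)) (.node 1 (.one ⟨6609, 0, 4⟩) (.one ⟨9333, 1, 5⟩))) (.node 2 (.node 1 (.one ⟨9329, 1, 5⟩) (.one ⟨11556, 0, 6⟩)) (.node 1 (.one ⟨10945, 2, 3⟩) (.one ⟨16601, 1, 6⟩)))) (.node 4 (.node 2 (.node 1 (.one ⟨5549, 1, 2⟩) (.one ⟨1594, 2, 4⟩)) (.node 1 (.one ⟨3966, 1, 7⟩) (.one ⟨15628, 1, 6⟩))) (.node 2 (.node 1 (.one ⟨3113, 1, 2⟩) (.one ⟨4148, 1, 0⟩)) (.node 1 (.one ⟨274, 1, 4⟩) (.one ⟨3332, 0, 9⟩)))))))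
def par7_6_2 : Arr Par :=
  (.node 32 (.node 16 (.node 8 (.node 4 (.node 2 (.node 1 (.one ⟨6084, 1, 7⟩) (.one ⟨6085, 1, 10⟩)) (.node 1 (.one ⟨16322, 0, 8⟩) (.one ⟨126, 1, 7⟩))) (.node 2 (.node 1 (.one ⟨468, 1, 3⟩) (.one ⟨1261, 2, 4⟩)) (.node 1 (.one ⟨8681, 2, 8⟩) (.one ⟨15020, 1, 5⟩)))) (.node 4 (.node 2 (.node 1 (.one ⟨1503, 1, 3⟩) (.one ⟨1653, 2, 3⟩)) (.node 1 (.one ⟨2992, 1, 5⟩) (.one ⟨6325, 0, 6⟩))) (.node 2 (.node 1 (.one ⟨959, 1, 5⟩) (.one ⟨2276, 2, 7⟩)) (.node 1 (.one ⟨3118, 1, 3⟩) (.one ⟨8840, 0, 7⟩))))) (.node 8 (.node 4 (.node 2 (.node 1 (.one ⟨5598, 0, 7⟩) (.one ⟨6962, 1, 6⟩)) (.node 1 (.one ⟨15548, 1, 5⟩) (.one ⟨15151, 1, 9⟩))) (.node 2 (.node 1 (.one ⟨5644, 2, 8⟩) (.one ⟨10732, 1, 6⟩)) (.node 1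 (.one ⟨4109, 1, 0⟩) (.one ⟨12267, 1, 9⟩)))) (.node 4 (.node 2 (.node 1 (.one ⟨13067, 1, 3⟩) (.one ⟨6529, 2, 7⟩)) (.node 1 (.one ⟨8372, 0, 4⟩) (.one ⟨13844, 2, 7⟩))) (.node 2 (.node 1 (.one ⟨11300, 1, 6⟩) (.one ⟨11907, 1, 7⟩)) (.node 1 (.one ⟨13597, 1, 8⟩) (.one ⟨10949, 1, 6⟩)))))) (.node 16 (.node 8 (.node 4 (.node 2 (.node 1 (.one ⟨7471, 1, 6⟩) (.one ⟨6108, 0, 4⟩)) (.node 1 (.one ⟨9894, 2, 5⟩) (.one ⟨870, 2, 4⟩))) (.node 2 (.node 1 (.one ⟨17143, 0, 3⟩) (.one ⟨8188, 0, 3⟩)) (.node 1 (.one ⟨4346, 0, 6⟩) (.one ⟨8102, 2, 6⟩)))) (.node 4 (.node 2 (.node 1 (.one ⟨10447, 1, 5⟩) (.one ⟨1543, 2, 6⟩)) (.node 1 (.one ⟨2469, 1, 5⟩) (.one ⟨10419, 1, 8⟩))) (.node 2 (.node 1 (.one ⟨10542, 2, 8⟩) (.one ⟨2431, 1, 5⟩)) (.node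 1 (.one ⟨16417, 2, 4⟩) (.one ⟨8841, 1, 4⟩))))) (.node 8 (.node 4 (.node 2 (.node 1 (.one ⟨1498, 0, 2⟩) (.one ⟨14279, 1, 8⟩)) (.node 1 (.one ⟨2302, 0, 5⟩) (.one ⟨6425, 1, 8⟩))) (.node 2 (.node 1 (.one ⟨1833, 1, 8⟩) (.one ⟨10252, 2, 5⟩)) (.node 1 (.one ⟨12930, 1, 8⟩) (.one ⟨6544, 0, 4⟩)))) (.node 4 (.node 2 (.node 1 (.one ⟨15332, 0, 3⟩) (.one ⟨7111, 1, 8⟩)) (.node 1 (.one ⟨6124, 2, 7⟩) (.one ⟨9858, 1, 9⟩))) (.node 2 (.node 1 (.one ⟨13783, 1, 5⟩) (.one ⟨15530, 1, 8⟩)) (.node 1 (.one ⟨1173, 0, 8⟩) (.one ⟨15384, 1, 7⟩)))))))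
def par7_6_3 : Arr Par :=
  (.node 32 (.node 16 (.node 8 (.node 4 (.node 2 (.node 1 (.one ⟨14965, 1, 8⟩) (.one ⟨7375, 2, 7⟩)) (.node 1 (.one ⟨9586, 1, 3⟩) (.one ⟨11189, 2, 8⟩))) (.node 2 (.node 1 (.one ⟨2311, 1, 4⟩) (.one ⟨6593, 1, 8⟩)) (.node 1 (.one ⟨7540, 1, 7⟩) (.one ⟨1847, 1, 4⟩)))) (.node 4 (.node 2 (.node 1 (.one ⟨330, 1, 8⟩) (.one ⟨513, 2, 3⟩)) (.node 1 (.one ⟨1495, 0, 4⟩) (.one ⟨2322, 0, 7⟩))) (.node 2 (.node 1 (.one ⟨6390, 2, 5⟩) (.one ⟨4756, 1, 5⟩)) (.node 1 (.one ⟨5020, 1, 3⟩) (.one ⟨16227, 2, 6⟩))))) (.node 8 (.node 4 (.node 2 (.node 1 (.one ⟨4088, 1, 0⟩) (.one ⟨14159, 1, 3⟩)) (.node 1 (.one ⟨5627, 2, 6⟩) (.one ⟨2815, 0, 4⟩))) (.node 2 (.node 1 (.one ⟨13688, 1, 4⟩) (.one ⟨308, 0, 3⟩)) (.node 1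 (.one ⟨8310, 1, 8⟩) (.one ⟨8844, 0, 4⟩)))) (.node 4 (.node 2 (.node 1 (.one ⟨7272, 2, 7⟩) (.one ⟨2486, 2, 6⟩)) (.node 1 (.one ⟨14440, 1, 4⟩) (.one ⟨2335, 1, 6⟩))) (.node 2 (.node 1 (.one ⟨14335, 0, 5⟩) (.one ⟨7565, 2, 2⟩)) (.node 1 (.one ⟨6906, 2, 4⟩) (.one ⟨579, 1, 2⟩)))))) (.node 16 (.node 8 (.node 4 (.node 2 (.node 1 (.one ⟨2960, 0, 2⟩) (.one ⟨1197, 1, 4⟩)) (.node 1 (.one ⟨1172, 0, 4⟩) (.one ⟨6521, 0, 1⟩))) (.node 2 (.node 1 (.one ⟨5106, 0, 2⟩) (.one ⟨6973, 2, 7⟩)) (.node 1 (.one ⟨4256, 0, 4⟩) (.one ⟨16086, 1, 10⟩)))) (.node 4 (.node 2 (.node 1 (.one ⟨905, 1, 7⟩) (.one ⟨15268, 2, 4⟩)) (.node 1 (.one ⟨1811, 0, 4⟩) (.one ⟨9475, 1, 5⟩))) (.node 2 (.node 1 (.one ⟨7998, 1, 5⟩) (.one ⟨2201, 1, 5⟩)) (.node 1 (.one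 ⟨11261, 2, 4⟩) (.one ⟨16278, 1, 4⟩))))) (.node 8 (.node 4 (.node 2 (.node 1 (.one ⟨2505, 2, 5⟩) (.one ⟨7874, 1, 4⟩)) (.node 1 (.one ⟨5368, 1, 3⟩) (.one ⟨2728, 1, 1⟩))) (.node 2 (.node 1 (.one ⟨10880, 2, 5⟩) (.one ⟨9708, 1, 6⟩)) (.node 1 (.one ⟨15405, 1, 4⟩) (.one ⟨16095, 1, 5⟩)))) (.node 4 (.node 2 (.node 1 (.one ⟨5939, 1, 4⟩) (.one ⟨16818, 0, 8⟩)) (.node 1 (.one ⟨3602, 1, 4⟩) (.one ⟨8714, 0, 4⟩))) (.node 2 (.node 1 (.one ⟨14346, 1, 5⟩) (.one ⟨2606, 1, 8⟩)) (.node 1 (.one ⟨9607, 0, 4⟩) (.one ⟨313, 2, 2⟩)))))))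
def par7_6_4 : Arr Par :=
  (.node 32 (.node 16 (.node 8 (.node 4 (.node 2 (.node 1 (.one ⟨2677, 1, 8⟩) (.one ⟨2674, 1, 6⟩)) (.node 1 (.one ⟨11812, 2, 7⟩) (.one ⟨752, 1, 7⟩))) (.node 2 (.node 1 (.one ⟨9247, 2, 5⟩) (.one ⟨15226, 0, 7⟩)) (.node 1 (.one ⟨9504, 0, 5⟩) (.one ⟨15931, 1, 7⟩)))) (.node 4 (.node 2 (.node 1 (.one ⟨9612, 0, 4⟩) (.one ⟨1091, 1, 6⟩)) (.node 1 (.one ⟨13461, 1, 7⟩) (.one ⟨14440, 2, 4⟩))) (.node 2 (.node 1 (.one ⟨1004, 1, 3⟩) (.one ⟨16422, 0, 5⟩)) (.node 1 (.one ⟨15950, 1, 7⟩) (.one ⟨16326, 1, 6⟩))))) (.node 8 (.node 4 (.node 2 (.node 1 (.one ⟨9531, 2, 5⟩) (.one ⟨12217, 2, 9⟩)) (.node 1 (.one ⟨9608, 0, 5⟩) (.one ⟨11361, 1, 5⟩))) (.node 2 (.node 1 (.one ⟨8322, 0, 4⟩) (.one ⟨5696, 1, 8⟩)) (.node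 1 (.one ⟨8725, 0, 5⟩) (.one ⟨15883, 1, 8⟩)))) (.node 4 (.node 2 (.node 1 (.one ⟨9505, 0, 5⟩) (.one ⟨5392, 0, 7⟩)) (.node 1 (.one ⟨8662, 0, 7⟩) (.one ⟨2715, 1, 6⟩))) (.node 2 (.node 1 (.one ⟨16319, 2, 7⟩) (.one ⟨3929, 1, 8⟩)) (.node 1 (.one ⟨11753, 2, 4⟩) (.one ⟨9611, 0, 6⟩)))))) (.node 16 (.node 8 (.node 4 (.node 2 (.node 1 (.one ⟨16324, 2, 4⟩) (.one ⟨860, 1, 5⟩)) (.node 1 (.one ⟨9480, 1, 2⟩) (.one ⟨2099, 1, 4⟩))) (.node 2 (.node 1 (.one ⟨14526, 0, 7⟩) (.one ⟨8446, 1, 3⟩)) (.node 1 (.one ⟨4296, 2, 5⟩) (.one ⟨4204, 1, 7⟩)))) (.node 4 (.node 2 (.node 1 (.one ⟨8676, 0, 5⟩) (.one ⟨2420, 1, 1⟩)) (.node 1 (.one ⟨16606, 1, 7⟩) (.one ⟨2687, 1, 4⟩))) (.node 2 (.node 1 (.one ⟨16528, 1, 7⟩) (.one ⟨9503, 0, 6⟩)) (.node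 1 (.one ⟨3191, 2, 5⟩) (.one ⟨6327, 1, 5⟩))))) (.node 8 (.node 4 (.node 2 (.node 1 (.one ⟨8754, 2, 8⟩) (.one ⟨14385, 2, 7⟩)) (.node 1 (.one ⟨4216, 0, 8⟩) (.one ⟨8, 2, 8⟩))) (.node 2 (.node 1 (.one ⟨3536, 0, 4⟩) (.one ⟨11190, 1, 6⟩)) (.node 1 (.one ⟨1257, 0, 6⟩) (.one ⟨1104, 0, 8⟩)))) (.node 4 (.node 2 (.node 1 (.one ⟨8488, 1, 3⟩) (.one ⟨2851, 1, 9⟩)) (.node 1 (.one ⟨12385, 0, 6⟩) (.one ⟨16123, 0, 7⟩))) (.node 2 (.node 1 (.one ⟨5233, 0, 2⟩) (.one ⟨9479, 1, 3⟩)) (.node 1 (.one ⟨6631, 2, 2⟩) (.one ⟨1688, 1, 4⟩)))))))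
def par7_6_5 : Arr Par :=
  (.node 32 (.node 16 (.node 8 (.node 4 (.node 2 (.node 1 (.one ⟨4063, 2, 9⟩) (.one ⟨8834, 1, 3⟩)) (.node 1 (.one ⟨7361, 0, 7⟩) (.one ⟨4327, 1, 6⟩))) (.node 2 (.node 1 (.one ⟨6371, 1, 2⟩) (.one ⟨4998, 2, 4⟩)) (.node 1 (.one ⟨12097, 2, 7⟩) (.one ⟨3681, 1, 6⟩)))) (.node 4 (.node 2 (.node 1 (.one ⟨5438, 1, 6⟩) (.one ⟨13806, 1, 3⟩)) (.node 1 (.one ⟨15223, 1, 5⟩) (.one ⟨8013, 1, 5⟩))) (.node 2 (.node 1 (.one ⟨14615, 2, 5⟩) (.one ⟨16791, 0, 5⟩)) (.node 1 (.one ⟨11333, 1, 5⟩) (.one ⟨1113, 0, 5⟩))))) (.node 8 (.node 4 (.node 2 (.node 1 (.one ⟨14613, 1, 7⟩) (.one ⟨422, 1, 4⟩)) (.node 1 (.one ⟨15869, 1, 4⟩) (.one ⟨4557, 1, 6⟩))) (.node 2 (.node 1 (.one ⟨10484, 0, 9⟩) (.one ⟨15041, 2, 8⟩)) (.node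 1 (.one ⟨17177, 1, 6⟩) (.one ⟨15571, 1, 8⟩)))) (.node 4 (.node 2 (.node 1 (.one ⟨5445, 1, 4⟩) (.one ⟨16866, 2, 3⟩)) (.node 1 (.one ⟨2639, 0, 4⟩) (.one ⟨15947, 1, 8⟩))) (.node 2 (.node 1 (.one ⟨2198, 1, 6⟩) (.one ⟨15473, 1, 5⟩)) (.node 1 (.one ⟨1262, 0, 8⟩) (.one ⟨8012, 1, 4⟩)))))) (.node 16 (.node 8 (.node 4 (.node 2 (.node 1 (.one ⟨1780, 1, 3⟩) (.one ⟨11230, 0, 3⟩)) (.node 1 (.one ⟨17095, 2, 4⟩) (.one ⟨9582, 1, 3⟩))) (.node 2 (.node 1 (.one ⟨16014, 1, 3⟩) (.one ⟨6945, 1, 3⟩)) (.node 1 (.one ⟨4769, 1, 5⟩) (.one ⟨8007, 1, 5⟩)))) (.node 4 (.node 2 (.node 1 (.one ⟨1259, 0, 6⟩) (.one ⟨10800, 2, 5⟩)) (.node 1 (.one ⟨10801, 2, 3⟩) (.one ⟨15636, 2, 8⟩))) (.node 2 (.node 1 (.one ⟨15638, 2, 3⟩) (.one ⟨1367, 1, 5⟩))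 (.node 1 (.one ⟨7038, 0, 9⟩) (.one ⟨7670, 1, 4⟩))))) (.node 8 (.node 4 (.node 2 (.node 1 (.one ⟨15793, 1, 7⟩) (.one ⟨9476, 1, 7⟩)) (.node 1 (.one ⟨1816, 1, 6⟩) (.one ⟨15665, 2, 3⟩))) (.node 2 (.node 1 (.one ⟨15866, 2, 5⟩) (.one ⟨265, 0, 5⟩)) (.node 1 (.one ⟨15768, 1, 6⟩) (.one ⟨7842, 0, 3⟩)))) (.node 4 (.node 2 (.node 1 (.one ⟨581, 1, 4⟩) (.one ⟨3840, 1, 0⟩)) (.node 1 (.one ⟨9021, 0, 2⟩) (.one ⟨9170, 1, 5⟩))) (.node 2 (.node 1 (.one ⟨9167, 1, 7⟩) (.one ⟨9627, 0, 7⟩)) (.node 1 (.one ⟨16662, 0, 4⟩) (.one ⟨10190, 0, 4⟩)))))))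
def par7_6_6 : Arr Par :=
  (.node 32 (.node 16 (.node 8 (.node 4 (.node 2 (.node 1 (.one ⟨1602, 0, 8⟩) (.one ⟨2681, 0, 6⟩)) (.node 1 (.one ⟨10934, 1, 9⟩) (.one ⟨8727, 2, 6⟩))) (.node 2 (.node 1 (.one ⟨6490, 1, 5⟩) (.one ⟨6336, 2, 9⟩)) (.node 1 (.one ⟨9617, 0, 9⟩) (.one ⟨3978, 0, 7⟩)))) (.node 4 (.node 2 (.node 1 (.one ⟨12040, 2, 4⟩) (.one ⟨13690, 1, 6⟩)) (.node 1 (.one ⟨16584, 2, 5⟩) (.one ⟨14056, 1, 3⟩))) (.node 2 (.node 1 (.one ⟨6440, 2, 6⟩) (.one ⟨13602, 2, 1⟩)) (.node 1 (.one ⟨519, 0, 3⟩) (.one ⟨16993, 2, 1⟩))))) (.node 8 (.node 4 (.node 2 (.node 1 (.one ⟨12183, 2, 3⟩) (.one ⟨13145, 0, 4⟩)) (.node 1 (.one ⟨3800, 0, 6⟩) (.one ⟨12524, 0, 5⟩))) (.node 2 (.node 1 (.one ⟨4536, 0, 8⟩) (.one ⟨9630, 0, 4⟩)) (.node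 1 (.one ⟨3380, 0, 5⟩) (.one ⟨678, 1, 7⟩)))) (.node 4 (.node 2 (.node 1 (.one ⟨565, 1, 7⟩) (.one ⟨895, 1, 5⟩)) (.node 1 (.one ⟨289, 1, 2⟩) (.one ⟨2619, 2, 6⟩))) (.node 2 (.node 1 (.one ⟨1668, 2, 6⟩) (.one ⟨14534, 0, 3⟩)) (.node 1 (.one ⟨12820, 2, 6⟩) (.one ⟨7870, 2, 6⟩)))))) (.node 16 (.node 8 (.node 4 (.node 2 (.node 1 (.one ⟨9253, 1, 7⟩) (.one ⟨1020, 0, 8⟩)) (.node 1 (.one ⟨10989, 2, 5⟩) (.one ⟨3285, 1, 5⟩))) (.node 2 (.node 1 (.one ⟨9644, 2, 4⟩) (.one ⟨8438, 2, 9⟩)) (.node 1 (.one ⟨11778, 2, 7⟩) (.one ⟨14625, 0, 5⟩)))) (.node 4 (.node 2 (.node 1 (.one ⟨10108, 0, 7⟩) (.one ⟨1524, 1, 3⟩)) (.node 1 (.one ⟨3359, 2, 4⟩) (.one ⟨6509, 1, 6⟩))) (.node 2 (.node 1 (.one ⟨16329, 2, 3⟩) (.one ⟨10392, 1, 2⟩)) (.node 1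 (.one ⟨9616, 0, 1⟩) (.one ⟨3965, 2, 5⟩))))) (.node 8 (.node 4 (.node 2 (.node 1 (.one ⟨1201, 2, 4⟩) (.one ⟨12075, 2, 2⟩)) (.node 1 (.one ⟨9376, 2, 5⟩) (.one ⟨588, 2, 3⟩))) (.node 2 (.node 1 (.one ⟨3977, 2, 2⟩) (.one ⟨9494, 2, 4⟩)) (.node 1 (.one ⟨12603, 1, 4⟩) (.one ⟨14996, 2, 7⟩)))) (.node 4 (.node 2 (.node 1 (.one ⟨17039, 1, 6⟩) (.one ⟨13109, 1, 8⟩)) (.node 1 (.one ⟨10977, 2, 4⟩) (.one ⟨2180, 2, 3⟩))) (.node 2 (.node 1 (.one ⟨14617, 0, 3⟩) (.one ⟨15341, 0, 7⟩)) (.node 1 (.one ⟨16968, 1, 3⟩) (.one ⟨4153, 2, 7⟩)))))))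
def par7_6_7 : Arr Par :=
  (.node 32 (.node 16 (.node 8 (.node 4 (.node 2 (.node 1 (.one ⟨14292, 0, 6⟩) (.one ⟨12200, 0, 7⟩)) (.node 1 (.one ⟨14951, 1, 6⟩) (.one ⟨12858, 0, 6⟩))) (.node 2 (.node 1 (.one ⟨16618, 1, 6⟩) (.one ⟨9861, 1, 5⟩)) (.node 1 (.one ⟨10550, 1, 6⟩) (.one ⟨10876, 0, 4⟩)))) (.node 4 (.node 2 (.node 1 (.one ⟨534, 0, 9⟩) (.one ⟨5509, 1, 2⟩)) (.node 1 (.one ⟨4023, 1, 7⟩) (.one ⟨2056, 0, 4⟩))) (.node 2 (.node 1 (.one ⟨12343, 1, 7⟩) (.one ⟨123, 2, 5⟩)) (.node 1 (.one ⟨5981, 1, 9⟩) (.one ⟨1748, 2, 7⟩))))) (.node 8 (.node 4 (.node 2 (.node 1 (.one ⟨2571, 2, 5⟩) (.one ⟨2225, 2, 3⟩)) (.node 1 (.one ⟨2123, 2, 8⟩) (.one ⟨2727, 2, 4⟩))) (.node 2 (.node 1 (.one ⟨1484, 2, 5⟩) (.one ⟨1933, 2, 9⟩)) (.node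 1 (.one ⟨2385, 2, 7⟩) (.one ⟨3949, 0, 9⟩)))) (.node 4 (.node 2 (.node 1 (.one ⟨7125, 1, 9⟩) (.one ⟨9348, 1, 3⟩)) (.node 1 (.one ⟨7763, 2, 7⟩) (.one ⟨10000, 1, 7⟩))) (.node 2 (.node 1 (.one ⟨15738, 2, 5⟩) (.one ⟨7610, 1, 4⟩)) (.node 1 (.one ⟨7570, 1, 7⟩) (.one ⟨3975, 2, 2⟩)))))) (.node 16 (.node 8 (.node 4 (.node 2 (.node 1 (.one ⟨5382, 0, 5⟩) (.one ⟨16925, 2, 4⟩)) (.node 1 (.one ⟨596, 2, 4⟩) (.one ⟨5339, 2, 6⟩))) (.node 2 (.node 1 (.one ⟨14671, 1, 9⟩) (.one ⟨13283, 0, 3⟩)) (.node 1 (.one ⟨4832, 1, 4⟩) (.one ⟨6806, 0, 1⟩)))) (.node 4 (.node 2 (.node 1 (.one ⟨17175, 2, 3⟩) (.one ⟨14764, 2, 9⟩)) (.node 1 (.one ⟨3758, 2, 5⟩) (.one ⟨12331, 2, 5⟩))) (.node 2 (.node 1 (.one ⟨7198, 2, 9⟩) (.one ⟨16675, 1, 5⟩)) (.node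 1 (.one ⟨3765, 0, 2⟩) (.one ⟨6810, 2, 2⟩))))) (.node 8 (.node 4 (.node 2 (.node 1 (.one ⟨6766, 2, 2⟩) (.one ⟨5670, 1, 7⟩)) (.node 1 (.one ⟨7130, 1, 4⟩) (.one ⟨1208, 2, 4⟩))) (.node 2 (.node 1 (.one ⟨1563, 2, 6⟩) (.one ⟨9197, 2, 3⟩)) (.node 1 (.one ⟨5501, 1, 5⟩) (.one ⟨12448, 1, 7⟩)))) (.node 4 (.node 2 (.node 1 (.one ⟨15893, 1, 4⟩) (.one ⟨16666, 1, 7⟩)) (.node 1 (.one ⟨15890, 2, 8⟩) (.one ⟨5497, 1, 2⟩))) (.node 2 (.node 1 (.one ⟨8374, 1, 9⟩) (.one ⟨7993, 1, 1⟩)) (.node 1 (.one ⟨3963, 1, 7⟩) (.one ⟨2550, 2, 5⟩)))))))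
def par7_6_8 : Arr Par :=
  (.node 32 (.node 16 (.node 8 (.node 4 (.node 2 (.node 1 (.one ⟨1308, 2, 4⟩) (.one ⟨11660, 1, 5⟩)) (.node 1 (.one ⟨11692, 1, 8⟩) (.one ⟨3574, 1, 5⟩))) (.node 2 (.node 1 (.one ⟨3606, 1, 6⟩) (.one ⟨10487, 2, 6⟩)) (.node 1 (.one ⟨4877, 1, 7⟩) (.one ⟨15126, 2, 9⟩)))) (.node 4 (.node 2 (.node 1 (.one ⟨7253, 1, 7⟩) (.one ⟨5459, 0, 6⟩)) (.node 1 (.one ⟨5889, 1, 6⟩) (.one ⟨9551, 1, 6⟩))) (.node 2 (.node 1 (.one ⟨12532, 1, 7⟩) (.one ⟨656, 0, 1⟩)) (.node 1 (.one ⟨10839, 0, 5⟩) (.one ⟨2228, 2, 5⟩))))) (.node 8 (.node 4 (.node 2 (.node 1 (.one ⟨13724, 2, 7⟩) (.one ⟨6372, 2, 3⟩)) (.node 1 (.one ⟨9861, 2, 5⟩) (.one ⟨13996, 2, 8⟩))) (.node 2 (.node 1 (.one ⟨10483, 0, 4⟩) (.one ⟨9676, 2, 7⟩)) (.node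 1 (.one ⟨6257, 2, 6⟩) (.one ⟨10131, 1, 4⟩)))) (.node 4 (.node 2 (.node 1 (.one ⟨5437, 0, 4⟩) (.one ⟨14011, 1, 8⟩)) (.node 1 (.one ⟨5502, 1, 9⟩) (.one ⟨508, 0, 6⟩))) (.node 2 (.node 1 (.one ⟨1684, 2, 3⟩) (.one ⟨10842, 2, 4⟩)) (.node 1 (.one ⟨16958, 1, 6⟩) (.one ⟨8639, 1, 5⟩)))))) (.node 16 (.node 8 (.node 4 (.node 2 (.node 1 (.one ⟨3153, 2, 4⟩) (.one ⟨16010, 2, 8⟩)) (.node 1 (.one ⟨6049, 2, 7⟩) (.one ⟨15886, 1, 8⟩))) (.node 2 (.node 1 (.one ⟨7441, 2, 3⟩) (.one ⟨8265, 1, 8⟩)) (.node 1 (.one ⟨7044, 1, 7⟩) (.one ⟨13240, 1, 8⟩)))) (.node 4 (.node 2 (.node 1 (.one ⟨1275, 1, 4⟩) (.one ⟨7294, 0, 7⟩)) (.node 1 (.one ⟨2043, 1, 4⟩) (.one ⟨11687, 1, 6⟩))) (.node 2 (.node 1 (.one ⟨3158, 1, 6⟩) (.one ⟨11761, 1, 4⟩)) (.node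 1 (.one ⟨10812, 2, 2⟩) (.one ⟨4352, 1, 10⟩))))) (.node 8 (.node 4 (.node 2 (.node 1 (.one ⟨9930, 1, 7⟩) (.one ⟨14819, 2, 4⟩)) (.node 1 (.one ⟨1437, 0, 6⟩) (.one ⟨12128, 1, 1⟩))) (.node 2 (.node 1 (.one ⟨1752, 1, 4⟩) (.one ⟨9016, 0, 6⟩)) (.node 1 (.one ⟨16152, 2, 3⟩) (.one ⟨10976, 2, 5⟩)))) (.node 4 (.node 2 (.node 1 (.one ⟨2925, 2, 3⟩) (.one ⟨4866, 1, 0⟩)) (.node 1 (.one ⟨7875, 0, 9⟩) (.one ⟨1004, 0, 3⟩))) (.node 2 (.node 1 (.one ⟨9450, 2, 6⟩) (.one ⟨10959, 2, 7⟩)) (.node 1 (.one ⟨2909, 2, 8⟩) (.one ⟨2145, 1, 8⟩)))))))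
def par7_6_9 : Arr Par :=
  (.node 32 (.node 16 (.node 8 (.node 4 (.node 2 (.node 1 (.one ⟨8053, 1, 7⟩) (.one ⟨3762, 0, 3⟩)) (.node 1 (.one ⟨4739, 1, 5⟩) (.one ⟨4541, 1, 6⟩))) (.node 2 (.node 1 (.one ⟨6600, 1, 10⟩) (.one ⟨10100, 2, 5⟩)) (.node 1 (.one ⟨1968, 1, 7⟩) (.one ⟨16831, 0, 3⟩)))) (.node 4 (.node 2 (.node 1 (.one ⟨14161, 1, 5⟩) (.one ⟨11418, 0, 4⟩)) (.node 1 (.one ⟨9363, 0, 4⟩) (.one ⟨5602, 1, 7⟩))) (.node 2 (.node 1 (.one ⟨4331, 1, 7⟩) (.one ⟨469, 0, 4⟩)) (.node 1 (.one ⟨8337, 1, 10⟩) (.one ⟨14239, 1, 7⟩))))) (.node 8 (.node 4 (.node 2 (.node 1 (.one ⟨13881, 2, 4⟩) (.one ⟨14131, 2, 5⟩)) (.node 1 (.one ⟨9360, 0, 4⟩) (.one ⟨15399, 0, 4⟩))) (.node 2 (.node 1 (.one ⟨8275, 1, 3⟩) (.one ⟨1912, 2, 6⟩)) (.node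 1 (.one ⟨8255, 1, 9⟩) (.one ⟨9523, 0, 5⟩)))) (.node 4 (.node 2 (.node 1 (.one ⟨7467, 1, 6⟩) (.one ⟨11112, 1, 4⟩)) (.node 1 (.one ⟨12542, 1, 2⟩) (.one ⟨11581, 2, 7⟩))) (.node 2 (.node 1 (.one ⟨16658, 1, 4⟩) (.one ⟨3840, 0, 9⟩)) (.node 1 (.one ⟨332, 1, 8⟩) (.one ⟨11580, 2, 8⟩)))))) (.node 16 (.node 8 (.node 4 (.node 2 (.node 1 (.one ⟨15907, 0, 4⟩) (.one ⟨5267, 2, 8⟩)) (.node 1 (.one ⟨3221, 1, 5⟩) (.one ⟨525, 1, 3⟩))) (.node 2 (.node 1 (.one ⟨853, 1, 2⟩) (.one ⟨246, 1, 4⟩)) (.node 1 (.one ⟨633, 1, 2⟩) (.one ⟨12156, 2, 6⟩)))) (.node 4 (.node 2 (.node 1 (.one ⟨10465, 1, 1⟩) (.one ⟨6716, 0, 7⟩)) (.node 1 (.one ⟨10555, 2, 3⟩) (.one ⟨16606, 0, 7⟩))) (.node 2 (.node 1 (.one ⟨10776, 0, 7⟩) (.one ⟨8951, 0, 5⟩)) (.node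 1 (.one ⟨1428, 0, 1⟩) (.one ⟨355, 2, 8⟩))))) (.node 8 (.node 4 (.node 2 (.node 1 (.one ⟨235, 2, 8⟩) (.one ⟨9530, 0, 7⟩)) (.node 1 (.one ⟨150, 2, 8⟩) (.one ⟨623, 2, 5⟩))) (.node 2 (.node 1 (.one ⟨1012, 2, 8⟩) (.one ⟨3634, 1, 3⟩)) (.node 1 (.one ⟨937, 2, 7⟩) (.one ⟨2817, 1, 6⟩)))) (.node 4 (.node 2 (.node 1 (.one ⟨15817, 0, 5⟩) (.one ⟨7492, 2, 4⟩)) (.node 1 (.one ⟨4397, 1, 4⟩) (.one ⟨15935, 2, 7⟩))) (.node 2 (.node 1 (.one ⟨16013, 1, 7⟩) (.one ⟨7673, 2, 7⟩)) (.node 1 (.one ⟨8823, 0, 3⟩) (.one ⟨12802, 2, 4⟩)))))))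
def par7_6_10 : Arr Par :=
  (.node 32 (.node 16 (.node 8 (.node 4 (.node 2 (.node 1 (.one ⟨7492, 1, 4⟩) (.one ⟨13170, 2, 3⟩)) (.node 1 (.one ⟨3713, 2, 6⟩) (.one ⟨3093, 2, 7⟩))) (.node 2 (.node 1 (.one ⟨12264, 1, 4⟩) (.one ⟨3419, 2, 3⟩)) (.node 1 (.one ⟨9837, 2, 4⟩) (.one ⟨6996, 2, 7⟩)))) (.node 4 (.node 2 (.node 1 (.one ⟨7738, 0, 2⟩) (.one ⟨15797, 0, 4⟩)) (.node 1 (.one ⟨14019, 2, 8⟩) (.one ⟨10282, 0, 5⟩))) (.node 2 (.node 1 (.one ⟨2741, 1, 3⟩) (.one ⟨1844, 1, 3⟩)) (.node 1 (.one ⟨2213, 0, 5⟩) (.one ⟨10197, 2, 5⟩))))) (.node 8 (.node 4 (.node 2 (.node 1 (.one ⟨7165, 2, 5⟩) (.one ⟨895, 0, 5⟩)) (.node 1 (.one ⟨533, 1, 5⟩) (.one ⟨16374, 1, 2⟩))) (.node 2 (.node 1 (.one ⟨10779, 1, 6⟩) (.one ⟨6807, 1, 4⟩)) (.node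 1 (.one ⟨5387, 1, 0⟩) (.one ⟨2396, 2, 3⟩)))) (.node 4 (.node 2 (.node 1 (.one ⟨2391, 2, 4⟩) (.one ⟨2397, 2, 3⟩)) (.node 1 (.one ⟨1427, 0, 1⟩) (.one ⟨2398, 2, 9⟩))) (.node 2 (.node 1 (.one ⟨2393, 2, 4⟩) (.one ⟨10600, 1, 4⟩)) (.node 1 (.one ⟨2392, 2, 4⟩) (.one ⟨5408, 1, 4⟩)))))) (.node 16 (.node 8 (.node 4 (.node 2 (.node 1 (.one ⟨7775, 0, 7⟩) (.one ⟨8179, 1, 5⟩)) (.node 1 (.one ⟨9359, 0, 7⟩) (.one ⟨13270, 0, 7⟩))) (.node 2 (.node 1 (.one ⟨16079, 1, 6⟩) (.one ⟨8423, 1, 7⟩)) (.node 1 (.one ⟨3925, 1, 0⟩) (.one ⟨9347, 1, 3⟩)))) (.node 4 (.node 2 (.node 1 (.one ⟨13425, 1, 6⟩) (.one ⟨9983, 1, 2⟩)) (.node 1 (.one ⟨13138, 1, 5⟩) (.one ⟨3546, 0, 4⟩))) (.node 2 (.node 1 (.one ⟨5102, 1, 7⟩) (.one ⟨284, 1, 9⟩)) (.node 1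 (.one ⟨16472, 2, 7⟩) (.one ⟨11283, 2, 4⟩))))) (.node 8 (.node 4 (.node 2 (.node 1 (.one ⟨17016, 2, 2⟩) (.one ⟨598, 1, 3⟩)) (.node 1 (.one ⟨13077, 0, 7⟩) (.one ⟨1604, 1, 3⟩))) (.node 2 (.node 1 (.one ⟨2830, 0, 4⟩) (.one ⟨16384, 2, 8⟩)) (.node 1 (.one ⟨10795, 2, 2⟩) (.one ⟨3894, 1, 2⟩)))) (.node 4 (.node 2 (.node 1 (.one ⟨4789, 0, 6⟩) (.one ⟨10540, 0, 6⟩)) (.node 1 (.one ⟨9197, 1, 3⟩) (.one ⟨1859, 2, 6⟩))) (.node 2 (.node 1 (.one ⟨576, 2, 5⟩) (.one ⟨2900, 0, 4⟩)) (.node 1 (.one ⟨8211, 1, 4⟩) (.one ⟨7983, 1, 4⟩)))))))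
def par7_6_11 : Arr Par :=
  (.node 32 (.node 16 (.node 8 (.node 4 (.node 2 (.node 1 (.one ⟨5689, 2, 8⟩) (.one ⟨12074, 0, 5⟩)) (.node 1 (.one ⟨4308, 1, 5⟩) (.one ⟨2689, 0, 4⟩))) (.node 2 (.node 1 (.one ⟨13372, 2, 3⟩) (.one ⟨16223, 0, 7⟩)) (.node 1 (.one ⟨6114, 2, 8⟩) (.one ⟨16199, 0, 4⟩)))) (.node 4 (.node 2 (.node 1 (.one ⟨16177, 1, 2⟩) (.one ⟨2727, 0, 4⟩)) (.node 1 (.one ⟨145, 0, 9⟩) (.one ⟨5903, 1, 2⟩))) (.node 2 (.node 1 (.one ⟨1073, 2, 7⟩) (.one ⟨14567, 0, 6⟩)) (.node 1 (.one ⟨12048, 1, 5⟩) (.one ⟨8276, 2, 4⟩))))) (.node 8 (.node 4 (.node 2 (.node 1 (.one ⟨12287, 2, 4⟩) (.one ⟨14426, 2, 4⟩)) (.node 1 (.one ⟨2422, 2, 6⟩) (.one ⟨2987, 0, 5⟩))) (.node 2 (.node 1 (.one ⟨13918, 2, 7⟩) (.one ⟨11777, 2, 5⟩))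 (.node 1 (.one ⟨7330, 0, 4⟩) (.one ⟨14785, 2, 4⟩)))) (.node 4 (.node 2 (.node 1 (.one ⟨3675, 2, 9⟩) (.one ⟨3517, 1, 3⟩)) (.node 1 (.one ⟨8375, 2, 7⟩) (.one ⟨14228, 1, 7⟩))) (.node 2 (.node 1 (.one ⟨4143, 1, 0⟩) (.one ⟨12820, 1, 6⟩)) (.node 1 (.one ⟨2830, 1, 4⟩) (.one ⟨8219, 2, 7⟩)))))) (.node 16 (.node 8 (.node 4 (.node 2 (.node 1 (.one ⟨13063, 1, 7⟩) (.one ⟨1271, 1, 3⟩)) (.node 1 (.one ⟨3570, 1, 8⟩) (.one ⟨5328, 1, 3⟩))) (.node 2 (.node 1 (.one ⟨655, 0, 5⟩) (.one ⟨17131, 0, 3⟩)) (.node 1 (.one ⟨10304, 1, 7⟩) (.one ⟨7930, 1, 6⟩)))) (.node 4 (.node 2 (.node 1 (.one ⟨93, 2, 7⟩) (.one ⟨10030, 1, 4⟩)) (.node 1 (.one ⟨14230, 2, 6⟩) (.one ⟨11890, 2, 6⟩))) (.node 2 (.node 1 (.one ⟨1879, 2, 6⟩) (.one ⟨7671, 2, 4⟩))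 (.node 1 (.one ⟨12995, 1, 7⟩) (.one ⟨8420, 0, 9⟩))))) (.node 8 (.node 4 (.node 2 (.node 1 (.one ⟨532, 1, 6⟩) (.one ⟨9469, 1, 2⟩)) (.node 1 (.one ⟨12966, 0, 6⟩) (.one ⟨4941, 1, 1⟩))) (.node 2 (.node 1 (.one ⟨12310, 1, 7⟩) (.one ⟨16844, 0, 9⟩)) (.node 1 (.one ⟨11358, 0, 5⟩) (.one ⟨8475, 1, 10⟩)))) (.node 4 (.node 2 (.node 1 (.one ⟨2446, 2, 4⟩) (.one ⟨16162, 1, 7⟩)) (.node 1 (.one ⟨15370, 0, 3⟩) (.one ⟨11836, 1, 8⟩))) (.node 2 (.node 1 (.one ⟨5672, 1, 7⟩) (.one ⟨14753, 0, 5⟩)) (.node 1 (.one ⟨2489, 2, 6⟩) (.one ⟨8759, 1, 7⟩)))))))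
def par7_6_12 : Arr Par :=
  (.node 32 (.node 16 (.node 8 (.node 4 (.node 2 (.node 1 (.one ⟨16020, 0, 4⟩) (.one ⟨11569, 1, 2⟩)) (.node 1 (.one ⟨2762, 2, 4⟩) (.one ⟨11841, 2, 4⟩))) (.node 2 (.node 1 (.one ⟨7360, 1, 6⟩) (.one ⟨998, 2, 6⟩)) (.node 1 (.one ⟨13188, 2, 2⟩) (.one ⟨286, 1, 4⟩)))) (.node 4 (.node 2 (.node 1 (.one ⟨6286, 2, 4⟩) (.one ⟨11216, 1, 6⟩)) (.node 1 (.one ⟨11051, 1, 10⟩) (.one ⟨6497, 2, 4⟩))) (.node 2 (.node 1 (.one ⟨7390, 0, 9⟩) (.one ⟨4852, 1, 2⟩)) (.node 1 (.one ⟨5091, 0, 9⟩) (.one ⟨4839, 1, 5⟩))))) (.node 8 (.node 4 (.node 2 (.node 1 (.one ⟨14662, 0, 7⟩) (.one ⟨113, 2, 6⟩)) (.node 1 (.one ⟨1735, 1, 7⟩) (.one ⟨8416, 2, 8⟩))) (.node 2 (.node 1 (.one ⟨2567, 1, 3⟩) (.one ⟨5303, 1, 5⟩)) (.node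 1 (.one ⟨15606, 1, 6⟩) (.one ⟨14617, 1, 3⟩)))) (.node 4 (.node 2 (.node 1 (.one ⟨15821, 1, 10⟩) (.one ⟨7317, 1, 4⟩)) (.node 1 (.one ⟨8642, 1, 4⟩) (.one ⟨9552, 1, 3⟩))) (.node 2 (.node 1 (.one ⟨12548, 1, 5⟩) (.one ⟨13217, 2, 5⟩)) (.node 1 (.one ⟨6251, 2, 7⟩) (.one ⟨8602, 2, 2⟩)))))) (.node 16 (.node 8 (.node 4 (.node 2 (.node 1 (.one ⟨2210, 1, 6⟩) (.one ⟨11569, 2, 2⟩)) (.node 1 (.one ⟨2667, 2, 5⟩) (.one ⟨11946, 0, 4⟩))) (.node 2 (.node 1 (.one ⟨15083, 2, 2⟩) (.one ⟨12511, 0, 4⟩)) (.node 1 (.one ⟨1018, 2, 2⟩) (.one ⟨16879, 1, 8⟩)))) (.node 4 (.node 2 (.node 1 (.one ⟨2727, 1, 4⟩) (.one ⟨16409, 1, 3⟩)) (.node 1 (.one ⟨3346, 1, 5⟩) (.one ⟨5088, 2, 8⟩))) (.node 2 (.node 1 (.one ⟨15845, 1, 7⟩) (.one ⟨1144, 1, 5⟩))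 (.node 1 (.one ⟨16767, 1, 7⟩) (.one ⟨1211, 2, 6⟩))))) (.node 8 (.node 4 (.node 2 (.node 1 (.one ⟨1560, 2, 8⟩) (.one ⟨11285, 2, 7⟩)) (.node 1 (.one ⟨4361, 0, 5⟩) (.one ⟨13642, 1, 8⟩))) (.node 2 (.node 1 (.one ⟨3186, 2, 4⟩) (.one ⟨9307, 2, 4⟩)) (.node 1 (.one ⟨9498, 2, 7⟩) (.one ⟨16512, 2, 8⟩)))) (.node 4 (.node 2 (.node 1 (.one ⟨10786, 0, 8⟩) (.one ⟨3925, 2, 7⟩)) (.node 1 (.one ⟨5201, 2, 7⟩) (.one ⟨61, 2, 6⟩))) (.node 2 (.node 1 (.one ⟨2853, 2, 7⟩) (.one ⟨2399, 1, 6⟩)) (.node 1 (.one ⟨16203, 1, 9⟩) (.one ⟨14139, 2, 8⟩)))))))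
def par7_6_13 : Arr Par :=
  (.node 32 (.node 16 (.node 8 (.node 4 (.node 2 (.node 1 (.one ⟨1936, 2, 5⟩) (.one ⟨9693, 2, 9⟩)) (.node 1 (.one ⟨5787, 2, 8⟩) (.one ⟨6151, 2, 3⟩))) (.node 2 (.node 1 (.one ⟨9964, 2, 5⟩) (.one ⟨359, 2, 7⟩)) (.node 1 (.one ⟨13950, 2, 4⟩) (.one ⟨15525, 0, 5⟩)))) (.node 4 (.node 2 (.node 1 (.one ⟨5107, 1, 4⟩) (.one ⟨3782, 1, 7⟩)) (.node 1 (.one ⟨308, 1, 3⟩) (.one ⟨4464, 1, 4⟩))) (.node 2 (.node 1 (.one ⟨8109, 2, 6⟩) (.one ⟨12823, 0, 8⟩)) (.node 1 (.one ⟨6374, 2, 5⟩) (.one ⟨5029, 0, 6⟩))))) (.node 8 (.node 4 (.node 2 (.node 1 (.one ⟨13590, 0, 8⟩) (.one ⟨4972, 1, 6⟩)) (.node 1 (.one ⟨5284, 1, 6⟩) (.one ⟨1146, 1, 6⟩))) (.node 2 (.node 1 (.one ⟨2681, 1, 6⟩) (.one ⟨8338, 1, 6⟩)) (.node 1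 (.one ⟨7794, 1, 10⟩) (.one ⟨6529, 1, 7⟩)))) (.node 4 (.node 2 (.node 1 (.one ⟨1619, 1, 5⟩) (.one ⟨16640, 1, 4⟩)) (.node 1 (.one ⟨13148, 1, 5⟩) (.one ⟨5820, 2, 7⟩))) (.node 2 (.node 1 (.one ⟨13987, 0, 8⟩) (.one ⟨5908, 2, 7⟩)) (.node 1 (.one ⟨16924, 2, 5⟩) (.one ⟨10961, 0, 2⟩)))))) (.node 16 (.node 8 (.node 4 (.node 2 (.node 1 (.one ⟨5776, 0, 1⟩) (.one ⟨4874, 2, 4⟩)) (.node 1 (.one ⟨14487, 2, 7⟩) (.one ⟨8786, 1, 5⟩))) (.node 2 (.node 1 (.one ⟨3161, 1, 7⟩) (.one ⟨6954, 2, 6⟩)) (.node 1 (.one ⟨7655, 1, 7⟩) (.one ⟨6121, 2, 4⟩)))) (.node 4 (.node 2 (.node 1 (.one ⟨13192, 1, 5⟩) (.one ⟨5152, 1, 5⟩)) (.node 1 (.one ⟨5119, 1, 5⟩) (.one ⟨13213, 1, 5⟩))) (.node 2 (.node 1 (.one ⟨13179, 1, 5⟩) (.one ⟨5135, 1, 5⟩)) (.node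 1 (.one ⟨5108, 1, 5⟩) (.one ⟨12128, 0, 1⟩))))) (.node 8 (.node 4 (.node 2 (.node 1 (.one ⟨7808, 2, 5⟩) (.one ⟨9302, 2, 3⟩)) (.node 1 (.one ⟨13303, 1, 7⟩) (.one ⟨4790, 1, 7⟩))) (.node 2 (.node 1 (.one ⟨7845, 2, 2⟩) (.one ⟨9185, 2, 5⟩)) (.node 1 (.one ⟨11795, 1, 4⟩) (.one ⟨10403, 2, 4⟩)))) (.node 4 (.node 2 (.node 1 (.one ⟨3488, 1, 4⟩) (.one ⟨5650, 1, 5⟩)) (.node 1 (.one ⟨2420, 0, 1⟩) (.one ⟨2734, 2, 7⟩))) (.node 2 (.node 1 (.one ⟨4525, 1, 5⟩) (.one ⟨8463, 1, 4⟩)) (.node 1 (.one ⟨7349, 2, 8⟩) (.one ⟨12511, 1, 4⟩)))))))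
def par7_6_14 : Arr Par :=
  (.node 32 (.node 16 (.node 8 (.node 4 (.node 2 (.node 1 (.one ⟨15879, 2, 5⟩) (.one ⟨2018, 1, 7⟩)) (.node 1 (.one ⟨11399, 2, 6⟩) (.one ⟨6772, 1, 9⟩))) (.node 2 (.node 1 (.one ⟨8929, 0, 6⟩) (.one ⟨8601, 0, 8⟩)) (.node 1 (.one ⟨6981, 0, 8⟩) (.one ⟨2141, 2, 4⟩)))) (.node 4 (.node 2 (.node 1 (.one ⟨5563, 2, 6⟩) (.one ⟨2215, 2, 4⟩)) (.node 1 (.one ⟨5585, 2, 5⟩) (.one ⟨129, 2, 6⟩))) (.node 2 (.node 1 (.one ⟨6156, 2, 3⟩) (.one ⟨1414, 2, 5⟩)) (.node 1 (.one ⟨6179, 2, 9⟩) (.one ⟨2133, 0, 4⟩))))) (.node 8 (.node 4 (.node 2 (.node 1 (.one ⟨1030, 0, 9⟩) (.one ⟨10111, 1, 7⟩)) (.node 1 (.one ⟨13188, 1, 2⟩) (.one ⟨7071, 0, 5⟩))) (.node 2 (.node 1 (.one ⟨6608, 0, 6⟩) (.one ⟨9915, 1, 4⟩)) (.node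 1 (.one ⟨5716, 2, 6⟩) (.one ⟨3372, 2, 4⟩)))) (.node 4 (.node 2 (.node 1 (.one ⟨16817, 1, 8⟩) (.one ⟨5902, 1, 4⟩)) (.node 1 (.one ⟨11814, 1, 4⟩) (.one ⟨8959, 2, 6⟩))) (.node 2 (.node 1 (.one ⟨16106, 1, 6⟩) (.one ⟨7565, 1, 2⟩)) (.node 1 (.one ⟨14754, 0, 4⟩) (.one ⟨15391, 2, 4⟩)))))) (.node 16 (.node 8 (.node 4 (.node 2 (.node 1 (.one ⟨11087, 2, 6⟩) (.one ⟨16092, 1, 5⟩)) (.node 1 (.one ⟨2764, 0, 7⟩) (.one ⟨3120, 0, 4⟩))) (.node 2 (.node 1 (.one ⟨7166, 1, 4⟩) (.one ⟨11090, 2, 8⟩)) (.node 1 (.one ⟨15394, 2, 9⟩) (.one ⟨4852, 0, 2⟩)))) (.node 4 (.node 2 (.node 1 (.one ⟨4464, 2, 4⟩) (.one ⟨10521, 2, 8⟩)) (.node 1 (.one ⟨12179, 1, 8⟩) (.one ⟨13212, 1, 3⟩))) (.node 2 (.node 1 (.one ⟨2301, 2, 4⟩) (.one ⟨13605, 1, 4⟩))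 (.node 1 (.one ⟨1834, 2, 9⟩) (.one ⟨829, 2, 5⟩))))) (.node 8 (.node 4 (.node 2 (.node 1 (.one ⟨8576, 1, 5⟩) (.one ⟨6557, 1, 4⟩)) (.node 1 (.one ⟨15818, 0, 5⟩) (.one ⟨14324, 0, 4⟩))) (.node 2 (.node 1 (.one ⟨4490, 2, 6⟩) (.one ⟨1733, 2, 5⟩)) (.node 1 (.one ⟨784, 1, 3⟩) (.one ⟨4140, 1, 3⟩)))) (.node 4 (.node 2 (.node 1 (.one ⟨3418, 2, 5⟩) (.one ⟨1488, 1, 4⟩)) (.node 1 (.one ⟨17132, 2, 3⟩) (.one ⟨6815, 2, 5⟩))) (.node 2 (.node 1 (.one ⟨10537, 0, 9⟩) (.one ⟨7588, 1, 2⟩)) (.node 1 (.one ⟨7537, 1, 5⟩) (.one ⟨5262, 2, 5⟩)))))))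
def par7_6_15 : Arr Par :=
  (.node 32 (.node 16 (.node 8 (.node 4 (.node 2 (.node 1 (.one ⟨4414, 1, 2⟩) (.one ⟨3469, 1, 6⟩)) (.node 1 (.one ⟨11632, 2, 4⟩) (.one ⟨13043, 2, 5⟩))) (.node 2 (.node 1 (.one ⟨12540, 1, 7⟩) (.one ⟨11468, 1, 6⟩)) (.node 1 (.one ⟨9625, 1, 5⟩) (.one ⟨16833, 0, 7⟩)))) (.node 4 (.node 2 (.node 1 (.one ⟨2845, 0, 7⟩) (.one ⟨3289, 0, 5⟩)) (.node 1 (.one ⟨16543, 0, 5⟩) (.one ⟨16384, 1, 8⟩))) (.node 2 (.node 1 (.one ⟨12809, 1, 8⟩) (.one ⟨1703, 1, 8⟩)) (.node 1 (.one ⟨2345, 0, 7⟩) (.one ⟨5289, 1, 5⟩))))) (.node 8 (.node 4 (.node 2 (.node 1 (.one ⟨17129, 1, 7⟩) (.one ⟨6664, 2, 8⟩)) (.node 1 (.one ⟨5181, 2, 4⟩) (.one ⟨1410, 1, 3⟩))) (.node 2 (.node 1 (.one ⟨14233, 1, 8⟩) (.one ⟨9034, 2, 8⟩))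 (.node 1 (.one ⟨2996, 2, 6⟩) (.one ⟨3479, 2, 6⟩)))) (.node 4 (.node 2 (.node 1 (.one ⟨919, 0, 8⟩) (.one ⟨6395, 1, 5⟩)) (.node 1 (.one ⟨17138, 2, 3⟩) (.one ⟨7773, 2, 3⟩))) (.node 2 (.node 1 (.one ⟨4768, 1, 4⟩) (.one ⟨10913, 0, 4⟩)) (.node 1 (.one ⟨10380, 0, 2⟩) (.one ⟨14484, 2, 8⟩)))))) (.node 16 (.node 8 (.node 4 (.node 2 (.node 1 (.one ⟨9905, 2, 8⟩) (.one ⟨14486, 2, 8⟩)) (.node 1 (.one ⟨9903, 2, 5⟩) (.one ⟨9908, 2, 5⟩))) (.node 2 (.node 1 (.one ⟨14482, 2, 3⟩) (.one ⟨9910, 2, 7⟩)) (.node 1 (.one ⟨14480, 2, 5⟩) (.one ⟨10081, 1, 8⟩)))) (.node 4 (.node 2 (.node 1 (.one ⟨13582, 2, 3⟩) (.one ⟨753, 2, 3⟩)) (.node 1 (.one ⟨9131, 1, 8⟩) (.one ⟨1587, 1, 3⟩))) (.node 2 (.node 1 (.one ⟨8664, 1, 4⟩) (.one ⟨7098, 0, 4⟩))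 (.node 1 (.one ⟨16978, 1, 6⟩) (.one ⟨3461, 0, 9⟩))))) (.node 8 (.node 4 (.node 2 (.node 1 (.one ⟨559, 1, 8⟩) (.one ⟨3466, 1, 6⟩)) (.node 1 (.one ⟨9093, 0, 4⟩) (.one ⟨3809, 1, 5⟩))) (.node 2 (.node 1 (.one ⟨3454, 1, 8⟩) (.one ⟨1087, 2, 5⟩)) (.node 1 (.one ⟨5103, 1, 6⟩) (.one ⟨7936, 1, 5⟩)))) (.node 4 (.node 2 (.node 1 (.one ⟨13125, 1, 5⟩) (.one ⟨9185, 1, 5⟩)) (.node 1 (.one ⟨7590, 1, 6⟩) (.one ⟨11929, 1, 5⟩))) (.node 2 (.node 1 (.one ⟨7256, 0, 4⟩) (.one ⟨5853, 1, 4⟩)) (.node 1 (.one ⟨6746, 2, 3⟩) (.one ⟨7840, 2, 8⟩)))))))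
def par7_6 : Arr Par :=
  (.node 512 (.node 256 (.node 128 (.node 64 par7_6_0 par7_6_1) (.node 64 par7_6_2 par7_6_3)) (.node 128 (.node 64 par7_6_4 par7_6_5) (.node 64 par7_6_6 par7_6_7))) (.node 256 (.node 128 (.node 64 par7_6_8 par7_6_9) (.node 64 par7_6_10 par7_6_11)) (.node 128 (.node 64 par7_6_12 par7_6_13) (.node 64 par7_6_14 par7_6_15))))
def par7_7_0 : Arr Par :=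
  (.node 32 (.node 16 (.node 8 (.node 4 (.node 2 (.node 1 (.one ⟨15900, 1, 5⟩) (.one ⟨3467, 1, 5⟩)) (.node 1 (.one ⟨15922, 2, 4⟩) (.one ⟨13252, 0, 3⟩))) (.node 2 (.node 1 (.one ⟨10167, 2, 5⟩) (.one ⟨4514, 1, 7⟩)) (.node 1 (.one ⟨9995, 1, 7⟩) (.one ⟨15707, 1, 3⟩)))) (.node 4 (.node 2 (.node 1 (.one ⟨5133, 0, 4⟩) (.one ⟨9343, 1, 3⟩)) (.node 1 (.one ⟨7866, 2, 8⟩) (.one ⟨7650, 1, 8⟩))) (.node 2 (.node 1 (.one ⟨6807, 0, 4⟩) (.one ⟨7183, 2, 4⟩)) (.node 1 (.one ⟨14059, 2, 5⟩) (.one ⟨15332, 1, 3⟩))))) (.node 8 (.node 4 (.node 2 (.node 1 (.one ⟨7104, 2, 3⟩) (.one ⟨1088, 2, 6⟩)) (.node 1 (.one ⟨4198, 2, 5⟩) (.one ⟨8532, 2, 4⟩))) (.node 2 (.node 1 (.one ⟨7113, 2, 6⟩) (.one ⟨1774, 1, 3⟩)) (.node 1 (.one ⟨4200, 2, 4⟩) (.one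 ⟨15095, 1, 3⟩)))) (.node 4 (.node 2 (.node 1 (.one ⟨9855, 1, 5⟩) (.one ⟨3303, 0, 7⟩)) (.node 1 (.one ⟨3309, 0, 4⟩) (.one ⟨1171, 2, 7⟩))) (.node 2 (.node 1 (.one ⟨7322, 2, 5⟩) (.one ⟨7901, 1, 3⟩)) (.node 1 (.one ⟨3306, 0, 8⟩) (.one ⟨11970, 1, 10⟩)))))) (.node 16 (.node 8 (.node 4 (.node 2 (.node 1 (.one ⟨13869, 2, 5⟩) (.one ⟨1855, 1, 4⟩)) (.node 1 (.one ⟨1031, 0, 9⟩) (.one ⟨10020, 1, 5⟩))) (.node 2 (.node 1 (.one ⟨14909, 2, 7⟩) (.one ⟨15017, 2, 5⟩)) (.node 1 (.one ⟨9706, 1, 7⟩) (.one ⟨15544, 2, 9⟩)))) (.node 4 (.node 2 (.node 1 (.one ⟨8435, 1, 6⟩) (.one ⟨5711, 2, 8⟩)) (.node 1 (.one ⟨15975, 1, 7⟩) (.one ⟨3774, 1, 6⟩))) (.node 2 (.node 1 (.one ⟨1778, 0, 7⟩) (.one ⟨12889, 2, 4⟩)) (.node 1 (.one ⟨1976, 1, 2⟩) (.one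 ⟨11203, 1, 4⟩))))) (.node 8 (.node 4 (.node 2 (.node 1 (.one ⟨3145, 1, 6⟩) (.one ⟨11238, 1, 6⟩)) (.node 1 (.one ⟨3176, 1, 1⟩) (.one ⟨11189, 1, 8⟩))) (.node 2 (.node 1 (.one ⟨6259, 2, 6⟩) (.one ⟨11219, 1, 4⟩)) (.node 1 (.one ⟨3165, 1, 4⟩) (.one ⟨10694, 1, 8⟩)))) (.node 4 (.node 2 (.node 1 (.one ⟨14992, 1, 5⟩) (.one ⟨15565, 0, 2⟩)) (.node 1 (.one ⟨3534, 1, 8⟩) (.one ⟨7939, 2, 5⟩))) (.node 2 (.node 1 (.one ⟨13130, 2, 6⟩) (.one ⟨9878, 0, 7⟩)) (.node 1 (.one ⟨12807, 2, 4⟩) (.one ⟨11204, 1, 3⟩)))))))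
def par7_7_1 : Arr Par :=
  (.node 32 (.node 16 (.node 8 (.node 4 (.node 2 (.node 1 (.one ⟨16867, 1, 8⟩) (.one ⟨9468, 1, 1⟩)) (.node 1 (.one ⟨9815, 2, 5⟩) (.one ⟨15631, 0, 4⟩))) (.node 2 (.node 1 (.one ⟨7053, 0, 6⟩) (.one ⟨11322, 2, 4⟩)) (.node 1 (.one ⟨12212, 1, 4⟩) (.one ⟨2390, 1, 6⟩)))) (.node 4 (.node 2 (.node 1 (.one ⟨11274, 0, 4⟩) (.one ⟨12390, 2, 7⟩)) (.node 1 (.one ⟨2095, 1, 5⟩) (.one ⟨11221, 1, 6⟩))) (.node 2 (.node 1 (.one ⟨15468, 1, 5⟩) (.one ⟨15969, 2, 8⟩)) (.node 1 (.one ⟨4197, 0, 8⟩) (.one ⟨16267, 2, 4⟩))))) (.node 8 (.node 4 (.node 2 (.node 1 (.one ⟨13592, 1, 8⟩) (.one ⟨3515, 1, 3⟩)) (.node 1 (.one ⟨3801, 1, 8⟩) (.one ⟨2574, 2, 5⟩))) (.node 2 (.node 1 (.one ⟨12609, 1, 6⟩) (.one ⟨6884, 2, 6⟩))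 (.node 1 (.one ⟨15172, 0, 4⟩) (.one ⟨11589, 1, 6⟩)))) (.node 4 (.node 2 (.node 1 (.one ⟨160, 0, 3⟩) (.one ⟨12073, 2, 5⟩)) (.node 1 (.one ⟨4718, 2, 2⟩) (.one ⟨6925, 2, 3⟩))) (.node 2 (.node 1 (.one ⟨14537, 2, 4⟩) (.one ⟨7921, 2, 3⟩)) (.node 1 (.one ⟨15166, 0, 6⟩) (.one ⟨872, 2, 9⟩)))))) (.node 16 (.node 8 (.node 4 (.node 2 (.node 1 (.one ⟨14965, 0, 8⟩) (.one ⟨11333, 2, 5⟩)) (.node 1 (.one ⟨16331, 2, 5⟩) (.one ⟨6157, 2, 7⟩))) (.node 2 (.node 1 (.one ⟨2815, 1, 4⟩) (.one ⟨15617, 2, 5⟩)) (.node 1 (.one ⟨9098, 1, 6⟩) (.one ⟨2508, 2, 5⟩)))) (.node 4 (.node 2 (.node 1 (.one ⟨4975, 1, 6⟩) (.one ⟨13051, 1, 7⟩)) (.node 1 (.one ⟨11776, 1, 4⟩) (.one ⟨3709, 1, 4⟩))) (.node 2 (.node 1 (.one ⟨4994, 1, 9⟩) (.one ⟨13069, 1,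 8⟩)) (.node 1 (.one ⟨11759, 1, 7⟩) (.one ⟨9819, 1, 5⟩))))) (.node 8 (.node 4 (.node 2 (.node 1 (.one ⟨1822, 1, 5⟩) (.one ⟨8511, 2, 4⟩)) (.node 1 (.one ⟨11202, 1, 6⟩) (.one ⟨5675, 1, 5⟩))) (.node 2 (.node 1 (.one ⟨13670, 1, 8⟩) (.one ⟨15419, 1, 6⟩)) (.node 1 (.one ⟨2866, 2, 7⟩) (.one ⟨12480, 1, 6⟩)))) (.node 4 (.node 2 (.node 1 (.one ⟨9246, 2, 3⟩) (.one ⟨9351, 2, 6⟩)) (.node 1 (.one ⟨8692, 1, 6⟩) (.one ⟨4995, 0, 9⟩))) (.node 2 (.node 1 (.one ⟨15580, 2, 4⟩) (.one ⟨563, 1, 6⟩)) (.node 1 (.one ⟨9595, 2, 6⟩) (.one ⟨12953, 0, 6⟩)))))))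
def par7_7_2 : Arr Par :=
  (.node 32 (.node 16 (.node 8 (.node 4 (.node 2 (.node 1 (.one ⟨16452, 0, 4⟩) (.one ⟨14125, 0, 9⟩)) (.node 1 (.one ⟨10062, 0, 8⟩) (.one ⟨15126, 1, 9⟩))) (.node 2 (.node 1 (.one ⟨15345, 1, 5⟩) (.one ⟨3282, 0, 6⟩)) (.node 1 (.one ⟨11633, 1, 6⟩) (.one ⟨6884, 1, 6⟩)))) (.node 4 (.node 2 (.node 1 (.one ⟨17141, 2, 8⟩) (.one ⟨10289, 2, 6⟩)) (.node 1 (.one ⟨10709, 1, 6⟩) (.one ⟨13010, 0, 5⟩))) (.node 2 (.node 1 (.one ⟨12442, 2, 7⟩) (.one ⟨15261, 2, 3⟩)) (.node 1 (.one ⟨2227, 1, 5⟩) (.one ⟨15855, 2, 7⟩))))) (.node 8 (.node 4 (.node 2 (.node 1 (.one ⟨11127, 2, 4⟩) (.one ⟨3704, 2, 7⟩)) (.node 1 (.one ⟨4661, 0, 5⟩) (.one ⟨16, 2, 3⟩))) (.node 2 (.node 1 (.one ⟨17084, 1, 4⟩) (.one ⟨14224, 2, 3⟩))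 (.node 1 (.one ⟨12944, 2, 4⟩) (.one ⟨14683, 2, 6⟩)))) (.node 4 (.node 2 (.node 1 (.one ⟨12704, 2, 6⟩) (.one ⟨10581, 2, 6⟩)) (.node 1 (.one ⟨12737, 0, 4⟩) (.one ⟨12412, 1, 6⟩))) (.node 2 (.node 1 (.one ⟨14114, 2, 4⟩) (.one ⟨16853, 2, 6⟩)) (.node 1 (.one ⟨2075, 0, 7⟩) (.one ⟨16125, 1, 5⟩)))))) (.node 16 (.node 8 (.node 4 (.node 2 (.node 1 (.one ⟨4184, 0, 7⟩) (.one ⟨7580, 0, 9⟩)) (.node 1 (.one ⟨4437, 2, 3⟩) (.one ⟨686, 0, 5⟩))) (.node 2 (.node 1 (.one ⟨13799, 2, 2⟩) (.one ⟨16538, 1, 4⟩)) (.node 1 (.one ⟨8487, 0, 2⟩) (.one ⟨9112, 1, 5⟩)))) (.node 4 (.node 2 (.node 1 (.one ⟨12945, 1, 8⟩) (.one ⟨13174, 2, 1⟩)) (.node 1 (.one ⟨14548, 2, 5⟩) (.one ⟨13149, 1, 6⟩))) (.node 2 (.node 1 (.one ⟨2844, 0, 9⟩) (.one ⟨4971,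 1, 8⟩)) (.node 1 (.one ⟨14592, 2, 3⟩) (.one ⟨13873, 1, 8⟩))))) (.node 8 (.node 4 (.node 2 (.node 1 (.one ⟨4297, 2, 7⟩) (.one ⟨16124, 1, 3⟩)) (.node 1 (.one ⟨2714, 1, 7⟩) (.one ⟨2942, 1, 8⟩))) (.node 2 (.node 1 (.one ⟨13759, 0, 5⟩) (.one ⟨4708, 1, 7⟩)) (.node 1 (.one ⟨12469, 2, 5⟩) (.one ⟨14130, 1, 8⟩)))) (.node 4 (.node 2 (.node 1 (.one ⟨1113, 1, 5⟩) (.one ⟨5585, 1, 5⟩)) (.node 1 (.one ⟨6546, 2, 7⟩) (.one ⟨17070, 1, 5⟩))) (.node 2 (.node 1 (.one ⟨5395, 1, 2⟩) (.one ⟨9100, 1, 6⟩)) (.node 1 (.one ⟨13270, 1, 7⟩) (.one ⟨1921, 2, 1⟩)))))))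
def par7_7_3 : Arr Par :=
  (.node 32 (.node 16 (.node 8 (.node 4 (.node 2 (.node 1 (.one ⟨922, 0, 5⟩) (.one ⟨7604, 2, 6⟩)) (.node 1 (.one ⟨3907, 1, 1⟩) (.one ⟨9588, 0, 6⟩))) (.node 2 (.node 1 (.one ⟨14339, 2, 6⟩) (.one ⟨5842, 1, 8⟩)) (.node 1 (.one ⟨922, 1, 5⟩) (.one ⟨1312, 1, 2⟩)))) (.node 4 (.node 2 (.node 1 (.one ⟨14629, 2, 6⟩) (.one ⟨4733, 2, 8⟩)) (.node 1 (.one ⟨6181, 2, 8⟩) (.one ⟨17105, 2, 3⟩))) (.node 2 (.node 1 (.one ⟨8917, 0, 8⟩) (.one ⟨8657, 2, 8⟩)) (.node 1 (.one ⟨12628, 1, 3⟩) (.one ⟨12708, 1, 6⟩))))) (.node 8 (.node 4 (.node 2 (.node 1 (.one ⟨947, 2, 3⟩) (.one ⟨1079, 0, 3⟩)) (.node 1 (.one ⟨4318, 0, 5⟩) (.one ⟨11864, 2, 6⟩))) (.node 2 (.node 1 (.one ⟨10144, 1, 7⟩) (.one ⟨6801, 2, 6⟩)) (.node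 1 (.one ⟨12108, 0, 9⟩) (.one ⟨3691, 1, 8⟩)))) (.node 4 (.node 2 (.node 1 (.one ⟨9528, 1, 4⟩) (.one ⟨16885, 2, 8⟩)) (.node 1 (.one ⟨9589, 0, 7⟩) (.one ⟨8362, 2, 4⟩))) (.node 2 (.node 1 (.one ⟨11016, 2, 6⟩) (.one ⟨6288, 2, 8⟩)) (.node 1 (.one ⟨12627, 2, 8⟩) (.one ⟨9584, 0, 3⟩)))))) (.node 16 (.node 8 (.node 4 (.node 2 (.node 1 (.one ⟨11656, 2, 5⟩) (.one ⟨14639, 0, 1⟩)) (.node 1 (.one ⟨11979, 0, 4⟩) (.one ⟨3355, 2, 4⟩))) (.node 2 (.node 1 (.one ⟨8801, 0, 6⟩) (.one ⟨13227, 2, 4⟩)) (.node 1 (.one ⟨16498, 1, 3⟩) (.one ⟨6269, 0, 1⟩)))) (.node 4 (.node 2 (.node 1 (.one ⟨3301, 0, 5⟩) (.one ⟨13513, 0, 2⟩)) (.node 1 (.one ⟨16660, 2, 8⟩) (.one ⟨1955, 1, 8⟩))) (.node 2 (.node 1 (.one ⟨1077, 0, 6⟩) (.one ⟨16812, 2, 3⟩))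 (.node 1 (.one ⟨7555, 1, 4⟩) (.one ⟨1686, 2, 5⟩))))) (.node 8 (.node 4 (.node 2 (.node 1 (.one ⟨11983, 1, 9⟩) (.one ⟨8112, 0, 8⟩)) (.node 1 (.one ⟨14948, 1, 3⟩) (.one ⟨6559, 1, 7⟩))) (.node 2 (.node 1 (.one ⟨11279, 1, 3⟩) (.one ⟨4691, 1, 5⟩)) (.node 1 (.one ⟨5141, 2, 6⟩) (.one ⟨5772, 0, 8⟩)))) (.node 4 (.node 2 (.node 1 (.one ⟨15492, 2, 5⟩) (.one ⟨1617, 1, 6⟩)) (.node 1 (.one ⟨8303, 0, 6⟩) (.one ⟨15394, 1, 9⟩))) (.node 2 (.node 1 (.one ⟨15142, 1, 7⟩) (.one ⟨5888, 0, 7⟩)) (.node 1 (.one ⟨1239, 0, 6⟩) (.one ⟨8172, 0, 4⟩)))))))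
def par7_7_4 : Arr Par :=
  (.node 32 (.node 16 (.node 8 (.node 4 (.node 2 (.node 1 (.one ⟨144, 0, 5⟩) (.one ⟨14211, 2, 4⟩)) (.node 1 (.one ⟨8173, 0, 9⟩) (.one ⟨16406, 1, 8⟩))) (.node 2 (.node 1 (.one ⟨16415, 1, 5⟩) (.one ⟨8365, 1, 5⟩)) (.node 1 (.one ⟨479, 0, 7⟩) (.one ⟨9470, 1, 2⟩)))) (.node 4 (.node 2 (.node 1 (.one ⟨12243, 1, 3⟩) (.one ⟨15369, 2, 8⟩)) (.node 1 (.one ⟨4409, 0, 7⟩) (.one ⟨16834, 1, 3⟩))) (.node 2 (.node 1 (.one ⟨8430, 2, 9⟩) (.one ⟨13802, 0, 4⟩)) (.node 1 (.one ⟨4947, 1, 4⟩) (.one ⟨12533, 0, 5⟩))))) (.node 8 (.node 4 (.node 2 (.node 1 (.one ⟨7731, 1, 6⟩) (.one ⟨8865, 1, 2⟩)) (.node 1 (.one ⟨8735, 2, 4⟩) (.one ⟨3958, 0, 5⟩))) (.node 2 (.node 1 (.one ⟨11434, 1, 7⟩) (.one ⟨9156, 1, 2⟩)) (.node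 1 (.one ⟨11987, 0, 7⟩) (.one ⟨3023, 1, 3⟩)))) (.node 4 (.node 2 (.node 1 (.one ⟨138, 0, 5⟩) (.one ⟨11685, 2, 7⟩)) (.node 1 (.one ⟨8133, 0, 4⟩) (.one ⟨8851, 2, 3⟩))) (.node 2 (.node 1 (.one ⟨12401, 1, 8⟩) (.one ⟨9850, 2, 8⟩)) (.node 1 (.one ⟨16894, 1, 6⟩) (.one ⟨16117, 1, 6⟩)))))) (.node 16 (.node 8 (.node 4 (.node 2 (.node 1 (.one ⟨12087, 1, 5⟩) (.one ⟨2086, 2, 4⟩)) (.node 1 (.one ⟨16406, 0, 8⟩) (.one ⟨3263, 1, 7⟩))) (.node 2 (.node 1 (.one ⟨11667, 2, 4⟩) (.one ⟨17147, 1, 1⟩)) (.node 1 (.one ⟨1243, 0, 6⟩) (.one ⟨11933, 1, 6⟩)))) (.node 4 (.node 2 (.node 1 (.one ⟨11900, 1, 4⟩) (.one ⟨4077, 1, 0⟩)) (.node 1 (.one ⟨819, 1, 4⟩) (.one ⟨687, 0, 5⟩))) (.node 2 (.node 1 (.one ⟨10777, 1, 6⟩) (.one ⟨3977, 1, 2⟩)) (.node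 1 (.one ⟨1472, 2, 5⟩) (.one ⟨1358, 0, 5⟩))))) (.node 8 (.node 4 (.node 2 (.node 1 (.one ⟨6525, 1, 8⟩) (.one ⟨8834, 2, 3⟩)) (.node 1 (.one ⟨8230, 2, 3⟩) (.one ⟨12211, 0, 3⟩))) (.node 2 (.node 1 (.one ⟨2856, 2, 3⟩) (.one ⟨15961, 1, 4⟩)) (.node 1 (.one ⟨4314, 0, 5⟩) (.one ⟨10385, 1, 7⟩)))) (.node 4 (.node 2 (.node 1 (.one ⟨16254, 1, 8⟩) (.one ⟨15380, 2, 7⟩)) (.node 1 (.one ⟨16499, 1, 7⟩) (.one ⟨15531, 2, 4⟩))) (.node 2 (.node 1 (.one ⟨9251, 0, 2⟩) (.one ⟨12549, 0, 5⟩)) (.node 1 (.one ⟨416, 0, 7⟩) (.one ⟨4144, 1, 4⟩)))))))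
def par7_7_5 : Arr Par :=
  (.node 32 (.node 16 (.node 8 (.node 4 (.node 2 (.node 1 (.one ⟨11165, 2, 7⟩) (.one ⟨10025, 1, 8⟩)) (.node 1 (.one ⟨10841, 1, 6⟩) (.one ⟨11957, 1, 4⟩))) (.node 2 (.node 1 (.one ⟨1356, 0, 3⟩) (.one ⟨14251, 0, 3⟩)) (.node 1 (.one ⟨17104, 2, 7⟩) (.one ⟨4906, 1, 6⟩)))) (.node 4 (.node 2 (.node 1 (.one ⟨3068, 1, 9⟩) (.one ⟨4525, 0, 5⟩)) (.node 1 (.one ⟨1272, 1, 4⟩) (.one ⟨3422, 1, 3⟩))) (.node 2 (.node 1 (.one ⟨5180, 2, 4⟩) (.one ⟨10810, 2, 8⟩)) (.node 1 (.one ⟨4302, 1, 7⟩) (.one ⟨10221, 1, 6⟩))))) (.node 8 (.node 4 (.node 2 (.node 1 (.one ⟨4164, 1, 3⟩) (.one ⟨15003, 2, 8⟩)) (.node 1 (.one ⟨16253, 2, 9⟩) (.one ⟨16249, 1, 3⟩))) (.node 2 (.node 1 (.one ⟨5576, 1, 6⟩) (.one ⟨5544, 2, 2⟩))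 (.node 1 (.one ⟨14199, 1, 6⟩) (.one ⟨10722, 1, 2⟩)))) (.node 4 (.node 2 (.node 1 (.one ⟨16247, 1, 4⟩) (.one ⟨16257, 0, 4⟩)) (.node 1 (.one ⟨7965, 1, 5⟩) (.one ⟨14065, 0, 8⟩))) (.node 2 (.node 1 (.one ⟨4425, 0, 8⟩) (.one ⟨15016, 2, 8⟩)) (.node 1 (.one ⟨13457, 0, 8⟩) (.one ⟨11060, 1, 3⟩)))))) (.node 16 (.node 8 (.node 4 (.node 2 (.node 1 (.one ⟨2045, 1, 4⟩) (.one ⟨5226, 0, 3⟩)) (.node 1 (.one ⟨3063, 1, 6⟩) (.one ⟨4493, 0, 7⟩))) (.node 2 (.node 1 (.one ⟨11476, 0, 5⟩) (.one ⟨9254, 0, 6⟩)) (.node 1 (.one ⟨4771, 0, 4⟩) (.one ⟨14934, 2, 4⟩)))) (.node 4 (.node 2 (.node 1 (.one ⟨4672, 2, 8⟩) (.one ⟨15526, 0, 7⟩)) (.node 1 (.one ⟨6260, 1, 6⟩) (.one ⟨2822, 1, 3⟩))) (.node 2 (.node 1 (.one ⟨3618, 0, 4⟩) (.one ⟨1343, 0,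 6⟩)) (.node 1 (.one ⟨2834, 0, 4⟩) (.one ⟨13458, 1, 8⟩))))) (.node 8 (.node 4 (.node 2 (.node 1 (.one ⟨13318, 1, 4⟩) (.one ⟨1475, 0, 4⟩)) (.node 1 (.one ⟨12718, 2, 4⟩) (.one ⟨11159, 2, 2⟩))) (.node 2 (.node 1 (.one ⟨4604, 2, 6⟩) (.one ⟨3790, 2, 4⟩)) (.node 1 (.one ⟨4851, 0, 4⟩) (.one ⟨4443, 1, 6⟩)))) (.node 4 (.node 2 (.node 1 (.one ⟨9178, 0, 4⟩) (.one ⟨11980, 1, 6⟩)) (.node 1 (.one ⟨3938, 1, 6⟩) (.one ⟨10141, 1, 9⟩))) (.node 2 (.node 1 (.one ⟨9491, 2, 4⟩) (.one ⟨1067, 1, 7⟩)) (.node 1 (.one ⟨4348, 0, 5⟩) (.one ⟨10856, 1, 7⟩)))))))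
def par7_7_6 : Arr Par :=
  (.node 32 (.node 16 (.node 8 (.node 4 (.node 2 (.node 1 (.one ⟨3861, 1, 6⟩) (.one ⟨5744, 2, 5⟩)) (.node 1 (.one ⟨5553, 1, 5⟩) (.one ⟨13427, 0, 3⟩))) (.node 2 (.node 1 (.one ⟨6611, 0, 5⟩) (.one ⟨9179, 0, 6⟩)) (.node 1 (.one ⟨914, 2, 3⟩) (.one ⟨16255, 1, 7⟩)))) (.node 4 (.node 2 (.node 1 (.one ⟨2557, 2, 4⟩) (.one ⟨2551, 2, 3⟩)) (.node 1 (.one ⟨2305, 1, 6⟩) (.one ⟨2217, 1, 7⟩))) (.node 2 (.node 1 (.one ⟨4204, 0, 7⟩) (.one ⟨4131, 0, 1⟩)) (.node 1 (.one ⟨16016, 1, 2⟩) (.one ⟨9968, 2, 6⟩))))) (.node 8 (.node 4 (.node 2 (.node 1 (.one ⟨723, 1, 6⟩) (.one ⟨9596, 2, 3⟩)) (.node 1 (.one ⟨1322, 2, 6⟩) (.one ⟨11798, 0, 2⟩))) (.node 2 (.node 1 (.one ⟨9176, 0, 2⟩) (.one ⟨12556, 1, 8⟩)) (.node 1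 (.one ⟨12486, 1, 6⟩) (.one ⟨3997, 0, 6⟩)))) (.node 4 (.node 2 (.node 1 (.one ⟨6547, 2, 6⟩) (.one ⟨10500, 2, 4⟩)) (.node 1 (.one ⟨1472, 0, 5⟩) (.one ⟨2172, 2, 9⟩))) (.node 2 (.node 1 (.one ⟨7722, 2, 8⟩) (.one ⟨11921, 2, 4⟩)) (.node 1 (.one ⟨13657, 2, 4⟩) (.one ⟨11024, 1, 5⟩)))))) (.node 16 (.node 8 (.node 4 (.node 2 (.node 1 (.one ⟨10525, 2, 9⟩) (.one ⟨14760, 2, 4⟩)) (.node 1 (.one ⟨9098, 2, 6⟩) (.one ⟨12328, 2, 4⟩))) (.node 2 (.node 1 (.one ⟨12130, 0, 1⟩) (.one ⟨7428, 2, 6⟩)) (.node 1 (.one ⟨1481, 0, 5⟩) (.one ⟨14645, 0, 4⟩)))) (.node 4 (.node 2 (.node 1 (.one ⟨9181, 0, 1⟩) (.one ⟨13981, 1, 5⟩)) (.node 1 (.one ⟨5262, 1, 5⟩) (.one ⟨6129, 1, 3⟩))) (.node 2 (.node 1 (.one ⟨13413, 0, 6⟩) (.one ⟨1414, 1, 5⟩)) (.node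 1 (.one ⟨12467, 2, 4⟩) (.one ⟨14214, 1, 5⟩))))) (.node 8 (.node 4 (.node 2 (.node 1 (.one ⟨11175, 1, 6⟩) (.one ⟨7424, 1, 6⟩)) (.node 1 (.one ⟨2466, 1, 8⟩) (.one ⟨12684, 1, 5⟩))) (.node 2 (.node 1 (.one ⟨15733, 1, 5⟩) (.one ⟨4212, 1, 4⟩)) (.node 1 (.one ⟨9081, 1, 6⟩) (.one ⟨13978, 1, 6⟩)))) (.node 4 (.node 2 (.node 1 (.one ⟨1752, 2, 4⟩) (.one ⟨13601, 2, 5⟩)) (.node 1 (.one ⟨17080, 1, 3⟩) (.one ⟨58, 2, 7⟩))) (.node 2 (.node 1 (.one ⟨8927, 2, 4⟩) (.one ⟨14232, 1, 8⟩)) (.node 1 (.one ⟨8015, 1, 5⟩) (.one ⟨1911, 1, 5⟩)))))))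
def par7_7_7 : Arr Par :=
  (.node 32 (.node 16 (.node 8 (.node 4 (.node 2 (.node 1 (.one ⟨4929, 1, 9⟩) (.one ⟨1460, 1, 3⟩)) (.node 1 (.one ⟨4766, 1, 5⟩) (.one ⟨9906, 0, 5⟩))) (.node 2 (.node 1 (.one ⟨8135, 2, 4⟩) (.one ⟨9756, 1, 6⟩)) (.node 1 (.one ⟨8265, 2, 8⟩) (.one ⟨13573, 2, 5⟩)))) (.node 4 (.node 2 (.node 1 (.one ⟨8792, 0, 3⟩) (.one ⟨5574, 0, 7⟩)) (.node 1 (.one ⟨13059, 1, 2⟩) (.one ⟨12851, 2, 4⟩))) (.node 2 (.node 1 (.one ⟨11852, 2, 8⟩) (.one ⟨2015, 0, 3⟩)) (.node 1 (.one ⟨16453, 1, 5⟩) (.one ⟨874, 2, 5⟩))))) (.node 8 (.node 4 (.node 2 (.node 1 (.one ⟨523, 2, 8⟩) (.one ⟨773, 2, 1⟩)) (.node 1 (.one ⟨42, 2, 4⟩) (.one ⟨14035, 0, 5⟩))) (.node 2 (.node 1 (.one ⟨10166, 1, 6⟩) (.one ⟨296, 2, 5⟩)) (.node 1 (.one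 ⟨651, 2, 8⟩) (.one ⟨11084, 1, 3⟩)))) (.node 4 (.node 2 (.node 1 (.one ⟨559, 2, 8⟩) (.one ⟨15184, 2, 4⟩)) (.node 1 (.one ⟨6084, 0, 7⟩) (.one ⟨10090, 1, 2⟩))) (.node 2 (.node 1 (.one ⟨13197, 2, 4⟩) (.one ⟨7678, 2, 8⟩)) (.node 1 (.one ⟨2066, 1, 9⟩) (.one ⟨13055, 1, 7⟩)))))) (.node 16 (.node 8 (.node 4 (.node 2 (.node 1 (.one ⟨4665, 1, 7⟩) (.one ⟨502, 1, 3⟩)) (.node 1 (.one ⟨10114, 0, 7⟩) (.one ⟨6592, 1, 7⟩))) (.node 2 (.node 1 (.one ⟨14912, 1, 7⟩) (.one ⟨15946, 1, 6⟩)) (.node 1 (.one ⟨7679, 1, 6⟩) (.one ⟨7338, 0, 6⟩)))) (.node 4 (.node 2 (.node 1 (.one ⟨5891, 0, 7⟩) (.one ⟨13718, 1, 9⟩)) (.node 1 (.one ⟨6627, 0, 7⟩) (.one ⟨3205, 1, 7⟩))) (.node 2 (.node 1 (.one ⟨9440, 2, 5⟩) (.one ⟨13060, 1, 7⟩)) (.node 1 (.one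 ⟨15274, 1, 6⟩) (.one ⟨3475, 1, 9⟩))))) (.node 8 (.node 4 (.node 2 (.node 1 (.one ⟨8905, 1, 8⟩) (.one ⟨13324, 2, 5⟩)) (.node 1 (.one ⟨14470, 1, 10⟩) (.one ⟨8371, 0, 4⟩))) (.node 2 (.node 1 (.one ⟨2790, 0, 7⟩) (.one ⟨1300, 2, 4⟩)) (.node 1 (.one ⟨1535, 2, 3⟩) (.one ⟨12504, 1, 3⟩)))) (.node 4 (.node 2 (.node 1 (.one ⟨4337, 0, 4⟩) (.one ⟨1123, 1, 6⟩)) (.node 1 (.one ⟨11065, 1, 7⟩) (.one ⟨3436, 1, 3⟩))) (.node 2 (.node 1 (.one ⟨13942, 2, 7⟩) (.one ⟨4080, 0, 8⟩)) (.node 1 (.one ⟨3805, 1, 7⟩) (.one ⟨3482, 1, 5⟩)))))))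
def par7_7_8 : Arr Par :=
  (.node 32 (.node 16 (.node 8 (.node 4 (.node 2 (.node 1 (.one ⟨5031, 1, 3⟩) (.one ⟨1998, 1, 5⟩)) (.node 1 (.one ⟨4196, 1, 6⟩) (.one ⟨10090, 0, 2⟩))) (.node 2 (.node 1 (.one ⟨4128, 1, 9⟩) (.one ⟨3133, 1, 8⟩)) (.node 1 (.one ⟨4801, 1, 4⟩) (.one ⟨1453, 1, 2⟩)))) (.node 4 (.node 2 (.node 1 (.one ⟨5322, 1, 5⟩) (.one ⟨13827, 2, 4⟩)) (.node 1 (.one ⟨15073, 2, 5⟩) (.one ⟨12800, 2, 6⟩))) (.node 2 (.node 1 (.one ⟨4817, 1, 4⟩) (.one ⟨2706, 1, 8⟩)) (.node 1 (.one ⟨4537, 2, 6⟩) (.one ⟨7615, 1, 6⟩))))) (.node 8 (.node 4 (.node 2 (.node 1 (.one ⟨8832, 2, 5⟩) (.one ⟨9389, 1, 7⟩)) (.node 1 (.one ⟨12368, 1, 4⟩) (.one ⟨7678, 1, 8⟩))) (.node 2 (.node 1 (.one ⟨6504, 1, 7⟩) (.one ⟨5103, 2, 6⟩)) (.node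 1 (.one ⟨7751, 2, 6⟩) (.one ⟨13311, 2, 4⟩)))) (.node 4 (.node 2 (.node 1 (.one ⟨12382, 1, 2⟩) (.one ⟨10361, 1, 6⟩)) (.node 1 (.one ⟨7837, 2, 4⟩) (.one ⟨12162, 1, 9⟩))) (.node 2 (.node 1 (.one ⟨2841, 2, 8⟩) (.one ⟨8098, 1, 3⟩)) (.node 1 (.one ⟨10789, 1, 7⟩) (.one ⟨12854, 1, 3⟩)))))) (.node 16 (.node 8 (.node 4 (.node 2 (.node 1 (.one ⟨4802, 1, 2⟩) (.one ⟨8952, 0, 9⟩)) (.node 1 (.one ⟨14628, 0, 5⟩) (.one ⟨15150, 2, 3⟩))) (.node 2 (.node 1 (.one ⟨16869, 1, 2⟩) (.one ⟨9315, 1, 2⟩)) (.node 1 (.one ⟨8, 1, 8⟩) (.one ⟨13056, 2, 4⟩)))) (.node 4 (.node 2 (.node 1 (.one ⟨4803, 1, 6⟩) (.one ⟨1985, 2, 3⟩)) (.node 1 (.one ⟨12050, 1, 7⟩) (.one ⟨5289, 2, 5⟩))) (.node 2 (.node 1 (.one ⟨12939, 1, 6⟩) (.one ⟨12222, 0, 6⟩)) (.node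 1 (.one ⟨3907, 0, 1⟩) (.one ⟨8626, 1, 6⟩))))) (.node 8 (.node 4 (.node 2 (.node 1 (.one ⟨87, 2, 7⟩) (.one ⟨8687, 1, 7⟩)) (.node 1 (.one ⟨9347, 2, 3⟩) (.one ⟨9337, 0, 5⟩))) (.node 2 (.node 1 (.one ⟨15841, 0, 5⟩) (.one ⟨1317, 2, 3⟩)) (.node 1 (.one ⟨1612, 1, 6⟩) (.one ⟨239, 0, 3⟩)))) (.node 4 (.node 2 (.node 1 (.one ⟨8571, 0, 6⟩) (.one ⟨5001, 1, 5⟩)) (.node 1 (.one ⟨9605, 2, 1⟩) (.one ⟨77, 2, 7⟩))) (.node 2 (.node 1 (.one ⟨10002, 1, 10⟩) (.one ⟨12072, 2, 5⟩)) (.node 1 (.one ⟨12726, 0, 7⟩) (.one ⟨15432, 1, 1⟩)))))))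
def par7_7_9 : Arr Par :=
  (.node 32 (.node 16 (.node 8 (.node 4 (.node 2 (.node 1 (.one ⟨9231, 0, 8⟩) (.one ⟨15177, 1, 6⟩)) (.node 1 (.one ⟨12382, 0, 2⟩) (.one ⟨3370, 1, 6⟩))) (.node 2 (.node 1 (.one ⟨1986, 2, 5⟩) (.one ⟨6391, 2, 6⟩)) (.node 1 (.one ⟨1611, 1, 8⟩) (.one ⟨12588, 0, 5⟩)))) (.node 4 (.node 2 (.node 1 (.one ⟨14959, 1, 9⟩) (.one ⟨2421, 2, 1⟩)) (.node 1 (.one ⟨12788, 2, 3⟩) (.one ⟨2015, 1, 3⟩))) (.node 2 (.node 1 (.one ⟨1734, 1, 7⟩) (.one ⟨14636, 2, 4⟩)) (.node 1 (.one ⟨12632, 0, 3⟩) (.one ⟨7838, 1, 8⟩))))) (.node 8 (.node 4 (.node 2 (.node 1 (.one ⟨4784, 1, 4⟩) (.one ⟨3836, 1, 6⟩)) (.node 1 (.one ⟨9045, 2, 9⟩) (.one ⟨7637, 1, 6⟩))) (.node 2 (.node 1 (.one ⟨5838, 2, 4⟩) (.one ⟨3690, 1, 3⟩)) (.node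 1 (.one ⟨8497, 1, 8⟩) (.one ⟨2488, 2, 4⟩)))) (.node 4 (.node 2 (.node 1 (.one ⟨16614, 0, 5⟩) (.one ⟨8558, 0, 5⟩)) (.node 1 (.one ⟨14043, 0, 5⟩) (.one ⟨7727, 1, 7⟩))) (.node 2 (.node 1 (.one ⟨13238, 2, 4⟩) (.one ⟨3988, 1, 2⟩)) (.node 1 (.one ⟨8506, 1, 3⟩) (.one ⟨12692, 2, 6⟩)))))) (.node 16 (.node 8 (.node 4 (.node 2 (.node 1 (.one ⟨6651, 1, 3⟩) (.one ⟨3920, 2, 8⟩)) (.node 1 (.one ⟨672, 2, 8⟩) (.one ⟨16274, 1, 3⟩))) (.node 2 (.node 1 (.one ⟨11237, 2, 4⟩) (.one ⟨9696, 1, 5⟩)) (.node 1 (.one ⟨15311, 0, 5⟩) (.one ⟨6516, 1, 6⟩)))) (.node 4 (.node 2 (.node 1 (.one ⟨11267, 1, 8⟩) (.one ⟨7453, 0, 9⟩)) (.node 1 (.one ⟨14990, 1, 3⟩) (.one ⟨1630, 2, 7⟩))) (.node 2 (.node 1 (.one ⟨3081, 0, 9⟩) (.one ⟨4003, 1, 0⟩)) (.node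 1 (.one ⟨11953, 1, 5⟩) (.one ⟨11715, 2, 3⟩))))) (.node 8 (.node 4 (.node 2 (.node 1 (.one ⟨9233, 0, 3⟩) (.one ⟨16685, 0, 7⟩)) (.node 1 (.one ⟨8584, 0, 9⟩) (.one ⟨16358, 2, 6⟩))) (.node 2 (.node 1 (.one ⟨3225, 2, 3⟩) (.one ⟨12598, 2, 3⟩)) (.node 1 (.one ⟨5984, 2, 8⟩) (.one ⟨13713, 1, 4⟩)))) (.node 4 (.node 2 (.node 1 (.one ⟨1120, 0, 3⟩) (.one ⟨8786, 2, 5⟩)) (.node 1 (.one ⟨9725, 1, 9⟩) (.one ⟨12640, 2, 6⟩))) (.node 2 (.node 1 (.one ⟨16270, 1, 2⟩) (.one ⟨12122, 1, 8⟩)) (.node 1 (.one ⟨9022, 0, 4⟩) (.one ⟨9820, 1, 4⟩)))))))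
def par7_7_10 : Arr Par :=
  (.node 32 (.node 16 (.node 8 (.node 4 (.node 2 (.node 1 (.one ⟨9783, 1, 4⟩) (.one ⟨1714, 1, 2⟩)) (.node 1 (.one ⟨1743, 1, 4⟩) (.one ⟨9806, 1, 3⟩))) (.node 2 (.node 1 (.one ⟨9838, 1, 4⟩) (.one ⟨1761, 1, 4⟩)) (.node 1 (.one ⟨1730, 1, 2⟩) (.one ⟨393, 1, 2⟩)))) (.node 4 (.node 2 (.node 1 (.one ⟨127, 1, 4⟩) (.one ⟨131, 1, 8⟩)) (.node 1 (.one ⟨394, 1, 7⟩) (.one ⟨8858, 2, 6⟩))) (.node 2 (.node 1 (.one ⟨16592, 0, 7⟩) (.one ⟨16597, 0, 3⟩)) (.node 1 (.one ⟨16595, 0, 3⟩) (.one ⟨16008, 1, 3⟩))))) (.node 8 (.node 4 (.node 2 (.node 1 (.one ⟨9237, 0, 3⟩) (.one ⟨15208, 0, 2⟩)) (.node 1 (.one ⟨402, 0, 9⟩) (.one ⟨15981, 1, 3⟩))) (.node 2 (.node 1 (.one ⟨16917, 1, 6⟩) (.one ⟨4242, 1, 5⟩)) (.node 1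 (.one ⟨4738, 1, 9⟩) (.one ⟨10747, 2, 4⟩)))) (.node 4 (.node 2 (.node 1 (.one ⟨1123, 0, 6⟩) (.one ⟨4085, 2, 7⟩)) (.node 1 (.one ⟨12650, 0, 8⟩) (.one ⟨12504, 0, 3⟩))) (.node 2 (.node 1 (.one ⟨11065, 0, 7⟩) (.one ⟨3436, 0, 3⟩)) (.node 1 (.one ⟨3805, 0, 7⟩) (.one ⟨3484, 2, 6⟩)))))) (.node 16 (.node 8 (.node 4 (.node 2 (.node 1 (.one ⟨7319, 1, 7⟩) (.one ⟨6130, 1, 5⟩)) (.node 1 (.one ⟨1730, 0, 2⟩) (.one ⟨4391, 1, 7⟩))) (.node 2 (.node 1 (.one ⟨8111, 1, 4⟩) (.one ⟨9331, 0, 1⟩)) (.node 1 (.one ⟨1245, 2, 6⟩) (.one ⟨12237, 1, 4⟩)))) (.node 4 (.node 2 (.node 1 (.one ⟨7592, 1, 2⟩) (.one ⟨8305, 2, 1⟩)) (.node 1 (.one ⟨8449, 1, 6⟩) (.one ⟨323, 0, 1⟩))) (.node 2 (.node 1 (.one ⟨9975, 1, 6⟩) (.one ⟨7140, 1, 4⟩)) (.node 1 (.one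 ⟨4453, 2, 4⟩) (.one ⟨13164, 0, 2⟩))))) (.node 8 (.node 4 (.node 2 (.node 1 (.one ⟨3928, 1, 4⟩) (.one ⟨3112, 2, 5⟩)) (.node 1 (.one ⟨852, 0, 9⟩) (.one ⟨9705, 1, 2⟩))) (.node 2 (.node 1 (.one ⟨580, 2, 5⟩) (.one ⟨1267, 2, 6⟩)) (.node 1 (.one ⟨3968, 1, 3⟩) (.one ⟨7034, 2, 2⟩)))) (.node 4 (.node 2 (.node 1 (.one ⟨5937, 1, 6⟩) (.one ⟨15257, 2, 4⟩)) (.node 1 (.one ⟨15327, 1, 7⟩) (.one ⟨12292, 2, 4⟩))) (.node 2 (.node 1 (.one ⟨11337, 1, 4⟩) (.one ⟨17016, 1, 2⟩)) (.node 1 (.one ⟨14039, 0, 5⟩) (.one ⟨7743, 2, 2⟩)))))))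
def par7_7_11 : Arr Par :=
  (.node 32 (.node 16 (.node 8 (.node 4 (.node 2 (.node 1 (.one ⟨4784, 0, 4⟩) (.one ⟨1478, 2, 5⟩)) (.node 1 (.one ⟨7842, 2, 3⟩) (.one ⟨1407, 2, 8⟩))) (.node 2 (.node 1 (.one ⟨1597, 1, 4⟩) (.one ⟨16259, 1, 3⟩)) (.node 1 (.one ⟨6065, 0, 6⟩) (.one ⟨14591, 2, 7⟩)))) (.node 4 (.node 2 (.node 1 (.one ⟨4302, 0, 7⟩) (.one ⟨2508, 1, 5⟩)) (.node 1 (.one ⟨12199, 2, 7⟩) (.one ⟨12101, 1, 8⟩))) (.node 2 (.node 1 (.one ⟨7125, 0, 9⟩) (.one ⟨8433, 1, 8⟩)) (.node 1 (.one ⟨10307, 1, 6⟩) (.one ⟨16709, 2, 4⟩))))) (.node 8 (.node 4 (.node 2 (.node 1 (.one ⟨6311, 0, 7⟩) (.one ⟨6416, 1, 6⟩)) (.node 1 (.one ⟨13358, 1, 5⟩) (.one ⟨13009, 2, 3⟩))) (.node 2 (.node 1 (.one ⟨5401, 0, 4⟩) (.one ⟨921, 1, 5⟩)) (.node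 1 (.one ⟨16448, 1, 5⟩) (.one ⟨12215, 2, 3⟩)))) (.node 4 (.node 2 (.node 1 (.one ⟨8911, 2, 7⟩) (.one ⟨13075, 1, 6⟩)) (.node 1 (.one ⟨7701, 1, 7⟩) (.one ⟨9909, 1, 7⟩))) (.node 2 (.node 1 (.one ⟨8482, 0, 5⟩) (.one ⟨1006, 1, 2⟩)) (.node 1 (.one ⟨15537, 2, 8⟩) (.one ⟨13654, 2, 2⟩)))))) (.node 16 (.node 8 (.node 4 (.node 2 (.node 1 (.one ⟨11530, 0, 5⟩) (.one ⟨4570, 0, 4⟩)) (.node 1 (.one ⟨12514, 0, 4⟩) (.one ⟨853, 2, 2⟩))) (.node 2 (.node 1 (.one ⟨7809, 2, 3⟩) (.one ⟨4349, 1, 6⟩)) (.node 1 (.one ⟨11474, 0, 8⟩) (.one ⟨188, 0, 7⟩)))) (.node 4 (.node 2 (.node 1 (.one ⟨15536, 2, 7⟩) (.one ⟨6589, 2, 8⟩)) (.node 1 (.one ⟨2764, 1, 7⟩) (.one ⟨4721, 1, 3⟩))) (.node 2 (.node 1 (.one ⟨15231, 2, 3⟩) (.one ⟨3582, 1, 6⟩)) (.node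 1 (.one ⟨16764, 1, 7⟩) (.one ⟨16848, 2, 4⟩))))) (.node 8 (.node 4 (.node 2 (.node 1 (.one ⟨7389, 0, 9⟩) (.one ⟨8186, 0, 2⟩)) (.node 1 (.one ⟨985, 0, 7⟩) (.one ⟨16212, 0, 9⟩))) (.node 2 (.node 1 (.one ⟨12197, 1, 5⟩) (.one ⟨7999, 1, 8⟩)) (.node 1 (.one ⟨11378, 2, 8⟩) (.one ⟨3080, 1, 3⟩)))) (.node 4 (.node 2 (.node 1 (.one ⟨9137, 1, 5⟩) (.one ⟨9782, 1, 6⟩)) (.node 1 (.one ⟨15491, 0, 5⟩) (.one ⟨12633, 2, 2⟩))) (.node 2 (.node 1 (.one ⟨8563, 1, 6⟩) (.one ⟨8655, 1, 4⟩)) (.node 1 (.one ⟨16941, 2, 8⟩) (.one ⟨11733, 1, 9⟩)))))))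
def par7_7_12 : Arr Par :=
  (.node 32 (.node 16 (.node 8 (.node 4 (.node 2 (.node 1 (.one ⟨10030, 0, 4⟩) (.one ⟨17018, 2, 5⟩)) (.node 1 (.one ⟨10670, 0, 7⟩) (.one ⟨8991, 1, 4⟩))) (.node 2 (.node 1 (.one ⟨16582, 1, 2⟩) (.one ⟨13446, 0, 7⟩)) (.node 1 (.one ⟨10294, 1, 6⟩) (.one ⟨16843, 0, 4⟩)))) (.node 4 (.node 2 (.node 1 (.one ⟨9541, 1, 1⟩) (.one ⟨3765, 1, 2⟩)) (.node 1 (.one ⟨13677, 0, 5⟩) (.one ⟨13020, 2, 4⟩))) (.node 2 (.node 1 (.one ⟨6196, 0, 5⟩) (.one ⟨13463, 2, 5⟩)) (.node 1 (.one ⟨12711, 2, 4⟩) (.one ⟨4616, 1, 8⟩))))) (.node 8 (.node 4 (.node 2 (.node 1 (.one ⟨8217, 2, 5⟩) (.one ⟨4679, 0, 3⟩)) (.node 1 (.one ⟨14595, 2, 6⟩) (.one ⟨320, 0, 5⟩))) (.node 2 (.node 1 (.one ⟨17129, 0, 7⟩) (.one ⟨9998, 1, 8⟩))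 (.node 1 (.one ⟨4590, 1, 8⟩) (.one ⟨9831, 1, 8⟩)))) (.node 4 (.node 2 (.node 1 (.one ⟨10330, 0, 4⟩) (.one ⟨923, 2, 8⟩)) (.node 1 (.one ⟨5959, 1, 5⟩) (.one ⟨13678, 2, 8⟩))) (.node 2 (.node 1 (.one ⟨13431, 1, 5⟩) (.one ⟨8895, 1, 4⟩)) (.node 1 (.one ⟨11600, 2, 3⟩) (.one ⟨9416, 1, 1⟩)))))) (.node 16 (.node 8 (.node 4 (.node 2 (.node 1 (.one ⟨8735, 1, 4⟩) (.one ⟨5094, 2, 7⟩)) (.node 1 (.one ⟨10349, 2, 5⟩) (.one ⟨16782, 1, 3⟩))) (.node 2 (.node 1 (.one ⟨16209, 2, 8⟩) (.one ⟨6151, 1, 3⟩)) (.node 1 (.one ⟨12591, 1, 5⟩) (.one ⟨360, 2, 8⟩)))) (.node 4 (.node 2 (.node 1 (.one ⟨13629, 2, 4⟩) (.one ⟨13124, 1, 2⟩)) (.node 1 (.one ⟨16380, 2, 4⟩) (.one ⟨17014, 1, 6⟩))) (.node 2 (.node 1 (.one ⟨5564, 1, 8⟩) (.one ⟨8556, 2,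 6⟩)) (.node 1 (.one ⟨16872, 1, 6⟩) (.one ⟨9584, 2, 3⟩))))) (.node 8 (.node 4 (.node 2 (.node 1 (.one ⟨15311, 1, 5⟩) (.one ⟨9523, 2, 5⟩)) (.node 1 (.one ⟨203, 1, 6⟩) (.one ⟨4979, 0, 8⟩))) (.node 2 (.node 1 (.one ⟨12554, 1, 1⟩) (.one ⟨2412, 0, 9⟩)) (.node 1 (.one ⟨1881, 2, 5⟩) (.one ⟨4354, 2, 5⟩)))) (.node 4 (.node 2 (.node 1 (.one ⟨15104, 1, 8⟩) (.one ⟨4170, 1, 0⟩)) (.node 1 (.one ⟨15209, 0, 2⟩) (.one ⟨4046, 1, 3⟩))) (.node 2 (.node 1 (.one ⟨4141, 1, 7⟩) (.one ⟨9845, 0, 7⟩)) (.node 1 (.one ⟨1493, 1, 4⟩) (.one ⟨7705, 2, 7⟩)))))))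
def par7_7_13 : Arr Par :=
  (.node 32 (.node 16 (.node 8 (.node 4 (.node 2 (.node 1 (.one ⟨11266, 1, 5⟩) (.one ⟨5893, 0, 3⟩)) (.node 1 (.one ⟨6834, 1, 8⟩) (.one ⟨12328, 1, 4⟩))) (.node 2 (.node 1 (.one ⟨5367, 1, 4⟩) (.one ⟨10924, 0, 5⟩)) (.node 1 (.one ⟨7704, 2, 3⟩) (.one ⟨5899, 2, 4⟩)))) (.node 4 (.node 2 (.node 1 (.one ⟨1413, 2, 6⟩) (.one ⟨15391, 1, 4⟩)) (.node 1 (.one ⟨9386, 1, 8⟩) (.one ⟨12431, 1, 2⟩))) (.node 2 (.node 1 (.one ⟨3515, 2, 3⟩) (.one ⟨14514, 1, 4⟩)) (.node 1 (.one ⟨11007, 1, 7⟩) (.one ⟨1811, 2, 4⟩))))) (.node 8 (.node 4 (.node 2 (.node 1 (.one ⟨14907, 1, 3⟩) (.one ⟨7903, 1, 3⟩)) (.node 1 (.one ⟨116, 1, 5⟩) (.one ⟨8596, 2, 4⟩))) (.node 2 (.node 1 (.one ⟨7515, 1, 9⟩) (.one ⟨11803, 2, 6⟩)) (.node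 1 (.one ⟨10330, 1, 4⟩) (.one ⟨125, 1, 9⟩)))) (.node 4 (.node 2 (.node 1 (.one ⟨473, 1, 7⟩) (.one ⟨1015, 1, 4⟩)) (.node 1 (.one ⟨726, 1, 9⟩) (.one ⟨12216, 1, 7⟩))) (.node 2 (.node 1 (.one ⟨12217, 1, 9⟩) (.one ⟨12221, 1, 9⟩)) (.node 1 (.one ⟨12106, 2, 4⟩) (.one ⟨5933, 2, 6⟩)))))) (.node 16 (.node 8 (.node 4 (.node 2 (.node 1 (.one ⟨5655, 0, 5⟩) (.one ⟨3024, 1, 6⟩)) (.node 1 (.one ⟨7372, 1, 9⟩) (.one ⟨2154, 2, 4⟩))) (.node 2 (.node 1 (.one ⟨1124, 1, 2⟩) (.one ⟨13134, 1, 4⟩)) (.node 1 (.one ⟨16607, 1, 8⟩) (.one ⟨9056, 1, 1⟩)))) (.node 4 (.node 2 (.node 1 (.one ⟨9727, 0, 6⟩) (.one ⟨13667, 2, 3⟩)) (.node 1 (.one ⟨14466, 1, 6⟩) (.one ⟨9947, 0, 5⟩))) (.node 2 (.node 1 (.one ⟨3560, 2, 6⟩) (.one ⟨11337, 2, 4⟩)) (.node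 1 (.one ⟨7638, 0, 9⟩) (.one ⟨784, 2, 3⟩))))) (.node 8 (.node 4 (.node 2 (.node 1 (.one ⟨14161, 0, 5⟩) (.one ⟨16679, 2, 6⟩)) (.node 1 (.one ⟨10368, 1, 6⟩) (.one ⟨5231, 1, 4⟩))) (.node 2 (.node 1 (.one ⟨5651, 2, 5⟩) (.one ⟨5966, 1, 6⟩)) (.node 1 (.one ⟨13055, 2, 7⟩) (.one ⟨7833, 0, 8⟩)))) (.node 4 (.node 2 (.node 1 (.one ⟨15244, 0, 3⟩) (.one ⟨1928, 0, 4⟩)) (.node 1 (.one ⟨13556, 0, 3⟩) (.one ⟨14123, 2, 4⟩))) (.node 2 (.node 1 (.one ⟨13828, 0, 7⟩) (.one ⟨3463, 0, 7⟩)) (.node 1 (.one ⟨11764, 0, 7⟩) (.one ⟨6954, 1, 6⟩)))))))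
def par7_7_14 : Arr Par :=
  (.node 32 (.node 16 (.node 8 (.node 4 (.node 2 (.node 1 (.one ⟨11611, 1, 9⟩) (.one ⟨13635, 0, 8⟩)) (.node 1 (.one ⟨8161, 2, 3⟩) (.one ⟨14218, 1, 9⟩))) (.node 2 (.node 1 (.one ⟨1550, 2, 4⟩) (.one ⟨2835, 1, 10⟩)) (.node 1 (.one ⟨11605, 0, 7⟩) (.one ⟨1774, 2, 3⟩)))) (.node 4 (.node 2 (.node 1 (.one ⟨3145, 2, 6⟩) (.one ⟨13694, 2, 3⟩)) (.node 1 (.one ⟨15504, 2, 6⟩) (.one ⟨12096, 1, 4⟩))) (.node 2 (.node 1 (.one ⟨10682, 0, 3⟩) (.one ⟨14312, 0, 6⟩)) (.node 1 (.one ⟨6428, 0, 8⟩) (.one ⟨10890, 1, 2⟩))))) (.node 8 (.node 4 (.node 2 (.node 1 (.one ⟨16515, 1, 6⟩) (.one ⟨16264, 1, 4⟩)) (.node 1 (.one ⟨10686, 0, 5⟩) (.one ⟨3277, 1, 5⟩))) (.node 2 (.node 1 (.one ⟨8756, 1, 6⟩) (.one ⟨7753, 1, 2⟩))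 (.node 1 (.one ⟨44, 1, 7⟩) (.one ⟨10579, 2, 4⟩)))) (.node 4 (.node 2 (.node 1 (.one ⟨11382, 2, 4⟩) (.one ⟨3883, 2, 3⟩)) (.node 1 (.one ⟨370, 1, 7⟩) (.one ⟨14196, 0, 7⟩))) (.node 2 (.node 1 (.one ⟨8947, 2, 6⟩) (.one ⟨1674, 1, 5⟩)) (.node 1 (.one ⟨14685, 2, 4⟩) (.one ⟨13949, 1, 4⟩)))))) (.node 16 (.node 8 (.node 4 (.node 2 (.node 1 (.one ⟨15178, 0, 3⟩) (.one ⟨1766, 0, 7⟩)) (.node 1 (.one ⟨16289, 0, 2⟩) (.one ⟨7940, 2, 3⟩))) (.node 2 (.node 1 (.one ⟨17051, 2, 9⟩) (.one ⟨15636, 1, 8⟩)) (.node 1 (.one ⟨6846, 1, 5⟩) (.one ⟨14265, 0, 7⟩)))) (.node 4 (.node 2 (.node 1 (.one ⟨4474, 2, 5⟩) (.one ⟨9839, 0, 2⟩)) (.node 1 (.one ⟨13744, 0, 4⟩) (.one ⟨12571, 2, 3⟩))) (.node 2 (.node 1 (.one ⟨5616, 0, 2⟩) (.one ⟨5588, 1, 5⟩))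 (.node 1 (.one ⟨16146, 2, 3⟩) (.one ⟨9348, 0, 3⟩))))) (.node 8 (.node 4 (.node 2 (.node 1 (.one ⟨2889, 2, 7⟩) (.one ⟨8914, 0, 5⟩)) (.node 1 (.one ⟨4192, 2, 6⟩) (.one ⟨8046, 1, 10⟩))) (.node 2 (.node 1 (.one ⟨972, 1, 7⟩) (.one ⟨2818, 2, 6⟩)) (.node 1 (.one ⟨8039, 1, 2⟩) (.one ⟨7321, 0, 7⟩)))) (.node 4 (.node 2 (.node 1 (.one ⟨8094, 0, 5⟩) (.one ⟨16807, 1, 5⟩)) (.node 1 (.one ⟨9199, 0, 4⟩) (.one ⟨6176, 2, 6⟩))) (.node 2 (.node 1 (.one ⟨14188, 1, 7⟩) (.one ⟨15400, 0, 6⟩)) (.node 1 (.one ⟨4683, 1, 3⟩) (.one ⟨3639, 1, 5⟩)))))))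
def par7_7_15 : Arr Par :=
  (.node 32 (.node 16 (.node 8 (.node 4 (.node 2 (.node 1 (.one ⟨6839, 1, 3⟩) (.one ⟨9343, 0, 3⟩)) (.node 1 (.one ⟨14340, 0, 3⟩) (.one ⟨16506, 1, 5⟩))) (.node 2 (.node 1 (.one ⟨3278, 0, 7⟩) (.one ⟨5053, 2, 3⟩)) (.node 1 (.one ⟨16953, 2, 7⟩) (.one ⟨5457, 0, 3⟩)))) (.node 4 (.node 2 (.node 1 (.one ⟨16573, 2, 4⟩) (.one ⟨16572, 2, 6⟩)) (.node 1 (.one ⟨9138, 1, 1⟩) (.one ⟨3684, 1, 4⟩))) (.node 2 (.node 1 (.one ⟨9200, 0, 4⟩) (.one ⟨1770, 1, 5⟩)) (.node 1 (.one ⟨8648, 1, 1⟩) (.one ⟨5435, 0, 3⟩))))) (.node 8 (.node 4 (.node 2 (.node 1 (.one ⟨8688, 2, 8⟩) (.one ⟨13406, 1, 5⟩)) (.node 1 (.one ⟨11638, 2, 7⟩) (.one ⟨279, 2, 7⟩))) (.node 2 (.node 1 (.one ⟨8062, 1, 8⟩) (.one ⟨14925, 2, 5⟩)) (.node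 1 (.one ⟨324, 1, 6⟩) (.one ⟨8078, 1, 9⟩)))) (.node 4 (.node 2 (.node 1 (.one ⟨13152, 0, 5⟩) (.one ⟨16163, 1, 7⟩)) (.node 1 (.one ⟨8106, 1, 5⟩) (.one ⟨3524, 0, 4⟩))) (.node 2 (.node 1 (.one ⟨8094, 1, 5⟩) (.one ⟨8061, 1, 8⟩)) (.node 1 (.one ⟨16112, 1, 9⟩) (.one ⟨12704, 1, 6⟩)))))) (.node 16 (.node 8 (.node 4 (.node 2 (.node 1 (.one ⟨7879, 1, 8⟩) (.one ⟨15309, 0, 2⟩)) (.node 1 (.one ⟨7856, 2, 5⟩) (.one ⟨6517, 2, 6⟩))) (.node 2 (.node 1 (.one ⟨1660, 1, 4⟩) (.one ⟨9698, 1, 6⟩)) (.node 1 (.one ⟨12941, 0, 7⟩) (.one ⟨9347, 0, 3⟩)))) (.node 4 (.node 2 (.node 1 (.one ⟨16244, 1, 6⟩) (.one ⟨3953, 1, 0⟩)) (.node 1 (.one ⟨2928, 2, 5⟩) (.one ⟨4213, 1, 4⟩))) (.node 2 (.node 1 (.one ⟨2788, 2, 3⟩) (.one ⟨1471, 2, 8⟩)) (.node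 1 (.one ⟨14211, 1, 4⟩) (.one ⟨16372, 1, 6⟩))))) (.node 8 (.node 4 (.node 2 (.node 1 (.one ⟨17179, 2, 3⟩) (.one ⟨13198, 1, 3⟩)) (.node 1 (.one ⟨11825, 2, 5⟩) (.one ⟨15942, 1, 4⟩))) (.node 2 (.node 1 (.one ⟨7498, 1, 5⟩) (.one ⟨16244, 2, 6⟩)) (.node 1 (.one ⟨2228, 1, 5⟩) (.one ⟨1454, 1, 5⟩)))) (.node 4 (.node 2 (.node 1 (.one ⟨311, 0, 3⟩) (.one ⟨7924, 2, 6⟩)) (.node 1 (.one ⟨6294, 2, 1⟩) (.one ⟨9014, 0, 6⟩))) (.node 2 (.node 1 (.one ⟨9216, 2, 2⟩) (.one ⟨15935, 1, 7⟩)) (.node 1 (.one ⟨4828, 1, 8⟩) (.one ⟨5925, 1, 5⟩)))))))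
def par7_7 : Arr Par :=
  (.node 512 (.node 256 (.node 128 (.node 64 par7_7_0 par7_7_1) (.node 64 par7_7_2 par7_7_3)) (.node 128 (.node 64 par7_7_4 par7_7_5) (.node 64 par7_7_6 par7_7_7))) (.node 256 (.node 128 (.node 64 par7_7_8 par7_7_9) (.node 64 par7_7_10 par7_7_11)) (.node 128 (.node 64 par7_7_12 par7_7_13) (.node 64 par7_7_14 par7_7_15))))
def par7_8_0 : Arr Par :=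
  (.node 32 (.node 16 (.node 8 (.node 4 (.node 2 (.node 1 (.one ⟨6452, 2, 5⟩) (.one ⟨11272, 0, 2⟩)) (.node 1 (.one ⟨4419, 1, 7⟩) (.one ⟨12078, 2, 5⟩))) (.node 2 (.node 1 (.one ⟨4731, 2, 5⟩) (.one ⟨280, 0, 4⟩)) (.node 1 (.one ⟨9361, 1, 6⟩) (.one ⟨11903, 2, 3⟩)))) (.node 4 (.node 2 (.node 1 (.one ⟨9271, 0, 2⟩) (.one ⟨14916, 2, 5⟩)) (.node 1 (.one ⟨2026, 0, 7⟩) (.one ⟨7730, 1, 4⟩))) (.node 2 (.node 1 (.one ⟨1119, 1, 5⟩) (.one ⟨14160, 2, 9⟩)) (.node 1 (.one ⟨2282, 1, 8⟩) (.one ⟨11648, 1, 7⟩))))) (.node 8 (.node 4 (.node 2 (.node 1 (.one ⟨13317, 2, 8⟩) (.one ⟨3542, 1, 8⟩)) (.node 1 (.one ⟨17000, 0, 7⟩) (.one ⟨9276, 0, 3⟩))) (.node 2 (.node 1 (.one ⟨1045, 1, 7⟩) (.one ⟨14437, 2, 8⟩)) (.node 1 (.one ⟨16766, 2, 4⟩)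 (.one ⟨11580, 1, 8⟩)))) (.node 4 (.node 2 (.node 1 (.one ⟨926, 1, 7⟩) (.one ⟨737, 1, 4⟩)) (.node 1 (.one ⟨11582, 1, 6⟩) (.one ⟨924, 1, 6⟩))) (.node 2 (.node 1 (.one ⟨13713, 2, 4⟩) (.one ⟨11581, 1, 7⟩)) (.node 1 (.one ⟨733, 1, 8⟩) (.one ⟨5805, 2, 2⟩)))))) (.node 16 (.node 8 (.node 4 (.node 2 (.node 1 (.one ⟨12873, 2, 5⟩) (.one ⟨102, 0, 1⟩)) (.node 1 (.one ⟨8451, 1, 3⟩) (.one ⟨9982, 1, 9⟩))) (.node 2 (.node 1 (.one ⟨8709, 2, 4⟩) (.one ⟨3605, 1, 4⟩)) (.node 1 (.one ⟨14468, 1, 2⟩) (.one ⟨15778, 2, 2⟩)))) (.node 4 (.node 2 (.node 1 (.one ⟨14857, 2, 4⟩) (.one ⟨14273, 1, 5⟩)) (.node 1 (.one ⟨9269, 0, 3⟩) (.one ⟨15461, 0, 1⟩))) (.node 2 (.node 1 (.one ⟨14350, 2, 2⟩) (.one ⟨4834, 1, 8⟩)) (.node 1 (.one ⟨6352, 1, 1⟩)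 (.one ⟨6947, 1, 5⟩))))) (.node 8 (.node 4 (.node 2 (.node 1 (.one ⟨1535, 0, 3⟩) (.one ⟨7154, 2, 5⟩)) (.node 1 (.one ⟨10362, 1, 5⟩) (.one ⟨8168, 2, 7⟩))) (.node 2 (.node 1 (.one ⟨3086, 1, 8⟩) (.one ⟨14464, 1, 6⟩)) (.node 1 (.one ⟨5079, 2, 4⟩) (.one ⟨8397, 0, 3⟩)))) (.node 4 (.node 2 (.node 1 (.one ⟨12717, 2, 4⟩) (.one ⟨13739, 1, 5⟩)) (.node 1 (.one ⟨12786, 1, 3⟩) (.one ⟨1624, 2, 5⟩))) (.node 2 (.node 1 (.one ⟨5564, 2, 8⟩) (.one ⟨8397, 1, 3⟩)) (.node 1 (.one ⟨1567, 1, 4⟩) (.one ⟨12755, 2, 8⟩)))))))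
def par7_8_1 : Arr Par :=
  (.node 32 (.node 16 (.node 8 (.node 4 (.node 2 (.node 1 (.one ⟨16083, 1, 5⟩) (.one ⟨6574, 1, 2⟩)) (.node 1 (.one ⟨12126, 1, 3⟩) (.one ⟨6520, 1, 5⟩))) (.node 2 (.node 1 (.one ⟨8336, 2, 6⟩) (.one ⟨1489, 1, 7⟩)) (.node 1 (.one ⟨16074, 1, 8⟩) (.one ⟨13940, 2, 7⟩)))) (.node 4 (.node 2 (.node 1 (.one ⟨5243, 0, 4⟩) (.one ⟨12857, 1, 7⟩)) (.node 1 (.one ⟨10422, 0, 4⟩) (.one ⟨9311, 1, 6⟩))) (.node 2 (.node 1 (.one ⟨1537, 0, 4⟩) (.one ⟨9830, 0, 8⟩)) (.node 1 (.one ⟨11482, 1, 5⟩) (.one ⟨3872, 1, 0⟩))))) (.node 8 (.node 4 (.node 2 (.node 1 (.one ⟨17117, 1, 3⟩) (.one ⟨9725, 2, 9⟩)) (.node 1 (.one ⟨11323, 2, 1⟩) (.one ⟨11159, 1, 2⟩))) (.node 2 (.node 1 (.one ⟨1120, 1, 3⟩) (.one ⟨11881, 1, 9⟩))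 (.node 1 (.one ⟨4600, 1, 8⟩) (.one ⟨7755, 2, 4⟩)))) (.node 4 (.node 2 (.node 1 (.one ⟨15873, 1, 4⟩) (.one ⟨1540, 0, 1⟩)) (.node 1 (.one ⟨16770, 1, 10⟩) (.one ⟨7439, 2, 6⟩))) (.node 2 (.node 1 (.one ⟨11329, 1, 9⟩) (.one ⟨9360, 1, 4⟩)) (.node 1 (.one ⟨10786, 1, 8⟩) (.one ⟨7131, 1, 4⟩)))))) (.node 16 (.node 8 (.node 4 (.node 2 (.node 1 (.one ⟨12940, 0, 5⟩) (.one ⟨3130, 1, 3⟩)) (.node 1 (.one ⟨13087, 2, 4⟩) (.one ⟨13028, 1, 4⟩))) (.node 2 (.node 1 (.one ⟨11824, 1, 6⟩) (.one ⟨13167, 0, 5⟩)) (.node 1 (.one ⟨16078, 1, 6⟩) (.one ⟨9734, 0, 6⟩)))) (.node 4 (.node 2 (.node 1 (.one ⟨3705, 0, 4⟩) (.one ⟨5592, 2, 2⟩)) (.node 1 (.one ⟨7288, 0, 4⟩) (.one ⟨10122, 2, 5⟩))) (.node 2 (.node 1 (.one ⟨1519, 0, 4⟩) (.one ⟨15261,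 0, 3⟩)) (.node 1 (.one ⟨3840, 1, 9⟩) (.one ⟨1415, 2, 5⟩))))) (.node 8 (.node 4 (.node 2 (.node 1 (.one ⟨10952, 0, 7⟩) (.one ⟨3941, 1, 0⟩)) (.node 1 (.one ⟨2457, 2, 3⟩) (.one ⟨12379, 1, 5⟩))) (.node 2 (.node 1 (.one ⟨4182, 1, 6⟩) (.one ⟨1305, 0, 1⟩)) (.node 1 (.one ⟨4225, 2, 7⟩) (.one ⟨1594, 1, 4⟩)))) (.node 4 (.node 2 (.node 1 (.one ⟨9006, 0, 8⟩) (.one ⟨12255, 1, 2⟩)) (.node 1 (.one ⟨4788, 1, 6⟩) (.one ⟨16202, 1, 6⟩))) (.node 2 (.node 1 (.one ⟨8499, 1, 5⟩) (.one ⟨11330, 2, 8⟩)) (.node 1 (.one ⟨139, 2, 9⟩) (.one ⟨3143, 2, 4⟩)))))))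
def par7_8_2 : Arr Par :=
  (.node 32 (.node 16 (.node 8 (.node 4 (.node 2 (.node 1 (.one ⟨15443, 2, 8⟩) (.one ⟨3625, 1, 10⟩)) (.node 1 (.one ⟨9628, 2, 3⟩) (.one ⟨1613, 2, 4⟩))) (.node 2 (.node 1 (.one ⟨13977, 2, 6⟩) (.one ⟨7429, 2, 6⟩)) (.node 1 (.one ⟨4162, 0, 8⟩) (.one ⟨12426, 0, 5⟩)))) (.node 4 (.node 2 (.node 1 (.one ⟨14918, 1, 9⟩) (.one ⟨803, 1, 6⟩)) (.node 1 (.one ⟨2796, 1, 7⟩) (.one ⟨3627, 1, 3⟩))) (.node 2 (.node 1 (.one ⟨4684, 1, 7⟩) (.one ⟨15933, 1, 7⟩)) (.node 1 (.one ⟨1337, 0, 4⟩) (.one ⟨12738, 1, 5⟩))))) (.node 8 (.node 4 (.node 2 (.node 1 (.one ⟨14305, 1, 5⟩) (.one ⟨401, 0, 9⟩)) (.node 1 (.one ⟨3574, 0, 5⟩) (.one ⟨7136, 0, 9⟩))) (.node 2 (.node 1 (.one ⟨4025, 1, 5⟩) (.one ⟨1336, 0, 1⟩)) (.node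 1 (.one ⟨3602, 0, 4⟩) (.one ⟨15962, 2, 5⟩)))) (.node 4 (.node 2 (.node 1 (.one ⟨11967, 1, 6⟩) (.one ⟨10827, 1, 3⟩)) (.node 1 (.one ⟨16381, 1, 8⟩) (.one ⟨6847, 2, 5⟩))) (.node 2 (.node 1 (.one ⟨11777, 1, 5⟩) (.one ⟨15629, 0, 4⟩)) (.node 1 (.one ⟨1611, 2, 8⟩) (.one ⟨10601, 1, 3⟩)))))) (.node 16 (.node 8 (.node 4 (.node 2 (.node 1 (.one ⟨5955, 1, 4⟩) (.one ⟨11797, 2, 3⟩)) (.node 1 (.one ⟨10478, 2, 5⟩) (.one ⟨1340, 0, 9⟩))) (.node 2 (.node 1 (.one ⟨6071, 0, 5⟩) (.one ⟨5317, 0, 5⟩)) (.node 1 (.one ⟨769, 2, 4⟩) (.one ⟨5502, 0, 9⟩)))) (.node 4 (.node 2 (.node 1 (.one ⟨16912, 0, 3⟩) (.one ⟨14859, 2, 7⟩)) (.node 1 (.one ⟨15834, 1, 3⟩) (.one ⟨7598, 0, 5⟩))) (.node 2 (.node 1 (.one ⟨11317, 0, 7⟩) (.one ⟨14344, 2, 4⟩))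 (.node 1 (.one ⟨1302, 0, 4⟩) (.one ⟨4915, 1, 1⟩))))) (.node 8 (.node 4 (.node 2 (.node 1 (.one ⟨4982, 1, 1⟩) (.one ⟨16321, 1, 1⟩)) (.node 1 (.one ⟨16393, 1, 6⟩) (.one ⟨605, 2, 3⟩))) (.node 2 (.node 1 (.one ⟨9343, 2, 3⟩) (.one ⟨9237, 2, 3⟩)) (.node 1 (.one ⟨1106, 2, 8⟩) (.one ⟨10732, 0, 6⟩)))) (.node 4 (.node 2 (.node 1 (.one ⟨15524, 0, 6⟩) (.one ⟨4977, 0, 6⟩)) (.node 1 (.one ⟨7609, 0, 6⟩) (.one ⟨13935, 0, 6⟩))) (.node 2 (.node 1 (.one ⟨11138, 0, 6⟩) (.one ⟨11456, 1, 7⟩)) (.node 1 (.one ⟨10958, 2, 7⟩) (.one ⟨14879, 1, 8⟩)))))))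
def par7_8_3 : Arr Par :=
  (.node 32 (.node 16 (.node 8 (.node 4 (.node 2 (.node 1 (.one ⟨11582, 0, 6⟩) (.one ⟨7118, 2, 8⟩)) (.node 1 (.one ⟨718, 1, 6⟩) (.one ⟨8062, 2, 8⟩))) (.node 2 (.node 1 (.one ⟨12388, 0, 7⟩) (.one ⟨5491, 2, 6⟩)) (.node 1 (.one ⟨13464, 2, 7⟩) (.one ⟨8766, 1, 6⟩)))) (.node 4 (.node 2 (.node 1 (.one ⟨13480, 2, 7⟩) (.one ⟨11293, 1, 9⟩)) (.node 1 (.one ⟨10138, 2, 4⟩) (.one ⟨16169, 0, 5⟩))) (.node 2 (.node 1 (.one ⟨5191, 2, 7⟩) (.one ⟨16172, 0, 2⟩)) (.node 1 (.one ⟨3526, 1, 2⟩) (.one ⟨11440, 1, 4⟩))))) (.node 8 (.node 4 (.node 2 (.node 1 (.one ⟨6991, 1, 7⟩) (.one ⟨16286, 0, 4⟩)) (.node 1 (.one ⟨5368, 2, 3⟩) (.one ⟨14842, 1, 8⟩))) (.node 2 (.node 1 (.one ⟨3247, 1, 4⟩) (.one ⟨1887, 1, 6⟩)) (.node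 1 (.one ⟨14528, 1, 3⟩) (.one ⟨7688, 2, 6⟩)))) (.node 4 (.node 2 (.node 1 (.one ⟨2248, 1, 4⟩) (.one ⟨4534, 2, 6⟩)) (.node 1 (.one ⟨16189, 1, 7⟩) (.one ⟨11256, 2, 8⟩))) (.node 2 (.node 1 (.one ⟨15371, 1, 3⟩) (.one ⟨14300, 2, 6⟩)) (.node 1 (.one ⟨10966, 2, 8⟩) (.one ⟨11361, 0, 5⟩)))))) (.node 16 (.node 8 (.node 4 (.node 2 (.node 1 (.one ⟨4238, 1, 7⟩) (.one ⟨8903, 2, 8⟩)) (.node 1 (.one ⟨9835, 2, 4⟩) (.one ⟨14397, 2, 4⟩))) (.node 2 (.node 1 (.one ⟨4825, 2, 8⟩) (.one ⟨13885, 0, 6⟩)) (.node 1 (.one ⟨17121, 1, 7⟩) (.one ⟨11633, 0, 6⟩)))) (.node 4 (.node 2 (.node 1 (.one ⟨15539, 1, 9⟩) (.one ⟨6189, 2, 6⟩)) (.node 1 (.one ⟨208, 1, 9⟩) (.one ⟨10092, 2, 6⟩))) (.node 2 (.node 1 (.one ⟨2754, 0, 2⟩) (.one ⟨8692, 0, 6⟩))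 (.node 1 (.one ⟨15542, 1, 8⟩) (.one ⟨1769, 2, 9⟩))))) (.node 8 (.node 4 (.node 2 (.node 1 (.one ⟨14768, 1, 5⟩) (.one ⟨1089, 0, 7⟩)) (.node 1 (.one ⟨1432, 2, 4⟩) (.one ⟨8401, 1, 5⟩))) (.node 2 (.node 1 (.one ⟨9180, 2, 3⟩) (.one ⟨9779, 2, 4⟩)) (.node 1 (.one ⟨7676, 0, 8⟩) (.one ⟨6294, 0, 1⟩)))) (.node 4 (.node 2 (.node 1 (.one ⟨5076, 2, 3⟩) (.one ⟨16978, 2, 6⟩)) (.node 1 (.one ⟨136, 0, 7⟩) (.one ⟨8727, 1, 6⟩))) (.node 2 (.node 1 (.one ⟨7623, 0, 6⟩) (.one ⟨8405, 1, 7⟩)) (.node 1 (.one ⟨3701, 0, 2⟩) (.one ⟨14520, 2, 3⟩)))))))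
def par7_8_4 : Arr Par :=
  (.node 32 (.node 16 (.node 8 (.node 4 (.node 2 (.node 1 (.one ⟨9883, 2, 5⟩) (.one ⟨9881, 2, 5⟩)) (.node 1 (.one ⟨14523, 2, 3⟩) (.one ⟨14684, 1, 2⟩))) (.node 2 (.node 1 (.one ⟨14524, 2, 7⟩) (.one ⟨14519, 2, 4⟩)) (.node 1 (.one ⟨8546, 1, 2⟩) (.one ⟨16076, 0, 8⟩)))) (.node 4 (.node 2 (.node 1 (.one ⟨5168, 1, 4⟩) (.one ⟨10272, 0, 3⟩)) (.node 1 (.one ⟨5267, 1, 8⟩) (.one ⟨13074, 0, 3⟩))) (.node 2 (.node 1 (.one ⟨13254, 1, 2⟩) (.one ⟨5199, 1, 7⟩)) (.node 1 (.one ⟨14438, 0, 4⟩) (.one ⟨16496, 2, 3⟩))))) (.node 8 (.node 4 (.node 2 (.node 1 (.one ⟨13565, 1, 2⟩) (.one ⟨8309, 2, 2⟩)) (.node 1 (.one ⟨3601, 1, 7⟩) (.one ⟨11080, 1, 7⟩))) (.node 2 (.node 1 (.one ⟨12233, 1, 4⟩) (.one ⟨3745, 0, 5⟩))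 (.node 1 (.one ⟨4597, 1, 3⟩) (.one ⟨13799, 1, 2⟩)))) (.node 4 (.node 2 (.node 1 (.one ⟨16137, 1, 8⟩) (.one ⟨15175, 0, 5⟩)) (.node 1 (.one ⟨11797, 1, 3⟩) (.one ⟨5975, 0, 9⟩))) (.node 2 (.node 1 (.one ⟨15255, 1, 8⟩) (.one ⟨9227, 2, 4⟩)) (.node 1 (.one ⟨11327, 1, 5⟩) (.one ⟨12749, 0, 7⟩)))))) (.node 16 (.node 8 (.node 4 (.node 2 (.node 1 (.one ⟨904, 1, 4⟩) (.one ⟨10139, 1, 4⟩)) (.node 1 (.one ⟨15810, 2, 4⟩) (.one ⟨9187, 2, 3⟩))) (.node 2 (.node 1 (.one ⟨9848, 1, 8⟩) (.one ⟨1954, 1, 4⟩)) (.node 1 (.one ⟨5424, 1, 10⟩) (.one ⟨13628, 2, 1⟩)))) (.node 4 (.node 2 (.node 1 (.one ⟨631, 2, 2⟩) (.one ⟨2139, 2, 7⟩)) (.node 1 (.one ⟨12800, 1, 6⟩) (.one ⟨15877, 2, 6⟩))) (.node 2 (.node 1 (.one ⟨10505, 1, 6⟩) (.one ⟨3747, 2,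 6⟩)) (.node 1 (.one ⟨16037, 2, 3⟩) (.one ⟨331, 2, 3⟩))))) (.node 8 (.node 4 (.node 2 (.node 1 (.one ⟨9024, 1, 7⟩) (.one ⟨1314, 0, 7⟩)) (.node 1 (.one ⟨232, 2, 5⟩) (.one ⟨15563, 0, 4⟩))) (.node 2 (.node 1 (.one ⟨714, 2, 8⟩) (.one ⟨1039, 2, 1⟩)) (.node 1 (.one ⟨1009, 2, 4⟩) (.one ⟨11359, 0, 1⟩)))) (.node 4 (.node 2 (.node 1 (.one ⟨11359, 1, 1⟩) (.one ⟨9448, 0, 5⟩)) (.node 1 (.one ⟨5699, 1, 2⟩) (.one ⟨16395, 1, 1⟩))) (.node 2 (.node 1 (.one ⟨6277, 0, 5⟩) (.one ⟨4976, 1, 7⟩)) (.node 1 (.one ⟨9519, 2, 8⟩) (.one ⟨1319, 0, 3⟩)))))))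
def par7_8_5 : Arr Par :=
  (.node 32 (.node 16 (.node 8 (.node 4 (.node 2 (.node 1 (.one ⟨11881, 0, 9⟩) (.one ⟨3572, 2, 1⟩)) (.node 1 (.one ⟨2465, 1, 4⟩) (.one ⟨1350, 2, 8⟩))) (.node 2 (.node 1 (.one ⟨13202, 1, 6⟩) (.one ⟨8589, 2, 8⟩)) (.node 1 (.one ⟨9494, 1, 4⟩) (.one ⟨14304, 1, 4⟩)))) (.node 4 (.node 2 (.node 1 (.one ⟨2363, 0, 4⟩) (.one ⟨8053, 2, 7⟩)) (.node 1 (.one ⟨5951, 2, 3⟩) (.one ⟨9454, 0, 3⟩))) (.node 2 (.node 1 (.one ⟨8129, 1, 4⟩) (.one ⟨11607, 1, 4⟩)) (.node 1 (.one ⟨1348, 2, 6⟩) (.one ⟨535, 0, 5⟩))))) (.node 8 (.node 4 (.node 2 (.node 1 (.one ⟨9218, 2, 3⟩) (.one ⟨5738, 1, 10⟩)) (.node 1 (.one ⟨8525, 2, 5⟩) (.one ⟨16150, 1, 6⟩))) (.node 2 (.node 1 (.one ⟨110, 0, 3⟩) (.one ⟨6830, 0, 8⟩)) (.node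 1 (.one ⟨3920, 1, 8⟩) (.one ⟨12513, 1, 4⟩)))) (.node 4 (.node 2 (.node 1 (.one ⟨16082, 1, 8⟩) (.one ⟨6625, 0, 5⟩)) (.node 1 (.one ⟨6021, 2, 2⟩) (.one ⟨6022, 2, 6⟩))) (.node 2 (.node 1 (.one ⟨5736, 1, 4⟩) (.one ⟨9486, 0, 2⟩)) (.node 1 (.one ⟨6015, 2, 8⟩) (.one ⟨210, 0, 4⟩)))))) (.node 16 (.node 8 (.node 4 (.node 2 (.node 1 (.one ⟨3945, 2, 4⟩) (.one ⟨6028, 1, 7⟩)) (.node 1 (.one ⟨6876, 0, 1⟩) (.one ⟨9229, 0, 7⟩))) (.node 2 (.node 1 (.one ⟨7498, 2, 5⟩) (.one ⟨5065, 1, 7⟩)) (.node 1 (.one ⟨9122, 1, 3⟩) (.one ⟨7006, 0, 6⟩)))) (.node 4 (.node 2 (.node 1 (.one ⟨17109, 1, 5⟩) (.one ⟨8444, 1, 7⟩)) (.node 1 (.one ⟨2351, 1, 3⟩) (.one ⟨5952, 2, 4⟩))) (.node 2 (.node 1 (.one ⟨8958, 1, 5⟩) (.one ⟨4915, 0, 1⟩)) (.node 1 (.one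 ⟨3165, 2, 4⟩) (.one ⟨11735, 1, 5⟩))))) (.node 8 (.node 4 (.node 2 (.node 1 (.one ⟨5343, 2, 4⟩) (.one ⟨16307, 1, 8⟩)) (.node 1 (.one ⟨7599, 2, 6⟩) (.one ⟨8799, 2, 5⟩))) (.node 2 (.node 1 (.one ⟨17079, 1, 7⟩) (.one ⟨6770, 0, 9⟩)) (.node 1 (.one ⟨3137, 2, 4⟩) (.one ⟨12565, 2, 7⟩)))) (.node 4 (.node 2 (.node 1 (.one ⟨14112, 2, 4⟩) (.one ⟨15448, 2, 8⟩)) (.node 1 (.one ⟨12702, 2, 6⟩) (.one ⟨7075, 2, 5⟩))) (.node 2 (.node 1 (.one ⟨9477, 0, 2⟩) (.one ⟨3554, 2, 6⟩)) (.node 1 (.one ⟨6260, 2, 6⟩) (.one ⟨16296, 2, 8⟩)))))))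
def par7_8_6 : Arr Par :=
  (.node 32 (.node 16 (.node 8 (.node 4 (.node 2 (.node 1 (.one ⟨14379, 2, 4⟩) (.one ⟨531, 0, 5⟩)) (.node 1 (.one ⟨8232, 1, 5⟩) (.one ⟨510, 0, 3⟩))) (.node 2 (.node 1 (.one ⟨4007, 2, 8⟩) (.one ⟨490, 0, 3⟩)) (.node 1 (.one ⟨8188, 1, 3⟩) (.one ⟨7801, 0, 6⟩)))) (.node 4 (.node 2 (.node 1 (.one ⟨13752, 2, 8⟩) (.one ⟨8624, 0, 6⟩)) (.node 1 (.one ⟨12256, 1, 9⟩) (.one ⟨5044, 1, 6⟩))) (.node 2 (.node 1 (.one ⟨9481, 0, 5⟩) (.one ⟨5130, 1, 7⟩)) (.node 1 (.one ⟨2982, 2, 7⟩) (.one ⟨2489, 1, 6⟩))))) (.node 8 (.node 4 (.node 2 (.node 1 (.one ⟨6553, 1, 6⟩) (.one ⟨6278, 1, 9⟩)) (.node 1 (.one ⟨2230, 1, 4⟩) (.one ⟨8814, 2, 8⟩))) (.node 2 (.node 1 (.one ⟨6029, 1, 3⟩) (.one ⟨5598, 1, 7⟩)) (.node 1 (.one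 ⟨911, 1, 9⟩) (.one ⟨2353, 1, 4⟩)))) (.node 4 (.node 2 (.node 1 (.one ⟨10499, 1, 6⟩) (.one ⟨2573, 2, 7⟩)) (.node 1 (.one ⟨2421, 1, 1⟩) (.one ⟨10463, 1, 1⟩))) (.node 2 (.node 1 (.one ⟨2452, 1, 3⟩) (.one ⟨2386, 1, 3⟩)) (.node 1 (.one ⟨10531, 1, 6⟩) (.one ⟨11558, 2, 7⟩)))))) (.node 16 (.node 8 (.node 4 (.node 2 (.node 1 (.one ⟨10851, 1, 6⟩) (.one ⟨747, 2, 5⟩)) (.node 1 (.one ⟨6626, 1, 5⟩) (.one ⟨3766, 0, 7⟩))) (.node 2 (.node 1 (.one ⟨10501, 1, 5⟩) (.one ⟨2192, 1, 6⟩)) (.node 1 (.one ⟨10163, 2, 8⟩) (.one ⟨10541, 1, 8⟩)))) (.node 4 (.node 2 (.node 1 (.one ⟨7165, 1, 5⟩) (.one ⟨674, 1, 5⟩)) (.node 1 (.one ⟨14819, 1, 4⟩) (.one ⟨13804, 2, 4⟩))) (.node 2 (.node 1 (.one ⟨15199, 1, 4⟩) (.one ⟨9640, 1, 4⟩)) (.node 1 (.one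 ⟨6769, 1, 8⟩) (.one ⟨8364, 1, 8⟩))))) (.node 8 (.node 4 (.node 2 (.node 1 (.one ⟨1144, 2, 5⟩) (.one ⟨5312, 1, 2⟩)) (.node 1 (.one ⟨9417, 2, 5⟩) (.one ⟨409, 1, 3⟩))) (.node 2 (.node 1 (.one ⟨10596, 1, 4⟩) (.one ⟨6328, 2, 4⟩)) (.node 1 (.one ⟨9513, 2, 8⟩) (.one ⟨10897, 1, 9⟩)))) (.node 4 (.node 2 (.node 1 (.one ⟨15754, 0, 3⟩) (.one ⟨3761, 0, 4⟩)) (.node 1 (.one ⟨4141, 2, 7⟩) (.one ⟨4372, 1, 5⟩))) (.node 2 (.node 1 (.one ⟨1446, 1, 5⟩) (.one ⟨13516, 1, 6⟩)) (.node 1 (.one ⟨11099, 2, 8⟩) (.one ⟨5704, 1, 4⟩)))))))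
def par7_8_7 : Arr Par :=
  (.node 32 (.node 16 (.node 8 (.node 4 (.node 2 (.node 1 (.one ⟨3348, 1, 8⟩) (.one ⟨904, 2, 4⟩)) (.node 1 (.one ⟨14063, 2, 3⟩) (.one ⟨12525, 1, 3⟩))) (.node 2 (.node 1 (.one ⟨16189, 2, 7⟩) (.one ⟨15673, 0, 4⟩)) (.node 1 (.one ⟨13006, 1, 2⟩) (.one ⟨4773, 1, 5⟩)))) (.node 4 (.node 2 (.node 1 (.one ⟨4029, 1, 0⟩) (.one ⟨12685, 1, 8⟩)) (.node 1 (.one ⟨3815, 2, 4⟩) (.one ⟨10196, 1, 1⟩))) (.node 2 (.node 1 (.one ⟨4473, 1, 6⟩) (.one ⟨2003, 1, 8⟩)) (.node 1 (.one ⟨12478, 1, 8⟩) (.one ⟨15707, 2, 3⟩))))) (.node 8 (.node 4 (.node 2 (.node 1 (.one ⟨167, 1, 5⟩) (.one ⟨666, 1, 7⟩)) (.node 1 (.one ⟨5974, 2, 2⟩) (.one ⟨10996, 1, 5⟩))) (.node 2 (.node 1 (.one ⟨3856, 2, 8⟩) (.one ⟨10994, 1, 8⟩)) (.node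 1 (.one ⟨12079, 2, 6⟩) (.one ⟨17008, 1, 4⟩)))) (.node 4 (.node 2 (.node 1 (.one ⟨7539, 0, 3⟩) (.one ⟨14265, 1, 7⟩)) (.node 1 (.one ⟨692, 1, 8⟩) (.one ⟨5238, 2, 9⟩))) (.node 2 (.node 1 (.one ⟨7941, 1, 8⟩) (.one ⟨11481, 1, 4⟩)) (.node 1 (.one ⟨7003, 1, 8⟩) (.one ⟨3985, 1, 9⟩)))))) (.node 16 (.node 8 (.node 4 (.node 2 (.node 1 (.one ⟨16317, 0, 5⟩) (.one ⟨15555, 2, 7⟩)) (.node 1 (.one ⟨9382, 2, 4⟩) (.one ⟨13215, 1, 3⟩))) (.node 2 (.node 1 (.one ⟨8301, 2, 4⟩) (.one ⟨7523, 2, 8⟩)) (.node 1 (.one ⟨639, 2, 5⟩) (.one ⟨6019, 0, 8⟩)))) (.node 4 (.node 2 (.node 1 (.one ⟨15493, 0, 5⟩) (.one ⟨7705, 1, 7⟩)) (.node 1 (.one ⟨3568, 0, 8⟩) (.one ⟨1919, 2, 5⟩))) (.node 2 (.node 1 (.one ⟨2067, 1, 7⟩) (.one ⟨15551, 2, 4⟩)) (.node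 1 (.one ⟨10585, 2, 3⟩) (.one ⟨15496, 0, 6⟩))))) (.node 8 (.node 4 (.node 2 (.node 1 (.one ⟨9950, 0, 7⟩) (.one ⟨7997, 2, 8⟩)) (.node 1 (.one ⟨15285, 0, 5⟩) (.one ⟨8013, 2, 5⟩))) (.node 2 (.node 1 (.one ⟨9410, 2, 5⟩) (.one ⟨4007, 1, 0⟩)) (.node 1 (.one ⟨16831, 1, 3⟩) (.one ⟨2850, 1, 4⟩)))) (.node 4 (.node 2 (.node 1 (.one ⟨5905, 1, 8⟩) (.one ⟨11042, 1, 8⟩)) (.node 1 (.one ⟨3529, 0, 5⟩) (.one ⟨5201, 1, 7⟩))) (.node 2 (.node 1 (.one ⟨8193, 1, 3⟩) (.one ⟨3420, 2, 4⟩)) (.node 1 (.one ⟨16386, 1, 8⟩) (.one ⟨6739, 2, 5⟩)))))))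
def par7_8_8 : Arr Par :=
  (.node 32 (.node 16 (.node 8 (.node 4 (.node 2 (.node 1 (.one ⟨4283, 0, 4⟩) (.one ⟨7600, 2, 7⟩)) (.node 1 (.one ⟨4808, 2, 5⟩) (.one ⟨2986, 1, 5⟩))) (.node 2 (.node 1 (.one ⟨7614, 2, 6⟩) (.one ⟨11516, 1, 3⟩)) (.node 1 (.one ⟨6744, 2, 7⟩) (.one ⟨2928, 1, 5⟩)))) (.node 4 (.node 2 (.node 1 (.one ⟨2829, 1, 4⟩) (.one ⟨2178, 1, 7⟩)) (.node 1 (.one ⟨10287, 2, 3⟩) (.one ⟨9145, 1, 4⟩))) (.node 2 (.node 1 (.one ⟨8444, 2, 7⟩) (.one ⟨10842, 1, 4⟩)) (.node 1 (.one ⟨13136, 2, 9⟩) (.one ⟨3976, 1, 0⟩))))) (.node 8 (.node 4 (.node 2 (.node 1 (.one ⟨7599, 1, 6⟩) (.one ⟨16313, 0, 5⟩)) (.node 1 (.one ⟨4918, 0, 9⟩) (.one ⟨4856, 2, 8⟩))) (.node 2 (.node 1 (.one ⟨6025, 2, 4⟩) (.one ⟨9422, 2, 4⟩)) (.node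 1 (.one ⟨281, 1, 3⟩) (.one ⟨15705, 1, 5⟩)))) (.node 4 (.node 2 (.node 1 (.one ⟨4349, 0, 6⟩) (.one ⟨4265, 0, 6⟩)) (.node 1 (.one ⟨1745, 1, 7⟩) (.one ⟨3180, 1, 4⟩))) (.node 2 (.node 1 (.one ⟨6347, 1, 8⟩) (.one ⟨14085, 2, 6⟩)) (.node 1 (.one ⟨14084, 2, 6⟩) (.one ⟨3515, 0, 3⟩)))))) (.node 16 (.node 8 (.node 4 (.node 2 (.node 1 (.one ⟨15635, 1, 5⟩) (.one ⟨12194, 0, 6⟩)) (.node 1 (.one ⟨11547, 1, 6⟩) (.one ⟨11402, 2, 7⟩))) (.node 2 (.node 1 (.one ⟨6782, 2, 4⟩) (.one ⟨11620, 2, 4⟩)) (.node 1 (.one ⟨8159, 2, 7⟩) (.one ⟨8047, 0, 4⟩)))) (.node 4 (.node 2 (.node 1 (.one ⟨9050, 2, 9⟩) (.one ⟨5468, 2, 5⟩)) (.node 1 (.one ⟨14444, 1, 6⟩) (.one ⟨8208, 0, 9⟩))) (.node 2 (.node 1 (.one ⟨2264, 1, 5⟩) (.one ⟨13815, 1, 4⟩)) (.node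 1 (.one ⟨8058, 2, 4⟩) (.one ⟨9772, 1, 7⟩))))) (.node 8 (.node 4 (.node 2 (.node 1 (.one ⟨8319, 1, 5⟩) (.one ⟨4747, 1, 8⟩)) (.node 1 (.one ⟨15648, 1, 7⟩) (.one ⟨11846, 1, 4⟩))) (.node 2 (.node 1 (.one ⟨897, 0, 5⟩) (.one ⟨3062, 1, 8⟩)) (.node 1 (.one ⟨2676, 0, 7⟩) (.one ⟨16119, 0, 6⟩)))) (.node 4 (.node 2 (.node 1 (.one ⟨10685, 1, 6⟩) (.one ⟨15597, 1, 8⟩)) (.node 1 (.one ⟨1103, 1, 4⟩) (.one ⟨14181, 1, 5⟩))) (.node 2 (.node 1 (.one ⟨3251, 1, 7⟩) (.one ⟨6298, 1, 5⟩)) (.node 1 (.one ⟨10932, 1, 5⟩) (.one ⟨3210, 1, 6⟩)))))))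
def par7_8_9 : Arr Par :=
  (.node 32 (.node 16 (.node 8 (.node 4 (.node 2 (.node 1 (.one ⟨16423, 1, 5⟩) (.one ⟨15124, 0, 9⟩)) (.node 1 (.one ⟨5997, 2, 5⟩) (.one ⟨13537, 1, 4⟩))) (.node 2 (.node 1 (.one ⟨1703, 2, 8⟩) (.one ⟨13800, 0, 4⟩)) (.node 1 (.one ⟨12886, 2, 6⟩) (.one ⟨10204, 1, 4⟩)))) (.node 4 (.node 2 (.node 1 (.one ⟨5587, 1, 5⟩) (.one ⟨13480, 1, 7⟩)) (.node 1 (.one ⟨5911, 2, 4⟩) (.one ⟨16243, 1, 8⟩))) (.node 2 (.node 1 (.one ⟨16483, 0, 7⟩) (.one ⟨10018, 2, 6⟩)) (.node 1 (.one ⟨1841, 0, 4⟩) (.one ⟨5608, 1, 5⟩))))) (.node 8 (.node 4 (.node 2 (.node 1 (.one ⟨4317, 1, 3⟩) (.one ⟨12874, 0, 9⟩)) (.node 1 (.one ⟨11963, 0, 4⟩) (.one ⟨7470, 0, 6⟩))) (.node 2 (.node 1 (.one ⟨8554, 1, 4⟩) (.one ⟨7231, 1, 4⟩))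 (.node 1 (.one ⟨4949, 1, 8⟩) (.one ⟨16800, 2, 2⟩)))) (.node 4 (.node 2 (.node 1 (.one ⟨13124, 2, 2⟩) (.one ⟨13126, 2, 5⟩)) (.node 1 (.one ⟨2881, 1, 3⟩) (.one ⟨90, 1, 5⟩))) (.node 2 (.node 1 (.one ⟨16801, 2, 5⟩) (.one ⟨16799, 2, 6⟩)) (.node 1 (.one ⟨3118, 0, 3⟩) (.one ⟨5875, 1, 4⟩)))))) (.node 16 (.node 8 (.node 4 (.node 2 (.node 1 (.one ⟨8950, 0, 3⟩) (.one ⟨6383, 2, 5⟩)) (.node 1 (.one ⟨4193, 1, 0⟩) (.one ⟨12360, 0, 5⟩))) (.node 2 (.node 1 (.one ⟨11112, 2, 4⟩) (.one ⟨5187, 0, 3⟩)) (.node 1 (.one ⟨5273, 2, 3⟩) (.one ⟨8235, 0, 2⟩)))) (.node 4 (.node 2 (.node 1 (.one ⟨10904, 0, 5⟩) (.one ⟨10853, 2, 4⟩)) (.node 1 (.one ⟨6445, 2, 7⟩) (.one ⟨8599, 2, 5⟩))) (.node 2 (.node 1 (.one ⟨12447, 2, 9⟩) (.one ⟨3892, 1, 6⟩))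 (.node 1 (.one ⟨5871, 1, 7⟩) (.one ⟨6916, 2, 7⟩))))) (.node 8 (.node 4 (.node 2 (.node 1 (.one ⟨17181, 2, 3⟩) (.one ⟨9762, 1, 5⟩)) (.node 1 (.one ⟨5123, 0, 6⟩) (.one ⟨11341, 2, 4⟩))) (.node 2 (.node 1 (.one ⟨15202, 0, 9⟩) (.one ⟨4517, 2, 5⟩)) (.node 1 (.one ⟨9146, 1, 1⟩) (.one ⟨6441, 2, 2⟩)))) (.node 4 (.node 2 (.node 1 (.one ⟨3507, 1, 4⟩) (.one ⟨13825, 1, 5⟩)) (.node 1 (.one ⟨7564, 1, 8⟩) (.one ⟨8384, 2, 7⟩))) (.node 2 (.node 1 (.one ⟨8099, 1, 4⟩) (.one ⟨10200, 1, 9⟩)) (.node 1 (.one ⟨5242, 0, 4⟩) (.one ⟨4933, 2, 5⟩)))))))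
def par7_8_10 : Arr Par :=
  (.node 32 (.node 16 (.node 8 (.node 4 (.node 2 (.node 1 (.one ⟨15647, 1, 4⟩) (.one ⟨7142, 1, 6⟩)) (.node 1 (.one ⟨329, 0, 2⟩) (.one ⟨1597, 2, 4⟩))) (.node 2 (.node 1 (.one ⟨15137, 1, 2⟩) (.one ⟨6766, 1, 2⟩)) (.node 1 (.one ⟨2437, 1, 6⟩) (.one ⟨8451, 2, 3⟩)))) (.node 4 (.node 2 (.node 1 (.one ⟨4557, 2, 6⟩) (.one ⟨16293, 0, 3⟩)) (.node 1 (.one ⟨9498, 1, 7⟩) (.one ⟨16361, 0, 5⟩))) (.node 2 (.node 1 (.one ⟨450, 2, 3⟩) (.one ⟨4652, 2, 6⟩)) (.node 1 (.one ⟨5786, 1, 4⟩) (.one ⟨659, 1, 7⟩))))) (.node 8 (.node 4 (.node 2 (.node 1 (.one ⟨5275, 2, 6⟩) (.one ⟨13616, 1, 3⟩)) (.node 1 (.one ⟨1858, 2, 4⟩) (.one ⟨7233, 1, 2⟩))) (.node 2 (.node 1 (.one ⟨4765, 2, 3⟩) (.one ⟨11262, 1, 8⟩)) (.node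 1 (.one ⟨2608, 2, 3⟩) (.one ⟨7431, 1, 3⟩)))) (.node 4 (.node 2 (.node 1 (.one ⟨3008, 1, 2⟩) (.one ⟨507, 1, 7⟩)) (.node 1 (.one ⟨5322, 0, 5⟩) (.one ⟨11010, 2, 7⟩))) (.node 2 (.node 1 (.one ⟨7188, 0, 7⟩) (.one ⟨14299, 2, 5⟩)) (.node 1 (.one ⟨8367, 1, 2⟩) (.one ⟨9720, 1, 9⟩)))))) (.node 16 (.node 8 (.node 4 (.node 2 (.node 1 (.one ⟨12861, 0, 8⟩) (.one ⟨1168, 1, 1⟩)) (.node 1 (.one ⟨4248, 0, 5⟩) (.one ⟨15278, 1, 6⟩))) (.node 2 (.node 1 (.one ⟨9806, 2, 3⟩) (.one ⟨7235, 1, 5⟩)) (.node 1 (.one ⟨15355, 1, 6⟩) (.one ⟨3851, 2, 7⟩)))) (.node 4 (.node 2 (.node 1 (.one ⟨3329, 1, 10⟩) (.one ⟨11216, 2, 6⟩)) (.node 1 (.one ⟨15406, 0, 5⟩) (.one ⟨777, 1, 6⟩))) (.node 2 (.node 1 (.one ⟨12374, 0, 7⟩) (.one ⟨10736, 2, 6⟩)) (.node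 1 (.one ⟨2589, 2, 3⟩) (.one ⟨12275, 1, 8⟩))))) (.node 8 (.node 4 (.node 2 (.node 1 (.one ⟨1937, 0, 5⟩) (.one ⟨13541, 2, 6⟩)) (.node 1 (.one ⟨2860, 1, 4⟩) (.one ⟨2766, 1, 4⟩))) (.node 2 (.node 1 (.one ⟨12882, 2, 4⟩) (.one ⟨13545, 1, 4⟩)) (.node 1 (.one ⟨9294, 0, 1⟩) (.one ⟨7716, 1, 3⟩)))) (.node 4 (.node 2 (.node 1 (.one ⟨8640, 2, 9⟩) (.one ⟨254, 1, 3⟩)) (.node 1 (.one ⟨6570, 1, 5⟩) (.one ⟨6152, 1, 2⟩))) (.node 2 (.node 1 (.one ⟨2418, 1, 6⟩) (.one ⟨14467, 2, 2⟩)) (.node 1 (.one ⟨8198, 1, 7⟩) (.one ⟨3480, 0, 3⟩)))))))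
def par7_8_11 : Arr Par :=
  (.node 32 (.node 16 (.node 8 (.node 4 (.node 2 (.node 1 (.one ⟨1687, 2, 7⟩) (.one ⟨9293, 0, 3⟩)) (.node 1 (.one ⟨15423, 1, 5⟩) (.one ⟨13789, 1, 9⟩))) (.node 2 (.node 1 (.one ⟨10514, 1, 3⟩) (.one ⟨15388, 2, 8⟩)) (.node 1 (.one ⟨3169, 1, 5⟩) (.one ⟨7381, 0, 7⟩)))) (.node 4 (.node 2 (.node 1 (.one ⟨12275, 2, 8⟩) (.one ⟨16134, 2, 7⟩)) (.node 1 (.one ⟨9320, 0, 7⟩) (.one ⟨7411, 1, 8⟩))) (.node 2 (.node 1 (.one ⟨15441, 1, 4⟩) (.one ⟨15497, 0, 8⟩)) (.node 1 (.one ⟨7253, 0, 7⟩) (.one ⟨4473, 0, 6⟩))))) (.node 8 (.node 4 (.node 2 (.node 1 (.one ⟨9323, 0, 5⟩) (.one ⟨2901, 1, 9⟩)) (.node 1 (.one ⟨10954, 2, 4⟩) (.one ⟨9778, 0, 8⟩))) (.node 2 (.node 1 (.one ⟨897, 2, 5⟩) (.one ⟨12354, 2, 7⟩)) (.node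 1 (.one ⟨8686, 0, 4⟩) (.one ⟨9765, 2, 8⟩)))) (.node 4 (.node 2 (.node 1 (.one ⟨12478, 0, 8⟩) (.one ⟨15201, 1, 6⟩)) (.node 1 (.one ⟨7195, 1, 8⟩) (.one ⟨9690, 1, 8⟩))) (.node 2 (.node 1 (.one ⟨9291, 0, 5⟩) (.one ⟨11529, 0, 5⟩)) (.node 1 (.one ⟨4050, 0, 4⟩) (.one ⟨9319, 0, 3⟩)))))) (.node 16 (.node 8 (.node 4 (.node 2 (.node 1 (.one ⟨2125, 1, 6⟩) (.one ⟨6369, 2, 5⟩)) (.node 1 (.one ⟨11999, 2, 6⟩) (.one ⟨4237, 0, 4⟩))) (.node 2 (.node 1 (.one ⟨6428, 1, 8⟩) (.one ⟨17187, 1, 5⟩)) (.node 1 (.one ⟨4832, 2, 4⟩) (.one ⟨9916, 2, 2⟩)))) (.node 4 (.node 2 (.node 1 (.one ⟨1939, 2, 5⟩) (.one ⟨148, 2, 6⟩)) (.node 1 (.one ⟨9720, 2, 9⟩) (.one ⟨2216, 2, 3⟩))) (.node 2 (.node 1 (.one ⟨10082, 2, 6⟩) (.one ⟨9888, 2, 5⟩)) (.node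 1 (.one ⟨1730, 2, 2⟩) (.one ⟨3888, 1, 2⟩))))) (.node 8 (.node 4 (.node 2 (.node 1 (.one ⟨10920, 2, 7⟩) (.one ⟨1712, 1, 2⟩)) (.node 1 (.one ⟨12131, 0, 6⟩) (.one ⟨10133, 1, 5⟩))) (.node 2 (.node 1 (.one ⟨12022, 1, 7⟩) (.one ⟨1188, 0, 1⟩)) (.node 1 (.one ⟨7008, 2, 2⟩) (.one ⟨14332, 2, 4⟩)))) (.node 4 (.node 2 (.node 1 (.one ⟨2662, 2, 8⟩) (.one ⟨13410, 0, 6⟩)) (.node 1 (.one ⟨6100, 2, 6⟩) (.one ⟨4066, 1, 8⟩))) (.node 2 (.node 1 (.one ⟨12115, 1, 3⟩) (.one ⟨4133, 1, 9⟩)) (.node 1 (.one ⟨2913, 2, 4⟩) (.one ⟨2979, 0, 5⟩)))))))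
def par7_8_12 : Arr Par :=
  (.node 32 (.node 16 (.node 8 (.node 4 (.node 2 (.node 1 (.one ⟨13160, 0, 9⟩) (.one ⟨5058, 1, 7⟩)) (.node 1 (.one ⟨12370, 0, 5⟩) (.one ⟨7950, 0, 5⟩))) (.node 2 (.node 1 (.one ⟨5708, 1, 5⟩) (.one ⟨17170, 1, 8⟩)) (.node 1 (.one ⟨15613, 0, 4⟩) (.one ⟨7549, 2, 8⟩)))) (.node 4 (.node 2 (.node 1 (.one ⟨15450, 0, 4⟩) (.one ⟨6697, 1, 8⟩)) (.node 1 (.one ⟨16803, 1, 7⟩) (.one ⟨1865, 2, 4⟩))) (.node 2 (.node 1 (.one ⟨1394, 1, 6⟩) (.one ⟨5234, 0, 3⟩)) (.node 1 (.one ⟨15563, 1, 4⟩) (.one ⟨11769, 1, 4⟩))))) (.node 8 (.node 4 (.node 2 (.node 1 (.one ⟨3679, 2, 3⟩) (.one ⟨400, 1, 5⟩)) (.node 1 (.one ⟨11467, 1, 6⟩) (.one ⟨4512, 1, 4⟩))) (.node 2 (.node 1 (.one ⟨12838, 1, 4⟩) (.one ⟨10535, 1, 6⟩))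 (.node 1 (.one ⟨2899, 1, 6⟩) (.one ⟨10703, 2, 6⟩)))) (.node 4 (.node 2 (.node 1 (.one ⟨2731, 2, 5⟩) (.one ⟨5320, 1, 7⟩)) (.node 1 (.one ⟨5917, 2, 4⟩) (.one ⟨11105, 1, 8⟩))) (.node 2 (.node 1 (.one ⟨12111, 1, 6⟩) (.one ⟨4930, 1, 8⟩)) (.node 1 (.one ⟨4756, 2, 5⟩) (.one ⟨1265, 2, 3⟩)))))) (.node 16 (.node 8 (.node 4 (.node 2 (.node 1 (.one ⟨329, 2, 2⟩) (.one ⟨5745, 2, 4⟩)) (.node 1 (.one ⟨1373, 1, 5⟩) (.one ⟨1727, 2, 4⟩))) (.node 2 (.node 1 (.one ⟨1725, 2, 7⟩) (.one ⟨5584, 2, 4⟩)) (.node 1 (.one ⟨5608, 2, 5⟩) (.one ⟨2078, 1, 5⟩)))) (.node 4 (.node 2 (.node 1 (.one ⟨5720, 2, 3⟩) (.one ⟨5722, 2, 5⟩)) (.node 1 (.one ⟨5724, 2, 5⟩) (.one ⟨5719, 2, 4⟩))) (.node 2 (.node 1 (.one ⟨1184, 0, 7⟩) (.one ⟨5552, 1, 4⟩)) (.node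 1 (.one ⟨5721, 2, 7⟩) (.one ⟨10126, 1, 4⟩))))) (.node 8 (.node 4 (.node 2 (.node 1 (.one ⟨16442, 1, 6⟩) (.one ⟨10589, 1, 6⟩)) (.node 1 (.one ⟨12271, 0, 6⟩) (.one ⟨13884, 1, 7⟩))) (.node 2 (.node 1 (.one ⟨13083, 1, 6⟩) (.one ⟨14371, 1, 7⟩)) (.node 1 (.one ⟨14039, 2, 5⟩) (.one ⟨1945, 2, 8⟩)))) (.node 4 (.node 2 (.node 1 (.one ⟨6258, 2, 5⟩) (.one ⟨3357, 1, 6⟩)) (.node 1 (.one ⟨2730, 2, 5⟩) (.one ⟨2383, 2, 3⟩))) (.node 2 (.node 1 (.one ⟨6148, 2, 5⟩) (.one ⟨6521, 2, 1⟩)) (.node 1 (.one ⟨1079, 2, 3⟩) (.one ⟨16563, 1, 8⟩)))))))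
def par7_8_13 : Arr Par :=
  (.node 32 (.node 16 (.node 8 (.node 4 (.node 2 (.node 1 (.one ⟨3072, 2, 6⟩) (.one ⟨5069, 1, 8⟩)) (.node 1 (.one ⟨15798, 1, 5⟩) (.one ⟨7669, 1, 5⟩))) (.node 2 (.node 1 (.one ⟨13283, 1, 3⟩) (.one ⟨12388, 1, 7⟩)) (.node 1 (.one ⟨8360, 2, 4⟩) (.one ⟨8397, 2, 3⟩)))) (.node 4 (.node 2 (.node 1 (.one ⟨15339, 2, 4⟩) (.one ⟨1402, 0, 6⟩)) (.node 1 (.one ⟨12384, 1, 7⟩) (.one ⟨14574, 0, 5⟩))) (.node 2 (.node 1 (.one ⟨15986, 1, 5⟩) (.one ⟨10889, 1, 4⟩)) (.node 1 (.one ⟨1445, 1, 3⟩) (.one ⟨7461, 1, 2⟩))))) (.node 8 (.node 4 (.node 2 (.node 1 (.one ⟨16007, 1, 4⟩) (.one ⟨17139, 2, 5⟩)) (.node 1 (.one ⟨13818, 0, 1⟩) (.one ⟨3317, 2, 5⟩))) (.node 2 (.node 1 (.one ⟨2513, 2, 5⟩) (.one ⟨10588, 1, 8⟩))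 (.node 1 (.one ⟨5988, 2, 6⟩) (.one ⟨13837, 1, 2⟩)))) (.node 4 (.node 2 (.node 1 (.one ⟨4588, 2, 3⟩) (.one ⟨1403, 0, 3⟩)) (.node 1 (.one ⟨5695, 1, 8⟩) (.one ⟨7644, 0, 5⟩))) (.node 2 (.node 1 (.one ⟨13801, 1, 9⟩) (.one ⟨14962, 2, 4⟩)) (.node 1 (.one ⟨4149, 0, 5⟩) (.one ⟨5534, 1, 4⟩)))))) (.node 16 (.node 8 (.node 4 (.node 2 (.node 1 (.one ⟨3982, 1, 0⟩) (.one ⟨15689, 2, 8⟩)) (.node 1 (.one ⟨16090, 1, 4⟩) (.one ⟨3950, 2, 4⟩))) (.node 2 (.node 1 (.one ⟨12383, 1, 7⟩) (.one ⟨1911, 2, 5⟩)) (.node 1 (.one ⟨10849, 1, 5⟩) (.one ⟨10419, 2, 8⟩)))) (.node 4 (.node 2 (.node 1 (.one ⟨7906, 1, 5⟩) (.one ⟨5157, 1, 6⟩)) (.node 1 (.one ⟨16543, 1, 5⟩) (.one ⟨7513, 1, 5⟩))) (.node 2 (.node 1 (.one ⟨10971, 1, 9⟩) (.one ⟨14263, 1,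 7⟩)) (.node 1 (.one ⟨919, 1, 8⟩) (.one ⟨6520, 2, 5⟩))))) (.node 8 (.node 4 (.node 2 (.node 1 (.one ⟨9767, 2, 9⟩) (.one ⟨14162, 2, 9⟩)) (.node 1 (.one ⟨2386, 2, 3⟩) (.one ⟨6367, 2, 3⟩))) (.node 2 (.node 1 (.one ⟨10032, 2, 9⟩) (.one ⟨13710, 2, 7⟩)) (.node 1 (.one ⟨2572, 2, 6⟩) (.one ⟨14380, 2, 7⟩)))) (.node 4 (.node 2 (.node 1 (.one ⟨6871, 1, 5⟩) (.one ⟨839, 0, 5⟩)) (.node 1 (.one ⟨16671, 1, 6⟩) (.one ⟨15414, 0, 6⟩))) (.node 2 (.node 1 (.one ⟨15413, 0, 8⟩) (.one ⟨89, 0, 2⟩)) (.node 1 (.one ⟨16098, 2, 7⟩) (.one ⟨6461, 2, 4⟩)))))))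
def par7_8_14 : Arr Par :=
  (.node 32 (.node 16 (.node 8 (.node 4 (.node 2 (.node 1 (.one ⟨3401, 0, 4⟩) (.one ⟨6456, 2, 4⟩)) (.node 1 (.one ⟨6460, 2, 3⟩) (.one ⟨3361, 1, 9⟩))) (.node 2 (.node 1 (.one ⟨6459, 2, 8⟩) (.one ⟨15650, 0, 3⟩)) (.node 1 (.one ⟨3360, 1, 7⟩) (.one ⟨17136, 2, 6⟩)))) (.node 4 (.node 2 (.node 1 (.one ⟨4041, 1, 0⟩) (.one ⟨14993, 2, 9⟩)) (.node 1 (.one ⟨15468, 0, 5⟩) (.one ⟨1018, 1, 2⟩))) (.node 2 (.node 1 (.one ⟨349, 1, 5⟩) (.one ⟨1017, 1, 7⟩)) (.node 1 (.one ⟨359, 1, 7⟩) (.one ⟨766, 0, 8⟩))))) (.node 8 (.node 4 (.node 2 (.node 1 (.one ⟨15076, 2, 4⟩) (.one ⟨14372, 1, 3⟩)) (.node 1 (.one ⟨12200, 1, 7⟩) (.one ⟨1937, 1, 5⟩))) (.node 2 (.node 1 (.one ⟨12759, 0, 4⟩) (.one ⟨7902, 0, 9⟩)) (.node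 1 (.one ⟨2268, 1, 7⟩) (.one ⟨12170, 2, 3⟩)))) (.node 4 (.node 2 (.node 1 (.one ⟨183, 2, 4⟩) (.one ⟨4112, 1, 5⟩)) (.node 1 (.one ⟨15039, 2, 4⟩) (.one ⟨9015, 0, 9⟩))) (.node 2 (.node 1 (.one ⟨11254, 1, 5⟩) (.one ⟨11085, 2, 4⟩)) (.node 1 (.one ⟨5379, 2, 4⟩) (.one ⟨535, 1, 5⟩)))))) (.node 16 (.node 8 (.node 4 (.node 2 (.node 1 (.one ⟨14783, 1, 6⟩) (.one ⟨162, 1, 9⟩)) (.node 1 (.one ⟨236, 0, 2⟩) (.one ⟨3139, 2, 8⟩))) (.node 2 (.node 1 (.one ⟨14790, 1, 9⟩) (.one ⟨1014, 1, 6⟩)) (.node 1 (.one ⟨14787, 1, 5⟩) (.one ⟨14814, 0, 9⟩)))) (.node 4 (.node 2 (.node 1 (.one ⟨2867, 1, 9⟩) (.one ⟨2865, 1, 10⟩)) (.node 1 (.one ⟨2869, 1, 10⟩) (.one ⟨3438, 0, 7⟩))) (.node 2 (.node 1 (.one ⟨144, 1, 5⟩) (.one ⟨1181, 2, 4⟩)) (.node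 1 (.one ⟨6235, 2, 8⟩) (.one ⟨4742, 1, 4⟩))))) (.node 8 (.node 4 (.node 2 (.node 1 (.one ⟨13238, 1, 4⟩) (.one ⟨5833, 0, 4⟩)) (.node 1 (.one ⟨3902, 1, 0⟩) (.one ⟨5094, 1, 7⟩))) (.node 2 (.node 1 (.one ⟨12893, 1, 6⟩) (.one ⟨13881, 0, 4⟩)) (.node 1 (.one ⟨12130, 2, 1⟩) (.one ⟨2096, 0, 4⟩)))) (.node 4 (.node 2 (.node 1 (.one ⟨12231, 1, 4⟩) (.one ⟨3699, 2, 3⟩)) (.node 1 (.one ⟨3955, 1, 0⟩) (.one ⟨4519, 1, 6⟩))) (.node 2 (.node 1 (.one ⟨11791, 1, 5⟩) (.one ⟨2211, 0, 4⟩)) (.node 1 (.one ⟨3759, 2, 1⟩) (.one ⟨6287, 1, 8⟩)))))))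
def par7_8_15 : Arr Par :=
  (.node 32 (.node 16 (.node 8 (.node 4 (.node 2 (.node 1 (.one ⟨978, 2, 6⟩) (.one ⟨14865, 1, 7⟩)) (.node 1 (.one ⟨3951, 2, 2⟩) (.one ⟨2775, 2, 3⟩))) (.node 2 (.node 1 (.one ⟨9514, 1, 1⟩) (.one ⟨6135, 1, 4⟩)) (.node 1 (.one ⟨8421, 2, 7⟩) (.one ⟨8324, 1, 7⟩)))) (.node 4 (.node 2 (.node 1 (.one ⟨674, 0, 5⟩) (.one ⟨12929, 1, 4⟩)) (.node 1 (.one ⟨4476, 1, 3⟩) (.one ⟨3836, 0, 6⟩))) (.node 2 (.node 1 (.one ⟨4453, 1, 4⟩) (.one ⟨8281, 1, 2⟩)) (.node 1 (.one ⟨8501, 0, 2⟩) (.one ⟨14220, 2, 6⟩))))) (.node 8 (.node 4 (.node 2 (.node 1 (.one ⟨4005, 1, 6⟩) (.one ⟨7225, 2, 3⟩)) (.node 1 (.one ⟨4283, 2, 4⟩) (.one ⟨4962, 1, 6⟩))) (.node 2 (.node 1 (.one ⟨11469, 2, 3⟩) (.one ⟨12542, 0, 2⟩)) (.node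 1 (.one ⟨8832, 1, 5⟩) (.one ⟨16672, 2, 5⟩)))) (.node 4 (.node 2 (.node 1 (.one ⟨16263, 0, 1⟩) (.one ⟨14846, 1, 8⟩)) (.node 1 (.one ⟨3408, 2, 3⟩) (.one ⟨14568, 2, 5⟩))) (.node 2 (.node 1 (.one ⟨8225, 0, 2⟩) (.one ⟨4151, 1, 0⟩)) (.node 1 (.one ⟨14380, 1, 7⟩) (.one ⟨85, 0, 5⟩)))))) (.node 16 (.node 8 (.node 4 (.node 2 (.node 1 (.one ⟨475, 2, 8⟩) (.one ⟨586, 0, 4⟩)) (.node 1 (.one ⟨17034, 2, 5⟩) (.one ⟨14407, 1, 2⟩))) (.node 2 (.node 1 (.one ⟨13971, 1, 4⟩) (.one ⟨10767, 1, 4⟩)) (.node 1 (.one ⟨16712, 2, 2⟩) (.one ⟨10360, 1, 4⟩)))) (.node 4 (.node 2 (.node 1 (.one ⟨9255, 2, 2⟩) (.one ⟨4043, 2, 5⟩)) (.node 1 (.one ⟨9384, 0, 4⟩) (.one ⟨590, 0, 2⟩))) (.node 2 (.node 1 (.one ⟨17162, 2, 4⟩) (.one ⟨82, 0, 2⟩)) (.node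 1 (.one ⟨1970, 2, 8⟩) (.one ⟨6208, 2, 3⟩))))) (.node 8 (.node 4 (.node 2 (.node 1 (.one ⟨9085, 2, 3⟩) (.one ⟨4064, 1, 0⟩)) (.node 1 (.one ⟨5589, 1, 6⟩) (.one ⟨13824, 1, 6⟩))) (.node 2 (.node 1 (.one ⟨9164, 1, 5⟩) (.one ⟨563, 2, 6⟩)) (.node 1 (.one ⟨4982, 2, 1⟩) (.one ⟨10749, 0, 9⟩)))) (.node 4 (.node 2 (.node 1 (.one ⟨1612, 2, 6⟩) (.one ⟨6563, 1, 6⟩)) (.node 1 (.one ⟨2733, 0, 5⟩) (.one ⟨5780, 1, 3⟩))) (.node 2 (.node 1 (.one ⟨10764, 0, 2⟩) (.one ⟨16782, 2, 3⟩)) (.node 1 (.one ⟨13806, 2, 3⟩) (.one ⟨12615, 0, 3⟩)))))))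
def par7_8 : Arr Par :=
  (.node 512 (.node 256 (.node 128 (.node 64 par7_8_0 par7_8_1) (.node 64 par7_8_2 par7_8_3)) (.node 128 (.node 64 par7_8_4 par7_8_5) (.node 64 par7_8_6 par7_8_7))) (.node 256 (.node 128 (.node 64 par7_8_8 par7_8_9) (.node 64 par7_8_10 par7_8_11)) (.node 128 (.node 64 par7_8_12 par7_8_13) (.node 64 par7_8_14 par7_8_15))))
def par7_9_0 : Arr Par :=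
  (.node 32 (.node 16 (.node 8 (.node 4 (.node 2 (.node 1 (.one ⟨1540, 1, 1⟩) (.one ⟨14801, 0, 9⟩)) (.node 1 (.one ⟨11211, 1, 2⟩) (.one ⟨13655, 1, 6⟩))) (.node 2 (.node 1 (.one ⟨13016, 2, 5⟩) (.one ⟨7777, 0, 9⟩)) (.node 1 (.one ⟨10453, 1, 5⟩) (.one ⟨8918, 2, 5⟩)))) (.node 4 (.node 2 (.node 1 (.one ⟨12288, 1, 5⟩) (.one ⟨7893, 1, 6⟩)) (.node 1 (.one ⟨8840, 1, 7⟩) (.one ⟨7931, 1, 3⟩))) (.node 2 (.node 1 (.one ⟨15900, 0, 5⟩) (.one ⟨2620, 2, 6⟩)) (.node 1 (.one ⟨6705, 0, 5⟩) (.one ⟨5258, 2, 7⟩))))) (.node 8 (.node 4 (.node 2 (.node 1 (.one ⟨8926, 2, 5⟩) (.one ⟨6766, 0, 2⟩)) (.node 1 (.one ⟨937, 1, 7⟩) (.one ⟨10563, 1, 7⟩))) (.node 2 (.node 1 (.one ⟨10559, 1, 10⟩) (.one ⟨6810, 0, 2⟩)) (.node 1 (.one ⟨7735, 2, 4⟩)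 (.one ⟨13741, 2, 5⟩)))) (.node 4 (.node 2 (.node 1 (.one ⟨9546, 2, 7⟩) (.one ⟨857, 1, 4⟩)) (.node 1 (.one ⟨441, 1, 5⟩) (.one ⟨11103, 0, 8⟩))) (.node 2 (.node 1 (.one ⟨5745, 1, 4⟩) (.one ⟨6713, 2, 1⟩)) (.node 1 (.one ⟨3113, 0, 2⟩) (.one ⟨14754, 1, 4⟩)))))) (.node 16 (.node 8 (.node 4 (.node 2 (.node 1 (.one ⟨15212, 1, 6⟩) (.one ⟨5681, 2, 1⟩)) (.node 1 (.one ⟨10312, 2, 4⟩) (.one ⟨8271, 0, 1⟩))) (.node 2 (.node 1 (.one ⟨2331, 2, 4⟩) (.one ⟨14408, 2, 6⟩)) (.node 1 (.one ⟨10, 2, 5⟩) (.one ⟨11975, 0, 1⟩)))) (.node 4 (.node 2 (.node 1 (.one ⟨12802, 1, 4⟩) (.one ⟨14303, 2, 3⟩)) (.node 1 (.one ⟨1712, 2, 2⟩) (.one ⟨4829, 1, 6⟩))) (.node 2 (.node 1 (.one ⟨5170, 1, 6⟩) (.one ⟨5552, 2, 4⟩)) (.node 1 (.one ⟨10464, 2, 1⟩)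 (.one ⟨8693, 2, 1⟩))))) (.node 8 (.node 4 (.node 2 (.node 1 (.one ⟨16395, 2, 1⟩) (.one ⟨14865, 2, 7⟩)) (.node 1 (.one ⟨15929, 1, 5⟩) (.one ⟨10316, 0, 2⟩))) (.node 2 (.node 1 (.one ⟨2266, 0, 5⟩) (.one ⟨5530, 2, 2⟩)) (.node 1 (.one ⟨11811, 2, 3⟩) (.one ⟨4915, 2, 1⟩)))) (.node 4 (.node 2 (.node 1 (.one ⟨12484, 2, 1⟩) (.one ⟨2226, 0, 5⟩)) (.node 1 (.one ⟨3311, 2, 3⟩) (.one ⟨6153, 1, 5⟩))) (.node 2 (.node 1 (.one ⟨14544, 0, 2⟩) (.one ⟨12240, 1, 6⟩)) (.node 1 (.one ⟨8142, 1, 2⟩) (.one ⟨16400, 1, 8⟩)))))))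
def par7_9_1 : Arr Par :=
  (.node 32 (.node 16 (.node 8 (.node 4 (.node 2 (.node 1 (.one ⟨4257, 1, 6⟩) (.one ⟨8110, 1, 4⟩)) (.node 1 (.one ⟨11898, 1, 4⟩) (.one ⟨13515, 2, 3⟩))) (.node 2 (.node 1 (.one ⟨3867, 1, 0⟩) (.one ⟨13547, 0, 2⟩)) (.node 1 (.one ⟨13505, 0, 4⟩) (.one ⟨16985, 1, 4⟩)))) (.node 4 (.node 2 (.node 1 (.one ⟨5275, 1, 6⟩) (.one ⟨8416, 1, 8⟩)) (.node 1 (.one ⟨12843, 1, 4⟩) (.one ⟨8897, 0, 4⟩))) (.node 2 (.node 1 (.one ⟨3763, 2, 4⟩) (.one ⟨8886, 0, 2⟩)) (.node 1 (.one ⟨3830, 1, 0⟩) (.one ⟨7542, 2, 5⟩))))) (.node 8 (.node 4 (.node 2 (.node 1 (.one ⟨611, 0, 7⟩) (.one ⟨10759, 1, 1⟩)) (.node 1 (.one ⟨70, 0, 3⟩) (.one ⟨9301, 0, 4⟩))) (.node 2 (.node 1 (.one ⟨584, 0, 5⟩) (.one ⟨2358, 2, 3⟩)) (.node 1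 (.one ⟨88, 0, 2⟩) (.one ⟨5763, 1, 7⟩)))) (.node 4 (.node 2 (.node 1 (.one ⟨4151, 2, 5⟩) (.one ⟨15103, 2, 3⟩)) (.node 1 (.one ⟨16974, 2, 4⟩) (.one ⟨6051, 1, 3⟩))) (.node 2 (.node 1 (.one ⟨3815, 0, 0⟩) (.one ⟨9305, 0, 4⟩)) (.node 1 (.one ⟨1099, 1, 5⟩) (.one ⟨4, 2, 5⟩)))))) (.node 16 (.node 8 (.node 4 (.node 2 (.node 1 (.one ⟨5944, 2, 3⟩) (.one ⟨6387, 2, 2⟩)) (.node 1 (.one ⟨2611, 2, 5⟩) (.one ⟨5679, 2, 1⟩))) (.node 2 (.node 1 (.one ⟨2103, 2, 2⟩) (.one ⟨6885, 1, 4⟩)) (.node 1 (.one ⟨7378, 1, 6⟩) (.one ⟨5551, 2, 2⟩)))) (.node 4 (.node 2 (.node 1 (.one ⟨1903, 2, 6⟩) (.one ⟨9308, 2, 1⟩)) (.node 1 (.one ⟨12624, 1, 4⟩) (.one ⟨1711, 2, 4⟩))) (.node 2 (.node 1 (.one ⟨6127, 2, 1⟩) (.one ⟨5344, 1, 6⟩)) (.node 1 (.one ⟨10219,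 2, 5⟩) (.one ⟨16200, 2, 8⟩))))) (.node 8 (.node 4 (.node 2 (.node 1 (.one ⟨2296, 1, 3⟩) (.one ⟨12929, 2, 4⟩)) (.node 1 (.one ⟨7240, 2, 5⟩) (.one ⟨4550, 1, 0⟩))) (.node 2 (.node 1 (.one ⟨6495, 1, 5⟩) (.one ⟨8184, 2, 4⟩)) (.node 1 (.one ⟨13139, 1, 8⟩) (.one ⟨13166, 2, 5⟩)))) (.node 4 (.node 2 (.node 1 (.one ⟨6773, 2, 4⟩) (.one ⟨9515, 2, 4⟩)) (.node 1 (.one ⟨8155, 2, 5⟩) (.one ⟨4072, 1, 0⟩))) (.node 2 (.node 1 (.one ⟨8754, 1, 8⟩) (.one ⟨7171, 2, 4⟩)) (.node 1 (.one ⟨2709, 1, 8⟩) (.one ⟨14504, 0, 2⟩)))))))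
def par7_9_2 : Arr Par :=
  (.node 32 (.node 16 (.node 8 (.node 4 (.node 2 (.node 1 (.one ⟨233, 1, 6⟩) (.one ⟨15680, 2, 5⟩)) (.node 1 (.one ⟨2704, 0, 8⟩) (.one ⟨14449, 0, 2⟩))) (.node 2 (.node 1 (.one ⟨14468, 0, 2⟩) (.one ⟨7236, 2, 7⟩)) (.node 1 (.one ⟨9940, 1, 5⟩) (.one ⟨938, 1, 5⟩)))) (.node 4 (.node 2 (.node 1 (.one ⟨10781, 0, 2⟩) (.one ⟨9273, 2, 6⟩)) (.node 1 (.one ⟨7418, 2, 7⟩) (.one ⟨1009, 1, 4⟩))) (.node 2 (.node 1 (.one ⟨10378, 2, 3⟩) (.one ⟨6408, 0, 5⟩)) (.node 1 (.one ⟨15837, 2, 5⟩) (.one ⟨10602, 2, 6⟩))))) (.node 8 (.node 4 (.node 2 (.node 1 (.one ⟨14306, 2, 3⟩) (.one ⟨6130, 2, 5⟩)) (.node 1 (.one ⟨1714, 2, 2⟩) (.one ⟨8572, 0, 3⟩))) (.node 2 (.node 1 (.one ⟨16245, 1, 6⟩) (.one ⟨16324, 1, 4⟩)) (.node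 1 (.one ⟨15880, 1, 4⟩) (.one ⟨10767, 2, 4⟩)))) (.node 4 (.node 2 (.node 1 (.one ⟨14415, 2, 5⟩) (.one ⟨2679, 1, 6⟩)) (.node 1 (.one ⟨4532, 0, 3⟩) (.one ⟨10762, 2, 3⟩))) (.node 2 (.node 1 (.one ⟨14410, 2, 6⟩) (.one ⟨5945, 2, 2⟩)) (.node 1 (.one ⟨18, 2, 5⟩) (.one ⟨16969, 2, 4⟩)))))) (.node 16 (.node 8 (.node 4 (.node 2 (.node 1 (.one ⟨64, 0, 4⟩) (.one ⟨10623, 2, 4⟩)) (.node 1 (.one ⟨10783, 1, 3⟩) (.one ⟨581, 0, 4⟩))) (.node 2 (.node 1 (.one ⟨12393, 2, 6⟩) (.one ⟨14599, 1, 1⟩)) (.node 1 (.one ⟨9667, 1, 3⟩) (.one ⟨9499, 0, 4⟩)))) (.node 4 (.node 2 (.node 1 (.one ⟨7079, 2, 3⟩) (.one ⟨12137, 2, 4⟩)) (.node 1 (.one ⟨578, 0, 7⟩) (.one ⟨1488, 2, 4⟩))) (.node 2 (.node 1 (.one ⟨14543, 1, 3⟩) (.one ⟨0, 0, 6⟩)) (.node 1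 (.one ⟨17097, 2, 4⟩) (.one ⟨5899, 0, 4⟩))))) (.node 8 (.node 4 (.node 2 (.node 1 (.one ⟨13947, 0, 7⟩) (.one ⟨6121, 1, 4⟩)) (.node 1 (.one ⟨8841, 2, 4⟩) (.one ⟨13629, 1, 4⟩))) (.node 2 (.node 1 (.one ⟨15944, 2, 7⟩) (.one ⟨10196, 0, 1⟩)) (.node 1 (.one ⟨15931, 2, 7⟩) (.one ⟨5786, 2, 4⟩)))) (.node 4 (.node 2 (.node 1 (.one ⟨16376, 1, 7⟩) (.one ⟨4175, 1, 10⟩)) (.node 1 (.one ⟨10239, 0, 4⟩) (.one ⟨6861, 2, 7⟩))) (.node 2 (.node 1 (.one ⟨5853, 0, 4⟩) (.one ⟨6841, 2, 7⟩)) (.node 1 (.one ⟨11713, 1, 7⟩) (.one ⟨4054, 1, 0⟩)))))))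
def par7_9_3 : Arr Par :=
  (.node 32 (.node 16 (.node 8 (.node 4 (.node 2 (.node 1 (.one ⟨7475, 2, 4⟩) (.one ⟨2226, 2, 5⟩)) (.node 1 (.one ⟨5758, 0, 4⟩) (.one ⟨16480, 1, 5⟩))) (.node 2 (.node 1 (.one ⟨9163, 2, 7⟩) (.one ⟨14913, 2, 7⟩)) (.node 1 (.one ⟨15933, 2, 7⟩) (.one ⟨10427, 1, 7⟩)))) (.node 4 (.node 2 (.node 1 (.one ⟨4172, 1, 0⟩) (.one ⟨10157, 0, 4⟩)) (.node 1 (.one ⟨6412, 1, 4⟩) (.one ⟨15257, 1, 4⟩))) (.node 2 (.node 1 (.one ⟨635, 2, 2⟩) (.one ⟨6840, 2, 7⟩)) (.node 1 (.one ⟨3225, 1, 3⟩) (.one ⟨8450, 1, 4⟩))))) (.node 8 (.node 4 (.node 2 (.node 1 (.one ⟨12622, 1, 7⟩) (.one ⟨10597, 2, 3⟩)) (.node 1 (.one ⟨11214, 2, 1⟩) (.one ⟨13206, 1, 7⟩))) (.node 2 (.node 1 (.one ⟨8864, 1, 9⟩) (.one ⟨13691, 1, 3⟩)) (.node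 1 (.one ⟨3698, 2, 4⟩) (.one ⟨16308, 1, 4⟩)))) (.node 4 (.node 2 (.node 1 (.one ⟨4328, 1, 7⟩) (.one ⟨969, 2, 3⟩)) (.node 1 (.one ⟨5057, 0, 4⟩) (.one ⟨3680, 1, 4⟩))) (.node 2 (.node 1 (.one ⟨16011, 1, 9⟩) (.one ⟨3827, 1, 0⟩)) (.node 1 (.one ⟨11975, 2, 1⟩) (.one ⟨6186, 2, 3⟩)))))) (.node 16 (.node 8 (.node 4 (.node 2 (.node 1 (.one ⟨16684, 1, 4⟩) (.one ⟨13448, 1, 6⟩)) (.node 1 (.one ⟨13161, 2, 1⟩) (.one ⟨16286, 2, 4⟩))) (.node 2 (.node 1 (.one ⟨11545, 2, 4⟩) (.one ⟨11829, 0, 2⟩)) (.node 1 (.one ⟨16848, 1, 4⟩) (.one ⟨15820, 0, 7⟩)))) (.node 4 (.node 2 (.node 1 (.one ⟨1172, 2, 4⟩) (.one ⟨15869, 0, 4⟩)) (.node 1 (.one ⟨5651, 1, 5⟩) (.one ⟨15167, 2, 3⟩))) (.node 2 (.node 1 (.one ⟨12227, 2, 4⟩) (.one ⟨15204, 2, 4⟩))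 (.node 1 (.one ⟨7851, 0, 2⟩) (.one ⟨14261, 2, 7⟩))))) (.node 8 (.node 4 (.node 2 (.node 1 (.one ⟨17140, 2, 5⟩) (.one ⟨8077, 2, 7⟩)) (.node 1 (.one ⟨7173, 1, 8⟩) (.one ⟨5790, 1, 7⟩))) (.node 2 (.node 1 (.one ⟨4020, 1, 0⟩) (.one ⟨16321, 2, 1⟩)) (.node 1 (.one ⟨9963, 1, 10⟩) (.one ⟨11327, 2, 5⟩)))) (.node 4 (.node 2 (.node 1 (.one ⟨10808, 1, 7⟩) (.one ⟨6859, 1, 3⟩)) (.node 1 (.one ⟨1185, 2, 4⟩) (.one ⟨6184, 1, 7⟩))) (.node 2 (.node 1 (.one ⟨3929, 1, 0⟩) (.one ⟨11363, 2, 1⟩)) (.node 1 (.one ⟨12551, 2, 1⟩) (.one ⟨1905, 2, 3⟩)))))))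
def par7_9_4 : Arr Par :=
  (.node 32 (.node 16 (.node 8 (.node 4 (.node 2 (.node 1 (.one ⟨10465, 2, 1⟩) (.one ⟨1615, 2, 5⟩)) (.node 1 (.one ⟨7629, 1, 4⟩) (.one ⟨10600, 2, 4⟩))) (.node 2 (.node 1 (.one ⟨1713, 2, 6⟩) (.one ⟨7789, 0, 1⟩)) (.node 1 (.one ⟨2007, 2, 5⟩) (.one ⟨10744, 2, 2⟩)))) (.node 4 (.node 2 (.node 1 (.one ⟨3759, 0, 1⟩) (.one ⟨10761, 2, 4⟩)) (.node 1 (.one ⟨13, 2, 6⟩) (.one ⟨10483, 1, 4⟩))) (.node 2 (.node 1 (.one ⟨10653, 1, 6⟩) (.one ⟨2106, 2, 3⟩)) (.node 1 (.one ⟨10313, 2, 1⟩) (.one ⟨10744, 1, 2⟩))))) (.node 8 (.node 4 (.node 2 (.node 1 (.one ⟨10107, 1, 5⟩) (.one ⟨6646, 2, 6⟩)) (.node 1 (.one ⟨579, 0, 2⟩) (.one ⟨10311, 1, 3⟩))) (.node 2 (.node 1 (.one ⟨9190, 0, 3⟩) (.one ⟨17166, 2, 6⟩)) (.node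 1 (.one ⟨592, 0, 3⟩) (.one ⟨10719, 1, 5⟩)))) (.node 4 (.node 2 (.node 1 (.one ⟨12282, 2, 5⟩) (.one ⟨1055, 2, 8⟩)) (.node 1 (.one ⟨35, 0, 6⟩) (.one ⟨6638, 2, 3⟩))) (.node 2 (.node 1 (.one ⟨9192, 0, 3⟩) (.one ⟨12270, 2, 6⟩)) (.node 1 (.one ⟨80, 0, 3⟩) (.one ⟨7164, 2, 5⟩)))))) (.node 16 (.node 8 (.node 4 (.node 2 (.node 1 (.one ⟨5367, 2, 4⟩) (.one ⟨15531, 0, 4⟩)) (.node 1 (.one ⟨7649, 1, 4⟩) (.one ⟨12594, 1, 3⟩))) (.node 2 (.node 1 (.one ⟨5316, 1, 4⟩) (.one ⟨12740, 2, 7⟩)) (.node 1 (.one ⟨14912, 2, 7⟩) (.one ⟨2221, 2, 4⟩)))) (.node 4 (.node 2 (.node 1 (.one ⟨3444, 0, 7⟩) (.one ⟨2481, 1, 7⟩)) (.node 1 (.one ⟨3835, 1, 0⟩) (.one ⟨11516, 0, 3⟩))) (.node 2 (.node 1 (.one ⟨2762, 1, 4⟩) (.one ⟨7878, 2, 7⟩)) (.node 1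 (.one ⟨1090, 2, 7⟩) (.one ⟨1061, 1, 7⟩))))) (.node 8 (.node 4 (.node 2 (.node 1 (.one ⟨3920, 1, 0⟩) (.one ⟨16982, 2, 5⟩)) (.node 1 (.one ⟨10475, 1, 6⟩) (.one ⟨8523, 0, 4⟩))) (.node 2 (.node 1 (.one ⟨8435, 2, 6⟩) (.one ⟨5930, 2, 6⟩)) (.node 1 (.one ⟨15348, 2, 6⟩) (.one ⟨523, 1, 8⟩)))) (.node 4 (.node 2 (.node 1 (.one ⟨13198, 2, 3⟩) (.one ⟨16638, 0, 9⟩)) (.node 1 (.one ⟨1538, 2, 6⟩) (.one ⟨12710, 0, 4⟩))) (.node 2 (.node 1 (.one ⟨307, 1, 6⟩) (.one ⟨3624, 2, 5⟩)) (.node 1 (.one ⟨13204, 2, 6⟩) (.one ⟨9653, 0, 3⟩)))))))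
def par7_9_5 : Arr Par :=
  (.node 32 (.node 16 (.node 8 (.node 4 (.node 2 (.node 1 (.one ⟨8108, 2, 3⟩) (.one ⟨10034, 1, 6⟩)) (.node 1 (.one ⟨1746, 1, 3⟩) (.one ⟨3752, 2, 3⟩))) (.node 2 (.node 1 (.one ⟨13180, 1, 6⟩) (.one ⟨4059, 1, 0⟩)) (.node 1 (.one ⟨5825, 2, 6⟩) (.one ⟨14076, 0, 9⟩)))) (.node 4 (.node 2 (.node 1 (.one ⟨5964, 1, 6⟩) (.one ⟨12574, 2, 3⟩)) (.node 1 (.one ⟨5966, 0, 6⟩) (.one ⟨4047, 1, 0⟩))) (.node 2 (.node 1 (.one ⟨203, 2, 6⟩) (.one ⟨4664, 1, 3⟩)) (.node 1 (.one ⟨16409, 2, 3⟩) (.one ⟨4849, 2, 5⟩))))) (.node 8 (.node 4 (.node 2 (.node 1 (.one ⟨9682, 0, 2⟩) (.one ⟨12418, 1, 6⟩)) (.node 1 (.one ⟨16093, 1, 6⟩) (.one ⟨1601, 0, 3⟩))) (.node 2 (.node 1 (.one ⟨4532, 2, 3⟩) (.one ⟨7910, 1, 9⟩)) (.node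 1 (.one ⟨4426, 1, 8⟩) (.one ⟨8999, 1, 6⟩)))) (.node 4 (.node 2 (.node 1 (.one ⟨1588, 0, 6⟩) (.one ⟨5982, 0, 2⟩)) (.node 1 (.one ⟨3863, 1, 0⟩) (.one ⟨12921, 1, 7⟩))) (.node 2 (.node 1 (.one ⟨16840, 1, 8⟩) (.one ⟨1780, 2, 3⟩)) (.node 1 (.one ⟨4382, 1, 0⟩) (.one ⟨11142, 1, 5⟩)))))) (.node 16 (.node 8 (.node 4 (.node 2 (.node 1 (.one ⟨3116, 0, 5⟩) (.one ⟨11911, 0, 4⟩)) (.node 1 (.one ⟨3011, 1, 3⟩) (.one ⟨6541, 1, 2⟩))) (.node 2 (.node 1 (.one ⟨15524, 1, 6⟩) (.one ⟨7437, 1, 5⟩)) (.node 1 (.one ⟨13979, 2, 6⟩) (.one ⟨4574, 0, 3⟩)))) (.node 4 (.node 2 (.node 1 (.one ⟨13649, 2, 2⟩) (.one ⟨4696, 2, 8⟩)) (.node 1 (.one ⟨8603, 2, 2⟩) (.one ⟨1603, 1, 6⟩))) (.node 2 (.node 1 (.one ⟨127, 2, 4⟩) (.one ⟨6612, 1, 6⟩)) (.node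 1 (.one ⟨13006, 2, 2⟩) (.one ⟨6715, 2, 4⟩))))) (.node 8 (.node 4 (.node 2 (.node 1 (.one ⟨16374, 0, 2⟩) (.one ⟨522, 1, 5⟩)) (.node 1 (.one ⟨8341, 0, 2⟩) (.one ⟨8334, 0, 5⟩))) (.node 2 (.node 1 (.one ⟨5863, 2, 5⟩) (.one ⟨11185, 2, 6⟩)) (.node 1 (.one ⟨9888, 1, 5⟩) (.one ⟨6466, 1, 8⟩)))) (.node 4 (.node 2 (.node 1 (.one ⟨4002, 0, 8⟩) (.one ⟨3990, 0, 5⟩)) (.node 1 (.one ⟨5635, 2, 7⟩) (.one ⟨234, 1, 5⟩))) (.node 2 (.node 1 (.one ⟨12075, 0, 2⟩) (.one ⟨442, 1, 4⟩)) (.node 1 (.one ⟨3977, 0, 2⟩) (.one ⟨11747, 1, 3⟩)))))))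
def par7_9_6 : Arr Par :=
  (.node 32 (.node 16 (.node 8 (.node 4 (.node 2 (.node 1 (.one ⟨4910, 2, 3⟩) (.one ⟨3874, 1, 0⟩)) (.node 1 (.one ⟨3934, 1, 0⟩) (.one ⟨11504, 0, 6⟩))) (.node 2 (.node 1 (.one ⟨11537, 2, 5⟩) (.one ⟨4145, 1, 0⟩)) (.node 1 (.one ⟨6286, 1, 4⟩) (.one ⟨11443, 2, 3⟩)))) (.node 4 (.node 2 (.node 1 (.one ⟨1252, 2, 4⟩) (.one ⟨16512, 1, 8⟩)) (.node 1 (.one ⟨4155, 1, 0⟩) (.one ⟨4800, 2, 5⟩))) (.node 2 (.node 1 (.one ⟨15481, 0, 3⟩) (.one ⟨4556, 1, 3⟩)) (.node 1 (.one ⟨11465, 2, 1⟩) (.one ⟨7377, 0, 4⟩))))) (.node 8 (.node 4 (.node 2 (.node 1 (.one ⟨4010, 1, 0⟩) (.one ⟨6525, 2, 8⟩)) (.node 1 (.one ⟨7373, 0, 9⟩) (.one ⟨9644, 1, 4⟩))) (.node 2 (.node 1 (.one ⟨9166, 2, 3⟩) (.one ⟨2422, 1, 6⟩)) (.node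 1 (.one ⟨2586, 1, 7⟩) (.one ⟨3586, 2, 1⟩)))) (.node 4 (.node 2 (.node 1 (.one ⟨8704, 2, 5⟩) (.one ⟨3434, 0, 4⟩)) (.node 1 (.one ⟨8329, 1, 7⟩) (.one ⟨803, 2, 6⟩))) (.node 2 (.node 1 (.one ⟨12012, 1, 2⟩) (.one ⟨4682, 2, 7⟩)) (.node 1 (.one ⟨7855, 2, 3⟩) (.one ⟨9996, 1, 3⟩)))))) (.node 16 (.node 8 (.node 4 (.node 2 (.node 1 (.one ⟨9833, 2, 4⟩) (.one ⟨95, 0, 5⟩)) (.node 1 (.one ⟨5758, 2, 4⟩) (.one ⟨1083, 1, 8⟩))) (.node 2 (.node 1 (.one ⟨13425, 2, 6⟩) (.one ⟨2814, 1, 10⟩)) (.node 1 (.one ⟨8570, 0, 7⟩) (.one ⟨13653, 1, 2⟩)))) (.node 4 (.node 2 (.node 1 (.one ⟨311, 1, 3⟩) (.one ⟨15792, 0, 2⟩)) (.node 1 (.one ⟨15421, 1, 4⟩) (.one ⟨7331, 1, 6⟩))) (.node 2 (.node 1 (.one ⟨9154, 0, 3⟩) (.one ⟨9902, 1, 10⟩)) (.node 1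 (.one ⟨8551, 2, 7⟩) (.one ⟨9377, 1, 5⟩))))) (.node 8 (.node 4 (.node 2 (.node 1 (.one ⟨10375, 2, 3⟩) (.one ⟨7368, 0, 7⟩)) (.node 1 (.one ⟨11249, 1, 8⟩) (.one ⟨4094, 2, 5⟩))) (.node 2 (.node 1 (.one ⟨8807, 1, 3⟩) (.one ⟨9397, 0, 2⟩)) (.node 1 (.one ⟨6036, 1, 5⟩) (.one ⟨6894, 2, 8⟩)))) (.node 4 (.node 2 (.node 1 (.one ⟨5040, 1, 3⟩) (.one ⟨6873, 2, 4⟩)) (.node 1 (.one ⟨1277, 0, 4⟩) (.one ⟨15328, 2, 9⟩))) (.node 2 (.node 1 (.one ⟨7670, 0, 4⟩) (.one ⟨3573, 0, 4⟩)) (.node 1 (.one ⟨1158, 2, 8⟩) (.one ⟨9402, 0, 5⟩)))))))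
def par7_9_7 : Arr Par :=
  (.node 32 (.node 16 (.node 8 (.node 4 (.node 2 (.node 1 (.one ⟨2268, 0, 7⟩) (.one ⟨8186, 1, 2⟩)) (.node 1 (.one ⟨4963, 1, 7⟩) (.one ⟨9251, 2, 2⟩))) (.node 2 (.node 1 (.one ⟨15309, 1, 2⟩) (.one ⟨5005, 0, 6⟩)) (.node 1 (.one ⟨11367, 1, 2⟩) (.one ⟨13027, 2, 4⟩)))) (.node 4 (.node 2 (.node 1 (.one ⟨17153, 1, 5⟩) (.one ⟨2475, 1, 6⟩)) (.node 1 (.one ⟨15515, 1, 7⟩) (.one ⟨5760, 0, 7⟩))) (.node 2 (.node 1 (.one ⟨5802, 0, 6⟩) (.one ⟨16790, 1, 5⟩)) (.node 1 (.one ⟨16538, 0, 4⟩) (.one ⟨17182, 1, 5⟩))))) (.node 8 (.node 4 (.node 2 (.node 1 (.one ⟨10918, 0, 4⟩) (.one ⟨14766, 0, 2⟩)) (.node 1 (.one ⟨9146, 0, 1⟩) (.one ⟨15108, 1, 4⟩))) (.node 2 (.node 1 (.one ⟨8968, 1, 5⟩) (.one ⟨6692, 0, 4⟩))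 (.node 1 (.one ⟨350, 0, 8⟩) (.one ⟨16223, 1, 7⟩)))) (.node 4 (.node 2 (.node 1 (.one ⟨1218, 0, 4⟩) (.one ⟨174, 2, 7⟩)) (.node 1 (.one ⟨12384, 2, 7⟩) (.one ⟨14064, 1, 5⟩))) (.node 2 (.node 1 (.one ⟨8119, 1, 8⟩) (.one ⟨8243, 0, 8⟩)) (.node 1 (.one ⟨4482, 1, 7⟩) (.one ⟨14503, 2, 3⟩)))))) (.node 16 (.node 8 (.node 4 (.node 2 (.node 1 (.one ⟨7617, 2, 4⟩) (.one ⟨4933, 1, 5⟩)) (.node 1 (.one ⟨1472, 1, 5⟩) (.one ⟨7048, 0, 7⟩))) (.node 2 (.node 1 (.one ⟨103, 1, 7⟩) (.one ⟨12941, 1, 7⟩)) (.node 1 (.one ⟨10273, 1, 6⟩) (.one ⟨13158, 0, 7⟩)))) (.node 4 (.node 2 (.node 1 (.one ⟨14065, 1, 8⟩) (.one ⟨1226, 0, 1⟩)) (.node 1 (.one ⟨5240, 1, 6⟩) (.one ⟨11649, 1, 4⟩))) (.node 2 (.node 1 (.one ⟨12738, 2, 5⟩) (.one ⟨7552, 1, 7⟩))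 (.node 1 (.one ⟨3743, 1, 4⟩) (.one ⟨1289, 1, 3⟩))))) (.node 8 (.node 4 (.node 2 (.node 1 (.one ⟨5717, 0, 4⟩) (.one ⟨13783, 0, 5⟩)) (.node 1 (.one ⟨10552, 1, 8⟩) (.one ⟨17124, 2, 7⟩))) (.node 2 (.node 1 (.one ⟨10382, 2, 4⟩) (.one ⟨3999, 1, 5⟩)) (.node 1 (.one ⟨2227, 2, 5⟩) (.one ⟨5252, 0, 4⟩)))) (.node 4 (.node 2 (.node 1 (.one ⟨4449, 0, 8⟩) (.one ⟨10634, 2, 6⟩)) (.node 1 (.one ⟨12907, 2, 8⟩) (.one ⟨9802, 2, 4⟩))) (.node 2 (.node 1 (.one ⟨5045, 1, 5⟩) (.one ⟨2942, 0, 8⟩)) (.node 1 (.one ⟨3403, 1, 4⟩) (.one ⟨11134, 2, 5⟩)))))))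
def par7_9_8 : Arr Par :=
  (.node 32 (.node 16 (.node 8 (.node 4 (.node 2 (.node 1 (.one ⟨16643, 1, 6⟩) (.one ⟨4886, 2, 5⟩)) (.node 1 (.one ⟨4787, 1, 6⟩) (.one ⟨8187, 1, 7⟩))) (.node 2 (.node 1 (.one ⟨9145, 0, 4⟩) (.one ⟨12407, 1, 6⟩)) (.node 1 (.one ⟨3383, 2, 5⟩) (.one ⟨14225, 1, 4⟩)))) (.node 4 (.node 2 (.node 1 (.one ⟨1973, 0, 5⟩) (.one ⟨14774, 1, 5⟩)) (.node 1 (.one ⟨16783, 1, 5⟩) (.one ⟨8921, 2, 7⟩))) (.node 2 (.node 1 (.one ⟨16943, 0, 4⟩) (.one ⟨6661, 0, 7⟩)) (.node 1 (.one ⟨3898, 1, 6⟩) (.one ⟨10180, 1, 9⟩))))) (.node 8 (.node 4 (.node 2 (.node 1 (.one ⟨2948, 2, 5⟩) (.one ⟨13098, 0, 6⟩)) (.node 1 (.one ⟨6524, 2, 8⟩) (.one ⟨1534, 2, 5⟩))) (.node 2 (.node 1 (.one ⟨12290, 2, 3⟩) (.one ⟨12909, 1, 8⟩)) (.node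 1 (.one ⟨4954, 1, 6⟩) (.one ⟨14063, 1, 3⟩)))) (.node 4 (.node 2 (.node 1 (.one ⟨16904, 2, 5⟩) (.one ⟨722, 1, 7⟩)) (.node 1 (.one ⟨8327, 1, 6⟩) (.one ⟨10630, 2, 5⟩))) (.node 2 (.node 1 (.one ⟨17022, 2, 5⟩) (.one ⟨2968, 1, 6⟩)) (.node 1 (.one ⟨1271, 0, 3⟩) (.one ⟨10928, 2, 5⟩)))))) (.node 16 (.node 8 (.node 4 (.node 2 (.node 1 (.one ⟨11272, 1, 2⟩) (.one ⟨17093, 1, 6⟩)) (.node 1 (.one ⟨14616, 2, 4⟩) (.one ⟨8663, 2, 5⟩))) (.node 2 (.node 1 (.one ⟨5204, 0, 4⟩) (.one ⟨16764, 0, 7⟩)) (.node 1 (.one ⟨4472, 2, 5⟩) (.one ⟨724, 0, 8⟩)))) (.node 4 (.node 2 (.node 1 (.one ⟨3548, 1, 6⟩) (.one ⟨6969, 1, 8⟩)) (.node 1 (.one ⟨16570, 1, 4⟩) (.one ⟨1274, 0, 8⟩))) (.node 2 (.node 1 (.one ⟨13854, 2, 6⟩) (.one ⟨354, 2, 6⟩)) (.node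 1 (.one ⟨5035, 0, 6⟩) (.one ⟨10209, 2, 4⟩))))) (.node 8 (.node 4 (.node 2 (.node 1 (.one ⟨15784, 1, 8⟩) (.one ⟨15421, 2, 4⟩)) (.node 1 (.one ⟨14777, 2, 7⟩) (.one ⟨252, 1, 3⟩))) (.node 2 (.node 1 (.one ⟨8642, 0, 4⟩) (.one ⟨5083, 2, 6⟩)) (.node 1 (.one ⟨4593, 2, 5⟩) (.one ⟨1319, 1, 3⟩)))) (.node 4 (.node 2 (.node 1 (.one ⟨10765, 0, 5⟩) (.one ⟨5100, 1, 5⟩)) (.node 1 (.one ⟨9119, 1, 6⟩) (.one ⟨5961, 1, 4⟩))) (.node 2 (.node 1 (.one ⟨529, 1, 6⟩) (.one ⟨5282, 0, 9⟩)) (.node 1 (.one ⟨5068, 1, 6⟩) (.one ⟨2466, 2, 8⟩)))))))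
def par7_9_9 : Arr Par :=
  (.node 32 (.node 16 (.node 8 (.node 4 (.node 2 (.node 1 (.one ⟨332, 2, 8⟩) (.one ⟨7009, 1, 5⟩)) (.node 1 (.one ⟨4811, 0, 4⟩) (.one ⟨9599, 2, 4⟩))) (.node 2 (.node 1 (.one ⟨4814, 0, 9⟩) (.one ⟨4892, 2, 8⟩)) (.node 1 (.one ⟨231, 0, 5⟩) (.one ⟨4920, 2, 7⟩)))) (.node 4 (.node 2 (.node 1 (.one ⟨12193, 2, 5⟩) (.one ⟨13871, 1, 5⟩)) (.node 1 (.one ⟨1589, 1, 3⟩) (.one ⟨13516, 0, 6⟩))) (.node 2 (.node 1 (.one ⟨13785, 1, 10⟩) (.one ⟨4328, 2, 7⟩)) (.node 1 (.one ⟨10379, 1, 2⟩) (.one ⟨12318, 2, 7⟩))))) (.node 8 (.node 4 (.node 2 (.node 1 (.one ⟨9783, 2, 4⟩) (.one ⟨6023, 1, 6⟩)) (.node 1 (.one ⟨4455, 2, 7⟩) (.one ⟨1922, 2, 7⟩))) (.node 2 (.node 1 (.one ⟨8557, 1, 2⟩) (.one ⟨1461, 1, 3⟩)) (.node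 1 (.one ⟨8429, 1, 7⟩) (.one ⟨5875, 0, 4⟩)))) (.node 4 (.node 2 (.node 1 (.one ⟨4314, 1, 5⟩) (.one ⟨5185, 0, 3⟩)) (.node 1 (.one ⟨9062, 2, 6⟩) (.one ⟨8463, 0, 4⟩))) (.node 2 (.node 1 (.one ⟨9352, 1, 3⟩) (.one ⟨5673, 1, 10⟩)) (.node 1 (.one ⟨12361, 1, 7⟩) (.one ⟨2045, 0, 4⟩)))))) (.node 16 (.node 8 (.node 4 (.node 2 (.node 1 (.one ⟨9780, 2, 5⟩) (.one ⟨15420, 2, 7⟩)) (.node 1 (.one ⟨5556, 1, 4⟩) (.one ⟨4127, 1, 0⟩))) (.node 2 (.node 1 (.one ⟨9830, 1, 8⟩) (.one ⟨5685, 1, 4⟩)) (.node 1 (.one ⟨16775, 2, 7⟩) (.one ⟨5896, 0, 7⟩)))) (.node 4 (.node 2 (.node 1 (.one ⟨16515, 2, 6⟩) (.one ⟨5020, 0, 3⟩)) (.node 1 (.one ⟨6784, 2, 5⟩) (.one ⟨11389, 0, 3⟩))) (.node 2 (.node 1 (.one ⟨6640, 1, 3⟩) (.one ⟨16342, 0, 3⟩)) (.node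 1 (.one ⟨11853, 2, 3⟩) (.one ⟨13271, 2, 1⟩))))) (.node 8 (.node 4 (.node 2 (.node 1 (.one ⟨1701, 0, 4⟩) (.one ⟨7813, 2, 5⟩)) (.node 1 (.one ⟨6306, 1, 6⟩) (.one ⟨15402, 2, 8⟩))) (.node 2 (.node 1 (.one ⟨16442, 2, 6⟩) (.one ⟨632, 2, 6⟩)) (.node 1 (.one ⟨4011, 2, 8⟩) (.one ⟨15344, 2, 7⟩)))) (.node 4 (.node 2 (.node 1 (.one ⟨2102, 0, 7⟩) (.one ⟨7724, 2, 7⟩)) (.node 1 (.one ⟨12263, 0, 7⟩) (.one ⟨15788, 1, 8⟩))) (.node 2 (.node 1 (.one ⟨3099, 1, 4⟩) (.one ⟨14764, 1, 9⟩)) (.node 1 (.one ⟨5864, 2, 7⟩) (.one ⟨12985, 0, 4⟩)))))))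
def par7_9_10 : Arr Par :=
  (.node 32 (.node 16 (.node 8 (.node 4 (.node 2 (.node 1 (.one ⟨1568, 0, 3⟩) (.one ⟨7711, 2, 4⟩)) (.node 1 (.one ⟨7010, 0, 8⟩) (.one ⟨12917, 2, 6⟩))) (.node 2 (.node 1 (.one ⟨7008, 1, 2⟩) (.one ⟨8306, 0, 4⟩)) (.node 1 (.one ⟨9096, 1, 1⟩) (.one ⟨7139, 1, 6⟩)))) (.node 4 (.node 2 (.node 1 (.one ⟨3382, 2, 5⟩) (.one ⟨16963, 1, 9⟩)) (.node 1 (.one ⟨16523, 0, 6⟩) (.one ⟨806, 0, 8⟩))) (.node 2 (.node 1 (.one ⟨10180, 0, 9⟩) (.one ⟨1884, 2, 7⟩)) (.node 1 (.one ⟨1019, 2, 2⟩) (.one ⟨1820, 2, 7⟩))))) (.node 8 (.node 4 (.node 2 (.node 1 (.one ⟨2084, 0, 5⟩) (.one ⟨12415, 0, 7⟩)) (.node 1 (.one ⟨1818, 2, 8⟩) (.one ⟨838, 1, 5⟩))) (.node 2 (.node 1 (.one ⟨7565, 0, 2⟩) (.one ⟨1040, 1, 7⟩)) (.node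 1 (.one ⟨1816, 2, 6⟩) (.one ⟨15725, 2, 7⟩)))) (.node 4 (.node 2 (.node 1 (.one ⟨13599, 1, 5⟩) (.one ⟨629, 1, 4⟩)) (.node 1 (.one ⟨11143, 1, 7⟩) (.one ⟨3183, 1, 4⟩))) (.node 2 (.node 1 (.one ⟨10780, 1, 3⟩) (.one ⟨13142, 2, 7⟩)) (.node 1 (.one ⟨11931, 1, 4⟩) (.one ⟨2207, 1, 2⟩)))))) (.node 16 (.node 8 (.node 4 (.node 2 (.node 1 (.one ⟨1252, 1, 4⟩) (.one ⟨3416, 1, 4⟩)) (.node 1 (.one ⟨3192, 1, 2⟩) (.one ⟨5331, 2, 5⟩))) (.node 2 (.node 1 (.one ⟨4049, 1, 1⟩) (.one ⟨5009, 1, 2⟩)) (.node 1 (.one ⟨4792, 1, 4⟩) (.one ⟨4459, 2, 7⟩)))) (.node 4 (.node 2 (.node 1 (.one ⟨8246, 0, 5⟩) (.one ⟨17171, 1, 6⟩)) (.node 1 (.one ⟨14969, 0, 5⟩) (.one ⟨5027, 1, 7⟩))) (.node 2 (.node 1 (.one ⟨16768, 1, 4⟩) (.one ⟨10457, 1, 3⟩)) (.node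 1 (.one ⟨13524, 0, 9⟩) (.one ⟨7595, 1, 4⟩))))) (.node 8 (.node 4 (.node 2 (.node 1 (.one ⟨14741, 1, 2⟩) (.one ⟨13563, 1, 7⟩)) (.node 1 (.one ⟨4878, 0, 4⟩) (.one ⟨13607, 2, 5⟩))) (.node 2 (.node 1 (.one ⟨10752, 1, 4⟩) (.one ⟨11175, 2, 6⟩)) (.node 1 (.one ⟨8336, 1, 6⟩) (.one ⟨16810, 0, 3⟩)))) (.node 4 (.node 2 (.node 1 (.one ⟨13099, 1, 5⟩) (.one ⟨6141, 2, 6⟩)) (.node 1 (.one ⟨3214, 1, 6⟩) (.one ⟨13860, 0, 3⟩))) (.node 2 (.node 1 (.one ⟨8648, 0, 1⟩) (.one ⟨7131, 0, 4⟩)) (.node 1 (.one ⟨7223, 2, 9⟩) (.one ⟨16598, 1, 5⟩)))))))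
def par7_9_11 : Arr Par :=
  (.node 32 (.node 16 (.node 8 (.node 4 (.node 2 (.node 1 (.one ⟨275, 1, 9⟩) (.one ⟨5008, 0, 8⟩)) (.node 1 (.one ⟨14695, 2, 6⟩) (.one ⟨4199, 1, 9⟩))) (.node 2 (.node 1 (.one ⟨15175, 1, 5⟩) (.one ⟨7114, 2, 6⟩)) (.node 1 (.one ⟨4174, 1, 8⟩) (.one ⟨4870, 1, 3⟩)))) (.node 4 (.node 2 (.node 1 (.one ⟨15858, 1, 9⟩) (.one ⟨7105, 2, 7⟩)) (.node 1 (.one ⟨17037, 0, 6⟩) (.one ⟨15586, 0, 7⟩))) (.node 2 (.node 1 (.one ⟨12396, 0, 4⟩) (.one ⟨13863, 2, 8⟩)) (.node 1 (.one ⟨14752, 1, 8⟩) (.one ⟨16190, 1, 4⟩))))) (.node 8 (.node 4 (.node 2 (.node 1 (.one ⟨5801, 1, 1⟩) (.one ⟨12892, 1, 6⟩)) (.node 1 (.one ⟨2898, 2, 7⟩) (.one ⟨2439, 2, 6⟩))) (.node 2 (.node 1 (.one ⟨9515, 1, 4⟩) (.one ⟨8402, 1, 4⟩)) (.node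 1 (.one ⟨3595, 2, 7⟩) (.one ⟨6629, 2, 4⟩)))) (.node 4 (.node 2 (.node 1 (.one ⟨1943, 2, 9⟩) (.one ⟨8218, 2, 7⟩)) (.node 1 (.one ⟨16006, 1, 8⟩) (.one ⟨4799, 0, 4⟩))) (.node 2 (.node 1 (.one ⟨8799, 1, 5⟩) (.one ⟨9901, 2, 4⟩)) (.node 1 (.one ⟨15064, 2, 6⟩) (.one ⟨4674, 2, 8⟩)))))) (.node 16 (.node 8 (.node 4 (.node 2 (.node 1 (.one ⟨14943, 2, 6⟩) (.one ⟨9226, 2, 8⟩)) (.node 1 (.one ⟨11141, 0, 7⟩) (.one ⟨16597, 1, 3⟩))) (.node 2 (.node 1 (.one ⟨8223, 1, 3⟩) (.one ⟨12970, 1, 3⟩)) (.node 1 (.one ⟨15120, 0, 6⟩) (.one ⟨4661, 1, 5⟩)))) (.node 4 (.node 2 (.node 1 (.one ⟨3266, 0, 8⟩) (.one ⟨16414, 0, 8⟩)) (.node 1 (.one ⟨16595, 1, 3⟩) (.one ⟨1691, 0, 9⟩))) (.node 2 (.node 1 (.one ⟨4947, 0, 4⟩) (.one ⟨13873, 0, 8⟩)) (.node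 1 (.one ⟨16191, 1, 8⟩) (.one ⟨2220, 1, 6⟩))))) (.node 8 (.node 4 (.node 2 (.node 1 (.one ⟨1825, 1, 5⟩) (.one ⟨9639, 2, 3⟩)) (.node 1 (.one ⟨5183, 2, 4⟩) (.one ⟨12250, 0, 4⟩))) (.node 2 (.node 1 (.one ⟨8156, 2, 6⟩) (.one ⟨15345, 2, 5⟩)) (.node 1 (.one ⟨7768, 2, 6⟩) (.one ⟨2598, 2, 5⟩)))) (.node 4 (.node 2 (.node 1 (.one ⟨2592, 2, 6⟩) (.one ⟨2871, 1, 10⟩)) (.node 1 (.one ⟨2596, 2, 7⟩) (.one ⟨2595, 2, 3⟩))) (.node 2 (.node 1 (.one ⟨2593, 2, 8⟩) (.one ⟨2591, 2, 7⟩)) (.node 1 (.one ⟨5695, 0, 8⟩) (.one ⟨323, 1, 1⟩)))))))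
def par7_9_12 : Arr Par :=
  (.node 32 (.node 16 (.node 8 (.node 4 (.node 2 (.node 1 (.one ⟨11888, 2, 6⟩) (.one ⟨1042, 1, 4⟩)) (.node 1 (.one ⟨4648, 2, 8⟩) (.one ⟨111, 1, 6⟩))) (.node 2 (.node 1 (.one ⟨3063, 2, 6⟩) (.one ⟨769, 1, 4⟩)) (.node 1 (.one ⟨9568, 2, 6⟩) (.one ⟨5231, 2, 4⟩)))) (.node 4 (.node 2 (.node 1 (.one ⟨10556, 2, 8⟩) (.one ⟨5664, 1, 8⟩)) (.node 1 (.one ⟨5617, 1, 7⟩) (.one ⟨5937, 0, 6⟩))) (.node 2 (.node 1 (.one ⟨10673, 0, 2⟩) (.one ⟨11489, 2, 7⟩)) (.node 1 (.one ⟨3909, 2, 7⟩) (.one ⟨16915, 2, 4⟩))))) (.node 8 (.node 4 (.node 2 (.node 1 (.one ⟨14073, 2, 6⟩) (.one ⟨7474, 1, 4⟩)) (.node 1 (.one ⟨16477, 0, 9⟩) (.one ⟨15592, 1, 4⟩))) (.node 2 (.node 1 (.one ⟨7526, 1, 5⟩) (.one ⟨14545, 1, 6⟩)) (.node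 1 (.one ⟨2552, 0, 7⟩) (.one ⟨4694, 0, 7⟩)))) (.node 4 (.node 2 (.node 1 (.one ⟨12611, 2, 3⟩) (.one ⟨2155, 1, 4⟩)) (.node 1 (.one ⟨12299, 1, 4⟩) (.one ⟨11849, 2, 4⟩))) (.node 2 (.node 1 (.one ⟨4017, 1, 8⟩) (.one ⟨16710, 2, 4⟩)) (.node 1 (.one ⟨4504, 1, 7⟩) (.one ⟨9808, 0, 5⟩)))))) (.node 16 (.node 8 (.node 4 (.node 2 (.node 1 (.one ⟨8368, 1, 2⟩) (.one ⟨5244, 1, 7⟩)) (.node 1 (.one ⟨12955, 0, 5⟩) (.one ⟨8072, 0, 7⟩))) (.node 2 (.node 1 (.one ⟨361, 1, 4⟩) (.one ⟨6992, 2, 9⟩)) (.node 1 (.one ⟨2520, 2, 9⟩) (.one ⟨335, 1, 5⟩)))) (.node 4 (.node 2 (.node 1 (.one ⟨12849, 0, 6⟩) (.one ⟨16166, 2, 7⟩)) (.node 1 (.one ⟨16824, 2, 2⟩) (.one ⟨13560, 0, 7⟩))) (.node 2 (.node 1 (.one ⟨282, 1, 6⟩) (.one ⟨4463, 2, 3⟩)) (.node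 1 (.one ⟨4638, 2, 3⟩) (.one ⟨14251, 2, 3⟩))))) (.node 8 (.node 4 (.node 2 (.node 1 (.one ⟨8710, 0, 8⟩) (.one ⟨15925, 0, 3⟩)) (.node 1 (.one ⟨16458, 0, 5⟩) (.one ⟨15441, 2, 4⟩))) (.node 2 (.node 1 (.one ⟨16023, 2, 4⟩) (.one ⟨6053, 1, 4⟩)) (.node 1 (.one ⟨11029, 0, 8⟩) (.one ⟨16631, 1, 6⟩)))) (.node 4 (.node 2 (.node 1 (.one ⟨11845, 2, 6⟩) (.one ⟨7017, 2, 6⟩)) (.node 1 (.one ⟨12271, 1, 6⟩) (.one ⟨9551, 0, 6⟩))) (.node 2 (.node 1 (.one ⟨7128, 1, 9⟩) (.one ⟨3281, 0, 1⟩)) (.node 1 (.one ⟨16078, 0, 6⟩) (.one ⟨1296, 1, 1⟩)))))))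
def par7_9_13 : Arr Par :=
  (.node 32 (.node 16 (.node 8 (.node 4 (.node 2 (.node 1 (.one ⟨1408, 0, 6⟩) (.one ⟨16090, 0, 4⟩)) (.node 1 (.one ⟨3266, 1, 8⟩) (.one ⟨8751, 1, 8⟩))) (.node 2 (.node 1 (.one ⟨10170, 0, 4⟩) (.one ⟨7754, 1, 4⟩)) (.node 1 (.one ⟨509, 0, 5⟩) (.one ⟨13073, 2, 8⟩)))) (.node 4 (.node 2 (.node 1 (.one ⟨10430, 2, 8⟩) (.one ⟨13293, 0, 7⟩)) (.node 1 (.one ⟨13341, 2, 7⟩) (.one ⟨13891, 1, 4⟩))) (.node 2 (.node 1 (.one ⟨13605, 2, 4⟩) (.one ⟨12829, 2, 6⟩)) (.node 1 (.one ⟨10674, 2, 7⟩) (.one ⟨16868, 0, 8⟩))))) (.node 8 (.node 4 (.node 2 (.node 1 (.one ⟨1150, 0, 4⟩) (.one ⟨2370, 1, 4⟩)) (.node 1 (.one ⟨4408, 0, 4⟩) (.one ⟨9492, 1, 4⟩))) (.node 2 (.node 1 (.one ⟨16257, 1, 4⟩) (.one ⟨6095, 2, 5⟩))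 (.node 1 (.one ⟨11543, 2, 8⟩) (.one ⟨13052, 1, 4⟩)))) (.node 4 (.node 2 (.node 1 (.one ⟨5369, 1, 5⟩) (.one ⟨6795, 1, 6⟩)) (.node 1 (.one ⟨15407, 1, 7⟩) (.one ⟨3533, 0, 9⟩))) (.node 2 (.node 1 (.one ⟨10015, 1, 6⟩) (.one ⟨11411, 2, 2⟩)) (.node 1 (.one ⟨7770, 1, 6⟩) (.one ⟨15732, 0, 5⟩)))))) (.node 16 (.node 8 (.node 4 (.node 2 (.node 1 (.one ⟨17033, 0, 9⟩) (.one ⟨5931, 0, 7⟩)) (.node 1 (.one ⟨7281, 0, 5⟩) (.one ⟨5024, 1, 7⟩))) (.node 2 (.node 1 (.one ⟨10257, 1, 8⟩) (.one ⟨5055, 1, 6⟩)) (.node 1 (.one ⟨3509, 0, 6⟩) (.one ⟨14997, 2, 7⟩)))) (.node 4 (.node 2 (.node 1 (.one ⟨11782, 1, 6⟩) (.one ⟨4949, 0, 8⟩)) (.node 1 (.one ⟨16226, 2, 1⟩) (.one ⟨4725, 2, 5⟩))) (.node 2 (.node 1 (.one ⟨10426, 1, 5⟩) (.one ⟨12582,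 1, 3⟩)) (.node 1 (.one ⟨9535, 0, 4⟩) (.one ⟨4190, 2, 9⟩))))) (.node 8 (.node 4 (.node 2 (.node 1 (.one ⟨1476, 1, 4⟩) (.one ⟨7076, 2, 5⟩)) (.node 1 (.one ⟨6973, 1, 7⟩) (.one ⟨7775, 1, 7⟩))) (.node 2 (.node 1 (.one ⟨2133, 1, 4⟩) (.one ⟨7173, 2, 8⟩)) (.node 1 (.one ⟨11592, 2, 5⟩) (.one ⟨414, 1, 4⟩)))) (.node 4 (.node 2 (.node 1 (.one ⟨121, 1, 4⟩) (.one ⟨13923, 1, 2⟩)) (.node 1 (.one ⟨2475, 2, 6⟩) (.one ⟨1495, 2, 4⟩))) (.node 2 (.node 1 (.one ⟨3938, 2, 6⟩) (.one ⟨1137, 0, 5⟩)) (.node 1 (.one ⟨75, 1, 5⟩) (.one ⟨10614, 2, 6⟩)))))))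
def par7_9_14 : Arr Par :=
  (.node 32 (.node 16 (.node 8 (.node 4 (.node 2 (.node 1 (.one ⟨11615, 2, 3⟩) (.one ⟨7101, 1, 3⟩)) (.node 1 (.one ⟨2120, 2, 6⟩) (.one ⟨5471, 1, 6⟩))) (.node 2 (.node 1 (.one ⟨3657, 1, 4⟩) (.one ⟨13600, 1, 4⟩)) (.node 1 (.one ⟨9541, 0, 1⟩) (.one ⟨260, 1, 6⟩)))) (.node 4 (.node 2 (.node 1 (.one ⟨3404, 0, 5⟩) (.one ⟨13496, 1, 7⟩)) (.node 1 (.one ⟨837, 1, 4⟩) (.one ⟨58, 1, 7⟩))) (.node 2 (.node 1 (.one ⟨13499, 1, 7⟩) (.one ⟨13120, 2, 6⟩)) (.node 1 (.one ⟨9552, 0, 3⟩) (.one ⟨8839, 0, 4⟩))))) (.node 8 (.node 4 (.node 2 (.node 1 (.one ⟨11309, 0, 9⟩) (.one ⟨17150, 2, 9⟩)) (.node 1 (.one ⟨15034, 2, 7⟩) (.one ⟨16912, 1, 3⟩))) (.node 2 (.node 1 (.one ⟨11622, 0, 7⟩) (.one ⟨13327, 0, 4⟩)) (.node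 1 (.one ⟨16805, 1, 3⟩) (.one ⟨15349, 2, 7⟩)))) (.node 4 (.node 2 (.node 1 (.one ⟨262, 0, 9⟩) (.one ⟨11646, 2, 7⟩)) (.node 1 (.one ⟨6639, 0, 3⟩) (.one ⟨2098, 0, 3⟩))) (.node 2 (.node 1 (.one ⟨17007, 2, 7⟩) (.one ⟨6961, 0, 8⟩)) (.node 1 (.one ⟨9728, 2, 7⟩) (.one ⟨13786, 2, 5⟩)))))) (.node 16 (.node 8 (.node 4 (.node 2 (.node 1 (.one ⟨1149, 0, 6⟩) (.one ⟨13789, 2, 9⟩)) (.node 1 (.one ⟨6644, 1, 7⟩) (.one ⟨9382, 1, 4⟩))) (.node 2 (.node 1 (.one ⟨11311, 0, 4⟩) (.one ⟨10661, 2, 6⟩)) (.node 1 (.one ⟨15577, 1, 8⟩) (.one ⟨3933, 1, 8⟩)))) (.node 4 (.node 2 (.node 1 (.one ⟨4147, 1, 10⟩) (.one ⟨3385, 2, 4⟩)) (.node 1 (.one ⟨10199, 0, 7⟩) (.one ⟨13446, 1, 7⟩))) (.node 2 (.node 1 (.one ⟨13174, 1, 1⟩) (.one ⟨1410, 0, 3⟩))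 (.node 1 (.one ⟨1781, 1, 5⟩) (.one ⟨16450, 2, 9⟩))))) (.node 8 (.node 4 (.node 2 (.node 1 (.one ⟨13839, 1, 5⟩) (.one ⟨6587, 0, 4⟩)) (.node 1 (.one ⟨16097, 2, 9⟩) (.one ⟨12722, 0, 7⟩))) (.node 2 (.node 1 (.one ⟨10808, 2, 7⟩) (.one ⟨9936, 2, 2⟩)) (.node 1 (.one ⟨690, 2, 5⟩) (.one ⟨11761, 0, 4⟩)))) (.node 4 (.node 2 (.node 1 (.one ⟨9456, 0, 6⟩) (.one ⟨761, 1, 4⟩)) (.node 1 (.one ⟨3968, 2, 3⟩) (.one ⟨9924, 2, 6⟩))) (.node 2 (.node 1 (.one ⟨2798, 1, 8⟩) (.one ⟨15241, 0, 7⟩)) (.node 1 (.one ⟨16469, 2, 4⟩) (.one ⟨5085, 1, 10⟩)))))))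
def par7_9_15 : Arr Par :=
  (.node 32 (.node 16 (.node 8 (.node 4 (.node 2 (.node 1 (.one ⟨4412, 0, 9⟩) (.one ⟨5083, 1, 6⟩)) (.node 1 (.one ⟨17043, 2, 5⟩) (.one ⟨14135, 2, 4⟩))) (.node 2 (.node 1 (.one ⟨12674, 2, 8⟩) (.one ⟨6393, 2, 9⟩)) (.node 1 (.one ⟨5376, 2, 8⟩) (.one ⟨16456, 1, 8⟩)))) (.node 4 (.node 2 (.node 1 (.one ⟨5038, 1, 2⟩) (.one ⟨4989, 1, 6⟩)) (.node 1 (.one ⟨16471, 1, 6⟩) (.one ⟨8498, 0, 6⟩))) (.node 2 (.node 1 (.one ⟨14040, 1, 4⟩) (.one ⟨12939, 0, 6⟩)) (.node 1 (.one ⟨2417, 2, 3⟩) (.one ⟨11724, 2, 7⟩))))) (.node 8 (.node 4 (.node 2 (.node 1 (.one ⟨7286, 1, 8⟩) (.one ⟨10255, 1, 3⟩)) (.node 1 (.one ⟨10771, 1, 8⟩) (.one ⟨16414, 1, 8⟩))) (.node 2 (.node 1 (.one ⟨4838, 1, 0⟩) (.one ⟨5252, 1, 4⟩))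 (.node 1 (.one ⟨4910, 1, 3⟩) (.one ⟨8756, 2, 6⟩)))) (.node 4 (.node 2 (.node 1 (.one ⟨4205, 0, 8⟩) (.one ⟨9455, 0, 8⟩)) (.node 1 (.one ⟨12228, 1, 7⟩) (.one ⟨11947, 1, 6⟩))) (.node 2 (.node 1 (.one ⟨16142, 1, 3⟩) (.one ⟨3263, 2, 7⟩)) (.node 1 (.one ⟨9374, 1, 6⟩) (.one ⟨9732, 1, 5⟩)))))) (.node 16 (.node 8 (.node 4 (.node 2 (.node 1 (.one ⟨2146, 1, 4⟩) (.one ⟨15451, 0, 3⟩)) (.node 1 (.one ⟨12339, 0, 5⟩) (.one ⟨12283, 0, 9⟩))) (.node 2 (.node 1 (.one ⟨6690, 1, 8⟩) (.one ⟨5893, 1, 3⟩)) (.node 1 (.one ⟨14048, 1, 8⟩) (.one ⟨10377, 1, 2⟩)))) (.node 4 (.node 2 (.node 1 (.one ⟨8625, 2, 3⟩) (.one ⟨2718, 1, 3⟩)) (.node 1 (.one ⟨14394, 1, 3⟩) (.one ⟨14092, 1, 4⟩))) (.node 2 (.node 1 (.one ⟨1131, 1, 2⟩) (.one ⟨9417, 0,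 5⟩)) (.node 1 (.one ⟨10724, 2, 9⟩) (.one ⟨10673, 2, 2⟩))))) (.node 8 (.node 4 (.node 2 (.node 1 (.one ⟨2057, 1, 9⟩) (.one ⟨10038, 1, 9⟩)) (.node 1 (.one ⟨702, 2, 6⟩) (.one ⟨1454, 0, 5⟩))) (.node 2 (.node 1 (.one ⟨10730, 2, 8⟩) (.one ⟨4849, 0, 5⟩)) (.node 1 (.one ⟨10042, 1, 7⟩) (.one ⟨5754, 1, 8⟩)))) (.node 4 (.node 2 (.node 1 (.one ⟨14042, 1, 3⟩) (.one ⟨1088, 1, 6⟩)) (.node 1 (.one ⟨10278, 1, 8⟩) (.one ⟨14040, 0, 4⟩))) (.node 2 (.node 1 (.one ⟨2172, 1, 9⟩) (.one ⟨9421, 0, 8⟩)) (.node 1 (.one ⟨5958, 1, 9⟩) (.one ⟨1466, 0, 3⟩)))))))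
def par7_9 : Arr Par :=
  (.node 512 (.node 256 (.node 128 (.node 64 par7_9_0 par7_9_1) (.node 64 par7_9_2 par7_9_3)) (.node 128 (.node 64 par7_9_4 par7_9_5) (.node 64 par7_9_6 par7_9_7))) (.node 256 (.node 128 (.node 64 par7_9_8 par7_9_9) (.node 64 par7_9_10 par7_9_11)) (.node 128 (.node 64 par7_9_12 par7_9_13) (.node 64 par7_9_14 par7_9_15))))
def par7_10_0 : Arr Par :=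
  (.node 32 (.node 16 (.node 8 (.node 4 (.node 2 (.node 1 (.one ⟨4368, 1, 6⟩) (.one ⟨12469, 1, 5⟩)) (.node 1 (.one ⟨11977, 1, 8⟩) (.one ⟨2026, 1, 7⟩))) (.node 2 (.node 1 (.one ⟨3699, 0, 3⟩) (.one ⟨11867, 2, 7⟩)) (.node 1 (.one ⟨10006, 1, 8⟩) (.one ⟨10282, 1, 5⟩)))) (.node 4 (.node 2 (.node 1 (.one ⟨734, 1, 7⟩) (.one ⟨13312, 2, 8⟩)) (.node 1 (.one ⟨3656, 1, 7⟩) (.one ⟨5426, 2, 8⟩))) (.node 2 (.node 1 (.one ⟨13134, 0, 4⟩) (.one ⟨13193, 0, 6⟩)) (.node 1 (.one ⟨10189, 1, 7⟩) (.one ⟨1453, 0, 2⟩))))) (.node 8 (.node 4 (.node 2 (.node 1 (.one ⟨5558, 2, 6⟩) (.one ⟨5763, 2, 7⟩)) (.node 1 (.one ⟨12914, 2, 5⟩) (.one ⟨5855, 2, 5⟩))) (.node 2 (.node 1 (.one ⟨12909, 2, 8⟩) (.one ⟨12653, 2, 6⟩)) (.node 1 (.one ⟨3827, 1, 6⟩)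 (.one ⟨4568, 1, 6⟩)))) (.node 4 (.node 2 (.node 1 (.one ⟨2016, 2, 5⟩) (.one ⟨12854, 0, 3⟩)) (.node 1 (.one ⟨13422, 1, 2⟩) (.one ⟨5081, 1, 0⟩))) (.node 2 (.node 1 (.one ⟨14092, 0, 4⟩) (.one ⟨3971, 2, 5⟩)) (.node 1 (.one ⟨6462, 1, 3⟩) (.one ⟨2914, 2, 7⟩)))))) (.node 16 (.node 8 (.node 4 (.node 2 (.node 1 (.one ⟨5557, 2, 2⟩) (.one ⟨1099, 2, 5⟩)) (.node 1 (.one ⟨10019, 1, 8⟩) (.one ⟨3314, 1, 6⟩))) (.node 2 (.node 1 (.one ⟨6792, 1, 3⟩) (.one ⟨3751, 2, 2⟩)) (.node 1 (.one ⟨5983, 0, 7⟩) (.one ⟨4187, 2, 9⟩)))) (.node 4 (.node 2 (.node 1 (.one ⟨9468, 0, 1⟩) (.one ⟨8627, 2, 4⟩)) (.node 1 (.one ⟨3336, 2, 4⟩) (.one ⟨8610, 2, 6⟩))) (.node 2 (.node 1 (.one ⟨3418, 1, 5⟩) (.one ⟨4434, 2, 4⟩)) (.node 1 (.one ⟨3386, 1, 4⟩) (.one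 ⟨2376, 1, 2⟩))))) (.node 8 (.node 4 (.node 2 (.node 1 (.one ⟨10489, 1, 8⟩) (.one ⟨1105, 0, 5⟩)) (.node 1 (.one ⟨8076, 2, 4⟩) (.one ⟨10522, 1, 5⟩))) (.node 2 (.node 1 (.one ⟨4758, 2, 4⟩) (.one ⟨3282, 1, 6⟩)) (.node 1 (.one ⟨2874, 0, 5⟩) (.one ⟨9962, 1, 4⟩)))) (.node 4 (.node 2 (.node 1 (.one ⟨10715, 1, 5⟩) (.one ⟨3237, 2, 5⟩)) (.node 1 (.one ⟨2525, 0, 7⟩) (.one ⟨1248, 0, 6⟩))) (.node 2 (.node 1 (.one ⟨14990, 0, 3⟩) (.one ⟨15465, 2, 6⟩)) (.node 1 (.one ⟨13900, 2, 6⟩) (.one ⟨6963, 2, 9⟩)))))))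
def par7_10_1 : Arr Par :=
  (.node 32 (.node 16 (.node 8 (.node 4 (.node 2 (.node 1 (.one ⟨6737, 0, 6⟩) (.one ⟨11408, 0, 2⟩)) (.node 1 (.one ⟨11624, 2, 3⟩) (.one ⟨10678, 0, 5⟩))) (.node 2 (.node 1 (.one ⟨1485, 1, 4⟩) (.one ⟨6034, 2, 5⟩)) (.node 1 (.one ⟨11153, 2, 7⟩) (.one ⟨14407, 0, 2⟩)))) (.node 4 (.node 2 (.node 1 (.one ⟨6129, 0, 3⟩) (.one ⟨4111, 1, 0⟩)) (.node 1 (.one ⟨10, 0, 5⟩) (.one ⟨15607, 2, 7⟩))) (.node 2 (.node 1 (.one ⟨1249, 0, 1⟩) (.one ⟨15606, 2, 6⟩)) (.node 1 (.one ⟨12391, 1, 3⟩) (.one ⟨14177, 1, 5⟩))))) (.node 8 (.node 4 (.node 2 (.node 1 (.one ⟨6721, 1, 4⟩) (.one ⟨16235, 2, 5⟩)) (.node 1 (.one ⟨11475, 1, 8⟩) (.one ⟨14387, 0, 4⟩))) (.node 2 (.node 1 (.one ⟨6699, 2, 7⟩) (.one ⟨4176, 1, 0⟩))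 (.node 1 (.one ⟨7065, 2, 5⟩) (.one ⟨14317, 1, 2⟩)))) (.node 4 (.node 2 (.node 1 (.one ⟨1660, 2, 4⟩) (.one ⟨981, 2, 9⟩)) (.node 1 (.one ⟨11555, 2, 3⟩) (.one ⟨13775, 1, 6⟩))) (.node 2 (.node 1 (.one ⟨2998, 0, 4⟩) (.one ⟨6964, 1, 5⟩)) (.node 1 (.one ⟨12129, 0, 9⟩) (.one ⟨10252, 1, 5⟩)))))) (.node 16 (.node 8 (.node 4 (.node 2 (.node 1 (.one ⟨16837, 0, 8⟩) (.one ⟨11471, 0, 6⟩)) (.node 1 (.one ⟨1254, 0, 8⟩) (.one ⟨9055, 2, 5⟩))) (.node 2 (.node 1 (.one ⟨2171, 1, 4⟩) (.one ⟨4817, 0, 4⟩)) (.node 1 (.one ⟨16671, 2, 6⟩) (.one ⟨5302, 2, 6⟩)))) (.node 4 (.node 2 (.node 1 (.one ⟨10389, 1, 5⟩) (.one ⟨1116, 0, 7⟩)) (.node 1 (.one ⟨16881, 2, 8⟩) (.one ⟨7625, 2, 8⟩))) (.node 2 (.node 1 (.one ⟨11236, 2, 3⟩) (.one ⟨9356, 1,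 4⟩)) (.node 1 (.one ⟨3649, 1, 5⟩) (.one ⟨13531, 2, 4⟩))))) (.node 8 (.node 4 (.node 2 (.node 1 (.one ⟨10585, 1, 3⟩) (.one ⟨874, 0, 5⟩)) (.node 1 (.one ⟨9664, 2, 8⟩) (.one ⟨2259, 0, 7⟩))) (.node 2 (.node 1 (.one ⟨2260, 0, 4⟩) (.one ⟨2257, 0, 7⟩)) (.node 1 (.one ⟨17113, 2, 6⟩) (.one ⟨5798, 1, 9⟩)))) (.node 4 (.node 2 (.node 1 (.one ⟨14543, 0, 3⟩) (.one ⟨9625, 0, 5⟩)) (.node 1 (.one ⟨11854, 0, 4⟩) (.one ⟨3435, 0, 6⟩))) (.node 2 (.node 1 (.one ⟨8814, 1, 8⟩) (.one ⟨8530, 0, 6⟩)) (.node 1 (.one ⟨5229, 1, 8⟩) (.one ⟨9634, 1, 5⟩)))))))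
def par7_10_2 : Arr Par :=
  (.node 32 (.node 16 (.node 8 (.node 4 (.node 2 (.node 1 (.one ⟨14824, 1, 5⟩) (.one ⟨14086, 2, 5⟩)) (.node 1 (.one ⟨7839, 1, 7⟩) (.one ⟨10433, 2, 3⟩))) (.node 2 (.node 1 (.one ⟨10432, 2, 7⟩) (.one ⟨4642, 1, 6⟩)) (.node 1 (.one ⟨7786, 1, 4⟩) (.one ⟨14766, 1, 2⟩)))) (.node 4 (.node 2 (.node 1 (.one ⟨2029, 2, 5⟩) (.one ⟨1191, 2, 1⟩)) (.node 1 (.one ⟨635, 0, 2⟩) (.one ⟨1336, 2, 1⟩))) (.node 2 (.node 1 (.one ⟨9181, 2, 1⟩) (.one ⟨10038, 2, 9⟩)) (.node 1 (.one ⟨12968, 1, 3⟩) (.one ⟨10323, 1, 5⟩))))) (.node 8 (.node 4 (.node 2 (.node 1 (.one ⟨8452, 1, 8⟩) (.one ⟨9624, 0, 6⟩)) (.node 1 (.one ⟨17117, 0, 3⟩) (.one ⟨4356, 1, 7⟩))) (.node 2 (.node 1 (.one ⟨14894, 0, 9⟩) (.one ⟨10584, 1, 4⟩))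 (.node 1 (.one ⟨8570, 1, 7⟩) (.one ⟨2277, 0, 5⟩)))) (.node 4 (.node 2 (.node 1 (.one ⟨14392, 2, 1⟩) (.one ⟨2339, 1, 7⟩)) (.node 1 (.one ⟨4749, 1, 3⟩) (.one ⟨15994, 2, 3⟩))) (.node 2 (.node 1 (.one ⟨5254, 1, 2⟩) (.one ⟨4499, 2, 6⟩)) (.node 1 (.one ⟨2275, 0, 3⟩) (.one ⟨1295, 1, 2⟩)))))) (.node 16 (.node 8 (.node 4 (.node 2 (.node 1 (.one ⟨8085, 2, 3⟩) (.one ⟨7844, 1, 5⟩)) (.node 1 (.one ⟨9663, 2, 6⟩) (.one ⟨6838, 0, 3⟩))) (.node 2 (.node 1 (.one ⟨4568, 2, 6⟩) (.one ⟨16843, 1, 4⟩)) (.node 1 (.one ⟨15086, 2, 5⟩) (.one ⟨9005, 1, 5⟩)))) (.node 4 (.node 2 (.node 1 (.one ⟨17057, 1, 2⟩) (.one ⟨11261, 1, 4⟩)) (.node 1 (.one ⟨13431, 2, 5⟩) (.one ⟨9187, 1, 3⟩))) (.node 2 (.node 1 (.one ⟨16042, 2, 4⟩) (.one ⟨7841, 1, 6⟩))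 (.node 1 (.one ⟨15891, 1, 4⟩) (.one ⟨13002, 2, 3⟩))))) (.node 8 (.node 4 (.node 2 (.node 1 (.one ⟨4822, 1, 8⟩) (.one ⟨15362, 2, 7⟩)) (.node 1 (.one ⟨645, 2, 8⟩) (.one ⟨10402, 1, 7⟩))) (.node 2 (.node 1 (.one ⟨12808, 1, 6⟩) (.one ⟨1497, 1, 7⟩)) (.node 1 (.one ⟨15842, 2, 3⟩) (.one ⟨6073, 0, 4⟩)))) (.node 4 (.node 2 (.node 1 (.one ⟨8793, 0, 6⟩) (.one ⟨13949, 2, 4⟩)) (.node 1 (.one ⟨5758, 1, 4⟩) (.one ⟨9132, 2, 6⟩))) (.node 2 (.node 1 (.one ⟨3304, 1, 8⟩) (.one ⟨3648, 0, 4⟩)) (.node 1 (.one ⟨3251, 0, 7⟩) (.one ⟨9957, 2, 4⟩)))))))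
def par7_10_3 : Arr Par :=
  (.node 32 (.node 16 (.node 8 (.node 4 (.node 2 (.node 1 (.one ⟨13708, 1, 6⟩) (.one ⟨8886, 1, 2⟩)) (.node 1 (.one ⟨340, 2, 5⟩) (.one ⟨12564, 0, 9⟩))) (.node 2 (.node 1 (.one ⟨7532, 2, 5⟩) (.one ⟨10867, 0, 6⟩)) (.node 1 (.one ⟨13292, 1, 5⟩) (.one ⟨6716, 1, 7⟩)))) (.node 4 (.node 2 (.node 1 (.one ⟨6705, 1, 5⟩) (.one ⟨14854, 1, 5⟩)) (.node 1 (.one ⟨4077, 2, 5⟩) (.one ⟨12260, 2, 6⟩))) (.node 2 (.node 1 (.one ⟨6808, 1, 5⟩) (.one ⟨14830, 1, 5⟩)) (.node 1 (.one ⟨14822, 1, 5⟩) (.one ⟨11412, 2, 4⟩))))) (.node 8 (.node 4 (.node 2 (.node 1 (.one ⟨5428, 2, 8⟩) (.one ⟨16701, 2, 2⟩)) (.node 1 (.one ⟨10959, 1, 7⟩) (.one ⟨1845, 1, 9⟩))) (.node 2 (.node 1 (.one ⟨2925, 1, 3⟩) (.one ⟨9911, 1, 4⟩))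 (.node 1 (.one ⟨4531, 0, 5⟩) (.one ⟨4905, 1, 5⟩)))) (.node 4 (.node 2 (.node 1 (.one ⟨15800, 2, 4⟩) (.one ⟨15390, 2, 2⟩)) (.node 1 (.one ⟨3911, 2, 7⟩) (.one ⟨6599, 1, 5⟩))) (.node 2 (.node 1 (.one ⟨15633, 1, 8⟩) (.one ⟨14413, 2, 5⟩)) (.node 1 (.one ⟨4924, 1, 6⟩) (.one ⟨4113, 1, 0⟩)))))) (.node 16 (.node 8 (.node 4 (.node 2 (.node 1 (.one ⟨4158, 1, 0⟩) (.one ⟨4162, 1, 0⟩)) (.node 1 (.one ⟨14305, 0, 5⟩) (.one ⟨7423, 1, 5⟩))) (.node 2 (.node 1 (.one ⟨12642, 0, 5⟩) (.one ⟨6639, 1, 3⟩)) (.node 1 (.one ⟨2823, 1, 6⟩) (.one ⟨3585, 1, 2⟩)))) (.node 4 (.node 2 (.node 1 (.one ⟨13579, 2, 3⟩) (.one ⟨7857, 1, 6⟩)) (.node 1 (.one ⟨3212, 2, 5⟩) (.one ⟨9678, 1, 5⟩))) (.node 2 (.node 1 (.one ⟨2800, 2, 5⟩) (.one ⟨11833, 2, 5⟩))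 (.node 1 (.one ⟨11563, 1, 4⟩) (.one ⟨9850, 1, 8⟩))))) (.node 8 (.node 4 (.node 2 (.node 1 (.one ⟨7641, 0, 5⟩) (.one ⟨12466, 1, 6⟩)) (.node 1 (.one ⟨12848, 0, 9⟩) (.one ⟨16637, 2, 3⟩))) (.node 2 (.node 1 (.one ⟨12781, 2, 8⟩) (.one ⟨9381, 2, 2⟩)) (.node 1 (.one ⟨4278, 1, 9⟩) (.one ⟨14916, 1, 5⟩)))) (.node 4 (.node 2 (.node 1 (.one ⟨15626, 0, 5⟩) (.one ⟨9976, 0, 7⟩)) (.node 1 (.one ⟨12959, 0, 5⟩) (.one ⟨6379, 2, 6⟩))) (.node 2 (.node 1 (.one ⟨13192, 0, 5⟩) (.one ⟨3018, 1, 5⟩)) (.node 1 (.one ⟨15138, 0, 6⟩) (.one ⟨4377, 1, 4⟩)))))))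
def par7_10_4 : Arr Par :=
  (.node 32 (.node 16 (.node 8 (.node 4 (.node 2 (.node 1 (.one ⟨7938, 1, 8⟩) (.one ⟨10357, 1, 8⟩)) (.node 1 (.one ⟨13706, 1, 4⟩) (.one ⟨8835, 0, 5⟩))) (.node 2 (.node 1 (.one ⟨6365, 0, 3⟩) (.one ⟨3669, 1, 4⟩)) (.node 1 (.one ⟨2367, 2, 7⟩) (.one ⟨14197, 1, 6⟩)))) (.node 4 (.node 2 (.node 1 (.one ⟨14923, 2, 8⟩) (.one ⟨915, 1, 5⟩)) (.node 1 (.one ⟨13512, 2, 6⟩) (.one ⟨3090, 1, 3⟩))) (.node 2 (.node 1 (.one ⟨10267, 0, 1⟩) (.one ⟨14753, 1, 5⟩)) (.node 1 (.one ⟨1084, 1, 5⟩) (.one ⟨11971, 2, 5⟩))))) (.node 8 (.node 4 (.node 2 (.node 1 (.one ⟨3905, 1, 0⟩) (.one ⟨14589, 1, 5⟩)) (.node 1 (.one ⟨7337, 0, 2⟩) (.one ⟨2623, 1, 3⟩))) (.node 2 (.node 1 (.one ⟨1128, 1, 5⟩) (.one ⟨11254, 2, 5⟩)) (.node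 1 (.one ⟨6527, 2, 5⟩) (.one ⟨11911, 1, 4⟩)))) (.node 4 (.node 2 (.node 1 (.one ⟨3823, 1, 6⟩) (.one ⟨8877, 0, 7⟩)) (.node 1 (.one ⟨8878, 0, 4⟩) (.one ⟨16082, 2, 8⟩))) (.node 2 (.node 1 (.one ⟨1024, 0, 6⟩) (.one ⟨8871, 0, 8⟩)) (.node 1 (.one ⟨14946, 1, 5⟩) (.one ⟨9729, 0, 6⟩)))))) (.node 16 (.node 8 (.node 4 (.node 2 (.node 1 (.one ⟨6545, 2, 5⟩) (.one ⟨9873, 1, 8⟩)) (.node 1 (.one ⟨13881, 1, 4⟩) (.one ⟨9523, 1, 5⟩))) (.node 2 (.node 1 (.one ⟨13643, 1, 8⟩) (.one ⟨14059, 1, 5⟩)) (.node 1 (.one ⟨10027, 1, 8⟩) (.one ⟨138, 2, 5⟩)))) (.node 4 (.node 2 (.node 1 (.one ⟨12194, 1, 6⟩) (.one ⟨858, 2, 8⟩)) (.node 1 (.one ⟨531, 2, 5⟩) (.one ⟨524, 2, 7⟩))) (.node 2 (.node 1 (.one ⟨916, 2, 5⟩) (.one ⟨10940, 0, 7⟩)) (.node 1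 (.one ⟨12722, 1, 7⟩) (.one ⟨7540, 0, 7⟩))))) (.node 8 (.node 4 (.node 2 (.node 1 (.one ⟨11302, 1, 7⟩) (.one ⟨5866, 1, 6⟩)) (.node 1 (.one ⟨9029, 2, 8⟩) (.one ⟨13521, 2, 9⟩))) (.node 2 (.node 1 (.one ⟨13963, 2, 9⟩) (.one ⟨13857, 2, 8⟩)) (.node 1 (.one ⟨15726, 0, 5⟩) (.one ⟨10949, 0, 6⟩)))) (.node 4 (.node 2 (.node 1 (.one ⟨7357, 2, 7⟩) (.one ⟨13468, 0, 8⟩)) (.node 1 (.one ⟨16748, 2, 5⟩) (.one ⟨14808, 1, 2⟩))) (.node 2 (.node 1 (.one ⟨1264, 1, 7⟩) (.one ⟨15081, 1, 7⟩)) (.node 1 (.one ⟨1888, 1, 7⟩) (.one ⟨12404, 0, 9⟩)))))))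
def par7_10_5 : Arr Par :=
  (.node 32 (.node 16 (.node 8 (.node 4 (.node 2 (.node 1 (.one ⟨5480, 1, 3⟩) (.one ⟨1656, 1, 6⟩)) (.node 1 (.one ⟨3202, 2, 8⟩) (.one ⟨8201, 1, 6⟩))) (.node 2 (.node 1 (.one ⟨2751, 1, 4⟩) (.one ⟨4295, 1, 4⟩)) (.node 1 (.one ⟨6857, 1, 5⟩) (.one ⟨14561, 1, 3⟩)))) (.node 4 (.node 2 (.node 1 (.one ⟨9663, 1, 6⟩) (.one ⟨10201, 2, 9⟩)) (.node 1 (.one ⟨2011, 1, 3⟩) (.one ⟨10206, 1, 7⟩))) (.node 2 (.node 1 (.one ⟨14427, 1, 4⟩) (.one ⟨1127, 1, 3⟩)) (.node 1 (.one ⟨6560, 1, 8⟩) (.one ⟨11134, 1, 5⟩))))) (.node 8 (.node 4 (.node 2 (.node 1 (.one ⟨13271, 0, 1⟩) (.one ⟨11967, 2, 6⟩)) (.node 1 (.one ⟨4850, 0, 2⟩) (.one ⟨1957, 1, 3⟩))) (.node 2 (.node 1 (.one ⟨11045, 2, 5⟩) (.one ⟨5724, 0, 5⟩)) (.node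 1 (.one ⟨1079, 1, 3⟩) (.one ⟨5769, 0, 5⟩)))) (.node 4 (.node 2 (.node 1 (.one ⟨327, 2, 3⟩) (.one ⟨14301, 0, 2⟩)) (.node 1 (.one ⟨6484, 1, 10⟩) (.one ⟨8794, 2, 4⟩))) (.node 2 (.node 1 (.one ⟨4565, 2, 7⟩) (.one ⟨786, 1, 5⟩)) (.node 1 (.one ⟨9890, 2, 3⟩) (.one ⟨1449, 2, 6⟩)))))) (.node 16 (.node 8 (.node 4 (.node 2 (.node 1 (.one ⟨1030, 1, 9⟩) (.one ⟨9146, 2, 1⟩)) (.node 1 (.one ⟨8288, 1, 6⟩) (.one ⟨9291, 2, 5⟩))) (.node 2 (.node 1 (.one ⟨14583, 2, 3⟩) (.one ⟨13704, 1, 2⟩)) (.node 1 (.one ⟨6567, 2, 6⟩) (.one ⟨10601, 0, 3⟩)))) (.node 4 (.node 2 (.node 1 (.one ⟨10762, 0, 3⟩) (.one ⟨1712, 0, 2⟩)) (.node 1 (.one ⟨7, 0, 5⟩) (.one ⟨16897, 2, 6⟩))) (.node 2 (.node 1 (.one ⟨13591, 0, 4⟩) (.one ⟨4833, 0, 1⟩)) (.node 1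 (.one ⟨3175, 1, 4⟩) (.one ⟨6254, 0, 3⟩))))) (.node 8 (.node 4 (.node 2 (.node 1 (.one ⟨6945, 0, 3⟩) (.one ⟨8083, 2, 6⟩)) (.node 1 (.one ⟨12840, 0, 3⟩) (.one ⟨13675, 1, 6⟩))) (.node 2 (.node 1 (.one ⟨14421, 2, 3⟩) (.one ⟨4735, 0, 3⟩)) (.node 1 (.one ⟨2752, 1, 5⟩) (.one ⟨2609, 1, 7⟩)))) (.node 4 (.node 2 (.node 1 (.one ⟨11069, 2, 8⟩) (.one ⟨13868, 0, 9⟩)) (.node 1 (.one ⟨13318, 2, 4⟩) (.one ⟨3543, 0, 2⟩))) (.node 2 (.node 1 (.one ⟨5430, 2, 7⟩) (.one ⟨6309, 2, 4⟩)) (.node 1 (.one ⟨15500, 0, 3⟩) (.one ⟨13408, 0, 3⟩)))))))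
def par7_10_6 : Arr Par :=
  (.node 32 (.node 16 (.node 8 (.node 4 (.node 2 (.node 1 (.one ⟨5051, 2, 6⟩) (.one ⟨7628, 0, 9⟩)) (.node 1 (.one ⟨13109, 2, 8⟩) (.one ⟨17044, 2, 6⟩))) (.node 2 (.node 1 (.one ⟨5882, 2, 3⟩) (.one ⟨15651, 1, 7⟩)) (.node 1 (.one ⟨7175, 1, 4⟩) (.one ⟨6301, 1, 8⟩)))) (.node 4 (.node 2 (.node 1 (.one ⟨324, 2, 6⟩) (.one ⟨7106, 1, 5⟩)) (.node 1 (.one ⟨7170, 1, 5⟩) (.one ⟨14375, 1, 8⟩))) (.node 2 (.node 1 (.one ⟨14311, 1, 5⟩) (.one ⟨9204, 2, 6⟩)) (.node 1 (.one ⟨10566, 2, 6⟩) (.one ⟨8697, 2, 9⟩))))) (.node 8 (.node 4 (.node 2 (.node 1 (.one ⟨3093, 1, 7⟩) (.one ⟨11096, 1, 3⟩)) (.node 1 (.one ⟨12485, 2, 6⟩) (.one ⟨4502, 2, 6⟩))) (.node 2 (.node 1 (.one ⟨2994, 1, 7⟩) (.one ⟨12168, 0, 8⟩)) (.node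 1 (.one ⟨16736, 2, 6⟩) (.one ⟨13389, 0, 2⟩)))) (.node 4 (.node 2 (.node 1 (.one ⟨7327, 1, 6⟩) (.one ⟨15610, 2, 2⟩)) (.node 1 (.one ⟨15417, 1, 4⟩) (.one ⟨9320, 1, 7⟩))) (.node 2 (.node 1 (.one ⟨15471, 2, 7⟩) (.one ⟨13390, 0, 5⟩)) (.node 1 (.one ⟨7366, 1, 6⟩) (.one ⟨14171, 2, 4⟩)))))) (.node 16 (.node 8 (.node 4 (.node 2 (.node 1 (.one ⟨15262, 2, 3⟩) (.one ⟨17077, 1, 6⟩)) (.node 1 (.one ⟨11542, 2, 6⟩) (.one ⟨3414, 2, 6⟩))) (.node 2 (.node 1 (.one ⟨13710, 1, 7⟩) (.one ⟨8290, 0, 5⟩)) (.node 1 (.one ⟨11129, 1, 7⟩) (.one ⟨799, 1, 6⟩)))) (.node 4 (.node 2 (.node 1 (.one ⟨583, 1, 5⟩) (.one ⟨13079, 2, 3⟩)) (.node 1 (.one ⟨16826, 2, 3⟩) (.one ⟨1874, 0, 7⟩))) (.node 2 (.node 1 (.one ⟨9772, 0, 7⟩) (.one ⟨5711, 1, 8⟩))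 (.node 1 (.one ⟨4636, 2, 6⟩) (.one ⟨9031, 0, 4⟩))))) (.node 8 (.node 4 (.node 2 (.node 1 (.one ⟨13507, 2, 3⟩) (.one ⟨2421, 0, 1⟩)) (.node 1 (.one ⟨1490, 0, 6⟩) (.one ⟨2417, 1, 3⟩))) (.node 2 (.node 1 (.one ⟨8257, 1, 3⟩) (.one ⟨6378, 1, 5⟩)) (.node 1 (.one ⟨9093, 2, 4⟩) (.one ⟨1700, 0, 6⟩)))) (.node 4 (.node 2 (.node 1 (.one ⟨14581, 1, 6⟩) (.one ⟨3899, 2, 6⟩)) (.node 1 (.one ⟨13837, 2, 2⟩) (.one ⟨12575, 2, 5⟩))) (.node 2 (.node 1 (.one ⟨987, 1, 8⟩) (.one ⟨1169, 0, 5⟩)) (.node 1 (.one ⟨10265, 2, 4⟩) (.one ⟨8945, 1, 3⟩)))))))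
def par7_10_7 : Arr Par :=
  (.node 32 (.node 16 (.node 8 (.node 4 (.node 2 (.node 1 (.one ⟨6760, 1, 2⟩) (.one ⟨15775, 1, 7⟩)) (.node 1 (.one ⟨14344, 1, 4⟩) (.one ⟨12061, 1, 2⟩))) (.node 2 (.node 1 (.one ⟨9491, 1, 4⟩) (.one ⟨15869, 2, 4⟩)) (.node 1 (.one ⟨8084, 2, 7⟩) (.one ⟨4678, 0, 7⟩)))) (.node 4 (.node 2 (.node 1 (.one ⟨9434, 2, 5⟩) (.one ⟨3360, 0, 7⟩)) (.node 1 (.one ⟨1488, 0, 4⟩) (.one ⟨1454, 2, 5⟩))) (.node 2 (.node 1 (.one ⟨14112, 1, 4⟩) (.one ⟨6643, 1, 5⟩)) (.node 1 (.one ⟨12027, 1, 5⟩) (.one ⟨4886, 1, 5⟩))))) (.node 8 (.node 4 (.node 2 (.node 1 (.one ⟨6940, 2, 6⟩) (.one ⟨14751, 1, 3⟩)) (.node 1 (.one ⟨14714, 1, 8⟩) (.one ⟨15824, 1, 4⟩))) (.node 2 (.node 1 (.one ⟨12284, 2, 4⟩) (.one ⟨655, 1, 5⟩)) (.node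 1 (.one ⟨1475, 1, 4⟩) (.one ⟨15233, 2, 9⟩)))) (.node 4 (.node 2 (.node 1 (.one ⟨6770, 1, 9⟩) (.one ⟨8828, 2, 5⟩)) (.node 1 (.one ⟨15902, 1, 4⟩) (.one ⟨10371, 0, 4⟩))) (.node 2 (.node 1 (.one ⟨7979, 2, 7⟩) (.one ⟨6701, 2, 5⟩)) (.node 1 (.one ⟨14097, 2, 5⟩) (.one ⟨9363, 2, 4⟩)))))) (.node 16 (.node 8 (.node 4 (.node 2 (.node 1 (.one ⟨4783, 1, 9⟩) (.one ⟨7870, 1, 6⟩)) (.node 1 (.one ⟨1168, 0, 1⟩) (.one ⟨50, 2, 6⟩))) (.node 2 (.node 1 (.one ⟨13442, 1, 8⟩) (.one ⟨8752, 2, 6⟩)) (.node 1 (.one ⟨2282, 0, 8⟩) (.one ⟨1493, 0, 4⟩)))) (.node 4 (.node 2 (.node 1 (.one ⟨2388, 2, 5⟩) (.one ⟨8784, 2, 4⟩)) (.node 1 (.one ⟨8084, 1, 7⟩) (.one ⟨12791, 0, 9⟩))) (.node 2 (.node 1 (.one ⟨12642, 2, 5⟩) (.one ⟨15495, 1, 5⟩)) (.node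 1 (.one ⟨9061, 0, 6⟩) (.one ⟨9017, 2, 7⟩))))) (.node 8 (.node 4 (.node 2 (.node 1 (.one ⟨4, 1, 5⟩) (.one ⟨14247, 2, 6⟩)) (.node 1 (.one ⟨10604, 1, 5⟩) (.one ⟨2170, 1, 5⟩))) (.node 2 (.node 1 (.one ⟨2109, 0, 4⟩) (.one ⟨4722, 2, 9⟩)) (.node 1 (.one ⟨10469, 1, 4⟩) (.one ⟨3516, 0, 7⟩)))) (.node 4 (.node 2 (.node 1 (.one ⟨14475, 1, 1⟩) (.one ⟨5068, 2, 6⟩)) (.node 1 (.one ⟨7338, 1, 6⟩) (.one ⟨6399, 1, 3⟩))) (.node 2 (.node 1 (.one ⟨6149, 0, 5⟩) (.one ⟨7956, 2, 8⟩)) (.node 1 (.one ⟨10837, 1, 9⟩) (.one ⟨16508, 1, 4⟩)))))))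
def par7_10_8 : Arr Par :=
  (.node 32 (.node 16 (.node 8 (.node 4 (.node 2 (.node 1 (.one ⟨5944, 1, 3⟩) (.one ⟨4105, 1, 0⟩)) (.node 1 (.one ⟨5129, 1, 7⟩) (.one ⟨15897, 2, 4⟩))) (.node 2 (.node 1 (.one ⟨8579, 2, 4⟩) (.one ⟨8365, 0, 5⟩)) (.node 1 (.one ⟨9614, 0, 2⟩) (.one ⟨3814, 1, 0⟩)))) (.node 4 (.node 2 (.node 1 (.one ⟨4836, 1, 0⟩) (.one ⟨14306, 0, 3⟩)) (.node 1 (.one ⟨6128, 0, 2⟩) (.one ⟨2711, 0, 5⟩))) (.node 2 (.node 1 (.one ⟨9514, 0, 1⟩) (.one ⟨15824, 2, 4⟩)) (.node 1 (.one ⟨12287, 1, 4⟩) (.one ⟨14459, 1, 3⟩))))) (.node 8 (.node 4 (.node 2 (.node 1 (.one ⟨4826, 2, 5⟩) (.one ⟨10144, 2, 7⟩)) (.node 1 (.one ⟨9511, 0, 5⟩) (.one ⟨8490, 2, 7⟩))) (.node 2 (.node 1 (.one ⟨13257, 1, 5⟩) (.one ⟨8729, 2, 7⟩)) (.node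 1 (.one ⟨14090, 2, 8⟩) (.one ⟨15898, 1, 10⟩)))) (.node 4 (.node 2 (.node 1 (.one ⟨9880, 2, 6⟩) (.one ⟨14522, 2, 5⟩)) (.node 1 (.one ⟨9886, 2, 5⟩) (.one ⟨1481, 1, 5⟩))) (.node 2 (.node 1 (.one ⟨2103, 1, 2⟩) (.one ⟨9610, 0, 1⟩)) (.node 1 (.one ⟨9882, 2, 8⟩) (.one ⟨14495, 1, 2⟩)))))) (.node 16 (.node 8 (.node 4 (.node 2 (.node 1 (.one ⟨6546, 1, 7⟩) (.one ⟨2389, 2, 6⟩)) (.node 1 (.one ⟨11830, 2, 7⟩) (.one ⟨4279, 0, 8⟩))) (.node 2 (.node 1 (.one ⟨5858, 1, 8⟩) (.one ⟨16205, 0, 6⟩)) (.node 1 (.one ⟨13181, 2, 5⟩) (.one ⟨10443, 0, 7⟩)))) (.node 4 (.node 2 (.node 1 (.one ⟨6823, 1, 4⟩) (.one ⟨5590, 2, 7⟩)) (.node 1 (.one ⟨5776, 1, 1⟩) (.one ⟨5679, 1, 1⟩))) (.node 2 (.node 1 (.one ⟨13822, 1, 5⟩) (.one ⟨6733, 1, 5⟩)) (.node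 1 (.one ⟨14835, 1, 6⟩) (.one ⟨6669, 0, 2⟩))))) (.node 8 (.node 4 (.node 2 (.node 1 (.one ⟨13847, 0, 4⟩) (.one ⟨6669, 1, 2⟩)) (.node 1 (.one ⟨7993, 2, 1⟩) (.one ⟨9956, 2, 4⟩))) (.node 2 (.node 1 (.one ⟨13355, 2, 8⟩) (.one ⟨15893, 2, 4⟩)) (.node 1 (.one ⟨15661, 2, 5⟩) (.one ⟨8155, 1, 5⟩)))) (.node 4 (.node 2 (.node 1 (.one ⟨8241, 1, 6⟩) (.one ⟨16963, 2, 9⟩)) (.node 1 (.one ⟨5047, 1, 7⟩) (.one ⟨10036, 1, 5⟩))) (.node 2 (.node 1 (.one ⟨9437, 1, 1⟩) (.one ⟨6201, 0, 6⟩)) (.node 1 (.one ⟨13091, 2, 4⟩) (.one ⟨9083, 2, 7⟩)))))))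
def par7_10_9 : Arr Par :=
  (.node 32 (.node 16 (.node 8 (.node 4 (.node 2 (.node 1 (.one ⟨3778, 2, 5⟩) (.one ⟨13945, 0, 5⟩)) (.node 1 (.one ⟨16611, 1, 3⟩) (.one ⟨7410, 2, 4⟩))) (.node 2 (.node 1 (.one ⟨707, 2, 5⟩) (.one ⟨5654, 0, 2⟩)) (.node 1 (.one ⟨6514, 2, 7⟩) (.one ⟨9695, 1, 4⟩)))) (.node 4 (.node 2 (.node 1 (.one ⟨8052, 1, 6⟩) (.one ⟨10232, 1, 4⟩)) (.node 1 (.one ⟨7723, 1, 6⟩) (.one ⟨13246, 1, 2⟩))) (.node 2 (.node 1 (.one ⟨14500, 0, 4⟩) (.one ⟨13475, 1, 8⟩)) (.node 1 (.one ⟨7443, 1, 6⟩) (.one ⟨4099, 2, 3⟩))))) (.node 8 (.node 4 (.node 2 (.node 1 (.one ⟨9713, 1, 6⟩) (.one ⟨13991, 1, 6⟩)) (.node 1 (.one ⟨5455, 1, 10⟩) (.one ⟨5730, 1, 4⟩))) (.node 2 (.node 1 (.one ⟨13558, 1, 6⟩) (.one ⟨14455, 0, 8⟩)) (.node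 1 (.one ⟨13172, 2, 4⟩) (.one ⟨7191, 2, 4⟩)))) (.node 4 (.node 2 (.node 1 (.one ⟨1759, 1, 3⟩) (.one ⟨1512, 0, 5⟩)) (.node 1 (.one ⟨861, 1, 3⟩) (.one ⟨15044, 1, 5⟩))) (.node 2 (.node 1 (.one ⟨13691, 2, 3⟩) (.one ⟨14967, 1, 9⟩)) (.node 1 (.one ⟨12769, 1, 3⟩) (.one ⟨1923, 1, 7⟩)))))) (.node 16 (.node 8 (.node 4 (.node 2 (.node 1 (.one ⟨13539, 1, 5⟩) (.one ⟨16173, 1, 4⟩)) (.node 1 (.one ⟨7005, 0, 8⟩) (.one ⟨12561, 0, 5⟩))) (.node 2 (.node 1 (.one ⟨7289, 1, 7⟩) (.one ⟨1392, 1, 3⟩)) (.node 1 (.one ⟨13300, 2, 7⟩) (.one ⟨5658, 1, 3⟩)))) (.node 4 (.node 2 (.node 1 (.one ⟨5688, 0, 6⟩) (.one ⟨11033, 2, 3⟩)) (.node 1 (.one ⟨5071, 2, 3⟩) (.one ⟨7687, 1, 3⟩))) (.node 2 (.node 1 (.one ⟨12025, 1, 2⟩) (.one ⟨3337, 0, 2⟩)) (.node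 1 (.one ⟨5975, 1, 9⟩) (.one ⟨13530, 2, 3⟩))))) (.node 8 (.node 4 (.node 2 (.node 1 (.one ⟨5427, 0, 6⟩) (.one ⟨13965, 1, 4⟩)) (.node 1 (.one ⟨4764, 2, 9⟩) (.one ⟨13581, 2, 5⟩))) (.node 2 (.node 1 (.one ⟨10857, 0, 4⟩) (.one ⟨10746, 2, 7⟩)) (.node 1 (.one ⟨4561, 2, 5⟩) (.one ⟨13515, 1, 3⟩)))) (.node 4 (.node 2 (.node 1 (.one ⟨5433, 2, 3⟩) (.one ⟨10472, 0, 4⟩)) (.node 1 (.one ⟨13759, 1, 5⟩) (.one ⟨2512, 1, 3⟩))) (.node 2 (.node 1 (.one ⟨7901, 2, 3⟩) (.one ⟨5694, 0, 4⟩)) (.node 1 (.one ⟨385, 0, 7⟩) (.one ⟨15514, 2, 4⟩)))))))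
def par7_10_10 : Arr Par :=
  (.node 32 (.node 16 (.node 8 (.node 4 (.node 2 (.node 1 (.one ⟨11884, 1, 4⟩) (.one ⟨5386, 0, 2⟩)) (.node 1 (.one ⟨7025, 0, 4⟩) (.one ⟨14979, 1, 3⟩))) (.node 2 (.node 1 (.one ⟨6854, 0, 9⟩) (.one ⟨6898, 1, 7⟩)) (.node 1 (.one ⟨12728, 1, 7⟩) (.one ⟨16481, 1, 9⟩)))) (.node 4 (.node 2 (.node 1 (.one ⟨10962, 0, 5⟩) (.one ⟨10223, 0, 3⟩)) (.node 1 (.one ⟨5776, 2, 1⟩) (.one ⟨12235, 1, 7⟩))) (.node 2 (.node 1 (.one ⟨3551, 2, 7⟩) (.one ⟨5167, 2, 5⟩)) (.node 1 (.one ⟨8510, 1, 9⟩) (.one ⟨2555, 0, 6⟩))))) (.node 8 (.node 4 (.node 2 (.node 1 (.one ⟨17084, 2, 4⟩) (.one ⟨114, 0, 8⟩)) (.node 1 (.one ⟨6645, 0, 4⟩) (.one ⟨4757, 1, 4⟩))) (.node 2 (.node 1 (.one ⟨10327, 2, 3⟩) (.one ⟨5546, 1, 6⟩)) (.node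 1 (.one ⟨10457, 0, 3⟩) (.one ⟨3772, 2, 3⟩)))) (.node 4 (.node 2 (.node 1 (.one ⟨4029, 2, 4⟩) (.one ⟨8951, 1, 5⟩)) (.node 1 (.one ⟨8983, 1, 7⟩) (.one ⟨889, 2, 5⟩))) (.node 2 (.node 1 (.one ⟨9003, 1, 5⟩) (.one ⟨17058, 1, 7⟩)) (.node 1 (.one ⟨14140, 2, 6⟩) (.one ⟨6053, 2, 4⟩)))))) (.node 16 (.node 8 (.node 4 (.node 2 (.node 1 (.one ⟨16649, 1, 6⟩) (.one ⟨3157, 2, 3⟩)) (.node 1 (.one ⟨8910, 1, 8⟩) (.one ⟨4185, 1, 5⟩))) (.node 2 (.node 1 (.one ⟨15362, 1, 7⟩) (.one ⟨2208, 0, 7⟩)) (.node 1 (.one ⟨15700, 2, 3⟩) (.one ⟨3261, 2, 3⟩)))) (.node 4 (.node 2 (.node 1 (.one ⟨7741, 1, 6⟩) (.one ⟨2988, 0, 3⟩)) (.node 1 (.one ⟨12642, 1, 5⟩) (.one ⟨9276, 1, 3⟩))) (.node 2 (.node 1 (.one ⟨14488, 2, 4⟩) (.one ⟨6727, 1, 4⟩)) (.node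 1 (.one ⟨6354, 1, 7⟩) (.one ⟨7439, 1, 6⟩))))) (.node 8 (.node 4 (.node 2 (.node 1 (.one ⟨3518, 1, 4⟩) (.one ⟨13244, 1, 8⟩)) (.node 1 (.one ⟨15143, 0, 6⟩) (.one ⟨9729, 1, 6⟩))) (.node 2 (.node 1 (.one ⟨9535, 2, 4⟩) (.one ⟨7676, 1, 8⟩)) (.node 1 (.one ⟨5229, 0, 8⟩) (.one ⟨8329, 2, 7⟩)))) (.node 4 (.node 2 (.node 1 (.one ⟨7677, 1, 9⟩) (.one ⟨8482, 1, 5⟩)) (.node 1 (.one ⟨9777, 0, 5⟩) (.one ⟨14657, 0, 6⟩))) (.node 2 (.node 1 (.one ⟨9266, 2, 6⟩) (.one ⟨351, 2, 8⟩)) (.node 1 (.one ⟨16204, 2, 4⟩) (.one ⟨9711, 1, 4⟩)))))))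
def par7_10_11 : Arr Par :=
  (.node 32 (.node 16 (.node 8 (.node 4 (.node 2 (.node 1 (.one ⟨3630, 2, 5⟩) (.one ⟨13976, 0, 2⟩)) (.node 1 (.one ⟨14348, 0, 4⟩) (.one ⟨4726, 1, 4⟩))) (.node 2 (.node 1 (.one ⟨12633, 1, 2⟩) (.one ⟨3320, 2, 5⟩)) (.node 1 (.one ⟨6522, 1, 3⟩) (.one ⟨258, 2, 9⟩)))) (.node 4 (.node 2 (.node 1 (.one ⟨12727, 2, 6⟩) (.one ⟨12539, 1, 4⟩)) (.node 1 (.one ⟨947, 1, 3⟩) (.one ⟨16449, 2, 9⟩))) (.node 2 (.node 1 (.one ⟨5634, 2, 7⟩) (.one ⟨16660, 1, 8⟩)) (.node 1 (.one ⟨7470, 1, 6⟩) (.one ⟨17039, 0, 6⟩))))) (.node 8 (.node 4 (.node 2 (.node 1 (.one ⟨12510, 1, 6⟩) (.one ⟨13304, 2, 1⟩)) (.node 1 (.one ⟨13305, 2, 4⟩) (.one ⟨16570, 2, 4⟩))) (.node 2 (.node 1 (.one ⟨16567, 2, 4⟩) (.one ⟨8395, 1, 6⟩))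 (.node 1 (.one ⟨3552, 1, 7⟩) (.one ⟨16885, 1, 8⟩)))) (.node 4 (.node 2 (.node 1 (.one ⟨10318, 2, 4⟩) (.one ⟨13241, 2, 6⟩)) (.node 1 (.one ⟨13942, 1, 7⟩) (.one ⟨13988, 0, 8⟩))) (.node 2 (.node 1 (.one ⟨3400, 2, 7⟩) (.one ⟨10822, 0, 8⟩)) (.node 1 (.one ⟨12508, 1, 7⟩) (.one ⟨2328, 2, 3⟩)))))) (.node 16 (.node 8 (.node 4 (.node 2 (.node 1 (.one ⟨6496, 1, 4⟩) (.one ⟨519, 1, 3⟩)) (.node 1 (.one ⟨15992, 1, 2⟩) (.one ⟨11370, 2, 4⟩))) (.node 2 (.node 1 (.one ⟨14491, 2, 4⟩) (.one ⟨6920, 1, 5⟩)) (.node 1 (.one ⟨12774, 1, 8⟩) (.one ⟨16618, 0, 6⟩)))) (.node 4 (.node 2 (.node 1 (.one ⟨15308, 2, 9⟩) (.one ⟨12160, 0, 8⟩)) (.node 1 (.one ⟨5841, 2, 7⟩) (.one ⟨31, 2, 6⟩))) (.node 2 (.node 1 (.one ⟨3916, 2, 9⟩) (.one ⟨3658, 0,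 4⟩)) (.node 1 (.one ⟨12847, 2, 5⟩) (.one ⟨378, 2, 5⟩))))) (.node 8 (.node 4 (.node 2 (.node 1 (.one ⟨15287, 2, 6⟩) (.one ⟨16588, 2, 7⟩)) (.node 1 (.one ⟨12577, 1, 7⟩) (.one ⟨3586, 1, 1⟩))) (.node 2 (.node 1 (.one ⟨10584, 0, 4⟩) (.one ⟨16578, 1, 7⟩)) (.node 1 (.one ⟨1860, 2, 4⟩) (.one ⟨10519, 2, 5⟩)))) (.node 4 (.node 2 (.node 1 (.one ⟨2603, 1, 4⟩) (.one ⟨7921, 1, 3⟩)) (.node 1 (.one ⟨16001, 1, 7⟩) (.one ⟨15329, 1, 3⟩))) (.node 2 (.node 1 (.one ⟨2812, 2, 4⟩) (.one ⟨4715, 1, 7⟩)) (.node 1 (.one ⟨12731, 1, 5⟩) (.one ⟨17171, 0, 6⟩)))))))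
def par7_10_12 : Arr Par :=
  (.node 32 (.node 16 (.node 8 (.node 4 (.node 2 (.node 1 (.one ⟨6965, 0, 5⟩) (.one ⟨14670, 1, 8⟩)) (.node 1 (.one ⟨8929, 1, 6⟩) (.one ⟨10032, 1, 9⟩))) (.node 2 (.node 1 (.one ⟨10257, 0, 8⟩) (.one ⟨4380, 1, 4⟩)) (.node 1 (.one ⟨10210, 1, 6⟩) (.one ⟨6557, 2, 4⟩)))) (.node 4 (.node 2 (.node 1 (.one ⟨13181, 1, 5⟩) (.one ⟨15773, 1, 3⟩)) (.node 1 (.one ⟨9716, 1, 5⟩) (.one ⟨12538, 2, 9⟩))) (.node 2 (.node 1 (.one ⟨7409, 2, 9⟩) (.one ⟨3524, 1, 4⟩)) (.node 1 (.one ⟨16581, 2, 5⟩) (.one ⟨4961, 2, 7⟩))))) (.node 8 (.node 4 (.node 2 (.node 1 (.one ⟨9748, 0, 4⟩) (.one ⟨16551, 1, 6⟩)) (.node 1 (.one ⟨6503, 2, 6⟩) (.one ⟨8728, 2, 7⟩))) (.node 2 (.node 1 (.one ⟨3972, 1, 7⟩) (.one ⟨3906, 2, 7⟩))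 (.node 1 (.one ⟨2714, 2, 7⟩) (.one ⟨15330, 0, 6⟩)))) (.node 4 (.node 2 (.node 1 (.one ⟨3759, 1, 1⟩) (.one ⟨10812, 1, 2⟩)) (.node 1 (.one ⟨12762, 2, 9⟩) (.one ⟨11181, 1, 4⟩))) (.node 2 (.node 1 (.one ⟨3149, 0, 4⟩) (.one ⟨9913, 1, 7⟩)) (.node 1 (.one ⟨3553, 1, 3⟩) (.one ⟨14508, 0, 7⟩)))))) (.node 16 (.node 8 (.node 4 (.node 2 (.node 1 (.one ⟨16805, 0, 3⟩) (.one ⟨11202, 2, 6⟩)) (.node 1 (.one ⟨3976, 2, 7⟩) (.one ⟨10992, 0, 7⟩))) (.node 2 (.node 1 (.one ⟨629, 2, 4⟩) (.one ⟨16864, 1, 4⟩)) (.node 1 (.one ⟨8784, 1, 4⟩) (.one ⟨16403, 2, 7⟩)))) (.node 4 (.node 2 (.node 1 (.one ⟨6165, 1, 7⟩) (.one ⟨319, 0, 5⟩)) (.node 1 (.one ⟨2209, 0, 5⟩) (.one ⟨2057, 0, 9⟩))) (.node 2 (.node 1 (.one ⟨13934, 2, 6⟩) (.one ⟨6148, 1, 5⟩))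 (.node 1 (.one ⟨3411, 2, 5⟩) (.one ⟨16110, 2, 3⟩))))) (.node 8 (.node 4 (.node 2 (.node 1 (.one ⟨13597, 2, 8⟩) (.one ⟨4384, 2, 6⟩)) (.node 1 (.one ⟨8572, 2, 3⟩) (.one ⟨1667, 1, 6⟩))) (.node 2 (.node 1 (.one ⟨5530, 1, 2⟩) (.one ⟨9618, 1, 10⟩)) (.node 1 (.one ⟨9521, 0, 6⟩) (.one ⟨11907, 0, 7⟩)))) (.node 4 (.node 2 (.node 1 (.one ⟨9374, 0, 6⟩) (.one ⟨5889, 2, 6⟩)) (.node 1 (.one ⟨14385, 1, 7⟩) (.one ⟨12267, 0, 9⟩))) (.node 2 (.node 1 (.one ⟨6332, 1, 6⟩) (.one ⟨12228, 0, 7⟩)) (.node 1 (.one ⟨14435, 1, 7⟩) (.one ⟨173, 0, 4⟩)))))))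
def par7_10_13 : Arr Par :=
  (.node 32 (.node 16 (.node 8 (.node 4 (.node 2 (.node 1 (.one ⟨330, 2, 8⟩) (.one ⟨9223, 0, 6⟩)) (.node 1 (.one ⟨1321, 1, 7⟩) (.one ⟨14630, 1, 7⟩))) (.node 2 (.node 1 (.one ⟨16075, 2, 6⟩) (.one ⟨12601, 1, 7⟩)) (.node 1 (.one ⟨7895, 0, 4⟩) (.one ⟨9687, 2, 8⟩)))) (.node 4 (.node 2 (.node 1 (.one ⟨1436, 0, 6⟩) (.one ⟨4510, 2, 4⟩)) (.node 1 (.one ⟨10325, 0, 1⟩) (.one ⟨2106, 1, 3⟩))) (.node 2 (.node 1 (.one ⟨1976, 2, 2⟩) (.one ⟨5597, 1, 3⟩)) (.node 1 (.one ⟨1763, 1, 5⟩) (.one ⟨9367, 0, 5⟩))))) (.node 8 (.node 4 (.node 2 (.node 1 (.one ⟨6870, 1, 5⟩) (.one ⟨1568, 1, 3⟩)) (.node 1 (.one ⟨2845, 1, 7⟩) (.one ⟨8962, 2, 6⟩))) (.node 2 (.node 1 (.one ⟨4124, 0, 5⟩) (.one ⟨7863, 1, 3⟩)) (.node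 1 (.one ⟨10514, 2, 3⟩) (.one ⟨16697, 0, 6⟩)))) (.node 4 (.node 2 (.node 1 (.one ⟨11917, 1, 2⟩) (.one ⟨1969, 2, 9⟩)) (.node 1 (.one ⟨6096, 0, 5⟩) (.one ⟨15912, 0, 7⟩))) (.node 2 (.node 1 (.one ⟨12117, 2, 3⟩) (.one ⟨8438, 1, 9⟩)) (.node 1 (.one ⟨13305, 1, 4⟩) (.one ⟨12317, 2, 7⟩)))))) (.node 16 (.node 8 (.node 4 (.node 2 (.node 1 (.one ⟨6589, 1, 8⟩) (.one ⟨408, 2, 7⟩)) (.node 1 (.one ⟨10531, 2, 6⟩) (.one ⟨7728, 1, 8⟩))) (.node 2 (.node 1 (.one ⟨12618, 1, 7⟩) (.one ⟨11690, 2, 4⟩)) (.node 1 (.one ⟨13017, 1, 2⟩) (.one ⟨12174, 1, 5⟩)))) (.node 4 (.node 2 (.node 1 (.one ⟨818, 0, 3⟩) (.one ⟨16297, 2, 5⟩)) (.node 1 (.one ⟨4028, 1, 7⟩) (.one ⟨5282, 1, 9⟩))) (.node 2 (.node 1 (.one ⟨12201, 1, 3⟩) (.one ⟨3323, 2, 4⟩))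 (.node 1 (.one ⟨169, 2, 8⟩) (.one ⟨699, 1, 5⟩))))) (.node 8 (.node 4 (.node 2 (.node 1 (.one ⟨15806, 0, 6⟩) (.one ⟨9525, 0, 7⟩)) (.node 1 (.one ⟨6554, 2, 3⟩) (.one ⟨14824, 0, 5⟩))) (.node 2 (.node 1 (.one ⟨7029, 0, 6⟩) (.one ⟨7246, 1, 9⟩)) (.node 1 (.one ⟨7240, 1, 5⟩) (.one ⟨9373, 0, 3⟩)))) (.node 4 (.node 2 (.node 1 (.one ⟨10216, 1, 4⟩) (.one ⟨2399, 0, 6⟩)) (.node 1 (.one ⟨17002, 2, 6⟩) (.one ⟨14506, 1, 4⟩))) (.node 2 (.node 1 (.one ⟨4186, 0, 4⟩) (.one ⟨7655, 2, 7⟩)) (.node 1 (.one ⟨11916, 0, 4⟩) (.one ⟨11498, 1, 10⟩)))))))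
def par7_10_14 : Arr Par :=
  (.node 32 (.node 16 (.node 8 (.node 4 (.node 2 (.node 1 (.one ⟨3838, 0, 7⟩) (.one ⟨268, 1, 7⟩)) (.node 1 (.one ⟨4592, 2, 5⟩) (.one ⟨712, 0, 3⟩))) (.node 2 (.node 1 (.one ⟨14404, 1, 8⟩) (.one ⟨2152, 2, 6⟩)) (.node 1 (.one ⟨14775, 2, 4⟩) (.one ⟨13, 1, 6⟩)))) (.node 4 (.node 2 (.node 1 (.one ⟨4064, 1, 8⟩) (.one ⟨2108, 1, 6⟩)) (.node 1 (.one ⟨4205, 1, 8⟩) (.one ⟨14994, 2, 9⟩))) (.node 2 (.node 1 (.one ⟨16579, 0, 5⟩) (.one ⟨3519, 2, 7⟩)) (.node 1 (.one ⟨10315, 1, 8⟩) (.one ⟨11875, 1, 5⟩))))) (.node 8 (.node 4 (.node 2 (.node 1 (.one ⟨1046, 2, 2⟩) (.one ⟨12081, 0, 6⟩)) (.node 1 (.one ⟨16342, 1, 3⟩) (.one ⟨7278, 2, 8⟩))) (.node 2 (.node 1 (.one ⟨11857, 0, 3⟩) (.one ⟨7737, 1, 6⟩)) (.node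 1 (.one ⟨16948, 1, 4⟩) (.one ⟨6822, 0, 1⟩)))) (.node 4 (.node 2 (.node 1 (.one ⟨15707, 0, 3⟩) (.one ⟨3553, 2, 3⟩)) (.node 1 (.one ⟨9531, 0, 5⟩) (.one ⟨4184, 1, 7⟩))) (.node 2 (.node 1 (.one ⟨6010, 2, 6⟩) (.one ⟨9834, 0, 6⟩)) (.node 1 (.one ⟨2711, 1, 5⟩) (.one ⟨7858, 1, 10⟩)))))) (.node 16 (.node 8 (.node 4 (.node 2 (.node 1 (.one ⟨8871, 1, 8⟩) (.one ⟨6588, 2, 4⟩)) (.node 1 (.one ⟨12736, 1, 9⟩) (.one ⟨1429, 0, 4⟩))) (.node 2 (.node 1 (.one ⟨12723, 1, 5⟩) (.one ⟨7872, 1, 5⟩)) (.node 1 (.one ⟨13890, 2, 6⟩) (.one ⟨296, 0, 5⟩)))) (.node 4 (.node 2 (.node 1 (.one ⟨6897, 2, 3⟩) (.one ⟨409, 0, 3⟩)) (.node 1 (.one ⟨1653, 1, 3⟩) (.one ⟨2828, 2, 8⟩))) (.node 2 (.node 1 (.one ⟨7202, 1, 10⟩) (.one ⟨3785, 0, 3⟩)) (.node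 1 (.one ⟨7624, 1, 4⟩) (.one ⟨11641, 1, 6⟩))))) (.node 8 (.node 4 (.node 2 (.node 1 (.one ⟨1585, 1, 6⟩) (.one ⟨7164, 0, 5⟩)) (.node 1 (.one ⟨15361, 1, 6⟩) (.one ⟨1351, 0, 6⟩))) (.node 2 (.node 1 (.one ⟨8745, 0, 6⟩) (.one ⟨1676, 0, 7⟩)) (.node 1 (.one ⟨8685, 0, 5⟩) (.one ⟨13667, 0, 3⟩)))) (.node 4 (.node 2 (.node 1 (.one ⟨16480, 2, 5⟩) (.one ⟨10426, 2, 5⟩)) (.node 1 (.one ⟨15043, 2, 6⟩) (.one ⟨1573, 1, 7⟩))) (.node 2 (.node 1 (.one ⟨14989, 1, 5⟩) (.one ⟨3827, 2, 6⟩)) (.node 1 (.one ⟨16979, 1, 4⟩) (.one ⟨10356, 2, 5⟩)))))))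
def par7_10_15 : Arr Par :=
  (.node 32 (.node 16 (.node 8 (.node 4 (.node 2 (.node 1 (.one ⟨15377, 0, 8⟩) (.one ⟨10989, 1, 5⟩)) (.node 1 (.one ⟨1353, 0, 5⟩) (.one ⟨9598, 1, 3⟩))) (.node 2 (.node 1 (.one ⟨8546, 0, 2⟩) (.one ⟨16876, 1, 2⟩)) (.node 1 (.one ⟨13126, 1, 5⟩) (.one ⟨12766, 0, 7⟩)))) (.node 4 (.node 2 (.node 1 (.one ⟨16735, 2, 7⟩) (.one ⟨8632, 2, 4⟩)) (.node 1 (.one ⟨285, 1, 9⟩) (.one ⟨9294, 2, 1⟩))) (.node 2 (.node 1 (.one ⟨9255, 0, 2⟩) (.one ⟨16330, 1, 6⟩)) (.node 1 (.one ⟨3855, 1, 0⟩) (.one ⟨13913, 1, 2⟩))))) (.node 8 (.node 4 (.node 2 (.node 1 (.one ⟨14668, 0, 5⟩) (.one ⟨16273, 0, 7⟩)) (.node 1 (.one ⟨5249, 1, 8⟩) (.one ⟨8223, 0, 3⟩))) (.node 2 (.node 1 (.one ⟨9257, 0, 4⟩) (.one ⟨13316, 0, 5⟩))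 (.node 1 (.one ⟨4414, 2, 2⟩) (.one ⟨6242, 0, 6⟩)))) (.node 4 (.node 2 (.node 1 (.one ⟨17140, 1, 5⟩) (.one ⟨16155, 1, 8⟩)) (.node 1 (.one ⟨4708, 2, 7⟩) (.one ⟨10018, 1, 6⟩))) (.node 2 (.node 1 (.one ⟨13387, 2, 6⟩) (.one ⟨7768, 1, 6⟩)) (.node 1 (.one ⟨5312, 2, 2⟩) (.one ⟨7691, 0, 7⟩)))))) (.node 16 (.node 8 (.node 4 (.node 2 (.node 1 (.one ⟨4612, 1, 6⟩) (.one ⟨14681, 0, 5⟩)) (.node 1 (.one ⟨14586, 2, 6⟩) (.one ⟨7711, 1, 4⟩))) (.node 2 (.node 1 (.one ⟨9262, 0, 2⟩) (.one ⟨16973, 1, 3⟩)) (.node 1 (.one ⟨2855, 2, 5⟩) (.one ⟨9915, 2, 4⟩)))) (.node 4 (.node 2 (.node 1 (.one ⟨13032, 1, 2⟩) (.one ⟨12418, 2, 6⟩)) (.node 1 (.one ⟨2756, 0, 4⟩) (.one ⟨14263, 2, 7⟩))) (.node 2 (.node 1 (.one ⟨15985, 2, 3⟩) (.one ⟨15761, 2,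 6⟩)) (.node 1 (.one ⟨14514, 2, 4⟩) (.one ⟨14636, 1, 4⟩))))) (.node 8 (.node 4 (.node 2 (.node 1 (.one ⟨8110, 0, 4⟩) (.one ⟨16378, 0, 7⟩)) (.node 1 (.one ⟨3516, 1, 7⟩) (.one ⟨1718, 2, 2⟩))) (.node 2 (.node 1 (.one ⟨7011, 2, 6⟩) (.one ⟨13049, 1, 6⟩)) (.node 1 (.one ⟨1480, 0, 4⟩) (.one ⟨8261, 2, 8⟩)))) (.node 4 (.node 2 (.node 1 (.one ⟨13216, 1, 7⟩) (.one ⟨6308, 2, 4⟩)) (.node 1 (.one ⟨819, 0, 4⟩) (.one ⟨16519, 0, 5⟩))) (.node 2 (.node 1 (.one ⟨8450, 0, 4⟩) (.one ⟨14601, 1, 3⟩)) (.node 1 (.one ⟨12021, 0, 7⟩) (.one ⟨6812, 1, 5⟩)))))))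
def par7_10 : Arr Par :=
  (.node 512 (.node 256 (.node 128 (.node 64 par7_10_0 par7_10_1) (.node 64 par7_10_2 par7_10_3)) (.node 128 (.node 64 par7_10_4 par7_10_5) (.node 64 par7_10_6 par7_10_7))) (.node 256 (.node 128 (.node 64 par7_10_8 par7_10_9) (.node 64 par7_10_10 par7_10_11)) (.node 128 (.node 64 par7_10_12 par7_10_13) (.node 64 par7_10_14 par7_10_15))))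
def par7_11_0 : Arr Par :=
  (.node 32 (.node 16 (.node 8 (.node 4 (.node 2 (.node 1 (.one ⟨15517, 2, 6⟩) (.one ⟨4580, 1, 7⟩)) (.node 1 (.one ⟨4014, 1, 4⟩) (.one ⟨9167, 0, 7⟩))) (.node 2 (.node 1 (.one ⟨12373, 0, 7⟩) (.one ⟨7667, 1, 5⟩)) (.node 1 (.one ⟨8830, 1, 5⟩) (.one ⟨7728, 0, 8⟩)))) (.node 4 (.node 2 (.node 1 (.one ⟨9201, 2, 1⟩) (.one ⟨1473, 0, 2⟩)) (.node 1 (.one ⟨9267, 2, 3⟩) (.one ⟨17149, 1, 9⟩))) (.node 2 (.node 1 (.one ⟨4010, 1, 8⟩) (.one ⟨6401, 2, 7⟩)) (.node 1 (.one ⟨6450, 1, 9⟩) (.one ⟨7399, 1, 2⟩))))) (.node 8 (.node 4 (.node 2 (.node 1 (.one ⟨7367, 1, 3⟩) (.one ⟨14409, 1, 1⟩)) (.node 1 (.one ⟨14439, 1, 4⟩) (.one ⟨14423, 1, 3⟩))) (.node 2 (.node 1 (.one ⟨14392, 1, 1⟩) (.one ⟨7352, 1, 6⟩)) (.node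 1 (.one ⟨7384, 1, 5⟩) (.one ⟨10103, 2, 5⟩)))) (.node 4 (.node 2 (.node 1 (.one ⟨6356, 2, 5⟩) (.one ⟨6293, 1, 7⟩)) (.node 1 (.one ⟨14515, 2, 3⟩) (.one ⟨12306, 0, 4⟩))) (.node 2 (.node 1 (.one ⟨11900, 0, 4⟩) (.one ⟨2426, 0, 8⟩)) (.node 1 (.one ⟨6403, 2, 8⟩) (.one ⟨4009, 1, 4⟩)))))) (.node 16 (.node 8 (.node 4 (.node 2 (.node 1 (.one ⟨7968, 1, 5⟩) (.one ⟨15695, 2, 6⟩)) (.node 1 (.one ⟨6454, 1, 7⟩) (.one ⟨13168, 2, 4⟩))) (.node 2 (.node 1 (.one ⟨6982, 0, 5⟩) (.one ⟨15265, 1, 4⟩)) (.node 1 (.one ⟨10990, 1, 6⟩) (.one ⟨9169, 0, 4⟩)))) (.node 4 (.node 2 (.node 1 (.one ⟨7556, 1, 6⟩) (.one ⟨12055, 0, 8⟩)) (.node 1 (.one ⟨16747, 2, 4⟩) (.one ⟨1715, 2, 6⟩))) (.node 2 (.node 1 (.one ⟨7987, 1, 9⟩) (.one ⟨12515, 2, 8⟩)) (.node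 1 (.one ⟨677, 0, 4⟩) (.one ⟨15262, 0, 3⟩))))) (.node 8 (.node 4 (.node 2 (.node 1 (.one ⟨5497, 0, 2⟩) (.one ⟨11618, 2, 5⟩)) (.node 1 (.one ⟨14975, 2, 7⟩) (.one ⟨9775, 0, 5⟩))) (.node 2 (.node 1 (.one ⟨11857, 1, 3⟩) (.one ⟨3682, 2, 6⟩)) (.node 1 (.one ⟨450, 1, 3⟩) (.one ⟨13281, 0, 9⟩)))) (.node 4 (.node 2 (.node 1 (.one ⟨511, 2, 6⟩) (.one ⟨5400, 2, 6⟩)) (.node 1 (.one ⟨12211, 1, 3⟩) (.one ⟨3937, 1, 0⟩))) (.node 2 (.node 1 (.one ⟨8243, 1, 8⟩) (.one ⟨13617, 1, 7⟩)) (.node 1 (.one ⟨4255, 1, 5⟩) (.one ⟨11373, 0, 4⟩)))))))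
def par7_11_1 : Arr Par :=
  (.node 32 (.node 16 (.node 8 (.node 4 (.node 2 (.node 1 (.one ⟨15021, 1, 5⟩) (.one ⟨14052, 0, 8⟩)) (.node 1 (.one ⟨10969, 0, 7⟩) (.one ⟨7002, 1, 6⟩))) (.node 2 (.node 1 (.one ⟨2150, 0, 4⟩) (.one ⟨2327, 0, 4⟩)) (.node 1 (.one ⟨12479, 1, 7⟩) (.one ⟨11749, 1, 5⟩)))) (.node 4 (.node 2 (.node 1 (.one ⟨13399, 1, 6⟩) (.one ⟨8488, 0, 3⟩)) (.node 1 (.one ⟨6499, 2, 4⟩) (.one ⟨3981, 1, 5⟩))) (.node 2 (.node 1 (.one ⟨4646, 1, 10⟩) (.one ⟨13556, 1, 3⟩)) (.node 1 (.one ⟨11896, 1, 5⟩) (.one ⟨13357, 0, 5⟩))))) (.node 8 (.node 4 (.node 2 (.node 1 (.one ⟨8538, 1, 3⟩) (.one ⟨12055, 1, 8⟩)) (.node 1 (.one ⟨4689, 2, 8⟩) (.one ⟨11222, 0, 3⟩))) (.node 2 (.node 1 (.one ⟨8465, 1, 3⟩) (.one ⟨6798, 2, 6⟩))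 (.node 1 (.one ⟨7900, 2, 6⟩) (.one ⟨4361, 1, 5⟩)))) (.node 4 (.node 2 (.node 1 (.one ⟨8906, 2, 8⟩) (.one ⟨16579, 1, 5⟩)) (.node 1 (.one ⟨4794, 1, 8⟩) (.one ⟨5108, 0, 5⟩))) (.node 2 (.node 1 (.one ⟨3276, 2, 4⟩) (.one ⟨7320, 1, 7⟩)) (.node 1 (.one ⟨4823, 2, 4⟩) (.one ⟨4075, 1, 0⟩)))))) (.node 16 (.node 8 (.node 4 (.node 2 (.node 1 (.one ⟨12522, 1, 8⟩) (.one ⟨1167, 2, 4⟩)) (.node 1 (.one ⟨8238, 1, 2⟩) (.one ⟨3914, 1, 0⟩))) (.node 2 (.node 1 (.one ⟨15324, 2, 5⟩) (.one ⟨1249, 2, 1⟩)) (.node 1 (.one ⟨15292, 2, 5⟩) (.one ⟨1327, 2, 1⟩)))) (.node 4 (.node 2 (.node 1 (.one ⟨7860, 0, 6⟩) (.one ⟨9812, 1, 3⟩)) (.node 1 (.one ⟨6601, 1, 3⟩) (.one ⟨10094, 1, 5⟩))) (.node 2 (.node 1 (.one ⟨12454, 2, 9⟩) (.one ⟨9445, 2, 3⟩))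 (.node 1 (.one ⟨9174, 2, 6⟩) (.one ⟨15022, 1, 5⟩))))) (.node 8 (.node 4 (.node 2 (.node 1 (.one ⟨12846, 1, 3⟩) (.one ⟨10973, 1, 9⟩)) (.node 1 (.one ⟨4984, 0, 7⟩) (.one ⟨5580, 1, 7⟩))) (.node 2 (.node 1 (.one ⟨3699, 1, 3⟩) (.one ⟨730, 1, 5⟩)) (.node 1 (.one ⟨7907, 1, 3⟩) (.one ⟨9001, 1, 6⟩)))) (.node 4 (.node 2 (.node 1 (.one ⟨14030, 0, 8⟩) (.one ⟨12877, 0, 6⟩)) (.node 1 (.one ⟨15377, 1, 8⟩) (.one ⟨10271, 0, 8⟩))) (.node 2 (.node 1 (.one ⟨12395, 1, 6⟩) (.one ⟨2425, 2, 2⟩)) (.node 1 (.one ⟨16468, 0, 9⟩) (.one ⟨1063, 1, 7⟩)))))))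
def par7_11_2 : Arr Par :=
  (.node 32 (.node 16 (.node 8 (.node 4 (.node 2 (.node 1 (.one ⟨15492, 1, 5⟩) (.one ⟨24, 0, 5⟩)) (.node 1 (.one ⟨13049, 2, 6⟩) (.one ⟨2423, 2, 6⟩))) (.node 2 (.node 1 (.one ⟨148, 1, 6⟩) (.one ⟨10888, 2, 6⟩)) (.node 1 (.one ⟨374, 1, 4⟩) (.one ⟨344, 1, 5⟩)))) (.node 4 (.node 2 (.node 1 (.one ⟨6511, 2, 5⟩) (.one ⟨8092, 1, 7⟩)) (.node 1 (.one ⟨12926, 1, 6⟩) (.one ⟨748, 2, 3⟩))) (.node 2 (.node 1 (.one ⟨8037, 2, 5⟩) (.one ⟨1728, 1, 6⟩)) (.node 1 (.one ⟨15076, 1, 4⟩) (.one ⟨8816, 0, 4⟩))))) (.node 8 (.node 4 (.node 2 (.node 1 (.one ⟨13628, 0, 1⟩) (.one ⟨16143, 2, 3⟩)) (.node 1 (.one ⟨3548, 0, 6⟩) (.one ⟨13481, 1, 1⟩))) (.node 2 (.node 1 (.one ⟨13630, 1, 3⟩) (.one ⟨7521, 2, 4⟩)) (.node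 1 (.one ⟨2222, 1, 7⟩) (.one ⟨664, 0, 6⟩)))) (.node 4 (.node 2 (.node 1 (.one ⟨12943, 1, 8⟩) (.one ⟨4368, 2, 6⟩)) (.node 1 (.one ⟨4390, 0, 3⟩) (.one ⟨10872, 0, 4⟩))) (.node 2 (.node 1 (.one ⟨6330, 0, 8⟩) (.one ⟨1973, 1, 5⟩)) (.node 1 (.one ⟨13545, 0, 4⟩) (.one ⟨5089, 2, 5⟩)))))) (.node 16 (.node 8 (.node 4 (.node 2 (.node 1 (.one ⟨9681, 2, 3⟩) (.one ⟨5899, 1, 4⟩)) (.node 1 (.one ⟨5541, 1, 9⟩) (.one ⟨7643, 2, 3⟩))) (.node 2 (.node 1 (.one ⟨8232, 0, 5⟩) (.one ⟨8581, 2, 4⟩)) (.node 1 (.one ⟨6979, 0, 4⟩) (.one ⟨14164, 1, 6⟩)))) (.node 4 (.node 2 (.node 1 (.one ⟨2270, 2, 7⟩) (.one ⟨3646, 1, 7⟩)) (.node 1 (.one ⟨1136, 1, 6⟩) (.one ⟨9085, 1, 3⟩))) (.node 2 (.node 1 (.one ⟨9760, 2, 3⟩) (.one ⟨8590, 0, 8⟩)) (.node 1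 (.one ⟨3898, 0, 6⟩) (.one ⟨12585, 1, 5⟩))))) (.node 8 (.node 4 (.node 2 (.node 1 (.one ⟨9598, 0, 3⟩) (.one ⟨13041, 2, 5⟩)) (.node 1 (.one ⟨12828, 2, 5⟩) (.one ⟨16876, 0, 2⟩))) (.node 2 (.node 1 (.one ⟨1878, 2, 5⟩) (.one ⟨15759, 2, 8⟩)) (.node 1 (.one ⟨12541, 1, 2⟩) (.one ⟨8807, 2, 3⟩)))) (.node 4 (.node 2 (.node 1 (.one ⟨5443, 2, 6⟩) (.one ⟨12451, 1, 3⟩)) (.node 1 (.one ⟨6077, 2, 6⟩) (.one ⟨2750, 2, 6⟩))) (.node 2 (.node 1 (.one ⟨4499, 1, 6⟩) (.one ⟨3915, 0, 6⟩)) (.node 1 (.one ⟨1072, 0, 6⟩) (.one ⟨7438, 2, 5⟩)))))))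
def par7_11_3 : Arr Par :=
  (.node 32 (.node 16 (.node 8 (.node 4 (.node 2 (.node 1 (.one ⟨3892, 0, 6⟩) (.one ⟨10861, 1, 3⟩)) (.node 1 (.one ⟨6563, 2, 6⟩) (.one ⟨3077, 2, 5⟩))) (.node 2 (.node 1 (.one ⟨6859, 2, 3⟩) (.one ⟨5750, 2, 2⟩)) (.node 1 (.one ⟨659, 2, 7⟩) (.one ⟨661, 2, 5⟩)))) (.node 4 (.node 2 (.node 1 (.one ⟨939, 2, 2⟩) (.one ⟨4093, 1, 0⟩)) (.node 1 (.one ⟨743, 2, 3⟩) (.one ⟨65, 2, 5⟩))) (.node 2 (.node 1 (.one ⟨441, 2, 5⟩) (.one ⟨15565, 1, 2⟩)) (.node 1 (.one ⟨233, 2, 6⟩) (.one ⟨10996, 2, 5⟩))))) (.node 8 (.node 4 (.node 2 (.node 1 (.one ⟨15764, 0, 6⟩) (.one ⟨506, 2, 3⟩)) (.node 1 (.one ⟨3487, 2, 7⟩) (.one ⟨16348, 0, 7⟩))) (.node 2 (.node 1 (.one ⟨5685, 2, 4⟩) (.one ⟨11535, 1, 8⟩)) (.node 1 (.one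 ⟨11537, 1, 5⟩) (.one ⟨3403, 2, 4⟩)))) (.node 4 (.node 2 (.node 1 (.one ⟨3750, 1, 6⟩) (.one ⟨5821, 2, 3⟩)) (.node 1 (.one ⟨2071, 0, 4⟩) (.one ⟨3270, 1, 8⟩))) (.node 2 (.node 1 (.one ⟨1082, 0, 8⟩) (.one ⟨13458, 0, 8⟩)) (.node 1 (.one ⟨5550, 1, 8⟩) (.one ⟨4494, 2, 4⟩)))))) (.node 16 (.node 8 (.node 4 (.node 2 (.node 1 (.one ⟨8981, 1, 7⟩) (.one ⟨15066, 1, 6⟩)) (.node 1 (.one ⟨5358, 2, 7⟩) (.one ⟨3829, 2, 6⟩))) (.node 2 (.node 1 (.one ⟨4601, 2, 3⟩) (.one ⟨3539, 2, 5⟩)) (.node 1 (.one ⟨16651, 1, 6⟩) (.one ⟨11702, 2, 7⟩)))) (.node 4 (.node 2 (.node 1 (.one ⟨4631, 1, 6⟩) (.one ⟨13660, 0, 4⟩)) (.node 1 (.one ⟨276, 0, 9⟩) (.one ⟨9710, 1, 5⟩))) (.node 2 (.node 1 (.one ⟨4528, 1, 4⟩) (.one ⟨16012, 1, 3⟩)) (.node 1 (.one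 ⟨6943, 1, 3⟩) (.one ⟨15981, 0, 3⟩))))) (.node 8 (.node 4 (.node 2 (.node 1 (.one ⟨16389, 2, 5⟩) (.one ⟨12121, 2, 3⟩)) (.node 1 (.one ⟨14560, 2, 5⟩) (.one ⟨10221, 2, 6⟩))) (.node 2 (.node 1 (.one ⟨15723, 2, 5⟩) (.one ⟨985, 1, 7⟩)) (.node 1 (.one ⟨4767, 0, 5⟩) (.one ⟨10985, 1, 9⟩)))) (.node 4 (.node 2 (.node 1 (.one ⟨16500, 1, 6⟩) (.one ⟨3749, 1, 9⟩)) (.node 1 (.one ⟨5560, 1, 5⟩) (.one ⟨9211, 2, 4⟩))) (.node 2 (.node 1 (.one ⟨1237, 0, 2⟩) (.one ⟨14808, 0, 2⟩)) (.node 1 (.one ⟨12758, 1, 4⟩) (.one ⟨14499, 0, 5⟩)))))))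
def par7_11_4 : Arr Par :=
  (.node 32 (.node 16 (.node 8 (.node 4 (.node 2 (.node 1 (.one ⟨8942, 0, 3⟩) (.one ⟨4426, 2, 8⟩)) (.node 1 (.one ⟨5525, 1, 3⟩) (.one ⟨1840, 1, 2⟩))) (.node 2 (.node 1 (.one ⟨14016, 2, 7⟩) (.one ⟨12476, 0, 4⟩)) (.node 1 (.one ⟨3441, 0, 7⟩) (.one ⟨10357, 2, 8⟩)))) (.node 4 (.node 2 (.node 1 (.one ⟨1238, 0, 6⟩) (.one ⟨16301, 2, 4⟩)) (.node 1 (.one ⟨3488, 2, 4⟩) (.one ⟨16577, 2, 9⟩))) (.node 2 (.node 1 (.one ⟨126, 2, 7⟩) (.one ⟨12405, 1, 5⟩)) (.node 1 (.one ⟨11448, 0, 7⟩) (.one ⟨16197, 0, 7⟩))))) (.node 8 (.node 4 (.node 2 (.node 1 (.one ⟨6875, 2, 8⟩) (.one ⟨15417, 0, 4⟩)) (.node 1 (.one ⟨9018, 0, 6⟩) (.one ⟨11520, 2, 4⟩))) (.node 2 (.node 1 (.one ⟨1234, 0, 6⟩) (.one ⟨13468, 1, 8⟩))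 (.node 1 (.one ⟨3529, 1, 5⟩) (.one ⟨16906, 1, 7⟩)))) (.node 4 (.node 2 (.node 1 (.one ⟨10527, 2, 7⟩) (.one ⟨11517, 0, 3⟩)) (.node 1 (.one ⟨10429, 2, 5⟩) (.one ⟨8290, 1, 5⟩))) (.node 2 (.node 1 (.one ⟨187, 0, 8⟩) (.one ⟨4777, 2, 7⟩)) (.node 1 (.one ⟨13322, 2, 7⟩) (.one ⟨10192, 2, 9⟩)))))) (.node 16 (.node 8 (.node 4 (.node 2 (.node 1 (.one ⟨2245, 0, 6⟩) (.one ⟨11025, 1, 7⟩)) (.node 1 (.one ⟨17122, 2, 3⟩) (.one ⟨1649, 1, 2⟩))) (.node 2 (.node 1 (.one ⟨15929, 2, 5⟩) (.one ⟨13671, 1, 7⟩)) (.node 1 (.one ⟨3432, 0, 6⟩) (.one ⟨729, 0, 4⟩)))) (.node 4 (.node 2 (.node 1 (.one ⟨6874, 0, 8⟩) (.one ⟨16445, 1, 7⟩)) (.node 1 (.one ⟨9525, 1, 7⟩) (.one ⟨15927, 2, 3⟩))) (.node 2 (.node 1 (.one ⟨14632, 2, 6⟩) (.one ⟨4574, 1,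 3⟩)) (.node 1 (.one ⟨5590, 1, 7⟩) (.one ⟨13657, 1, 4⟩))))) (.node 8 (.node 4 (.node 2 (.node 1 (.one ⟨5583, 1, 8⟩) (.one ⟨14639, 1, 1⟩)) (.node 1 (.one ⟨6587, 1, 4⟩) (.one ⟨6603, 1, 5⟩))) (.node 2 (.node 1 (.one ⟨14655, 1, 3⟩) (.one ⟨5600, 1, 4⟩)) (.node 1 (.one ⟨13676, 1, 6⟩) (.one ⟨7294, 1, 7⟩)))) (.node 4 (.node 2 (.node 1 (.one ⟨1572, 1, 5⟩) (.one ⟨1657, 1, 5⟩)) (.node 1 (.one ⟨16323, 0, 2⟩) (.one ⟨7638, 1, 9⟩))) (.node 2 (.node 1 (.one ⟨5162, 0, 7⟩) (.one ⟨4306, 0, 6⟩)) (.node 1 (.one ⟨122, 2, 5⟩) (.one ⟨3711, 1, 7⟩)))))))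
def par7_11_5 : Arr Par :=
  (.node 32 (.node 16 (.node 8 (.node 4 (.node 2 (.node 1 (.one ⟨888, 1, 4⟩) (.one ⟨4884, 1, 6⟩)) (.node 1 (.one ⟨15610, 0, 2⟩) (.one ⟨2390, 2, 6⟩))) (.node 2 (.node 1 (.one ⟨4723, 2, 7⟩) (.one ⟨14131, 0, 5⟩)) (.node 1 (.one ⟨11655, 2, 8⟩) (.one ⟨13805, 2, 5⟩)))) (.node 4 (.node 2 (.node 1 (.one ⟨15922, 1, 4⟩) (.one ⟨6069, 1, 6⟩)) (.node 1 (.one ⟨15200, 1, 5⟩) (.one ⟨614, 1, 9⟩))) (.node 2 (.node 1 (.one ⟨11465, 1, 1⟩) (.one ⟨5350, 1, 5⟩)) (.node 1 (.one ⟨11632, 1, 4⟩) (.one ⟨9765, 1, 8⟩))))) (.node 8 (.node 4 (.node 2 (.node 1 (.one ⟨3751, 1, 2⟩) (.one ⟨9831, 2, 8⟩)) (.node 1 (.one ⟨11733, 0, 9⟩) (.one ⟨15886, 2, 8⟩))) (.node 2 (.node 1 (.one ⟨3273, 2, 4⟩) (.one ⟨1401, 2, 6⟩)) (.node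 1 (.one ⟨14337, 0, 5⟩) (.one ⟨9996, 0, 3⟩)))) (.node 4 (.node 2 (.node 1 (.one ⟨1320, 2, 5⟩) (.one ⟨17083, 2, 5⟩)) (.node 1 (.one ⟨5934, 1, 9⟩) (.one ⟨9998, 0, 8⟩))) (.node 2 (.node 1 (.one ⟨5104, 2, 4⟩) (.one ⟨17167, 1, 6⟩)) (.node 1 (.one ⟨5773, 2, 2⟩) (.one ⟨9206, 1, 2⟩)))))) (.node 16 (.node 8 (.node 4 (.node 2 (.node 1 (.one ⟨2881, 2, 3⟩) (.one ⟨9670, 2, 3⟩)) (.node 1 (.one ⟨7908, 0, 4⟩) (.one ⟨12337, 2, 5⟩))) (.node 2 (.node 1 (.one ⟨6943, 0, 3⟩) (.one ⟨4166, 2, 4⟩)) (.node 1 (.one ⟨5067, 2, 6⟩) (.one ⟨9827, 2, 1⟩)))) (.node 4 (.node 2 (.node 1 (.one ⟨7743, 1, 2⟩) (.one ⟨953, 1, 6⟩)) (.node 1 (.one ⟨302, 1, 6⟩) (.one ⟨15671, 2, 6⟩))) (.node 2 (.node 1 (.one ⟨7581, 0, 5⟩) (.one ⟨2888, 2, 3⟩)) (.node 1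 (.one ⟨15237, 0, 9⟩) (.one ⟨8376, 2, 7⟩))))) (.node 8 (.node 4 (.node 2 (.node 1 (.one ⟨11517, 1, 3⟩) (.one ⟨10825, 2, 5⟩)) (.node 1 (.one ⟨2235, 1, 6⟩) (.one ⟨3028, 1, 5⟩))) (.node 2 (.node 1 (.one ⟨4526, 1, 4⟩) (.one ⟨6132, 0, 2⟩)) (.node 1 (.one ⟨13163, 1, 6⟩) (.one ⟨11672, 1, 5⟩)))) (.node 4 (.node 2 (.node 1 (.one ⟨3716, 2, 3⟩) (.one ⟨3593, 2, 5⟩)) (.node 1 (.one ⟨5486, 0, 5⟩) (.one ⟨12225, 1, 6⟩))) (.node 2 (.node 1 (.one ⟨3690, 2, 3⟩) (.one ⟨5337, 0, 7⟩)) (.node 1 (.one ⟨8498, 1, 6⟩) (.one ⟨16472, 1, 7⟩)))))))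
def par7_11_6 : Arr Par :=
  (.node 32 (.node 16 (.node 8 (.node 4 (.node 2 (.node 1 (.one ⟨4787, 0, 6⟩) (.one ⟨4123, 2, 3⟩)) (.node 1 (.one ⟨5906, 1, 3⟩) (.one ⟨14172, 0, 4⟩))) (.node 2 (.node 1 (.one ⟨225, 1, 8⟩) (.one ⟨12210, 0, 6⟩)) (.node 1 (.one ⟨5587, 2, 5⟩) (.one ⟨12112, 1, 7⟩)))) (.node 4 (.node 2 (.node 1 (.one ⟨3668, 1, 4⟩) (.one ⟨2704, 1, 8⟩)) (.node 1 (.one ⟨9293, 1, 3⟩) (.one ⟨6172, 0, 4⟩))) (.node 2 (.node 1 (.one ⟨14891, 2, 4⟩) (.one ⟨3653, 2, 8⟩)) (.node 1 (.one ⟨2387, 2, 6⟩) (.one ⟨5708, 2, 5⟩))))) (.node 8 (.node 4 (.node 2 (.node 1 (.one ⟨1770, 0, 5⟩) (.one ⟨5704, 2, 4⟩)) (.node 1 (.one ⟨8505, 1, 6⟩) (.one ⟨5570, 0, 3⟩))) (.node 2 (.node 1 (.one ⟨2645, 1, 6⟩) (.one ⟨2173, 0, 7⟩)) (.node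 1 (.one ⟨11223, 1, 7⟩) (.one ⟨11808, 1, 5⟩)))) (.node 4 (.node 2 (.node 1 (.one ⟨16864, 0, 4⟩) (.one ⟨12164, 1, 7⟩)) (.node 1 (.one ⟨2614, 1, 7⟩) (.one ⟨11064, 2, 7⟩))) (.node 2 (.node 1 (.one ⟨7838, 2, 8⟩) (.one ⟨8356, 2, 6⟩)) (.node 1 (.one ⟨2281, 1, 7⟩) (.one ⟨13035, 1, 7⟩)))))) (.node 16 (.node 8 (.node 4 (.node 2 (.node 1 (.one ⟨5508, 2, 8⟩) (.one ⟨321, 1, 7⟩)) (.node 1 (.one ⟨3104, 2, 6⟩) (.one ⟨8198, 2, 7⟩))) (.node 2 (.node 1 (.one ⟨3179, 1, 5⟩) (.one ⟨2162, 0, 6⟩)) (.node 1 (.one ⟨6937, 2, 5⟩) (.one ⟨1619, 2, 5⟩)))) (.node 4 (.node 2 (.node 1 (.one ⟨5184, 2, 8⟩) (.one ⟨12397, 1, 9⟩)) (.node 1 (.one ⟨13074, 1, 3⟩) (.one ⟨10272, 1, 3⟩))) (.node 2 (.node 1 (.one ⟨11507, 1, 7⟩) (.one ⟨8304, 2, 8⟩)) (.node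 1 (.one ⟨7044, 2, 7⟩) (.one ⟨13740, 0, 9⟩))))) (.node 8 (.node 4 (.node 2 (.node 1 (.one ⟨3108, 2, 4⟩) (.one ⟨10667, 1, 8⟩)) (.node 1 (.one ⟨14595, 1, 6⟩) (.one ⟨6133, 0, 2⟩))) (.node 2 (.node 1 (.one ⟨613, 1, 9⟩) (.one ⟨5870, 0, 4⟩)) (.node 1 (.one ⟨13567, 0, 6⟩) (.one ⟨5411, 1, 7⟩)))) (.node 4 (.node 2 (.node 1 (.one ⟨6523, 1, 6⟩) (.one ⟨12569, 2, 3⟩)) (.node 1 (.one ⟨10202, 2, 8⟩) (.one ⟨4688, 0, 7⟩))) (.node 2 (.node 1 (.one ⟨7916, 0, 4⟩) (.one ⟨9346, 1, 9⟩)) (.node 1 (.one ⟨1849, 2, 4⟩) (.one ⟨16895, 2, 4⟩)))))))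
def par7_11_7 : Arr Par :=
  (.node 32 (.node 16 (.node 8 (.node 4 (.node 2 (.node 1 (.one ⟨4080, 1, 8⟩) (.one ⟨5948, 1, 6⟩)) (.node 1 (.one ⟨14308, 1, 9⟩) (.one ⟨5557, 0, 2⟩))) (.node 2 (.node 1 (.one ⟨14605, 1, 2⟩) (.one ⟨11690, 1, 4⟩)) (.node 1 (.one ⟨11215, 2, 3⟩) (.one ⟨6029, 2, 3⟩)))) (.node 4 (.node 2 (.node 1 (.one ⟨5522, 0, 4⟩) (.one ⟨1977, 0, 3⟩)) (.node 1 (.one ⟨5834, 0, 4⟩) (.one ⟨8266, 1, 5⟩))) (.node 2 (.node 1 (.one ⟨16928, 0, 6⟩) (.one ⟨10123, 2, 8⟩)) (.node 1 (.one ⟨3032, 1, 10⟩) (.one ⟨7006, 1, 6⟩))))) (.node 8 (.node 4 (.node 2 (.node 1 (.one ⟨1781, 0, 5⟩) (.one ⟨4922, 2, 5⟩)) (.node 1 (.one ⟨11921, 1, 4⟩) (.one ⟨7939, 1, 5⟩))) (.node 2 (.node 1 (.one ⟨4329, 2, 5⟩) (.one ⟨5775, 2, 8⟩)) (.node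 1 (.one ⟨11049, 1, 6⟩) (.one ⟨3855, 2, 4⟩)))) (.node 4 (.node 2 (.node 1 (.one ⟨5847, 2, 7⟩) (.one ⟨14978, 2, 3⟩)) (.node 1 (.one ⟨12768, 2, 3⟩) (.one ⟨8210, 1, 8⟩))) (.node 2 (.node 1 (.one ⟨4660, 2, 2⟩) (.one ⟨11947, 2, 6⟩)) (.node 1 (.one ⟨13919, 2, 6⟩) (.one ⟨2274, 2, 3⟩)))))) (.node 16 (.node 8 (.node 4 (.node 2 (.node 1 (.one ⟨9786, 2, 7⟩) (.one ⟨8269, 1, 9⟩)) (.node 1 (.one ⟨13510, 1, 6⟩) (.one ⟨1237, 1, 2⟩))) (.node 2 (.node 1 (.one ⟨14803, 1, 7⟩) (.one ⟨361, 0, 4⟩)) (.node 1 (.one ⟨11940, 1, 4⟩) (.one ⟨6445, 1, 7⟩)))) (.node 4 (.node 2 (.node 1 (.one ⟨8313, 2, 3⟩) (.one ⟨14352, 0, 3⟩)) (.node 1 (.one ⟨4294, 1, 7⟩) (.one ⟨16249, 2, 3⟩))) (.node 2 (.node 1 (.one ⟨15979, 1, 9⟩) (.one ⟨9878, 1, 7⟩)) (.node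 1 (.one ⟨14953, 2, 7⟩) (.one ⟨12708, 2, 6⟩))))) (.node 8 (.node 4 (.node 2 (.node 1 (.one ⟨8252, 0, 9⟩) (.one ⟨8945, 2, 3⟩)) (.node 1 (.one ⟨4347, 0, 7⟩) (.one ⟨1064, 1, 3⟩))) (.node 2 (.node 1 (.one ⟨16372, 2, 6⟩) (.one ⟨2020, 0, 7⟩)) (.node 1 (.one ⟨3879, 2, 6⟩) (.one ⟨4595, 0, 7⟩)))) (.node 4 (.node 2 (.node 1 (.one ⟨10823, 2, 5⟩) (.one ⟨13252, 1, 3⟩)) (.node 1 (.one ⟨10933, 2, 9⟩) (.one ⟨14938, 2, 5⟩))) (.node 2 (.node 1 (.one ⟨4965, 0, 7⟩) (.one ⟨14790, 2, 9⟩)) (.node 1 (.one ⟨13123, 1, 3⟩) (.one ⟨16337, 2, 4⟩)))))))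
def par7_11_8 : Arr Par :=
  (.node 32 (.node 16 (.node 8 (.node 4 (.node 2 (.node 1 (.one ⟨13330, 0, 3⟩) (.one ⟨13950, 1, 4⟩)) (.node 1 (.one ⟨16096, 0, 6⟩) (.one ⟨15804, 0, 7⟩))) (.node 2 (.node 1 (.one ⟨15562, 0, 4⟩) (.one ⟨13552, 0, 7⟩)) (.node 1 (.one ⟨9696, 0, 5⟩) (.one ⟨3460, 1, 3⟩)))) (.node 4 (.node 2 (.node 1 (.one ⟨1940, 1, 7⟩) (.one ⟨5060, 2, 5⟩)) (.node 1 (.one ⟨17155, 1, 6⟩) (.one ⟨7804, 1, 3⟩))) (.node 2 (.node 1 (.one ⟨8808, 1, 6⟩) (.one ⟨2167, 0, 3⟩)) (.node 1 (.one ⟨5057, 2, 4⟩) (.one ⟨2146, 0, 4⟩))))) (.node 8 (.node 4 (.node 2 (.node 1 (.one ⟨7003, 0, 8⟩) (.one ⟨6246, 2, 6⟩)) (.node 1 (.one ⟨2341, 0, 1⟩) (.one ⟨14635, 2, 3⟩))) (.node 2 (.node 1 (.one ⟨13047, 2, 3⟩) (.one ⟨1838, 0, 2⟩)) (.node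 1 (.one ⟨6713, 0, 1⟩) (.one ⟨3828, 2, 4⟩)))) (.node 4 (.node 2 (.node 1 (.one ⟨12225, 0, 6⟩) (.one ⟨12900, 1, 6⟩)) (.node 1 (.one ⟨1014, 2, 6⟩) (.one ⟨14039, 1, 5⟩))) (.node 2 (.node 1 (.one ⟨16084, 2, 5⟩) (.one ⟨13630, 2, 3⟩)) (.node 1 (.one ⟨8266, 2, 5⟩) (.one ⟨7343, 2, 9⟩)))))) (.node 16 (.node 8 (.node 4 (.node 2 (.node 1 (.one ⟨5600, 2, 4⟩) (.one ⟨12122, 0, 8⟩)) (.node 1 (.one ⟨15284, 2, 4⟩) (.one ⟨16270, 0, 2⟩))) (.node 2 (.node 1 (.one ⟨12350, 1, 6⟩) (.one ⟨4296, 1, 5⟩)) (.node 1 (.one ⟨9860, 2, 3⟩) (.one ⟨3076, 1, 3⟩)))) (.node 4 (.node 2 (.node 1 (.one ⟨13206, 2, 7⟩) (.one ⟨15064, 1, 6⟩)) (.node 1 (.one ⟨13300, 1, 7⟩) (.one ⟨12344, 1, 8⟩))) (.node 2 (.node 1 (.one ⟨13626, 1, 3⟩) (.one ⟨12242, 2, 7⟩))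 (.node 1 (.one ⟨1112, 1, 3⟩) (.one ⟨11820, 2, 4⟩))))) (.node 8 (.node 4 (.node 2 (.node 1 (.one ⟨4606, 0, 5⟩) (.one ⟨13145, 1, 4⟩)) (.node 1 (.one ⟨8257, 2, 3⟩) (.one ⟨1528, 1, 7⟩))) (.node 2 (.node 1 (.one ⟨16608, 1, 8⟩) (.one ⟨773, 0, 1⟩)) (.node 1 (.one ⟨12402, 1, 6⟩) (.one ⟨686, 2, 5⟩)))) (.node 4 (.node 2 (.node 1 (.one ⟨2709, 2, 8⟩) (.one ⟨1277, 1, 4⟩)) (.node 1 (.one ⟨12671, 0, 6⟩) (.one ⟨17036, 2, 5⟩))) (.node 2 (.node 1 (.one ⟨16680, 2, 7⟩) (.one ⟨11193, 1, 6⟩)) (.node 1 (.one ⟨3618, 1, 4⟩) (.one ⟨12170, 1, 3⟩)))))))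
def par7_11_9 : Arr Par :=
  (.node 32 (.node 16 (.node 8 (.node 4 (.node 2 (.node 1 (.one ⟨16169, 1, 5⟩) (.one ⟨9258, 1, 3⟩)) (.node 1 (.one ⟨14511, 1, 5⟩) (.one ⟨11165, 1, 7⟩))) (.node 2 (.node 1 (.one ⟨12480, 0, 6⟩) (.one ⟨13390, 1, 5⟩)) (.node 1 (.one ⟨16526, 1, 3⟩) (.one ⟨11885, 1, 3⟩)))) (.node 4 (.node 2 (.node 1 (.one ⟨10578, 1, 3⟩) (.one ⟨16617, 0, 3⟩)) (.node 1 (.one ⟨16398, 2, 4⟩) (.one ⟨9333, 0, 5⟩))) (.node 2 (.node 1 (.one ⟨9909, 0, 7⟩) (.one ⟨10156, 1, 2⟩)) (.node 1 (.one ⟨15826, 2, 3⟩) (.one ⟨4588, 0, 3⟩))))) (.node 8 (.node 4 (.node 2 (.node 1 (.one ⟨8135, 1, 4⟩) (.one ⟨633, 2, 2⟩)) (.node 1 (.one ⟨723, 0, 6⟩) (.one ⟨6062, 2, 5⟩))) (.node 2 (.node 1 (.one ⟨11822, 1, 4⟩) (.one ⟨13019, 2, 4⟩))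 (.node 1 (.one ⟨4938, 2, 5⟩) (.one ⟨7184, 1, 4⟩)))) (.node 4 (.node 2 (.node 1 (.one ⟨14319, 0, 5⟩) (.one ⟨9245, 0, 2⟩)) (.node 1 (.one ⟨424, 0, 7⟩) (.one ⟨16880, 0, 6⟩))) (.node 2 (.node 1 (.one ⟨15927, 1, 3⟩) (.one ⟨9487, 2, 3⟩)) (.node 1 (.one ⟨13212, 2, 3⟩) (.one ⟨10493, 2, 6⟩)))))) (.node 16 (.node 8 (.node 4 (.node 2 (.node 1 (.one ⟨15712, 2, 6⟩) (.one ⟨8576, 0, 5⟩)) (.node 1 (.one ⟨12819, 2, 6⟩) (.one ⟨1122, 0, 4⟩))) (.node 2 (.node 1 (.one ⟨685, 1, 8⟩) (.one ⟨3714, 1, 5⟩)) (.node 1 (.one ⟨8288, 2, 6⟩) (.one ⟨15845, 2, 7⟩)))) (.node 4 (.node 2 (.node 1 (.one ⟨9330, 0, 6⟩) (.one ⟨9153, 2, 8⟩)) (.node 1 (.one ⟨16073, 0, 9⟩) (.one ⟨1952, 1, 4⟩))) (.node 2 (.node 1 (.one ⟨13511, 1, 3⟩) (.one ⟨9297, 2, 2⟩))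 (.node 1 (.one ⟨11060, 2, 3⟩) (.one ⟨5160, 0, 6⟩))))) (.node 8 (.node 4 (.node 2 (.node 1 (.one ⟨11142, 0, 5⟩) (.one ⟨12557, 0, 6⟩)) (.node 1 (.one ⟨1128, 0, 5⟩) (.one ⟨11318, 2, 4⟩))) (.node 2 (.node 1 (.one ⟨11031, 1, 7⟩) (.one ⟨7733, 1, 4⟩)) (.node 1 (.one ⟨11031, 2, 7⟩) (.one ⟨9339, 0, 1⟩)))) (.node 4 (.node 2 (.node 1 (.one ⟨14483, 2, 4⟩) (.one ⟨4975, 0, 6⟩)) (.node 1 (.one ⟨14485, 2, 3⟩) (.one ⟨14410, 1, 6⟩))) (.node 2 (.node 1 (.one ⟨9904, 2, 3⟩) (.one ⟨14479, 2, 7⟩)) (.node 1 (.one ⟨9906, 2, 5⟩) (.one ⟨9264, 1, 2⟩)))))))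
def par7_11_10 : Arr Par :=
  (.node 32 (.node 16 (.node 8 (.node 4 (.node 2 (.node 1 (.one ⟨3776, 2, 6⟩) (.one ⟨16083, 2, 5⟩)) (.node 1 (.one ⟨334, 0, 3⟩) (.one ⟨14416, 2, 6⟩))) (.node 2 (.node 1 (.one ⟨4774, 0, 7⟩) (.one ⟨8161, 1, 3⟩)) (.node 1 (.one ⟨9578, 0, 3⟩) (.one ⟨14459, 2, 3⟩)))) (.node 4 (.node 2 (.node 1 (.one ⟨9239, 0, 6⟩) (.one ⟨15692, 2, 8⟩)) (.node 1 (.one ⟨5354, 0, 7⟩) (.one ⟨6446, 1, 6⟩))) (.node 2 (.node 1 (.one ⟨14132, 2, 3⟩) (.one ⟨2523, 0, 1⟩)) (.node 1 (.one ⟨16392, 2, 4⟩) (.one ⟨3777, 1, 8⟩))))) (.node 8 (.node 4 (.node 2 (.node 1 (.one ⟨11672, 2, 5⟩) (.one ⟨15834, 0, 3⟩)) (.node 1 (.one ⟨8880, 1, 6⟩) (.one ⟨8544, 0, 5⟩))) (.node 2 (.node 1 (.one ⟨11671, 2, 6⟩) (.one ⟨1131, 0, 2⟩)) (.node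 1 (.one ⟨11121, 1, 8⟩) (.one ⟨6276, 2, 4⟩)))) (.node 4 (.node 2 (.node 1 (.one ⟨11898, 0, 4⟩) (.one ⟨9979, 0, 4⟩)) (.node 1 (.one ⟨14854, 0, 5⟩) (.one ⟨10762, 1, 3⟩))) (.node 2 (.node 1 (.one ⟨5428, 1, 8⟩) (.one ⟨9336, 0, 5⟩)) (.node 1 (.one ⟨15142, 0, 7⟩) (.one ⟨9766, 0, 6⟩)))))) (.node 16 (.node 8 (.node 4 (.node 2 (.node 1 (.one ⟨11891, 1, 5⟩) (.one ⟨11888, 1, 6⟩)) (.node 1 (.one ⟨4332, 2, 9⟩) (.one ⟨11887, 1, 7⟩))) (.node 2 (.node 1 (.one ⟨1608, 0, 3⟩) (.one ⟨364, 1, 9⟩)) (.node 1 (.one ⟨847, 0, 8⟩) (.one ⟨183, 1, 4⟩)))) (.node 4 (.node 2 (.node 1 (.one ⟨12655, 0, 6⟩) (.one ⟨154, 2, 3⟩)) (.node 1 (.one ⟨6756, 2, 3⟩) (.one ⟨9634, 0, 5⟩))) (.node 2 (.node 1 (.one ⟨164, 1, 9⟩) (.one ⟨15087, 2, 5⟩)) (.node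 1 (.one ⟨12622, 0, 7⟩) (.one ⟨4179, 0, 7⟩))))) (.node 8 (.node 4 (.node 2 (.node 1 (.one ⟨7668, 1, 8⟩) (.one ⟨13327, 2, 4⟩)) (.node 1 (.one ⟨2937, 0, 8⟩) (.one ⟨5144, 0, 3⟩))) (.node 2 (.node 1 (.one ⟨1586, 0, 8⟩) (.one ⟨5062, 0, 3⟩)) (.node 1 (.one ⟨1532, 0, 2⟩) (.one ⟨5817, 1, 6⟩)))) (.node 4 (.node 2 (.node 1 (.one ⟨3869, 2, 5⟩) (.one ⟨6163, 1, 5⟩)) (.node 1 (.one ⟨3776, 1, 6⟩) (.one ⟨14132, 0, 3⟩))) (.node 2 (.node 1 (.one ⟨15988, 1, 4⟩) (.one ⟨5866, 2, 6⟩)) (.node 1 (.one ⟨4739, 2, 5⟩) (.one ⟨9112, 0, 5⟩)))))))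
def par7_11_11 : Arr Par :=
  (.node 32 (.node 16 (.node 8 (.node 4 (.node 2 (.node 1 (.one ⟨9090, 0, 4⟩) (.one ⟨9676, 1, 7⟩)) (.node 1 (.one ⟨3361, 0, 9⟩) (.one ⟨8089, 0, 4⟩))) (.node 2 (.node 1 (.one ⟨8066, 0, 4⟩) (.one ⟨5754, 2, 8⟩)) (.node 1 (.one ⟨1544, 0, 4⟩) (.one ⟨3861, 1, 0⟩)))) (.node 4 (.node 2 (.node 1 (.one ⟨8483, 0, 4⟩) (.one ⟨12386, 2, 7⟩)) (.node 1 (.one ⟨12565, 1, 7⟩) (.one ⟨1445, 2, 3⟩))) (.node 2 (.node 1 (.one ⟨17099, 0, 5⟩) (.one ⟨12340, 2, 6⟩)) (.node 1 (.one ⟨10962, 1, 5⟩) (.one ⟨14551, 0, 8⟩))))) (.node 8 (.node 4 (.node 2 (.node 1 (.one ⟨8271, 1, 1⟩) (.one ⟨12064, 1, 4⟩)) (.node 1 (.one ⟨5189, 0, 4⟩) (.one ⟨2516, 2, 6⟩))) (.node 2 (.node 1 (.one ⟨8037, 1, 5⟩) (.one ⟨11667, 1, 4⟩)) (.node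 1 (.one ⟨9077, 0, 8⟩) (.one ⟨7234, 0, 6⟩)))) (.node 4 (.node 2 (.node 1 (.one ⟨7611, 0, 8⟩) (.one ⟨8563, 0, 6⟩)) (.node 1 (.one ⟨6543, 0, 2⟩) (.one ⟨6420, 1, 5⟩))) (.node 2 (.node 1 (.one ⟨4305, 0, 6⟩) (.one ⟨14540, 2, 5⟩)) (.node 1 (.one ⟨1531, 0, 6⟩) (.one ⟨12104, 1, 5⟩)))))) (.node 16 (.node 8 (.node 4 (.node 2 (.node 1 (.one ⟨6186, 1, 3⟩) (.one ⟨10089, 1, 9⟩)) (.node 1 (.one ⟨8143, 1, 4⟩) (.one ⟨5014, 1, 8⟩))) (.node 2 (.node 1 (.one ⟨15334, 1, 7⟩) (.one ⟨3174, 1, 5⟩)) (.node 1 (.one ⟨16588, 1, 7⟩) (.one ⟨11366, 0, 6⟩)))) (.node 4 (.node 2 (.node 1 (.one ⟨12641, 1, 4⟩) (.one ⟨16738, 2, 4⟩)) (.node 1 (.one ⟨1547, 0, 3⟩) (.one ⟨17055, 2, 4⟩))) (.node 2 (.node 1 (.one ⟨3572, 1, 1⟩) (.one ⟨5261, 1, 10⟩)) (.node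 1 (.one ⟨4578, 2, 2⟩) (.one ⟨5323, 1, 5⟩))))) (.node 8 (.node 4 (.node 2 (.node 1 (.one ⟨3673, 1, 7⟩) (.one ⟨15790, 1, 8⟩)) (.node 1 (.one ⟨16875, 1, 4⟩) (.one ⟨5914, 1, 7⟩))) (.node 2 (.node 1 (.one ⟨7361, 1, 7⟩) (.one ⟨15045, 2, 6⟩)) (.node 1 (.one ⟨10109, 1, 6⟩) (.one ⟨11093, 2, 4⟩)))) (.node 4 (.node 2 (.node 1 (.one ⟨1303, 0, 6⟩) (.one ⟨9294, 1, 1⟩)) (.node 1 (.one ⟨10277, 0, 3⟩) (.one ⟨15393, 2, 4⟩))) (.node 2 (.node 1 (.one ⟨5443, 1, 6⟩) (.one ⟨4132, 1, 7⟩)) (.node 1 (.one ⟨3674, 1, 6⟩) (.one ⟨12687, 2, 6⟩)))))))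
def par7_11_12 : Arr Par :=
  (.node 32 (.node 16 (.node 8 (.node 4 (.node 2 (.node 1 (.one ⟨13411, 1, 5⟩) (.one ⟨1754, 1, 7⟩)) (.node 1 (.one ⟨12040, 1, 4⟩) (.one ⟨2157, 1, 4⟩))) (.node 2 (.node 1 (.one ⟨1334, 0, 6⟩) (.one ⟨14863, 2, 7⟩)) (.node 1 (.one ⟨13144, 1, 6⟩) (.one ⟨17035, 0, 8⟩)))) (.node 4 (.node 2 (.node 1 (.one ⟨6577, 0, 3⟩) (.one ⟨3547, 2, 9⟩)) (.node 1 (.one ⟨11431, 2, 7⟩) (.one ⟨427, 2, 5⟩))) (.node 2 (.node 1 (.one ⟨13133, 2, 9⟩) (.one ⟨17101, 0, 8⟩)) (.node 1 (.one ⟨7024, 0, 6⟩) (.one ⟨3659, 1, 9⟩))))) (.node 8 (.node 4 (.node 2 (.node 1 (.one ⟨1299, 0, 4⟩) (.one ⟨13131, 0, 9⟩)) (.node 1 (.one ⟨1463, 1, 6⟩) (.one ⟨9225, 2, 7⟩))) (.node 2 (.node 1 (.one ⟨16141, 2, 4⟩) (.one ⟨180, 1, 7⟩)) (.node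 1 (.one ⟨2843, 2, 3⟩) (.one ⟨11959, 2, 7⟩)))) (.node 4 (.node 2 (.node 1 (.one ⟨10316, 1, 2⟩) (.one ⟨1718, 0, 2⟩)) (.node 1 (.one ⟨15964, 2, 9⟩) (.one ⟨9993, 2, 9⟩))) (.node 2 (.node 1 (.one ⟨7196, 0, 6⟩) (.one ⟨25, 1, 1⟩)) (.node 1 (.one ⟨12515, 1, 8⟩) (.one ⟨5157, 2, 6⟩)))))) (.node 16 (.node 8 (.node 4 (.node 2 (.node 1 (.one ⟨5595, 0, 3⟩) (.one ⟨12611, 1, 3⟩)) (.node 1 (.one ⟨3153, 1, 4⟩) (.one ⟨9581, 2, 7⟩))) (.node 2 (.node 1 (.one ⟨13494, 1, 5⟩) (.one ⟨11903, 1, 3⟩)) (.node 1 (.one ⟨10332, 2, 5⟩) (.one ⟨3064, 1, 5⟩)))) (.node 4 (.node 2 (.node 1 (.one ⟨4402, 1, 4⟩) (.one ⟨2319, 1, 4⟩)) (.node 1 (.one ⟨9652, 2, 4⟩) (.one ⟨1327, 0, 1⟩))) (.node 2 (.node 1 (.one ⟨7792, 1, 4⟩) (.one ⟨5946, 1, 5⟩)) (.node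 1 (.one ⟨8099, 0, 4⟩) (.one ⟨2508, 0, 5⟩))))) (.node 8 (.node 4 (.node 2 (.node 1 (.one ⟨12647, 2, 4⟩) (.one ⟨10453, 2, 5⟩)) (.node 1 (.one ⟨5625, 2, 7⟩) (.one ⟨8769, 1, 10⟩))) (.node 2 (.node 1 (.one ⟨13451, 2, 3⟩) (.one ⟨8021, 1, 7⟩)) (.node 1 (.one ⟨6500, 2, 4⟩) (.one ⟨5057, 1, 4⟩)))) (.node 4 (.node 2 (.node 1 (.one ⟨9263, 1, 2⟩) (.one ⟨6506, 1, 4⟩)) (.node 1 (.one ⟨16672, 1, 5⟩) (.one ⟨4449, 1, 8⟩))) (.node 2 (.node 1 (.one ⟨11153, 1, 7⟩) (.one ⟨14340, 2, 3⟩)) (.node 1 (.one ⟨12051, 0, 8⟩) (.one ⟨922, 2, 5⟩)))))))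
def par7_11_13 : Arr Par :=
  (.node 32 (.node 16 (.node 8 (.node 4 (.node 2 (.node 1 (.one ⟨8118, 2, 3⟩) (.one ⟨7665, 0, 6⟩)) (.node 1 (.one ⟨12676, 0, 5⟩) (.one ⟨10564, 2, 5⟩))) (.node 2 (.node 1 (.one ⟨16124, 2, 3⟩) (.one ⟨7306, 2, 7⟩)) (.node 1 (.one ⟨4890, 2, 5⟩) (.one ⟨10173, 1, 8⟩)))) (.node 4 (.node 2 (.node 1 (.one ⟨12821, 2, 4⟩) (.one ⟨7069, 1, 3⟩)) (.node 1 (.one ⟨5920, 0, 3⟩) (.one ⟨11971, 1, 5⟩))) (.node 2 (.node 1 (.one ⟨6853, 2, 8⟩) (.one ⟨14992, 2, 5⟩)) (.node 1 (.one ⟨16378, 1, 7⟩) (.one ⟨2876, 0, 5⟩))))) (.node 8 (.node 4 (.node 2 (.node 1 (.one ⟨7352, 2, 6⟩) (.one ⟨6824, 2, 7⟩)) (.node 1 (.one ⟨9012, 2, 7⟩) (.one ⟨15040, 1, 2⟩))) (.node 2 (.node 1 (.one ⟨11858, 1, 7⟩) (.one ⟨1473, 1, 2⟩))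 (.node 1 (.one ⟨8415, 1, 6⟩) (.one ⟨13987, 1, 8⟩)))) (.node 4 (.node 2 (.node 1 (.one ⟨31, 1, 6⟩) (.one ⟨9486, 1, 2⟩)) (.node 1 (.one ⟨5828, 2, 7⟩) (.one ⟨5397, 0, 5⟩))) (.node 2 (.node 1 (.one ⟨4825, 1, 8⟩) (.one ⟨12852, 1, 6⟩)) (.node 1 (.one ⟨8487, 1, 2⟩) (.one ⟨7074, 1, 8⟩)))))) (.node 16 (.node 8 (.node 4 (.node 2 (.node 1 (.one ⟨4212, 1, 0⟩) (.one ⟨6426, 2, 8⟩)) (.node 1 (.one ⟨4257, 1, 0⟩) (.one ⟨9286, 2, 5⟩))) (.node 2 (.node 1 (.one ⟨14452, 2, 5⟩) (.one ⟨7548, 0, 5⟩)) (.node 1 (.one ⟨319, 1, 5⟩) (.one ⟨13572, 1, 3⟩)))) (.node 4 (.node 2 (.node 1 (.one ⟨9685, 1, 5⟩) (.one ⟨4262, 1, 3⟩)) (.node 1 (.one ⟨2794, 1, 8⟩) (.one ⟨71, 2, 5⟩))) (.node 2 (.node 1 (.one ⟨13565, 2, 2⟩) (.one ⟨9490, 2, 3⟩)) (.node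 1 (.one ⟨5549, 2, 2⟩) (.one ⟨2326, 1, 2⟩))))) (.node 8 (.node 4 (.node 2 (.node 1 (.one ⟨11964, 2, 5⟩) (.one ⟨2336, 0, 6⟩)) (.node 1 (.one ⟨4532, 1, 3⟩) (.one ⟨1762, 0, 6⟩))) (.node 2 (.node 1 (.one ⟨13184, 1, 9⟩) (.one ⟨9569, 1, 5⟩)) (.node 1 (.one ⟨6258, 1, 5⟩) (.one ⟨14560, 1, 5⟩)))) (.node 4 (.node 2 (.node 1 (.one ⟨8079, 1, 3⟩) (.one ⟨12339, 1, 5⟩)) (.node 1 (.one ⟨2014, 1, 3⟩) (.one ⟨4030, 1, 5⟩))) (.node 2 (.node 1 (.one ⟨9261, 1, 5⟩) (.one ⟨6368, 1, 3⟩)) (.node 1 (.one ⟨15761, 1, 6⟩) (.one ⟨14422, 2, 5⟩)))))))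
def par7_11_14 : Arr Par :=
  (.node 32 (.node 16 (.node 8 (.node 4 (.node 2 (.node 1 (.one ⟨8033, 2, 7⟩) (.one ⟨12258, 0, 8⟩)) (.node 1 (.one ⟨1673, 0, 8⟩) (.one ⟨739, 2, 8⟩))) (.node 2 (.node 1 (.one ⟨4803, 0, 6⟩) (.one ⟨13375, 1, 9⟩)) (.node 1 (.one ⟨10204, 2, 4⟩) (.one ⟨16287, 2, 4⟩)))) (.node 4 (.node 2 (.node 1 (.one ⟨5829, 2, 7⟩) (.one ⟨5604, 1, 6⟩)) (.node 1 (.one ⟨3924, 0, 2⟩) (.one ⟨1686, 1, 5⟩))) (.node 2 (.node 1 (.one ⟨5894, 1, 9⟩) (.one ⟨9885, 0, 8⟩)) (.node 1 (.one ⟨10923, 2, 4⟩) (.one ⟨16971, 0, 6⟩))))) (.node 8 (.node 4 (.node 2 (.node 1 (.one ⟨4641, 1, 8⟩) (.one ⟨12140, 0, 3⟩)) (.node 1 (.one ⟨3718, 1, 8⟩) (.one ⟨5865, 2, 7⟩))) (.node 2 (.node 1 (.one ⟨9733, 2, 7⟩) (.one ⟨5154, 2, 9⟩)) (.node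 1 (.one ⟨17013, 2, 7⟩) (.one ⟨9682, 1, 2⟩)))) (.node 4 (.node 2 (.node 1 (.one ⟨6493, 2, 6⟩) (.one ⟨17153, 0, 5⟩)) (.node 1 (.one ⟨10705, 2, 4⟩) (.one ⟨8108, 1, 3⟩))) (.node 2 (.node 1 (.one ⟨1003, 1, 9⟩) (.one ⟨7997, 1, 8⟩)) (.node 1 (.one ⟨1700, 1, 6⟩) (.one ⟨12240, 2, 6⟩)))))) (.node 16 (.node 8 (.node 4 (.node 2 (.node 1 (.one ⟨12031, 1, 7⟩) (.one ⟨2054, 1, 4⟩)) (.node 1 (.one ⟨920, 2, 5⟩) (.one ⟨14439, 0, 4⟩))) (.node 2 (.node 1 (.one ⟨8621, 2, 5⟩) (.one ⟨15240, 2, 4⟩)) (.node 1 (.one ⟨13072, 2, 9⟩) (.one ⟨694, 1, 6⟩)))) (.node 4 (.node 2 (.node 1 (.one ⟨8348, 2, 6⟩) (.one ⟨13057, 2, 2⟩)) (.node 1 (.one ⟨11992, 1, 9⟩) (.one ⟨11993, 1, 7⟩))) (.node 2 (.node 1 (.one ⟨179, 1, 9⟩) (.one ⟨11996, 1, 7⟩)) (.node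 1 (.one ⟨12254, 0, 6⟩) (.one ⟨8058, 1, 4⟩))))) (.node 8 (.node 4 (.node 2 (.node 1 (.one ⟨3479, 1, 6⟩) (.one ⟨9879, 0, 8⟩)) (.node 1 (.one ⟨1873, 2, 5⟩) (.one ⟨1006, 2, 2⟩))) (.node 2 (.node 1 (.one ⟨6399, 0, 3⟩) (.one ⟨4484, 1, 6⟩)) (.node 1 (.one ⟨6814, 0, 5⟩) (.one ⟨13059, 0, 2⟩)))) (.node 4 (.node 2 (.node 1 (.one ⟨9782, 0, 6⟩) (.one ⟨5159, 0, 8⟩)) (.node 1 (.one ⟨8373, 1, 4⟩) (.one ⟨12305, 2, 7⟩))) (.node 2 (.node 1 (.one ⟨15202, 1, 9⟩) (.one ⟨15520, 0, 8⟩)) (.node 1 (.one ⟨16661, 2, 5⟩) (.one ⟨9410, 1, 5⟩)))))))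
def par7_11_15 : Arr Par :=
  (.node 32 (.node 16 (.node 8 (.node 4 (.node 2 (.node 1 (.one ⟨4649, 1, 6⟩) (.one ⟨8519, 2, 5⟩)) (.node 1 (.one ⟨4702, 2, 5⟩) (.one ⟨597, 1, 3⟩))) (.node 2 (.node 1 (.one ⟨5950, 2, 6⟩) (.one ⟨16149, 1, 3⟩)) (.node 1 (.one ⟨7084, 1, 5⟩) (.one ⟨1601, 1, 3⟩)))) (.node 4 (.node 2 (.node 1 (.one ⟨11364, 0, 6⟩) (.one ⟨6044, 2, 3⟩)) (.node 1 (.one ⟨6043, 2, 8⟩) (.one ⟨6039, 2, 6⟩))) (.node 2 (.node 1 (.one ⟨6040, 2, 3⟩) (.one ⟨6045, 2, 3⟩)) (.node 1 (.one ⟨6046, 2, 5⟩) (.one ⟨11701, 2, 5⟩))))) (.node 8 (.node 4 (.node 2 (.node 1 (.one ⟨7281, 1, 5⟩) (.one ⟨8404, 2, 5⟩)) (.node 1 (.one ⟨1531, 1, 6⟩) (.one ⟨13422, 0, 2⟩))) (.node 2 (.node 1 (.one ⟨11024, 2, 5⟩) (.one ⟨10964, 1, 5⟩)) (.node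 1 (.one ⟨5617, 2, 7⟩) (.one ⟨16777, 2, 7⟩)))) (.node 4 (.node 2 (.node 1 (.one ⟨16233, 2, 6⟩) (.one ⟨8824, 2, 5⟩)) (.node 1 (.one ⟨2718, 0, 3⟩) (.one ⟨13603, 0, 7⟩))) (.node 2 (.node 1 (.one ⟨8500, 1, 9⟩) (.one ⟨8733, 0, 7⟩)) (.node 1 (.one ⟨14102, 2, 5⟩) (.one ⟨323, 2, 1⟩)))))) (.node 16 (.node 8 (.node 4 (.node 2 (.node 1 (.one ⟨855, 2, 8⟩) (.one ⟨3217, 0, 7⟩)) (.node 1 (.one ⟨1061, 2, 7⟩) (.one ⟨16875, 0, 4⟩))) (.node 2 (.node 1 (.one ⟨7856, 1, 5⟩) (.one ⟨839, 2, 5⟩)) (.node 1 (.one ⟨305, 2, 7⟩) (.one ⟨16599, 2, 6⟩)))) (.node 4 (.node 2 (.node 1 (.one ⟨13511, 0, 3⟩) (.one ⟨9298, 2, 4⟩)) (.node 1 (.one ⟨8523, 2, 4⟩) (.one ⟨1557, 2, 8⟩))) (.node 2 (.node 1 (.one ⟨16648, 2, 6⟩) (.one ⟨8606, 2, 7⟩)) (.node 1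 (.one ⟨4841, 1, 5⟩) (.one ⟨320, 2, 5⟩))))) (.node 8 (.node 4 (.node 2 (.node 1 (.one ⟨2669, 2, 3⟩) (.one ⟨11869, 1, 4⟩)) (.node 1 (.one ⟨2247, 2, 3⟩) (.one ⟨2394, 0, 7⟩))) (.node 2 (.node 1 (.one ⟨2453, 1, 5⟩) (.one ⟨7079, 1, 3⟩)) (.node 1 (.one ⟨15206, 0, 9⟩) (.one ⟨9011, 2, 8⟩)))) (.node 4 (.node 2 (.node 1 (.one ⟨9291, 1, 5⟩) (.one ⟨5660, 2, 8⟩)) (.node 1 (.one ⟨4528, 0, 4⟩) (.one ⟨10629, 2, 8⟩))) (.node 2 (.node 1 (.one ⟨4100, 1, 3⟩) (.one ⟨11006, 1, 6⟩)) (.node 1 (.one ⟨8439, 2, 2⟩) (.one ⟨3884, 1, 3⟩)))))))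
def par7_11 : Arr Par :=
  (.node 512 (.node 256 (.node 128 (.node 64 par7_11_0 par7_11_1) (.node 64 par7_11_2 par7_11_3)) (.node 128 (.node 64 par7_11_4 par7_11_5) (.node 64 par7_11_6 par7_11_7))) (.node 256 (.node 128 (.node 64 par7_11_8 par7_11_9) (.node 64 par7_11_10 par7_11_11)) (.node 128 (.node 64 par7_11_12 par7_11_13) (.node 64 par7_11_14 par7_11_15))))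
def par7_12_0 : Arr Par :=
  (.node 32 (.node 16 (.node 8 (.node 4 (.node 2 (.node 1 (.one ⟨3779, 2, 4⟩) (.one ⟨9485, 1, 4⟩)) (.node 1 (.one ⟨8439, 1, 2⟩) (.one ⟨3512, 2, 8⟩))) (.node 2 (.node 1 (.one ⟨16529, 1, 3⟩) (.one ⟨6733, 2, 5⟩)) (.node 1 (.one ⟨4206, 2, 9⟩) (.one ⟨3545, 2, 9⟩)))) (.node 4 (.node 2 (.node 1 (.one ⟨2966, 1, 5⟩) (.one ⟨1972, 0, 4⟩)) (.node 1 (.one ⟨7028, 0, 3⟩) (.one ⟨1589, 0, 3⟩))) (.node 2 (.node 1 (.one ⟨3778, 1, 5⟩) (.one ⟨3878, 1, 6⟩)) (.node 1 (.one ⟨8923, 2, 9⟩) (.one ⟨2729, 1, 3⟩))))) (.node 8 (.node 4 (.node 2 (.node 1 (.one ⟨13009, 1, 3⟩) (.one ⟨1405, 1, 6⟩)) (.node 1 (.one ⟨545, 2, 3⟩) (.one ⟨14515, 1, 3⟩))) (.node 2 (.node 1 (.one ⟨8715, 1, 5⟩) (.one ⟨13903, 1, 2⟩)) (.node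 1 (.one ⟨11288, 0, 6⟩) (.one ⟨1910, 0, 2⟩)))) (.node 4 (.node 2 (.node 1 (.one ⟨13265, 1, 3⟩) (.one ⟨13102, 0, 6⟩)) (.node 1 (.one ⟨13505, 1, 4⟩) (.one ⟨4571, 1, 8⟩))) (.node 2 (.node 1 (.one ⟨2571, 1, 5⟩) (.one ⟨4997, 1, 6⟩)) (.node 1 (.one ⟨2265, 1, 6⟩) (.one ⟨722, 2, 7⟩)))))) (.node 16 (.node 8 (.node 4 (.node 2 (.node 1 (.one ⟨12725, 1, 3⟩) (.one ⟨8532, 1, 4⟩)) (.node 1 (.one ⟨11246, 1, 5⟩) (.one ⟨8048, 2, 6⟩))) (.node 2 (.node 1 (.one ⟨10154, 1, 8⟩) (.one ⟨3770, 2, 9⟩)) (.node 1 (.one ⟨12534, 1, 4⟩) (.one ⟨16993, 1, 1⟩)))) (.node 4 (.node 2 (.node 1 (.one ⟨14372, 0, 3⟩) (.one ⟨4431, 1, 9⟩)) (.node 1 (.one ⟨12748, 1, 5⟩) (.one ⟨14367, 0, 4⟩))) (.node 2 (.node 1 (.one ⟨4159, 2, 8⟩) (.one ⟨1154, 1, 9⟩)) (.node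 1 (.one ⟨11543, 1, 8⟩) (.one ⟨13501, 0, 5⟩))))) (.node 8 (.node 4 (.node 2 (.node 1 (.one ⟨16445, 0, 7⟩) (.one ⟨7309, 1, 4⟩)) (.node 1 (.one ⟨60, 1, 7⟩) (.one ⟨2651, 2, 4⟩))) (.node 2 (.node 1 (.one ⟨5000, 0, 5⟩) (.one ⟨14698, 1, 2⟩)) (.node 1 (.one ⟨13058, 2, 7⟩) (.one ⟨16551, 0, 6⟩)))) (.node 4 (.node 2 (.node 1 (.one ⟨11264, 0, 7⟩) (.one ⟨13928, 0, 3⟩)) (.node 1 (.one ⟨16903, 1, 3⟩) (.one ⟨3160, 2, 6⟩))) (.node 2 (.node 1 (.one ⟨15137, 0, 2⟩) (.one ⟨5785, 2, 5⟩)) (.node 1 (.one ⟨14273, 2, 5⟩) (.one ⟨17105, 1, 3⟩)))))))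
def par7_12_1 : Arr Par :=
  (.node 32 (.node 16 (.node 8 (.node 4 (.node 2 (.node 1 (.one ⟨11975, 1, 1⟩) (.one ⟨14925, 1, 5⟩)) (.node 1 (.one ⟨9587, 1, 6⟩) (.one ⟨9841, 0, 6⟩))) (.node 2 (.node 1 (.one ⟨14699, 1, 5⟩) (.one ⟨10860, 2, 3⟩)) (.node 1 (.one ⟨16866, 1, 3⟩) (.one ⟨6063, 1, 8⟩)))) (.node 4 (.node 2 (.node 1 (.one ⟨17185, 2, 4⟩) (.one ⟨2437, 0, 6⟩)) (.node 1 (.one ⟨6771, 1, 6⟩) (.one ⟨13544, 2, 5⟩))) (.node 2 (.node 1 (.one ⟨2900, 1, 4⟩) (.one ⟨317, 1, 9⟩)) (.node 1 (.one ⟨13666, 1, 3⟩) (.one ⟨13465, 2, 5⟩))))) (.node 8 (.node 4 (.node 2 (.node 1 (.one ⟨8572, 1, 3⟩) (.one ⟨4537, 1, 6⟩)) (.node 1 (.one ⟨9049, 2, 4⟩) (.one ⟨8920, 2, 9⟩))) (.node 2 (.node 1 (.one ⟨11583, 1, 8⟩) (.one ⟨146, 2, 6⟩)) (.node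 1 (.one ⟨13342, 2, 6⟩) (.one ⟨12868, 1, 5⟩)))) (.node 4 (.node 2 (.node 1 (.one ⟨6545, 1, 5⟩) (.one ⟨8698, 1, 6⟩)) (.node 1 (.one ⟨10341, 1, 5⟩) (.one ⟨6789, 0, 4⟩))) (.node 2 (.node 1 (.one ⟨12241, 0, 6⟩) (.one ⟨2222, 2, 7⟩)) (.node 1 (.one ⟨10512, 2, 1⟩) (.one ⟨11162, 1, 6⟩)))))) (.node 16 (.node 8 (.node 4 (.node 2 (.node 1 (.one ⟨12727, 1, 6⟩) (.one ⟨15685, 2, 5⟩)) (.node 1 (.one ⟨10289, 1, 6⟩) (.one ⟨14015, 1, 7⟩))) (.node 2 (.node 1 (.one ⟨5897, 2, 6⟩) (.one ⟨5957, 2, 4⟩)) (.node 1 (.one ⟨15527, 1, 6⟩) (.one ⟨10781, 2, 2⟩)))) (.node 4 (.node 2 (.node 1 (.one ⟨7796, 1, 4⟩) (.one ⟨12869, 1, 5⟩)) (.node 1 (.one ⟨9386, 2, 8⟩) (.one ⟨10792, 2, 5⟩))) (.node 2 (.node 1 (.one ⟨10758, 2, 3⟩) (.one ⟨9303, 2, 8⟩))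 (.node 1 (.one ⟨9502, 2, 4⟩) (.one ⟨10033, 2, 4⟩))))) (.node 8 (.node 4 (.node 2 (.node 1 (.one ⟨5238, 1, 9⟩) (.one ⟨7305, 1, 7⟩)) (.node 1 (.one ⟨348, 1, 5⟩) (.one ⟨15754, 2, 3⟩))) (.node 2 (.node 1 (.one ⟨6480, 2, 8⟩) (.one ⟨2852, 0, 4⟩)) (.node 1 (.one ⟨10367, 1, 6⟩) (.one ⟨14451, 2, 5⟩)))) (.node 4 (.node 2 (.node 1 (.one ⟨5957, 1, 4⟩) (.one ⟨186, 2, 8⟩)) (.node 1 (.one ⟨6210, 1, 8⟩) (.one ⟨15115, 1, 6⟩))) (.node 2 (.node 1 (.one ⟨7968, 2, 5⟩) (.one ⟨11973, 0, 9⟩)) (.node 1 (.one ⟨12519, 2, 6⟩) (.one ⟨3604, 2, 6⟩)))))))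
def par7_12_2 : Arr Par :=
  (.node 32 (.node 16 (.node 8 (.node 4 (.node 2 (.node 1 (.one ⟨3808, 2, 7⟩) (.one ⟨16657, 2, 8⟩)) (.node 1 (.one ⟨6611, 1, 5⟩) (.one ⟨6576, 1, 5⟩))) (.node 2 (.node 1 (.one ⟨14701, 1, 3⟩) (.one ⟨6623, 1, 3⟩)) (.node 1 (.one ⟨3454, 2, 8⟩) (.one ⟨12976, 2, 6⟩)))) (.node 4 (.node 2 (.node 1 (.one ⟨10822, 1, 8⟩) (.one ⟨7569, 1, 4⟩)) (.node 1 (.one ⟨12105, 2, 4⟩) (.one ⟨11139, 1, 4⟩))) (.node 2 (.node 1 (.one ⟨10399, 2, 3⟩) (.one ⟨11154, 2, 4⟩)) (.node 1 (.one ⟨7271, 1, 6⟩) (.one ⟨17147, 0, 1⟩))))) (.node 8 (.node 4 (.node 2 (.node 1 (.one ⟨13577, 1, 6⟩) (.one ⟨6828, 2, 8⟩)) (.node 1 (.one ⟨1377, 1, 5⟩) (.one ⟨4018, 1, 4⟩))) (.node 2 (.node 1 (.one ⟨11501, 2, 4⟩) (.one ⟨10977, 1, 4⟩))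 (.node 1 (.one ⟨5657, 2, 6⟩) (.one ⟨13562, 2, 5⟩)))) (.node 4 (.node 2 (.node 1 (.one ⟨9083, 1, 7⟩) (.one ⟨17135, 1, 5⟩)) (.node 1 (.one ⟨8303, 1, 6⟩) (.one ⟨8356, 1, 6⟩))) (.node 2 (.node 1 (.one ⟨17189, 1, 5⟩) (.one ⟨7953, 2, 4⟩)) (.node 1 (.one ⟨16428, 1, 4⟩) (.one ⟨3330, 0, 8⟩)))))) (.node 16 (.node 8 (.node 4 (.node 2 (.node 1 (.one ⟨13218, 2, 6⟩) (.one ⟨6918, 0, 3⟩)) (.node 1 (.one ⟨12680, 1, 3⟩) (.one ⟨8235, 1, 2⟩))) (.node 2 (.node 1 (.one ⟨6883, 2, 4⟩) (.one ⟨8179, 2, 5⟩)) (.node 1 (.one ⟨13938, 0, 8⟩) (.one ⟨13441, 1, 7⟩)))) (.node 4 (.node 2 (.node 1 (.one ⟨14932, 0, 8⟩) (.one ⟨13644, 1, 8⟩)) (.node 1 (.one ⟨15034, 1, 7⟩) (.one ⟨10710, 2, 5⟩))) (.node 2 (.node 1 (.one ⟨7912, 0, 8⟩) (.one ⟨3357, 0,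 6⟩)) (.node 1 (.one ⟨3042, 1, 9⟩) (.one ⟨2660, 1, 8⟩))))) (.node 8 (.node 4 (.node 2 (.node 1 (.one ⟨4050, 1, 4⟩) (.one ⟨3753, 1, 9⟩)) (.node 1 (.one ⟨12266, 0, 5⟩) (.one ⟨16968, 0, 3⟩))) (.node 2 (.node 1 (.one ⟨3057, 1, 8⟩) (.one ⟨3120, 1, 4⟩)) (.node 1 (.one ⟨17010, 2, 7⟩) (.one ⟨1920, 2, 4⟩)))) (.node 4 (.node 2 (.node 1 (.one ⟨13521, 1, 9⟩) (.one ⟨9345, 0, 6⟩)) (.node 1 (.one ⟨11152, 1, 3⟩) (.one ⟨5833, 2, 4⟩))) (.node 2 (.node 1 (.one ⟨13811, 2, 3⟩) (.one ⟨3916, 1, 9⟩)) (.node 1 (.one ⟨14239, 2, 7⟩) (.one ⟨5438, 2, 6⟩)))))))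
def par7_12_3 : Arr Par :=
  (.node 32 (.node 16 (.node 8 (.node 4 (.node 2 (.node 1 (.one ⟨1175, 2, 5⟩) (.one ⟨12007, 1, 7⟩)) (.node 1 (.one ⟨9400, 2, 8⟩) (.one ⟨11043, 1, 8⟩))) (.node 2 (.node 1 (.one ⟨4023, 1, 0⟩) (.one ⟨158, 1, 5⟩)) (.node 1 (.one ⟨9795, 0, 5⟩) (.one ⟨15615, 2, 9⟩)))) (.node 4 (.node 2 (.node 1 (.one ⟨12132, 0, 6⟩) (.one ⟨3670, 1, 6⟩)) (.node 1 (.one ⟨12687, 1, 6⟩) (.one ⟨12841, 1, 5⟩))) (.node 2 (.node 1 (.one ⟨3747, 1, 6⟩) (.one ⟨1668, 1, 6⟩)) (.node 1 (.one ⟨11044, 1, 5⟩) (.one ⟨6765, 1, 6⟩))))) (.node 8 (.node 4 (.node 2 (.node 1 (.one ⟨10133, 0, 5⟩) (.one ⟨6440, 1, 6⟩)) (.node 1 (.one ⟨4734, 2, 7⟩) (.one ⟨13127, 0, 8⟩))) (.node 2 (.node 1 (.one ⟨11268, 2, 8⟩) (.one ⟨12019, 2, 8⟩))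 (.node 1 (.one ⟨9349, 0, 8⟩) (.one ⟨2837, 1, 6⟩)))) (.node 4 (.node 2 (.node 1 (.one ⟨10722, 2, 2⟩) (.one ⟨4020, 1, 3⟩)) (.node 1 (.one ⟨9213, 0, 4⟩) (.one ⟨3931, 1, 0⟩))) (.node 2 (.node 1 (.one ⟨4964, 2, 6⟩) (.one ⟨17032, 1, 9⟩)) (.node 1 (.one ⟨16387, 2, 5⟩) (.one ⟨6758, 2, 3⟩)))))) (.node 16 (.node 8 (.node 4 (.node 2 (.node 1 (.one ⟨1907, 0, 8⟩) (.one ⟨300, 2, 3⟩)) (.node 1 (.one ⟨3491, 2, 3⟩) (.one ⟨5202, 0, 7⟩))) (.node 2 (.node 1 (.one ⟨9864, 0, 6⟩) (.one ⟨979, 1, 8⟩)) (.node 1 (.one ⟨13502, 0, 5⟩) (.one ⟨9815, 1, 5⟩)))) (.node 4 (.node 2 (.node 1 (.one ⟨12475, 0, 5⟩) (.one ⟨9214, 0, 4⟩)) (.node 1 (.one ⟨6988, 0, 7⟩) (.one ⟨13193, 1, 6⟩))) (.node 2 (.node 1 (.one ⟨3183, 2, 4⟩) (.one ⟨4579, 2, 2⟩)) (.node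 1 (.one ⟨5273, 1, 3⟩) (.one ⟨17050, 1, 8⟩))))) (.node 8 (.node 4 (.node 2 (.node 1 (.one ⟨12524, 1, 5⟩) (.one ⟨9263, 0, 2⟩)) (.node 1 (.one ⟨10333, 2, 6⟩) (.one ⟨12712, 1, 7⟩))) (.node 2 (.node 1 (.one ⟨7881, 2, 6⟩) (.one ⟨10217, 2, 4⟩)) (.node 1 (.one ⟨12525, 0, 3⟩) (.one ⟨6425, 2, 8⟩)))) (.node 4 (.node 2 (.node 1 (.one ⟨13139, 0, 8⟩) (.one ⟨1919, 1, 5⟩)) (.node 1 (.one ⟨13137, 0, 8⟩) (.one ⟨2582, 2, 3⟩))) (.node 2 (.node 1 (.one ⟨260, 0, 6⟩) (.one ⟨6876, 1, 1⟩)) (.node 1 (.one ⟨1039, 0, 1⟩) (.one ⟨4227, 2, 6⟩)))))))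
def par7_12_4 : Arr Par :=
  (.node 32 (.node 16 (.node 8 (.node 4 (.node 2 (.node 1 (.one ⟨16761, 2, 7⟩) (.one ⟨861, 0, 3⟩)) (.node 1 (.one ⟨13163, 0, 6⟩) (.one ⟨791, 1, 7⟩))) (.node 2 (.node 1 (.one ⟨10752, 2, 4⟩) (.one ⟨10889, 2, 4⟩)) (.node 1 (.one ⟨6305, 2, 5⟩) (.one ⟨4160, 1, 0⟩)))) (.node 4 (.node 2 (.node 1 (.one ⟨6629, 1, 4⟩) (.one ⟨110, 1, 3⟩)) (.node 1 (.one ⟨4091, 1, 0⟩) (.one ⟨10849, 2, 5⟩))) (.node 2 (.node 1 (.one ⟨38, 2, 7⟩) (.one ⟨9391, 2, 5⟩)) (.node 1 (.one ⟨12010, 1, 4⟩) (.one ⟨13540, 0, 5⟩))))) (.node 8 (.node 4 (.node 2 (.node 1 (.one ⟨5806, 1, 6⟩) (.one ⟨15123, 2, 4⟩)) (.node 1 (.one ⟨7114, 1, 6⟩) (.one ⟨15638, 1, 3⟩))) (.node 2 (.node 1 (.one ⟨11195, 2, 8⟩) (.one ⟨14220, 1, 6⟩)) (.node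 1 (.one ⟨11191, 2, 4⟩) (.one ⟨7582, 0, 5⟩)))) (.node 4 (.node 2 (.node 1 (.one ⟨7290, 1, 7⟩) (.one ⟨8274, 0, 2⟩)) (.node 1 (.one ⟨13233, 2, 5⟩) (.one ⟨3983, 1, 2⟩))) (.node 2 (.node 1 (.one ⟨13123, 0, 3⟩) (.one ⟨7732, 1, 6⟩)) (.node 1 (.one ⟨10377, 0, 2⟩) (.one ⟨14194, 1, 4⟩)))))) (.node 16 (.node 8 (.node 4 (.node 2 (.node 1 (.one ⟨4552, 2, 7⟩) (.one ⟨821, 2, 6⟩)) (.node 1 (.one ⟨5419, 2, 4⟩) (.one ⟨2330, 2, 5⟩))) (.node 2 (.node 1 (.one ⟨13117, 0, 6⟩) (.one ⟨1869, 2, 5⟩)) (.node 1 (.one ⟨9477, 1, 2⟩) (.one ⟨1645, 2, 5⟩)))) (.node 4 (.node 2 (.node 1 (.one ⟨3696, 1, 5⟩) (.one ⟨14564, 0, 4⟩)) (.node 1 (.one ⟨9043, 0, 6⟩) (.one ⟨1809, 2, 4⟩))) (.node 2 (.node 1 (.one ⟨13688, 2, 4⟩) (.one ⟨5692, 2, 6⟩)) (.node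 1 (.one ⟨4542, 0, 2⟩) (.one ⟨5373, 0, 4⟩))))) (.node 8 (.node 4 (.node 2 (.node 1 (.one ⟨2522, 1, 6⟩) (.one ⟨12197, 0, 5⟩)) (.node 1 (.one ⟨10764, 1, 2⟩) (.one ⟨1514, 2, 7⟩))) (.node 2 (.node 1 (.one ⟨13249, 2, 7⟩) (.one ⟨7, 1, 5⟩)) (.node 1 (.one ⟨10605, 1, 2⟩) (.one ⟨1316, 0, 7⟩)))) (.node 4 (.node 2 (.node 1 (.one ⟨14787, 0, 5⟩) (.one ⟨3853, 2, 6⟩)) (.node 1 (.one ⟨6928, 2, 8⟩) (.one ⟨12594, 2, 3⟩))) (.node 2 (.node 1 (.one ⟨13796, 2, 6⟩) (.one ⟨765, 1, 6⟩)) (.node 1 (.one ⟨2616, 0, 9⟩) (.one ⟨3786, 2, 7⟩)))))))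
def par7_12_5 : Arr Par :=
  (.node 32 (.node 16 (.node 8 (.node 4 (.node 2 (.node 1 (.one ⟨9443, 0, 5⟩) (.one ⟨493, 2, 5⟩)) (.node 1 (.one ⟨2521, 1, 9⟩) (.one ⟨3007, 1, 2⟩))) (.node 2 (.node 1 (.one ⟨7994, 1, 3⟩) (.one ⟨13650, 1, 2⟩)) (.node 1 (.one ⟨12505, 2, 4⟩) (.one ⟨16582, 0, 2⟩)))) (.node 4 (.node 2 (.node 1 (.one ⟨3745, 1, 5⟩) (.one ⟨1324, 0, 7⟩)) (.node 1 (.one ⟨9350, 2, 6⟩) (.one ⟨12461, 1, 7⟩))) (.node 2 (.node 1 (.one ⟨10301, 1, 7⟩) (.one ⟨8544, 1, 5⟩)) (.node 1 (.one ⟨15667, 2, 6⟩) (.one ⟨7701, 0, 7⟩))))) (.node 8 (.node 4 (.node 2 (.node 1 (.one ⟨6702, 0, 3⟩) (.one ⟨16425, 2, 8⟩)) (.node 1 (.one ⟨16254, 2, 8⟩) (.one ⟨9476, 0, 7⟩))) (.node 2 (.node 1 (.one ⟨15147, 1, 2⟩) (.one ⟨6717, 0, 8⟩)) (.node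 1 (.one ⟨13205, 2, 4⟩) (.one ⟨10561, 2, 7⟩)))) (.node 4 (.node 2 (.node 1 (.one ⟨530, 2, 2⟩) (.one ⟨14318, 1, 1⟩)) (.node 1 (.one ⟨1878, 1, 5⟩) (.one ⟨9587, 2, 6⟩))) (.node 2 (.node 1 (.one ⟨2581, 2, 6⟩) (.one ⟨8468, 2, 5⟩)) (.node 1 (.one ⟨17114, 2, 7⟩) (.one ⟨2123, 1, 8⟩)))))) (.node 16 (.node 8 (.node 4 (.node 2 (.node 1 (.one ⟨16294, 1, 5⟩) (.one ⟨9479, 0, 3⟩)) (.node 1 (.one ⟨16508, 0, 4⟩) (.one ⟨3583, 0, 4⟩))) (.node 2 (.node 1 (.one ⟨7180, 1, 5⟩) (.one ⟨16650, 1, 10⟩)) (.node 1 (.one ⟨3138, 1, 7⟩) (.one ⟨9582, 0, 3⟩)))) (.node 4 (.node 2 (.node 1 (.one ⟨6569, 2, 4⟩) (.one ⟨12617, 1, 8⟩)) (.node 1 (.one ⟨14566, 2, 7⟩) (.one ⟨17020, 2, 5⟩))) (.node 2 (.node 1 (.one ⟨10215, 2, 3⟩) (.one ⟨6831, 0, 5⟩)) (.node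 1 (.one ⟨14447, 1, 8⟩) (.one ⟨1629, 2, 5⟩))))) (.node 8 (.node 4 (.node 2 (.node 1 (.one ⟨10299, 1, 7⟩) (.one ⟨11089, 1, 4⟩)) (.node 1 (.one ⟨4634, 0, 7⟩) (.one ⟨3851, 1, 7⟩))) (.node 2 (.node 1 (.one ⟨10206, 2, 7⟩) (.one ⟨11685, 1, 7⟩)) (.node 1 (.one ⟨7063, 0, 5⟩) (.one ⟨14164, 2, 6⟩)))) (.node 4 (.node 2 (.node 1 (.one ⟨3115, 0, 6⟩) (.one ⟨1068, 1, 9⟩)) (.node 1 (.one ⟨15058, 1, 9⟩) (.one ⟨696, 1, 7⟩))) (.node 2 (.node 1 (.one ⟨958, 0, 8⟩) (.one ⟨2125, 2, 6⟩)) (.node 1 (.one ⟨480, 1, 7⟩) (.one ⟨5101, 2, 5⟩)))))))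
def par7_12_6 : Arr Par :=
  (.node 32 (.node 16 (.node 8 (.node 4 (.node 2 (.node 1 (.one ⟨5414, 2, 7⟩) (.one ⟨13247, 2, 5⟩)) (.node 1 (.one ⟨10568, 1, 7⟩) (.one ⟨6166, 1, 8⟩))) (.node 2 (.node 1 (.one ⟨10126, 2, 4⟩) (.one ⟨7730, 0, 4⟩)) (.node 1 (.one ⟨9471, 0, 4⟩) (.one ⟨15669, 2, 3⟩)))) (.node 4 (.node 2 (.node 1 (.one ⟨3543, 1, 2⟩) (.one ⟨11159, 0, 2⟩)) (.node 1 (.one ⟨7328, 1, 8⟩) (.one ⟨11274, 1, 4⟩))) (.node 2 (.node 1 (.one ⟨643, 0, 4⟩) (.one ⟨4624, 2, 7⟩)) (.node 1 (.one ⟨16428, 2, 4⟩) (.one ⟨6855, 1, 5⟩))))) (.node 8 (.node 4 (.node 2 (.node 1 (.one ⟨16107, 1, 8⟩) (.one ⟨9439, 0, 4⟩)) (.node 1 (.one ⟨12720, 1, 10⟩) (.one ⟨6590, 2, 4⟩))) (.node 2 (.node 1 (.one ⟨9161, 1, 5⟩) (.one ⟨7855, 1, 3⟩)) (.node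 1 (.one ⟨11420, 2, 9⟩) (.one ⟨5074, 0, 6⟩)))) (.node 4 (.node 2 (.node 1 (.one ⟨13776, 1, 4⟩) (.one ⟨11774, 2, 4⟩)) (.node 1 (.one ⟨1325, 0, 8⟩) (.one ⟨15808, 2, 4⟩))) (.node 2 (.node 1 (.one ⟨3768, 0, 2⟩) (.one ⟨10490, 1, 6⟩)) (.node 1 (.one ⟨1873, 1, 5⟩) (.one ⟨5682, 1, 2⟩)))))) (.node 16 (.node 8 (.node 4 (.node 2 (.node 1 (.one ⟨1241, 1, 5⟩) (.one ⟨13855, 2, 8⟩)) (.node 1 (.one ⟨11264, 1, 7⟩) (.one ⟨12012, 2, 2⟩))) (.node 2 (.node 1 (.one ⟨13879, 1, 5⟩) (.one ⟨3141, 1, 7⟩)) (.node 1 (.one ⟨9445, 0, 3⟩) (.one ⟨1317, 0, 3⟩)))) (.node 4 (.node 2 (.node 1 (.one ⟨15163, 2, 6⟩) (.one ⟨16010, 1, 8⟩)) (.node 1 (.one ⟨9578, 1, 3⟩) (.one ⟨14452, 1, 5⟩))) (.node 2 (.node 1 (.one ⟨16320, 0, 1⟩) (.one ⟨4735, 1, 3⟩))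 (.node 1 (.one ⟨6832, 1, 3⟩) (.one ⟨12589, 1, 7⟩))))) (.node 8 (.node 4 (.node 2 (.node 1 (.one ⟨317, 0, 9⟩) (.one ⟨6767, 0, 9⟩)) (.node 1 (.one ⟨15066, 2, 6⟩) (.one ⟨13159, 0, 4⟩))) (.node 2 (.node 1 (.one ⟨2206, 1, 3⟩) (.one ⟨6021, 1, 2⟩)) (.node 1 (.one ⟨1081, 2, 6⟩) (.one ⟨5089, 0, 5⟩)))) (.node 4 (.node 2 (.node 1 (.one ⟨1868, 2, 6⟩) (.one ⟨1309, 1, 3⟩)) (.node 1 (.one ⟨4192, 1, 6⟩) (.one ⟨7824, 2, 4⟩))) (.node 2 (.node 1 (.one ⟨402, 1, 9⟩) (.one ⟨5487, 2, 9⟩)) (.node 1 (.one ⟨10435, 1, 10⟩) (.one ⟨16286, 1, 4⟩)))))))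
def par7_12_7 : Arr Par :=
  (.node 32 (.node 16 (.node 8 (.node 4 (.node 2 (.node 1 (.one ⟨1486, 2, 8⟩) (.one ⟨11586, 2, 3⟩)) (.node 1 (.one ⟨14098, 1, 4⟩) (.one ⟨1463, 2, 6⟩))) (.node 2 (.node 1 (.one ⟨2895, 0, 6⟩) (.one ⟨8240, 1, 4⟩)) (.node 1 (.one ⟨11596, 2, 2⟩) (.one ⟨8588, 2, 6⟩)))) (.node 4 (.node 2 (.node 1 (.one ⟨1047, 2, 3⟩) (.one ⟨6216, 1, 4⟩)) (.node 1 (.one ⟨6308, 1, 4⟩) (.one ⟨8379, 2, 7⟩))) (.node 2 (.node 1 (.one ⟨1886, 2, 4⟩) (.one ⟨7556, 2, 6⟩)) (.node 1 (.one ⟨2413, 0, 8⟩) (.one ⟨4823, 1, 4⟩))))) (.node 8 (.node 4 (.node 2 (.node 1 (.one ⟨5516, 1, 6⟩) (.one ⟨6191, 2, 6⟩)) (.node 1 (.one ⟨14103, 1, 7⟩) (.one ⟨459, 1, 7⟩))) (.node 2 (.node 1 (.one ⟨12529, 2, 3⟩) (.one ⟨16983, 1, 5⟩)) (.node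 1 (.one ⟨16211, 2, 3⟩) (.one ⟨14788, 2, 3⟩)))) (.node 4 (.node 2 (.node 1 (.one ⟨5169, 1, 3⟩) (.one ⟨8269, 2, 9⟩)) (.node 1 (.one ⟨14879, 0, 8⟩) (.one ⟨2394, 1, 7⟩))) (.node 2 (.node 1 (.one ⟨708, 2, 3⟩) (.one ⟨4724, 1, 2⟩)) (.node 1 (.one ⟨13510, 2, 6⟩) (.one ⟨143, 1, 9⟩)))))) (.node 16 (.node 8 (.node 4 (.node 2 (.node 1 (.one ⟨2196, 1, 2⟩) (.one ⟨14698, 0, 2⟩)) (.node 1 (.one ⟨13674, 0, 9⟩) (.one ⟨10597, 1, 3⟩))) (.node 2 (.node 1 (.one ⟨6194, 0, 9⟩) (.one ⟨2583, 2, 9⟩)) (.node 1 (.one ⟨11496, 2, 7⟩) (.one ⟨211, 2, 6⟩)))) (.node 4 (.node 2 (.node 1 (.one ⟨16927, 1, 5⟩) (.one ⟨14287, 1, 5⟩)) (.node 1 (.one ⟨419, 1, 7⟩) (.one ⟨4639, 1, 7⟩))) (.node 2 (.node 1 (.one ⟨16897, 1, 6⟩) (.one ⟨14261, 1, 7⟩)) (.node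 1 (.one ⟨1178, 1, 1⟩) (.one ⟨2418, 2, 6⟩))))) (.node 8 (.node 4 (.node 2 (.node 1 (.one ⟨3023, 0, 3⟩) (.one ⟨8272, 2, 4⟩)) (.node 1 (.one ⟨7726, 1, 2⟩) (.one ⟨3632, 1, 6⟩))) (.node 2 (.node 1 (.one ⟨11284, 1, 2⟩) (.one ⟨13535, 2, 7⟩)) (.node 1 (.one ⟨16887, 1, 10⟩) (.one ⟨15513, 2, 8⟩)))) (.node 4 (.node 2 (.node 1 (.one ⟨9780, 1, 5⟩) (.one ⟨15619, 1, 7⟩)) (.node 1 (.one ⟨12550, 1, 6⟩) (.one ⟨11055, 0, 4⟩))) (.node 2 (.node 1 (.one ⟨7315, 1, 4⟩) (.one ⟨8237, 2, 9⟩)) (.node 1 (.one ⟨8565, 1, 10⟩) (.one ⟨3385, 1, 4⟩)))))))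
def par7_12_8 : Arr Par :=
  (.node 32 (.node 16 (.node 8 (.node 4 (.node 2 (.node 1 (.one ⟨915, 0, 5⟩) (.one ⟨14398, 2, 4⟩)) (.node 1 (.one ⟨3092, 0, 3⟩) (.one ⟨2836, 1, 9⟩))) (.node 2 (.node 1 (.one ⟨4635, 1, 10⟩) (.one ⟨1349, 1, 3⟩)) (.node 1 (.one ⟨14594, 2, 5⟩) (.one ⟨8935, 1, 3⟩)))) (.node 4 (.node 2 (.node 1 (.one ⟨6463, 2, 5⟩) (.one ⟨2238, 0, 7⟩)) (.node 1 (.one ⟨2071, 1, 4⟩) (.one ⟨13808, 0, 5⟩))) (.node 2 (.node 1 (.one ⟨15079, 2, 9⟩) (.one ⟨289, 2, 2⟩)) (.node 1 (.one ⟨14418, 0, 5⟩) (.one ⟨7451, 1, 4⟩))))) (.node 8 (.node 4 (.node 2 (.node 1 (.one ⟨15694, 1, 5⟩) (.one ⟨7611, 1, 8⟩)) (.node 1 (.one ⟨15523, 1, 10⟩) (.one ⟨13356, 1, 5⟩))) (.node 2 (.node 1 (.one ⟨13325, 0, 5⟩) (.one ⟨9285, 1, 3⟩)) (.node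 1 (.one ⟨5243, 1, 4⟩) (.one ⟨16556, 2, 7⟩)))) (.node 4 (.node 2 (.node 1 (.one ⟨5620, 1, 10⟩) (.one ⟨14751, 0, 3⟩)) (.node 1 (.one ⟨9119, 2, 6⟩) (.one ⟨13041, 1, 5⟩))) (.node 2 (.node 1 (.one ⟨6710, 1, 4⟩) (.one ⟨446, 1, 5⟩)) (.node 1 (.one ⟨16118, 1, 7⟩) (.one ⟨2766, 2, 4⟩)))))) (.node 16 (.node 8 (.node 4 (.node 2 (.node 1 (.one ⟨14809, 2, 4⟩) (.one ⟨10043, 2, 7⟩)) (.node 1 (.one ⟨13347, 1, 2⟩) (.one ⟨1817, 0, 2⟩))) (.node 2 (.node 1 (.one ⟨3544, 1, 4⟩) (.one ⟨13627, 2, 4⟩)) (.node 1 (.one ⟨160, 1, 3⟩) (.one ⟨13442, 0, 8⟩)))) (.node 4 (.node 2 (.node 1 (.one ⟨11281, 2, 2⟩) (.one ⟨4237, 1, 4⟩)) (.node 1 (.one ⟨11015, 0, 5⟩) (.one ⟨1051, 1, 3⟩))) (.node 2 (.node 1 (.one ⟨5253, 2, 2⟩) (.one ⟨10025, 0, 8⟩)) (.node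 1 (.one ⟨10794, 2, 2⟩) (.one ⟨12345, 0, 4⟩))))) (.node 8 (.node 4 (.node 2 (.node 1 (.one ⟨15633, 2, 8⟩) (.one ⟨15635, 2, 5⟩)) (.node 1 (.one ⟨6906, 1, 4⟩) (.one ⟨3762, 1, 3⟩))) (.node 2 (.node 1 (.one ⟨14429, 1, 5⟩) (.one ⟨10799, 2, 3⟩)) (.node 1 (.one ⟨13923, 0, 2⟩) (.one ⟨3668, 0, 4⟩)))) (.node 4 (.node 2 (.node 1 (.one ⟨7055, 1, 5⟩) (.one ⟨2108, 2, 6⟩)) (.node 1 (.one ⟨1692, 2, 5⟩) (.one ⟨341, 0, 6⟩))) (.node 2 (.node 1 (.one ⟨10161, 1, 5⟩) (.one ⟨3994, 2, 7⟩)) (.node 1 (.one ⟨2930, 1, 5⟩) (.one ⟨11413, 0, 5⟩)))))))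
def par7_12_9 : Arr Par :=
  (.node 32 (.node 16 (.node 8 (.node 4 (.node 2 (.node 1 (.one ⟨8173, 1, 9⟩) (.one ⟨8172, 1, 4⟩)) (.node 1 (.one ⟨14285, 0, 5⟩) (.one ⟨998, 1, 6⟩))) (.node 2 (.node 1 (.one ⟨10676, 2, 4⟩) (.one ⟨6386, 2, 4⟩)) (.node 1 (.one ⟨728, 1, 5⟩) (.one ⟨5369, 0, 5⟩)))) (.node 4 (.node 2 (.node 1 (.one ⟨13915, 0, 5⟩) (.one ⟨7342, 1, 4⟩)) (.node 1 (.one ⟨4930, 2, 8⟩) (.one ⟨11421, 1, 6⟩))) (.node 2 (.node 1 (.one ⟨4571, 2, 8⟩) (.one ⟨6738, 2, 5⟩)) (.node 1 (.one ⟨3399, 2, 4⟩) (.one ⟨8203, 1, 5⟩))))) (.node 8 (.node 4 (.node 2 (.node 1 (.one ⟨12809, 2, 8⟩) (.one ⟨1836, 1, 8⟩)) (.node 1 (.one ⟨8791, 0, 3⟩) (.one ⟨14634, 1, 5⟩))) (.node 2 (.node 1 (.one ⟨7889, 1, 7⟩) (.one ⟨11779, 1, 8⟩)) (.node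 1 (.one ⟨13879, 0, 5⟩) (.one ⟨2142, 2, 7⟩)))) (.node 4 (.node 2 (.node 1 (.one ⟨8142, 2, 2⟩) (.one ⟨12742, 0, 3⟩)) (.node 1 (.one ⟨893, 2, 7⟩) (.one ⟨2236, 2, 9⟩))) (.node 2 (.node 1 (.one ⟨7876, 2, 5⟩) (.one ⟨2209, 1, 5⟩)) (.node 1 (.one ⟨5980, 0, 6⟩) (.one ⟨8858, 1, 6⟩)))))) (.node 16 (.node 8 (.node 4 (.node 2 (.node 1 (.one ⟨2109, 2, 4⟩) (.one ⟨7376, 1, 4⟩)) (.node 1 (.one ⟨11520, 1, 4⟩) (.one ⟨2004, 0, 7⟩))) (.node 2 (.node 1 (.one ⟨691, 0, 5⟩) (.one ⟨7841, 2, 6⟩)) (.node 1 (.one ⟨3639, 0, 5⟩) (.one ⟨10096, 1, 5⟩)))) (.node 4 (.node 2 (.node 1 (.one ⟨5348, 2, 3⟩) (.one ⟨7454, 2, 7⟩)) (.node 1 (.one ⟨6715, 1, 4⟩) (.one ⟨9636, 1, 7⟩))) (.node 2 (.node 1 (.one ⟨14888, 1, 4⟩) (.one ⟨16376, 0, 7⟩)) (.node 1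 (.one ⟨6879, 1, 8⟩) (.one ⟨16235, 1, 5⟩))))) (.node 8 (.node 4 (.node 2 (.node 1 (.one ⟨12680, 2, 3⟩) (.one ⟨15049, 2, 5⟩)) (.node 1 (.one ⟨5448, 1, 4⟩) (.one ⟨15501, 1, 4⟩))) (.node 2 (.node 1 (.one ⟨13666, 2, 3⟩) (.one ⟨4744, 1, 5⟩)) (.node 1 (.one ⟨2730, 1, 5⟩) (.one ⟨14897, 2, 3⟩)))) (.node 4 (.node 2 (.node 1 (.one ⟨10876, 1, 4⟩) (.one ⟨10273, 0, 6⟩)) (.node 1 (.one ⟨13180, 2, 6⟩) (.one ⟨10831, 0, 4⟩))) (.node 2 (.node 1 (.one ⟨12560, 2, 7⟩) (.one ⟨13824, 2, 6⟩)) (.node 1 (.one ⟨1347, 1, 5⟩) (.one ⟨10399, 1, 3⟩)))))))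
def par7_12_10 : Arr Par :=
  (.node 32 (.node 16 (.node 8 (.node 4 (.node 2 (.node 1 (.one ⟨4938, 1, 5⟩) (.one ⟨3634, 0, 3⟩)) (.node 1 (.one ⟨5593, 0, 7⟩) (.one ⟨7938, 2, 8⟩))) (.node 2 (.node 1 (.one ⟨4486, 1, 8⟩) (.one ⟨17066, 0, 9⟩)) (.node 1 (.one ⟨7910, 2, 9⟩) (.one ⟨4621, 1, 8⟩)))) (.node 4 (.node 2 (.node 1 (.one ⟨8296, 2, 5⟩) (.one ⟨7669, 0, 5⟩)) (.node 1 (.one ⟨6208, 1, 3⟩) (.one ⟨15653, 2, 5⟩))) (.node 2 (.node 1 (.one ⟨10352, 2, 4⟩) (.one ⟨16022, 2, 6⟩)) (.node 1 (.one ⟨4652, 1, 6⟩) (.one ⟨12438, 0, 7⟩))))) (.node 8 (.node 4 (.node 2 (.node 1 (.one ⟨4046, 0, 3⟩) (.one ⟨940, 0, 7⟩)) (.node 1 (.one ⟨11728, 1, 6⟩) (.one ⟨13433, 2, 8⟩))) (.node 2 (.node 1 (.one ⟨6692, 1, 4⟩) (.one ⟨2535, 1, 9⟩)) (.node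 1 (.one ⟨14054, 1, 4⟩) (.one ⟨9855, 2, 5⟩)))) (.node 4 (.node 2 (.node 1 (.one ⟨14823, 2, 8⟩) (.one ⟨14327, 2, 5⟩)) (.node 1 (.one ⟨11279, 2, 3⟩) (.one ⟨15227, 2, 4⟩))) (.node 2 (.node 1 (.one ⟨5347, 0, 8⟩) (.one ⟨10620, 0, 8⟩)) (.node 1 (.one ⟨2827, 0, 4⟩) (.one ⟨10675, 2, 4⟩)))))) (.node 16 (.node 8 (.node 4 (.node 2 (.node 1 (.one ⟨8889, 2, 4⟩) (.one ⟨2373, 0, 9⟩)) (.node 1 (.one ⟨428, 2, 5⟩) (.one ⟨13374, 1, 7⟩))) (.node 2 (.node 1 (.one ⟨13469, 1, 3⟩) (.one ⟨5353, 1, 7⟩)) (.node 1 (.one ⟨11235, 2, 5⟩) (.one ⟨2377, 2, 4⟩)))) (.node 4 (.node 2 (.node 1 (.one ⟨7034, 1, 2⟩) (.one ⟨1804, 2, 6⟩)) (.node 1 (.one ⟨10280, 2, 2⟩) (.one ⟨727, 1, 5⟩))) (.node 2 (.node 1 (.one ⟨7038, 1, 9⟩) (.one ⟨9935, 2, 5⟩)) (.node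 1 (.one ⟨678, 2, 7⟩) (.one ⟨2777, 1, 8⟩))))) (.node 8 (.node 4 (.node 2 (.node 1 (.one ⟨13324, 1, 5⟩) (.one ⟨15383, 1, 3⟩)) (.node 1 (.one ⟨12846, 0, 3⟩) (.one ⟨15722, 2, 3⟩))) (.node 2 (.node 1 (.one ⟨12518, 2, 6⟩) (.one ⟨6254, 2, 3⟩)) (.node 1 (.one ⟨2011, 2, 3⟩) (.one ⟨16226, 1, 1⟩)))) (.node 4 (.node 2 (.node 1 (.one ⟨8764, 2, 8⟩) (.one ⟨12834, 2, 3⟩)) (.node 1 (.one ⟨9764, 2, 5⟩) (.one ⟨2398, 1, 9⟩))) (.node 2 (.node 1 (.one ⟨9284, 1, 1⟩) (.one ⟨13325, 1, 5⟩)) (.node 1 (.one ⟨15679, 0, 6⟩) (.one ⟨7591, 1, 5⟩)))))))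
def par7_12_11 : Arr Par :=
  (.node 32 (.node 16 (.node 8 (.node 4 (.node 2 (.node 1 (.one ⟨15350, 0, 4⟩) (.one ⟨5701, 0, 6⟩)) (.node 1 (.one ⟨14678, 2, 4⟩) (.one ⟨10353, 2, 6⟩))) (.node 2 (.node 1 (.one ⟨10484, 1, 9⟩) (.one ⟨4602, 1, 9⟩)) (.node 1 (.one ⟨9961, 2, 9⟩) (.one ⟨14339, 1, 6⟩)))) (.node 4 (.node 2 (.node 1 (.one ⟨6191, 1, 6⟩) (.one ⟨6256, 1, 3⟩)) (.node 1 (.one ⟨14277, 1, 2⟩) (.one ⟨15261, 1, 3⟩))) (.node 2 (.node 1 (.one ⟨7144, 1, 4⟩) (.one ⟨12551, 0, 1⟩)) (.node 1 (.one ⟨15195, 1, 1⟩) (.one ⟨14109, 1, 9⟩))))) (.node 8 (.node 4 (.node 2 (.node 1 (.one ⟨13494, 2, 5⟩) (.one ⟨5616, 1, 2⟩)) (.node 1 (.one ⟨12964, 2, 4⟩) (.one ⟨2530, 2, 5⟩))) (.node 2 (.node 1 (.one ⟨3596, 0, 8⟩) (.one ⟨1405, 2, 6⟩))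 (.node 1 (.one ⟨13323, 1, 5⟩) (.one ⟨12813, 1, 3⟩)))) (.node 4 (.node 2 (.node 1 (.one ⟨13326, 1, 4⟩) (.one ⟨16395, 0, 1⟩)) (.node 1 (.one ⟨334, 1, 3⟩) (.one ⟨12840, 1, 3⟩))) (.node 2 (.node 1 (.one ⟨1672, 0, 3⟩) (.one ⟨2339, 2, 7⟩)) (.node 1 (.one ⟨1508, 1, 5⟩) (.one ⟨14280, 2, 6⟩)))))) (.node 16 (.node 8 (.node 4 (.node 2 (.node 1 (.one ⟨9575, 1, 4⟩) (.one ⟨10253, 2, 7⟩)) (.node 1 (.one ⟨10247, 2, 6⟩) (.one ⟨3228, 1, 3⟩))) (.node 2 (.node 1 (.one ⟨16914, 0, 3⟩) (.one ⟨14283, 2, 7⟩)) (.node 1 (.one ⟨4569, 1, 8⟩) (.one ⟨3835, 1, 8⟩)))) (.node 4 (.node 2 (.node 1 (.one ⟨13161, 1, 1⟩) (.one ⟨2843, 1, 3⟩)) (.node 1 (.one ⟨10650, 1, 5⟩) (.one ⟨12261, 1, 6⟩))) (.node 2 (.node 1 (.one ⟨4785, 1, 6⟩) (.one ⟨16093,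 2, 6⟩)) (.node 1 (.one ⟨2111, 1, 6⟩) (.one ⟨9941, 2, 5⟩))))) (.node 8 (.node 4 (.node 2 (.node 1 (.one ⟨11725, 0, 9⟩) (.one ⟨8301, 0, 4⟩)) (.node 1 (.one ⟨8383, 2, 9⟩) (.one ⟨15123, 1, 4⟩))) (.node 2 (.node 1 (.one ⟨15612, 2, 3⟩) (.one ⟨4005, 2, 6⟩)) (.node 1 (.one ⟨348, 2, 5⟩) (.one ⟨983, 1, 2⟩)))) (.node 4 (.node 2 (.node 1 (.one ⟨11808, 0, 5⟩) (.one ⟨2922, 0, 5⟩)) (.node 1 (.one ⟨2070, 2, 7⟩) (.one ⟨15001, 0, 6⟩))) (.node 2 (.node 1 (.one ⟨13626, 0, 3⟩) (.one ⟨8436, 0, 4⟩)) (.node 1 (.one ⟨5239, 1, 3⟩) (.one ⟨3504, 0, 6⟩)))))))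
def par7_12_12 : Arr Par :=
  (.node 32 (.node 16 (.node 8 (.node 4 (.node 2 (.node 1 (.one ⟨10682, 1, 3⟩) (.one ⟨1546, 1, 1⟩)) (.node 1 (.one ⟨14312, 1, 6⟩) (.one ⟨6352, 2, 1⟩))) (.node 2 (.node 1 (.one ⟨15628, 0, 6⟩) (.one ⟨6472, 1, 7⟩)) (.node 1 (.one ⟨9961, 1, 9⟩) (.one ⟨3603, 0, 6⟩)))) (.node 4 (.node 2 (.node 1 (.one ⟨7523, 1, 8⟩) (.one ⟨14175, 1, 8⟩)) (.node 1 (.one ⟨274, 0, 4⟩) (.one ⟨6132, 2, 2⟩))) (.node 2 (.node 1 (.one ⟨2434, 0, 6⟩) (.one ⟨3963, 0, 7⟩)) (.node 1 (.one ⟨14311, 0, 5⟩) (.one ⟨15705, 0, 5⟩))))) (.node 8 (.node 4 (.node 2 (.node 1 (.one ⟨684, 1, 8⟩) (.one ⟨15648, 0, 7⟩)) (.node 1 (.one ⟨6133, 2, 2⟩) (.one ⟨4469, 2, 5⟩))) (.node 2 (.node 1 (.one ⟨15167, 1, 3⟩) (.one ⟨9100, 2, 6⟩)) (.node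 1 (.one ⟨15174, 1, 8⟩) (.one ⟨313, 1, 2⟩)))) (.node 4 (.node 2 (.node 1 (.one ⟨3376, 1, 6⟩) (.one ⟨13974, 2, 6⟩)) (.node 1 (.one ⟨908, 1, 4⟩) (.one ⟨916, 1, 5⟩))) (.node 2 (.node 1 (.one ⟨3382, 1, 5⟩) (.one ⟨15987, 2, 7⟩)) (.node 1 (.one ⟨303, 1, 6⟩) (.one ⟨10647, 0, 3⟩)))))) (.node 16 (.node 8 (.node 4 (.node 2 (.node 1 (.one ⟨8035, 0, 5⟩) (.one ⟨16032, 1, 3⟩)) (.node 1 (.one ⟨16241, 0, 9⟩) (.one ⟨10647, 1, 3⟩))) (.node 2 (.node 1 (.one ⟨13176, 2, 6⟩) (.one ⟨15339, 1, 4⟩)) (.node 1 (.one ⟨6280, 2, 4⟩) (.one ⟨14752, 2, 8⟩)))) (.node 4 (.node 2 (.node 1 (.one ⟨12825, 2, 4⟩) (.one ⟨7447, 2, 4⟩)) (.node 1 (.one ⟨5292, 2, 5⟩) (.one ⟨10157, 1, 4⟩))) (.node 2 (.node 1 (.one ⟨10485, 1, 3⟩) (.one ⟨7629, 2, 4⟩)) (.node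 1 (.one ⟨345, 2, 5⟩) (.one ⟨10448, 0, 9⟩))))) (.node 8 (.node 4 (.node 2 (.node 1 (.one ⟨3427, 1, 10⟩) (.one ⟨3430, 1, 6⟩)) (.node 1 (.one ⟨15243, 0, 5⟩) (.one ⟨910, 1, 5⟩))) (.node 2 (.node 1 (.one ⟨736, 1, 3⟩) (.one ⟨11228, 0, 7⟩)) (.node 1 (.one ⟨13412, 2, 4⟩) (.one ⟨7789, 1, 1⟩)))) (.node 4 (.node 2 (.node 1 (.one ⟨6712, 1, 4⟩) (.one ⟨15552, 0, 5⟩)) (.node 1 (.one ⟨12138, 2, 9⟩) (.one ⟨156, 1, 9⟩))) (.node 2 (.node 1 (.one ⟨4587, 1, 4⟩) (.one ⟨100, 2, 5⟩)) (.node 1 (.one ⟨10008, 1, 4⟩) (.one ⟨12449, 2, 4⟩)))))))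
def par7_12_13 : Arr Par :=
  (.node 32 (.node 16 (.node 8 (.node 4 (.node 2 (.node 1 (.one ⟨12370, 1, 5⟩) (.one ⟨1397, 0, 6⟩)) (.node 1 (.one ⟨16679, 1, 6⟩) (.one ⟨7399, 2, 2⟩))) (.node 2 (.node 1 (.one ⟨660, 0, 1⟩) (.one ⟨9969, 0, 4⟩)) (.node 1 (.one ⟨7309, 0, 4⟩) (.one ⟨3141, 2, 7⟩)))) (.node 4 (.node 2 (.node 1 (.one ⟨13278, 2, 7⟩) (.one ⟨10524, 1, 7⟩)) (.node 1 (.one ⟨1377, 0, 5⟩) (.one ⟨11767, 2, 8⟩))) (.node 2 (.node 1 (.one ⟨11444, 1, 6⟩) (.one ⟨6078, 1, 8⟩)) (.node 1 (.one ⟨11637, 2, 3⟩) (.one ⟨1392, 0, 3⟩))))) (.node 8 (.node 4 (.node 2 (.node 1 (.one ⟨15542, 0, 8⟩) (.one ⟨11143, 2, 7⟩)) (.node 1 (.one ⟨630, 1, 4⟩) (.one ⟨752, 2, 7⟩))) (.node 2 (.node 1 (.one ⟨3064, 2, 5⟩) (.one ⟨619, 1, 4⟩)) (.node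 1 (.one ⟨15029, 1, 6⟩) (.one ⟨14291, 1, 8⟩)))) (.node 4 (.node 2 (.node 1 (.one ⟨6576, 0, 5⟩) (.one ⟨11699, 2, 3⟩)) (.node 1 (.one ⟨9833, 1, 4⟩) (.one ⟨9810, 0, 8⟩))) (.node 2 (.node 1 (.one ⟨3355, 0, 4⟩) (.one ⟨11246, 0, 5⟩)) (.node 1 (.one ⟨12861, 1, 8⟩) (.one ⟨12398, 0, 5⟩)))))) (.node 16 (.node 8 (.node 4 (.node 2 (.node 1 (.one ⟨15498, 2, 4⟩) (.one ⟨12729, 1, 4⟩)) (.node 1 (.one ⟨14976, 1, 7⟩) (.one ⟨5747, 2, 4⟩))) (.node 2 (.node 1 (.one ⟨3208, 2, 3⟩) (.one ⟨1165, 1, 5⟩)) (.node 1 (.one ⟨11300, 2, 6⟩) (.one ⟨683, 2, 3⟩)))) (.node 4 (.node 2 (.node 1 (.one ⟨740, 2, 8⟩) (.one ⟨4096, 1, 0⟩)) (.node 1 (.one ⟨715, 2, 7⟩) (.one ⟨234, 2, 5⟩))) (.node 2 (.node 1 (.one ⟨102, 2, 1⟩) (.one ⟨9950, 1, 7⟩)) (.node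 1 (.one ⟨2524, 0, 4⟩) (.one ⟨1831, 2, 4⟩))))) (.node 8 (.node 4 (.node 2 (.node 1 (.one ⟨4282, 1, 3⟩) (.one ⟨16181, 0, 6⟩)) (.node 1 (.one ⟨12352, 1, 2⟩) (.one ⟨15997, 1, 7⟩))) (.node 2 (.node 1 (.one ⟨712, 1, 3⟩) (.one ⟨7950, 1, 5⟩)) (.node 1 (.one ⟨3907, 1, 0⟩) (.one ⟨5000, 1, 5⟩)))) (.node 4 (.node 2 (.node 1 (.one ⟨5178, 1, 5⟩) (.one ⟨6827, 2, 5⟩)) (.node 1 (.one ⟨961, 0, 8⟩) (.one ⟨12838, 2, 4⟩))) (.node 2 (.node 1 (.one ⟨8246, 1, 5⟩) (.one ⟨4283, 1, 4⟩)) (.node 1 (.one ⟨3595, 1, 7⟩) (.one ⟨11854, 1, 4⟩)))))))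
def par7_12_14 : Arr Par :=
  (.node 32 (.node 16 (.node 8 (.node 4 (.node 2 (.node 1 (.one ⟨13966, 2, 8⟩) (.one ⟨3213, 1, 6⟩)) (.node 1 (.one ⟨16427, 1, 6⟩) (.one ⟨8011, 1, 3⟩))) (.node 2 (.node 1 (.one ⟨9437, 0, 1⟩) (.one ⟨5872, 2, 8⟩)) (.node 1 (.one ⟨12510, 0, 6⟩) (.one ⟨5179, 2, 3⟩)))) (.node 4 (.node 2 (.node 1 (.one ⟨1187, 2, 4⟩) (.one ⟨13319, 2, 5⟩)) (.node 1 (.one ⟨9602, 2, 1⟩) (.one ⟨7409, 1, 9⟩))) (.node 2 (.node 1 (.one ⟨6844, 0, 6⟩) (.one ⟨10555, 1, 3⟩)) (.node 1 (.one ⟨456, 0, 2⟩) (.one ⟨2978, 2, 4⟩))))) (.node 8 (.node 4 (.node 2 (.node 1 (.one ⟨736, 0, 3⟩) (.one ⟨948, 0, 7⟩)) (.node 1 (.one ⟨910, 0, 5⟩) (.one ⟨10452, 2, 4⟩))) (.node 2 (.node 1 (.one ⟨12360, 1, 5⟩) (.one ⟨4285, 1, 3⟩)) (.node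 1 (.one ⟨3430, 0, 6⟩) (.one ⟨3480, 1, 3⟩)))) (.node 4 (.node 2 (.node 1 (.one ⟨11103, 1, 8⟩) (.one ⟨4818, 1, 8⟩)) (.node 1 (.one ⟨13280, 1, 6⟩) (.one ⟨11743, 1, 4⟩))) (.node 2 (.node 1 (.one ⟨2196, 0, 2⟩) (.one ⟨10507, 2, 4⟩)) (.node 1 (.one ⟨11763, 2, 4⟩) (.one ⟨3389, 0, 2⟩)))))) (.node 16 (.node 8 (.node 4 (.node 2 (.node 1 (.one ⟨1857, 2, 6⟩) (.one ⟨11373, 1, 4⟩)) (.node 1 (.one ⟨8009, 1, 5⟩) (.one ⟨3387, 0, 9⟩))) (.node 2 (.node 1 (.one ⟨13909, 1, 4⟩) (.one ⟨13701, 2, 5⟩)) (.node 1 (.one ⟨374, 2, 4⟩) (.one ⟨12488, 1, 7⟩)))) (.node 4 (.node 2 (.node 1 (.one ⟨11692, 2, 8⟩) (.one ⟨2537, 1, 4⟩)) (.node 1 (.one ⟨14052, 1, 8⟩) (.one ⟨16914, 1, 3⟩))) (.node 2 (.node 1 (.one ⟨7411, 2, 8⟩) (.one ⟨7458, 1, 9⟩)) (.node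 1 (.one ⟨15645, 0, 8⟩) (.one ⟨8113, 1, 6⟩))))) (.node 8 (.node 4 (.node 2 (.node 1 (.one ⟨7880, 1, 8⟩) (.one ⟨3621, 1, 4⟩)) (.node 1 (.one ⟨14655, 2, 3⟩) (.one ⟨5309, 1, 6⟩))) (.node 2 (.node 1 (.one ⟨3781, 0, 5⟩) (.one ⟨813, 0, 8⟩)) (.node 1 (.one ⟨8992, 1, 3⟩) (.one ⟨14728, 1, 2⟩)))) (.node 4 (.node 2 (.node 1 (.one ⟨12448, 0, 7⟩) (.one ⟨3990, 1, 5⟩)) (.node 1 (.one ⟨10255, 2, 3⟩) (.one ⟨5405, 1, 6⟩))) (.node 2 (.node 1 (.one ⟨12532, 0, 7⟩) (.one ⟨14020, 1, 6⟩)) (.node 1 (.one ⟨3956, 0, 1⟩) (.one ⟨4186, 1, 4⟩)))))))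
def par7_12_15 : Arr Par :=
  (.node 32 (.node 16 (.node 8 (.node 4 (.node 2 (.node 1 (.one ⟨16893, 1, 9⟩) (.one ⟨16880, 1, 6⟩)) (.node 1 (.one ⟨4180, 1, 9⟩) (.one ⟨1229, 2, 4⟩))) (.node 2 (.node 1 (.one ⟨8557, 0, 2⟩) (.one ⟨1305, 2, 1⟩)) (.node 1 (.one ⟨9468, 2, 1⟩) (.one ⟨13973, 2, 4⟩)))) (.node 4 (.node 2 (.node 1 (.one ⟨11640, 1, 4⟩) (.one ⟨12954, 0, 4⟩)) (.node 1 (.one ⟨13481, 2, 1⟩) (.one ⟨16096, 1, 6⟩))) (.node 2 (.node 1 (.one ⟨13477, 1, 3⟩) (.one ⟨10079, 2, 6⟩)) (.node 1 (.one ⟨7446, 1, 8⟩) (.one ⟨11665, 0, 5⟩))))) (.node 8 (.node 4 (.node 2 (.node 1 (.one ⟨15773, 2, 3⟩) (.one ⟨873, 1, 2⟩)) (.node 1 (.one ⟨12474, 2, 4⟩) (.one ⟨830, 1, 4⟩))) (.node 2 (.node 1 (.one ⟨15800, 1, 4⟩) (.one ⟨15804, 1, 7⟩))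 (.node 1 (.one ⟨15771, 2, 6⟩) (.one ⟨3870, 1, 0⟩)))) (.node 4 (.node 2 (.node 1 (.one ⟨2333, 2, 7⟩) (.one ⟨774, 1, 5⟩)) (.node 1 (.one ⟨7264, 1, 9⟩) (.one ⟨810, 1, 3⟩))) (.node 2 (.node 1 (.one ⟨11855, 2, 4⟩) (.one ⟨1063, 2, 7⟩)) (.node 1 (.one ⟨7269, 1, 6⟩) (.one ⟨16910, 1, 3⟩)))))) (.node 16 (.node 8 (.node 4 (.node 2 (.node 1 (.one ⟨5510, 0, 5⟩) (.one ⟨10057, 2, 8⟩)) (.node 1 (.one ⟨14478, 1, 6⟩) (.one ⟨11794, 2, 2⟩))) (.node 2 (.node 1 (.one ⟨13440, 2, 6⟩) (.one ⟨16815, 2, 7⟩)) (.node 1 (.one ⟨15672, 2, 8⟩) (.one ⟨2855, 1, 5⟩)))) (.node 4 (.node 2 (.node 1 (.one ⟨14813, 2, 6⟩) (.one ⟨14354, 2, 7⟩)) (.node 1 (.one ⟨7100, 1, 10⟩) (.one ⟨15293, 1, 9⟩))) (.node 2 (.node 1 (.one ⟨10415, 0, 4⟩) (.one ⟨3321, 2,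 6⟩)) (.node 1 (.one ⟨10850, 1, 9⟩) (.one ⟨7631, 1, 6⟩))))) (.node 8 (.node 4 (.node 2 (.node 1 (.one ⟨3559, 1, 5⟩) (.one ⟨16201, 1, 6⟩)) (.node 1 (.one ⟨465, 2, 9⟩) (.one ⟨8398, 1, 3⟩))) (.node 2 (.node 1 (.one ⟨4789, 1, 6⟩) (.one ⟨5831, 2, 3⟩)) (.node 1 (.one ⟨13164, 1, 2⟩) (.one ⟨10158, 2, 6⟩)))) (.node 4 (.node 2 (.node 1 (.one ⟨3973, 1, 0⟩) (.one ⟨12681, 1, 3⟩)) (.node 1 (.one ⟨13665, 0, 9⟩) (.one ⟨9764, 1, 5⟩))) (.node 2 (.node 1 (.one ⟨16038, 1, 3⟩) (.one ⟨15530, 2, 8⟩)) (.node 1 (.one ⟨2949, 2, 6⟩) (.one ⟨16152, 1, 3⟩)))))))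
def par7_12 : Arr Par :=
  (.node 512 (.node 256 (.node 128 (.node 64 par7_12_0 par7_12_1) (.node 64 par7_12_2 par7_12_3)) (.node 128 (.node 64 par7_12_4 par7_12_5) (.node 64 par7_12_6 par7_12_7))) (.node 256 (.node 128 (.node 64 par7_12_8 par7_12_9) (.node 64 par7_12_10 par7_12_11)) (.node 128 (.node 64 par7_12_12 par7_12_13) (.node 64 par7_12_14 par7_12_15))))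
def par7_13_0 : Arr Par :=
  (.node 32 (.node 16 (.node 8 (.node 4 (.node 2 (.node 1 (.one ⟨16123, 1, 7⟩) (.one ⟨8728, 1, 7⟩)) (.node 1 (.one ⟨5811, 0, 8⟩) (.one ⟨16769, 1, 8⟩))) (.node 2 (.node 1 (.one ⟨4799, 2, 4⟩) (.one ⟨11307, 0, 7⟩)) (.node 1 (.one ⟨13586, 0, 3⟩) (.one ⟨12711, 1, 4⟩)))) (.node 4 (.node 2 (.node 1 (.one ⟨2063, 1, 8⟩) (.one ⟨7377, 2, 4⟩)) (.node 1 (.one ⟨16106, 0, 6⟩) (.one ⟨8247, 1, 4⟩))) (.node 2 (.node 1 (.one ⟨15408, 1, 4⟩) (.one ⟨10232, 2, 4⟩)) (.node 1 (.one ⟨3480, 2, 3⟩) (.one ⟨12311, 0, 3⟩))))) (.node 8 (.node 4 (.node 2 (.node 1 (.one ⟨3271, 2, 1⟩) (.one ⟨7944, 2, 2⟩)) (.node 1 (.one ⟨6899, 2, 2⟩) (.one ⟨4752, 1, 7⟩))) (.node 2 (.node 1 (.one ⟨15995, 2, 3⟩) (.one ⟨11316, 2, 4⟩))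 (.node 1 (.one ⟨9286, 1, 5⟩) (.one ⟨15276, 1, 9⟩)))) (.node 4 (.node 2 (.node 1 (.one ⟨7484, 2, 3⟩) (.one ⟨15245, 1, 5⟩)) (.node 1 (.one ⟨7133, 1, 5⟩) (.one ⟨10305, 2, 3⟩))) (.node 2 (.node 1 (.one ⟨7194, 1, 5⟩) (.one ⟨15207, 1, 6⟩)) (.node 1 (.one ⟨7164, 1, 5⟩) (.one ⟨7200, 0, 6⟩)))))) (.node 16 (.node 8 (.node 4 (.node 2 (.node 1 (.one ⟨5234, 1, 3⟩) (.one ⟨891, 1, 1⟩)) (.node 1 (.one ⟨2167, 2, 3⟩) (.one ⟨891, 0, 1⟩))) (.node 2 (.node 1 (.one ⟨5200, 1, 9⟩) (.one ⟨17190, 2, 3⟩)) (.node 1 (.one ⟨16686, 0, 4⟩) (.one ⟨10386, 2, 4⟩)))) (.node 4 (.node 2 (.node 1 (.one ⟨3338, 1, 6⟩) (.one ⟨15009, 2, 8⟩)) (.node 1 (.one ⟨6304, 2, 7⟩) (.one ⟨14792, 1, 7⟩))) (.node 2 (.node 1 (.one ⟨8351, 2, 4⟩) (.one ⟨12298, 2, 4⟩))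 (.node 1 (.one ⟨14324, 1, 4⟩) (.one ⟨14214, 0, 5⟩))))) (.node 8 (.node 4 (.node 2 (.node 1 (.one ⟨3890, 0, 6⟩) (.one ⟨12593, 1, 6⟩)) (.node 1 (.one ⟨8737, 1, 7⟩) (.one ⟨2555, 1, 6⟩))) (.node 2 (.node 1 (.one ⟨12394, 0, 9⟩) (.one ⟨973, 1, 7⟩)) (.node 1 (.one ⟨2706, 0, 8⟩) (.one ⟨12101, 0, 8⟩)))) (.node 4 (.node 2 (.node 1 (.one ⟨12100, 0, 4⟩) (.one ⟨8836, 2, 3⟩)) (.node 1 (.one ⟨10405, 2, 5⟩) (.one ⟨2557, 1, 4⟩))) (.node 2 (.node 1 (.one ⟨2807, 1, 2⟩) (.one ⟨10227, 2, 6⟩)) (.node 1 (.one ⟨12095, 0, 6⟩) (.one ⟨11105, 0, 8⟩)))))))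
def par7_13_1 : Arr Par :=
  (.node 32 (.node 16 (.node 8 (.node 4 (.node 2 (.node 1 (.one ⟨4127, 2, 9⟩) (.one ⟨13175, 2, 6⟩)) (.node 1 (.one ⟨5565, 0, 4⟩) (.one ⟨5315, 0, 3⟩))) (.node 2 (.node 1 (.one ⟨13780, 2, 8⟩) (.one ⟨10652, 0, 8⟩)) (.node 1 (.one ⟨16266, 0, 8⟩) (.one ⟨10213, 2, 4⟩)))) (.node 4 (.node 2 (.node 1 (.one ⟨5994, 2, 6⟩) (.one ⟨3352, 2, 5⟩)) (.node 1 (.one ⟨15323, 1, 5⟩) (.one ⟨12847, 1, 5⟩))) (.node 2 (.node 1 (.one ⟨5476, 2, 6⟩) (.one ⟨14392, 0, 1⟩)) (.node 1 (.one ⟨11658, 2, 4⟩) (.one ⟨13815, 2, 4⟩))))) (.node 8 (.node 4 (.node 2 (.node 1 (.one ⟨12740, 1, 7⟩) (.one ⟨11415, 2, 7⟩)) (.node 1 (.one ⟨9166, 1, 3⟩) (.one ⟨6861, 1, 7⟩))) (.node 2 (.node 1 (.one ⟨2341, 2, 1⟩) (.one ⟨7875, 1, 9⟩))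 (.node 1 (.one ⟨8384, 1, 7⟩) (.one ⟨1301, 2, 5⟩)))) (.node 4 (.node 2 (.node 1 (.one ⟨5215, 2, 6⟩) (.one ⟨15569, 0, 5⟩)) (.node 1 (.one ⟨7442, 1, 5⟩) (.one ⟨5293, 0, 4⟩))) (.node 2 (.node 1 (.one ⟨1567, 2, 4⟩) (.one ⟨5870, 1, 4⟩)) (.node 1 (.one ⟨3399, 1, 4⟩) (.one ⟨12559, 1, 6⟩)))))) (.node 16 (.node 8 (.node 4 (.node 2 (.node 1 (.one ⟨16712, 0, 2⟩) (.one ⟨3118, 2, 3⟩)) (.node 1 (.one ⟨1377, 2, 5⟩) (.one ⟨6579, 0, 4⟩))) (.node 2 (.node 1 (.one ⟨16855, 1, 3⟩) (.one ⟨9141, 2, 5⟩)) (.node 1 (.one ⟨11111, 2, 6⟩) (.one ⟨3007, 0, 2⟩)))) (.node 4 (.node 2 (.node 1 (.one ⟨7779, 2, 4⟩) (.one ⟨6007, 1, 5⟩)) (.node 1 (.one ⟨16021, 1, 6⟩) (.one ⟨11940, 0, 4⟩))) (.node 2 (.node 1 (.one ⟨7844, 2, 5⟩) (.one ⟨16652, 1, 5⟩))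 (.node 1 (.one ⟨9541, 2, 1⟩) (.one ⟨15238, 1, 3⟩))))) (.node 8 (.node 4 (.node 2 (.node 1 (.one ⟨757, 1, 6⟩) (.one ⟨296, 1, 5⟩)) (.node 1 (.one ⟨15233, 1, 9⟩) (.one ⟨7233, 2, 2⟩))) (.node 2 (.node 1 (.one ⟨4311, 2, 6⟩) (.one ⟨7931, 0, 3⟩)) (.node 1 (.one ⟨763, 1, 7⟩) (.one ⟨572, 0, 4⟩)))) (.node 4 (.node 2 (.node 1 (.one ⟨8314, 2, 7⟩) (.one ⟨15326, 1, 7⟩)) (.node 1 (.one ⟨3273, 1, 4⟩) (.one ⟨10404, 0, 7⟩))) (.node 2 (.node 1 (.one ⟨5849, 1, 8⟩) (.one ⟨7332, 1, 3⟩)) (.node 1 (.one ⟨11378, 1, 8⟩) (.one ⟨7416, 0, 6⟩)))))))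
def par7_13_2 : Arr Par :=
  (.node 32 (.node 16 (.node 8 (.node 4 (.node 2 (.node 1 (.one ⟨8007, 0, 5⟩) (.one ⟨13083, 2, 6⟩)) (.node 1 (.one ⟨16163, 2, 7⟩) (.one ⟨6959, 0, 7⟩))) (.node 2 (.node 1 (.one ⟨277, 1, 8⟩) (.one ⟨3408, 1, 3⟩)) (.node 1 (.one ⟨4631, 2, 6⟩) (.one ⟨15423, 2, 5⟩)))) (.node 4 (.node 2 (.node 1 (.one ⟨15322, 1, 5⟩) (.one ⟨5202, 1, 7⟩)) (.node 1 (.one ⟨9997, 1, 8⟩) (.one ⟨13753, 0, 2⟩))) (.node 2 (.node 1 (.one ⟨8556, 1, 6⟩) (.one ⟨11093, 1, 4⟩)) (.node 1 (.one ⟨3904, 1, 6⟩) (.one ⟨9964, 1, 5⟩))))) (.node 8 (.node 4 (.node 2 (.node 1 (.one ⟨10492, 1, 6⟩) (.one ⟨15440, 2, 7⟩)) (.node 1 (.one ⟨3868, 2, 7⟩) (.one ⟨14845, 1, 6⟩))) (.node 2 (.node 1 (.one ⟨12141, 0, 4⟩) (.one ⟨16437, 0, 6⟩))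 (.node 1 (.one ⟨17168, 0, 5⟩) (.one ⟨7474, 0, 4⟩)))) (.node 4 (.node 2 (.node 1 (.one ⟨5684, 1, 6⟩) (.one ⟨10422, 1, 4⟩)) (.node 1 (.one ⟨12546, 2, 7⟩) (.one ⟨14603, 1, 9⟩))) (.node 2 (.node 1 (.one ⟨16281, 2, 7⟩) (.one ⟨6133, 1, 2⟩)) (.node 1 (.one ⟨1922, 1, 7⟩) (.one ⟨17167, 2, 6⟩)))))) (.node 16 (.node 8 (.node 4 (.node 2 (.node 1 (.one ⟨7110, 1, 6⟩) (.one ⟨4202, 0, 7⟩)) (.node 1 (.one ⟨5784, 1, 2⟩) (.one ⟨3954, 0, 7⟩))) (.node 2 (.node 1 (.one ⟨6477, 1, 6⟩) (.one ⟨9251, 1, 2⟩)) (.node 1 (.one ⟨6995, 1, 7⟩) (.one ⟨12335, 1, 6⟩)))) (.node 4 (.node 2 (.node 1 (.one ⟨6424, 1, 6⟩) (.one ⟨4038, 1, 0⟩)) (.node 1 (.one ⟨9670, 1, 3⟩) (.one ⟨5584, 1, 4⟩))) (.node 2 (.node 1 (.one ⟨11841, 1, 4⟩) (.one ⟨10421, 1, 8⟩))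 (.node 1 (.one ⟨8285, 1, 5⟩) (.one ⟨5505, 1, 7⟩))))) (.node 8 (.node 4 (.node 2 (.node 1 (.one ⟨11217, 2, 8⟩) (.one ⟨12564, 1, 9⟩)) (.node 1 (.one ⟨9286, 0, 5⟩) (.one ⟨5488, 1, 3⟩))) (.node 2 (.node 1 (.one ⟨14436, 2, 8⟩) (.one ⟨12580, 1, 7⟩)) (.node 1 (.one ⟨5519, 1, 4⟩) (.one ⟨6949, 1, 5⟩)))) (.node 4 (.node 2 (.node 1 (.one ⟨6144, 2, 6⟩) (.one ⟨1581, 2, 7⟩)) (.node 1 (.one ⟨13302, 2, 3⟩) (.one ⟨12555, 0, 6⟩))) (.node 2 (.node 1 (.one ⟨16965, 1, 4⟩) (.one ⟨5365, 2, 4⟩)) (.node 1 (.one ⟨10157, 2, 4⟩) (.one ⟨2990, 2, 4⟩)))))))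
def par7_13_3 : Arr Par :=
  (.node 32 (.node 16 (.node 8 (.node 4 (.node 2 (.node 1 (.one ⟨13242, 0, 4⟩) (.one ⟨9285, 0, 3⟩)) (.node 1 (.one ⟨316, 0, 7⟩) (.one ⟨89, 1, 2⟩))) (.node 2 (.node 1 (.one ⟨2989, 2, 8⟩) (.one ⟨680, 1, 5⟩)) (.node 1 (.one ⟨7442, 0, 5⟩) (.one ⟨7023, 0, 2⟩)))) (.node 4 (.node 2 (.node 1 (.one ⟨5176, 1, 5⟩) (.one ⟨9138, 2, 1⟩)) (.node 1 (.one ⟨6666, 1, 7⟩) (.one ⟨9321, 0, 2⟩))) (.node 2 (.node 1 (.one ⟨8399, 2, 5⟩) (.one ⟨16181, 1, 6⟩)) (.node 1 (.one ⟨673, 1, 5⟩) (.one ⟨2574, 1, 5⟩))))) (.node 8 (.node 4 (.node 2 (.node 1 (.one ⟨11040, 2, 4⟩) (.one ⟨3565, 0, 8⟩)) (.node 1 (.one ⟨4248, 1, 5⟩) (.one ⟨3477, 0, 8⟩))) (.node 2 (.node 1 (.one ⟨3001, 2, 8⟩) (.one ⟨12636, 0, 7⟩)) (.node 1 (.one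 ⟨6702, 1, 3⟩) (.one ⟨3508, 1, 3⟩)))) (.node 4 (.node 2 (.node 1 (.one ⟨6643, 0, 5⟩) (.one ⟨7001, 2, 5⟩)) (.node 1 (.one ⟨6899, 1, 2⟩) (.one ⟨8658, 1, 3⟩))) (.node 2 (.node 1 (.one ⟨2858, 2, 3⟩) (.one ⟨15999, 1, 7⟩)) (.node 1 (.one ⟨10974, 2, 8⟩) (.one ⟨14683, 1, 6⟩)))))) (.node 16 (.node 8 (.node 4 (.node 2 (.node 1 (.one ⟨7520, 2, 5⟩) (.one ⟨7539, 1, 3⟩)) (.node 1 (.one ⟨8676, 1, 5⟩) (.one ⟨3544, 0, 4⟩))) (.node 2 (.node 1 (.one ⟨7412, 2, 4⟩) (.one ⟨4139, 1, 5⟩)) (.node 1 (.one ⟨2044, 2, 4⟩) (.one ⟨11825, 1, 5⟩)))) (.node 4 (.node 2 (.node 1 (.one ⟨2364, 0, 4⟩) (.one ⟨8862, 2, 3⟩)) (.node 1 (.one ⟨6688, 0, 5⟩) (.one ⟨9284, 0, 1⟩))) (.node 2 (.node 1 (.one ⟨1509, 1, 5⟩) (.one ⟨11864, 1, 6⟩)) (.node 1 (.one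 ⟨2388, 1, 5⟩) (.one ⟨2612, 2, 5⟩))))) (.node 8 (.node 4 (.node 2 (.node 1 (.one ⟨5377, 2, 6⟩) (.one ⟨3432, 1, 6⟩)) (.node 1 (.one ⟨10228, 1, 9⟩) (.one ⟨11226, 1, 8⟩))) (.node 2 (.node 1 (.one ⟨14505, 2, 2⟩) (.one ⟨13400, 0, 7⟩)) (.node 1 (.one ⟨3216, 0, 5⟩) (.one ⟨10200, 2, 9⟩)))) (.node 4 (.node 2 (.node 1 (.one ⟨2041, 2, 6⟩) (.one ⟨4601, 1, 3⟩)) (.node 1 (.one ⟨11191, 1, 4⟩) (.one ⟨14408, 1, 6⟩))) (.node 2 (.node 1 (.one ⟨7824, 1, 4⟩) (.one ⟨1191, 0, 1⟩)) (.node 1 (.one ⟨14975, 1, 7⟩) (.one ⟨655, 2, 5⟩)))))))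
def par7_13_4 : Arr Par :=
  (.node 32 (.node 16 (.node 8 (.node 4 (.node 2 (.node 1 (.one ⟨940, 1, 7⟩) (.one ⟨6579, 1, 4⟩)) (.node 1 (.one ⟨12624, 2, 4⟩) (.one ⟨7698, 2, 5⟩))) (.node 2 (.node 1 (.one ⟨9892, 2, 2⟩) (.one ⟨10239, 1, 4⟩)) (.node 1 (.one ⟨14757, 2, 4⟩) (.one ⟨2048, 1, 4⟩)))) (.node 4 (.node 2 (.node 1 (.one ⟨10104, 1, 5⟩) (.one ⟨7887, 0, 5⟩)) (.node 1 (.one ⟨14973, 1, 7⟩) (.one ⟨6707, 1, 2⟩))) (.node 2 (.node 1 (.one ⟨14798, 1, 5⟩) (.one ⟨12981, 0, 4⟩)) (.node 1 (.one ⟨9216, 1, 2⟩) (.one ⟨3194, 0, 2⟩))))) (.node 8 (.node 4 (.node 2 (.node 1 (.one ⟨13786, 1, 5⟩) (.one ⟨5862, 2, 4⟩)) (.node 1 (.one ⟨10605, 2, 2⟩) (.one ⟨6227, 1, 5⟩))) (.node 2 (.node 1 (.one ⟨11757, 2, 8⟩) (.one ⟨1289, 0, 3⟩)) (.node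 1 (.one ⟨11405, 2, 7⟩) (.one ⟨7356, 2, 3⟩)))) (.node 4 (.node 2 (.node 1 (.one ⟨14694, 2, 7⟩) (.one ⟨14779, 1, 6⟩)) (.node 1 (.one ⟨6823, 2, 4⟩) (.one ⟨13625, 1, 7⟩))) (.node 2 (.node 1 (.one ⟨2739, 1, 9⟩) (.one ⟨13013, 1, 7⟩)) (.node 1 (.one ⟨2170, 2, 5⟩) (.one ⟨10312, 1, 4⟩)))))) (.node 16 (.node 8 (.node 4 (.node 2 (.node 1 (.one ⟨16713, 0, 3⟩) (.one ⟨7377, 1, 4⟩)) (.node 1 (.one ⟨4184, 1, 0⟩) (.one ⟨7424, 2, 6⟩))) (.node 2 (.node 1 (.one ⟨14701, 0, 3⟩) (.one ⟨12201, 0, 3⟩)) (.node 1 (.one ⟨11695, 1, 10⟩) (.one ⟨1015, 0, 4⟩)))) (.node 4 (.node 2 (.node 1 (.one ⟨5416, 0, 9⟩) (.one ⟨3692, 0, 9⟩)) (.node 1 (.one ⟨14679, 2, 7⟩) (.one ⟨9836, 1, 4⟩))) (.node 2 (.node 1 (.one ⟨15042, 1, 8⟩) (.one ⟨15312, 1, 8⟩))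 (.node 1 (.one ⟨10666, 1, 4⟩) (.one ⟨10266, 1, 3⟩))))) (.node 8 (.node 4 (.node 2 (.node 1 (.one ⟨7633, 1, 2⟩) (.one ⟨8449, 0, 6⟩)) (.node 1 (.one ⟨16200, 1, 8⟩) (.one ⟨9680, 2, 5⟩))) (.node 2 (.node 1 (.one ⟨12257, 1, 8⟩) (.one ⟨8103, 2, 8⟩)) (.node 1 (.one ⟨3832, 1, 7⟩) (.one ⟨12237, 0, 4⟩)))) (.node 4 (.node 2 (.node 1 (.one ⟨5660, 1, 8⟩) (.one ⟨8626, 0, 6⟩)) (.node 1 (.one ⟨14277, 2, 2⟩) (.one ⟨9373, 1, 3⟩))) (.node 2 (.node 1 (.one ⟨4033, 1, 0⟩) (.one ⟨12140, 1, 3⟩)) (.node 1 (.one ⟨16172, 1, 2⟩) (.one ⟨2425, 1, 2⟩)))))))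
def par7_13_5 : Arr Par :=
  (.node 32 (.node 16 (.node 8 (.node 4 (.node 2 (.node 1 (.one ⟨224, 1, 4⟩) (.one ⟨5631, 2, 8⟩)) (.node 1 (.one ⟨2430, 1, 7⟩) (.one ⟨9522, 2, 7⟩))) (.node 2 (.node 1 (.one ⟨2428, 1, 7⟩) (.one ⟨2423, 1, 6⟩)) (.node 1 (.one ⟨331, 1, 3⟩) (.one ⟨3848, 2, 3⟩)))) (.node 4 (.node 2 (.node 1 (.one ⟨8493, 0, 7⟩) (.one ⟨11782, 2, 6⟩)) (.node 1 (.one ⟨2586, 2, 7⟩) (.one ⟨15326, 0, 7⟩))) (.node 2 (.node 1 (.one ⟨3223, 2, 7⟩) (.one ⟨4842, 2, 6⟩)) (.node 1 (.one ⟨12031, 0, 7⟩) (.one ⟨13811, 1, 3⟩))))) (.node 8 (.node 4 (.node 2 (.node 1 (.one ⟨5690, 1, 3⟩) (.one ⟨14839, 1, 1⟩)) (.node 1 (.one ⟨8693, 0, 1⟩) (.one ⟨5787, 1, 8⟩))) (.node 2 (.node 1 (.one ⟨11121, 2, 8⟩) (.one ⟨6822, 1, 1⟩)) (.node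 1 (.one ⟨14807, 1, 1⟩) (.one ⟨15357, 0, 5⟩)))) (.node 4 (.node 2 (.node 1 (.one ⟨13767, 2, 6⟩) (.one ⟨8465, 0, 3⟩)) (.node 1 (.one ⟨10521, 1, 8⟩) (.one ⟨7475, 1, 4⟩))) (.node 2 (.node 1 (.one ⟨10619, 2, 3⟩) (.one ⟨11473, 1, 4⟩)) (.node 1 (.one ⟨11953, 0, 5⟩) (.one ⟨16060, 2, 6⟩)))))) (.node 16 (.node 8 (.node 4 (.node 2 (.node 1 (.one ⟨13345, 1, 2⟩) (.one ⟨12617, 2, 8⟩)) (.node 1 (.one ⟨13253, 1, 2⟩) (.one ⟨8439, 0, 2⟩))) (.node 2 (.node 1 (.one ⟨13142, 1, 7⟩) (.one ⟨1502, 1, 3⟩)) (.node 1 (.one ⟨10568, 2, 7⟩) (.one ⟨14647, 2, 6⟩)))) (.node 4 (.node 2 (.node 1 (.one ⟨9836, 2, 4⟩) (.one ⟨4917, 0, 9⟩)) (.node 1 (.one ⟨6819, 2, 8⟩) (.one ⟨3277, 2, 5⟩))) (.node 2 (.node 1 (.one ⟨6265, 0, 5⟩) (.one ⟨14396, 2, 4⟩))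 (.node 1 (.one ⟨9078, 1, 7⟩) (.one ⟨8963, 1, 6⟩))))) (.node 8 (.node 4 (.node 2 (.node 1 (.one ⟨15399, 1, 4⟩) (.one ⟨16683, 2, 4⟩)) (.node 1 (.one ⟨13339, 1, 4⟩) (.one ⟨14223, 1, 5⟩))) (.node 2 (.node 1 (.one ⟨7859, 1, 3⟩) (.one ⟨11796, 1, 4⟩)) (.node 1 (.one ⟨16064, 2, 6⟩) (.one ⟨11812, 1, 7⟩)))) (.node 4 (.node 2 (.node 1 (.one ⟨14340, 1, 3⟩) (.one ⟨7216, 2, 7⟩)) (.node 1 (.one ⟨4498, 2, 5⟩) (.one ⟨3768, 1, 2⟩))) (.node 2 (.node 1 (.one ⟨6413, 1, 6⟩) (.one ⟨8801, 1, 6⟩)) (.node 1 (.one ⟨2931, 1, 2⟩) (.one ⟨1087, 1, 5⟩)))))))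
def par7_13_6 : Arr Par :=
  (.node 32 (.node 16 (.node 8 (.node 4 (.node 2 (.node 1 (.one ⟨10937, 2, 6⟩) (.one ⟨1172, 1, 4⟩)) (.node 1 (.one ⟨16803, 0, 7⟩) (.one ⟨4148, 2, 4⟩))) (.node 2 (.node 1 (.one ⟨8522, 1, 4⟩) (.one ⟨4256, 1, 4⟩)) (.node 1 (.one ⟨8550, 1, 4⟩) (.one ⟨10127, 2, 5⟩)))) (.node 4 (.node 2 (.node 1 (.one ⟨8271, 2, 1⟩) (.one ⟨16134, 1, 7⟩)) (.node 1 (.one ⟨5965, 0, 3⟩) (.one ⟨8107, 1, 4⟩))) (.node 2 (.node 1 (.one ⟨16282, 2, 5⟩) (.one ⟨5736, 2, 4⟩)) (.node 1 (.one ⟨5806, 0, 6⟩) (.one ⟨16231, 1, 3⟩))))) (.node 8 (.node 4 (.node 2 (.node 1 (.one ⟨14337, 1, 5⟩) (.one ⟨16444, 0, 3⟩)) (.node 1 (.one ⟨10430, 1, 8⟩) (.one ⟨15671, 1, 6⟩))) (.node 2 (.node 1 (.one ⟨13794, 1, 8⟩) (.one ⟨11614, 1, 3⟩))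 (.node 1 (.one ⟨8310, 0, 8⟩) (.one ⟨15069, 1, 4⟩)))) (.node 4 (.node 2 (.node 1 (.one ⟨1016, 2, 6⟩) (.one ⟨14740, 1, 7⟩)) (.node 1 (.one ⟨8920, 1, 9⟩) (.one ⟨16549, 0, 6⟩))) (.node 2 (.node 1 (.one ⟨1149, 1, 6⟩) (.one ⟨12238, 1, 6⟩)) (.node 1 (.one ⟨14045, 0, 6⟩) (.one ⟨596, 1, 4⟩)))))) (.node 16 (.node 8 (.node 4 (.node 2 (.node 1 (.one ⟨8519, 1, 5⟩) (.one ⟨7554, 1, 6⟩)) (.node 1 (.one ⟨12970, 0, 3⟩) (.one ⟨11899, 1, 7⟩))) (.node 2 (.node 1 (.one ⟨5991, 2, 4⟩) (.one ⟨17055, 0, 4⟩)) (.node 1 (.one ⟨10795, 1, 2⟩) (.one ⟨3525, 1, 7⟩)))) (.node 4 (.node 2 (.node 1 (.one ⟨8981, 2, 7⟩) (.one ⟨12876, 0, 9⟩)) (.node 1 (.one ⟨15855, 1, 7⟩) (.one ⟨7476, 0, 4⟩))) (.node 2 (.node 1 (.one ⟨10083, 2, 8⟩) (.one ⟨5954, 0,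 4⟩)) (.node 1 (.one ⟨11179, 0, 9⟩) (.one ⟨16070, 2, 4⟩))))) (.node 8 (.node 4 (.node 2 (.node 1 (.one ⟨7566, 2, 3⟩) (.one ⟨612, 2, 3⟩)) (.node 1 (.one ⟨13243, 2, 7⟩) (.one ⟨6632, 0, 4⟩))) (.node 2 (.node 1 (.one ⟨4374, 2, 3⟩) (.one ⟨8412, 2, 4⟩)) (.node 1 (.one ⟨11231, 1, 8⟩) (.one ⟨15895, 1, 6⟩)))) (.node 4 (.node 2 (.node 1 (.one ⟨999, 1, 7⟩) (.one ⟨10196, 2, 1⟩)) (.node 1 (.one ⟨1141, 0, 4⟩) (.one ⟨4185, 2, 5⟩))) (.node 2 (.node 1 (.one ⟨17058, 2, 7⟩) (.one ⟨16301, 1, 4⟩)) (.node 1 (.one ⟨10610, 2, 4⟩) (.one ⟨13260, 2, 4⟩)))))))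
def par7_13_7 : Arr Par :=
  (.node 32 (.node 16 (.node 8 (.node 4 (.node 2 (.node 1 (.one ⟨2703, 1, 8⟩) (.one ⟨3204, 1, 6⟩)) (.node 1 (.one ⟨11106, 1, 7⟩) (.one ⟨10748, 1, 6⟩))) (.node 2 (.node 1 (.one ⟨16099, 2, 4⟩) (.one ⟨1851, 2, 4⟩)) (.node 1 (.one ⟨13553, 2, 7⟩) (.one ⟨15706, 1, 5⟩)))) (.node 4 (.node 2 (.node 1 (.one ⟨10187, 1, 7⟩) (.one ⟨2090, 1, 7⟩)) (.node 1 (.one ⟨7683, 1, 3⟩) (.one ⟨9744, 1, 6⟩))) (.node 2 (.node 1 (.one ⟨4355, 2, 4⟩) (.one ⟨131, 2, 8⟩)) (.node 1 (.one ⟨982, 1, 7⟩) (.one ⟨12027, 0, 5⟩))))) (.node 8 (.node 4 (.node 2 (.node 1 (.one ⟨10449, 0, 3⟩) (.one ⟨1839, 1, 7⟩)) (.node 1 (.one ⟨9976, 1, 7⟩) (.one ⟨1691, 1, 9⟩))) (.node 2 (.node 1 (.one ⟨9524, 1, 7⟩) (.one ⟨10268, 1, 5⟩)) (.node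 1 (.one ⟨11705, 0, 4⟩) (.one ⟨8130, 2, 4⟩)))) (.node 4 (.node 2 (.node 1 (.one ⟨9658, 2, 5⟩) (.one ⟨787, 0, 9⟩)) (.node 1 (.one ⟨1420, 0, 4⟩) (.one ⟨7050, 0, 6⟩))) (.node 2 (.node 1 (.one ⟨5980, 1, 6⟩) (.one ⟨10935, 0, 8⟩)) (.node 1 (.one ⟨13190, 1, 7⟩) (.one ⟨16237, 2, 3⟩)))))) (.node 16 (.node 8 (.node 4 (.node 2 (.node 1 (.one ⟨3442, 2, 8⟩) (.one ⟨9545, 0, 4⟩)) (.node 1 (.one ⟨8092, 0, 7⟩) (.one ⟨13880, 0, 4⟩))) (.node 2 (.node 1 (.one ⟨3649, 0, 5⟩) (.one ⟨11737, 0, 4⟩)) (.node 1 (.one ⟨9672, 2, 6⟩) (.one ⟨9566, 0, 1⟩)))) (.node 4 (.node 2 (.node 1 (.one ⟨10016, 2, 3⟩) (.one ⟨10972, 0, 8⟩)) (.node 1 (.one ⟨7069, 2, 3⟩) (.one ⟨15980, 1, 5⟩))) (.node 2 (.node 1 (.one ⟨10649, 1, 3⟩) (.one ⟨2537, 0, 4⟩)) (.node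 1 (.one ⟨2807, 0, 2⟩) (.one ⟨6452, 1, 5⟩))))) (.node 8 (.node 4 (.node 2 (.node 1 (.one ⟨7821, 2, 4⟩) (.one ⟨16814, 2, 5⟩)) (.node 1 (.one ⟨7194, 2, 5⟩) (.one ⟨2816, 0, 2⟩))) (.node 2 (.node 1 (.one ⟨5053, 1, 3⟩) (.one ⟨3754, 2, 9⟩)) (.node 1 (.one ⟨1422, 0, 6⟩) (.one ⟨2098, 1, 3⟩)))) (.node 4 (.node 2 (.node 1 (.one ⟨1680, 2, 6⟩) (.one ⟨4372, 2, 5⟩)) (.node 1 (.one ⟨3893, 1, 0⟩) (.one ⟨756, 2, 3⟩))) (.node 2 (.node 1 (.one ⟨9572, 2, 7⟩) (.one ⟨12314, 2, 5⟩)) (.node 1 (.one ⟨8107, 0, 4⟩) (.one ⟨13105, 2, 7⟩)))))))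
def par7_13_8 : Arr Par :=
  (.node 32 (.node 16 (.node 8 (.node 4 (.node 2 (.node 1 (.one ⟨5909, 1, 5⟩) (.one ⟨7595, 2, 4⟩)) (.node 1 (.one ⟨7067, 0, 7⟩) (.one ⟨790, 1, 3⟩))) (.node 2 (.node 1 (.one ⟨7615, 2, 6⟩) (.one ⟨2164, 0, 5⟩)) (.node 1 (.one ⟨12937, 1, 6⟩) (.one ⟨7214, 2, 3⟩)))) (.node 4 (.node 2 (.node 1 (.one ⟨7177, 2, 4⟩) (.one ⟨9548, 0, 7⟩)) (.node 1 (.one ⟨9719, 2, 5⟩) (.one ⟨3571, 0, 2⟩))) (.node 2 (.node 1 (.one ⟨812, 2, 3⟩) (.one ⟨1989, 1, 1⟩)) (.node 1 (.one ⟨15300, 2, 5⟩) (.one ⟨16538, 2, 4⟩))))) (.node 8 (.node 4 (.node 2 (.node 1 (.one ⟨8751, 2, 8⟩) (.one ⟨44, 2, 7⟩)) (.node 1 (.one ⟨3657, 0, 4⟩) (.one ⟨10235, 1, 5⟩))) (.node 2 (.node 1 (.one ⟨1146, 0, 6⟩) (.one ⟨4236, 0, 8⟩)) (.node 1 (.one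 ⟨4477, 1, 6⟩) (.one ⟨4088, 2, 3⟩)))) (.node 4 (.node 2 (.node 1 (.one ⟨6265, 1, 5⟩) (.one ⟨2905, 0, 7⟩)) (.node 1 (.one ⟨15252, 1, 5⟩) (.one ⟨5661, 2, 4⟩))) (.node 2 (.node 1 (.one ⟨14347, 1, 9⟩) (.one ⟨7138, 1, 6⟩)) (.node 1 (.one ⟨1415, 0, 5⟩) (.one ⟨10256, 1, 7⟩)))))) (.node 16 (.node 8 (.node 4 (.node 2 (.node 1 (.one ⟨4771, 1, 4⟩) (.one ⟨4493, 1, 7⟩)) (.node 1 (.one ⟨11251, 1, 3⟩) (.one ⟨9550, 0, 4⟩))) (.node 2 (.node 1 (.one ⟨5254, 2, 2⟩) (.one ⟨16832, 2, 8⟩)) (.node 1 (.one ⟨5226, 1, 3⟩) (.one ⟨3462, 1, 7⟩)))) (.node 4 (.node 2 (.node 1 (.one ⟨14770, 1, 5⟩) (.one ⟨14219, 1, 6⟩)) (.node 1 (.one ⟨2367, 1, 7⟩) (.one ⟨3422, 2, 3⟩))) (.node 2 (.node 1 (.one ⟨3691, 2, 8⟩) (.one ⟨9565, 0, 4⟩)) (.node 1 (.one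 ⟨3559, 2, 5⟩) (.one ⟨1299, 1, 4⟩))))) (.node 8 (.node 4 (.node 2 (.node 1 (.one ⟨4878, 2, 4⟩) (.one ⟨15888, 2, 7⟩)) (.node 1 (.one ⟨15899, 1, 3⟩) (.one ⟨9463, 0, 6⟩))) (.node 2 (.node 1 (.one ⟨16021, 2, 6⟩) (.one ⟨4916, 0, 4⟩)) (.node 1 (.one ⟨11321, 1, 7⟩) (.one ⟨3399, 0, 4⟩)))) (.node 4 (.node 2 (.node 1 (.one ⟨7334, 2, 3⟩) (.one ⟨1441, 0, 3⟩)) (.node 1 (.one ⟨7328, 2, 8⟩) (.one ⟨7327, 2, 6⟩))) (.node 2 (.node 1 (.one ⟨7331, 2, 6⟩) (.one ⟨7333, 2, 5⟩)) (.node 1 (.one ⟨16710, 1, 4⟩) (.one ⟨10981, 2, 6⟩)))))))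
def par7_13_9 : Arr Par :=
  (.node 32 (.node 16 (.node 8 (.node 4 (.node 2 (.node 1 (.one ⟨2132, 1, 7⟩) (.one ⟨327, 1, 3⟩)) (.node 1 (.one ⟨17120, 1, 5⟩) (.one ⟨9190, 1, 3⟩))) (.node 2 (.node 1 (.one ⟨13173, 2, 6⟩) (.one ⟨15965, 2, 9⟩)) (.node 1 (.one ⟨10211, 1, 10⟩) (.one ⟨277, 0, 8⟩)))) (.node 4 (.node 2 (.node 1 (.one ⟨12254, 1, 6⟩) (.one ⟨15263, 1, 8⟩)) (.node 1 (.one ⟨5013, 0, 5⟩) (.one ⟨8581, 1, 4⟩))) (.node 2 (.node 1 (.one ⟨15242, 1, 5⟩) (.one ⟨4927, 0, 7⟩)) (.node 1 (.one ⟨1457, 0, 6⟩) (.one ⟨1293, 1, 1⟩))))) (.node 8 (.node 4 (.node 2 (.node 1 (.one ⟨3958, 1, 5⟩) (.one ⟨7691, 1, 7⟩)) (.node 1 (.one ⟨4392, 2, 5⟩) (.one ⟨12995, 0, 7⟩))) (.node 2 (.node 1 (.one ⟨11727, 1, 7⟩) (.one ⟨14012, 0, 3⟩)) (.node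 1 (.one ⟨4396, 2, 8⟩) (.one ⟨16425, 1, 8⟩)))) (.node 4 (.node 2 (.node 1 (.one ⟨10633, 2, 6⟩) (.one ⟨9096, 2, 1⟩)) (.node 1 (.one ⟨13098, 1, 6⟩) (.one ⟨11963, 2, 4⟩))) (.node 2 (.node 1 (.one ⟨4454, 0, 8⟩) (.one ⟨16505, 2, 8⟩)) (.node 1 (.one ⟨1442, 0, 6⟩) (.one ⟨13222, 1, 5⟩)))))) (.node 16 (.node 8 (.node 4 (.node 2 (.node 1 (.one ⟨14771, 1, 5⟩) (.one ⟨8469, 1, 6⟩)) (.node 1 (.one ⟨14347, 2, 9⟩) (.one ⟨7993, 0, 1⟩))) (.node 2 (.node 1 (.one ⟨9488, 1, 6⟩) (.one ⟨3583, 1, 4⟩)) (.node 1 (.one ⟨9413, 0, 8⟩) (.one ⟨7914, 2, 8⟩)))) (.node 4 (.node 2 (.node 1 (.one ⟨4620, 0, 2⟩) (.one ⟨7899, 2, 8⟩)) (.node 1 (.one ⟨10008, 0, 4⟩) (.one ⟨14930, 2, 7⟩))) (.node 2 (.node 1 (.one ⟨1458, 0, 6⟩) (.one ⟨14949, 2, 8⟩)) (.node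 1 (.one ⟨16354, 1, 5⟩) (.one ⟨2711, 2, 5⟩))))) (.node 8 (.node 4 (.node 2 (.node 1 (.one ⟨3581, 1, 4⟩) (.one ⟨13448, 2, 6⟩)) (.node 1 (.one ⟨5236, 2, 7⟩) (.one ⟨9647, 1, 6⟩))) (.node 2 (.node 1 (.one ⟨9409, 0, 6⟩) (.one ⟨17042, 1, 2⟩)) (.node 1 (.one ⟨5051, 1, 6⟩) (.one ⟨5031, 2, 3⟩)))) (.node 4 (.node 2 (.node 1 (.one ⟨16353, 2, 4⟩) (.one ⟨13028, 2, 4⟩)) (.node 1 (.one ⟨8357, 2, 6⟩) (.one ⟨13662, 2, 6⟩))) (.node 2 (.node 1 (.one ⟨4498, 1, 5⟩) (.one ⟨1689, 0, 3⟩)) (.node 1 (.one ⟨1598, 0, 3⟩) (.one ⟨10300, 2, 4⟩)))))))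
def par7_13_10 : Arr Par :=
  (.node 32 (.node 16 (.node 8 (.node 4 (.node 2 (.node 1 (.one ⟨8071, 1, 4⟩) (.one ⟨7696, 1, 6⟩)) (.node 1 (.one ⟨14740, 2, 7⟩) (.one ⟨849, 1, 5⟩))) (.node 2 (.node 1 (.one ⟨3536, 1, 4⟩) (.one ⟨3648, 1, 4⟩)) (.node 1 (.one ⟨16188, 2, 5⟩) (.one ⟨1197, 2, 4⟩)))) (.node 4 (.node 2 (.node 1 (.one ⟨8054, 0, 8⟩) (.one ⟨4497, 1, 8⟩)) (.node 1 (.one ⟨5340, 0, 7⟩) (.one ⟨8673, 1, 8⟩))) (.node 2 (.node 1 (.one ⟨13150, 2, 9⟩) (.one ⟨8943, 2, 3⟩)) (.node 1 (.one ⟨16761, 1, 7⟩) (.one ⟨11987, 1, 7⟩))))) (.node 8 (.node 4 (.node 2 (.node 1 (.one ⟨3987, 1, 7⟩) (.one ⟨9407, 0, 1⟩)) (.node 1 (.one ⟨15195, 2, 1⟩) (.one ⟨9667, 0, 3⟩))) (.node 2 (.node 1 (.one ⟨7252, 2, 7⟩) (.one ⟨15262, 1, 3⟩)) (.node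 1 (.one ⟨10814, 0, 5⟩) (.one ⟨1456, 0, 9⟩)))) (.node 4 (.node 2 (.node 1 (.one ⟨2523, 2, 1⟩) (.one ⟨3703, 1, 5⟩)) (.node 1 (.one ⟨6408, 1, 5⟩) (.one ⟨11169, 1, 5⟩))) (.node 2 (.node 1 (.one ⟨16882, 1, 7⟩) (.one ⟨4768, 0, 4⟩)) (.node 1 (.one ⟨5640, 0, 4⟩) (.one ⟨14291, 0, 8⟩)))))) (.node 16 (.node 8 (.node 4 (.node 2 (.node 1 (.one ⟨4219, 1, 3⟩) (.one ⟨16272, 1, 6⟩)) (.node 1 (.one ⟨16024, 1, 4⟩) (.one ⟨6723, 2, 7⟩))) (.node 2 (.node 1 (.one ⟨12490, 2, 7⟩) (.one ⟨9461, 0, 2⟩)) (.node 1 (.one ⟨13018, 2, 4⟩) (.one ⟨6036, 0, 5⟩)))) (.node 4 (.node 2 (.node 1 (.one ⟨17168, 1, 5⟩) (.one ⟨16432, 1, 6⟩)) (.node 1 (.one ⟨16125, 0, 5⟩) (.one ⟨13209, 2, 9⟩))) (.node 2 (.node 1 (.one ⟨4514, 0, 7⟩) (.one ⟨2569, 1, 7⟩))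 (.node 1 (.one ⟨10258, 1, 6⟩) (.one ⟨105, 2, 6⟩))))) (.node 8 (.node 4 (.node 2 (.node 1 (.one ⟨16714, 0, 5⟩) (.one ⟨15195, 0, 1⟩)) (.node 1 (.one ⟨5796, 0, 9⟩) (.one ⟨11116, 2, 4⟩))) (.node 2 (.node 1 (.one ⟨7590, 2, 6⟩) (.one ⟨1224, 0, 4⟩)) (.node 1 (.one ⟨11424, 0, 4⟩) (.one ⟨2777, 2, 8⟩)))) (.node 4 (.node 2 (.node 1 (.one ⟨4008, 2, 9⟩) (.one ⟨10913, 1, 4⟩)) (.node 1 (.one ⟨16688, 0, 8⟩) (.one ⟨568, 0, 7⟩))) (.node 2 (.node 1 (.one ⟨11082, 2, 2⟩) (.one ⟨6688, 1, 5⟩)) (.node 1 (.one ⟨13614, 2, 5⟩) (.one ⟨5055, 0, 6⟩)))))))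
def par7_13_11 : Arr Par :=
  (.node 32 (.node 16 (.node 8 (.node 4 (.node 2 (.node 1 (.one ⟨15145, 1, 6⟩) (.one ⟨2404, 1, 6⟩)) (.node 1 (.one ⟨1925, 1, 9⟩) (.one ⟨10785, 1, 7⟩))) (.node 2 (.node 1 (.one ⟨14290, 0, 5⟩) (.one ⟨1215, 0, 2⟩)) (.node 1 (.one ⟨6761, 1, 8⟩) (.one ⟨14806, 0, 9⟩)))) (.node 4 (.node 2 (.node 1 (.one ⟨3140, 2, 8⟩) (.one ⟨1877, 1, 3⟩)) (.node 1 (.one ⟨9141, 0, 5⟩) (.one ⟨2873, 1, 6⟩))) (.node 2 (.node 1 (.one ⟨9960, 1, 9⟩) (.one ⟨1894, 1, 7⟩)) (.node 1 (.one ⟨971, 2, 7⟩) (.one ⟨7649, 2, 4⟩))))) (.node 8 (.node 4 (.node 2 (.node 1 (.one ⟨13857, 1, 8⟩) (.one ⟨2200, 2, 6⟩)) (.node 1 (.one ⟨5739, 1, 7⟩) (.one ⟨9549, 2, 4⟩))) (.node 2 (.node 1 (.one ⟨13765, 1, 5⟩) (.one ⟨16170, 2, 4⟩)) (.node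 1 (.one ⟨11776, 2, 4⟩) (.one ⟨7493, 0, 4⟩)))) (.node 4 (.node 2 (.node 1 (.one ⟨15095, 2, 3⟩) (.one ⟨14282, 0, 8⟩)) (.node 1 (.one ⟨7008, 0, 2⟩) (.one ⟨6617, 2, 4⟩))) (.node 2 (.node 1 (.one ⟨9405, 0, 8⟩) (.one ⟨2911, 2, 5⟩)) (.node 1 (.one ⟨2919, 0, 8⟩) (.one ⟨13855, 1, 8⟩)))))) (.node 16 (.node 8 (.node 4 (.node 2 (.node 1 (.one ⟨6047, 2, 7⟩) (.one ⟨15072, 2, 4⟩)) (.node 1 (.one ⟨13844, 1, 7⟩) (.one ⟨3272, 1, 8⟩))) (.node 2 (.node 1 (.one ⟨13472, 2, 7⟩) (.one ⟨15273, 1, 6⟩)) (.node 1 (.one ⟨7445, 2, 3⟩) (.one ⟨336, 1, 8⟩)))) (.node 4 (.node 2 (.node 1 (.one ⟨13753, 1, 2⟩) (.one ⟨11584, 2, 5⟩)) (.node 1 (.one ⟨9394, 0, 5⟩) (.one ⟨643, 1, 4⟩))) (.node 2 (.node 1 (.one ⟨13755, 1, 6⟩) (.one ⟨10301, 0, 7⟩)) (.node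 1 (.one ⟨383, 1, 4⟩) (.one ⟨14684, 0, 2⟩))))) (.node 8 (.node 4 (.node 2 (.node 1 (.one ⟨16811, 2, 4⟩) (.one ⟨16239, 2, 7⟩)) (.node 1 (.one ⟨1622, 1, 5⟩) (.one ⟨1263, 0, 8⟩))) (.node 2 (.node 1 (.one ⟨3753, 2, 9⟩) (.one ⟨9925, 0, 7⟩)) (.node 1 (.one ⟨15069, 0, 4⟩) (.one ⟨7376, 0, 4⟩)))) (.node 4 (.node 2 (.node 1 (.one ⟨7147, 1, 4⟩) (.one ⟨14453, 1, 5⟩)) (.node 1 (.one ⟨5213, 2, 5⟩) (.one ⟨13821, 1, 6⟩))) (.node 2 (.node 1 (.one ⟨4747, 2, 8⟩) (.one ⟨7555, 2, 4⟩)) (.node 1 (.one ⟨8300, 2, 5⟩) (.one ⟨3412, 2, 4⟩)))))))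
def par7_13_12 : Arr Par :=
  (.node 32 (.node 16 (.node 8 (.node 4 (.node 2 (.node 1 (.one ⟨1725, 1, 7⟩) (.one ⟨285, 0, 9⟩)) (.node 1 (.one ⟨11344, 2, 4⟩) (.one ⟨14174, 2, 6⟩))) (.node 2 (.node 1 (.one ⟨13915, 1, 5⟩) (.one ⟨10964, 0, 5⟩)) (.node 1 (.one ⟨1266, 0, 4⟩) (.one ⟨7055, 2, 5⟩)))) (.node 4 (.node 2 (.node 1 (.one ⟨9403, 0, 8⟩) (.one ⟨6959, 1, 7⟩)) (.node 1 (.one ⟨1874, 1, 7⟩) (.one ⟨14809, 1, 4⟩))) (.node 2 (.node 1 (.one ⟨7058, 2, 3⟩) (.one ⟨7059, 2, 6⟩)) (.node 1 (.one ⟨15595, 1, 5⟩) (.one ⟨13862, 1, 4⟩))))) (.node 8 (.node 4 (.node 2 (.node 1 (.one ⟨2796, 2, 7⟩) (.one ⟨3666, 1, 4⟩)) (.node 1 (.one ⟨1220, 0, 3⟩) (.one ⟨11664, 1, 6⟩))) (.node 2 (.node 1 (.one ⟨10190, 1, 4⟩) (.one ⟨8373, 0, 4⟩)) (.node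 1 (.one ⟨7680, 1, 4⟩) (.one ⟨2039, 0, 6⟩)))) (.node 4 (.node 2 (.node 1 (.one ⟨10613, 2, 4⟩) (.one ⟨718, 0, 6⟩)) (.node 1 (.one ⟨5858, 2, 8⟩) (.one ⟨4924, 0, 6⟩))) (.node 2 (.node 1 (.one ⟨11401, 2, 8⟩) (.one ⟨4816, 0, 8⟩)) (.node 1 (.one ⟨9142, 0, 2⟩) (.one ⟨10500, 1, 4⟩)))))) (.node 16 (.node 8 (.node 4 (.node 2 (.node 1 (.one ⟨4952, 0, 3⟩) (.one ⟨3614, 2, 8⟩)) (.node 1 (.one ⟨13860, 1, 3⟩) (.one ⟨3613, 2, 9⟩))) (.node 2 (.node 1 (.one ⟨4902, 1, 4⟩) (.one ⟨5484, 0, 6⟩)) (.node 1 (.one ⟨4948, 1, 8⟩) (.one ⟨13225, 2, 5⟩)))) (.node 4 (.node 2 (.node 1 (.one ⟨3644, 0, 9⟩) (.one ⟨2462, 1, 6⟩)) (.node 1 (.one ⟨8677, 0, 9⟩) (.one ⟨851, 1, 3⟩))) (.node 2 (.node 1 (.one ⟨902, 1, 3⟩) (.one ⟨8777, 2, 8⟩)) (.node 1 (.one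 ⟨6107, 2, 8⟩) (.one ⟨849, 0, 5⟩))))) (.node 8 (.node 4 (.node 2 (.node 1 (.one ⟨16, 1, 3⟩) (.one ⟨15793, 2, 7⟩)) (.node 1 (.one ⟨8427, 0, 7⟩) (.one ⟨8632, 0, 4⟩))) (.node 2 (.node 1 (.one ⟨13246, 0, 2⟩) (.one ⟨12405, 2, 5⟩)) (.node 1 (.one ⟨16935, 1, 7⟩) (.one ⟨5951, 1, 3⟩)))) (.node 4 (.node 2 (.node 1 (.one ⟨16662, 1, 4⟩) (.one ⟨13112, 2, 5⟩)) (.node 1 (.one ⟨7465, 1, 1⟩) (.one ⟨9627, 1, 7⟩))) (.node 2 (.node 1 (.one ⟨4666, 1, 5⟩) (.one ⟨10440, 2, 6⟩)) (.node 1 (.one ⟨1033, 2, 7⟩) (.one ⟨7431, 2, 3⟩)))))))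
def par7_13_13 : Arr Par :=
  (.node 32 (.node 16 (.node 8 (.node 4 (.node 2 (.node 1 (.one ⟨6261, 1, 7⟩) (.one ⟨4783, 0, 9⟩)) (.node 1 (.one ⟨7022, 2, 6⟩) (.one ⟨5060, 1, 5⟩))) (.node 2 (.node 1 (.one ⟨10458, 1, 8⟩) (.one ⟨4840, 1, 5⟩)) (.node 1 (.one ⟨3285, 0, 5⟩) (.one ⟨11083, 1, 4⟩)))) (.node 4 (.node 2 (.node 1 (.one ⟨16925, 0, 4⟩) (.one ⟨8603, 1, 2⟩)) (.node 1 (.one ⟨3261, 1, 3⟩) (.one ⟨1785, 1, 7⟩))) (.node 2 (.node 1 (.one ⟨8351, 1, 4⟩) (.one ⟨15778, 1, 2⟩)) (.node 1 (.one ⟨10736, 1, 6⟩) (.one ⟨2006, 0, 2⟩))))) (.node 8 (.node 4 (.node 2 (.node 1 (.one ⟨10694, 0, 8⟩) (.one ⟨9570, 2, 4⟩)) (.node 1 (.one ⟨5014, 0, 8⟩) (.one ⟨16910, 0, 3⟩))) (.node 2 (.node 1 (.one ⟨691, 1, 5⟩) (.one ⟨8056, 1, 4⟩)) (.node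 1 (.one ⟨5983, 1, 7⟩) (.one ⟨5848, 0, 4⟩)))) (.node 4 (.node 2 (.node 1 (.one ⟨15974, 2, 7⟩) (.one ⟨7608, 0, 5⟩)) (.node 1 (.one ⟨6526, 1, 5⟩) (.one ⟨16909, 1, 3⟩))) (.node 2 (.node 1 (.one ⟨8011, 2, 3⟩) (.one ⟨17160, 1, 5⟩)) (.node 1 (.one ⟨7854, 1, 5⟩) (.one ⟨10609, 0, 7⟩)))))) (.node 16 (.node 8 (.node 4 (.node 2 (.node 1 (.one ⟨6139, 1, 2⟩) (.one ⟨3705, 1, 4⟩)) (.node 1 (.one ⟨5522, 1, 4⟩) (.one ⟨2025, 0, 7⟩))) (.node 2 (.node 1 (.one ⟨16892, 1, 9⟩) (.one ⟨8345, 2, 4⟩)) (.node 1 (.one ⟨9165, 1, 3⟩) (.one ⟨9397, 1, 2⟩)))) (.node 4 (.node 2 (.node 1 (.one ⟨6320, 2, 3⟩) (.one ⟨8805, 2, 4⟩)) (.node 1 (.one ⟨3379, 2, 4⟩) (.one ⟨532, 2, 6⟩))) (.node 2 (.node 1 (.one ⟨8000, 2, 6⟩) (.one ⟨6846, 2, 5⟩)) (.node 1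 (.one ⟨4801, 2, 4⟩) (.one ⟨428, 1, 5⟩))))) (.node 8 (.node 4 (.node 2 (.node 1 (.one ⟨15783, 2, 6⟩) (.one ⟨14329, 1, 4⟩)) (.node 1 (.one ⟨10184, 2, 3⟩) (.one ⟨12700, 2, 3⟩))) (.node 2 (.node 1 (.one ⟨9898, 2, 6⟩) (.one ⟨10678, 1, 5⟩)) (.node 1 (.one ⟨15945, 2, 5⟩) (.one ⟨9323, 1, 5⟩)))) (.node 4 (.node 2 (.node 1 (.one ⟨15365, 2, 4⟩) (.one ⟨2599, 2, 5⟩)) (.node 1 (.one ⟨10677, 1, 6⟩) (.one ⟨15321, 2, 6⟩))) (.node 2 (.node 1 (.one ⟨3637, 0, 2⟩) (.one ⟨14939, 2, 7⟩)) (.node 1 (.one ⟨2484, 2, 5⟩) (.one ⟨598, 0, 3⟩)))))))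
def par7_13_14 : Arr Par :=
  (.node 32 (.node 16 (.node 8 (.node 4 (.node 2 (.node 1 (.one ⟨10610, 1, 4⟩) (.one ⟨4494, 1, 4⟩)) (.node 1 (.one ⟨12605, 2, 7⟩) (.one ⟨790, 0, 3⟩))) (.node 2 (.node 1 (.one ⟨1859, 1, 6⟩) (.one ⟨11906, 1, 4⟩)) (.node 1 (.one ⟨13135, 2, 4⟩) (.one ⟨11364, 1, 6⟩)))) (.node 4 (.node 2 (.node 1 (.one ⟨2473, 1, 4⟩) (.one ⟨7247, 0, 5⟩)) (.node 1 (.one ⟨12042, 0, 8⟩) (.one ⟨15654, 2, 5⟩))) (.node 2 (.node 1 (.one ⟨13419, 0, 5⟩) (.one ⟨11332, 1, 5⟩)) (.node 1 (.one ⟨2444, 1, 4⟩) (.one ⟨1811, 1, 4⟩))))) (.node 8 (.node 4 (.node 2 (.node 1 (.one ⟨14505, 0, 2⟩) (.one ⟨12707, 0, 3⟩)) (.node 1 (.one ⟨12355, 1, 7⟩) (.one ⟨15899, 2, 3⟩))) (.node 2 (.node 1 (.one ⟨14584, 2, 6⟩) (.one ⟨5579, 0, 5⟩))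 (.node 1 (.one ⟨2074, 0, 5⟩) (.one ⟨2043, 0, 4⟩)))) (.node 4 (.node 2 (.node 1 (.one ⟨3161, 0, 7⟩) (.one ⟨12423, 0, 7⟩)) (.node 1 (.one ⟨15290, 1, 3⟩) (.one ⟨16985, 2, 4⟩))) (.node 2 (.node 1 (.one ⟨979, 2, 8⟩) (.one ⟨2603, 2, 4⟩)) (.node 1 (.one ⟨16769, 2, 8⟩) (.one ⟨14563, 1, 6⟩)))))) (.node 16 (.node 8 (.node 4 (.node 2 (.node 1 (.one ⟨8085, 1, 3⟩) (.one ⟨10195, 2, 9⟩)) (.node 1 (.one ⟨15722, 1, 3⟩) (.one ⟨2216, 1, 3⟩))) (.node 2 (.node 1 (.one ⟨12289, 1, 5⟩) (.one ⟨9372, 1, 7⟩)) (.node 1 (.one ⟨4125, 1, 8⟩) (.one ⟨1217, 1, 5⟩)))) (.node 4 (.node 2 (.node 1 (.one ⟨13741, 1, 5⟩) (.one ⟨11438, 1, 7⟩)) (.node 1 (.one ⟨7426, 1, 10⟩) (.one ⟨5038, 0, 2⟩))) (.node 2 (.node 1 (.one ⟨2609, 2, 7⟩) (.one ⟨11648, 2,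 7⟩)) (.node 1 (.one ⟨734, 2, 7⟩) (.one ⟨9546, 1, 7⟩))))) (.node 8 (.node 4 (.node 2 (.node 1 (.one ⟨5635, 1, 7⟩) (.one ⟨9767, 1, 9⟩)) (.node 1 (.one ⟨3659, 2, 9⟩) (.one ⟨12162, 2, 9⟩))) (.node 2 (.node 1 (.one ⟨2660, 0, 8⟩) (.one ⟨5930, 1, 6⟩)) (.node 1 (.one ⟨9795, 1, 5⟩) (.one ⟨13935, 1, 6⟩)))) (.node 4 (.node 2 (.node 1 (.one ⟨2833, 1, 8⟩) (.one ⟨5817, 2, 6⟩)) (.node 1 (.one ⟨14726, 1, 4⟩) (.one ⟨16065, 2, 4⟩))) (.node 2 (.node 1 (.one ⟨1682, 2, 4⟩) (.one ⟨3933, 0, 8⟩)) (.node 1 (.one ⟨6000, 1, 8⟩) (.one ⟨6187, 1, 8⟩)))))))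
def par7_13_15 : Arr Par :=
  (.node 32 (.node 16 (.node 8 (.node 4 (.node 2 (.node 1 (.one ⟨14160, 1, 9⟩) (.one ⟨6588, 0, 4⟩)) (.node 1 (.one ⟨6475, 2, 6⟩) (.one ⟨13623, 1, 5⟩))) (.node 2 (.node 1 (.one ⟨5634, 1, 7⟩) (.one ⟨9520, 1, 1⟩)) (.node 1 (.one ⟨1659, 1, 5⟩) (.one ⟨6001, 1, 7⟩)))) (.node 4 (.node 2 (.node 1 (.one ⟨5152, 0, 5⟩) (.one ⟨2284, 1, 7⟩)) (.node 1 (.one ⟨7525, 2, 7⟩) (.one ⟨10790, 1, 6⟩))) (.node 2 (.node 1 (.one ⟨16110, 1, 3⟩) (.one ⟨908, 2, 4⟩)) (.node 1 (.one ⟨12161, 1, 9⟩) (.one ⟨5174, 0, 4⟩))))) (.node 8 (.node 4 (.node 2 (.node 1 (.one ⟨16703, 2, 8⟩) (.one ⟨10800, 1, 5⟩)) (.node 1 (.one ⟨1688, 2, 4⟩) (.one ⟨16537, 2, 7⟩))) (.node 2 (.node 1 (.one ⟨841, 2, 5⟩) (.one ⟨11744, 0, 8⟩)) (.node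 1 (.one ⟨11552, 1, 7⟩) (.one ⟨9426, 1, 2⟩)))) (.node 4 (.node 2 (.node 1 (.one ⟨11259, 1, 6⟩) (.one ⟨2906, 0, 5⟩)) (.node 1 (.one ⟨5151, 0, 8⟩) (.one ⟨2689, 1, 4⟩))) (.node 2 (.node 1 (.one ⟨3116, 1, 5⟩) (.one ⟨1737, 0, 1⟩)) (.node 1 (.one ⟨7469, 1, 3⟩) (.one ⟨2105, 0, 2⟩)))))) (.node 16 (.node 8 (.node 4 (.node 2 (.node 1 (.one ⟨1905, 0, 3⟩) (.one ⟨5552, 0, 4⟩)) (.node 1 (.one ⟨5682, 0, 2⟩) (.one ⟨3415, 2, 6⟩))) (.node 2 (.node 1 (.one ⟨5319, 0, 8⟩) (.one ⟨6575, 1, 6⟩)) (.node 1 (.one ⟨2759, 1, 4⟩) (.one ⟨1339, 2, 4⟩)))) (.node 4 (.node 2 (.node 1 (.one ⟨9449, 2, 5⟩) (.one ⟨13215, 2, 3⟩)) (.node 1 (.one ⟨5166, 2, 8⟩) (.one ⟨13169, 2, 7⟩))) (.node 2 (.node 1 (.one ⟨10356, 1, 5⟩) (.one ⟨1196, 2, 1⟩)) (.node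 1 (.one ⟨4132, 1, 0⟩) (.one ⟨7175, 2, 4⟩))))) (.node 8 (.node 4 (.node 2 (.node 1 (.one ⟨9397, 2, 2⟩) (.one ⟨1759, 2, 3⟩)) (.node 1 (.one ⟨15467, 2, 4⟩) (.one ⟨10679, 1, 7⟩))) (.node 2 (.node 1 (.one ⟨11204, 0, 3⟩) (.one ⟨10216, 0, 4⟩)) (.node 1 (.one ⟨9793, 2, 6⟩) (.one ⟨3327, 0, 4⟩)))) (.node 4 (.node 2 (.node 1 (.one ⟨17011, 0, 6⟩) (.one ⟨3228, 0, 3⟩)) (.node 1 (.one ⟨4624, 1, 7⟩) (.one ⟨3033, 1, 4⟩))) (.node 2 (.node 1 (.one ⟨12290, 1, 3⟩) (.one ⟨8202, 1, 8⟩)) (.node 1 (.one ⟨7985, 0, 6⟩) (.one ⟨8226, 2, 4⟩)))))))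
def par7_13 : Arr Par :=
  (.node 512 (.node 256 (.node 128 (.node 64 par7_13_0 par7_13_1) (.node 64 par7_13_2 par7_13_3)) (.node 128 (.node 64 par7_13_4 par7_13_5) (.node 64 par7_13_6 par7_13_7))) (.node 256 (.node 128 (.node 64 par7_13_8 par7_13_9) (.node 64 par7_13_10 par7_13_11)) (.node 128 (.node 64 par7_13_12 par7_13_13) (.node 64 par7_13_14 par7_13_15))))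
def par7_14_0 : Arr Par :=
  (.node 32 (.node 16 (.node 8 (.node 4 (.node 2 (.node 1 (.one ⟨1833, 2, 8⟩) (.one ⟨7197, 2, 4⟩)) (.node 1 (.one ⟨2874, 1, 5⟩) (.one ⟨1105, 1, 5⟩))) (.node 2 (.node 1 (.one ⟨11082, 0, 2⟩) (.one ⟨10522, 2, 5⟩)) (.node 1 (.one ⟨15895, 2, 6⟩) (.one ⟨2237, 1, 9⟩)))) (.node 4 (.node 2 (.node 1 (.one ⟨1535, 1, 3⟩) (.one ⟨14689, 1, 7⟩)) (.node 1 (.one ⟨5245, 0, 4⟩) (.one ⟨4523, 0, 8⟩))) (.node 2 (.node 1 (.one ⟨4143, 2, 3⟩) (.one ⟨336, 0, 8⟩)) (.node 1 (.one ⟨9827, 0, 1⟩) (.one ⟨11996, 2, 7⟩))))) (.node 8 (.node 4 (.node 2 (.node 1 (.one ⟨4724, 2, 2⟩) (.one ⟨3158, 2, 6⟩)) (.node 1 (.one ⟨13854, 1, 6⟩) (.one ⟨913, 1, 7⟩))) (.node 2 (.node 1 (.one ⟨642, 1, 8⟩) (.one ⟨661, 1, 5⟩)) (.node 1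 (.one ⟨914, 1, 3⟩) (.one ⟨10308, 2, 5⟩)))) (.node 4 (.node 2 (.node 1 (.one ⟨3664, 1, 3⟩) (.one ⟨4422, 2, 5⟩)) (.node 1 (.one ⟨7849, 1, 2⟩) (.one ⟨6609, 1, 4⟩))) (.node 2 (.node 1 (.one ⟨11556, 1, 6⟩) (.one ⟨3112, 1, 5⟩)) (.node 1 (.one ⟨11096, 2, 3⟩) (.one ⟨2887, 2, 3⟩)))))) (.node 16 (.node 8 (.node 4 (.node 2 (.node 1 (.one ⟨15174, 2, 8⟩) (.one ⟨8469, 2, 6⟩)) (.node 1 (.one ⟨1896, 1, 10⟩) (.one ⟨1065, 1, 6⟩))) (.node 2 (.node 1 (.one ⟨12061, 2, 2⟩) (.one ⟨1895, 1, 8⟩)) (.node 1 (.one ⟨14528, 2, 3⟩) (.one ⟨3105, 1, 7⟩)))) (.node 4 (.node 2 (.node 1 (.one ⟨14329, 2, 4⟩) (.one ⟨3019, 1, 7⟩)) (.node 1 (.one ⟨11063, 2, 8⟩) (.one ⟨11110, 1, 3⟩))) (.node 2 (.node 1 (.one ⟨3115, 1, 6⟩) (.one ⟨11148, 1, 6⟩)) (.node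 1 (.one ⟨3009, 1, 6⟩) (.one ⟨1174, 0, 8⟩))))) (.node 8 (.node 4 (.node 2 (.node 1 (.one ⟨6599, 2, 5⟩) (.one ⟨1603, 0, 6⟩)) (.node 1 (.one ⟨7956, 1, 8⟩) (.one ⟨6601, 2, 3⟩))) (.node 2 (.node 1 (.one ⟨8272, 1, 4⟩) (.one ⟨7758, 1, 4⟩)) (.node 1 (.one ⟨6603, 2, 5⟩) (.one ⟨5169, 0, 3⟩)))) (.node 4 (.node 2 (.node 1 (.one ⟨4069, 1, 0⟩) (.one ⟨10217, 1, 4⟩)) (.node 1 (.one ⟨10508, 1, 2⟩) (.one ⟨9631, 1, 4⟩))) (.node 2 (.node 1 (.one ⟨1502, 0, 3⟩) (.one ⟨2097, 1, 3⟩)) (.node 1 (.one ⟨12888, 0, 3⟩) (.one ⟨3518, 0, 4⟩)))))))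
def par7_14_1 : Arr Par :=
  (.node 32 (.node 16 (.node 8 (.node 4 (.node 2 (.node 1 (.one ⟨4641, 2, 8⟩) (.one ⟨2859, 0, 5⟩)) (.node 1 (.one ⟨6091, 1, 7⟩) (.one ⟨1499, 0, 4⟩))) (.node 2 (.node 1 (.one ⟨11321, 0, 7⟩) (.one ⟨4715, 0, 7⟩)) (.node 1 (.one ⟨13646, 1, 8⟩) (.one ⟨14599, 0, 1⟩)))) (.node 4 (.node 2 (.node 1 (.one ⟨5553, 0, 5⟩) (.one ⟨4098, 1, 0⟩)) (.node 1 (.one ⟨1904, 0, 5⟩) (.one ⟨1866, 2, 4⟩))) (.node 2 (.node 1 (.one ⟨1178, 0, 1⟩) (.one ⟨3511, 1, 4⟩)) (.node 1 (.one ⟨12263, 1, 7⟩) (.one ⟨10371, 1, 4⟩))))) (.node 8 (.node 4 (.node 2 (.node 1 (.one ⟨1175, 0, 5⟩) (.one ⟨12658, 2, 8⟩)) (.node 1 (.one ⟨7822, 2, 4⟩) (.one ⟨28, 1, 6⟩))) (.node 2 (.node 1 (.one ⟨5233, 1, 2⟩) (.one ⟨1498, 1, 2⟩)) (.node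 1 (.one ⟨5204, 1, 4⟩) (.one ⟨13124, 0, 2⟩)))) (.node 4 (.node 2 (.node 1 (.one ⟨7028, 1, 3⟩) (.one ⟨5901, 2, 8⟩)) (.node 1 (.one ⟨15451, 1, 3⟩) (.one ⟨9319, 1, 3⟩))) (.node 2 (.node 1 (.one ⟨7393, 1, 2⟩) (.one ⟨7493, 2, 4⟩)) (.node 1 (.one ⟨6159, 2, 4⟩) (.one ⟨14512, 1, 7⟩)))))) (.node 16 (.node 8 (.node 4 (.node 2 (.node 1 (.one ⟨6459, 1, 8⟩) (.one ⟨15564, 1, 8⟩)) (.node 1 (.one ⟨5335, 2, 9⟩) (.one ⟨12808, 0, 6⟩))) (.node 2 (.node 1 (.one ⟨10402, 0, 7⟩) (.one ⟨1497, 0, 7⟩)) (.node 1 (.one ⟨2294, 2, 3⟩) (.one ⟨10978, 2, 3⟩)))) (.node 4 (.node 2 (.node 1 (.one ⟨17102, 1, 3⟩) (.one ⟨6010, 1, 6⟩)) (.node 1 (.one ⟨4970, 1, 4⟩) (.one ⟨11006, 2, 6⟩))) (.node 2 (.node 1 (.one ⟨15694, 0, 5⟩) (.one ⟨9388, 1, 4⟩)) (.node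 1 (.one ⟨16556, 1, 7⟩) (.one ⟨10302, 0, 7⟩))))) (.node 8 (.node 4 (.node 2 (.node 1 (.one ⟨13862, 2, 4⟩) (.one ⟨9605, 0, 1⟩)) (.node 1 (.one ⟨6591, 1, 8⟩) (.one ⟨1711, 1, 4⟩))) (.node 2 (.node 1 (.one ⟨9049, 1, 4⟩) (.one ⟨3647, 1, 4⟩)) (.node 1 (.one ⟨7391, 1, 4⟩) (.one ⟨825, 2, 7⟩)))) (.node 4 (.node 2 (.node 1 (.one ⟨10953, 2, 5⟩) (.one ⟨15862, 1, 4⟩)) (.node 1 (.one ⟨11168, 2, 9⟩) (.one ⟨14495, 0, 2⟩))) (.node 2 (.node 1 (.one ⟨15932, 1, 6⟩) (.one ⟨9844, 0, 7⟩)) (.node 1 (.one ⟨16091, 0, 4⟩) (.one ⟨14124, 2, 4⟩)))))))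
def par7_14_2 : Arr Par :=
  (.node 32 (.node 16 (.node 8 (.node 4 (.node 2 (.node 1 (.one ⟨11896, 0, 5⟩) (.one ⟨14245, 2, 8⟩)) (.node 1 (.one ⟨10447, 0, 5⟩) (.one ⟨6127, 1, 1⟩))) (.node 2 (.node 1 (.one ⟨9602, 0, 1⟩) (.one ⟨11660, 0, 5⟩)) (.node 1 (.one ⟨12234, 0, 9⟩) (.one ⟨12357, 0, 4⟩)))) (.node 4 (.node 2 (.node 1 (.one ⟨13829, 1, 6⟩) (.one ⟨13061, 2, 8⟩)) (.node 1 (.one ⟨2406, 1, 8⟩) (.one ⟨3819, 1, 0⟩))) (.node 2 (.node 1 (.one ⟨12944, 1, 4⟩) (.one ⟨9510, 0, 8⟩)) (.node 1 (.one ⟨11266, 2, 5⟩) (.one ⟨12597, 1, 6⟩))))) (.node 8 (.node 4 (.node 2 (.node 1 (.one ⟨14857, 1, 4⟩) (.one ⟨6813, 1, 5⟩)) (.node 1 (.one ⟨4578, 1, 2⟩) (.one ⟨7809, 1, 3⟩))) (.node 2 (.node 1 (.one ⟨883, 1, 7⟩) (.one ⟨9297, 1, 2⟩))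 (.node 1 (.one ⟨15892, 1, 7⟩) (.one ⟨1903, 1, 6⟩)))) (.node 4 (.node 2 (.node 1 (.one ⟨2589, 0, 3⟩) (.one ⟨4131, 1, 1⟩)) (.node 1 (.one ⟨3577, 1, 4⟩) (.one ⟨3785, 1, 3⟩))) (.node 2 (.node 1 (.one ⟨4461, 1, 5⟩) (.one ⟨2276, 1, 7⟩)) (.node 1 (.one ⟨493, 1, 5⟩) (.one ⟨14475, 0, 1⟩)))))) (.node 16 (.node 8 (.node 4 (.node 2 (.node 1 (.one ⟨14313, 0, 4⟩) (.one ⟨4431, 2, 9⟩)) (.node 1 (.one ⟨10385, 2, 7⟩) (.one ⟨6338, 2, 4⟩))) (.node 2 (.node 1 (.one ⟨16383, 2, 3⟩) (.one ⟨9509, 0, 8⟩)) (.node 1 (.one ⟨14019, 1, 8⟩) (.one ⟨5551, 1, 2⟩)))) (.node 4 (.node 2 (.node 1 (.one ⟨9601, 0, 1⟩) (.one ⟨2190, 0, 1⟩)) (.node 1 (.one ⟨2263, 0, 3⟩) (.one ⟨13689, 1, 8⟩))) (.node 2 (.node 1 (.one ⟨9736, 2, 6⟩) (.one ⟨5190, 2, 7⟩))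 (.node 1 (.one ⟨4483, 2, 6⟩) (.one ⟨9838, 0, 4⟩))))) (.node 8 (.node 4 (.node 2 (.node 1 (.one ⟨6306, 0, 6⟩) (.one ⟨15617, 1, 5⟩)) (.node 1 (.one ⟨1117, 0, 3⟩) (.one ⟨14649, 0, 2⟩))) (.node 2 (.node 1 (.one ⟨12073, 1, 5⟩) (.one ⟨9131, 2, 8⟩)) (.node 1 (.one ⟨484, 2, 6⟩) (.one ⟨12703, 1, 3⟩)))) (.node 4 (.node 2 (.node 1 (.one ⟨11281, 1, 2⟩) (.one ⟨6135, 2, 4⟩)) (.node 1 (.one ⟨15776, 1, 4⟩) (.one ⟨9381, 1, 2⟩))) (.node 2 (.node 1 (.one ⟨12077, 1, 6⟩) (.one ⟨16923, 1, 9⟩)) (.node 1 (.one ⟨3466, 2, 6⟩) (.one ⟨4335, 1, 6⟩)))))))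
def par7_14_3 : Arr Par :=
  (.node 32 (.node 16 (.node 8 (.node 4 (.node 2 (.node 1 (.one ⟨1114, 0, 2⟩) (.one ⟨6160, 2, 5⟩)) (.node 1 (.one ⟨838, 2, 5⟩) (.one ⟨7297, 1, 10⟩))) (.node 2 (.node 1 (.one ⟨5137, 1, 6⟩) (.one ⟨13680, 2, 5⟩)) (.node 1 (.one ⟨10118, 2, 2⟩) (.one ⟨682, 2, 9⟩)))) (.node 4 (.node 2 (.node 1 (.one ⟨3138, 2, 7⟩) (.one ⟨12632, 1, 3⟩)) (.node 1 (.one ⟨5837, 2, 5⟩) (.one ⟨7318, 0, 5⟩))) (.node 2 (.node 1 (.one ⟨469, 1, 4⟩) (.one ⟨15616, 2, 5⟩)) (.node 1 (.one ⟨1260, 0, 7⟩) (.one ⟨9477, 2, 2⟩))))) (.node 8 (.node 4 (.node 2 (.node 1 (.one ⟨1258, 0, 1⟩) (.one ⟨4861, 1, 5⟩)) (.node 1 (.one ⟨10870, 1, 6⟩) (.one ⟨16444, 1, 3⟩))) (.node 2 (.node 1 (.one ⟨6588, 1, 4⟩) (.one ⟨2341, 1, 1⟩)) (.node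 1 (.one ⟨12078, 1, 5⟩) (.one ⟨15926, 2, 7⟩)))) (.node 4 (.node 2 (.node 1 (.one ⟨9026, 2, 6⟩) (.one ⟨1108, 0, 6⟩)) (.node 1 (.one ⟨4310, 0, 6⟩) (.one ⟨12074, 1, 5⟩))) (.node 2 (.node 1 (.one ⟨15807, 2, 8⟩) (.one ⟨6269, 1, 1⟩)) (.node 1 (.one ⟨14429, 0, 5⟩) (.one ⟨14387, 1, 4⟩)))))) (.node 16 (.node 8 (.node 4 (.node 2 (.node 1 (.one ⟨2852, 1, 4⟩) (.one ⟨3924, 1, 2⟩)) (.node 1 (.one ⟨7804, 2, 3⟩) (.one ⟨16924, 0, 5⟩))) (.node 2 (.node 1 (.one ⟨11362, 2, 3⟩) (.one ⟨61, 1, 6⟩)) (.node 1 (.one ⟨1255, 0, 6⟩) (.one ⟨910, 2, 5⟩)))) (.node 4 (.node 2 (.node 1 (.one ⟨1103, 0, 4⟩) (.one ⟨797, 2, 8⟩)) (.node 1 (.one ⟨1059, 2, 4⟩) (.one ⟨15782, 0, 4⟩))) (.node 2 (.node 1 (.one ⟨15590, 0, 5⟩) (.one ⟨47, 2, 4⟩)) (.node 1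 (.one ⟨366, 2, 4⟩) (.one ⟨10398, 1, 4⟩))))) (.node 8 (.node 4 (.node 2 (.node 1 (.one ⟨9629, 0, 8⟩) (.one ⟨4038, 2, 5⟩)) (.node 1 (.one ⟨4290, 2, 9⟩) (.one ⟨9215, 2, 4⟩))) (.node 2 (.node 1 (.one ⟨13203, 1, 5⟩) (.one ⟨12087, 2, 5⟩)) (.node 1 (.one ⟨12348, 2, 3⟩) (.one ⟨6109, 1, 2⟩)))) (.node 4 (.node 2 (.node 1 (.one ⟨786, 0, 5⟩) (.one ⟨4213, 2, 4⟩)) (.node 1 (.one ⟨6071, 1, 5⟩) (.one ⟨3451, 2, 7⟩))) (.node 2 (.node 1 (.one ⟨14176, 1, 3⟩) (.one ⟨6231, 2, 4⟩)) (.node 1 (.one ⟨6960, 1, 9⟩) (.one ⟨632, 1, 6⟩)))))))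
def par7_14_4 : Arr Par :=
  (.node 32 (.node 16 (.node 8 (.node 4 (.node 2 (.node 1 (.one ⟨1025, 0, 2⟩) (.one ⟨1883, 1, 6⟩)) (.node 1 (.one ⟨572, 1, 4⟩) (.one ⟨556, 1, 5⟩))) (.node 2 (.node 1 (.one ⟨1884, 1, 7⟩) (.one ⟨1881, 1, 5⟩)) (.node 1 (.one ⟨636, 1, 9⟩) (.one ⟨3949, 1, 0⟩)))) (.node 4 (.node 2 (.node 1 (.one ⟨2106, 0, 3⟩) (.one ⟨14602, 0, 2⟩)) (.node 1 (.one ⟨5681, 0, 1⟩) (.one ⟨2703, 0, 8⟩))) (.node 2 (.node 1 (.one ⟨9615, 0, 5⟩) (.one ⟨6352, 0, 1⟩)) (.node 1 (.one ⟨12415, 1, 7⟩) (.one ⟨1860, 1, 4⟩))))) (.node 8 (.node 4 (.node 2 (.node 1 (.one ⟨12647, 1, 4⟩) (.one ⟨10608, 1, 4⟩)) (.node 1 (.one ⟨5147, 1, 6⟩) (.one ⟨251, 0, 4⟩))) (.node 2 (.node 1 (.one ⟨269, 0, 7⟩) (.one ⟨10391, 1, 6⟩)) (.node 1 (.one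 ⟨5371, 1, 6⟩) (.one ⟨11886, 0, 4⟩)))) (.node 4 (.node 2 (.node 1 (.one ⟨7104, 1, 3⟩) (.one ⟨9042, 0, 2⟩)) (.node 1 (.one ⟨9965, 1, 9⟩) (.one ⟨6729, 0, 5⟩))) (.node 2 (.node 1 (.one ⟨11428, 1, 6⟩) (.one ⟨9495, 1, 6⟩)) (.node 1 (.one ⟨6077, 1, 6⟩) (.one ⟨14541, 1, 6⟩)))))) (.node 16 (.node 8 (.node 4 (.node 2 (.node 1 (.one ⟨16219, 2, 4⟩) (.one ⟨2511, 2, 4⟩)) (.node 1 (.one ⟨748, 1, 3⟩) (.one ⟨1032, 1, 5⟩))) (.node 2 (.node 1 (.one ⟨2157, 2, 4⟩) (.one ⟨265, 1, 5⟩)) (.node 1 (.one ⟨10505, 2, 6⟩) (.one ⟨6415, 1, 7⟩)))) (.node 4 (.node 2 (.node 1 (.one ⟨3179, 0, 5⟩) (.one ⟨3999, 0, 5⟩)) (.node 1 (.one ⟨677, 1, 4⟩) (.one ⟨7988, 1, 2⟩))) (.node 2 (.node 1 (.one ⟨6462, 0, 3⟩) (.one ⟨9074, 0, 4⟩)) (.node 1 (.one ⟨4336,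 1, 7⟩) (.one ⟨3849, 1, 0⟩))))) (.node 8 (.node 4 (.node 2 (.node 1 (.one ⟨12420, 2, 4⟩) (.one ⟨12206, 1, 7⟩)) (.node 1 (.one ⟨7881, 1, 6⟩) (.one ⟨7801, 1, 6⟩))) (.node 2 (.node 1 (.one ⟨13671, 0, 7⟩) (.one ⟨2797, 2, 3⟩)) (.node 1 (.one ⟨557, 2, 5⟩) (.one ⟨12735, 1, 5⟩)))) (.node 4 (.node 2 (.node 1 (.one ⟨10227, 1, 6⟩) (.one ⟨13818, 2, 1⟩)) (.node 1 (.one ⟨6840, 1, 7⟩) (.one ⟨7797, 1, 4⟩))) (.node 2 (.node 1 (.one ⟨6858, 1, 10⟩) (.one ⟨12726, 1, 7⟩)) (.node 1 (.one ⟨2340, 2, 4⟩) (.one ⟨13194, 1, 2⟩)))))))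
def par7_14_5 : Arr Par :=
  (.node 32 (.node 16 (.node 8 (.node 4 (.node 2 (.node 1 (.one ⟨4275, 1, 5⟩) (.one ⟨2002, 2, 5⟩)) (.node 1 (.one ⟨11981, 0, 7⟩) (.one ⟨2102, 1, 7⟩))) (.node 2 (.node 1 (.one ⟨10881, 1, 3⟩) (.one ⟨4198, 1, 5⟩)) (.node 1 (.one ⟨12926, 2, 6⟩) (.one ⟨2257, 1, 7⟩)))) (.node 4 (.node 2 (.node 1 (.one ⟨8791, 1, 3⟩) (.one ⟨13858, 2, 4⟩)) (.node 1 (.one ⟨8427, 1, 7⟩) (.one ⟨14352, 1, 3⟩))) (.node 2 (.node 1 (.one ⟨7123, 2, 4⟩) (.one ⟨12743, 0, 7⟩)) (.node 1 (.one ⟨15955, 0, 7⟩) (.one ⟨9060, 2, 8⟩))))) (.node 8 (.node 4 (.node 2 (.node 1 (.one ⟨4620, 2, 2⟩) (.one ⟨14162, 1, 9⟩)) (.node 1 (.one ⟨5629, 2, 5⟩) (.one ⟨4176, 1, 10⟩))) (.node 2 (.node 1 (.one ⟨12348, 1, 3⟩) (.one ⟨1593, 1, 4⟩))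 (.node 1 (.one ⟨9237, 1, 3⟩) (.one ⟨12350, 0, 6⟩)))) (.node 4 (.node 2 (.node 1 (.one ⟨1358, 1, 5⟩) (.one ⟨13909, 2, 4⟩)) (.node 1 (.one ⟨13871, 2, 5⟩) (.one ⟨9740, 1, 5⟩))) (.node 2 (.node 1 (.one ⟨1989, 0, 1⟩) (.one ⟨14132, 1, 3⟩)) (.node 1 (.one ⟨10699, 0, 6⟩) (.one ⟨403, 1, 9⟩)))))) (.node 16 (.node 8 (.node 4 (.node 2 (.node 1 (.one ⟨5594, 1, 10⟩) (.one ⟨3213, 0, 6⟩)) (.node 1 (.one ⟨5099, 1, 6⟩) (.one ⟨9596, 1, 3⟩))) (.node 2 (.node 1 (.one ⟨13638, 1, 4⟩) (.one ⟨16904, 1, 5⟩)) (.node 1 (.one ⟨13107, 1, 6⟩) (.one ⟨333, 0, 5⟩)))) (.node 4 (.node 2 (.node 1 (.one ⟨14961, 1, 3⟩) (.one ⟨16194, 1, 10⟩)) (.node 1 (.one ⟨6822, 2, 1⟩) (.one ⟨10093, 2, 4⟩))) (.node 2 (.node 1 (.one ⟨13110, 1, 5⟩) (.one ⟨15992,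 2, 2⟩)) (.node 1 (.one ⟨423, 0, 4⟩) (.one ⟨15782, 1, 4⟩))))) (.node 8 (.node 4 (.node 2 (.node 1 (.one ⟨2266, 1, 5⟩) (.one ⟨5304, 1, 8⟩)) (.node 1 (.one ⟨14947, 1, 8⟩) (.one ⟨9979, 1, 4⟩))) (.node 2 (.node 1 (.one ⟨8264, 1, 5⟩) (.one ⟨7321, 1, 7⟩)) (.node 1 (.one ⟨12677, 1, 5⟩) (.one ⟨10179, 0, 5⟩)))) (.node 4 (.node 2 (.node 1 (.one ⟨4339, 0, 7⟩) (.one ⟨11849, 1, 4⟩)) (.node 1 (.one ⟨10111, 0, 7⟩) (.one ⟨16768, 2, 4⟩))) (.node 2 (.node 1 (.one ⟨11887, 2, 7⟩) (.one ⟨7900, 1, 6⟩)) (.node 1 (.one ⟨17185, 1, 4⟩) (.one ⟨11004, 0, 5⟩)))))))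
def par7_14_6 : Arr Par :=
  (.node 32 (.node 16 (.node 8 (.node 4 (.node 2 (.node 1 (.one ⟨12805, 2, 4⟩) (.one ⟨5531, 1, 9⟩)) (.node 1 (.one ⟨13604, 1, 4⟩) (.one ⟨16220, 2, 4⟩))) (.node 2 (.node 1 (.one ⟨12179, 0, 8⟩) (.one ⟨5547, 1, 8⟩)) (.node 1 (.one ⟨2718, 2, 3⟩) (.one ⟨2347, 2, 8⟩)))) (.node 4 (.node 2 (.node 1 (.one ⟨9616, 1, 1⟩) (.one ⟨6879, 0, 8⟩)) (.node 1 (.one ⟨5500, 1, 5⟩) (.one ⟨5478, 1, 10⟩))) (.node 2 (.node 1 (.one ⟨2350, 2, 8⟩) (.one ⟨9654, 1, 6⟩)) (.node 1 (.one ⟨10782, 1, 9⟩) (.one ⟨218, 0, 8⟩))))) (.node 8 (.node 4 (.node 2 (.node 1 (.one ⟨4095, 2, 7⟩) (.one ⟨10029, 1, 4⟩)) (.node 1 (.one ⟨2740, 0, 8⟩) (.one ⟨12897, 2, 5⟩))) (.node 2 (.node 1 (.one ⟨9014, 1, 6⟩) (.one ⟨3956, 1, 1⟩)) (.node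 1 (.one ⟨7358, 1, 8⟩) (.one ⟨15726, 1, 5⟩)))) (.node 4 (.node 2 (.node 1 (.one ⟨2013, 1, 7⟩) (.one ⟨8081, 1, 5⟩)) (.node 1 (.one ⟨9665, 1, 3⟩) (.one ⟨10516, 1, 6⟩))) (.node 2 (.node 1 (.one ⟨8267, 1, 7⟩) (.one ⟨2568, 1, 4⟩)) (.node 1 (.one ⟨16240, 1, 3⟩) (.one ⟨12988, 2, 2⟩)))))) (.node 16 (.node 8 (.node 4 (.node 2 (.node 1 (.one ⟨13303, 0, 7⟩) (.one ⟨14302, 2, 4⟩)) (.node 1 (.one ⟨5646, 2, 3⟩) (.one ⟨6011, 2, 4⟩))) (.node 2 (.node 1 (.one ⟨14558, 2, 6⟩) (.one ⟨2623, 0, 3⟩)) (.node 1 (.one ⟨11410, 1, 7⟩) (.one ⟨15431, 1, 5⟩)))) (.node 4 (.node 2 (.node 1 (.one ⟨2797, 0, 3⟩) (.one ⟨10671, 1, 5⟩)) (.node 1 (.one ⟨15955, 1, 7⟩) (.one ⟨8191, 1, 6⟩))) (.node 2 (.node 1 (.one ⟨2794, 0, 8⟩) (.one ⟨9698, 2, 6⟩)) (.node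 1 (.one ⟨10325, 2, 1⟩) (.one ⟨8471, 1, 3⟩))))) (.node 8 (.node 4 (.node 2 (.node 1 (.one ⟨7797, 0, 4⟩) (.one ⟨7791, 0, 4⟩)) (.node 1 (.one ⟨243, 0, 4⟩) (.one ⟨14025, 2, 4⟩))) (.node 2 (.node 1 (.one ⟨16681, 2, 4⟩) (.one ⟨2911, 1, 5⟩)) (.node 1 (.one ⟨7796, 0, 4⟩) (.one ⟨1905, 1, 3⟩)))) (.node 4 (.node 2 (.node 1 (.one ⟨12763, 1, 8⟩) (.one ⟨3484, 1, 6⟩)) (.node 1 (.one ⟨12144, 1, 6⟩) (.one ⟨8995, 0, 5⟩))) (.node 2 (.node 1 (.one ⟨16741, 2, 4⟩) (.one ⟨16415, 0, 5⟩)) (.node 1 (.one ⟨1424, 0, 9⟩) (.one ⟨921, 0, 5⟩)))))))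
def par7_14_7 : Arr Par :=
  (.node 32 (.node 16 (.node 8 (.node 4 (.node 2 (.node 1 (.one ⟨15318, 0, 2⟩) (.one ⟨6803, 1, 3⟩)) (.node 1 (.one ⟨12305, 1, 7⟩) (.one ⟨7094, 2, 4⟩))) (.node 2 (.node 1 (.one ⟨5228, 0, 2⟩) (.one ⟨9361, 0, 6⟩)) (.node 1 (.one ⟨7311, 0, 8⟩) (.one ⟨7999, 0, 8⟩)))) (.node 4 (.node 2 (.node 1 (.one ⟨15177, 2, 6⟩) (.one ⟨9520, 0, 1⟩)) (.node 1 (.one ⟨7001, 1, 5⟩) (.one ⟨7940, 1, 3⟩))) (.node 2 (.node 1 (.one ⟨15016, 1, 8⟩) (.one ⟨4912, 0, 8⟩)) (.node 1 (.one ⟨4851, 1, 4⟩) (.one ⟨16879, 2, 8⟩))))) (.node 8 (.node 4 (.node 2 (.node 1 (.one ⟨619, 2, 4⟩) (.one ⟨3919, 2, 8⟩)) (.node 1 (.one ⟨11562, 1, 8⟩) (.one ⟨9590, 2, 6⟩))) (.node 2 (.node 1 (.one ⟨8803, 2, 6⟩) (.one ⟨6637, 2, 6⟩)) (.node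 1 (.one ⟨11978, 2, 8⟩) (.one ⟨3858, 1, 0⟩)))) (.node 4 (.node 2 (.node 1 (.one ⟨11363, 0, 1⟩) (.one ⟨10449, 1, 3⟩)) (.node 1 (.one ⟨11163, 1, 8⟩) (.one ⟨17038, 1, 3⟩))) (.node 2 (.node 1 (.one ⟨16167, 1, 7⟩) (.one ⟨5655, 1, 5⟩)) (.node 1 (.one ⟨16665, 2, 8⟩) (.one ⟨12613, 1, 3⟩)))))) (.node 16 (.node 8 (.node 4 (.node 2 (.node 1 (.one ⟨8298, 1, 5⟩) (.one ⟨8447, 1, 4⟩)) (.node 1 (.one ⟨12404, 1, 9⟩) (.one ⟨3631, 1, 3⟩))) (.node 2 (.node 1 (.one ⟨16926, 1, 9⟩) (.one ⟨15974, 1, 7⟩)) (.node 1 (.one ⟨14795, 2, 4⟩) (.one ⟨8662, 1, 7⟩)))) (.node 4 (.node 2 (.node 1 (.one ⟨3434, 2, 4⟩) (.one ⟨12787, 2, 7⟩)) (.node 1 (.one ⟨14399, 2, 5⟩) (.one ⟨4484, 2, 6⟩))) (.node 2 (.node 1 (.one ⟨15918, 1, 5⟩) (.one ⟨1005, 0, 3⟩))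 (.node 1 (.one ⟨9640, 2, 4⟩) (.one ⟨9362, 0, 3⟩))))) (.node 8 (.node 4 (.node 2 (.node 1 (.one ⟨13649, 1, 2⟩) (.one ⟨15015, 1, 4⟩)) (.node 1 (.one ⟨16047, 2, 6⟩) (.one ⟨7854, 0, 5⟩))) (.node 2 (.node 1 (.one ⟨4159, 1, 8⟩) (.one ⟨5066, 1, 4⟩)) (.node 1 (.one ⟨10974, 1, 8⟩) (.one ⟨4140, 1, 0⟩)))) (.node 4 (.node 2 (.node 1 (.one ⟨12056, 2, 3⟩) (.one ⟨4440, 2, 5⟩)) (.node 1 (.one ⟨9524, 0, 7⟩) (.one ⟨10173, 2, 8⟩))) (.node 2 (.node 1 (.one ⟨16615, 0, 7⟩) (.one ⟨11891, 0, 5⟩)) (.node 1 (.one ⟨666, 2, 7⟩) (.one ⟨885, 0, 7⟩)))))))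
def par7_14_8 : Arr Par :=
  (.node 32 (.node 16 (.node 8 (.node 4 (.node 2 (.node 1 (.one ⟨11503, 1, 4⟩) (.one ⟨5422, 1, 4⟩)) (.node 1 (.one ⟨371, 0, 3⟩) (.one ⟨11616, 1, 4⟩))) (.node 2 (.node 1 (.one ⟨14842, 2, 8⟩) (.one ⟨13138, 2, 5⟩)) (.node 1 (.one ⟨7189, 2, 4⟩) (.one ⟨12512, 1, 9⟩)))) (.node 4 (.node 2 (.node 1 (.one ⟨12314, 1, 5⟩) (.one ⟨9212, 1, 3⟩)) (.node 1 (.one ⟨9789, 1, 10⟩) (.one ⟨1713, 1, 6⟩))) (.node 2 (.node 1 (.one ⟨11840, 2, 6⟩) (.one ⟨4953, 2, 5⟩)) (.node 1 (.one ⟨4462, 1, 4⟩) (.one ⟨3567, 1, 6⟩))))) (.node 8 (.node 4 (.node 2 (.node 1 (.one ⟨8926, 1, 5⟩) (.one ⟨15670, 1, 6⟩)) (.node 1 (.one ⟨3556, 2, 6⟩) (.one ⟨10189, 2, 7⟩))) (.node 2 (.node 1 (.one ⟨5574, 1, 7⟩) (.one ⟨12164, 2, 7⟩))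 (.node 1 (.one ⟨1434, 0, 4⟩) (.one ⟨485, 0, 4⟩)))) (.node 4 (.node 2 (.node 1 (.one ⟨7879, 0, 8⟩) (.one ⟨7373, 1, 9⟩)) (.node 1 (.one ⟨12234, 1, 9⟩) (.one ⟨15849, 2, 4⟩))) (.node 2 (.node 1 (.one ⟨14486, 1, 8⟩) (.one ⟨15848, 2, 8⟩)) (.node 1 (.one ⟨15851, 2, 8⟩) (.one ⟨12022, 2, 7⟩)))))) (.node 16 (.node 8 (.node 4 (.node 2 (.node 1 (.one ⟨9533, 0, 6⟩) (.one ⟨10412, 1, 5⟩)) (.node 1 (.one ⟨3288, 1, 3⟩) (.one ⟨15225, 1, 4⟩))) (.node 2 (.node 1 (.one ⟨11635, 2, 6⟩) (.one ⟨8566, 0, 5⟩)) (.node 1 (.one ⟨6938, 1, 5⟩) (.one ⟨14229, 1, 6⟩)))) (.node 4 (.node 2 (.node 1 (.one ⟨1356, 1, 3⟩) (.one ⟨11982, 2, 6⟩)) (.node 1 (.one ⟨13762, 2, 8⟩) (.one ⟨4298, 1, 3⟩))) (.node 2 (.node 1 (.one ⟨16183, 1, 5⟩) (.one ⟨12026,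 2, 4⟩)) (.node 1 (.one ⟨13907, 2, 8⟩) (.one ⟨14021, 1, 3⟩))))) (.node 8 (.node 4 (.node 2 (.node 1 (.one ⟨13166, 0, 5⟩) (.one ⟨8309, 1, 2⟩)) (.node 1 (.one ⟨614, 0, 9⟩) (.one ⟨15618, 0, 5⟩))) (.node 2 (.node 1 (.one ⟨1244, 2, 8⟩) (.one ⟨10118, 1, 2⟩)) (.node 1 (.one ⟨7225, 1, 3⟩) (.one ⟨6982, 1, 5⟩)))) (.node 4 (.node 2 (.node 1 (.one ⟨11949, 0, 6⟩) (.one ⟨1048, 2, 2⟩)) (.node 1 (.one ⟨12331, 1, 5⟩) (.one ⟨13913, 0, 2⟩))) (.node 2 (.node 1 (.one ⟨7586, 0, 7⟩) (.one ⟨7053, 1, 6⟩)) (.node 1 (.one ⟨8941, 1, 6⟩) (.one ⟨12983, 2, 2⟩)))))))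
def par7_14_9 : Arr Par :=
  (.node 32 (.node 16 (.node 8 (.node 4 (.node 2 (.node 1 (.one ⟨7631, 0, 6⟩) (.one ⟨10535, 0, 6⟩)) (.node 1 (.one ⟨12529, 1, 3⟩) (.one ⟨12255, 0, 2⟩))) (.node 2 (.node 1 (.one ⟨10607, 0, 4⟩) (.one ⟨13032, 2, 2⟩)) (.node 1 (.one ⟨1352, 2, 8⟩) (.one ⟨3966, 2, 7⟩)))) (.node 4 (.node 2 (.node 1 (.one ⟨799, 2, 6⟩) (.one ⟨7313, 1, 8⟩)) (.node 1 (.one ⟨6515, 1, 4⟩) (.one ⟨5162, 1, 7⟩))) (.node 2 (.node 1 (.one ⟨4291, 1, 7⟩) (.one ⟨1286, 1, 4⟩)) (.node 1 (.one ⟨2903, 1, 2⟩) (.one ⟨175, 0, 9⟩))))) (.node 8 (.node 4 (.node 2 (.node 1 (.one ⟨1025, 1, 2⟩) (.one ⟨17164, 1, 7⟩)) (.node 1 (.one ⟨14478, 0, 6⟩) (.one ⟨2427, 2, 3⟩))) (.node 2 (.node 1 (.one ⟨11998, 2, 7⟩) (.one ⟨14526, 1, 7⟩)) (.node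 1 (.one ⟨3181, 1, 3⟩) (.one ⟨12089, 2, 5⟩)))) (.node 4 (.node 2 (.node 1 (.one ⟨8187, 2, 7⟩) (.one ⟨2510, 2, 5⟩)) (.node 1 (.one ⟨15350, 1, 4⟩) (.one ⟨7665, 1, 6⟩))) (.node 2 (.node 1 (.one ⟨11846, 2, 4⟩) (.one ⟨13247, 1, 5⟩)) (.node 1 (.one ⟨491, 1, 4⟩) (.one ⟨10693, 1, 5⟩)))))) (.node 16 (.node 8 (.node 4 (.node 2 (.node 1 (.one ⟨15966, 1, 6⟩) (.one ⟨7381, 1, 7⟩)) (.node 1 (.one ⟨2429, 2, 4⟩) (.one ⟨8181, 1, 7⟩))) (.node 2 (.node 1 (.one ⟨236, 1, 2⟩) (.one ⟨13603, 1, 7⟩)) (.node 1 (.one ⟨2622, 2, 3⟩) (.one ⟨3714, 0, 5⟩)))) (.node 4 (.node 2 (.node 1 (.one ⟨11454, 2, 7⟩) (.one ⟨13046, 1, 6⟩)) (.node 1 (.one ⟨11099, 1, 8⟩) (.one ⟨12664, 2, 7⟩))) (.node 2 (.node 1 (.one ⟨7820, 1, 8⟩) (.one ⟨8025, 2, 5⟩)) (.node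 1 (.one ⟨16668, 1, 6⟩) (.one ⟨685, 0, 8⟩))))) (.node 8 (.node 4 (.node 2 (.node 1 (.one ⟨11069, 1, 8⟩) (.one ⟨3389, 1, 2⟩)) (.node 1 (.one ⟨7871, 0, 3⟩) (.one ⟨2252, 0, 4⟩))) (.node 2 (.node 1 (.one ⟨11886, 1, 4⟩) (.one ⟨12946, 2, 7⟩)) (.node 1 (.one ⟨4540, 1, 10⟩) (.one ⟨17085, 2, 8⟩)))) (.node 4 (.node 2 (.node 1 (.one ⟨12591, 2, 5⟩) (.one ⟨4402, 2, 4⟩)) (.node 1 (.one ⟨7118, 1, 8⟩) (.one ⟨12130, 1, 1⟩))) (.node 2 (.node 1 (.one ⟨16214, 0, 9⟩) (.one ⟨10768, 0, 6⟩)) (.node 1 (.one ⟨10348, 0, 4⟩) (.one ⟨13675, 0, 6⟩)))))))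
def par7_14_10 : Arr Par :=
  (.node 32 (.node 16 (.node 8 (.node 4 (.node 2 (.node 1 (.one ⟨15361, 0, 6⟩) (.one ⟨9823, 2, 5⟩)) (.node 1 (.one ⟨13328, 0, 2⟩) (.one ⟨9271, 1, 2⟩))) (.node 2 (.node 1 (.one ⟨16845, 0, 9⟩) (.one ⟨14793, 2, 2⟩)) (.node 1 (.one ⟨11356, 0, 5⟩) (.one ⟨7793, 1, 8⟩)))) (.node 4 (.node 2 (.node 1 (.one ⟨15767, 0, 5⟩) (.one ⟨3507, 0, 4⟩)) (.node 1 (.one ⟨2415, 2, 5⟩) (.one ⟨13537, 2, 4⟩))) (.node 2 (.node 1 (.one ⟨3180, 2, 4⟩) (.one ⟨13346, 0, 4⟩)) (.node 1 (.one ⟨13923, 2, 2⟩) (.one ⟨9982, 2, 9⟩))))) (.node 8 (.node 4 (.node 2 (.node 1 (.one ⟨8372, 1, 4⟩) (.one ⟨352, 1, 8⟩)) (.node 1 (.one ⟨13354, 1, 8⟩) (.one ⟨6535, 1, 8⟩))) (.node 2 (.node 1 (.one ⟨16727, 1, 6⟩) (.one ⟨10110, 1, 6⟩))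 (.node 1 (.one ⟨5349, 1, 3⟩) (.one ⟨12623, 1, 8⟩)))) (.node 4 (.node 2 (.node 1 (.one ⟨11351, 2, 6⟩) (.one ⟨6197, 2, 5⟩)) (.node 1 (.one ⟨9615, 1, 5⟩) (.one ⟨217, 1, 7⟩))) (.node 2 (.node 1 (.one ⟨10743, 1, 8⟩) (.one ⟨13583, 1, 3⟩)) (.node 1 (.one ⟨16207, 2, 8⟩) (.one ⟨6359, 1, 5⟩)))))) (.node 16 (.node 8 (.node 4 (.node 2 (.node 1 (.one ⟨13463, 1, 5⟩) (.one ⟨16777, 1, 7⟩)) (.node 1 (.one ⟨12620, 2, 8⟩) (.one ⟨12855, 1, 5⟩))) (.node 2 (.node 1 (.one ⟨5991, 1, 4⟩) (.one ⟨13676, 2, 6⟩)) (.node 1 (.one ⟨8422, 2, 8⟩) (.one ⟨10026, 0, 3⟩)))) (.node 4 (.node 2 (.node 1 (.one ⟨1324, 1, 7⟩) (.one ⟨10666, 0, 4⟩)) (.node 1 (.one ⟨9051, 1, 6⟩) (.one ⟨4018, 0, 4⟩))) (.node 2 (.node 1 (.one ⟨17015, 2, 4⟩) (.one ⟨3577, 0,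 4⟩)) (.node 1 (.one ⟨4377, 2, 4⟩) (.one ⟨10944, 0, 6⟩))))) (.node 8 (.node 4 (.node 2 (.node 1 (.one ⟨8759, 2, 7⟩) (.one ⟨2297, 1, 5⟩)) (.node 1 (.one ⟨7977, 2, 3⟩) (.one ⟨5674, 1, 6⟩))) (.node 2 (.node 1 (.one ⟨10270, 2, 4⟩) (.one ⟨7091, 0, 5⟩)) (.node 1 (.one ⟨6538, 0, 6⟩) (.one ⟨12212, 2, 4⟩)))) (.node 4 (.node 2 (.node 1 (.one ⟨135, 1, 7⟩) (.one ⟨1026, 1, 5⟩)) (.node 1 (.one ⟨8916, 1, 6⟩) (.one ⟨8915, 1, 9⟩))) (.node 2 (.node 1 (.one ⟨12344, 2, 8⟩) (.one ⟨134, 1, 6⟩)) (.node 1 (.one ⟨8914, 1, 5⟩) (.one ⟨6950, 1, 3⟩)))))))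
def par7_14_11 : Arr Par :=
  (.node 32 (.node 16 (.node 8 (.node 4 (.node 2 (.node 1 (.one ⟨4982, 0, 1⟩) (.one ⟨4774, 1, 7⟩)) (.node 1 (.one ⟨12414, 0, 7⟩) (.one ⟨6831, 1, 5⟩))) (.node 2 (.node 1 (.one ⟨3761, 1, 4⟩) (.one ⟨4736, 1, 5⟩)) (.node 1 (.one ⟨12313, 2, 7⟩) (.one ⟨11684, 2, 6⟩)))) (.node 4 (.node 2 (.node 1 (.one ⟨3026, 1, 8⟩) (.one ⟨8878, 1, 4⟩)) (.node 1 (.one ⟨16802, 1, 9⟩) (.one ⟨4757, 2, 4⟩))) (.node 2 (.node 1 (.one ⟨5934, 2, 9⟩) (.one ⟨2444, 2, 4⟩)) (.node 1 (.one ⟨11437, 1, 9⟩) (.one ⟨1695, 1, 7⟩))))) (.node 8 (.node 4 (.node 2 (.node 1 (.one ⟨11365, 0, 2⟩) (.one ⟨1695, 2, 7⟩)) (.node 1 (.one ⟨7313, 0, 8⟩) (.one ⟨688, 0, 5⟩))) (.node 2 (.node 1 (.one ⟨4555, 1, 5⟩) (.one ⟨4730, 1, 5⟩)) (.node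 1 (.one ⟨14574, 1, 5⟩) (.one ⟨15290, 2, 3⟩)))) (.node 4 (.node 2 (.node 1 (.one ⟨15203, 1, 5⟩) (.one ⟨11791, 2, 5⟩)) (.node 1 (.one ⟨14568, 1, 5⟩) (.one ⟨8460, 1, 3⟩))) (.node 2 (.node 1 (.one ⟨2895, 1, 6⟩) (.one ⟨9039, 2, 3⟩)) (.node 1 (.one ⟨145, 1, 9⟩) (.one ⟨3415, 1, 6⟩)))))) (.node 16 (.node 8 (.node 4 (.node 2 (.node 1 (.one ⟨17133, 1, 3⟩) (.one ⟨14194, 0, 4⟩)) (.node 1 (.one ⟨6666, 2, 7⟩) (.one ⟨9717, 2, 6⟩))) (.node 2 (.node 1 (.one ⟨1236, 1, 3⟩) (.one ⟨16677, 1, 6⟩)) (.node 1 (.one ⟨3056, 1, 8⟩) (.one ⟨15413, 1, 8⟩)))) (.node 4 (.node 2 (.node 1 (.one ⟨6322, 1, 6⟩) (.one ⟨15313, 0, 6⟩)) (.node 1 (.one ⟨6357, 1, 4⟩) (.one ⟨15461, 1, 1⟩))) (.node 2 (.node 1 (.one ⟨6372, 1, 3⟩) (.one ⟨2229, 2, 6⟩)) (.node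 1 (.one ⟨6338, 1, 4⟩) (.one ⟨514, 1, 4⟩))))) (.node 8 (.node 4 (.node 2 (.node 1 (.one ⟨870, 1, 4⟩) (.one ⟨513, 1, 3⟩)) (.node 1 (.one ⟨880, 1, 4⟩) (.one ⟨10907, 1, 6⟩))) (.node 2 (.node 1 (.one ⟨13244, 2, 8⟩) (.one ⟨1883, 2, 6⟩)) (.node 1 (.one ⟨10851, 2, 6⟩) (.one ⟨13547, 1, 2⟩)))) (.node 4 (.node 2 (.node 1 (.one ⟨6332, 2, 6⟩) (.one ⟨16091, 1, 4⟩)) (.node 1 (.one ⟨7683, 2, 3⟩) (.one ⟨11875, 2, 5⟩))) (.node 2 (.node 1 (.one ⟨6328, 1, 4⟩) (.one ⟨16669, 1, 8⟩)) (.node 1 (.one ⟨5597, 2, 3⟩) (.one ⟨2931, 0, 2⟩)))))))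
def par7_14_12 : Arr Par :=
  (.node 32 (.node 16 (.node 8 (.node 4 (.node 2 (.node 1 (.one ⟨9526, 1, 7⟩) (.one ⟨7687, 2, 3⟩)) (.node 1 (.one ⟨5728, 2, 4⟩) (.one ⟨9931, 1, 8⟩))) (.node 2 (.node 1 (.one ⟨1699, 2, 3⟩) (.one ⟨13991, 2, 6⟩)) (.node 1 (.one ⟨15714, 2, 3⟩) (.one ⟨15706, 0, 5⟩)))) (.node 4 (.node 2 (.node 1 (.one ⟨6673, 0, 4⟩) (.one ⟨1846, 1, 6⟩)) (.node 1 (.one ⟨7287, 1, 7⟩) (.one ⟨12994, 0, 5⟩))) (.node 2 (.node 1 (.one ⟨1930, 0, 5⟩) (.one ⟨3986, 1, 3⟩)) (.node 1 (.one ⟨8507, 1, 2⟩) (.one ⟨11774, 1, 4⟩))))) (.node 8 (.node 4 (.node 2 (.node 1 (.one ⟨11750, 2, 5⟩) (.one ⟨8715, 2, 5⟩)) (.node 1 (.one ⟨7978, 1, 5⟩) (.one ⟨13667, 1, 3⟩))) (.node 2 (.node 1 (.one ⟨2246, 2, 8⟩) (.one ⟨15527, 2, 6⟩)) (.node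 1 (.one ⟨3086, 0, 8⟩) (.one ⟨104, 1, 4⟩)))) (.node 4 (.node 2 (.node 1 (.one ⟨10591, 0, 7⟩) (.one ⟨12175, 1, 7⟩)) (.node 1 (.one ⟨7052, 0, 4⟩) (.one ⟨11539, 0, 5⟩))) (.node 2 (.node 1 (.one ⟨2219, 2, 6⟩) (.one ⟨6002, 0, 5⟩)) (.node 1 (.one ⟨12467, 1, 4⟩) (.one ⟨4178, 0, 4⟩)))))) (.node 16 (.node 8 (.node 4 (.node 2 (.node 1 (.one ⟨2185, 2, 3⟩) (.one ⟨2190, 2, 1⟩)) (.node 1 (.one ⟨2188, 2, 5⟩) (.one ⟨2186, 2, 3⟩))) (.node 2 (.node 1 (.one ⟨2184, 2, 5⟩) (.one ⟨9796, 1, 10⟩)) (.node 1 (.one ⟨2189, 2, 6⟩) (.one ⟨10495, 2, 5⟩)))) (.node 4 (.node 2 (.node 1 (.one ⟨5715, 0, 3⟩) (.one ⟨2224, 2, 5⟩)) (.node 1 (.one ⟨12168, 1, 8⟩) (.one ⟨4833, 2, 1⟩))) (.node 2 (.node 1 (.one ⟨5835, 1, 9⟩) (.one ⟨12641, 2, 4⟩)) (.node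 1 (.one ⟨3571, 1, 2⟩) (.one ⟨11226, 0, 8⟩))))) (.node 8 (.node 4 (.node 2 (.node 1 (.one ⟨10163, 1, 8⟩) (.one ⟨4125, 2, 8⟩)) (.node 1 (.one ⟨2218, 1, 5⟩) (.one ⟨5350, 2, 5⟩))) (.node 2 (.node 1 (.one ⟨15910, 1, 5⟩) (.one ⟨167, 2, 5⟩)) (.node 1 (.one ⟨7735, 1, 4⟩) (.one ⟨1391, 1, 3⟩)))) (.node 4 (.node 2 (.node 1 (.one ⟨11640, 0, 4⟩) (.one ⟨13507, 1, 3⟩)) (.node 1 (.one ⟨9132, 1, 6⟩) (.one ⟨14131, 1, 5⟩))) (.node 2 (.node 1 (.one ⟨1936, 1, 5⟩) (.one ⟨8875, 1, 7⟩)) (.node 1 (.one ⟨13378, 2, 5⟩) (.one ⟨16877, 0, 2⟩)))))))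
def par7_14_13 : Arr Par :=
  (.node 32 (.node 16 (.node 8 (.node 4 (.node 2 (.node 1 (.one ⟨8835, 1, 5⟩) (.one ⟨11775, 1, 5⟩)) (.node 1 (.one ⟨6536, 0, 5⟩) (.one ⟨12760, 2, 4⟩))) (.node 2 (.node 1 (.one ⟨14021, 2, 3⟩) (.one ⟨6762, 0, 4⟩)) (.node 1 (.one ⟨9078, 0, 7⟩) (.one ⟨8550, 2, 4⟩)))) (.node 4 (.node 2 (.node 1 (.one ⟨1135, 1, 6⟩) (.one ⟨16924, 1, 5⟩)) (.node 1 (.one ⟨8546, 2, 2⟩) (.one ⟨9978, 1, 8⟩))) (.node 2 (.node 1 (.one ⟨8549, 2, 8⟩) (.one ⟨8545, 2, 8⟩)) (.node 1 (.one ⟨9133, 1, 5⟩) (.one ⟨1064, 0, 3⟩))))) (.node 8 (.node 4 (.node 2 (.node 1 (.one ⟨1051, 0, 3⟩) (.one ⟨8875, 2, 7⟩)) (.node 1 (.one ⟨373, 0, 8⟩) (.one ⟨12978, 1, 4⟩))) (.node 2 (.node 1 (.one ⟨975, 1, 6⟩) (.one ⟨4036, 1, 4⟩)) (.node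 1 (.one ⟨11504, 1, 6⟩) (.one ⟨17011, 1, 6⟩)))) (.node 4 (.node 2 (.node 1 (.one ⟨12962, 0, 6⟩) (.one ⟨10191, 0, 8⟩)) (.node 1 (.one ⟨7024, 1, 6⟩) (.one ⟨4067, 1, 0⟩))) (.node 2 (.node 1 (.one ⟨3613, 1, 9⟩) (.one ⟨10776, 1, 7⟩)) (.node 1 (.one ⟨10069, 0, 6⟩) (.one ⟨3631, 0, 3⟩)))))) (.node 16 (.node 8 (.node 4 (.node 2 (.node 1 (.one ⟨3184, 0, 4⟩) (.one ⟨938, 2, 5⟩)) (.node 1 (.one ⟨713, 2, 8⟩) (.one ⟨4014, 0, 4⟩))) (.node 2 (.node 1 (.one ⟨5852, 1, 3⟩) (.one ⟨3200, 1, 5⟩)) (.node 1 (.one ⟨151, 2, 8⟩) (.one ⟨8524, 2, 5⟩)))) (.node 4 (.node 2 (.node 1 (.one ⟨9407, 2, 1⟩) (.one ⟨9616, 2, 1⟩)) (.node 1 (.one ⟨333, 1, 5⟩) (.one ⟨7739, 0, 8⟩))) (.node 2 (.node 1 (.one ⟨16633, 2, 5⟩) (.one ⟨16669, 2, 8⟩)) (.node 1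 (.one ⟨1170, 2, 8⟩) (.one ⟨4319, 1, 8⟩))))) (.node 8 (.node 4 (.node 2 (.node 1 (.one ⟨2454, 0, 9⟩) (.one ⟨2072, 0, 4⟩)) (.node 1 (.one ⟨12046, 1, 7⟩) (.one ⟨12298, 1, 4⟩))) (.node 2 (.node 1 (.one ⟨2875, 0, 5⟩) (.one ⟨5589, 2, 6⟩)) (.node 1 (.one ⟨3931, 1, 6⟩) (.one ⟨8130, 1, 4⟩)))) (.node 4 (.node 2 (.node 1 (.one ⟨8982, 2, 7⟩) (.one ⟨16526, 0, 3⟩)) (.node 1 (.one ⟨5264, 2, 6⟩) (.one ⟨9233, 1, 3⟩))) (.node 2 (.node 1 (.one ⟨1625, 1, 7⟩) (.one ⟨15336, 1, 4⟩)) (.node 1 (.one ⟨7136, 1, 9⟩) (.one ⟨15147, 0, 2⟩)))))))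
def par7_14_14 : Arr Par :=
  (.node 32 (.node 16 (.node 8 (.node 4 (.node 2 (.node 1 (.one ⟨14985, 1, 5⟩) (.one ⟨12544, 0, 8⟩)) (.node 1 (.one ⟨892, 0, 5⟩) (.one ⟨8496, 2, 8⟩))) (.node 2 (.node 1 (.one ⟨3170, 1, 8⟩) (.one ⟨14542, 2, 8⟩)) (.node 1 (.one ⟨10995, 2, 2⟩) (.one ⟨5291, 0, 7⟩)))) (.node 4 (.node 2 (.node 1 (.one ⟨1598, 1, 3⟩) (.one ⟨14680, 2, 6⟩)) (.node 1 (.one ⟨3434, 1, 4⟩) (.one ⟨7835, 2, 4⟩))) (.node 2 (.node 1 (.one ⟨6109, 2, 2⟩) (.one ⟨3880, 2, 4⟩)) (.node 1 (.one ⟨6675, 0, 9⟩) (.one ⟨10102, 1, 6⟩))))) (.node 8 (.node 4 (.node 2 (.node 1 (.one ⟨4815, 1, 7⟩) (.one ⟨12114, 1, 8⟩)) (.node 1 (.one ⟨7737, 2, 6⟩) (.one ⟨8090, 2, 8⟩))) (.node 2 (.node 1 (.one ⟨7499, 2, 4⟩) (.one ⟨1938, 2, 5⟩)) (.node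 1 (.one ⟨11305, 1, 9⟩) (.one ⟨15327, 0, 7⟩)))) (.node 4 (.node 2 (.node 1 (.one ⟨6357, 2, 4⟩) (.one ⟨2101, 1, 3⟩)) (.node 1 (.one ⟨8456, 2, 5⟩) (.one ⟨2145, 0, 8⟩))) (.node 2 (.node 1 (.one ⟨7585, 1, 5⟩) (.one ⟨13347, 0, 2⟩)) (.node 1 (.one ⟨7726, 0, 2⟩) (.one ⟨14642, 2, 7⟩)))))) (.node 16 (.node 8 (.node 4 (.node 2 (.node 1 (.one ⟨28, 2, 6⟩) (.one ⟨8992, 0, 3⟩)) (.node 1 (.one ⟨3463, 1, 7⟩) (.one ⟨10368, 2, 6⟩))) (.node 2 (.node 1 (.one ⟨14251, 1, 3⟩) (.one ⟨13402, 1, 6⟩)) (.node 1 (.one ⟨5199, 2, 7⟩) (.one ⟨3599, 0, 8⟩)))) (.node 4 (.node 2 (.node 1 (.one ⟨16420, 1, 5⟩) (.one ⟨13213, 0, 5⟩)) (.node 1 (.one ⟨533, 0, 5⟩) (.one ⟨15890, 1, 8⟩))) (.node 2 (.node 1 (.one ⟨8452, 0, 8⟩) (.one ⟨15756, 2, 4⟩)) (.node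 1 (.one ⟨16269, 0, 5⟩) (.one ⟨5215, 1, 6⟩))))) (.node 8 (.node 4 (.node 2 (.node 1 (.one ⟨4119, 1, 8⟩) (.one ⟨14207, 2, 4⟩)) (.node 1 (.one ⟨13329, 1, 3⟩) (.one ⟨16658, 2, 4⟩))) (.node 2 (.node 1 (.one ⟨5187, 1, 3⟩) (.one ⟨1341, 2, 4⟩)) (.node 1 (.one ⟨4210, 2, 8⟩) (.one ⟨6369, 1, 5⟩)))) (.node 4 (.node 2 (.node 1 (.one ⟨6213, 2, 5⟩) (.one ⟨14473, 0, 9⟩)) (.node 1 (.one ⟨9272, 1, 2⟩) (.one ⟨11523, 2, 3⟩))) (.node 2 (.node 1 (.one ⟨11160, 1, 4⟩) (.one ⟨657, 0, 8⟩)) (.node 1 (.one ⟨2480, 2, 8⟩) (.one ⟨8285, 2, 5⟩)))))))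
def par7_14_15 : Arr Par :=
  (.node 32 (.node 16 (.node 8 (.node 4 (.node 2 (.node 1 (.one ⟨15460, 1, 10⟩) (.one ⟨17116, 1, 10⟩)) (.node 1 (.one ⟨90, 2, 5⟩) (.one ⟨16180, 2, 5⟩))) (.node 2 (.node 1 (.one ⟨7342, 0, 4⟩) (.one ⟨6669, 2, 2⟩)) (.node 1 (.one ⟨1231, 1, 4⟩) (.one ⟨3954, 1, 7⟩)))) (.node 4 (.node 2 (.node 1 (.one ⟨11951, 1, 8⟩) (.one ⟨15910, 2, 5⟩)) (.node 1 (.one ⟨12992, 1, 5⟩) (.one ⟨7695, 2, 7⟩))) (.node 2 (.node 1 (.one ⟨12823, 1, 8⟩) (.one ⟨15461, 2, 1⟩)) (.node 1 (.one ⟨12438, 1, 7⟩) (.one ⟨1256, 2, 4⟩))))) (.node 8 (.node 4 (.node 2 (.node 1 (.one ⟨6138, 0, 7⟩) (.one ⟨9625, 2, 5⟩)) (.node 1 (.one ⟨15255, 2, 8⟩) (.one ⟨11040, 1, 4⟩))) (.node 2 (.node 1 (.one ⟨11200, 1, 9⟩) (.one ⟨15223, 2, 5⟩))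 (.node 1 (.one ⟨9416, 2, 1⟩) (.one ⟨5663, 1, 9⟩)))) (.node 4 (.node 2 (.node 1 (.one ⟨12599, 1, 8⟩) (.one ⟨8087, 1, 5⟩)) (.node 1 (.one ⟨5955, 2, 4⟩) (.one ⟨2511, 1, 4⟩))) (.node 2 (.node 1 (.one ⟨17103, 1, 4⟩) (.one ⟨16077, 2, 9⟩)) (.node 1 (.one ⟨3670, 2, 6⟩) (.one ⟨924, 2, 6⟩)))))) (.node 16 (.node 8 (.node 4 (.node 2 (.node 1 (.one ⟨12219, 0, 8⟩) (.one ⟨3701, 1, 2⟩)) (.node 1 (.one ⟨3719, 2, 5⟩) (.one ⟨825, 1, 7⟩))) (.node 2 (.node 1 (.one ⟨5395, 2, 2⟩) (.one ⟨3164, 2, 5⟩)) (.node 1 (.one ⟨3600, 0, 6⟩) (.one ⟨13279, 2, 4⟩)))) (.node 4 (.node 2 (.node 1 (.one ⟨13067, 0, 3⟩) (.one ⟨16413, 0, 8⟩)) (.node 1 (.one ⟨14498, 0, 8⟩) (.one ⟨16142, 0, 3⟩))) (.node 2 (.node 1 (.one ⟨7396, 1, 7⟩) (.one ⟨12871, 2, 6⟩))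 (.node 1 (.one ⟨15422, 1, 8⟩) (.one ⟨12346, 2, 4⟩))))) (.node 8 (.node 4 (.node 2 (.node 1 (.one ⟨4907, 1, 6⟩) (.one ⟨12403, 0, 4⟩)) (.node 1 (.one ⟨2292, 0, 9⟩) (.one ⟨12258, 1, 8⟩))) (.node 2 (.node 1 (.one ⟨2966, 0, 5⟩) (.one ⟨8530, 1, 6⟩)) (.node 1 (.one ⟨10105, 2, 3⟩) (.one ⟨13052, 2, 4⟩)))) (.node 4 (.node 2 (.node 1 (.one ⟨4356, 0, 7⟩) (.one ⟨10026, 1, 3⟩)) (.node 1 (.one ⟨6891, 0, 7⟩) (.one ⟨4691, 0, 5⟩))) (.node 2 (.node 1 (.one ⟨6259, 1, 6⟩) (.one ⟨14888, 2, 4⟩)) (.node 1 (.one ⟨12747, 0, 8⟩) (.one ⟨13449, 2, 8⟩)))))))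
def par7_14 : Arr Par :=
  (.node 512 (.node 256 (.node 128 (.node 64 par7_14_0 par7_14_1) (.node 64 par7_14_2 par7_14_3)) (.node 128 (.node 64 par7_14_4 par7_14_5) (.node 64 par7_14_6 par7_14_7))) (.node 256 (.node 128 (.node 64 par7_14_8 par7_14_9) (.node 64 par7_14_10 par7_14_11)) (.node 128 (.node 64 par7_14_12 par7_14_13) (.node 64 par7_14_14 par7_14_15))))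
def par7_15_0 : Arr Par :=
  (.node 32 (.node 16 (.node 8 (.node 4 (.node 2 (.node 1 (.one ⟨3242, 1, 10⟩) (.one ⟨3275, 2, 5⟩)) (.node 1 (.one ⟨15145, 0, 6⟩) (.one ⟨6504, 2, 7⟩))) (.node 2 (.node 1 (.one ⟨2826, 1, 8⟩) (.one ⟨13330, 1, 3⟩)) (.node 1 (.one ⟨4962, 2, 6⟩) (.one ⟨11984, 1, 2⟩)))) (.node 4 (.node 2 (.node 1 (.one ⟨12545, 2, 4⟩) (.one ⟨15912, 1, 7⟩)) (.node 1 (.one ⟨14301, 2, 2⟩) (.one ⟨14557, 2, 2⟩))) (.node 2 (.node 1 (.one ⟨8295, 1, 7⟩) (.one ⟨8602, 1, 2⟩)) (.node 1 (.one ⟨3828, 1, 4⟩) (.one ⟨14572, 1, 6⟩))))) (.node 8 (.node 4 (.node 2 (.node 1 (.one ⟨6767, 1, 9⟩) (.one ⟨11331, 2, 7⟩)) (.node 1 (.one ⟨996, 2, 9⟩) (.one ⟨909, 1, 9⟩))) (.node 2 (.node 1 (.one ⟨11463, 1, 6⟩) (.one ⟨11205, 1, 3⟩))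 (.node 1 (.one ⟨1985, 1, 3⟩) (.one ⟨10890, 0, 2⟩)))) (.node 4 (.node 2 (.node 1 (.one ⟨15465, 1, 6⟩) (.one ⟨7954, 1, 7⟩)) (.node 1 (.one ⟨10710, 1, 5⟩) (.one ⟨11827, 2, 8⟩))) (.node 2 (.node 1 (.one ⟨13552, 1, 7⟩) (.one ⟨17182, 2, 5⟩)) (.node 1 (.one ⟨16263, 1, 1⟩) (.one ⟨17181, 0, 3⟩)))))) (.node 16 (.node 8 (.node 4 (.node 2 (.node 1 (.one ⟨11781, 2, 8⟩) (.one ⟨17181, 1, 3⟩)) (.node 1 (.one ⟨8392, 0, 8⟩) (.one ⟨4727, 1, 10⟩))) (.node 2 (.node 1 (.one ⟨14570, 1, 5⟩) (.one ⟨16851, 2, 6⟩)) (.node 1 (.one ⟨10242, 2, 9⟩) (.one ⟨14042, 2, 3⟩)))) (.node 4 (.node 2 (.node 1 (.one ⟨11220, 2, 5⟩) (.one ⟨1814, 1, 5⟩)) (.node 1 (.one ⟨1766, 1, 7⟩) (.one ⟨10757, 2, 6⟩))) (.node 2 (.node 1 (.one ⟨14024, 0, 9⟩) (.one ⟨12725,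 2, 3⟩)) (.node 1 (.one ⟨16351, 2, 4⟩) (.one ⟨664, 1, 6⟩))))) (.node 8 (.node 4 (.node 2 (.node 1 (.one ⟨9586, 0, 3⟩) (.one ⟨8820, 1, 10⟩)) (.node 1 (.one ⟨12593, 2, 6⟩) (.one ⟨6168, 2, 8⟩))) (.node 2 (.node 1 (.one ⟨14061, 2, 8⟩) (.one ⟨2587, 2, 7⟩)) (.node 1 (.one ⟨10740, 2, 5⟩) (.one ⟨16113, 1, 9⟩)))) (.node 4 (.node 2 (.node 1 (.one ⟨7966, 1, 4⟩) (.one ⟨1225, 2, 3⟩)) (.node 1 (.one ⟨6968, 1, 9⟩) (.one ⟨1078, 0, 5⟩))) (.node 2 (.node 1 (.one ⟨9834, 1, 6⟩) (.one ⟨2351, 0, 3⟩)) (.node 1 (.one ⟨13013, 0, 7⟩) (.one ⟨2054, 0, 4⟩)))))))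
def par7_15_1 : Arr Par :=
  (.node 32 (.node 16 (.node 8 (.node 4 (.node 2 (.node 1 (.one ⟨5178, 0, 5⟩) (.one ⟨7531, 2, 4⟩)) (.node 1 (.one ⟨5982, 1, 2⟩) (.one ⟨5510, 1, 5⟩))) (.node 2 (.node 1 (.one ⟨404, 2, 6⟩) (.one ⟨8773, 1, 5⟩)) (.node 1 (.one ⟨1080, 0, 7⟩) (.one ⟨5833, 1, 4⟩)))) (.node 4 (.node 2 (.node 1 (.one ⟨3985, 1, 0⟩) (.one ⟨8097, 1, 8⟩)) (.node 1 (.one ⟨1137, 1, 5⟩) (.one ⟨13879, 2, 5⟩))) (.node 2 (.node 1 (.one ⟨15307, 1, 8⟩) (.one ⟨11334, 1, 8⟩)) (.node 1 (.one ⟨17188, 1, 3⟩) (.one ⟨1658, 2, 8⟩))))) (.node 8 (.node 4 (.node 2 (.node 1 (.one ⟨5171, 1, 6⟩) (.one ⟨6580, 1, 3⟩)) (.node 1 (.one ⟨950, 0, 5⟩) (.one ⟨13999, 1, 7⟩))) (.node 2 (.node 1 (.one ⟨10888, 1, 6⟩) (.one ⟨16865, 1, 5⟩)) (.node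 1 (.one ⟨12464, 1, 5⟩) (.one ⟨750, 1, 5⟩)))) (.node 4 (.node 2 (.node 1 (.one ⟨2025, 1, 7⟩) (.one ⟨1084, 0, 5⟩)) (.node 1 (.one ⟨9047, 2, 3⟩) (.one ⟨7393, 2, 2⟩))) (.node 2 (.node 1 (.one ⟨9434, 1, 5⟩) (.one ⟨5426, 1, 8⟩)) (.node 1 (.one ⟨11863, 2, 5⟩) (.one ⟨4392, 1, 5⟩)))))) (.node 16 (.node 8 (.node 4 (.node 2 (.node 1 (.one ⟨9766, 1, 6⟩) (.one ⟨17037, 1, 6⟩)) (.node 1 (.one ⟨7040, 1, 6⟩) (.one ⟨3221, 2, 5⟩))) (.node 2 (.node 1 (.one ⟨5798, 0, 9⟩) (.one ⟨5070, 1, 0⟩)) (.node 1 (.one ⟨1074, 0, 8⟩) (.one ⟨8203, 2, 5⟩)))) (.node 4 (.node 2 (.node 1 (.one ⟨9583, 0, 5⟩) (.one ⟨14916, 0, 5⟩)) (.node 1 (.one ⟨7291, 1, 10⟩) (.one ⟨8231, 1, 3⟩))) (.node 2 (.node 1 (.one ⟨16419, 2, 4⟩) (.one ⟨4366, 1, 6⟩)) (.node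 1 (.one ⟨8564, 1, 8⟩) (.one ⟨3376, 0, 6⟩))))) (.node 8 (.node 4 (.node 2 (.node 1 (.one ⟨5489, 2, 9⟩) (.one ⟨7391, 2, 4⟩)) (.node 1 (.one ⟨2768, 2, 4⟩) (.one ⟨893, 1, 7⟩))) (.node 2 (.node 1 (.one ⟨6293, 2, 7⟩) (.one ⟨8313, 1, 3⟩)) (.node 1 (.one ⟨7890, 2, 6⟩) (.one ⟨900, 1, 6⟩)))) (.node 4 (.node 2 (.node 1 (.one ⟨14163, 2, 4⟩) (.one ⟨1006, 0, 2⟩)) (.node 1 (.one ⟨457, 1, 7⟩) (.one ⟨257, 1, 7⟩))) (.node 2 (.node 1 (.one ⟨6184, 2, 7⟩) (.one ⟨8584, 1, 9⟩)) (.node 1 (.one ⟨739, 1, 8⟩) (.one ⟨16519, 1, 5⟩)))))))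
def par7_15_2 : Arr Par :=
  (.node 32 (.node 16 (.node 8 (.node 4 (.node 2 (.node 1 (.one ⟨15759, 1, 8⟩) (.one ⟨8453, 1, 5⟩)) (.node 1 (.one ⟨4142, 2, 4⟩) (.one ⟨12320, 2, 4⟩))) (.node 2 (.node 1 (.one ⟨1231, 0, 4⟩) (.one ⟨14182, 2, 4⟩)) (.node 1 (.one ⟨8434, 1, 5⟩) (.one ⟨1332, 2, 4⟩)))) (.node 4 (.node 2 (.node 1 (.one ⟨600, 2, 5⟩) (.one ⟨10813, 2, 7⟩)) (.node 1 (.one ⟨15426, 1, 3⟩) (.one ⟨2786, 2, 3⟩))) (.node 2 (.node 1 (.one ⟨2754, 2, 2⟩) (.one ⟨502, 0, 3⟩)) (.node 1 (.one ⟨9601, 2, 1⟩) (.one ⟨11901, 1, 8⟩))))) (.node 8 (.node 4 (.node 2 (.node 1 (.one ⟨6625, 1, 5⟩) (.one ⟨11565, 2, 4⟩)) (.node 1 (.one ⟨11561, 2, 8⟩) (.one ⟨497, 0, 8⟩))) (.node 2 (.node 1 (.one ⟨15692, 1, 8⟩) (.one ⟨11562, 2, 8⟩)) (.node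 1 (.one ⟨6405, 1, 8⟩) (.one ⟨14319, 1, 5⟩)))) (.node 4 (.node 2 (.node 1 (.one ⟨1235, 0, 9⟩) (.one ⟨12479, 0, 7⟩)) (.node 1 (.one ⟨2546, 1, 3⟩) (.one ⟨5006, 2, 6⟩))) (.node 2 (.node 1 (.one ⟨11979, 1, 4⟩) (.one ⟨8334, 1, 5⟩)) (.node 1 (.one ⟨9674, 2, 8⟩) (.one ⟨15330, 1, 6⟩)))))) (.node 16 (.node 8 (.node 4 (.node 2 (.node 1 (.one ⟨16762, 2, 7⟩) (.one ⟨13018, 1, 4⟩)) (.node 1 (.one ⟨1007, 0, 4⟩) (.one ⟨16206, 0, 9⟩))) (.node 2 (.node 1 (.one ⟨10751, 2, 5⟩) (.one ⟨4970, 2, 4⟩)) (.node 1 (.one ⟨12466, 2, 6⟩) (.one ⟨13148, 0, 5⟩)))) (.node 4 (.node 2 (.node 1 (.one ⟨15887, 0, 6⟩) (.one ⟨13172, 1, 4⟩)) (.node 1 (.one ⟨12508, 0, 7⟩) (.one ⟨1236, 0, 3⟩))) (.node 2 (.node 1 (.one ⟨8131, 2, 6⟩) (.one ⟨4602, 2, 9⟩))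 (.node 1 (.one ⟨7827, 2, 4⟩) (.one ⟨3510, 1, 5⟩))))) (.node 8 (.node 4 (.node 2 (.node 1 (.one ⟨10990, 0, 6⟩) (.one ⟨9253, 0, 7⟩)) (.node 1 (.one ⟨3584, 1, 3⟩) (.one ⟨13354, 0, 8⟩))) (.node 2 (.node 1 (.one ⟨6984, 2, 5⟩) (.one ⟨658, 0, 5⟩)) (.node 1 (.one ⟨2636, 2, 7⟩) (.one ⟨17014, 2, 6⟩)))) (.node 4 (.node 2 (.node 1 (.one ⟨13938, 1, 8⟩) (.one ⟨12464, 2, 5⟩)) (.node 1 (.one ⟨1346, 0, 6⟩) (.one ⟨9741, 2, 8⟩))) (.node 2 (.node 1 (.one ⟨11545, 1, 4⟩) (.one ⟨9969, 1, 4⟩)) (.node 1 (.one ⟨8306, 1, 4⟩) (.one ⟨15754, 1, 3⟩)))))))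
def par7_15_3 : Arr Par :=
  (.node 32 (.node 16 (.node 8 (.node 4 (.node 2 (.node 1 (.one ⟨8798, 2, 4⟩) (.one ⟨4779, 0, 8⟩)) (.node 1 (.one ⟨9250, 0, 5⟩) (.one ⟨2389, 1, 6⟩))) (.node 2 (.node 1 (.one ⟨5240, 0, 6⟩) (.one ⟨11796, 0, 4⟩)) (.node 1 (.one ⟨13267, 2, 5⟩) (.one ⟨5543, 1, 9⟩)))) (.node 4 (.node 2 (.node 1 (.one ⟨16253, 1, 9⟩) (.one ⟨10726, 1, 9⟩)) (.node 1 (.one ⟨15383, 2, 3⟩) (.one ⟨74, 2, 3⟩))) (.node 2 (.node 1 (.one ⟨12635, 0, 7⟩) (.one ⟨1296, 2, 1⟩)) (.node 1 (.one ⟨1344, 0, 2⟩) (.one ⟨5444, 2, 3⟩))))) (.node 8 (.node 4 (.node 2 (.node 1 (.one ⟨7112, 2, 8⟩) (.one ⟨286, 2, 4⟩)) (.node 1 (.one ⟨15300, 1, 5⟩) (.one ⟨8181, 0, 7⟩))) (.node 2 (.node 1 (.one ⟨11428, 2, 6⟩) (.one ⟨3724, 1, 8⟩)) (.node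 1 (.one ⟨14872, 1, 9⟩) (.one ⟨8567, 1, 8⟩)))) (.node 4 (.node 2 (.node 1 (.one ⟨7070, 1, 5⟩) (.one ⟨12577, 0, 7⟩)) (.node 1 (.one ⟨642, 2, 8⟩) (.one ⟨16944, 1, 5⟩))) (.node 2 (.node 1 (.one ⟨15301, 1, 3⟩) (.one ⟨4249, 1, 6⟩)) (.node 1 (.one ⟨2731, 1, 5⟩) (.one ⟨16302, 1, 8⟩)))))) (.node 16 (.node 8 (.node 4 (.node 2 (.node 1 (.one ⟨16269, 1, 5⟩) (.one ⟨8228, 1, 5⟩)) (.node 1 (.one ⟨8335, 2, 6⟩) (.one ⟨16282, 1, 5⟩))) (.node 2 (.node 1 (.one ⟨16250, 1, 4⟩) (.one ⟨8231, 0, 3⟩)) (.node 1 (.one ⟨9465, 2, 4⟩) (.one ⟨9252, 0, 5⟩)))) (.node 4 (.node 2 (.node 1 (.one ⟨11464, 0, 3⟩) (.one ⟨16248, 1, 9⟩)) (.node 1 (.one ⟨8579, 1, 4⟩) (.one ⟨12539, 0, 4⟩))) (.node 2 (.node 1 (.one ⟨12728, 0, 7⟩) (.one ⟨1839, 0, 7⟩)) (.node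 1 (.one ⟨8915, 2, 9⟩) (.one ⟨7739, 1, 8⟩))))) (.node 8 (.node 4 (.node 2 (.node 1 (.one ⟨9175, 0, 6⟩) (.one ⟨5258, 1, 7⟩)) (.node 1 (.one ⟨9867, 1, 9⟩) (.one ⟨3542, 2, 8⟩))) (.node 2 (.node 1 (.one ⟨7642, 1, 8⟩) (.one ⟨337, 2, 7⟩)) (.node 1 (.one ⟨5114, 1, 5⟩) (.one ⟨3072, 1, 6⟩)))) (.node 4 (.node 2 (.node 1 (.one ⟨11302, 2, 7⟩) (.one ⟨9794, 2, 5⟩)) (.node 1 (.one ⟨13304, 0, 1⟩) (.one ⟨12628, 2, 3⟩))) (.node 2 (.node 1 (.one ⟨11596, 1, 2⟩) (.one ⟨11865, 2, 3⟩)) (.node 1 (.one ⟨15068, 1, 7⟩) (.one ⟨6972, 1, 8⟩)))))))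
def par7_15_4 : Arr Par :=
  (.node 32 (.node 16 (.node 8 (.node 4 (.node 2 (.node 1 (.one ⟨8897, 1, 4⟩) (.one ⟨12250, 1, 4⟩)) (.node 1 (.one ⟨104, 2, 4⟩) (.one ⟨3681, 0, 6⟩))) (.node 2 (.node 1 (.one ⟨4507, 2, 5⟩) (.one ⟨2370, 0, 4⟩)) (.node 1 (.one ⟨1482, 0, 6⟩) (.one ⟨10409, 2, 5⟩)))) (.node 4 (.node 2 (.node 1 (.one ⟨10413, 2, 7⟩) (.one ⟨10466, 1, 6⟩)) (.node 1 (.one ⟨10411, 2, 4⟩) (.one ⟨14155, 2, 8⟩))) (.node 2 (.node 1 (.one ⟨14152, 2, 5⟩) (.one ⟨14157, 2, 3⟩)) (.node 1 (.one ⟨9835, 1, 4⟩) (.one ⟨13928, 2, 3⟩))))) (.node 8 (.node 4 (.node 2 (.node 1 (.one ⟨2311, 2, 4⟩) (.one ⟨6678, 0, 7⟩)) (.node 1 (.one ⟨5508, 1, 8⟩) (.one ⟨1476, 0, 4⟩))) (.node 2 (.node 1 (.one ⟨8774, 1, 7⟩) (.one ⟨5256, 1, 3⟩)) (.node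 1 (.one ⟨9916, 1, 2⟩) (.one ⟨7878, 1, 7⟩)))) (.node 4 (.node 2 (.node 1 (.one ⟨16367, 0, 5⟩) (.one ⟨6860, 1, 8⟩)) (.node 1 (.one ⟨14026, 1, 6⟩) (.one ⟨16577, 1, 9⟩))) (.node 2 (.node 1 (.one ⟨7860, 1, 6⟩) (.one ⟨2244, 2, 7⟩)) (.node 1 (.one ⟨6845, 1, 5⟩) (.one ⟨9180, 0, 3⟩)))))) (.node 16 (.node 8 (.node 4 (.node 2 (.node 1 (.one ⟨3195, 2, 6⟩) (.one ⟨4440, 1, 5⟩)) (.node 1 (.one ⟨6631, 0, 2⟩) (.one ⟨12079, 1, 6⟩))) (.node 2 (.node 1 (.one ⟨10895, 1, 7⟩) (.one ⟨10599, 1, 4⟩)) (.node 1 (.one ⟨13087, 1, 4⟩) (.one ⟨12070, 0, 6⟩)))) (.node 4 (.node 2 (.node 1 (.one ⟨7898, 2, 8⟩) (.one ⟨14933, 2, 8⟩)) (.node 1 (.one ⟨4238, 0, 7⟩) (.one ⟨2285, 2, 4⟩))) (.node 2 (.node 1 (.one ⟨4067, 1, 6⟩) (.one ⟨1485, 0, 4⟩)) (.node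 1 (.one ⟨4441, 1, 3⟩) (.one ⟨10828, 2, 5⟩))))) (.node 8 (.node 4 (.node 2 (.node 1 (.one ⟨14926, 2, 3⟩) (.one ⟨13057, 1, 2⟩)) (.node 1 (.one ⟨15380, 1, 7⟩) (.one ⟨8620, 1, 5⟩))) (.node 2 (.node 1 (.one ⟨14643, 2, 7⟩) (.one ⟨8274, 1, 2⟩)) (.node 1 (.one ⟨1876, 0, 5⟩) (.one ⟨9118, 0, 5⟩)))) (.node 4 (.node 2 (.node 1 (.one ⟨5914, 0, 7⟩) (.one ⟨4476, 2, 3⟩)) (.node 1 (.one ⟨4997, 2, 6⟩) (.one ⟨16874, 0, 4⟩))) (.node 2 (.node 1 (.one ⟨14133, 0, 6⟩) (.one ⟨9921, 1, 9⟩)) (.node 1 (.one ⟨11451, 1, 7⟩) (.one ⟨3628, 2, 5⟩)))))))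
def par7_15_5 : Arr Par :=
  (.node 32 (.node 16 (.node 8 (.node 4 (.node 2 (.node 1 (.one ⟨1801, 0, 4⟩) (.one ⟨3435, 1, 6⟩)) (.node 1 (.one ⟨1250, 1, 6⟩) (.one ⟨7257, 1, 6⟩))) (.node 2 (.node 1 (.one ⟨6189, 1, 6⟩) (.one ⟨10031, 0, 4⟩)) (.node 1 (.one ⟨3752, 1, 3⟩) (.one ⟨9675, 1, 8⟩)))) (.node 4 (.node 2 (.node 1 (.one ⟨10757, 1, 6⟩) (.one ⟨11228, 1, 7⟩)) (.node 1 (.one ⟨11177, 1, 4⟩) (.one ⟨6547, 1, 6⟩))) (.node 2 (.node 1 (.one ⟨5931, 1, 7⟩) (.one ⟨5795, 2, 6⟩)) (.node 1 (.one ⟨8331, 2, 4⟩) (.one ⟨12940, 1, 5⟩))))) (.node 8 (.node 4 (.node 2 (.node 1 (.one ⟨13058, 1, 7⟩) (.one ⟨6418, 1, 6⟩)) (.node 1 (.one ⟨1923, 0, 7⟩) (.one ⟨478, 0, 7⟩))) (.node 2 (.node 1 (.one ⟨5960, 1, 2⟩) (.one ⟨10036, 0, 5⟩)) (.node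 1 (.one ⟨13462, 1, 6⟩) (.one ⟨4442, 2, 4⟩)))) (.node 4 (.node 2 (.node 1 (.one ⟨12421, 2, 4⟩) (.one ⟨9758, 2, 4⟩)) (.node 1 (.one ⟨1761, 2, 4⟩) (.one ⟨10576, 0, 2⟩))) (.node 2 (.node 1 (.one ⟨810, 2, 3⟩) (.one ⟨4199, 2, 9⟩)) (.node 1 (.one ⟨12553, 2, 4⟩) (.one ⟨4002, 1, 8⟩)))))) (.node 16 (.node 8 (.node 4 (.node 2 (.node 1 (.one ⟨2922, 1, 5⟩) (.one ⟨1382, 1, 3⟩)) (.node 1 (.one ⟨5372, 1, 2⟩) (.one ⟨12196, 1, 6⟩))) (.node 2 (.node 1 (.one ⟨10656, 0, 4⟩) (.one ⟨9810, 1, 8⟩)) (.node 1 (.one ⟨13591, 1, 4⟩) (.one ⟨7255, 1, 7⟩)))) (.node 4 (.node 2 (.node 1 (.one ⟨10148, 1, 5⟩) (.one ⟨13451, 1, 3⟩)) (.node 1 (.one ⟨7738, 1, 2⟩) (.one ⟨14645, 1, 4⟩))) (.node 2 (.node 1 (.one ⟨16906, 0, 7⟩) (.one ⟨4964, 1, 6⟩)) (.node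 1 (.one ⟨2886, 2, 4⟩) (.one ⟨11146, 2, 9⟩))))) (.node 8 (.node 4 (.node 2 (.node 1 (.one ⟨648, 1, 4⟩) (.one ⟨4038, 1, 5⟩)) (.node 1 (.one ⟨5419, 1, 4⟩) (.one ⟨8388, 2, 8⟩))) (.node 2 (.node 1 (.one ⟨7792, 2, 4⟩) (.one ⟨4799, 1, 4⟩)) (.node 1 (.one ⟨2793, 2, 7⟩) (.one ⟨1990, 1, 6⟩)))) (.node 4 (.node 2 (.node 1 (.one ⟨7989, 1, 10⟩) (.one ⟨7614, 1, 6⟩)) (.node 1 (.one ⟨1075, 1, 4⟩) (.one ⟨6739, 1, 5⟩))) (.node 2 (.node 1 (.one ⟨680, 2, 5⟩) (.one ⟨11129, 2, 7⟩)) (.node 1 (.one ⟨14718, 2, 5⟩) (.one ⟨4004, 1, 5⟩)))))))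
def par7_15_6 : Arr Par :=
  (.node 32 (.node 16 (.node 8 (.node 4 (.node 2 (.node 1 (.one ⟨3338, 2, 6⟩) (.one ⟨16340, 1, 3⟩)) (.node 1 (.one ⟨1158, 1, 8⟩) (.one ⟨11720, 1, 5⟩))) (.node 2 (.node 1 (.one ⟨6345, 0, 4⟩) (.one ⟨7672, 1, 5⟩)) (.node 1 (.one ⟨10609, 1, 7⟩) (.one ⟨14566, 1, 7⟩)))) (.node 4 (.node 2 (.node 1 (.one ⟨9668, 1, 3⟩) (.one ⟨12337, 1, 5⟩)) (.node 1 (.one ⟨1808, 0, 2⟩) (.one ⟨6513, 1, 8⟩))) (.node 2 (.node 1 (.one ⟨1527, 1, 3⟩) (.one ⟨4245, 1, 7⟩)) (.node 1 (.one ⟨7673, 1, 7⟩) (.one ⟨15125, 1, 7⟩))))) (.node 8 (.node 4 (.node 2 (.node 1 (.one ⟨4800, 1, 5⟩) (.one ⟨9481, 1, 5⟩)) (.node 1 (.one ⟨4639, 2, 7⟩) (.one ⟨5907, 1, 5⟩))) (.node 2 (.node 1 (.one ⟨1674, 2, 5⟩) (.one ⟨2914, 1, 7⟩)) (.node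 1 (.one ⟨1622, 2, 5⟩) (.one ⟨2171, 2, 4⟩)))) (.node 4 (.node 2 (.node 1 (.one ⟨100, 1, 5⟩) (.one ⟨7751, 1, 6⟩)) (.node 1 (.one ⟨9862, 2, 2⟩) (.one ⟨100, 0, 5⟩))) (.node 2 (.node 1 (.one ⟨13035, 2, 7⟩) (.one ⟨3910, 0, 2⟩)) (.node 1 (.one ⟨12817, 2, 9⟩) (.one ⟨4070, 0, 6⟩)))))) (.node 16 (.node 8 (.node 4 (.node 2 (.node 1 (.one ⟨9267, 1, 3⟩) (.one ⟨4111, 2, 5⟩)) (.node 1 (.one ⟨12507, 1, 1⟩) (.one ⟨4032, 2, 4⟩))) (.node 2 (.node 1 (.one ⟨11205, 2, 3⟩) (.one ⟨9011, 1, 8⟩)) (.node 1 (.one ⟨1542, 2, 3⟩) (.one ⟨6920, 0, 5⟩)))) (.node 4 (.node 2 (.node 1 (.one ⟨6354, 0, 7⟩) (.one ⟨12133, 1, 6⟩)) (.node 1 (.one ⟨4961, 1, 7⟩) (.one ⟨16984, 2, 4⟩))) (.node 2 (.node 1 (.one ⟨2166, 0, 7⟩) (.one ⟨6165, 0, 7⟩)) (.node 1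 (.one ⟨7289, 0, 7⟩) (.one ⟨15580, 1, 4⟩))))) (.node 8 (.node 4 (.node 2 (.node 1 (.one ⟨3956, 2, 1⟩) (.one ⟨16119, 1, 6⟩)) (.node 1 (.one ⟨9232, 0, 6⟩) (.one ⟨348, 0, 5⟩))) (.node 2 (.node 1 (.one ⟨3076, 2, 3⟩) (.one ⟨10821, 2, 3⟩)) (.node 1 (.one ⟨9363, 1, 4⟩) (.one ⟨7761, 2, 7⟩)))) (.node 4 (.node 2 (.node 1 (.one ⟨4471, 0, 3⟩) (.one ⟨13308, 1, 4⟩)) (.node 1 (.one ⟨1248, 1, 6⟩) (.one ⟨16074, 2, 8⟩))) (.node 2 (.node 1 (.one ⟨9912, 2, 6⟩) (.one ⟨11811, 1, 3⟩)) (.node 1 (.one ⟨7537, 2, 5⟩) (.one ⟨11766, 1, 7⟩)))))))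
def par7_15_7 : Arr Par :=
  (.node 32 (.node 16 (.node 8 (.node 4 (.node 2 (.node 1 (.one ⟨11152, 0, 3⟩) (.one ⟨8782, 1, 5⟩)) (.node 1 (.one ⟨13415, 1, 3⟩) (.one ⟨4693, 1, 4⟩))) (.node 2 (.node 1 (.one ⟨9338, 0, 6⟩) (.one ⟨16303, 1, 10⟩)) (.node 1 (.one ⟨3974, 1, 5⟩) (.one ⟨8352, 2, 5⟩)))) (.node 4 (.node 2 (.node 1 (.one ⟨16760, 2, 1⟩) (.one ⟨15225, 2, 4⟩)) (.node 1 (.one ⟨5730, 2, 4⟩) (.one ⟨7826, 1, 10⟩))) (.node 2 (.node 1 (.one ⟨17178, 2, 6⟩) (.one ⟨8500, 0, 9⟩)) (.node 1 (.one ⟨14004, 0, 7⟩) (.one ⟨6096, 1, 5⟩))))) (.node 8 (.node 4 (.node 2 (.node 1 (.one ⟨8538, 0, 3⟩) (.one ⟨16574, 0, 6⟩)) (.node 1 (.one ⟨13654, 1, 2⟩) (.one ⟨6737, 1, 6⟩))) (.node 2 (.node 1 (.one ⟨971, 1, 7⟩) (.one ⟨10033, 1, 4⟩))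 (.node 1 (.one ⟨14934, 1, 4⟩) (.one ⟨5610, 1, 9⟩)))) (.node 4 (.node 2 (.node 1 (.one ⟨13717, 1, 4⟩) (.one ⟨2287, 0, 7⟩)) (.node 1 (.one ⟨11917, 2, 2⟩) (.one ⟨11258, 1, 5⟩))) (.node 2 (.node 1 (.one ⟨3150, 1, 5⟩) (.one ⟨5107, 0, 4⟩)) (.node 1 (.one ⟨14546, 2, 7⟩) (.one ⟨11094, 0, 4⟩)))))) (.node 16 (.node 8 (.node 4 (.node 2 (.node 1 (.one ⟨11653, 2, 7⟩) (.one ⟨15144, 2, 4⟩)) (.node 1 (.one ⟨17006, 1, 2⟩) (.one ⟨9341, 0, 5⟩))) (.node 2 (.node 1 (.one ⟨10787, 2, 9⟩) (.one ⟨16863, 1, 6⟩)) (.node 1 (.one ⟨5155, 1, 5⟩) (.one ⟨240, 0, 8⟩)))) (.node 4 (.node 2 (.node 1 (.one ⟨5098, 1, 7⟩) (.one ⟨5965, 1, 3⟩)) (.node 1 (.one ⟨13429, 1, 4⟩) (.one ⟨16905, 1, 7⟩))) (.node 2 (.node 1 (.one ⟨11691, 2, 4⟩) (.one ⟨15115,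 2, 6⟩)) (.node 1 (.one ⟨16666, 0, 7⟩) (.one ⟨3321, 1, 6⟩))))) (.node 8 (.node 4 (.node 2 (.node 1 (.one ⟨3884, 0, 3⟩) (.one ⟨14306, 1, 3⟩)) (.node 1 (.one ⟨16715, 0, 8⟩) (.one ⟨5464, 1, 3⟩))) (.node 2 (.node 1 (.one ⟨9327, 0, 9⟩) (.one ⟨16322, 1, 8⟩)) (.node 1 (.one ⟨6623, 0, 3⟩) (.one ⟨4662, 2, 3⟩)))) (.node 4 (.node 2 (.node 1 (.one ⟨16049, 1, 8⟩) (.one ⟨6288, 1, 8⟩)) (.node 1 (.one ⟨3945, 1, 4⟩) (.one ⟨6989, 2, 9⟩))) (.node 2 (.node 1 (.one ⟨3319, 1, 10⟩) (.one ⟨331, 0, 3⟩)) (.node 1 (.one ⟨14953, 1, 7⟩) (.one ⟨8326, 1, 9⟩)))))))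
def par7_15_8 : Arr Par :=
  (.node 32 (.node 16 (.node 8 (.node 4 (.node 2 (.node 1 (.one ⟨6641, 2, 8⟩) (.one ⟨9996, 2, 3⟩)) (.node 1 (.one ⟨14964, 2, 5⟩) (.one ⟨16412, 1, 4⟩))) (.node 2 (.node 1 (.one ⟨4963, 2, 7⟩) (.one ⟨9117, 1, 5⟩)) (.node 1 (.one ⟨8339, 1, 10⟩) (.one ⟨4750, 1, 4⟩)))) (.node 4 (.node 2 (.node 1 (.one ⟨16234, 0, 3⟩) (.one ⟨8082, 1, 6⟩)) (.node 1 (.one ⟨16429, 2, 5⟩) (.one ⟨15892, 0, 7⟩))) (.node 2 (.node 1 (.one ⟨11935, 1, 7⟩) (.one ⟨1124, 0, 2⟩)) (.node 1 (.one ⟨5047, 0, 7⟩) (.one ⟨12408, 2, 5⟩))))) (.node 8 (.node 4 (.node 2 (.node 1 (.one ⟨10602, 1, 6⟩) (.one ⟨10527, 1, 7⟩)) (.node 1 (.one ⟨3105, 0, 7⟩) (.one ⟨2167, 1, 3⟩))) (.node 2 (.node 1 (.one ⟨12900, 2, 6⟩) (.one ⟨2275, 1, 3⟩))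 (.node 1 (.one ⟨2416, 2, 6⟩) (.one ⟨5579, 1, 5⟩)))) (.node 4 (.node 2 (.node 1 (.one ⟨312, 2, 8⟩) (.one ⟨851, 0, 3⟩)) (.node 1 (.one ⟨8517, 0, 9⟩) (.one ⟨5611, 1, 2⟩))) (.node 2 (.node 1 (.one ⟨14815, 2, 4⟩) (.one ⟨8515, 0, 9⟩)) (.node 1 (.one ⟨902, 0, 3⟩) (.one ⟨16627, 0, 5⟩)))))) (.node 16 (.node 8 (.node 4 (.node 2 (.node 1 (.one ⟨4215, 0, 5⟩) (.one ⟨7130, 0, 4⟩)) (.node 1 (.one ⟨9238, 0, 5⟩) (.one ⟨2206, 2, 3⟩))) (.node 2 (.node 1 (.one ⟨5575, 2, 7⟩) (.one ⟨4245, 2, 7⟩)) (.node 1 (.one ⟨1479, 1, 4⟩) (.one ⟨14807, 0, 1⟩)))) (.node 4 (.node 2 (.node 1 (.one ⟨5413, 2, 6⟩) (.one ⟨11447, 0, 4⟩)) (.node 1 (.one ⟨7770, 2, 6⟩) (.one ⟨5596, 2, 8⟩))) (.node 2 (.node 1 (.one ⟨6027, 2, 6⟩) (.one ⟨1119, 0, 5⟩)) (.node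 1 (.one ⟨3247, 2, 4⟩) (.one ⟨4292, 2, 7⟩))))) (.node 8 (.node 4 (.node 2 (.node 1 (.one ⟨13994, 1, 6⟩) (.one ⟨7998, 2, 5⟩)) (.node 1 (.one ⟨357, 1, 3⟩) (.one ⟨8554, 2, 4⟩))) (.node 2 (.node 1 (.one ⟨2759, 2, 4⟩) (.one ⟨5509, 2, 2⟩)) (.node 1 (.one ⟨15771, 1, 6⟩) (.one ⟨10280, 1, 2⟩)))) (.node 4 (.node 2 (.node 1 (.one ⟨7637, 0, 6⟩) (.one ⟨4511, 1, 4⟩)) (.node 1 (.one ⟨15203, 0, 5⟩) (.one ⟨12261, 0, 6⟩))) (.node 2 (.node 1 (.one ⟨11044, 0, 5⟩) (.one ⟨2896, 0, 6⟩)) (.node 1 (.one ⟨4287, 0, 5⟩) (.one ⟨11831, 1, 6⟩)))))))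
def par7_15_9 : Arr Par :=
  (.node 32 (.node 16 (.node 8 (.node 4 (.node 2 (.node 1 (.one ⟨16183, 0, 5⟩) (.one ⟨6001, 0, 7⟩)) (.node 1 (.one ⟨11934, 1, 8⟩) (.one ⟨345, 0, 5⟩))) (.node 2 (.node 1 (.one ⟨7578, 2, 6⟩) (.one ⟨1483, 1, 8⟩)) (.node 1 (.one ⟨8428, 2, 3⟩) (.one ⟨2174, 1, 3⟩)))) (.node 4 (.node 2 (.node 1 (.one ⟨16201, 0, 6⟩) (.one ⟨16419, 1, 4⟩)) (.node 1 (.one ⟨400, 0, 5⟩) (.one ⟨13999, 0, 7⟩))) (.node 2 (.node 1 (.one ⟨8495, 0, 4⟩) (.one ⟨11908, 2, 8⟩)) (.node 1 (.one ⟨11463, 0, 6⟩) (.one ⟨7888, 1, 8⟩))))) (.node 8 (.node 4 (.node 2 (.node 1 (.one ⟨11893, 2, 5⟩) (.one ⟨8163, 1, 7⟩)) (.node 1 (.one ⟨13540, 1, 5⟩) (.one ⟨15060, 2, 6⟩))) (.node 2 (.node 1 (.one ⟨700, 2, 3⟩) (.one ⟨2521, 2, 9⟩)) (.node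 1 (.one ⟨14589, 0, 5⟩) (.one ⟨10779, 2, 6⟩)))) (.node 4 (.node 2 (.node 1 (.one ⟨1381, 1, 5⟩) (.one ⟨4390, 1, 3⟩)) (.node 1 (.one ⟨193, 0, 4⟩) (.one ⟨2904, 1, 5⟩))) (.node 2 (.node 1 (.one ⟨9778, 1, 8⟩) (.one ⟨12544, 1, 8⟩)) (.node 1 (.one ⟨9762, 0, 5⟩) (.one ⟨9568, 1, 6⟩)))))) (.node 16 (.node 8 (.node 4 (.node 2 (.node 1 (.one ⟨1053, 2, 5⟩) (.one ⟨3197, 1, 7⟩)) (.node 1 (.one ⟨10588, 0, 8⟩) (.one ⟨14789, 2, 7⟩))) (.node 2 (.node 1 (.one ⟨1885, 2, 5⟩) (.one ⟨17100, 1, 5⟩)) (.node 1 (.one ⟨10870, 0, 6⟩) (.one ⟨4062, 1, 6⟩)))) (.node 4 (.node 2 (.node 1 (.one ⟨13441, 0, 7⟩) (.one ⟨9084, 1, 9⟩)) (.node 1 (.one ⟨5249, 2, 8⟩) (.one ⟨2826, 0, 8⟩))) (.node 2 (.node 1 (.one ⟨10665, 0, 4⟩) (.one ⟨11284, 2, 2⟩)) (.node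 1 (.one ⟨1116, 1, 7⟩) (.one ⟨3601, 2, 7⟩))))) (.node 8 (.node 4 (.node 2 (.node 1 (.one ⟨7609, 1, 6⟩) (.one ⟨16728, 1, 2⟩)) (.node 1 (.one ⟨12093, 1, 4⟩) (.one ⟨325, 1, 6⟩))) (.node 2 (.node 1 (.one ⟨7571, 1, 3⟩) (.one ⟨14462, 1, 5⟩)) (.node 1 (.one ⟨11136, 1, 8⟩) (.one ⟨6195, 0, 9⟩)))) (.node 4 (.node 2 (.node 1 (.one ⟨9201, 1, 1⟩) (.one ⟨2779, 0, 4⟩)) (.node 1 (.one ⟨13513, 1, 2⟩) (.one ⟨10802, 1, 2⟩))) (.node 2 (.node 1 (.one ⟨276, 1, 9⟩) (.one ⟨7040, 0, 6⟩)) (.node 1 (.one ⟨11603, 0, 9⟩) (.one ⟨1617, 0, 6⟩)))))))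
def par7_15_10 : Arr Par :=
  (.node 32 (.node 16 (.node 8 (.node 4 (.node 2 (.node 1 (.one ⟨10347, 0, 9⟩) (.one ⟨5136, 0, 6⟩)) (.node 1 (.one ⟨11923, 1, 6⟩) (.one ⟨6495, 2, 5⟩))) (.node 2 (.node 1 (.one ⟨5092, 0, 5⟩) (.one ⟨10392, 0, 2⟩)) (.node 1 (.one ⟨881, 0, 7⟩) (.one ⟨10948, 2, 3⟩)))) (.node 4 (.node 2 (.node 1 (.one ⟨886, 2, 2⟩) (.one ⟨5748, 2, 7⟩)) (.node 1 (.one ⟨9589, 1, 7⟩) (.one ⟨6956, 2, 8⟩))) (.node 2 (.node 1 (.one ⟨13653, 2, 2⟩) (.one ⟨4573, 0, 6⟩)) (.node 1 (.one ⟨3051, 2, 2⟩) (.one ⟨11355, 2, 6⟩))))) (.node 8 (.node 4 (.node 2 (.node 1 (.one ⟨1249, 1, 1⟩) (.one ⟨16841, 2, 8⟩)) (.node 1 (.one ⟨14231, 1, 5⟩) (.one ⟨3737, 1, 3⟩))) (.node 2 (.node 1 (.one ⟨2174, 2, 3⟩) (.one ⟨15841, 1, 5⟩)) (.node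 1 (.one ⟨16911, 1, 5⟩) (.one ⟨10305, 1, 3⟩)))) (.node 4 (.node 2 (.node 1 (.one ⟨15371, 0, 3⟩) (.one ⟨13111, 1, 2⟩)) (.node 1 (.one ⟨14756, 0, 7⟩) (.one ⟨15091, 1, 7⟩))) (.node 2 (.node 1 (.one ⟨7742, 1, 8⟩) (.one ⟨16141, 1, 4⟩)) (.node 1 (.one ⟨6764, 1, 8⟩) (.one ⟨8876, 1, 8⟩)))))) (.node 16 (.node 8 (.node 4 (.node 2 (.node 1 (.one ⟨7359, 0, 2⟩) (.one ⟨3635, 1, 3⟩)) (.node 1 (.one ⟨11512, 1, 7⟩) (.one ⟨12289, 2, 5⟩))) (.node 2 (.node 1 (.one ⟨12756, 0, 4⟩) (.one ⟨5253, 1, 2⟩)) (.node 1 (.one ⟨5982, 2, 2⟩) (.one ⟨14391, 1, 4⟩)))) (.node 4 (.node 2 (.node 1 (.one ⟨5335, 1, 9⟩) (.one ⟨7781, 2, 6⟩)) (.node 1 (.one ⟨15842, 1, 3⟩) (.one ⟨220, 2, 6⟩))) (.node 2 (.node 1 (.one ⟨12616, 2, 6⟩) (.one ⟨2599, 1, 5⟩))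 (.node 1 (.one ⟨16975, 1, 5⟩) (.one ⟨13832, 1, 5⟩))))) (.node 8 (.node 4 (.node 2 (.node 1 (.one ⟨6389, 2, 7⟩) (.one ⟨9818, 0, 7⟩)) (.node 1 (.one ⟨13604, 2, 4⟩) (.one ⟨4220, 1, 8⟩))) (.node 2 (.node 1 (.one ⟨16664, 2, 8⟩) (.one ⟨10365, 1, 7⟩)) (.node 1 (.one ⟨246, 2, 4⟩) (.one ⟨4477, 2, 6⟩)))) (.node 4 (.node 2 (.node 1 (.one ⟨4219, 2, 3⟩) (.one ⟨7761, 1, 7⟩)) (.node 1 (.one ⟨10907, 0, 6⟩) (.one ⟨13297, 1, 7⟩))) (.node 2 (.node 1 (.one ⟨12994, 1, 5⟩) (.one ⟨4036, 2, 4⟩)) (.node 1 (.one ⟨15333, 1, 6⟩) (.one ⟨15317, 1, 6⟩)))))))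
def par7_15_11 : Arr Par :=
  (.node 32 (.node 16 (.node 8 (.node 4 (.node 2 (.node 1 (.one ⟨9857, 0, 5⟩) (.one ⟨5780, 0, 3⟩)) (.node 1 (.one ⟨15176, 1, 7⟩) (.one ⟨807, 0, 7⟩))) (.node 2 (.node 1 (.one ⟨4470, 1, 6⟩) (.one ⟨4429, 1, 7⟩)) (.node 1 (.one ⟨4952, 1, 3⟩) (.one ⟨11930, 1, 6⟩)))) (.node 4 (.node 2 (.node 1 (.one ⟨8459, 1, 4⟩) (.one ⟨3270, 2, 8⟩)) (.node 1 (.one ⟨9482, 1, 7⟩) (.one ⟨12896, 1, 5⟩))) (.node 2 (.node 1 (.one ⟨6454, 2, 7⟩) (.one ⟨3955, 0, 8⟩)) (.node 1 (.one ⟨7807, 2, 5⟩) (.one ⟨5001, 0, 5⟩))))) (.node 8 (.node 4 (.node 2 (.node 1 (.one ⟨9257, 1, 4⟩) (.one ⟨6115, 2, 4⟩)) (.node 1 (.one ⟨14630, 0, 7⟩) (.one ⟨8436, 1, 4⟩))) (.node 2 (.node 1 (.one ⟨6508, 1, 4⟩) (.one ⟨5925, 0, 5⟩)) (.node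 1 (.one ⟨6252, 0, 9⟩) (.one ⟨4741, 1, 5⟩)))) (.node 4 (.node 2 (.node 1 (.one ⟨10020, 2, 5⟩) (.one ⟨101, 0, 4⟩)) (.node 1 (.one ⟨16231, 2, 3⟩) (.one ⟨2528, 2, 3⟩))) (.node 2 (.node 1 (.one ⟨13745, 0, 4⟩) (.one ⟨2213, 1, 5⟩)) (.node 1 (.one ⟨5370, 2, 8⟩) (.one ⟨6108, 2, 4⟩)))))) (.node 16 (.node 8 (.node 4 (.node 2 (.node 1 (.one ⟨16373, 2, 5⟩) (.one ⟨4950, 1, 8⟩)) (.node 1 (.one ⟨1072, 1, 6⟩) (.one ⟨389, 1, 3⟩))) (.node 2 (.node 1 (.one ⟨4958, 1, 6⟩) (.one ⟨14755, 0, 5⟩)) (.node 1 (.one ⟨12899, 1, 8⟩) (.one ⟨4200, 1, 4⟩)))) (.node 4 (.node 2 (.node 1 (.one ⟨9755, 1, 6⟩) (.one ⟨14651, 2, 5⟩)) (.node 1 (.one ⟨4736, 2, 5⟩) (.one ⟨11320, 0, 7⟩))) (.node 2 (.node 1 (.one ⟨16765, 1, 6⟩) (.one ⟨7478, 2, 6⟩)) (.node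 1 (.one ⟨5611, 0, 2⟩) (.one ⟨16996, 2, 4⟩))))) (.node 8 (.node 4 (.node 2 (.node 1 (.one ⟨15624, 0, 8⟩) (.one ⟨9978, 0, 8⟩)) (.node 1 (.one ⟨11955, 1, 4⟩) (.one ⟨16604, 0, 4⟩))) (.node 2 (.node 1 (.one ⟨11374, 0, 7⟩) (.one ⟨13765, 0, 5⟩)) (.node 1 (.one ⟨12238, 0, 6⟩) (.one ⟨566, 2, 5⟩)))) (.node 4 (.node 2 (.node 1 (.one ⟨13337, 2, 6⟩) (.one ⟨1892, 0, 5⟩)) (.node 1 (.one ⟨12572, 2, 4⟩) (.one ⟨10475, 2, 6⟩))) (.node 2 (.node 1 (.one ⟨2324, 0, 2⟩) (.one ⟨11440, 2, 4⟩)) (.node 1 (.one ⟨1938, 1, 5⟩) (.one ⟨3421, 2, 5⟩)))))))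
def par7_15_12 : Arr Par :=
  (.node 32 (.node 16 (.node 8 (.node 4 (.node 2 (.node 1 (.one ⟨4045, 1, 8⟩) (.one ⟨3886, 1, 5⟩)) (.node 1 (.one ⟨15880, 2, 4⟩) (.one ⟨15103, 1, 3⟩))) (.node 2 (.node 1 (.one ⟨17094, 1, 5⟩) (.one ⟨3712, 2, 3⟩)) (.node 1 (.one ⟨15449, 1, 6⟩) (.one ⟨8748, 2, 6⟩)))) (.node 4 (.node 2 (.node 1 (.one ⟨6359, 2, 5⟩) (.one ⟨5599, 0, 7⟩)) (.node 1 (.one ⟨8810, 0, 8⟩) (.one ⟨6946, 0, 6⟩))) (.node 2 (.node 1 (.one ⟨8263, 0, 8⟩) (.one ⟨4118, 0, 3⟩)) (.node 1 (.one ⟨14544, 2, 2⟩) (.one ⟨10047, 1, 2⟩))))) (.node 8 (.node 4 (.node 2 (.node 1 (.one ⟨5524, 1, 7⟩) (.one ⟨6182, 0, 7⟩)) (.node 1 (.one ⟨8504, 1, 2⟩) (.one ⟨13429, 2, 4⟩))) (.node 2 (.node 1 (.one ⟨2736, 1, 3⟩) (.one ⟨2813, 0, 2⟩)) (.node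 1 (.one ⟨11013, 2, 5⟩) (.one ⟨2926, 2, 8⟩)))) (.node 4 (.node 2 (.node 1 (.one ⟨11798, 1, 2⟩) (.one ⟨15312, 2, 8⟩)) (.node 1 (.one ⟨7679, 2, 6⟩) (.one ⟨14188, 0, 7⟩))) (.node 2 (.node 1 (.one ⟨9654, 2, 6⟩) (.one ⟨1247, 1, 10⟩)) (.node 1 (.one ⟨9913, 0, 7⟩) (.one ⟨6210, 2, 8⟩)))))) (.node 16 (.node 8 (.node 4 (.node 2 (.node 1 (.one ⟨6161, 2, 4⟩) (.one ⟨16817, 2, 8⟩)) (.node 1 (.one ⟨2162, 1, 6⟩) (.one ⟨821, 1, 6⟩))) (.node 2 (.node 1 (.one ⟨365, 1, 7⟩) (.one ⟨1058, 1, 8⟩)) (.node 1 (.one ⟨146, 1, 6⟩) (.one ⟨15882, 0, 6⟩)))) (.node 4 (.node 2 (.node 1 (.one ⟨8752, 1, 6⟩) (.one ⟨13207, 2, 4⟩)) (.node 1 (.one ⟨14911, 1, 3⟩) (.one ⟨14679, 1, 7⟩))) (.node 2 (.node 1 (.one ⟨3271, 0, 1⟩) (.one ⟨14063, 0, 3⟩)) (.node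 1 (.one ⟨8904, 0, 9⟩) (.one ⟨12160, 1, 8⟩))))) (.node 8 (.node 4 (.node 2 (.node 1 (.one ⟨8726, 2, 4⟩) (.one ⟨9201, 0, 1⟩)) (.node 1 (.one ⟨2771, 0, 5⟩) (.one ⟨5834, 1, 4⟩))) (.node 2 (.node 1 (.one ⟨7288, 1, 4⟩) (.one ⟨6346, 2, 5⟩)) (.node 1 (.one ⟨12545, 1, 4⟩) (.one ⟨9038, 2, 4⟩)))) (.node 4 (.node 2 (.node 1 (.one ⟨8963, 2, 6⟩) (.one ⟨16964, 0, 6⟩)) (.node 1 (.one ⟨9358, 0, 6⟩) (.one ⟨1920, 1, 4⟩))) (.node 2 (.node 1 (.one ⟨11719, 1, 4⟩) (.one ⟨12412, 0, 6⟩)) (.node 1 (.one ⟨7859, 2, 3⟩) (.one ⟨8797, 0, 7⟩)))))))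
def par7_15_13 : Arr Par :=
  (.node 32 (.node 16 (.node 8 (.node 4 (.node 2 (.node 1 (.one ⟨6213, 1, 5⟩) (.one ⟨14910, 2, 7⟩)) (.node 1 (.one ⟨403, 0, 9⟩) (.one ⟨12839, 2, 9⟩))) (.node 2 (.node 1 (.one ⟨2479, 1, 8⟩) (.one ⟨11728, 2, 6⟩)) (.node 1 (.one ⟨16180, 1, 5⟩) (.one ⟨13415, 0, 3⟩)))) (.node 4 (.node 2 (.node 1 (.one ⟨9353, 0, 7⟩) (.one ⟨835, 2, 5⟩)) (.node 1 (.one ⟨6656, 0, 5⟩) (.one ⟨369, 2, 8⟩))) (.node 2 (.node 1 (.one ⟨14917, 1, 3⟩) (.one ⟨522, 2, 5⟩)) (.node 1 (.one ⟨306, 2, 8⟩) (.one ⟨11764, 1, 7⟩))))) (.node 8 (.node 4 (.node 2 (.node 1 (.one ⟨15854, 1, 8⟩) (.one ⟨15226, 1, 7⟩)) (.node 1 (.one ⟨9354, 0, 8⟩) (.one ⟨12327, 1, 2⟩))) (.node 2 (.node 1 (.one ⟨6287, 2, 8⟩) (.one ⟨14720, 1, 5⟩)) (.node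 1 (.one ⟨11231, 2, 8⟩) (.one ⟨5391, 1, 5⟩)))) (.node 4 (.node 2 (.node 1 (.one ⟨4334, 1, 5⟩) (.one ⟨12494, 2, 6⟩)) (.node 1 (.one ⟨9205, 0, 7⟩) (.one ⟨5327, 1, 3⟩))) (.node 2 (.node 1 (.one ⟨16903, 0, 3⟩) (.one ⟨16566, 2, 8⟩)) (.node 1 (.one ⟨15329, 2, 3⟩) (.one ⟨4073, 2, 6⟩)))))) (.node 16 (.node 8 (.node 4 (.node 2 (.node 1 (.one ⟨4387, 2, 5⟩) (.one ⟨2038, 2, 8⟩)) (.node 1 (.one ⟨3912, 1, 0⟩) (.one ⟨16633, 1, 5⟩))) (.node 2 (.node 1 (.one ⟨10893, 1, 6⟩) (.one ⟨14461, 1, 8⟩)) (.node 1 (.one ⟨8694, 2, 4⟩) (.one ⟨5819, 1, 2⟩)))) (.node 4 (.node 2 (.node 1 (.one ⟨13488, 0, 9⟩) (.one ⟨5912, 1, 5⟩)) (.node 1 (.one ⟨8138, 2, 2⟩) (.one ⟨1480, 1, 4⟩))) (.node 2 (.node 1 (.one ⟨15698, 1, 8⟩) (.one ⟨9206, 0, 2⟩)) (.node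 1 (.one ⟨14187, 0, 7⟩) (.one ⟨16799, 1, 6⟩))))) (.node 8 (.node 4 (.node 2 (.node 1 (.one ⟨9262, 1, 2⟩) (.one ⟨10345, 2, 8⟩)) (.node 1 (.one ⟨7725, 1, 7⟩) (.one ⟨10721, 2, 7⟩))) (.node 2 (.node 1 (.one ⟨623, 0, 5⟩) (.one ⟨17109, 0, 5⟩)) (.node 1 (.one ⟨15414, 1, 6⟩) (.one ⟨5062, 1, 3⟩)))) (.node 4 (.node 2 (.node 1 (.one ⟨11879, 0, 8⟩) (.one ⟨1532, 1, 2⟩)) (.node 1 (.one ⟨5144, 1, 3⟩) (.one ⟨4355, 1, 4⟩))) (.node 2 (.node 1 (.one ⟨2926, 1, 8⟩) (.one ⟨9265, 0, 8⟩)) (.node 1 (.one ⟨4179, 1, 7⟩) (.one ⟨9409, 1, 6⟩)))))))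
def par7_15_14 : Arr Par :=
  (.node 32 (.node 16 (.node 8 (.node 4 (.node 2 (.node 1 (.one ⟨16944, 0, 5⟩) (.one ⟨970, 2, 3⟩)) (.node 1 (.one ⟨12600, 1, 6⟩) (.one ⟨9272, 0, 2⟩))) (.node 2 (.node 1 (.one ⟨12489, 2, 7⟩) (.one ⟨16116, 1, 8⟩)) (.node 1 (.one ⟨2452, 2, 3⟩) (.one ⟨4079, 1, 0⟩)))) (.node 4 (.node 2 (.node 1 (.one ⟨9454, 2, 3⟩) (.one ⟨12547, 2, 8⟩)) (.node 1 (.one ⟨12580, 2, 7⟩) (.one ⟨10105, 1, 3⟩))) (.node 2 (.node 1 (.one ⟨12531, 2, 8⟩) (.one ⟨9613, 2, 4⟩)) (.node 1 (.one ⟨9339, 2, 1⟩) (.one ⟨804, 0, 8⟩))))) (.node 8 (.node 4 (.node 2 (.node 1 (.one ⟨6871, 0, 5⟩) (.one ⟨11589, 2, 6⟩)) (.node 1 (.one ⟨10508, 2, 2⟩) (.one ⟨8877, 1, 7⟩))) (.node 2 (.node 1 (.one ⟨2238, 1, 7⟩) (.one ⟨4671, 0, 4⟩)) (.node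 1 (.one ⟨15481, 1, 3⟩) (.one ⟨12843, 2, 4⟩)))) (.node 4 (.node 2 (.node 1 (.one ⟨2448, 2, 9⟩) (.one ⟨13241, 1, 6⟩)) (.node 1 (.one ⟨10607, 1, 4⟩) (.one ⟨17067, 0, 9⟩))) (.node 2 (.node 1 (.one ⟨12822, 1, 5⟩) (.one ⟨9879, 1, 8⟩)) (.node 1 (.one ⟨5852, 0, 3⟩) (.one ⟨4617, 1, 3⟩)))))) (.node 16 (.node 8 (.node 4 (.node 2 (.node 1 (.one ⟨7889, 2, 7⟩) (.one ⟨15432, 2, 1⟩)) (.node 1 (.one ⟨9270, 0, 4⟩) (.one ⟨3527, 1, 6⟩))) (.node 2 (.node 1 (.one ⟨351, 1, 8⟩) (.one ⟨236, 2, 2⟩)) (.node 1 (.one ⟨6935, 2, 4⟩) (.one ⟨15407, 2, 7⟩)))) (.node 4 (.node 2 (.node 1 (.one ⟨103, 0, 7⟩) (.one ⟨630, 0, 4⟩)) (.node 1 (.one ⟨597, 0, 3⟩) (.one ⟨11618, 1, 5⟩))) (.node 2 (.node 1 (.one ⟨3108, 1, 4⟩) (.one ⟨17080, 0, 3⟩)) (.node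 1 (.one ⟨17079, 0, 7⟩) (.one ⟨8374, 0, 9⟩))))) (.node 8 (.node 4 (.node 2 (.node 1 (.one ⟨14403, 2, 5⟩) (.one ⟨2588, 0, 3⟩)) (.node 1 (.one ⟨13546, 1, 6⟩) (.one ⟨14274, 0, 7⟩))) (.node 2 (.node 1 (.one ⟨1529, 0, 3⟩) (.one ⟨3698, 1, 4⟩)) (.node 1 (.one ⟨4045, 2, 8⟩) (.one ⟨11651, 1, 5⟩)))) (.node 4 (.node 2 (.node 1 (.one ⟨2093, 1, 7⟩) (.one ⟨1042, 2, 4⟩)) (.node 1 (.one ⟨16668, 2, 6⟩) (.one ⟨11800, 1, 7⟩))) (.node 2 (.node 1 (.one ⟨6721, 2, 4⟩) (.one ⟨11957, 2, 4⟩)) (.node 1 (.one ⟨7524, 2, 6⟩) (.one ⟨7011, 1, 6⟩)))))))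
def par7_15_15 : Arr Par :=
  (.node 32 (.node 16 (.node 8 (.node 4 (.node 2 (.node 1 (.one ⟨4137, 1, 0⟩) (.one ⟨4082, 1, 0⟩)) (.node 1 (.one ⟨2846, 2, 7⟩) (.one ⟨1178, 2, 1⟩))) (.node 2 (.node 1 (.one ⟨5208, 0, 3⟩) (.one ⟨10878, 2, 8⟩)) (.node 1 (.one ⟨9402, 2, 5⟩) (.one ⟨9268, 1, 6⟩)))) (.node 4 (.node 2 (.node 1 (.one ⟨1523, 0, 5⟩) (.one ⟨4542, 1, 2⟩)) (.node 1 (.one ⟨6730, 2, 5⟩) (.one ⟨12233, 0, 4⟩))) (.node 2 (.node 1 (.one ⟨14564, 1, 4⟩) (.one ⟨16220, 1, 4⟩)) (.node 1 (.one ⟨9043, 1, 6⟩) (.one ⟨16064, 1, 6⟩))))) (.node 8 (.node 4 (.node 2 (.node 1 (.one ⟨16077, 1, 9⟩) (.one ⟨785, 1, 3⟩)) (.node 1 (.one ⟨1071, 1, 3⟩) (.one ⟨3626, 0, 4⟩))) (.node 2 (.node 1 (.one ⟨2738, 0, 2⟩) (.one ⟨11727, 2, 7⟩)) (.node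 1 (.one ⟨12025, 2, 2⟩) (.one ⟨8077, 1, 7⟩)))) (.node 4 (.node 2 (.node 1 (.one ⟨16162, 2, 7⟩) (.one ⟨9407, 1, 1⟩)) (.node 1 (.one ⟨8880, 2, 6⟩) (.one ⟨12807, 1, 4⟩))) (.node 2 (.node 1 (.one ⟨15449, 2, 6⟩) (.one ⟨7005, 1, 8⟩)) (.node 1 (.one ⟨6146, 2, 6⟩) (.one ⟨14672, 0, 3⟩)))))) (.node 16 (.node 8 (.node 4 (.node 2 (.node 1 (.one ⟨2542, 1, 8⟩) (.one ⟨1524, 0, 3⟩)) (.node 1 (.one ⟨8211, 2, 4⟩) (.one ⟨3754, 1, 9⟩))) (.node 2 (.node 1 (.one ⟨4770, 1, 8⟩) (.one ⟨9664, 1, 8⟩)) (.node 1 (.one ⟨11710, 0, 5⟩) (.one ⟨7933, 2, 5⟩)))) (.node 4 (.node 2 (.node 1 (.one ⟨4726, 2, 4⟩) (.one ⟨15961, 2, 4⟩)) (.node 1 (.one ⟨2433, 0, 5⟩) (.one ⟨1541, 0, 4⟩))) (.node 2 (.node 1 (.one ⟨13796, 1, 6⟩) (.one ⟨11778, 1, 7⟩)) (.node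 1 (.one ⟨4861, 0, 5⟩) (.one ⟨2119, 2, 4⟩))))) (.node 8 (.node 4 (.node 2 (.node 1 (.one ⟨7007, 2, 3⟩) (.one ⟨14152, 0, 5⟩)) (.node 1 (.one ⟨15962, 1, 5⟩) (.one ⟨3628, 1, 5⟩))) (.node 2 (.node 1 (.one ⟨1484, 1, 5⟩) (.one ⟨1906, 1, 4⟩)) (.node 1 (.one ⟨1335, 0, 1⟩) (.one ⟨11454, 1, 7⟩)))) (.node 4 (.node 2 (.node 1 (.one ⟨13107, 2, 6⟩) (.one ⟨3626, 1, 4⟩)) (.node 1 (.one ⟨13948, 2, 6⟩) (.one ⟨1298, 0, 6⟩))) (.node 2 (.node 1 (.one ⟨14183, 1, 3⟩) (.one ⟨11766, 0, 7⟩)) (.node 1 (.one ⟨7261, 0, 4⟩) (.one ⟨6631, 1, 2⟩)))))))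
def par7_15 : Arr Par :=
  (.node 512 (.node 256 (.node 128 (.node 64 par7_15_0 par7_15_1) (.node 64 par7_15_2 par7_15_3)) (.node 128 (.node 64 par7_15_4 par7_15_5) (.node 64 par7_15_6 par7_15_7))) (.node 256 (.node 128 (.node 64 par7_15_8 par7_15_9) (.node 64 par7_15_10 par7_15_11)) (.node 128 (.node 64 par7_15_12 par7_15_13) (.node 64 par7_15_14 par7_15_15))))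
def par7_16_0 : Arr Par :=
  (.node 32 (.node 16 (.node 8 (.node 4 (.node 2 (.node 1 (.one ⟨13428, 0, 7⟩) (.one ⟨14691, 1, 4⟩)) (.node 1 (.one ⟨9120, 2, 7⟩) (.one ⟨14678, 1, 4⟩))) (.node 2 (.node 1 (.one ⟨5554, 1, 2⟩) (.one ⟨6617, 1, 4⟩)) (.node 1 (.one ⟨13628, 1, 1⟩) (.one ⟨3944, 1, 0⟩)))) (.node 4 (.node 2 (.node 1 (.one ⟨5185, 1, 3⟩) (.one ⟨5272, 0, 5⟩)) (.node 1 (.one ⟨8234, 1, 4⟩) (.one ⟨4107, 1, 0⟩))) (.node 2 (.node 1 (.one ⟨13610, 0, 8⟩) (.one ⟨1297, 0, 3⟩)) (.node 1 (.one ⟨1977, 1, 3⟩) (.one ⟨2168, 1, 9⟩))))) (.node 8 (.node 4 (.node 2 (.node 1 (.one ⟨7211, 2, 7⟩) (.one ⟨2346, 1, 6⟩)) (.node 1 (.one ⟨3630, 1, 5⟩) (.one ⟨2487, 0, 6⟩))) (.node 2 (.node 1 (.one ⟨3539, 1, 5⟩) (.one ⟨1310, 0, 5⟩)) (.node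 1 (.one ⟨17090, 2, 7⟩) (.one ⟨15837, 1, 5⟩)))) (.node 4 (.node 2 (.node 1 (.one ⟨3624, 1, 5⟩) (.one ⟨14317, 0, 2⟩)) (.node 1 (.one ⟨13196, 1, 7⟩) (.one ⟨1342, 0, 4⟩))) (.node 2 (.node 1 (.one ⟨11389, 1, 3⟩) (.one ⟨2093, 2, 7⟩)) (.node 1 (.one ⟨11801, 2, 7⟩) (.one ⟨1855, 2, 4⟩)))))) (.node 16 (.node 8 (.node 4 (.node 2 (.node 1 (.one ⟨2113, 0, 5⟩) (.one ⟨6856, 1, 3⟩)) (.node 1 (.one ⟨4216, 1, 8⟩) (.one ⟨1309, 0, 3⟩))) (.node 2 (.node 1 (.one ⟨13943, 1, 4⟩) (.one ⟨6632, 1, 4⟩)) (.node 1 (.one ⟨13711, 2, 4⟩) (.one ⟨6216, 0, 4⟩)))) (.node 4 (.node 2 (.node 1 (.one ⟨6638, 1, 3⟩) (.one ⟨11470, 0, 7⟩)) (.node 1 (.one ⟨3867, 1, 6⟩) (.one ⟨1338, 0, 5⟩))) (.node 2 (.node 1 (.one ⟨4282, 0, 3⟩) (.one ⟨15531, 1, 4⟩)) (.node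 1 (.one ⟨17099, 1, 5⟩) (.one ⟨2769, 2, 4⟩))))) (.node 8 (.node 4 (.node 2 (.node 1 (.one ⟨3991, 2, 5⟩) (.one ⟨4261, 0, 6⟩)) (.node 1 (.one ⟨4261, 1, 6⟩) (.one ⟨13176, 1, 6⟩))) (.node 2 (.node 1 (.one ⟨16456, 2, 8⟩) (.one ⟨451, 2, 5⟩)) (.node 1 (.one ⟨2705, 0, 6⟩) (.one ⟨9889, 2, 5⟩)))) (.node 4 (.node 2 (.node 1 (.one ⟨969, 1, 3⟩) (.one ⟨6989, 1, 9⟩)) (.node 1 (.one ⟨623, 1, 5⟩) (.one ⟨4174, 2, 8⟩))) (.node 2 (.node 1 (.one ⟨848, 2, 2⟩) (.one ⟨1854, 2, 6⟩)) (.node 1 (.one ⟨385, 1, 7⟩) (.one ⟨15083, 1, 2⟩)))))))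
def par7_16_1 : Arr Par :=
  (.node 32 (.node 16 (.node 8 (.node 4 (.node 2 (.node 1 (.one ⟨5832, 0, 4⟩) (.one ⟨10716, 1, 8⟩)) (.node 1 (.one ⟨3284, 1, 8⟩) (.one ⟨253, 2, 4⟩))) (.node 2 (.node 1 (.one ⟨5464, 2, 3⟩) (.one ⟨7171, 1, 4⟩)) (.node 1 (.one ⟨4275, 2, 5⟩) (.one ⟨6513, 2, 8⟩)))) (.node 4 (.node 2 (.node 1 (.one ⟨10427, 0, 7⟩) (.one ⟨3084, 2, 5⟩)) (.node 1 (.one ⟨13187, 2, 4⟩) (.one ⟨16098, 1, 7⟩))) (.node 2 (.node 1 (.one ⟨867, 2, 3⟩) (.one ⟨12889, 1, 4⟩)) (.node 1 (.one ⟨13970, 0, 2⟩) (.one ⟨13492, 0, 9⟩))))) (.node 8 (.node 4 (.node 2 (.node 1 (.one ⟨7151, 1, 10⟩) (.one ⟨7155, 1, 6⟩)) (.node 1 (.one ⟨13773, 0, 9⟩) (.one ⟨8762, 2, 5⟩))) (.node 2 (.node 1 (.one ⟨6099, 2, 8⟩) (.one ⟨818, 1, 3⟩)) (.node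 1 (.one ⟨4533, 2, 3⟩) (.one ⟨7215, 2, 5⟩)))) (.node 4 (.node 2 (.node 1 (.one ⟨16894, 0, 6⟩) (.one ⟨12609, 0, 6⟩)) (.node 1 (.one ⟨11407, 2, 5⟩) (.one ⟨10919, 0, 4⟩))) (.node 2 (.node 1 (.one ⟨8213, 0, 9⟩) (.one ⟨6335, 2, 8⟩)) (.node 1 (.one ⟨15499, 0, 4⟩) (.one ⟨13237, 1, 9⟩)))))) (.node 16 (.node 8 (.node 4 (.node 2 (.node 1 (.one ⟨13409, 1, 4⟩) (.one ⟨8445, 2, 8⟩)) (.node 1 (.one ⟨15104, 2, 8⟩) (.one ⟨10307, 2, 6⟩))) (.node 2 (.node 1 (.one ⟨4401, 2, 4⟩) (.one ⟨13173, 1, 6⟩)) (.node 1 (.one ⟨8597, 2, 8⟩) (.one ⟨613, 0, 9⟩)))) (.node 4 (.node 2 (.node 1 (.one ⟨14382, 1, 7⟩) (.one ⟨10697, 1, 8⟩)) (.node 1 (.one ⟨15975, 2, 7⟩) (.one ⟨14178, 1, 5⟩))) (.node 2 (.node 1 (.one ⟨13882, 0, 9⟩) (.one ⟨6834, 2, 8⟩))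 (.node 1 (.one ⟨9732, 2, 5⟩) (.one ⟨5841, 1, 7⟩))))) (.node 8 (.node 4 (.node 2 (.node 1 (.one ⟨10794, 1, 2⟩) (.one ⟨14110, 1, 3⟩)) (.node 1 (.one ⟨7726, 2, 2⟩) (.one ⟨12296, 2, 6⟩))) (.node 2 (.node 1 (.one ⟨9740, 2, 5⟩) (.one ⟨11775, 0, 5⟩)) (.node 1 (.one ⟨8494, 1, 4⟩) (.one ⟨9575, 2, 4⟩)))) (.node 4 (.node 2 (.node 1 (.one ⟨6944, 2, 7⟩) (.one ⟨6028, 0, 7⟩)) (.node 1 (.one ⟨1495, 1, 4⟩) (.one ⟨11615, 1, 3⟩))) (.node 2 (.node 1 (.one ⟨9876, 0, 3⟩) (.one ⟨4742, 2, 4⟩)) (.node 1 (.one ⟨4725, 1, 5⟩) (.one ⟨1590, 1, 7⟩)))))))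
def par7_16_2 : Arr Par :=
  (.node 32 (.node 16 (.node 8 (.node 4 (.node 2 (.node 1 (.one ⟨13560, 1, 7⟩) (.one ⟨6229, 2, 6⟩)) (.node 1 (.one ⟨6227, 2, 5⟩) (.one ⟨11209, 1, 5⟩))) (.node 2 (.node 1 (.one ⟨3797, 1, 8⟩) (.one ⟨3946, 1, 6⟩)) (.node 1 (.one ⟨11156, 1, 4⟩) (.one ⟨6740, 2, 4⟩)))) (.node 4 (.node 2 (.node 1 (.one ⟨16150, 0, 6⟩) (.one ⟨13564, 1, 5⟩)) (.node 1 (.one ⟨4523, 1, 8⟩) (.one ⟨182, 2, 5⟩))) (.node 2 (.node 1 (.one ⟨10251, 0, 9⟩) (.one ⟨10595, 0, 6⟩)) (.node 1 (.one ⟨15911, 2, 2⟩) (.one ⟨4590, 2, 8⟩))))) (.node 8 (.node 4 (.node 2 (.node 1 (.one ⟨13386, 2, 6⟩) (.one ⟨16172, 2, 2⟩)) (.node 1 (.one ⟨4367, 1, 10⟩) (.one ⟨12514, 1, 4⟩))) (.node 2 (.node 1 (.one ⟨1780, 0, 3⟩) (.one ⟨7358, 2, 8⟩))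 (.node 1 (.one ⟨2998, 1, 4⟩) (.one ⟨12683, 2, 5⟩)))) (.node 4 (.node 2 (.node 1 (.one ⟨2385, 1, 7⟩) (.one ⟨10510, 1, 6⟩)) (.node 1 (.one ⟨11586, 0, 3⟩) (.one ⟨15674, 0, 7⟩))) (.node 2 (.node 1 (.one ⟨17176, 2, 5⟩) (.one ⟨13669, 2, 4⟩)) (.node 1 (.one ⟨5264, 1, 6⟩) (.one ⟨11789, 2, 4⟩)))))) (.node 16 (.node 8 (.node 4 (.node 2 (.node 1 (.one ⟨1654, 1, 4⟩) (.one ⟨16934, 2, 7⟩)) (.node 1 (.one ⟨14215, 2, 7⟩) (.one ⟨16381, 2, 8⟩))) (.node 2 (.node 1 (.one ⟨8404, 1, 5⟩) (.one ⟨12678, 2, 5⟩)) (.node 1 (.one ⟨10748, 2, 6⟩) (.one ⟨9947, 2, 5⟩)))) (.node 4 (.node 2 (.node 1 (.one ⟨8924, 1, 6⟩) (.one ⟨2150, 1, 4⟩)) (.node 1 (.one ⟨12621, 2, 6⟩) (.one ⟨11113, 0, 6⟩))) (.node 2 (.node 1 (.one ⟨4157, 1, 6⟩) (.one ⟨13393,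 0, 8⟩)) (.node 1 (.one ⟨6301, 2, 8⟩) (.one ⟨6218, 1, 8⟩))))) (.node 8 (.node 4 (.node 2 (.node 1 (.one ⟨12636, 1, 7⟩) (.one ⟨15353, 2, 4⟩)) (.node 1 (.one ⟨6277, 1, 5⟩) (.one ⟨14805, 0, 7⟩))) (.node 2 (.node 1 (.one ⟨1512, 1, 5⟩) (.one ⟨1175, 1, 5⟩)) (.node 1 (.one ⟨16833, 1, 7⟩) (.one ⟨12681, 0, 3⟩)))) (.node 4 (.node 2 (.node 1 (.one ⟨8017, 2, 4⟩) (.one ⟨10537, 1, 9⟩)) (.node 1 (.one ⟨854, 1, 3⟩) (.one ⟨8394, 0, 5⟩))) (.node 2 (.node 1 (.one ⟨13316, 1, 5⟩) (.one ⟨5208, 1, 3⟩)) (.node 1 (.one ⟨165, 2, 5⟩) (.one ⟨6350, 2, 4⟩)))))))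
def par7_16_3 : Arr Par :=
  (.node 32 (.node 16 (.node 8 (.node 4 (.node 2 (.node 1 (.one ⟨12447, 1, 9⟩) (.one ⟨14846, 0, 8⟩)) (.node 1 (.one ⟨4935, 2, 6⟩) (.one ⟨5448, 2, 4⟩))) (.node 2 (.node 1 (.one ⟨14327, 1, 5⟩) (.one ⟨14840, 0, 4⟩)) (.node 1 (.one ⟨14839, 0, 1⟩) (.one ⟨6727, 2, 4⟩)))) (.node 4 (.node 2 (.node 1 (.one ⟨9485, 0, 4⟩) (.one ⟨1306, 1, 6⟩)) (.node 1 (.one ⟨5588, 2, 5⟩) (.one ⟨2392, 1, 4⟩))) (.node 2 (.node 1 (.one ⟨11902, 0, 6⟩) (.one ⟨4162, 1, 8⟩)) (.node 1 (.one ⟨4206, 1, 9⟩) (.one ⟨5256, 2, 3⟩))))) (.node 8 (.node 4 (.node 2 (.node 1 (.one ⟨13683, 2, 6⟩) (.one ⟨1326, 0, 5⟩)) (.node 1 (.one ⟨12425, 2, 5⟩) (.one ⟨261, 2, 2⟩))) (.node 2 (.node 1 (.one ⟨15970, 1, 9⟩) (.one ⟨8281, 2, 2⟩)) (.node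 1 (.one ⟨2243, 0, 4⟩) (.one ⟨9449, 0, 5⟩)))) (.node 4 (.node 2 (.node 1 (.one ⟨6128, 1, 2⟩) (.one ⟨10690, 2, 5⟩)) (.node 1 (.one ⟨13729, 2, 7⟩) (.one ⟨11082, 1, 2⟩))) (.node 2 (.node 1 (.one ⟨13734, 2, 3⟩) (.one ⟨7625, 1, 8⟩)) (.node 1 (.one ⟨13728, 2, 6⟩) (.one ⟨1315, 0, 7⟩)))))) (.node 16 (.node 8 (.node 4 (.node 2 (.node 1 (.one ⟨15543, 0, 7⟩) (.one ⟨12374, 1, 7⟩)) (.node 1 (.one ⟨13524, 1, 9⟩) (.one ⟨7753, 0, 2⟩))) (.node 2 (.node 1 (.one ⟨8866, 1, 6⟩) (.one ⟨5861, 1, 5⟩)) (.node 1 (.one ⟨2353, 2, 4⟩) (.one ⟨3774, 2, 6⟩)))) (.node 4 (.node 2 (.node 1 (.one ⟨9736, 1, 6⟩) (.one ⟨6707, 2, 2⟩)) (.node 1 (.one ⟨1941, 2, 5⟩) (.one ⟨9451, 0, 4⟩))) (.node 2 (.node 1 (.one ⟨11349, 0, 7⟩) (.one ⟨4509, 1, 8⟩)) (.node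 1 (.one ⟨11067, 1, 10⟩) (.one ⟨1318, 0, 8⟩))))) (.node 8 (.node 4 (.node 2 (.node 1 (.one ⟨3333, 2, 3⟩) (.one ⟨6741, 1, 7⟩)) (.node 1 (.one ⟨182, 1, 5⟩) (.one ⟨6542, 2, 4⟩))) (.node 2 (.node 1 (.one ⟨3372, 1, 4⟩) (.one ⟨4109, 2, 6⟩)) (.node 1 (.one ⟨14829, 1, 4⟩) (.one ⟨17134, 2, 5⟩)))) (.node 4 (.node 2 (.node 1 (.one ⟨6885, 2, 4⟩) (.one ⟨10623, 1, 4⟩)) (.node 1 (.one ⟨165, 1, 5⟩) (.one ⟨3718, 2, 8⟩))) (.node 2 (.node 1 (.one ⟨2358, 1, 3⟩) (.one ⟨7023, 1, 2⟩)) (.node 1 (.one ⟨4300, 2, 8⟩) (.one ⟨14325, 1, 5⟩)))))))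
def par7_16_4 : Arr Par :=
  (.node 32 (.node 16 (.node 8 (.node 4 (.node 2 (.node 1 (.one ⟨12854, 2, 3⟩) (.one ⟨6309, 1, 4⟩)) (.node 1 (.one ⟨6211, 1, 5⟩) (.one ⟨8009, 2, 5⟩))) (.node 2 (.node 1 (.one ⟨6274, 1, 9⟩) (.one ⟨14260, 1, 9⟩)) (.node 1 (.one ⟨7026, 2, 8⟩) (.one ⟨7139, 0, 6⟩)))) (.node 4 (.node 2 (.node 1 (.one ⟨9453, 0, 5⟩) (.one ⟨15252, 0, 5⟩)) (.node 1 (.one ⟨1029, 0, 9⟩) (.one ⟨14822, 0, 5⟩))) (.node 2 (.node 1 (.one ⟨2438, 0, 4⟩) (.one ⟨1904, 1, 5⟩)) (.node 1 (.one ⟨14436, 1, 8⟩) (.one ⟨1067, 0, 7⟩))))) (.node 8 (.node 4 (.node 2 (.node 1 (.one ⟨541, 0, 7⟩) (.one ⟨883, 0, 7⟩)) (.node 1 (.one ⟨389, 0, 3⟩) (.one ⟨4068, 2, 9⟩))) (.node 2 (.node 1 (.one ⟨14792, 0, 7⟩) (.one ⟨5150, 1, 4⟩)) (.node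 1 (.one ⟨4683, 2, 3⟩) (.one ⟨3109, 0, 8⟩)))) (.node 4 (.node 2 (.node 1 (.one ⟨9482, 0, 7⟩) (.one ⟨4614, 0, 7⟩)) (.node 1 (.one ⟨16548, 2, 6⟩) (.one ⟨16139, 1, 7⟩))) (.node 2 (.node 1 (.one ⟨12896, 0, 5⟩) (.one ⟨1764, 0, 7⟩)) (.node 1 (.one ⟨14071, 2, 5⟩) (.one ⟨13276, 1, 5⟩)))))) (.node 16 (.node 8 (.node 4 (.node 2 (.node 1 (.one ⟨2005, 0, 4⟩) (.one ⟨2755, 2, 5⟩)) (.node 1 (.one ⟨205, 0, 8⟩) (.one ⟨8184, 1, 4⟩))) (.node 2 (.node 1 (.one ⟨16767, 2, 7⟩) (.one ⟨8778, 1, 5⟩)) (.node 1 (.one ⟨8650, 1, 5⟩) (.one ⟨3510, 0, 5⟩)))) (.node 4 (.node 2 (.node 1 (.one ⟨3948, 1, 6⟩) (.one ⟨12888, 1, 3⟩)) (.node 1 (.one ⟨3020, 0, 8⟩) (.one ⟨16234, 1, 3⟩))) (.node 2 (.node 1 (.one ⟨11586, 1, 3⟩) (.one ⟨3000, 2, 6⟩)) (.node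 1 (.one ⟨7869, 2, 3⟩) (.one ⟨12721, 1, 10⟩))))) (.node 8 (.node 4 (.node 2 (.node 1 (.one ⟨6683, 2, 7⟩) (.one ⟨13891, 2, 4⟩)) (.node 1 (.one ⟨7873, 1, 6⟩) (.one ⟨6841, 1, 7⟩))) (.node 2 (.node 1 (.one ⟨11418, 2, 4⟩) (.one ⟨2240, 2, 9⟩)) (.node 1 (.one ⟨9160, 1, 6⟩) (.one ⟨11641, 0, 6⟩)))) (.node 4 (.node 2 (.node 1 (.one ⟨11512, 2, 7⟩) (.one ⟨17070, 2, 5⟩)) (.node 1 (.one ⟨7505, 1, 9⟩) (.one ⟨5100, 2, 5⟩))) (.node 2 (.node 1 (.one ⟨3647, 2, 4⟩) (.one ⟨3176, 0, 1⟩)) (.node 1 (.one ⟨7482, 2, 8⟩) (.one ⟨8797, 1, 7⟩)))))))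
def par7_16_5 : Arr Par :=
  (.node 32 (.node 16 (.node 8 (.node 4 (.node 2 (.node 1 (.one ⟨1504, 1, 5⟩) (.one ⟨10421, 2, 8⟩)) (.node 1 (.one ⟨4749, 2, 3⟩) (.one ⟨4870, 2, 3⟩))) (.node 2 (.node 1 (.one ⟨9096, 0, 1⟩) (.one ⟨12598, 1, 3⟩)) (.node 1 (.one ⟨14320, 1, 3⟩) (.one ⟨9841, 1, 6⟩)))) (.node 4 (.node 2 (.node 1 (.one ⟨11214, 0, 1⟩) (.one ⟨8235, 2, 2⟩)) (.node 1 (.one ⟨10139, 2, 4⟩) (.one ⟨1980, 2, 7⟩))) (.node 2 (.node 1 (.one ⟨16247, 2, 4⟩) (.one ⟨14096, 0, 8⟩)) (.node 1 (.one ⟨8760, 1, 7⟩) (.one ⟨1639, 2, 9⟩))))) (.node 8 (.node 4 (.node 2 (.node 1 (.one ⟨10923, 1, 4⟩) (.one ⟨14081, 1, 10⟩)) (.node 1 (.one ⟨338, 0, 6⟩) (.one ⟨1753, 1, 6⟩))) (.node 2 (.node 1 (.one ⟨12920, 2, 5⟩) (.one ⟨12893, 2, 6⟩))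 (.node 1 (.one ⟨6944, 1, 7⟩) (.one ⟨2970, 2, 5⟩)))) (.node 4 (.node 2 (.node 1 (.one ⟨10753, 2, 1⟩) (.one ⟨11041, 0, 7⟩)) (.node 1 (.one ⟨15517, 1, 6⟩) (.one ⟨7155, 2, 6⟩))) (.node 2 (.node 1 (.one ⟨13776, 2, 4⟩) (.one ⟨16849, 1, 10⟩)) (.node 1 (.one ⟨1954, 2, 4⟩) (.one ⟨5377, 1, 6⟩)))))) (.node 16 (.node 8 (.node 4 (.node 2 (.node 1 (.one ⟨5317, 1, 5⟩) (.one ⟨13359, 1, 6⟩)) (.node 1 (.one ⟨13427, 1, 3⟩) (.one ⟨15183, 2, 4⟩))) (.node 2 (.node 1 (.one ⟨13457, 1, 8⟩) (.one ⟨281, 0, 3⟩)) (.node 1 (.one ⟨2465, 2, 4⟩) (.one ⟨225, 2, 8⟩)))) (.node 4 (.node 2 (.node 1 (.one ⟨16473, 2, 7⟩) (.one ⟨6027, 1, 6⟩)) (.node 1 (.one ⟨7723, 0, 6⟩) (.one ⟨8428, 1, 3⟩))) (.node 2 (.node 1 (.one ⟨6519, 1, 4⟩) (.one ⟨5006, 1, 6⟩))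 (.node 1 (.one ⟨2256, 1, 8⟩) (.one ⟨142, 0, 5⟩))))) (.node 8 (.node 4 (.node 2 (.node 1 (.one ⟨12341, 1, 3⟩) (.one ⟨4010, 2, 8⟩)) (.node 1 (.one ⟨15723, 1, 5⟩) (.one ⟨13627, 1, 4⟩))) (.node 2 (.node 1 (.one ⟨3829, 1, 6⟩) (.one ⟨10651, 1, 8⟩)) (.node 1 (.one ⟨8204, 1, 6⟩) (.one ⟨14943, 1, 6⟩)))) (.node 4 (.node 2 (.node 1 (.one ⟨4189, 1, 0⟩) (.one ⟨12886, 1, 6⟩)) (.node 1 (.one ⟨2041, 1, 6⟩) (.one ⟨15902, 2, 4⟩))) (.node 2 (.node 1 (.one ⟨8577, 2, 6⟩) (.one ⟨7009, 0, 5⟩)) (.node 1 (.one ⟨13329, 0, 3⟩) (.one ⟨7696, 0, 6⟩)))))))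
def par7_16_6 : Arr Par :=
  (.node 32 (.node 16 (.node 8 (.node 4 (.node 2 (.node 1 (.one ⟨10165, 0, 3⟩) (.one ⟨4790, 0, 7⟩)) (.node 1 (.one ⟨14967, 0, 9⟩) (.one ⟨8378, 2, 7⟩))) (.node 2 (.node 1 (.one ⟨5501, 0, 5⟩) (.one ⟨9230, 1, 6⟩)) (.node 1 (.one ⟨11409, 1, 4⟩) (.one ⟨9210, 1, 6⟩)))) (.node 4 (.node 2 (.node 1 (.one ⟨10365, 2, 7⟩) (.one ⟨15348, 1, 6⟩)) (.node 1 (.one ⟨12161, 2, 9⟩) (.one ⟨2088, 2, 7⟩))) (.node 2 (.node 1 (.one ⟨11583, 2, 8⟩) (.one ⟨3660, 2, 4⟩)) (.node 1 (.one ⟨10379, 0, 2⟩) (.one ⟨11795, 0, 4⟩))))) (.node 8 (.node 4 (.node 2 (.node 1 (.one ⟨14177, 2, 5⟩) (.one ⟨2737, 1, 10⟩)) (.node 1 (.one ⟨16420, 2, 5⟩) (.one ⟨2201, 2, 5⟩))) (.node 2 (.node 1 (.one ⟨5569, 1, 6⟩) (.one ⟨4241, 2, 7⟩))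 (.node 1 (.one ⟨1654, 0, 4⟩) (.one ⟨4792, 2, 4⟩)))) (.node 4 (.node 2 (.node 1 (.one ⟨4791, 2, 8⟩) (.one ⟨6013, 1, 10⟩)) (.node 1 (.one ⟨4387, 1, 5⟩) (.one ⟨4797, 2, 8⟩))) (.node 2 (.node 1 (.one ⟨10924, 1, 5⟩) (.one ⟨7934, 1, 9⟩)) (.node 1 (.one ⟨2593, 1, 8⟩) (.one ⟨2849, 1, 5⟩)))))) (.node 16 (.node 8 (.node 4 (.node 2 (.node 1 (.one ⟨660, 1, 1⟩) (.one ⟨7184, 0, 4⟩)) (.node 1 (.one ⟨1772, 2, 8⟩) (.one ⟨4228, 2, 6⟩))) (.node 2 (.node 1 (.one ⟨1516, 2, 9⟩) (.one ⟨9682, 2, 2⟩)) (.node 1 (.one ⟨7757, 0, 5⟩) (.one ⟨10031, 1, 4⟩)))) (.node 4 (.node 2 (.node 1 (.one ⟨1253, 2, 7⟩) (.one ⟨14823, 1, 8⟩)) (.node 1 (.one ⟨261, 0, 2⟩) (.one ⟨14928, 1, 3⟩))) (.node 2 (.node 1 (.one ⟨11623, 0, 2⟩) (.one ⟨8234, 2, 4⟩)) (.node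 1 (.one ⟨11629, 0, 4⟩) (.one ⟨12555, 1, 6⟩))))) (.node 8 (.node 4 (.node 2 (.node 1 (.one ⟨16565, 1, 6⟩) (.one ⟨4132, 0, 7⟩)) (.node 1 (.one ⟨5024, 2, 7⟩) (.one ⟨5025, 2, 9⟩))) (.node 2 (.node 1 (.one ⟨1729, 1, 7⟩) (.one ⟨13255, 1, 5⟩)) (.node 1 (.one ⟨15682, 1, 7⟩) (.one ⟨775, 1, 2⟩)))) (.node 4 (.node 2 (.node 1 (.one ⟨102, 1, 1⟩) (.one ⟨1043, 1, 2⟩)) (.node 1 (.one ⟨329, 1, 2⟩) (.one ⟨13775, 2, 6⟩))) (.node 2 (.node 1 (.one ⟨6849, 2, 6⟩) (.one ⟨7443, 2, 6⟩)) (.node 1 (.one ⟨14633, 2, 6⟩) (.one ⟨16918, 2, 2⟩)))))))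
def par7_16_7 : Arr Par :=
  (.node 32 (.node 16 (.node 8 (.node 4 (.node 2 (.node 1 (.one ⟨56, 1, 7⟩) (.one ⟨1789, 2, 6⟩)) (.node 1 (.one ⟨17059, 2, 2⟩) (.one ⟨8353, 0, 4⟩))) (.node 2 (.node 1 (.one ⟨11322, 1, 4⟩) (.one ⟨15775, 2, 7⟩)) (.node 1 (.one ⟨11081, 0, 5⟩) (.one ⟨11767, 1, 8⟩)))) (.node 4 (.node 2 (.node 1 (.one ⟨1605, 1, 7⟩) (.one ⟨15241, 1, 7⟩)) (.node 1 (.one ⟨14064, 0, 5⟩) (.one ⟨14394, 2, 3⟩))) (.node 2 (.node 1 (.one ⟨4828, 2, 8⟩) (.one ⟨3272, 2, 8⟩)) (.node 1 (.one ⟨15352, 1, 8⟩) (.one ⟨6838, 1, 3⟩))))) (.node 8 (.node 4 (.node 2 (.node 1 (.one ⟨15650, 1, 3⟩) (.one ⟨143, 0, 9⟩)) (.node 1 (.one ⟨8280, 1, 5⟩) (.one ⟨4767, 1, 5⟩))) (.node 2 (.node 1 (.one ⟨14689, 2, 7⟩) (.one ⟨9580, 1, 5⟩)) (.node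 1 (.one ⟨11252, 0, 7⟩) (.one ⟨14544, 1, 2⟩)))) (.node 4 (.node 2 (.node 1 (.one ⟨11443, 1, 3⟩) (.one ⟨12288, 0, 5⟩)) (.node 1 (.one ⟨5669, 2, 6⟩) (.one ⟨5667, 2, 7⟩))) (.node 2 (.node 1 (.one ⟨3281, 1, 1⟩) (.one ⟨5663, 2, 9⟩)) (.node 1 (.one ⟨1388, 1, 5⟩) (.one ⟨6855, 0, 5⟩)))))) (.node 16 (.node 8 (.node 4 (.node 2 (.node 1 (.one ⟨1877, 2, 3⟩) (.one ⟨2756, 1, 4⟩)) (.node 1 (.one ⟨1838, 1, 2⟩) (.one ⟨12739, 0, 7⟩))) (.node 2 (.node 1 (.one ⟨1894, 2, 7⟩) (.one ⟨9331, 2, 1⟩)) (.node 1 (.one ⟨9960, 2, 9⟩) (.one ⟨10201, 1, 9⟩)))) (.node 4 (.node 2 (.node 1 (.one ⟨7585, 0, 5⟩) (.one ⟨15882, 1, 6⟩)) (.node 1 (.one ⟨16462, 2, 3⟩) (.one ⟨79, 2, 3⟩))) (.node 2 (.node 1 (.one ⟨1219, 2, 1⟩) (.one ⟨9460, 2, 1⟩)) (.node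 1 (.one ⟨9538, 2, 4⟩) (.one ⟨3197, 0, 7⟩))))) (.node 8 (.node 4 (.node 2 (.node 1 (.one ⟨13099, 2, 5⟩) (.one ⟨17061, 0, 7⟩)) (.node 1 (.one ⟨7234, 1, 6⟩) (.one ⟨15282, 2, 4⟩))) (.node 2 (.node 1 (.one ⟨5642, 2, 5⟩) (.one ⟨3552, 0, 7⟩)) (.node 1 (.one ⟨9802, 1, 4⟩) (.one ⟨2851, 0, 9⟩)))) (.node 4 (.node 2 (.node 1 (.one ⟨990, 1, 7⟩) (.one ⟨12858, 1, 6⟩)) (.node 1 (.one ⟨1733, 1, 5⟩) (.one ⟨2556, 1, 8⟩))) (.node 2 (.node 1 (.one ⟨12774, 0, 8⟩) (.one ⟨12114, 0, 8⟩)) (.node 1 (.one ⟨2277, 2, 5⟩) (.one ⟨1297, 1, 3⟩)))))))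
def par7_16_8 : Arr Par :=
  (.node 32 (.node 16 (.node 8 (.node 4 (.node 2 (.node 1 (.one ⟨7236, 1, 7⟩) (.one ⟨13959, 1, 5⟩)) (.node 1 (.one ⟨7120, 2, 8⟩) (.one ⟨814, 2, 6⟩))) (.node 2 (.node 1 (.one ⟨3535, 2, 9⟩) (.one ⟨4221, 2, 7⟩)) (.node 1 (.one ⟨13895, 1, 9⟩) (.one ⟨2376, 2, 2⟩)))) (.node 4 (.node 2 (.node 1 (.one ⟨293, 1, 4⟩) (.one ⟨4249, 2, 6⟩)) (.node 1 (.one ⟨1887, 2, 6⟩) (.one ⟨2670, 2, 5⟩))) (.node 2 (.node 1 (.one ⟨3878, 2, 6⟩) (.one ⟨3894, 2, 2⟩)) (.node 1 (.one ⟨775, 2, 2⟩) (.one ⟨9535, 1, 4⟩))))) (.node 8 (.node 4 (.node 2 (.node 1 (.one ⟨9042, 2, 2⟩) (.one ⟨2755, 1, 5⟩)) (.node 1 (.one ⟨5819, 2, 2⟩) (.one ⟨5920, 1, 3⟩))) (.node 2 (.node 1 (.one ⟨6590, 1, 4⟩) (.one ⟨7084, 0, 5⟩)) (.node 1 (.one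 ⟨13818, 1, 1⟩) (.one ⟨4989, 2, 6⟩)))) (.node 4 (.node 2 (.node 1 (.one ⟨15160, 1, 5⟩) (.one ⟨1921, 1, 1⟩)) (.node 1 (.one ⟨2772, 0, 9⟩) (.one ⟨987, 0, 8⟩))) (.node 2 (.node 1 (.one ⟨9911, 0, 4⟩) (.one ⟨12057, 0, 3⟩)) (.node 1 (.one ⟨4341, 0, 8⟩) (.one ⟨224, 0, 4⟩)))))) (.node 16 (.node 8 (.node 4 (.node 2 (.node 1 (.one ⟨13148, 2, 5⟩) (.one ⟨6012, 2, 6⟩)) (.node 1 (.one ⟨9177, 2, 9⟩) (.one ⟨13616, 2, 3⟩))) (.node 2 (.node 1 (.one ⟨4932, 0, 9⟩) (.one ⟨4330, 0, 7⟩)) (.node 1 (.one ⟨11366, 1, 6⟩) (.one ⟨5978, 2, 6⟩)))) (.node 4 (.node 2 (.node 1 (.one ⟨6296, 1, 4⟩) (.one ⟨13706, 2, 4⟩)) (.node 1 (.one ⟨13036, 2, 7⟩) (.one ⟨2381, 1, 6⟩))) (.node 2 (.node 1 (.one ⟨2565, 2, 7⟩) (.one ⟨2889, 1, 7⟩)) (.node 1 (.one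 ⟨10389, 2, 5⟩) (.one ⟨11637, 0, 3⟩))))) (.node 8 (.node 4 (.node 2 (.node 1 (.one ⟨12563, 2, 4⟩) (.one ⟨4297, 1, 7⟩)) (.node 1 (.one ⟨10702, 2, 6⟩) (.one ⟨6526, 2, 5⟩))) (.node 2 (.node 1 (.one ⟨15370, 1, 3⟩) (.one ⟨17131, 1, 3⟩)) (.node 1 (.one ⟨14781, 1, 6⟩) (.one ⟨2220, 2, 6⟩)))) (.node 4 (.node 2 (.node 1 (.one ⟨10553, 1, 9⟩) (.one ⟨2039, 1, 6⟩)) (.node 1 (.one ⟨12608, 1, 6⟩) (.one ⟨9807, 1, 8⟩))) (.node 2 (.node 1 (.one ⟨4920, 1, 7⟩) (.one ⟨9702, 2, 7⟩)) (.node 1 (.one ⟨3495, 0, 5⟩) (.one ⟨1986, 1, 5⟩)))))))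
def par7_16_9 : Arr Par :=
  (.node 32 (.node 16 (.node 8 (.node 4 (.node 2 (.node 1 (.one ⟨8056, 2, 4⟩) (.one ⟨14446, 2, 8⟩)) (.node 1 (.one ⟨10134, 1, 4⟩) (.one ⟨12685, 0, 8⟩))) (.node 2 (.node 1 (.one ⟨860, 2, 5⟩) (.one ⟨6918, 1, 3⟩)) (.node 1 (.one ⟨16534, 2, 5⟩) (.one ⟨2588, 1, 3⟩)))) (.node 4 (.node 2 (.node 1 (.one ⟨16374, 2, 2⟩) (.one ⟨11464, 1, 3⟩)) (.node 1 (.one ⟨15291, 1, 4⟩) (.one ⟨16385, 2, 5⟩))) (.node 2 (.node 1 (.one ⟨2859, 1, 5⟩) (.one ⟨8341, 2, 2⟩)) (.node 1 (.one ⟨9313, 1, 3⟩) (.one ⟨737, 0, 4⟩))))) (.node 8 (.node 4 (.node 2 (.node 1 (.one ⟨14644, 1, 8⟩) (.one ⟨10084, 2, 9⟩)) (.node 1 (.one ⟨3482, 0, 5⟩) (.one ⟨2988, 1, 3⟩))) (.node 2 (.node 1 (.one ⟨5940, 1, 8⟩) (.one ⟨13284, 0, 7⟩)) (.node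 1 (.one ⟨3669, 0, 4⟩) (.one ⟨5953, 0, 4⟩)))) (.node 4 (.node 2 (.node 1 (.one ⟨11461, 0, 3⟩) (.one ⟨9313, 0, 3⟩)) (.node 1 (.one ⟨7414, 0, 7⟩) (.one ⟨16305, 2, 4⟩))) (.node 2 (.node 1 (.one ⟨12221, 2, 9⟩) (.one ⟨11330, 1, 8⟩)) (.node 1 (.one ⟨6788, 1, 5⟩) (.one ⟨4229, 1, 10⟩)))))) (.node 16 (.node 8 (.node 4 (.node 2 (.node 1 (.one ⟨10208, 2, 5⟩) (.one ⟨3959, 1, 0⟩)) (.node 1 (.one ⟨4227, 1, 6⟩) (.one ⟨1798, 2, 8⟩))) (.node 2 (.node 1 (.one ⟨665, 1, 3⟩) (.one ⟨12706, 2, 8⟩)) (.node 1 (.one ⟨707, 1, 5⟩) (.one ⟨9687, 1, 8⟩)))) (.node 4 (.node 2 (.node 1 (.one ⟨6474, 2, 6⟩) (.one ⟨12209, 1, 9⟩)) (.node 1 (.one ⟨4318, 1, 5⟩) (.one ⟨3177, 1, 7⟩))) (.node 2 (.node 1 (.one ⟨11292, 1, 5⟩) (.one ⟨5017, 1, 7⟩)) (.node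 1 (.one ⟨3586, 0, 1⟩) (.one ⟨16673, 1, 6⟩))))) (.node 8 (.node 4 (.node 2 (.node 1 (.one ⟨13477, 2, 3⟩) (.one ⟨10622, 1, 4⟩)) (.node 1 (.one ⟨16205, 1, 6⟩) (.one ⟨11102, 2, 5⟩))) (.node 2 (.node 1 (.one ⟨10266, 2, 3⟩) (.one ⟨12439, 1, 6⟩)) (.node 1 (.one ⟨9971, 0, 5⟩) (.one ⟨14303, 1, 3⟩)))) (.node 4 (.node 2 (.node 1 (.one ⟨6294, 1, 1⟩) (.one ⟨6523, 2, 6⟩)) (.node 1 (.one ⟨14367, 1, 4⟩) (.one ⟨7113, 1, 6⟩))) (.node 2 (.node 1 (.one ⟨15227, 1, 4⟩) (.one ⟨15159, 1, 4⟩)) (.node 1 (.one ⟨7177, 1, 4⟩) (.one ⟨1193, 0, 4⟩)))))))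
def par7_16_10 : Arr Par :=
  (.node 32 (.node 16 (.node 8 (.node 4 (.node 2 (.node 1 (.one ⟨5790, 2, 7⟩) (.one ⟨15281, 0, 5⟩)) (.node 1 (.one ⟨1779, 0, 5⟩) (.one ⟨271, 1, 4⟩))) (.node 2 (.node 1 (.one ⟨12177, 1, 4⟩) (.one ⟨3075, 2, 5⟩)) (.node 1 (.one ⟨2995, 1, 7⟩) (.one ⟨2927, 0, 5⟩)))) (.node 4 (.node 2 (.node 1 (.one ⟨1362, 2, 8⟩) (.one ⟨9296, 2, 8⟩)) (.node 1 (.one ⟨1499, 1, 4⟩) (.one ⟨11080, 2, 7⟩))) (.node 2 (.node 1 (.one ⟨11629, 1, 4⟩) (.one ⟨3052, 2, 5⟩)) (.node 1 (.one ⟨3113, 2, 2⟩) (.one ⟨9971, 2, 5⟩))))) (.node 8 (.node 4 (.node 2 (.node 1 (.one ⟨5992, 2, 8⟩) (.one ⟨13130, 1, 6⟩)) (.node 1 (.one ⟨1737, 2, 1⟩) (.one ⟨10918, 1, 4⟩))) (.node 2 (.node 1 (.one ⟨12878, 1, 5⟩) (.one ⟨12416, 0, 8⟩)) (.node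 1 (.one ⟨3869, 1, 5⟩) (.one ⟨11421, 2, 6⟩)))) (.node 4 (.node 2 (.node 1 (.one ⟨9163, 1, 7⟩) (.one ⟨13490, 1, 6⟩)) (.node 1 (.one ⟨12739, 1, 7⟩) (.one ⟨8112, 1, 8⟩))) (.node 2 (.node 1 (.one ⟨7861, 1, 7⟩) (.one ⟨1197, 0, 4⟩)) (.node 1 (.one ⟨6844, 1, 6⟩) (.one ⟨3848, 0, 3⟩)))))) (.node 16 (.node 8 (.node 4 (.node 2 (.node 1 (.one ⟨12313, 1, 7⟩) (.one ⟨1305, 1, 1⟩)) (.node 1 (.one ⟨2873, 0, 6⟩) (.one ⟨10464, 1, 1⟩))) (.node 2 (.node 1 (.one ⟨1183, 0, 1⟩) (.one ⟨4954, 2, 6⟩)) (.node 1 (.one ⟨5143, 2, 4⟩) (.one ⟨828, 1, 5⟩)))) (.node 4 (.node 2 (.node 1 (.one ⟨16609, 2, 8⟩) (.one ⟨13347, 2, 2⟩)) (.node 1 (.one ⟨16608, 2, 8⟩) (.one ⟨16607, 2, 8⟩))) (.node 2 (.node 1 (.one ⟨875, 1, 4⟩) (.one ⟨7561, 0, 4⟩)) (.node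 1 (.one ⟨1286, 0, 4⟩) (.one ⟨12278, 1, 10⟩))))) (.node 8 (.node 4 (.node 2 (.node 1 (.one ⟨1739, 2, 6⟩) (.one ⟨410, 1, 5⟩)) (.node 1 (.one ⟨16133, 1, 4⟩) (.one ⟨12390, 1, 7⟩))) (.node 2 (.node 1 (.one ⟨16285, 2, 9⟩) (.one ⟨16506, 2, 5⟩)) (.node 1 (.one ⟨16089, 1, 5⟩) (.one ⟨3861, 2, 6⟩)))) (.node 4 (.node 2 (.node 1 (.one ⟨1808, 2, 2⟩) (.one ⟨12430, 1, 7⟩)) (.node 1 (.one ⟨1399, 0, 9⟩) (.one ⟨7908, 1, 4⟩))) (.node 2 (.node 1 (.one ⟨710, 1, 3⟩) (.one ⟨12386, 1, 7⟩)) (.node 1 (.one ⟨14266, 1, 5⟩) (.one ⟨10050, 2, 9⟩)))))))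
def par7_16_11 : Arr Par :=
  (.node 32 (.node 16 (.node 8 (.node 4 (.node 2 (.node 1 (.one ⟨10598, 0, 7⟩) (.one ⟨9742, 1, 7⟩)) (.node 1 (.one ⟨5897, 1, 6⟩) (.one ⟨10096, 2, 5⟩))) (.node 2 (.node 1 (.one ⟨9581, 1, 7⟩) (.one ⟨11209, 0, 5⟩)) (.node 1 (.one ⟨383, 0, 4⟩) (.one ⟨12707, 1, 3⟩)))) (.node 4 (.node 2 (.node 1 (.one ⟨15647, 2, 4⟩) (.one ⟨1529, 1, 3⟩)) (.node 1 (.one ⟨9379, 2, 5⟩) (.one ⟨81, 2, 4⟩))) (.node 2 (.node 1 (.one ⟨1365, 2, 4⟩) (.one ⟨7557, 2, 7⟩)) (.node 1 (.one ⟨7592, 2, 2⟩) (.one ⟨1404, 0, 3⟩))))) (.node 8 (.node 4 (.node 2 (.node 1 (.one ⟨16884, 0, 6⟩) (.one ⟨9839, 1, 2⟩)) (.node 1 (.one ⟨1641, 1, 5⟩) (.one ⟨946, 0, 7⟩))) (.node 2 (.node 1 (.one ⟨13149, 2, 6⟩) (.one ⟨15713, 2, 4⟩)) (.node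 1 (.one ⟨9388, 2, 4⟩) (.one ⟨4341, 1, 8⟩)))) (.node 4 (.node 2 (.node 1 (.one ⟨10696, 0, 6⟩) (.one ⟨12389, 1, 5⟩)) (.node 1 (.one ⟨1387, 0, 6⟩) (.one ⟨12454, 1, 9⟩))) (.node 2 (.node 1 (.one ⟨2411, 0, 9⟩) (.one ⟨11408, 2, 2⟩)) (.node 1 (.one ⟨4304, 1, 9⟩) (.one ⟨5856, 1, 9⟩)))))) (.node 16 (.node 8 (.node 4 (.node 2 (.node 1 (.one ⟨641, 2, 4⟩) (.one ⟨7597, 2, 6⟩)) (.node 1 (.one ⟨8651, 1, 2⟩) (.one ⟨11091, 0, 7⟩))) (.node 2 (.node 1 (.one ⟨12226, 1, 6⟩) (.one ⟨4058, 0, 7⟩)) (.node 1 (.one ⟨12409, 1, 9⟩) (.one ⟨11725, 1, 9⟩)))) (.node 4 (.node 2 (.node 1 (.one ⟨6037, 1, 7⟩) (.one ⟨8043, 2, 6⟩)) (.node 1 (.one ⟨10587, 1, 5⟩) (.one ⟨8822, 2, 2⟩))) (.node 2 (.node 1 (.one ⟨6653, 1, 2⟩) (.one ⟨3397, 2, 2⟩)) (.node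 1 (.one ⟨11283, 1, 4⟩) (.one ⟨12758, 0, 4⟩))))) (.node 8 (.node 4 (.node 2 (.node 1 (.one ⟨13594, 0, 5⟩) (.one ⟨12088, 1, 3⟩)) (.node 1 (.one ⟨8369, 1, 2⟩) (.one ⟨207, 1, 4⟩))) (.node 2 (.node 1 (.one ⟨16264, 0, 4⟩) (.one ⟨7364, 0, 7⟩)) (.node 1 (.one ⟨11012, 2, 9⟩) (.one ⟨10047, 2, 2⟩)))) (.node 4 (.node 2 (.node 1 (.one ⟨8742, 1, 8⟩) (.one ⟨14292, 1, 6⟩)) (.node 1 (.one ⟨6157, 1, 7⟩) (.one ⟨3843, 1, 0⟩))) (.node 2 (.node 1 (.one ⟨11492, 0, 4⟩) (.one ⟨3801, 0, 8⟩)) (.node 1 (.one ⟨13590, 1, 8⟩) (.one ⟨14145, 1, 10⟩)))))))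
def par7_16_12 : Arr Par :=
  (.node 23 (.node 11 (.node 5 (.node 2 (.node 1 (.one ⟨11703, 2, 8⟩) (.one ⟨16278, 2, 4⟩)) (.node 1 (.one ⟨6493, 1, 6⟩) (.node 1 (.one ⟨9402, 1, 5⟩) (.one ⟨7388, 0, 7⟩)))) (.node 3 (.node 1 (.one ⟨1892, 1, 5⟩) (.node 1 (.one ⟨2412, 1, 9⟩) (.one ⟨11895, 2, 2⟩))) (.node 1 (.one ⟨1374, 2, 4⟩) (.node 1 (.one ⟨3885, 2, 7⟩) (.one ⟨11461, 1, 3⟩))))) (.node 6 (.node 3 (.node 1 (.one ⟨11933, 2, 6⟩) (.node 1 (.one ⟨1559, 2, 6⟩) (.one ⟨14840, 1, 4⟩))) (.node 1 (.one ⟨9252, 1, 5⟩) (.node 1 (.one ⟨11306, 0, 5⟩) (.one ⟨8177, 2, 4⟩)))) (.node 3 (.node 1 (.one ⟨12245, 1, 6⟩) (.node 1 (.one ⟨8165, 2, 7⟩) (.one ⟨5859, 2, 5⟩))) (.node 1 (.one ⟨5136, 1, 6⟩) (.node 1 (.one ⟨5759, 2, 5⟩) (.one ⟨12784,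 2, 4⟩)))))) (.node 12 (.node 6 (.node 3 (.node 1 (.one ⟨7362, 1, 2⟩) (.node 1 (.one ⟨3309, 1, 4⟩) (.one ⟨835, 0, 5⟩))) (.node 1 (.one ⟨7395, 0, 5⟩) (.node 1 (.one ⟨16877, 1, 2⟩) (.one ⟨13120, 1, 6⟩)))) (.node 3 (.node 1 (.one ⟨7393, 0, 2⟩) (.node 1 (.one ⟨5565, 1, 4⟩) (.one ⟨2413, 1, 8⟩))) (.node 1 (.one ⟨5785, 1, 5⟩) (.node 1 (.one ⟨1549, 1, 3⟩) (.one ⟨8060, 2, 8⟩))))) (.node 6 (.node 3 (.node 1 (.one ⟨11481, 0, 4⟩) (.node 1 (.one ⟨15502, 0, 2⟩) (.one ⟨14054, 0, 4⟩))) (.node 1 (.one ⟨9426, 0, 2⟩) (.node 1 (.one ⟨14979, 2, 3⟩) (.one ⟨12769, 2, 3⟩)))) (.node 3 (.node 1 (.one ⟨6819, 1, 8⟩) (.node 1 (.one ⟨2411, 1, 9⟩) (.one ⟨2677, 2, 8⟩))) (.node 1 (.one ⟨1387, 1, 6⟩) (.node 1 (.one ⟨7945, 2, 3⟩) (.one ⟨310,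 0, 5⟩)))))))
def par7_16 : Arr Par :=
  (.node 384 (.node 192 (.node 64 par7_16_0 (.node 64 par7_16_1 par7_16_2)) (.node 64 par7_16_3 (.node 64 par7_16_4 par7_16_5))) (.node 192 (.node 64 par7_16_6 (.node 64 par7_16_7 par7_16_8)) (.node 128 (.node 64 par7_16_9 par7_16_10) (.node 64 par7_16_11 par7_16_12))))
def par7 : Arr Par :=
  (.node 8192 (.node 4096 (.node 2048 (.node 1024 par7_0 par7_1) (.node 1024 par7_2 par7_3)) (.node 2048 (.node 1024 par7_4 par7_5) (.node 1024 par7_6 par7_7))) (.node 4096 (.node 2048 (.node 1024 par7_8 par7_9) (.node 1024 par7_10 par7_11)) (.node 2048 (.node 1024 par7_12 par7_13) (.node 1024 par7_14 (.node 1024 par7_15 par7_16)))))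

end CfsgLib.ThIndex62.Data
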