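import Cfsg.Agent.ThIndex62.Closure

/-! Orbit forest of node 8 on the points. -/

set_option autoImplicit false
set_option maxRecDepth 100000

namespace CfsgLib.ThIndex62.Data

open CfsgLib.ThModel83

def par8_0_0 : Arr Par :=
  (.node 32 (.node 16 (.node 8 (.node 4 (.node 2 (.node 1 (.one ⟨9490, 0, 1⟩) (.one ⟨4720, 1, 0⟩)) (.node 1 (.one ⟨1202, 0, 1⟩) (.one ⟨6053, 1, 6⟩))) (.node 2 (.node 1 (.one ⟨11287, 2, 3⟩) (.one ⟨9809, 2, 5⟩)) (.node 1 (.one ⟨14778, 1, 3⟩) (.one ⟨7175, 2, 3⟩)))) (.node 4 (.node 2 (.node 1 (.one ⟨2063, 2, 4⟩) (.one ⟨17129, 1, 5⟩)) (.node 1 (.one ⟨13687, 2, 3⟩) (.one ⟨14927, 2, 6⟩))) (.node 2 (.node 1 (.one ⟨11588, 0, 4⟩) (.one ⟨15511, 2, 3⟩)) (.node 1 (.one ⟨3403, 1, 4⟩) (.one ⟨15942,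 1, 5⟩))))) (.node 8 (.node 4 (.node 2 (.node 1 (.one ⟨7444, 1, 6⟩) (.one ⟨6129, 0, 4⟩)) (.node 1 (.one ⟨5945, 0, 4⟩) (.one ⟨7551, 1, 3⟩))) (.node 2 (.node 1 (.one ⟨12759, 2, 4⟩) (.one ⟨3800, 2, 5⟩)) (.node 1 (.one ⟨3944, 0, 4⟩) (.one ⟨11746, 2, 5⟩)))) (.node 4 (.node 2 (.node 1 (.one ⟨10791, 0, 2⟩) (.one ⟨3335, 2, 3⟩)) (.node 1 (.one ⟨10754, 1, 3⟩) (.one ⟨12609, 2, 5⟩))) (.node 2 (.node 1 (.one ⟨13983, 2, 4⟩) (.one ⟨11286, 0, 2⟩)) (.node 1 (.one ⟨4817, 2, 5⟩) (.one ⟨14015, 2, 4⟩)))))) (.node 16 (.node 8 (.node 4 (.node 2 (.node 1 (.one ⟨3053, 0, 2⟩) (.one ⟨11105, 2, 5⟩)) (.node 1 (.one ⟨2919, 2, 5⟩) (.one ⟨9197, 0, 1⟩))) (.node 2 (.node 1 (.one ⟨1564, 0, 1⟩) (.one ⟨1374, 0, 1⟩)) (.node 1 (.one ⟨9307, 0, 1⟩)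 (.one ⟨1848, 0, 5⟩)))) (.node 4 (.node 2 (.node 1 (.one ⟨11426, 1, 3⟩) (.one ⟨14193, 1, 4⟩)) (.node 1 (.one ⟨13000, 0, 2⟩) (.one ⟨6303, 1, 3⟩))) (.node 2 (.node 1 (.one ⟨11007, 2, 4⟩) (.one ⟨14226, 1, 3⟩)) (.node 1 (.one ⟨11874, 0, 4⟩) (.one ⟨5250, 0, 2⟩))))) (.node 8 (.node 4 (.node 2 (.node 1 (.one ⟨2967, 1, 2⟩) (.one ⟨4252, 0, 5⟩)) (.node 1 (.one ⟨10895, 2, 4⟩) (.one ⟨16822, 1, 6⟩))) (.node 2 (.node 1 (.one ⟨15951, 2, 4⟩) (.one ⟨13472, 1, 4⟩)) (.node 1 (.one ⟨4671, 2, 6⟩) (.one ⟨4382, 0, 2⟩)))) (.node 4 (.node 2 (.node 1 (.one ⟨9223, 2, 6⟩) (.one ⟨16065, 1, 6⟩)) (.node 1 (.one ⟨11667, 1, 4⟩) (.one ⟨10475, 1, 6⟩))) (.node 2 (.node 1 (.one ⟨6991, 2, 4⟩) (.one ⟨6591, 2, 4⟩)) (.node 1 (.one ⟨6887, 2, 4⟩) (.one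 ⟨9385, 0, 6⟩)))))))
def par8_0_1 : Arr Par :=
  (.node 32 (.node 16 (.node 8 (.node 4 (.node 2 (.node 1 (.one ⟨3907, 1, 4⟩) (.one ⟨4317, 1, 0⟩)) (.node 1 (.one ⟨9780, 2, 4⟩) (.one ⟨15966, 1, 5⟩))) (.node 2 (.node 1 (.one ⟨1208, 0, 1⟩) (.one ⟨9971, 1, 4⟩)) (.node 1 (.one ⟨4330, 1, 0⟩) (.one ⟨4442, 1, 0⟩)))) (.node 4 (.node 2 (.node 1 (.one ⟨4318, 1, 0⟩) (.one ⟨13881, 2, 2⟩)) (.node 1 (.one ⟨1563, 0, 1⟩) (.one ⟨10576, 0, 2⟩))) (.node 2 (.node 1 (.one ⟨13324, 0, 6⟩) (.one ⟨4525, 1, 0⟩)) (.node 1 (.one ⟨4430, 0, 0⟩) (.one ⟨4532, 1, 0⟩))))) (.node 8 (.node 4 (.node 2 (.node 1 (.one ⟨9195, 0, 1⟩) (.one ⟨4297, 0, 0⟩)) (.node 1 (.one ⟨4487, 1, 0⟩) (.one ⟨7672, 2, 3⟩))) (.node 2 (.node 1 (.one ⟨8563, 2, 4⟩) (.one ⟨6936,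 1, 5⟩)) (.node 1 (.one ⟨11603, 1, 5⟩) (.one ⟨8264, 2, 3⟩)))) (.node 4 (.node 2 (.node 1 (.one ⟨9302, 0, 1⟩) (.one ⟨13525, 2, 3⟩)) (.node 1 (.one ⟨13534, 2, 6⟩) (.one ⟨13241, 1, 6⟩))) (.node 2 (.node 1 (.one ⟨15695, 1, 6⟩) (.one ⟨9192, 2, 3⟩)) (.node 1 (.one ⟨11178, 1, 5⟩) (.one ⟨5744, 2, 3⟩)))))) (.node 16 (.node 8 (.node 4 (.node 2 (.node 1 (.one ⟨3255, 2, 4⟩) (.one ⟨14760, 0, 5⟩)) (.node 1 (.one ⟨7096, 2, 4⟩) (.one ⟨7128, 1, 3⟩))) (.node 2 (.node 1 (.one ⟨10380, 2, 4⟩) (.one ⟨10916, 2, 4⟩)) (.node 1 (.one ⟨14473, 2, 3⟩) (.one ⟨4894, 1, 5⟩)))) (.node 4 (.node 2 (.node 1 (.one ⟨1766, 1, 3⟩) (.one ⟨8059, 1, 5⟩)) (.node 1 (.one ⟨3709, 0, 4⟩) (.one ⟨7945, 0, 3⟩))) (.node 2 (.node 1 (.one ⟨4447, 1, 0⟩) (.one ⟨2943,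 2, 4⟩)) (.node 1 (.one ⟨6246, 0, 4⟩) (.one ⟨1151, 1, 6⟩))))) (.node 8 (.node 4 (.node 2 (.node 1 (.one ⟨88, 1, 2⟩) (.one ⟨7152, 0, 4⟩)) (.node 1 (.one ⟨16147, 2, 4⟩) (.one ⟨8505, 1, 1⟩))) (.node 2 (.node 1 (.one ⟨13614, 1, 5⟩) (.one ⟨9949, 1, 7⟩)) (.node 1 (.one ⟨9261, 1, 5⟩) (.one ⟨11452, 1, 5⟩)))) (.node 4 (.node 2 (.node 1 (.one ⟨6391, 2, 6⟩) (.one ⟨8664, 1, 4⟩)) (.node 1 (.one ⟨10889, 1, 3⟩) (.one ⟨9249, 1, 4⟩))) (.node 2 (.node 1 (.one ⟨10469, 1, 4⟩) (.one ⟨2671, 2, 3⟩)) (.node 1 (.one ⟨1932, 1, 2⟩) (.one ⟨2518, 1, 6⟩)))))))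
def par8_0_2 : Arr Par :=
  (.node 32 (.node 16 (.node 8 (.node 4 (.node 2 (.node 1 (.one ⟨1043, 1, 2⟩) (.one ⟨4687, 1, 6⟩)) (.node 1 (.one ⟨15841, 2, 6⟩) (.one ⟨15133, 1, 7⟩))) (.node 2 (.node 1 (.one ⟨14156, 0, 6⟩) (.one ⟨4280, 1, 5⟩)) (.node 1 (.one ⟨10715, 2, 4⟩) (.one ⟨12237, 0, 2⟩)))) (.node 4 (.node 2 (.node 1 (.one ⟨12914, 2, 5⟩) (.one ⟨4433, 0, 5⟩)) (.node 1 (.one ⟨14504, 0, 2⟩) (.one ⟨8898, 0, 5⟩))) (.node 2 (.node 1 (.one ⟨6512, 2, 5⟩) (.one ⟨13332, 1, 5⟩)) (.node 1 (.one ⟨7083, 2, 4⟩) (.one ⟨12767, 1, 5⟩))))) (.node 8 (.node 4 (.node 2 (.node 1 (.one ⟨3298, 1, 5⟩) (.one ⟨8338, 0, 5⟩)) (.node 1 (.one ⟨3956, 2, 1⟩) (.one ⟨9178, 2, 6⟩))) (.node 2 (.node 1 (.one ⟨8010, 0, 1⟩) (.one ⟨13648, 0, 2⟩)) (.node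 1 (.one ⟨14730, 2, 6⟩) (.one ⟨3176, 1, 1⟩)))) (.node 4 (.node 2 (.node 1 (.one ⟨11040, 1, 6⟩) (.one ⟨9316, 1, 1⟩)) (.node 1 (.one ⟨3971, 2, 5⟩) (.one ⟨14189, 1, 5⟩))) (.node 2 (.node 1 (.one ⟨16386, 2, 4⟩) (.one ⟨12953, 0, 4⟩)) (.node 1 (.one ⟨2480, 0, 4⟩) (.one ⟨4109, 1, 5⟩)))))) (.node 16 (.node 8 (.node 4 (.node 2 (.node 1 (.one ⟨14149, 1, 3⟩) (.one ⟨1128, 1, 6⟩)) (.node 1 (.one ⟨14459, 2, 2⟩) (.one ⟨2459, 2, 5⟩))) (.node 2 (.node 1 (.one ⟨1127, 1, 4⟩) (.one ⟨4149, 1, 7⟩)) (.node 1 (.one ⟨7155, 1, 3⟩) (.one ⟨13416, 1, 4⟩)))) (.node 4 (.node 2 (.node 1 (.one ⟨14723, 2, 5⟩) (.one ⟨8560, 1, 6⟩)) (.node 1 (.one ⟨11129, 2, 2⟩) (.one ⟨5988, 0, 4⟩))) (.node 2 (.node 1 (.one ⟨3824, 2, 4⟩) (.one ⟨5116, 1, 4⟩)) (.node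 1 (.one ⟨2287, 2, 5⟩) (.one ⟨6418, 1, 4⟩))))) (.node 8 (.node 4 (.node 2 (.node 1 (.one ⟨13946, 0, 2⟩) (.one ⟨7275, 1, 5⟩)) (.node 1 (.one ⟨7185, 1, 5⟩) (.one ⟨14302, 1, 3⟩))) (.node 2 (.node 1 (.one ⟨1595, 1, 7⟩) (.one ⟨10704, 2, 6⟩)) (.node 1 (.one ⟨5363, 2, 5⟩) (.one ⟨9320, 1, 1⟩)))) (.node 4 (.node 2 (.node 1 (.one ⟨146, 1, 2⟩) (.one ⟨17025, 2, 6⟩)) (.node 1 (.one ⟨2698, 0, 5⟩) (.one ⟨5993, 1, 5⟩))) (.node 2 (.node 1 (.one ⟨5520, 1, 1⟩) (.one ⟨14309, 1, 4⟩)) (.node 1 (.one ⟨10254, 2, 5⟩) (.one ⟨14541, 2, 3⟩)))))))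
def par8_0_3 : Arr Par :=
  (.node 32 (.node 16 (.node 8 (.node 4 (.node 2 (.node 1 (.one ⟨11453, 1, 2⟩) (.one ⟨9330, 2, 6⟩)) (.node 1 (.one ⟨1934, 1, 5⟩) (.one ⟨9673, 1, 2⟩))) (.node 2 (.node 1 (.one ⟨15807, 2, 6⟩) (.one ⟨8512, 1, 3⟩)) (.node 1 (.one ⟨642, 1, 2⟩) (.one ⟨3007, 1, 2⟩)))) (.node 4 (.node 2 (.node 1 (.one ⟨2583, 0, 4⟩) (.one ⟨7889, 0, 4⟩)) (.node 1 (.one ⟨16849, 1, 5⟩) (.one ⟨249, 2, 5⟩))) (.node 2 (.node 1 (.one ⟨13893, 0, 4⟩) (.one ⟨13742, 1, 3⟩)) (.node 1 (.one ⟨5117, 1, 7⟩) (.one ⟨7436, 2, 1⟩))))) (.node 8 (.node 4 (.node 2 (.node 1 (.one ⟨5844, 2, 5⟩) (.one ⟨1740, 1, 5⟩)) (.node 1 (.one ⟨16981, 1, 4⟩) (.one ⟨2461, 0, 4⟩))) (.node 2 (.node 1 (.one ⟨3058, 1, 5⟩) (.one ⟨15820, 1, 4⟩)) (.node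 1 (.one ⟨7083, 1, 4⟩) (.one ⟨12239, 2, 4⟩)))) (.node 4 (.node 2 (.node 1 (.one ⟨4317, 2, 5⟩) (.one ⟨5683, 1, 4⟩)) (.node 1 (.one ⟨11127, 1, 2⟩) (.one ⟨13924, 2, 3⟩))) (.node 2 (.node 1 (.one ⟨6750, 0, 4⟩) (.one ⟨15478, 2, 4⟩)) (.node 1 (.one ⟨1497, 1, 1⟩) (.one ⟨12019, 2, 6⟩)))))) (.node 16 (.node 8 (.node 4 (.node 2 (.node 1 (.one ⟨5788, 2, 1⟩) (.one ⟨2282, 1, 5⟩)) (.node 1 (.one ⟨15945, 1, 1⟩) (.one ⟨6632, 1, 4⟩))) (.node 2 (.node 1 (.one ⟨13361, 1, 3⟩) (.one ⟨13259, 2, 7⟩)) (.node 1 (.one ⟨1752, 1, 3⟩) (.one ⟨5732, 2, 4⟩)))) (.node 4 (.node 2 (.node 1 (.one ⟨1584, 2, 1⟩) (.one ⟨11279, 0, 2⟩)) (.node 1 (.one ⟨3720, 2, 6⟩) (.one ⟨9528, 2, 1⟩))) (.node 2 (.node 1 (.one ⟨17053, 0, 4⟩) (.one ⟨7156, 2, 5⟩)) (.node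 1 (.one ⟨13433, 1, 7⟩) (.one ⟨8505, 0, 1⟩))))) (.node 8 (.node 4 (.node 2 (.node 1 (.one ⟨13962, 1, 4⟩) (.one ⟨7563, 1, 3⟩)) (.node 1 (.one ⟨10870, 2, 3⟩) (.one ⟨2854, 2, 3⟩))) (.node 2 (.node 1 (.one ⟨10884, 2, 6⟩) (.one ⟨7789, 2, 1⟩)) (.node 1 (.one ⟨10008, 1, 7⟩) (.one ⟨201, 2, 5⟩)))) (.node 4 (.node 2 (.node 1 (.one ⟨5459, 0, 4⟩) (.one ⟨11244, 0, 4⟩)) (.node 1 (.one ⟨204, 2, 5⟩) (.one ⟨4574, 1, 5⟩))) (.node 2 (.node 1 (.one ⟨14847, 2, 6⟩) (.one ⟨9752, 1, 4⟩)) (.node 1 (.one ⟨12671, 1, 5⟩) (.one ⟨8174, 2, 4⟩)))))))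
def par8_0_4 : Arr Par :=
  (.node 32 (.node 16 (.node 8 (.node 4 (.node 2 (.node 1 (.one ⟨4227, 1, 3⟩) (.one ⟨10147, 2, 5⟩)) (.node 1 (.one ⟨16920, 0, 6⟩) (.one ⟨612, 1, 6⟩))) (.node 2 (.node 1 (.one ⟨11663, 1, 3⟩) (.one ⟨4367, 2, 5⟩)) (.node 1 (.one ⟨5243, 1, 3⟩) (.one ⟨9472, 1, 4⟩)))) (.node 4 (.node 2 (.node 1 (.one ⟨10753, 1, 2⟩) (.one ⟨4288, 1, 0⟩)) (.node 1 (.one ⟨2251, 0, 5⟩) (.one ⟨5104, 0, 5⟩))) (.node 2 (.node 1 (.one ⟨6309, 0, 4⟩) (.one ⟨7985, 1, 1⟩)) (.node 1 (.one ⟨12876, 1, 3⟩) (.one ⟨9844, 1, 4⟩))))) (.node 8 (.node 4 (.node 2 (.node 1 (.one ⟨1927, 0, 2⟩) (.one ⟨6677, 2, 5⟩)) (.node 1 (.one ⟨7045, 2, 4⟩) (.one ⟨2117, 2, 5⟩))) (.node 2 (.node 1 (.one ⟨12732, 1, 5⟩) (.one ⟨4839, 0, 6⟩)) (.node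 1 (.one ⟨10594, 2, 5⟩) (.one ⟨15643, 0, 4⟩)))) (.node 4 (.node 2 (.node 1 (.one ⟨15600, 0, 4⟩) (.one ⟨7579, 1, 5⟩)) (.node 1 (.one ⟨9486, 1, 1⟩) (.one ⟨6748, 2, 4⟩))) (.node 2 (.node 1 (.one ⟨2022, 1, 6⟩) (.one ⟨13905, 2, 6⟩)) (.node 1 (.one ⟨1164, 1, 3⟩) (.one ⟨6632, 2, 4⟩)))))) (.node 16 (.node 8 (.node 4 (.node 2 (.node 1 (.one ⟨115, 1, 2⟩) (.one ⟨2628, 2, 5⟩)) (.node 1 (.one ⟨15915, 2, 6⟩) (.one ⟨16760, 1, 4⟩))) (.node 2 (.node 1 (.one ⟨3603, 2, 6⟩) (.one ⟨5333, 1, 0⟩)) (.node 1 (.one ⟨6703, 1, 7⟩) (.one ⟨7859, 1, 3⟩)))) (.node 4 (.node 2 (.node 1 (.one ⟨2335, 2, 5⟩) (.one ⟨5035, 0, 4⟩)) (.node 1 (.one ⟨5308, 1, 5⟩) (.one ⟨6289, 2, 7⟩))) (.node 2 (.node 1 (.one ⟨10823, 2, 7⟩) (.one ⟨9485, 1, 3⟩)) (.node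 1 (.one ⟨9270, 2, 6⟩) (.one ⟨6732, 1, 4⟩))))) (.node 8 (.node 4 (.node 2 (.node 1 (.one ⟨17021, 0, 2⟩) (.one ⟨8605, 0, 2⟩)) (.node 1 (.one ⟨7807, 0, 2⟩) (.one ⟨2765, 1, 3⟩))) (.node 2 (.node 1 (.one ⟨14984, 2, 5⟩) (.one ⟨10786, 1, 5⟩)) (.node 1 (.one ⟨4552, 1, 0⟩) (.one ⟨12279, 2, 6⟩)))) (.node 4 (.node 2 (.node 1 (.one ⟨11139, 1, 3⟩) (.one ⟨10338, 1, 5⟩)) (.node 1 (.one ⟨1520, 1, 5⟩) (.one ⟨9945, 2, 4⟩))) (.node 2 (.node 1 (.one ⟨2208, 2, 5⟩) (.one ⟨4997, 1, 6⟩)) (.node 1 (.one ⟨6896, 1, 5⟩) (.one ⟨6664, 2, 5⟩)))))))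
def par8_0_5 : Arr Par :=
  (.node 32 (.node 16 (.node 8 (.node 4 (.node 2 (.node 1 (.one ⟨6383, 2, 3⟩) (.one ⟨14855, 2, 4⟩)) (.node 1 (.one ⟨11331, 1, 5⟩) (.one ⟨6679, 2, 3⟩))) (.node 2 (.node 1 (.one ⟨3209, 2, 4⟩) (.one ⟨9566, 2, 1⟩)) (.node 1 (.one ⟨11373, 2, 4⟩) (.one ⟨13545, 1, 3⟩)))) (.node 4 (.node 2 (.node 1 (.one ⟨5992, 1, 7⟩) (.one ⟨3112, 0, 1⟩)) (.node 1 (.one ⟨5565, 2, 1⟩) (.one ⟨4476, 1, 0⟩))) (.node 2 (.node 1 (.one ⟨15357, 0, 5⟩) (.one ⟨8060, 0, 4⟩)) (.node 1 (.one ⟨10129, 1, 5⟩) (.one ⟨9359, 1, 1⟩))))) (.node 8 (.node 4 (.node 2 (.node 1 (.one ⟨7800, 1, 2⟩) (.one ⟨8242, 1, 3⟩)) (.node 1 (.one ⟨10209, 1, 4⟩) (.one ⟨16233, 2, 6⟩))) (.node 2 (.node 1 (.one ⟨1501, 1, 4⟩) (.one ⟨207, 1, 2⟩)) (.node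 1 (.one ⟨9980, 0, 2⟩) (.one ⟨13877, 2, 4⟩)))) (.node 4 (.node 2 (.node 1 (.one ⟨13740, 1, 7⟩) (.one ⟨2327, 2, 3⟩)) (.node 1 (.one ⟨14343, 2, 4⟩) (.one ⟨16089, 1, 3⟩))) (.node 2 (.node 1 (.one ⟨2807, 2, 3⟩) (.one ⟨11420, 2, 3⟩)) (.node 1 (.one ⟨7459, 2, 3⟩) (.one ⟨5641, 2, 4⟩)))))) (.node 16 (.node 8 (.node 4 (.node 2 (.node 1 (.one ⟨12331, 0, 5⟩) (.one ⟨14447, 0, 6⟩)) (.node 1 (.one ⟨8403, 0, 6⟩) (.one ⟨13891, 2, 1⟩))) (.node 2 (.node 1 (.one ⟨4481, 0, 4⟩) (.one ⟨6011, 1, 3⟩)) (.node 1 (.one ⟨12724, 1, 3⟩) (.one ⟨15952, 1, 6⟩)))) (.node 4 (.node 2 (.node 1 (.one ⟨11147, 2, 3⟩) (.one ⟨10196, 2, 1⟩)) (.node 1 (.one ⟨2893, 0, 4⟩) (.one ⟨7575, 1, 2⟩))) (.node 2 (.node 1 (.one ⟨14621, 2, 2⟩) (.one ⟨14931, 1, 6⟩))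 (.node 1 (.one ⟨7216, 0, 5⟩) (.one ⟨13651, 0, 2⟩))))) (.node 8 (.node 4 (.node 2 (.node 1 (.one ⟨7808, 0, 2⟩) (.one ⟨12008, 1, 5⟩)) (.node 1 (.one ⟨5124, 1, 5⟩) (.one ⟨7556, 0, 5⟩))) (.node 2 (.node 1 (.one ⟨15552, 1, 6⟩) (.one ⟨16376, 1, 5⟩)) (.node 1 (.one ⟨12961, 2, 5⟩) (.one ⟨14470, 2, 5⟩)))) (.node 4 (.node 2 (.node 1 (.one ⟨16066, 1, 5⟩) (.one ⟨273, 1, 6⟩)) (.node 1 (.one ⟨7445, 1, 6⟩) (.one ⟨2863, 1, 3⟩))) (.node 2 (.node 1 (.one ⟨14477, 2, 3⟩) (.one ⟨2739, 1, 3⟩)) (.node 1 (.one ⟨2560, 2, 5⟩) (.one ⟨16554, 1, 6⟩)))))))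
def par8_0_6 : Arr Par :=
  (.node 32 (.node 16 (.node 8 (.node 4 (.node 2 (.node 1 (.one ⟨3961, 0, 5⟩) (.one ⟨14506, 0, 2⟩)) (.node 1 (.one ⟨6106, 0, 2⟩) (.one ⟨188, 1, 2⟩))) (.node 2 (.node 1 (.one ⟨9908, 0, 6⟩) (.one ⟨2464, 1, 5⟩)) (.node 1 (.one ⟨5240, 1, 5⟩) (.one ⟨13284, 1, 3⟩)))) (.node 4 (.node 2 (.node 1 (.one ⟨10427, 1, 5⟩) (.one ⟨2640, 1, 4⟩)) (.node 1 (.one ⟨8402, 0, 1⟩) (.one ⟨5756, 1, 2⟩))) (.node 2 (.node 1 (.one ⟨448, 2, 5⟩) (.one ⟨5494, 0, 4⟩)) (.node 1 (.one ⟨12822, 0, 4⟩) (.one ⟨5196, 1, 4⟩))))) (.node 8 (.node 4 (.node 2 (.node 1 (.one ⟨14036, 2, 4⟩) (.one ⟨13942, 2, 5⟩)) (.node 1 (.one ⟨2052, 2, 4⟩) (.one ⟨1243, 2, 2⟩))) (.node 2 (.node 1 (.one ⟨9371, 1, 5⟩) (.one ⟨5198, 2, 4⟩)) (.node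 1 (.one ⟨8482, 2, 6⟩) (.one ⟨15596, 1, 5⟩)))) (.node 4 (.node 2 (.node 1 (.one ⟨4685, 1, 3⟩) (.one ⟨8120, 0, 4⟩)) (.node 1 (.one ⟨8061, 2, 4⟩) (.one ⟨4900, 1, 4⟩))) (.node 2 (.node 1 (.one ⟨10480, 2, 6⟩) (.one ⟨11450, 1, 3⟩)) (.node 1 (.one ⟨1437, 2, 6⟩) (.one ⟨6440, 1, 3⟩)))))) (.node 16 (.node 8 (.node 4 (.node 2 (.node 1 (.one ⟨13957, 2, 6⟩) (.one ⟨1929, 1, 5⟩)) (.node 1 (.one ⟨2225, 2, 1⟩) (.one ⟨5556, 1, 4⟩))) (.node 2 (.node 1 (.one ⟨3530, 0, 4⟩) (.one ⟨16486, 2, 5⟩)) (.node 1 (.one ⟨15522, 1, 3⟩) (.one ⟨13812, 1, 4⟩)))) (.node 4 (.node 2 (.node 1 (.one ⟨4341, 1, 6⟩) (.one ⟨8152, 1, 5⟩)) (.node 1 (.one ⟨3302, 1, 2⟩) (.one ⟨1523, 1, 4⟩))) (.node 2 (.node 1 (.one ⟨4548, 2, 5⟩) (.one ⟨6973, 0, 5⟩)) (.node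 1 (.one ⟨8066, 0, 7⟩) (.one ⟨1773, 0, 5⟩))))) (.node 8 (.node 4 (.node 2 (.node 1 (.one ⟨4881, 0, 5⟩) (.one ⟨8307, 1, 7⟩)) (.node 1 (.one ⟨5969, 2, 5⟩) (.one ⟨8776, 2, 4⟩))) (.node 2 (.node 1 (.one ⟨4201, 0, 5⟩) (.one ⟨14224, 1, 2⟩)) (.node 1 (.one ⟨14929, 0, 5⟩) (.one ⟨17011, 1, 5⟩)))) (.node 4 (.node 2 (.node 1 (.one ⟨5311, 1, 6⟩) (.one ⟨8638, 1, 5⟩)) (.node 1 (.one ⟨12592, 1, 3⟩) (.one ⟨13048, 2, 5⟩))) (.node 2 (.node 1 (.one ⟨11401, 2, 6⟩) (.one ⟨15225, 1, 3⟩)) (.node 1 (.one ⟨398, 2, 5⟩) (.one ⟨399, 2, 5⟩)))))))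
def par8_0_7 : Arr Par :=
  (.node 32 (.node 16 (.node 8 (.node 4 (.node 2 (.node 1 (.one ⟨6199, 0, 4⟩) (.one ⟨397, 2, 5⟩)) (.node 1 (.one ⟨12790, 2, 6⟩) (.one ⟨6816, 2, 7⟩))) (.node 2 (.node 1 (.one ⟨8404, 2, 5⟩) (.one ⟨1521, 2, 2⟩)) (.node 1 (.one ⟨6484, 1, 3⟩) (.one ⟨12040, 1, 3⟩)))) (.node 4 (.node 2 (.node 1 (.one ⟨5520, 0, 1⟩) (.one ⟨2032, 2, 2⟩)) (.node 1 (.one ⟨1528, 1, 1⟩) (.one ⟨14414, 1, 4⟩))) (.node 2 (.node 1 (.one ⟨6795, 2, 4⟩) (.one ⟨8067, 1, 4⟩)) (.node 1 (.one ⟨9054, 1, 6⟩) (.one ⟨11414, 2, 4⟩))))) (.node 8 (.node 4 (.node 2 (.node 1 (.one ⟨5294, 0, 5⟩) (.one ⟨10459, 0, 5⟩)) (.node 1 (.one ⟨4591, 1, 2⟩) (.one ⟨3302, 0, 2⟩))) (.node 2 (.node 1 (.one ⟨10741, 2, 3⟩) (.one ⟨7980, 2, 6⟩)) (.node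 1 (.one ⟨15405, 1, 5⟩) (.one ⟨9254, 1, 3⟩)))) (.node 4 (.node 2 (.node 1 (.one ⟨3746, 1, 5⟩) (.one ⟨2687, 2, 2⟩)) (.node 1 (.one ⟨3273, 2, 7⟩) (.one ⟨4337, 1, 3⟩))) (.node 2 (.node 1 (.one ⟨590, 1, 2⟩) (.one ⟨16584, 1, 2⟩)) (.node 1 (.one ⟨8373, 1, 3⟩) (.one ⟨13949, 1, 2⟩)))))) (.node 16 (.node 8 (.node 4 (.node 2 (.node 1 (.one ⟨9763, 2, 4⟩) (.one ⟨483, 2, 5⟩)) (.node 1 (.one ⟨484, 2, 5⟩) (.one ⟨14992, 0, 4⟩))) (.node 2 (.node 1 (.one ⟨8668, 0, 4⟩) (.one ⟨9029, 1, 7⟩)) (.node 1 (.one ⟨5252, 2, 3⟩) (.one ⟨3522, 2, 4⟩)))) (.node 4 (.node 2 (.node 1 (.one ⟨7762, 0, 5⟩) (.one ⟨9258, 1, 4⟩)) (.node 1 (.one ⟨6558, 2, 5⟩) (.one ⟨7493, 2, 6⟩))) (.node 2 (.node 1 (.one ⟨15783, 1, 3⟩) (.one ⟨6856, 1, 3⟩)) (.node 1 (.one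 ⟨8548, 0, 5⟩) (.one ⟨593, 1, 2⟩))))) (.node 8 (.node 4 (.node 2 (.node 1 (.one ⟨1199, 2, 1⟩) (.one ⟨16929, 1, 7⟩)) (.node 1 (.one ⟨16437, 0, 5⟩) (.one ⟨3633, 0, 5⟩))) (.node 2 (.node 1 (.one ⟨15142, 2, 6⟩) (.one ⟨5652, 0, 5⟩)) (.node 1 (.one ⟨3321, 2, 2⟩) (.one ⟨9308, 2, 1⟩)))) (.node 4 (.node 2 (.node 1 (.one ⟨6178, 1, 5⟩) (.one ⟨7599, 1, 3⟩)) (.node 1 (.one ⟨6701, 2, 6⟩) (.one ⟨15546, 2, 5⟩))) (.node 2 (.node 1 (.one ⟨1843, 1, 4⟩) (.one ⟨3747, 1, 5⟩)) (.node 1 (.one ⟨9230, 0, 5⟩) (.one ⟨12177, 1, 3⟩)))))))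
def par8_0_8 : Arr Par :=
  (.node 32 (.node 16 (.node 8 (.node 4 (.node 2 (.node 1 (.one ⟨9324, 1, 1⟩) (.one ⟨1921, 2, 4⟩)) (.node 1 (.one ⟨10064, 1, 5⟩) (.one ⟨10318, 1, 4⟩))) (.node 2 (.node 1 (.one ⟨6042, 2, 5⟩) (.one ⟨8311, 0, 5⟩)) (.node 1 (.one ⟨3439, 1, 5⟩) (.one ⟨9363, 2, 2⟩)))) (.node 4 (.node 2 (.node 1 (.one ⟨15421, 1, 4⟩) (.one ⟨2338, 2, 4⟩)) (.node 1 (.one ⟨12265, 2, 6⟩) (.one ⟨13465, 1, 5⟩))) (.node 2 (.node 1 (.one ⟨13001, 0, 2⟩) (.one ⟨16897, 2, 6⟩)) (.node 1 (.one ⟨6982, 2, 5⟩) (.one ⟨15996, 1, 5⟩))))) (.node 8 (.node 4 (.node 2 (.node 1 (.one ⟨9920, 1, 2⟩) (.one ⟨1478, 2, 4⟩)) (.node 1 (.one ⟨8672, 2, 5⟩) (.one ⟨1650, 2, 4⟩))) (.node 2 (.node 1 (.one ⟨6919, 1, 5⟩) (.one ⟨10986, 2, 4⟩)) (.node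 1 (.one ⟨10810, 2, 6⟩) (.one ⟨14475, 2, 3⟩)))) (.node 4 (.node 2 (.node 1 (.one ⟨16382, 2, 4⟩) (.one ⟨14405, 1, 5⟩)) (.node 1 (.one ⟨7541, 2, 5⟩) (.one ⟨2289, 1, 3⟩))) (.node 2 (.node 1 (.one ⟨5065, 1, 5⟩) (.one ⟨7569, 1, 5⟩)) (.node 1 (.one ⟨8297, 1, 6⟩) (.one ⟨14862, 0, 4⟩)))))) (.node 16 (.node 8 (.node 4 (.node 2 (.node 1 (.one ⟨7143, 2, 3⟩) (.one ⟨2086, 1, 6⟩)) (.node 1 (.one ⟨5817, 1, 6⟩) (.one ⟨9457, 2, 2⟩))) (.node 2 (.node 1 (.one ⟨5083, 1, 3⟩) (.one ⟨15083, 2, 4⟩)) (.node 1 (.one ⟨16070, 1, 6⟩) (.one ⟨3262, 0, 5⟩)))) (.node 4 (.node 2 (.node 1 (.one ⟨3400, 1, 6⟩) (.one ⟨785, 1, 6⟩)) (.node 1 (.one ⟨1927, 1, 2⟩) (.one ⟨1132, 1, 5⟩))) (.node 2 (.node 1 (.one ⟨14445, 2, 1⟩) (.one ⟨11018, 1, 5⟩)) (.node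 1 (.one ⟨14901, 1, 3⟩) (.one ⟨11710, 0, 5⟩))))) (.node 8 (.node 4 (.node 2 (.node 1 (.one ⟨9051, 1, 5⟩) (.one ⟨11686, 0, 4⟩)) (.node 1 (.one ⟨564, 2, 2⟩) (.one ⟨7321, 1, 5⟩))) (.node 2 (.node 1 (.one ⟨9312, 1, 1⟩) (.one ⟨3346, 2, 6⟩)) (.node 1 (.one ⟨4203, 2, 5⟩) (.one ⟨9678, 1, 5⟩)))) (.node 4 (.node 2 (.node 1 (.one ⟨10979, 1, 7⟩) (.one ⟨1716, 1, 4⟩)) (.node 1 (.one ⟨3984, 1, 7⟩) (.one ⟨7149, 2, 7⟩))) (.node 2 (.node 1 (.one ⟨6371, 2, 1⟩) (.one ⟨8825, 2, 5⟩)) (.node 1 (.one ⟨1334, 2, 6⟩) (.one ⟨11918, 2, 4⟩)))))))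
def par8_0_9 : Arr Par :=
  (.node 32 (.node 16 (.node 8 (.node 4 (.node 2 (.node 1 (.one ⟨2849, 1, 4⟩) (.one ⟨4281, 1, 0⟩)) (.node 1 (.one ⟨9494, 0, 1⟩) (.one ⟨9082, 1, 3⟩))) (.node 2 (.node 1 (.one ⟨5238, 1, 4⟩) (.one ⟨9502, 0, 1⟩)) (.node 1 (.one ⟨3673, 2, 3⟩) (.one ⟨1489, 1, 1⟩)))) (.node 4 (.node 2 (.node 1 (.one ⟨16153, 2, 4⟩) (.one ⟨12544, 2, 4⟩)) (.node 1 (.one ⟨11157, 1, 4⟩) (.one ⟨3780, 1, 4⟩))) (.node 2 (.node 1 (.one ⟨4401, 0, 0⟩) (.one ⟨4308, 2, 4⟩)) (.node 1 (.one ⟨9379, 0, 1⟩) (.one ⟨13521, 1, 4⟩))))) (.node 8 (.node 4 (.node 2 (.node 1 (.one ⟨4326, 1, 0⟩) (.one ⟨1554, 0, 1⟩)) (.node 1 (.one ⟨15524, 2, 4⟩) (.one ⟨1211, 0, 1⟩))) (.node 2 (.node 1 (.one ⟨15674, 1, 5⟩) (.one ⟨4932, 1, 3⟩)) (.node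 1 (.one ⟨10026, 1, 5⟩) (.one ⟨16656, 2, 4⟩)))) (.node 4 (.node 2 (.node 1 (.one ⟨6472, 2, 4⟩) (.one ⟨4567, 1, 0⟩)) (.node 1 (.one ⟨4413, 0, 0⟩) (.one ⟨4315, 1, 0⟩))) (.node 2 (.node 1 (.one ⟨1369, 0, 1⟩) (.one ⟨4500, 1, 0⟩)) (.node 1 (.one ⟨4261, 1, 0⟩) (.one ⟨4203, 0, 0⟩)))))) (.node 16 (.node 8 (.node 4 (.node 2 (.node 1 (.one ⟨2533, 2, 4⟩) (.one ⟨4303, 0, 0⟩)) (.node 1 (.one ⟨16809, 1, 4⟩) (.one ⟨4485, 1, 0⟩))) (.node 2 (.node 1 (.one ⟨2071, 2, 5⟩) (.one ⟨13955, 1, 6⟩)) (.node 1 (.one ⟨14123, 1, 7⟩) (.one ⟨2697, 1, 3⟩)))) (.node 4 (.node 2 (.node 1 (.one ⟨14485, 2, 1⟩) (.one ⟨9373, 1, 1⟩)) (.node 1 (.one ⟨11237, 2, 7⟩) (.one ⟨16459, 2, 6⟩))) (.node 2 (.node 1 (.one ⟨3296, 1, 3⟩) (.one ⟨10130, 2, 4⟩)) (.node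 1 (.one ⟨12038, 2, 6⟩) (.one ⟨7592, 0, 5⟩))))) (.node 8 (.node 4 (.node 2 (.node 1 (.one ⟨6096, 2, 4⟩) (.one ⟨2298, 0, 5⟩)) (.node 1 (.one ⟨5060, 0, 5⟩) (.one ⟨15912, 1, 3⟩))) (.node 2 (.node 1 (.one ⟨11429, 0, 4⟩) (.one ⟨10174, 1, 5⟩)) (.node 1 (.one ⟨7730, 1, 5⟩) (.one ⟨1767, 2, 4⟩)))) (.node 4 (.node 2 (.node 1 (.one ⟨6327, 2, 2⟩) (.one ⟨12005, 1, 4⟩)) (.node 1 (.one ⟨5214, 1, 4⟩) (.one ⟨16508, 2, 2⟩))) (.node 2 (.node 1 (.one ⟨14387, 2, 5⟩) (.one ⟨7810, 2, 5⟩)) (.node 1 (.one ⟨10834, 2, 6⟩) (.one ⟨3902, 2, 5⟩)))))))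
def par8_0_10 : Arr Par :=
  (.node 32 (.node 16 (.node 8 (.node 4 (.node 2 (.node 1 (.one ⟨13438, 2, 4⟩) (.one ⟨1502, 1, 1⟩)) (.node 1 (.one ⟨4131, 2, 1⟩) (.one ⟨4818, 1, 0⟩))) (.node 2 (.node 1 (.one ⟨5708, 0, 5⟩) (.one ⟨15857, 1, 2⟩)) (.node 1 (.one ⟨3093, 0, 5⟩) (.one ⟨649, 2, 2⟩)))) (.node 4 (.node 2 (.node 1 (.one ⟨650, 2, 5⟩) (.one ⟨9360, 1, 1⟩)) (.node 1 (.one ⟨4968, 0, 4⟩) (.one ⟨8920, 1, 5⟩))) (.node 2 (.node 1 (.one ⟨13002, 0, 2⟩) (.one ⟨3052, 0, 2⟩)) (.node 1 (.one ⟨245, 0, 2⟩) (.one ⟨13702, 2, 3⟩))))) (.node 8 (.node 4 (.node 2 (.node 1 (.one ⟨8107, 1, 3⟩) (.one ⟨11302, 2, 4⟩)) (.node 1 (.one ⟨7193, 0, 5⟩) (.one ⟨14490, 2, 4⟩))) (.node 2 (.node 1 (.one ⟨6713, 2, 4⟩) (.one ⟨10865, 2, 3⟩)) (.node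 1 (.one ⟨2443, 2, 4⟩) (.one ⟨4694, 0, 5⟩)))) (.node 4 (.node 2 (.node 1 (.one ⟨8371, 1, 3⟩) (.one ⟨12058, 2, 3⟩)) (.node 1 (.one ⟨16328, 1, 2⟩) (.one ⟨4180, 2, 5⟩))) (.node 2 (.node 1 (.one ⟨11670, 1, 6⟩) (.one ⟨526, 1, 6⟩)) (.node 1 (.one ⟨4147, 2, 6⟩) (.one ⟨6867, 2, 6⟩)))))) (.node 16 (.node 8 (.node 4 (.node 2 (.node 1 (.one ⟨5862, 2, 6⟩) (.one ⟨7075, 2, 5⟩)) (.node 1 (.one ⟨13107, 1, 7⟩) (.one ⟨13812, 2, 4⟩))) (.node 2 (.node 1 (.one ⟨1619, 2, 4⟩) (.one ⟨7349, 2, 5⟩)) (.node 1 (.one ⟨2753, 0, 5⟩) (.one ⟨3443, 1, 5⟩)))) (.node 4 (.node 2 (.node 1 (.one ⟨10841, 2, 6⟩) (.one ⟨2747, 2, 6⟩)) (.node 1 (.one ⟨3157, 1, 6⟩) (.one ⟨7562, 1, 6⟩))) (.node 2 (.node 1 (.one ⟨9823, 0, 6⟩) (.one ⟨9894, 2, 3⟩)) (.node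 1 (.one ⟨15502, 2, 3⟩) (.one ⟨7150, 2, 3⟩))))) (.node 8 (.node 4 (.node 2 (.node 1 (.one ⟨10355, 0, 5⟩) (.one ⟨10356, 2, 3⟩)) (.node 1 (.one ⟨14737, 2, 3⟩) (.one ⟨6787, 2, 4⟩))) (.node 2 (.node 1 (.one ⟨13800, 1, 5⟩) (.one ⟨13514, 2, 4⟩)) (.node 1 (.one ⟨8044, 1, 6⟩) (.one ⟨9475, 1, 4⟩)))) (.node 4 (.node 2 (.node 1 (.one ⟨9647, 2, 2⟩) (.one ⟨13776, 1, 3⟩)) (.node 1 (.one ⟨7983, 1, 3⟩) (.one ⟨9476, 1, 1⟩))) (.node 2 (.node 1 (.one ⟨9387, 2, 2⟩) (.one ⟨12944, 1, 4⟩)) (.node 1 (.one ⟨2961, 2, 5⟩) (.one ⟨10794, 2, 4⟩)))))))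
def par8_0_11 : Arr Par :=
  (.node 32 (.node 16 (.node 8 (.node 4 (.node 2 (.node 1 (.one ⟨4861, 2, 6⟩) (.one ⟨8209, 2, 4⟩)) (.node 1 (.one ⟨1527, 1, 1⟩) (.one ⟨15573, 1, 2⟩))) (.node 2 (.node 1 (.one ⟨1359, 2, 2⟩) (.one ⟨12136, 0, 5⟩)) (.node 1 (.one ⟨5998, 1, 5⟩) (.one ⟨13816, 2, 3⟩)))) (.node 4 (.node 2 (.node 1 (.one ⟨11851, 0, 5⟩) (.one ⟨11696, 2, 4⟩)) (.node 1 (.one ⟨7869, 1, 4⟩) (.one ⟨15084, 0, 2⟩))) (.node 2 (.node 1 (.one ⟨11717, 1, 5⟩) (.one ⟨6705, 2, 6⟩)) (.node 1 (.one ⟨9203, 2, 2⟩) (.one ⟨6648, 1, 3⟩))))) (.node 8 (.node 4 (.node 2 (.node 1 (.one ⟨722, 2, 5⟩) (.one ⟨5932, 0, 4⟩)) (.node 1 (.one ⟨15988, 0, 4⟩) (.one ⟨721, 2, 5⟩))) (.node 2 (.node 1 (.one ⟨9481, 1, 1⟩) (.one ⟨8764, 2, 6⟩)) (.node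 1 (.one ⟨15140, 0, 3⟩) (.one ⟨14007, 1, 4⟩)))) (.node 4 (.node 2 (.node 1 (.one ⟨15401, 1, 2⟩) (.one ⟨1736, 1, 4⟩)) (.node 1 (.one ⟨16831, 2, 4⟩) (.one ⟨1524, 1, 1⟩))) (.node 2 (.node 1 (.one ⟨5754, 1, 2⟩) (.one ⟨10268, 2, 4⟩)) (.node 1 (.one ⟨4448, 1, 7⟩) (.one ⟨581, 1, 2⟩)))))) (.node 16 (.node 8 (.node 4 (.node 2 (.node 1 (.one ⟨561, 1, 5⟩) (.one ⟨2215, 2, 1⟩)) (.node 1 (.one ⟨3470, 1, 5⟩) (.one ⟨10067, 2, 1⟩))) (.node 2 (.node 1 (.one ⟨5183, 1, 6⟩) (.one ⟨11568, 0, 2⟩)) (.node 1 (.one ⟨853, 0, 4⟩) (.one ⟨12788, 1, 4⟩)))) (.node 4 (.node 2 (.node 1 (.one ⟨1644, 2, 1⟩) (.one ⟨604, 1, 2⟩)) (.node 1 (.one ⟨2242, 2, 7⟩) (.one ⟨1218, 2, 6⟩))) (.node 2 (.node 1 (.one ⟨5782, 2, 5⟩) (.one ⟨7571, 1, 1⟩)) (.node 1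 (.one ⟨10393, 1, 5⟩) (.one ⟨16641, 1, 5⟩))))) (.node 8 (.node 4 (.node 2 (.node 1 (.one ⟨8927, 1, 2⟩) (.one ⟨4804, 1, 5⟩)) (.node 1 (.one ⟨8448, 0, 5⟩) (.one ⟨10735, 0, 6⟩))) (.node 2 (.node 1 (.one ⟨11738, 1, 5⟩) (.one ⟨1029, 0, 6⟩)) (.node 1 (.one ⟨825, 2, 5⟩) (.one ⟨824, 2, 6⟩)))) (.node 4 (.node 2 (.node 1 (.one ⟨823, 2, 2⟩) (.one ⟨8849, 1, 4⟩)) (.node 1 (.one ⟨8979, 0, 5⟩) (.one ⟨10371, 2, 1⟩))) (.node 2 (.node 1 (.one ⟨11004, 1, 7⟩) (.one ⟨7987, 1, 1⟩)) (.node 1 (.one ⟨13737, 1, 4⟩) (.one ⟨5242, 1, 3⟩)))))))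
def par8_0_12 : Arr Par :=
  (.node 32 (.node 16 (.node 8 (.node 4 (.node 2 (.node 1 (.one ⟨9672, 1, 5⟩) (.one ⟨3738, 2, 6⟩)) (.node 1 (.one ⟨14775, 1, 2⟩) (.one ⟨4552, 0, 5⟩))) (.node 2 (.node 1 (.one ⟨2970, 1, 7⟩) (.one ⟨12710, 0, 2⟩)) (.node 1 (.one ⟨3521, 1, 4⟩) (.one ⟨12201, 2, 6⟩)))) (.node 4 (.node 2 (.node 1 (.one ⟨15731, 1, 5⟩) (.one ⟨4600, 1, 0⟩)) (.node 1 (.one ⟨13077, 1, 5⟩) (.one ⟨3808, 2, 2⟩))) (.node 2 (.node 1 (.one ⟨16638, 0, 5⟩) (.one ⟨14709, 2, 6⟩)) (.node 1 (.one ⟨8616, 0, 5⟩) (.one ⟨8559, 0, 2⟩))))) (.node 8 (.node 4 (.node 2 (.node 1 (.one ⟨9645, 2, 6⟩) (.one ⟨7054, 2, 5⟩)) (.node 1 (.one ⟨6686, 2, 4⟩) (.one ⟨10966, 2, 4⟩))) (.node 2 (.node 1 (.one ⟨8617, 1, 4⟩) (.one ⟨2752, 0, 6⟩)) (.node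 1 (.one ⟨14853, 1, 5⟩) (.one ⟨16297, 2, 6⟩)))) (.node 4 (.node 2 (.node 1 (.one ⟨10055, 1, 4⟩) (.one ⟨6741, 1, 4⟩)) (.node 1 (.one ⟨12076, 0, 6⟩) (.one ⟨16385, 0, 2⟩))) (.node 2 (.node 1 (.one ⟨12059, 1, 5⟩) (.one ⟨15082, 0, 2⟩)) (.node 1 (.one ⟨12520, 1, 6⟩) (.one ⟨9311, 1, 1⟩)))))) (.node 16 (.node 8 (.node 4 (.node 2 (.node 1 (.one ⟨6509, 2, 1⟩) (.one ⟨16315, 2, 4⟩)) (.node 1 (.one ⟨14352, 2, 5⟩) (.one ⟨616, 1, 2⟩))) (.node 2 (.node 1 (.one ⟨16932, 1, 4⟩) (.one ⟨4848, 2, 5⟩)) (.node 1 (.one ⟨9323, 1, 6⟩) (.one ⟨10290, 2, 5⟩)))) (.node 4 (.node 2 (.node 1 (.one ⟨14966, 0, 7⟩) (.one ⟨13168, 1, 7⟩)) (.node 1 (.one ⟨16370, 0, 2⟩) (.one ⟨7184, 1, 3⟩))) (.node 2 (.node 1 (.one ⟨7618, 0, 2⟩) (.one ⟨15111, 2, 5⟩))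 (.node 1 (.one ⟨4518, 1, 7⟩) (.one ⟨5726, 2, 5⟩))))) (.node 8 (.node 4 (.node 2 (.node 1 (.one ⟨1345, 2, 4⟩) (.one ⟨11595, 1, 4⟩)) (.node 1 (.one ⟨13943, 1, 2⟩) (.one ⟨473, 0, 3⟩))) (.node 2 (.node 1 (.one ⟨14248, 2, 6⟩) (.one ⟨17005, 1, 4⟩)) (.node 1 (.one ⟨761, 2, 5⟩) (.one ⟨1119, 1, 1⟩)))) (.node 4 (.node 2 (.node 1 (.one ⟨2405, 0, 5⟩) (.one ⟨9570, 0, 4⟩)) (.node 1 (.one ⟨12443, 1, 5⟩) (.one ⟨11784, 1, 3⟩))) (.node 2 (.node 1 (.one ⟨13577, 2, 6⟩) (.one ⟨4876, 0, 5⟩)) (.node 1 (.one ⟨13555, 2, 5⟩) (.one ⟨15571, 1, 2⟩)))))))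
def par8_0_13 : Arr Par :=
  (.node 32 (.node 16 (.node 8 (.node 4 (.node 2 (.node 1 (.one ⟨1120, 1, 1⟩) (.one ⟨3418, 0, 5⟩)) (.node 1 (.one ⟨14427, 0, 4⟩) (.one ⟨8949, 0, 2⟩))) (.node 2 (.node 1 (.one ⟨12527, 0, 5⟩) (.one ⟨9701, 2, 5⟩)) (.node 1 (.one ⟨1683, 2, 6⟩) (.one ⟨3402, 1, 5⟩)))) (.node 4 (.node 2 (.node 1 (.one ⟨1028, 1, 6⟩) (.one ⟨14644, 2, 7⟩)) (.node 1 (.one ⟨4652, 2, 5⟩) (.one ⟨10386, 1, 2⟩))) (.node 2 (.node 1 (.one ⟨14722, 1, 5⟩) (.one ⟨7728, 1, 2⟩)) (.node 1 (.one ⟨3733, 2, 5⟩) (.one ⟨12689, 0, 4⟩))))) (.node 8 (.node 4 (.node 2 (.node 1 (.one ⟨15324, 0, 4⟩) (.one ⟨1599, 2, 5⟩)) (.node 1 (.one ⟨13840, 2, 4⟩) (.one ⟨10832, 2, 4⟩))) (.node 2 (.node 1 (.one ⟨6657, 2, 4⟩) (.one ⟨11198, 2, 3⟩))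 (.node 1 (.one ⟨8224, 2, 6⟩) (.one ⟨17022, 0, 5⟩)))) (.node 4 (.node 2 (.node 1 (.one ⟨8606, 0, 2⟩) (.one ⟨9238, 2, 5⟩)) (.node 1 (.one ⟨14807, 1, 1⟩) (.one ⟨3232, 0, 5⟩))) (.node 2 (.node 1 (.one ⟨4374, 1, 7⟩) (.one ⟨3210, 0, 5⟩)) (.node 1 (.one ⟨1738, 2, 4⟩) (.one ⟨6051, 1, 3⟩)))))) (.node 16 (.node 8 (.node 4 (.node 2 (.node 1 (.one ⟨316, 1, 6⟩) (.one ⟨8091, 2, 5⟩)) (.node 1 (.one ⟨3405, 1, 3⟩) (.one ⟨16872, 1, 4⟩))) (.node 2 (.node 1 (.one ⟨16051, 2, 5⟩) (.one ⟨6420, 1, 7⟩)) (.node 1 (.one ⟨15606, 2, 6⟩) (.one ⟨10323, 2, 4⟩)))) (.node 4 (.node 2 (.node 1 (.one ⟨5820, 1, 6⟩) (.one ⟨3981, 0, 5⟩)) (.node 1 (.one ⟨7339, 2, 3⟩) (.one ⟨15697, 1, 4⟩))) (.node 2 (.node 1 (.one ⟨931, 2, 5⟩) (.one ⟨932, 2, 5⟩)) (.node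 1 (.one ⟨9250, 1, 1⟩) (.one ⟨11766, 1, 5⟩))))) (.node 8 (.node 4 (.node 2 (.node 1 (.one ⟨8486, 1, 7⟩) (.one ⟨1508, 1, 5⟩)) (.node 1 (.one ⟨15332, 1, 4⟩) (.one ⟨2481, 1, 5⟩))) (.node 2 (.node 1 (.one ⟨10670, 1, 5⟩) (.one ⟨7288, 1, 5⟩)) (.node 1 (.one ⟨11862, 1, 6⟩) (.one ⟨5115, 2, 4⟩)))) (.node 4 (.node 2 (.node 1 (.one ⟨10478, 2, 3⟩) (.one ⟨2862, 2, 4⟩)) (.node 1 (.one ⟨9039, 1, 6⟩) (.one ⟨5531, 1, 7⟩))) (.node 2 (.node 1 (.one ⟨3757, 0, 5⟩) (.one ⟨3185, 2, 4⟩)) (.node 1 (.one ⟨3558, 0, 4⟩) (.one ⟨13818, 2, 3⟩)))))))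
def par8_0_14 : Arr Par :=
  (.node 32 (.node 16 (.node 8 (.node 4 (.node 2 (.node 1 (.one ⟨68, 1, 2⟩) (.one ⟨3370, 1, 3⟩)) (.node 1 (.one ⟨7187, 1, 2⟩) (.one ⟨15622, 2, 5⟩))) (.node 2 (.node 1 (.one ⟨401, 0, 6⟩) (.one ⟨9262, 1, 1⟩)) (.node 1 (.one ⟨13948, 1, 2⟩) (.one ⟨15220, 2, 6⟩)))) (.node 4 (.node 2 (.node 1 (.one ⟨15515, 1, 5⟩) (.one ⟨5467, 1, 4⟩)) (.node 1 (.one ⟨10745, 1, 3⟩) (.one ⟨8126, 1, 5⟩))) (.node 2 (.node 1 (.one ⟨11882, 1, 7⟩) (.one ⟨7019, 2, 4⟩)) (.node 1 (.one ⟨6583, 2, 4⟩) (.one ⟨1268, 2, 2⟩))))) (.node 8 (.node 4 (.node 2 (.node 1 (.one ⟨2055, 2, 6⟩) (.one ⟨10228, 2, 5⟩)) (.node 1 (.one ⟨5516, 2, 6⟩) (.one ⟨14366, 2, 3⟩))) (.node 2 (.node 1 (.one ⟨2341, 2, 3⟩) (.one ⟨9686, 1, 3⟩)) (.node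 1 (.one ⟨6438, 2, 4⟩) (.one ⟨13746, 2, 3⟩)))) (.node 4 (.node 2 (.node 1 (.one ⟨1786, 2, 4⟩) (.one ⟨16582, 0, 5⟩)) (.node 1 (.one ⟨5616, 2, 4⟩) (.one ⟨4738, 1, 5⟩))) (.node 2 (.node 1 (.one ⟨10235, 2, 2⟩) (.one ⟨80, 1, 2⟩)) (.node 1 (.one ⟨2183, 2, 1⟩) (.one ⟨10727, 1, 2⟩)))))) (.node 16 (.node 8 (.node 4 (.node 2 (.node 1 (.one ⟨4811, 1, 0⟩) (.one ⟨2738, 1, 3⟩)) (.node 1 (.one ⟨5935, 1, 4⟩) (.one ⟨6847, 0, 4⟩))) (.node 2 (.node 1 (.one ⟨9064, 0, 4⟩) (.one ⟨878, 2, 2⟩)) (.node 1 (.one ⟨16059, 1, 4⟩) (.one ⟨976, 1, 5⟩)))) (.node 4 (.node 2 (.node 1 (.one ⟨5251, 0, 5⟩) (.one ⟨14423, 1, 1⟩)) (.node 1 (.one ⟨10153, 1, 5⟩) (.one ⟨3048, 0, 2⟩))) (.node 2 (.node 1 (.one ⟨1682, 1, 7⟩) (.one ⟨2894, 0, 7⟩)) (.node 1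 (.one ⟨9319, 1, 1⟩) (.one ⟨3622, 2, 6⟩))))) (.node 8 (.node 4 (.node 2 (.node 1 (.one ⟨13755, 2, 3⟩) (.one ⟨9922, 1, 2⟩)) (.node 1 (.one ⟨13090, 0, 7⟩) (.one ⟨15920, 2, 6⟩))) (.node 2 (.node 1 (.one ⟨3442, 1, 2⟩) (.one ⟨1124, 1, 1⟩)) (.node 1 (.one ⟨4970, 1, 6⟩) (.one ⟨6490, 2, 2⟩)))) (.node 4 (.node 2 (.node 1 (.one ⟨14397, 2, 7⟩) (.one ⟨8165, 2, 6⟩)) (.node 1 (.one ⟨12281, 0, 5⟩) (.one ⟨9315, 1, 1⟩))) (.node 2 (.node 1 (.one ⟨3073, 0, 5⟩) (.one ⟨11963, 2, 2⟩)) (.node 1 (.one ⟨11171, 0, 4⟩) (.one ⟨5185, 2, 4⟩)))))))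
def par8_0_15 : Arr Par :=
  (.node 32 (.node 16 (.node 8 (.node 4 (.node 2 (.node 1 (.one ⟨10294, 1, 6⟩) (.one ⟨6136, 1, 7⟩)) (.node 1 (.one ⟨6521, 2, 1⟩) (.one ⟨9025, 1, 5⟩))) (.node 2 (.node 1 (.one ⟨13627, 0, 4⟩) (.one ⟨11425, 1, 5⟩)) (.node 1 (.one ⟨9001, 2, 6⟩) (.one ⟨8468, 0, 5⟩)))) (.node 4 (.node 2 (.node 1 (.one ⟨3300, 1, 5⟩) (.one ⟨5730, 1, 4⟩)) (.node 1 (.one ⟨14581, 2, 3⟩) (.one ⟨3121, 2, 5⟩))) (.node 2 (.node 1 (.one ⟨9535, 2, 2⟩) (.one ⟨7767, 2, 4⟩)) (.node 1 (.one ⟨11347, 1, 2⟩) (.one ⟨974, 2, 3⟩))))) (.node 8 (.node 4 (.node 2 (.node 1 (.one ⟨15664, 0, 4⟩) (.one ⟨13556, 1, 5⟩)) (.node 1 (.one ⟨14907, 1, 5⟩) (.one ⟨1498, 1, 4⟩))) (.node 2 (.node 1 (.one ⟨14040, 2, 3⟩) (.one ⟨361, 1, 2⟩)) (.node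 1 (.one ⟨2413, 2, 7⟩) (.one ⟨10048, 2, 5⟩)))) (.node 4 (.node 2 (.node 1 (.one ⟨2776, 2, 4⟩) (.one ⟨16010, 1, 5⟩)) (.node 1 (.one ⟨9836, 2, 7⟩) (.one ⟨3137, 1, 2⟩))) (.node 2 (.node 1 (.one ⟨8503, 1, 4⟩) (.one ⟨3990, 1, 4⟩)) (.node 1 (.one ⟨10019, 2, 5⟩) (.one ⟨6177, 1, 6⟩)))))) (.node 16 (.node 8 (.node 4 (.node 2 (.node 1 (.one ⟨11445, 1, 4⟩) (.one ⟨13599, 1, 5⟩)) (.node 1 (.one ⟨8354, 1, 4⟩) (.one ⟨9859, 0, 5⟩))) (.node 2 (.node 1 (.one ⟨12856, 0, 5⟩) (.one ⟨1493, 1, 1⟩)) (.node 1 (.one ⟨3847, 2, 3⟩) (.one ⟨4778, 2, 6⟩)))) (.node 4 (.node 2 (.node 1 (.one ⟨8324, 2, 5⟩) (.one ⟨10751, 1, 6⟩)) (.node 1 (.one ⟨4296, 0, 5⟩) (.one ⟨14292, 0, 5⟩))) (.node 2 (.node 1 (.one ⟨926, 1, 2⟩) (.one ⟨15843, 0, 4⟩)) (.node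 1 (.one ⟨6364, 2, 5⟩) (.one ⟨13608, 1, 2⟩))))) (.node 8 (.node 4 (.node 2 (.node 1 (.one ⟨7219, 2, 4⟩) (.one ⟨3228, 1, 3⟩)) (.node 1 (.one ⟨7814, 0, 2⟩) (.one ⟨15261, 1, 3⟩))) (.node 2 (.node 1 (.one ⟨10921, 1, 6⟩) (.one ⟨13412, 2, 5⟩)) (.node 1 (.one ⟨16605, 0, 5⟩) (.one ⟨2728, 2, 1⟩)))) (.node 4 (.node 2 (.node 1 (.one ⟨15320, 0, 6⟩) (.one ⟨5771, 2, 5⟩)) (.node 1 (.one ⟨232, 0, 2⟩) (.one ⟨7844, 0, 6⟩))) (.node 2 (.node 1 (.one ⟨16411, 0, 4⟩) (.one ⟨3152, 1, 6⟩)) (.node 1 (.one ⟨2083, 1, 6⟩) (.one ⟨11783, 1, 6⟩)))))))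
def par8_0 : Arr Par :=
  (.node 512 (.node 256 (.node 128 (.node 64 par8_0_0 par8_0_1) (.node 64 par8_0_2 par8_0_3)) (.node 128 (.node 64 par8_0_4 par8_0_5) (.node 64 par8_0_6 par8_0_7))) (.node 256 (.node 128 (.node 64 par8_0_8 par8_0_9) (.node 64 par8_0_10 par8_0_11)) (.node 128 (.node 64 par8_0_12 par8_0_13) (.node 64 par8_0_14 par8_0_15))))
def par8_1_0 : Arr Par :=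
  (.node 32 (.node 16 (.node 8 (.node 4 (.node 2 (.node 1 (.one ⟨14738, 0, 5⟩) (.one ⟨5891, 2, 5⟩)) (.node 1 (.one ⟨2631, 2, 3⟩) (.one ⟨3881, 0, 2⟩))) (.node 2 (.node 1 (.one ⟨6613, 2, 5⟩) (.one ⟨11030, 2, 5⟩)) (.node 1 (.one ⟨14117, 2, 5⟩) (.one ⟨1469, 2, 2⟩)))) (.node 4 (.node 2 (.node 1 (.one ⟨12168, 0, 2⟩) (.one ⟨1034, 2, 5⟩)) (.node 1 (.one ⟨4725, 0, 4⟩) (.one ⟨1036, 2, 5⟩))) (.node 2 (.node 1 (.one ⟨10866, 0, 4⟩) (.one ⟨849, 1, 6⟩)) (.node 1 (.one ⟨6047, 1, 6⟩) (.one ⟨16816, 1, 5⟩))))) (.node 8 (.node 4 (.node 2 (.node 1 (.one ⟨6343, 2, 3⟩) (.one ⟨9675, 1, 2⟩)) (.node 1 (.one ⟨16622, 1, 7⟩) (.one ⟨2167, 2, 1⟩))) (.node 2 (.node 1 (.one ⟨10692, 2, 5⟩) (.one ⟨5908, 1, 3⟩)) (.node 1 (.one ⟨4437, 2, 5⟩) (.one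 ⟨9500, 2, 1⟩)))) (.node 4 (.node 2 (.node 1 (.one ⟨3474, 1, 6⟩) (.one ⟨15185, 1, 5⟩)) (.node 1 (.one ⟨5340, 1, 3⟩) (.one ⟨13441, 1, 5⟩))) (.node 2 (.node 1 (.one ⟨9851, 2, 2⟩) (.one ⟨1551, 2, 3⟩)) (.node 1 (.one ⟨3013, 1, 4⟩) (.one ⟨6416, 1, 4⟩)))))) (.node 16 (.node 8 (.node 4 (.node 2 (.node 1 (.one ⟨8147, 2, 5⟩) (.one ⟨10350, 2, 4⟩)) (.node 1 (.one ⟨3618, 1, 7⟩) (.one ⟨13628, 1, 3⟩))) (.node 2 (.node 1 (.one ⟨1977, 1, 6⟩) (.one ⟨1628, 1, 5⟩)) (.node 1 (.one ⟨6585, 2, 3⟩) (.one ⟨14044, 1, 5⟩)))) (.node 4 (.node 2 (.node 1 (.one ⟨16298, 1, 5⟩) (.one ⟨5522, 1, 5⟩)) (.node 1 (.one ⟨10678, 1, 6⟩) (.one ⟨7368, 1, 5⟩))) (.node 2 (.node 1 (.one ⟨1632, 2, 3⟩) (.one ⟨10289, 1, 2⟩)) (.node 1 (.one ⟨1648, 2, 3⟩) (.one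 ⟨9071, 2, 4⟩))))) (.node 8 (.node 4 (.node 2 (.node 1 (.one ⟨13490, 2, 2⟩) (.one ⟨1801, 1, 4⟩)) (.node 1 (.one ⟨12478, 1, 6⟩) (.one ⟨13918, 2, 2⟩))) (.node 2 (.node 1 (.one ⟨1207, 2, 5⟩) (.one ⟨13265, 2, 4⟩)) (.node 1 (.one ⟨8792, 2, 2⟩) (.one ⟨11155, 1, 4⟩)))) (.node 4 (.node 2 (.node 1 (.one ⟨13869, 2, 2⟩) (.one ⟨12447, 1, 4⟩)) (.node 1 (.one ⟨1377, 1, 7⟩) (.one ⟨14624, 0, 4⟩))) (.node 2 (.node 1 (.one ⟨348, 1, 4⟩) (.one ⟨10368, 0, 3⟩)) (.node 1 (.one ⟨5190, 1, 5⟩) (.one ⟨924, 1, 3⟩)))))))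
def par8_1_1 : Arr Par :=
  (.node 32 (.node 16 (.node 8 (.node 4 (.node 2 (.node 1 (.one ⟨1026, 1, 4⟩) (.one ⟨13960, 1, 6⟩)) (.node 1 (.one ⟨7983, 0, 3⟩) (.one ⟨1843, 0, 4⟩))) (.node 2 (.node 1 (.one ⟨8373, 0, 3⟩) (.one ⟨16369, 2, 2⟩)) (.node 1 (.one ⟨93, 1, 4⟩) (.one ⟨8749, 1, 4⟩)))) (.node 4 (.node 2 (.node 1 (.one ⟨10006, 2, 5⟩) (.one ⟨10808, 0, 6⟩)) (.node 1 (.one ⟨11597, 0, 4⟩) (.one ⟨9936, 0, 6⟩))) (.node 2 (.node 1 (.one ⟨14819, 2, 6⟩) (.one ⟨11632, 2, 6⟩)) (.node 1 (.one ⟨14999, 1, 2⟩) (.one ⟨16263, 0, 1⟩))))) (.node 8 (.node 4 (.node 2 (.node 1 (.one ⟨7667, 2, 1⟩) (.one ⟨16390, 1, 4⟩)) (.node 1 (.one ⟨5644, 1, 4⟩) (.one ⟨4004, 2, 4⟩))) (.node 2 (.node 1 (.one ⟨6313, 2, 3⟩) (.one ⟨16247, 2, 6⟩)) (.node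 1 (.one ⟨10421, 2, 6⟩) (.one ⟨8782, 2, 3⟩)))) (.node 4 (.node 2 (.node 1 (.one ⟨3184, 2, 5⟩) (.one ⟨7675, 2, 4⟩)) (.node 1 (.one ⟨442, 2, 4⟩) (.one ⟨4492, 0, 4⟩))) (.node 2 (.node 1 (.one ⟨4646, 2, 3⟩) (.one ⟨3246, 1, 4⟩)) (.node 1 (.one ⟨4012, 2, 6⟩) (.one ⟨4791, 1, 0⟩)))))) (.node 16 (.node 8 (.node 4 (.node 2 (.node 1 (.one ⟨4265, 1, 0⟩) (.one ⟨4532, 0, 1⟩)) (.node 1 (.one ⟨12641, 0, 4⟩) (.one ⟨857, 1, 6⟩))) (.node 2 (.node 1 (.one ⟨4493, 1, 0⟩) (.one ⟨16519, 1, 6⟩)) (.node 1 (.one ⟨4889, 1, 5⟩) (.one ⟨3675, 1, 3⟩)))) (.node 4 (.node 2 (.node 1 (.one ⟨15603, 2, 5⟩) (.one ⟨8572, 0, 1⟩)) (.node 1 (.one ⟨6898, 2, 2⟩) (.one ⟨8266, 1, 6⟩))) (.node 2 (.node 1 (.one ⟨13149, 2, 4⟩) (.one ⟨9453, 1, 6⟩)) (.node 1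 (.one ⟨8552, 0, 1⟩) (.one ⟨14225, 2, 7⟩))))) (.node 8 (.node 4 (.node 2 (.node 1 (.one ⟨2174, 0, 4⟩) (.one ⟨1467, 1, 5⟩)) (.node 1 (.one ⟨6304, 2, 7⟩) (.one ⟨5825, 0, 1⟩))) (.node 2 (.node 1 (.one ⟨13790, 2, 2⟩) (.one ⟨6526, 2, 5⟩)) (.node 1 (.one ⟨13910, 0, 6⟩) (.one ⟨13600, 2, 4⟩)))) (.node 4 (.node 2 (.node 1 (.one ⟨16760, 2, 4⟩) (.one ⟨8801, 2, 6⟩)) (.node 1 (.one ⟨6824, 1, 6⟩) (.one ⟨7618, 1, 2⟩))) (.node 2 (.node 1 (.one ⟨1452, 2, 6⟩) (.one ⟨699, 1, 2⟩)) (.node 1 (.one ⟨12710, 1, 2⟩) (.one ⟨14278, 2, 5⟩)))))))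
def par8_1_2 : Arr Par :=
  (.node 32 (.node 16 (.node 8 (.node 4 (.node 2 (.node 1 (.one ⟨9649, 1, 4⟩) (.one ⟨9819, 2, 7⟩)) (.node 1 (.one ⟨3165, 2, 6⟩) (.one ⟨4664, 2, 5⟩))) (.node 2 (.node 1 (.one ⟨11319, 1, 4⟩) (.one ⟨15129, 0, 3⟩)) (.node 1 (.one ⟨8481, 0, 3⟩) (.one ⟨10892, 2, 2⟩)))) (.node 4 (.node 2 (.node 1 (.one ⟨9782, 1, 6⟩) (.one ⟨9314, 2, 5⟩)) (.node 1 (.one ⟨604, 2, 2⟩) (.one ⟨10899, 2, 5⟩))) (.node 2 (.node 1 (.one ⟨11693, 0, 2⟩) (.one ⟨9484, 2, 5⟩)) (.node 1 (.one ⟨1495, 2, 2⟩) (.one ⟨14223, 2, 4⟩))))) (.node 8 (.node 4 (.node 2 (.node 1 (.one ⟨4659, 1, 0⟩) (.one ⟨58, 2, 5⟩)) (.node 1 (.one ⟨11989, 0, 5⟩) (.one ⟨6172, 2, 2⟩))) (.node 2 (.node 1 (.one ⟨16321, 0, 1⟩) (.one ⟨9147, 2, 6⟩)) (.node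 1 (.one ⟨901, 1, 2⟩) (.one ⟨15858, 2, 7⟩)))) (.node 4 (.node 2 (.node 1 (.one ⟨16762, 2, 7⟩) (.one ⟨2879, 1, 4⟩)) (.node 1 (.one ⟨4617, 1, 0⟩) (.one ⟨16374, 1, 2⟩))) (.node 2 (.node 1 (.one ⟨12168, 1, 2⟩) (.one ⟨10575, 1, 7⟩)) (.node 1 (.one ⟨2390, 2, 5⟩) (.one ⟨2594, 2, 5⟩)))))) (.node 16 (.node 8 (.node 4 (.node 2 (.node 1 (.one ⟨11850, 2, 5⟩) (.one ⟨15100, 2, 4⟩)) (.node 1 (.one ⟨9567, 1, 5⟩) (.one ⟨4360, 1, 0⟩))) (.node 2 (.node 1 (.one ⟨1306, 2, 4⟩) (.one ⟨8476, 2, 3⟩)) (.node 1 (.one ⟨7893, 1, 5⟩) (.one ⟨4650, 1, 0⟩)))) (.node 4 (.node 2 (.node 1 (.one ⟨7603, 2, 5⟩) (.one ⟨230, 2, 4⟩)) (.node 1 (.one ⟨6941, 1, 4⟩) (.one ⟨8323, 2, 5⟩))) (.node 2 (.node 1 (.one ⟨16694, 1, 6⟩) (.one ⟨15984, 1, 5⟩)) (.node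 1 (.one ⟨2534, 2, 4⟩) (.one ⟨4241, 1, 0⟩))))) (.node 8 (.node 4 (.node 2 (.node 1 (.one ⟨1647, 1, 2⟩) (.one ⟨77, 0, 1⟩)) (.node 1 (.one ⟨4307, 1, 0⟩) (.one ⟨2639, 1, 4⟩))) (.node 2 (.node 1 (.one ⟨2728, 1, 1⟩) (.one ⟨606, 0, 1⟩)) (.node 1 (.one ⟨2635, 1, 3⟩) (.one ⟨6983, 1, 4⟩)))) (.node 4 (.node 2 (.node 1 (.one ⟨4787, 1, 0⟩) (.one ⟨10411, 1, 4⟩)) (.node 1 (.one ⟨10323, 1, 4⟩) (.one ⟨4544, 1, 0⟩))) (.node 2 (.node 1 (.one ⟨582, 0, 4⟩) (.one ⟨10235, 1, 2⟩)) (.node 1 (.one ⟨10147, 1, 5⟩) (.one ⟨16580, 1, 4⟩)))))))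
def par8_1_3 : Arr Par :=
  (.node 32 (.node 16 (.node 8 (.node 4 (.node 2 (.node 1 (.one ⟨3752, 1, 3⟩) (.one ⟨4329, 2, 5⟩)) (.node 1 (.one ⟨9540, 1, 5⟩) (.one ⟨14767, 1, 3⟩))) (.node 2 (.node 1 (.one ⟨13076, 2, 5⟩) (.one ⟨8700, 1, 2⟩)) (.node 1 (.one ⟨5019, 2, 4⟩) (.one ⟨1660, 2, 4⟩)))) (.node 4 (.node 2 (.node 1 (.one ⟨4257, 2, 5⟩) (.one ⟨16807, 1, 3⟩)) (.node 1 (.one ⟨3779, 1, 4⟩) (.one ⟨8900, 1, 5⟩))) (.node 2 (.node 1 (.one ⟨12158, 1, 6⟩) (.one ⟨14765, 1, 5⟩)) (.node 1 (.one ⟨195, 1, 3⟩) (.one ⟨10043, 2, 2⟩))))) (.node 8 (.node 4 (.node 2 (.node 1 (.one ⟨5234, 1, 6⟩) (.one ⟨5316, 1, 4⟩)) (.node 1 (.one ⟨2712, 0, 3⟩) (.one ⟨5057, 2, 2⟩))) (.node 2 (.node 1 (.one ⟨686, 1, 4⟩) (.one ⟨9871, 2, 2⟩)) (.node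 1 (.one ⟨9877, 1, 6⟩) (.one ⟨13350, 1, 6⟩)))) (.node 4 (.node 2 (.node 1 (.one ⟨5486, 1, 4⟩) (.one ⟨16120, 1, 4⟩)) (.node 1 (.one ⟨5157, 2, 2⟩) (.one ⟨9291, 1, 1⟩))) (.node 2 (.node 1 (.one ⟨10123, 2, 6⟩) (.one ⟨1601, 2, 6⟩)) (.node 1 (.one ⟨7305, 1, 6⟩) (.one ⟨1077, 1, 5⟩)))))) (.node 16 (.node 8 (.node 4 (.node 2 (.node 1 (.one ⟨16705, 1, 4⟩) (.one ⟨4346, 1, 0⟩)) (.node 1 (.one ⟨11424, 2, 7⟩) (.one ⟨14506, 1, 2⟩))) (.node 2 (.node 1 (.one ⟨12554, 0, 1⟩) (.one ⟨5717, 2, 2⟩)) (.node 1 (.one ⟨4485, 0, 5⟩) (.one ⟨3706, 2, 7⟩)))) (.node 4 (.node 2 (.node 1 (.one ⟨8800, 2, 4⟩) (.one ⟨4630, 1, 0⟩)) (.node 1 (.one ⟨13601, 2, 7⟩) (.one ⟨458, 1, 2⟩))) (.node 2 (.node 1 (.one ⟨6154, 2, 5⟩) (.one ⟨15634, 2, 2⟩)) (.node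 1 (.one ⟨11079, 1, 3⟩) (.one ⟨13265, 1, 4⟩))))) (.node 8 (.node 4 (.node 2 (.node 1 (.one ⟨17065, 2, 2⟩) (.one ⟨8491, 1, 4⟩)) (.node 1 (.one ⟨7303, 1, 4⟩) (.one ⟨11983, 1, 4⟩))) (.node 2 (.node 1 (.one ⟨9565, 1, 1⟩) (.one ⟨7755, 1, 4⟩)) (.node 1 (.one ⟨6345, 1, 6⟩) (.one ⟨3905, 1, 4⟩)))) (.node 4 (.node 2 (.node 1 (.one ⟨13799, 2, 6⟩) (.one ⟨5364, 1, 4⟩)) (.node 1 (.one ⟨8793, 2, 3⟩) (.one ⟨9019, 2, 4⟩))) (.node 2 (.node 1 (.one ⟨2851, 1, 6⟩) (.one ⟨10144, 0, 3⟩)) (.node 1 (.one ⟨1980, 1, 5⟩) (.one ⟨4507, 2, 4⟩)))))))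
def par8_1_4 : Arr Par :=
  (.node 32 (.node 16 (.node 8 (.node 4 (.node 2 (.node 1 (.one ⟨7416, 2, 4⟩) (.one ⟨5417, 1, 4⟩)) (.node 1 (.one ⟨15110, 1, 6⟩) (.one ⟨7390, 1, 5⟩))) (.node 2 (.node 1 (.one ⟨12615, 1, 4⟩) (.one ⟨10644, 1, 4⟩)) (.node 1 (.one ⟨11138, 2, 4⟩) (.one ⟨5092, 1, 5⟩)))) (.node 4 (.node 2 (.node 1 (.one ⟨1832, 2, 3⟩) (.one ⟨15424, 1, 5⟩)) (.node 1 (.one ⟨12548, 2, 6⟩) (.one ⟨15161, 2, 4⟩))) (.node 2 (.node 1 (.one ⟨7780, 1, 3⟩) (.one ⟨4609, 1, 0⟩)) (.node 1 (.one ⟨658, 2, 6⟩) (.one ⟨2233, 2, 6⟩))))) (.node 8 (.node 4 (.node 2 (.node 1 (.one ⟨9086, 1, 3⟩) (.one ⟨15419, 0, 1⟩)) (.node 1 (.one ⟨15462, 0, 6⟩) (.one ⟨11454, 0, 6⟩))) (.node 2 (.node 1 (.one ⟨707, 1, 3⟩) (.one ⟨981, 2, 3⟩)) (.node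 1 (.one ⟨11459, 2, 5⟩) (.one ⟨16435, 1, 5⟩)))) (.node 4 (.node 2 (.node 1 (.one ⟨12090, 1, 6⟩) (.one ⟨16576, 1, 3⟩)) (.node 1 (.one ⟨12540, 1, 3⟩) (.one ⟨10574, 1, 6⟩))) (.node 2 (.node 1 (.one ⟨12890, 2, 4⟩) (.one ⟨10353, 1, 4⟩)) (.node 1 (.one ⟨15430, 0, 6⟩) (.one ⟨8298, 2, 3⟩)))))) (.node 16 (.node 8 (.node 4 (.node 2 (.node 1 (.one ⟨15191, 1, 4⟩) (.one ⟨3017, 0, 6⟩)) (.node 1 (.one ⟨10071, 1, 2⟩) (.one ⟨5939, 2, 2⟩))) (.node 2 (.node 1 (.one ⟨16398, 1, 6⟩) (.one ⟨12505, 2, 4⟩)) (.node 1 (.one ⟨14871, 0, 3⟩) (.one ⟨6001, 2, 4⟩)))) (.node 4 (.node 2 (.node 1 (.one ⟨2923, 2, 4⟩) (.one ⟨3108, 0, 4⟩)) (.node 1 (.one ⟨13095, 1, 4⟩) (.one ⟨13003, 1, 4⟩))) (.node 2 (.node 1 (.one ⟨11139, 0, 3⟩) (.one ⟨11071, 0,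 5⟩)) (.node 1 (.one ⟨1009, 2, 4⟩) (.one ⟨4770, 1, 0⟩))))) (.node 8 (.node 4 (.node 2 (.node 1 (.one ⟨3205, 1, 6⟩) (.one ⟨2532, 2, 4⟩)) (.node 1 (.one ⟨6477, 2, 4⟩) (.one ⟨2458, 2, 5⟩))) (.node 2 (.node 1 (.one ⟨6534, 1, 4⟩) (.one ⟨15963, 1, 5⟩)) (.node 1 (.one ⟨279, 1, 5⟩) (.one ⟨9468, 2, 4⟩)))) (.node 4 (.node 2 (.node 1 (.one ⟨4273, 1, 0⟩) (.one ⟨8472, 2, 4⟩)) (.node 1 (.one ⟨14993, 1, 5⟩) (.one ⟨14564, 2, 5⟩))) (.node 2 (.node 1 (.one ⟨2791, 1, 6⟩) (.one ⟨7932, 1, 5⟩)) (.node 1 (.one ⟨9061, 2, 3⟩) (.one ⟨14383, 0, 5⟩)))))))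
def par8_1_5 : Arr Par :=
  (.node 32 (.node 16 (.node 8 (.node 4 (.node 2 (.node 1 (.one ⟨13884, 2, 2⟩) (.one ⟨14446, 0, 3⟩)) (.node 1 (.one ⟨3898, 1, 4⟩) (.one ⟨8490, 1, 4⟩))) (.node 2 (.node 1 (.one ⟨2078, 2, 6⟩) (.one ⟨10685, 0, 4⟩)) (.node 1 (.one ⟨9306, 2, 2⟩) (.one ⟨1822, 1, 4⟩)))) (.node 4 (.node 2 (.node 1 (.one ⟨4127, 1, 4⟩) (.one ⟨10119, 1, 4⟩)) (.node 1 (.one ⟨14131, 2, 3⟩) (.one ⟨8886, 2, 2⟩))) (.node 2 (.node 1 (.one ⟨100, 1, 5⟩) (.one ⟨17114, 2, 6⟩)) (.node 1 (.one ⟨9972, 1, 4⟩) (.one ⟨1199, 1, 1⟩))))) (.node 8 (.node 4 (.node 2 (.node 1 (.one ⟨14523, 1, 4⟩) (.one ⟨2742, 2, 5⟩)) (.node 1 (.one ⟨7269, 1, 3⟩) (.one ⟨13891, 1, 1⟩))) (.node 2 (.node 1 (.one ⟨2687, 1, 2⟩) (.one ⟨87, 0, 4⟩)) (.node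 1 (.one ⟨65, 0, 1⟩) (.one ⟨10371, 1, 1⟩)))) (.node 4 (.node 2 (.node 1 (.one ⟨15541, 2, 6⟩) (.one ⟨4349, 1, 0⟩)) (.node 1 (.one ⟨14802, 2, 5⟩) (.one ⟨6327, 1, 2⟩))) (.node 2 (.node 1 (.one ⟨10067, 1, 1⟩) (.one ⟨84, 0, 5⟩)) (.node 1 (.one ⟨4489, 1, 0⟩) (.one ⟨7354, 2, 4⟩)))))) (.node 16 (.node 8 (.node 4 (.node 2 (.node 1 (.one ⟨16846, 1, 5⟩) (.one ⟨7613, 2, 6⟩)) (.node 1 (.one ⟨11142, 2, 6⟩) (.one ⟨11604, 1, 5⟩))) (.node 2 (.node 1 (.one ⟨113, 1, 5⟩) (.one ⟨6537, 2, 4⟩)) (.node 1 (.one ⟨4700, 1, 0⟩) (.one ⟨11620, 1, 4⟩)))) (.node 4 (.node 2 (.node 1 (.one ⟨97, 2, 6⟩) (.one ⟨9508, 2, 4⟩)) (.node 1 (.one ⟨7777, 1, 5⟩) (.one ⟨15523, 2, 5⟩))) (.node 2 (.node 1 (.one ⟨4307, 2, 5⟩) (.one ⟨5089, 1, 4⟩)) (.node 1 (.one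 ⟨7408, 2, 3⟩) (.one ⟨3678, 2, 6⟩))))) (.node 8 (.node 4 (.node 2 (.node 1 (.one ⟨4978, 1, 6⟩) (.one ⟨2606, 2, 3⟩)) (.node 1 (.one ⟨12941, 1, 2⟩) (.one ⟨13221, 0, 6⟩))) (.node 2 (.node 1 (.one ⟨796, 2, 6⟩) (.one ⟨3631, 2, 1⟩)) (.node 1 (.one ⟨10076, 1, 4⟩) (.one ⟨10203, 2, 4⟩)))) (.node 4 (.node 2 (.node 1 (.one ⟨16635, 1, 4⟩) (.one ⟨2918, 2, 3⟩)) (.node 1 (.one ⟨12409, 1, 2⟩) (.one ⟨7218, 1, 4⟩))) (.node 2 (.node 1 (.one ⟨4352, 1, 0⟩) (.one ⟨5323, 2, 4⟩)) (.node 1 (.one ⟨4580, 2, 5⟩) (.one ⟨10031, 1, 4⟩)))))))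
def par8_1_6 : Arr Par :=
  (.node 32 (.node 16 (.node 8 (.node 4 (.node 2 (.node 1 (.one ⟨4050, 1, 4⟩) (.one ⟨12373, 1, 6⟩)) (.node 1 (.one ⟨326, 1, 5⟩) (.one ⟨11045, 1, 5⟩))) (.node 2 (.node 1 (.one ⟨13270, 2, 3⟩) (.one ⟨8997, 2, 2⟩)) (.node 1 (.one ⟨2847, 1, 4⟩) (.one ⟨16683, 1, 4⟩)))) (.node 4 (.node 2 (.node 1 (.one ⟨5923, 0, 4⟩) (.one ⟨13887, 0, 5⟩)) (.node 1 (.one ⟨5813, 0, 5⟩) (.one ⟨16125, 1, 6⟩))) (.node 2 (.node 1 (.one ⟨6349, 1, 4⟩) (.one ⟨2803, 1, 4⟩)) (.node 1 (.one ⟨13507, 1, 6⟩) (.one ⟨1659, 1, 5⟩))))) (.node 8 (.node 4 (.node 2 (.node 1 (.one ⟨12606, 1, 6⟩) (.one ⟨14996, 1, 5⟩)) (.node 1 (.one ⟨15433, 2, 4⟩) (.one ⟨7824, 0, 6⟩))) (.node 2 (.node 1 (.one ⟨2125, 2, 5⟩) (.one ⟨15101, 2, 4⟩)) (.node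 1 (.one ⟨5402, 2, 4⟩) (.one ⟨4744, 1, 0⟩)))) (.node 4 (.node 2 (.node 1 (.one ⟨8084, 2, 5⟩) (.one ⟨16157, 2, 4⟩)) (.node 1 (.one ⟨2531, 2, 3⟩) (.one ⟨8168, 2, 5⟩))) (.node 2 (.node 1 (.one ⟨9205, 2, 4⟩) (.one ⟨847, 1, 5⟩)) (.node 1 (.one ⟨12820, 1, 5⟩) (.one ⟨9852, 2, 4⟩)))))) (.node 16 (.node 8 (.node 4 (.node 2 (.node 1 (.one ⟨1697, 0, 7⟩) (.one ⟨15519, 2, 4⟩)) (.node 1 (.one ⟨7315, 2, 4⟩) (.one ⟨7192, 2, 3⟩))) (.node 2 (.node 1 (.one ⟨15459, 2, 4⟩) (.one ⟨688, 2, 6⟩)) (.node 1 (.one ⟨14321, 1, 6⟩) (.one ⟨10346, 1, 4⟩)))) (.node 4 (.node 2 (.node 1 (.one ⟨13672, 1, 5⟩) (.one ⟨13358, 2, 4⟩)) (.node 1 (.one ⟨5162, 2, 6⟩) (.one ⟨9785, 2, 4⟩))) (.node 2 (.node 1 (.one ⟨11352, 1, 5⟩) (.one ⟨7609, 2, 6⟩)) (.node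 1 (.one ⟨10628, 1, 5⟩) (.one ⟨16681, 1, 6⟩))))) (.node 8 (.node 4 (.node 2 (.node 1 (.one ⟨14058, 0, 3⟩) (.one ⟨13264, 2, 3⟩)) (.node 1 (.one ⟨14088, 0, 5⟩) (.one ⟨16119, 1, 6⟩))) (.node 2 (.node 1 (.one ⟨7751, 1, 4⟩) (.one ⟨5598, 2, 2⟩)) (.node 1 (.one ⟨14128, 2, 5⟩) (.one ⟨3099, 1, 4⟩)))) (.node 4 (.node 2 (.node 1 (.one ⟨2211, 2, 2⟩) (.one ⟨17063, 2, 6⟩)) (.node 1 (.one ⟨660, 1, 5⟩) (.one ⟨10119, 2, 4⟩))) (.node 2 (.node 1 (.one ⟨11154, 1, 4⟩) (.one ⟨9145, 1, 1⟩)) (.node 1 (.one ⟨2853, 1, 4⟩) (.one ⟨11152, 1, 6⟩)))))))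
def par8_1_7 : Arr Par :=
  (.node 32 (.node 16 (.node 8 (.node 4 (.node 2 (.node 1 (.one ⟨14026, 2, 6⟩) (.one ⟨5102, 2, 2⟩)) (.node 1 (.one ⟨9090, 2, 3⟩) (.one ⟨922, 1, 5⟩))) (.node 2 (.node 1 (.one ⟨13130, 2, 7⟩) (.one ⟨6029, 2, 3⟩)) (.node 1 (.one ⟨2246, 0, 3⟩) (.one ⟨6346, 1, 4⟩)))) (.node 4 (.node 2 (.node 1 (.one ⟨8939, 2, 2⟩) (.one ⟨5410, 1, 4⟩)) (.node 1 (.one ⟨2966, 1, 4⟩) (.one ⟨2266, 0, 4⟩))) (.node 2 (.node 1 (.one ⟨16679, 1, 4⟩) (.one ⟨6504, 0, 5⟩)) (.node 1 (.one ⟨9855, 1, 4⟩) (.one ⟨9003, 1, 4⟩))))) (.node 8 (.node 4 (.node 2 (.node 1 (.one ⟨11975, 0, 1⟩) (.one ⟨4482, 1, 0⟩)) (.node 1 (.one ⟨2520, 1, 5⟩) (.one ⟨14981, 2, 4⟩))) (.node 2 (.node 1 (.one ⟨12771, 2, 4⟩) (.one ⟨4249, 1, 0⟩)) (.node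 1 (.one ⟨6006, 1, 5⟩) (.one ⟨8271, 0, 1⟩)))) (.node 4 (.node 2 (.node 1 (.one ⟨14375, 1, 5⟩) (.one ⟨4582, 1, 0⟩)) (.node 1 (.one ⟨13970, 2, 3⟩) (.one ⟨16308, 0, 1⟩))) (.node 2 (.node 1 (.one ⟨9172, 1, 6⟩) (.one ⟨13991, 2, 3⟩)) (.node 1 (.one ⟨4355, 1, 0⟩) (.one ⟨2049, 1, 5⟩)))))) (.node 16 (.node 8 (.node 4 (.node 2 (.node 1 (.one ⟨13936, 1, 5⟩) (.one ⟨9306, 1, 2⟩)) (.node 1 (.one ⟨11743, 0, 5⟩) (.one ⟨10155, 1, 3⟩))) (.node 2 (.node 1 (.one ⟨11290, 2, 4⟩) (.one ⟨1157, 1, 4⟩)) (.node 1 (.one ⟨14014, 1, 4⟩) (.one ⟨6120, 0, 3⟩)))) (.node 4 (.node 2 (.node 1 (.one ⟨10538, 1, 6⟩) (.one ⟨15018, 2, 5⟩)) (.node 1 (.one ⟨1755, 0, 4⟩) (.one ⟨4155, 2, 5⟩))) (.node 2 (.node 1 (.one ⟨3699, 2, 5⟩) (.one ⟨16688, 0, 6⟩))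 (.node 1 (.one ⟨4934, 2, 5⟩) (.one ⟨6002, 1, 6⟩))))) (.node 8 (.node 4 (.node 2 (.node 1 (.one ⟨8966, 2, 4⟩) (.one ⟨1336, 1, 1⟩)) (.node 1 (.one ⟨11660, 1, 5⟩) (.one ⟨3433, 2, 3⟩))) (.node 2 (.node 1 (.one ⟨4518, 1, 0⟩) (.one ⟨3178, 0, 1⟩)) (.node 1 (.one ⟨7950, 2, 4⟩) (.one ⟨4300, 1, 0⟩)))) (.node 4 (.node 2 (.node 1 (.one ⟨4321, 1, 0⟩) (.one ⟨12769, 2, 3⟩)) (.node 1 (.one ⟨8453, 1, 4⟩) (.one ⟨11687, 1, 5⟩))) (.node 2 (.node 1 (.one ⟨5661, 2, 6⟩) (.one ⟨5135, 1, 5⟩)) (.node 1 (.one ⟨11374, 1, 6⟩) (.one ⟨1832, 1, 3⟩)))))))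
def par8_1_8 : Arr Par :=
  (.node 32 (.node 16 (.node 8 (.node 4 (.node 2 (.node 1 (.one ⟨10351, 1, 4⟩) (.one ⟨3844, 1, 6⟩)) (.node 1 (.one ⟨15566, 0, 1⟩) (.one ⟨3756, 1, 3⟩))) (.node 2 (.node 1 (.one ⟨12542, 1, 4⟩) (.one ⟨341, 2, 3⟩)) (.node 1 (.one ⟨10455, 1, 5⟩) (.one ⟨10166, 2, 4⟩)))) (.node 4 (.node 2 (.node 1 (.one ⟨4922, 2, 4⟩) (.one ⟨783, 1, 3⟩)) (.node 1 (.one ⟨10524, 1, 3⟩) (.one ⟨11202, 0, 4⟩))) (.node 2 (.node 1 (.one ⟨3167, 0, 4⟩) (.one ⟨3775, 1, 3⟩)) (.node 1 (.one ⟨12327, 1, 3⟩) (.one ⟨1359, 1, 2⟩))))) (.node 8 (.node 4 (.node 2 (.node 1 (.one ⟨14621, 1, 2⟩) (.one ⟨609, 0, 1⟩)) (.node 1 (.one ⟨4784, 1, 0⟩) (.one ⟨13821, 1, 2⟩))) (.node 2 (.node 1 (.one ⟨2715, 1, 5⟩) (.one ⟨7034, 1, 3⟩)) (.node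 1 (.one ⟨66, 0, 5⟩) (.one ⟨605, 0, 1⟩)))) (.node 4 (.node 2 (.node 1 (.one ⟨12619, 2, 5⟩) (.one ⟨6042, 1, 5⟩)) (.node 1 (.one ⟨15238, 2, 6⟩) (.one ⟨4653, 0, 0⟩))) (.node 2 (.node 1 (.one ⟨4606, 1, 0⟩) (.one ⟨10268, 1, 4⟩)) (.node 1 (.one ⟨6371, 1, 1⟩) (.one ⟨3325, 1, 3⟩)))))) (.node 16 (.node 8 (.node 4 (.node 2 (.node 1 (.one ⟨15487, 1, 7⟩) (.one ⟨4440, 2, 6⟩)) (.node 1 (.one ⟨3740, 0, 5⟩) (.one ⟨5984, 2, 5⟩))) (.node 2 (.node 1 (.one ⟨6962, 2, 3⟩) (.one ⟨7711, 0, 4⟩)) (.node 1 (.one ⟨15297, 1, 7⟩) (.one ⟨15847, 2, 5⟩)))) (.node 4 (.node 2 (.node 1 (.one ⟨5279, 2, 5⟩) (.one ⟨15358, 2, 6⟩)) (.node 1 (.one ⟨472, 2, 6⟩) (.one ⟨6057, 1, 4⟩))) (.node 2 (.node 1 (.one ⟨5456, 2, 5⟩) (.one ⟨15593, 2, 5⟩)) (.node 1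 (.one ⟨5148, 1, 7⟩) (.one ⟨14149, 0, 3⟩))))) (.node 8 (.node 4 (.node 2 (.node 1 (.one ⟨4539, 1, 0⟩) (.one ⟨10989, 2, 5⟩)) (.node 1 (.one ⟨12077, 2, 5⟩) (.one ⟨4390, 1, 3⟩))) (.node 2 (.node 1 (.one ⟨1439, 0, 5⟩) (.one ⟨10121, 2, 3⟩)) (.node 1 (.one ⟨16513, 1, 5⟩) (.one ⟨16939, 1, 6⟩)))) (.node 4 (.node 2 (.node 1 (.one ⟨16823, 1, 6⟩) (.one ⟨4438, 2, 6⟩)) (.node 1 (.one ⟨16043, 2, 4⟩) (.one ⟨7176, 2, 6⟩))) (.node 2 (.node 1 (.one ⟨12956, 0, 6⟩) (.one ⟨7268, 1, 6⟩)) (.node 1 (.one ⟨7281, 1, 6⟩) (.one ⟨14443, 0, 4⟩)))))))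
def par8_1_9 : Arr Par :=
  (.node 32 (.node 16 (.node 8 (.node 4 (.node 2 (.node 1 (.one ⟨9781, 0, 4⟩) (.one ⟨1449, 0, 5⟩)) (.node 1 (.one ⟨2037, 2, 4⟩) (.one ⟨2521, 0, 4⟩))) (.node 2 (.node 1 (.one ⟨4573, 1, 5⟩) (.one ⟨6006, 2, 5⟩)) (.node 1 (.one ⟨5870, 2, 7⟩) (.one ⟨1931, 2, 6⟩)))) (.node 4 (.node 2 (.node 1 (.one ⟨11450, 2, 3⟩) (.one ⟨1933, 2, 5⟩)) (.node 1 (.one ⟨11759, 1, 6⟩) (.one ⟨1821, 1, 4⟩))) (.node 2 (.node 1 (.one ⟨4467, 1, 0⟩) (.one ⟨1930, 2, 5⟩)) (.node 1 (.one ⟨5911, 1, 5⟩) (.one ⟨1363, 1, 2⟩))))) (.node 8 (.node 4 (.node 2 (.node 1 (.one ⟨15123, 1, 5⟩) (.one ⟨10985, 0, 4⟩)) (.node 1 (.one ⟨9005, 2, 6⟩) (.one ⟨1649, 0, 3⟩))) (.node 2 (.node 1 (.one ⟨14859, 1, 3⟩) (.one ⟨15138, 2, 6⟩)) (.node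 1 (.one ⟨10795, 1, 3⟩) (.one ⟨160, 2, 4⟩)))) (.node 4 (.node 2 (.node 1 (.one ⟨9564, 2, 6⟩) (.one ⟨2024, 1, 6⟩)) (.node 1 (.one ⟨3521, 2, 4⟩) (.one ⟨2176, 1, 2⟩))) (.node 2 (.node 1 (.one ⟨13247, 2, 4⟩) (.one ⟨11276, 2, 5⟩)) (.node 1 (.one ⟨3229, 2, 4⟩) (.one ⟨6653, 1, 2⟩)))))) (.node 16 (.node 8 (.node 4 (.node 2 (.node 1 (.one ⟨13781, 1, 2⟩) (.one ⟨2816, 1, 7⟩)) (.node 1 (.one ⟨9146, 1, 7⟩) (.one ⟨10892, 1, 2⟩))) (.node 2 (.node 1 (.one ⟨925, 1, 3⟩) (.one ⟨1889, 2, 5⟩)) (.node 1 (.one ⟨7020, 2, 6⟩) (.one ⟨15594, 2, 5⟩)))) (.node 4 (.node 2 (.node 1 (.one ⟨1161, 1, 6⟩) (.one ⟨9310, 1, 2⟩)) (.node 1 (.one ⟨7288, 2, 5⟩) (.one ⟨13932, 1, 6⟩))) (.node 2 (.node 1 (.one ⟨4831, 1, 0⟩) (.one ⟨2077, 1, 4⟩)) (.node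 1 (.one ⟨5828, 1, 5⟩) (.one ⟨108, 2, 1⟩))))) (.node 8 (.node 4 (.node 2 (.node 1 (.one ⟨10043, 1, 2⟩) (.one ⟨617, 2, 2⟩)) (.node 1 (.one ⟨562, 0, 3⟩) (.one ⟨6590, 0, 4⟩))) (.node 2 (.node 1 (.one ⟨340, 2, 5⟩) (.one ⟨282, 2, 2⟩)) (.node 1 (.one ⟨856, 2, 3⟩) (.one ⟨6415, 1, 3⟩)))) (.node 4 (.node 2 (.node 1 (.one ⟨6419, 1, 6⟩) (.one ⟨1548, 2, 5⟩)) (.node 1 (.one ⟨11301, 0, 4⟩) (.one ⟨10972, 0, 4⟩))) (.node 2 (.node 1 (.one ⟨128, 1, 3⟩) (.one ⟨14733, 0, 6⟩)) (.node 1 (.one ⟨7797, 2, 2⟩) (.one ⟨577, 1, 1⟩)))))))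
def par8_1_10 : Arr Par :=
  (.node 32 (.node 16 (.node 8 (.node 4 (.node 2 (.node 1 (.one ⟨611, 1, 1⟩) (.one ⟨9480, 1, 2⟩)) (.node 1 (.one ⟨12690, 0, 7⟩) (.one ⟨2974, 2, 5⟩))) (.node 2 (.node 1 (.one ⟨12844, 0, 5⟩) (.one ⟨9484, 1, 5⟩)) (.node 1 (.one ⟨9483, 1, 2⟩) (.one ⟨16655, 1, 6⟩)))) (.node 4 (.node 2 (.node 1 (.one ⟨11335, 1, 5⟩) (.one ⟨11986, 0, 5⟩)) (.node 1 (.one ⟨17038, 2, 5⟩) (.one ⟨2976, 1, 3⟩))) (.node 2 (.node 1 (.one ⟨13379, 0, 5⟩) (.one ⟨5737, 1, 6⟩)) (.node 1 (.one ⟨4212, 1, 4⟩) (.one ⟨1719, 0, 5⟩))))) (.node 8 (.node 4 (.node 2 (.node 1 (.one ⟨15870, 1, 2⟩) (.one ⟨8930, 0, 5⟩)) (.node 1 (.one ⟨13689, 2, 6⟩) (.one ⟨8770, 0, 5⟩))) (.node 2 (.node 1 (.one ⟨17192, 1, 5⟩) (.one ⟨1079, 2, 5⟩)) (.node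 1 (.one ⟨3694, 1, 5⟩) (.one ⟨9422, 0, 3⟩)))) (.node 4 (.node 2 (.node 1 (.one ⟨4565, 0, 7⟩) (.one ⟨15649, 2, 6⟩)) (.node 1 (.one ⟨10992, 2, 7⟩) (.one ⟨16245, 1, 7⟩))) (.node 2 (.node 1 (.one ⟨8681, 0, 5⟩) (.one ⟨14206, 0, 1⟩)) (.node 1 (.one ⟨12394, 1, 6⟩) (.one ⟨2164, 2, 6⟩)))))) (.node 16 (.node 8 (.node 4 (.node 2 (.node 1 (.one ⟨5153, 2, 6⟩) (.one ⟨2750, 2, 6⟩)) (.node 1 (.one ⟨14315, 0, 4⟩) (.one ⟨4128, 2, 5⟩))) (.node 2 (.node 1 (.one ⟨2971, 2, 5⟩) (.one ⟨15954, 1, 4⟩)) (.node 1 (.one ⟨1953, 1, 6⟩) (.one ⟨15930, 2, 2⟩)))) (.node 4 (.node 2 (.node 1 (.one ⟨9797, 0, 2⟩) (.one ⟨6840, 2, 4⟩)) (.node 1 (.one ⟨9418, 0, 5⟩) (.one ⟨4684, 2, 4⟩))) (.node 2 (.node 1 (.one ⟨13349, 1, 6⟩) (.one ⟨16473, 1, 5⟩)) (.node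 1 (.one ⟨6497, 1, 7⟩) (.one ⟨5679, 0, 4⟩))))) (.node 8 (.node 4 (.node 2 (.node 1 (.one ⟨10, 0, 4⟩) (.one ⟨1905, 0, 4⟩)) (.node 1 (.one ⟨6130, 0, 4⟩) (.one ⟨3036, 1, 4⟩))) (.node 2 (.node 1 (.one ⟨812, 2, 3⟩) (.one ⟨9927, 0, 3⟩)) (.node 1 (.one ⟨14152, 0, 5⟩) (.one ⟨5319, 2, 4⟩)))) (.node 4 (.node 2 (.node 1 (.one ⟨11306, 2, 3⟩) (.one ⟨11279, 1, 2⟩)) (.node 1 (.one ⟨4000, 2, 3⟩) (.one ⟨6767, 2, 4⟩))) (.node 2 (.node 1 (.one ⟨2858, 1, 5⟩) (.one ⟨11848, 1, 4⟩)) (.node 1 (.one ⟨6087, 2, 6⟩) (.one ⟨5801, 0, 1⟩)))))))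
def par8_1_11 : Arr Par :=
  (.node 32 (.node 16 (.node 8 (.node 4 (.node 2 (.node 1 (.one ⟨1816, 1, 6⟩) (.one ⟨15136, 1, 4⟩)) (.node 1 (.one ⟨16100, 1, 6⟩) (.one ⟨15066, 0, 4⟩))) (.node 2 (.node 1 (.one ⟨12695, 0, 3⟩) (.one ⟨14948, 1, 7⟩)) (.node 1 (.one ⟨12606, 2, 6⟩) (.one ⟨14519, 2, 5⟩)))) (.node 4 (.node 2 (.node 1 (.one ⟨12983, 1, 3⟩) (.one ⟨12984, 1, 5⟩)) (.node 1 (.one ⟨341, 1, 3⟩) (.one ⟨807, 1, 6⟩))) (.node 2 (.node 1 (.one ⟨11530, 0, 4⟩) (.one ⟨16146, 2, 4⟩)) (.node 1 (.one ⟨749, 1, 2⟩) (.one ⟨11081, 2, 3⟩))))) (.node 8 (.node 4 (.node 2 (.node 1 (.one ⟨5319, 1, 4⟩) (.one ⟨9428, 2, 6⟩)) (.node 1 (.one ⟨14620, 2, 5⟩) (.one ⟨5850, 0, 7⟩))) (.node 2 (.node 1 (.one ⟨3575, 1, 5⟩) (.one ⟨867, 2, 5⟩)) (.node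 1 (.one ⟨12263, 1, 4⟩) (.one ⟨11292, 1, 6⟩)))) (.node 4 (.node 2 (.node 1 (.one ⟨8840, 0, 2⟩) (.one ⟨3335, 1, 3⟩)) (.node 1 (.one ⟨9860, 1, 5⟩) (.one ⟨12040, 2, 3⟩))) (.node 2 (.node 1 (.one ⟨4096, 2, 2⟩) (.one ⟨2157, 2, 5⟩)) (.node 1 (.one ⟨13980, 1, 5⟩) (.one ⟨16132, 0, 6⟩)))))) (.node 16 (.node 8 (.node 4 (.node 2 (.node 1 (.one ⟨3470, 2, 5⟩) (.one ⟨1907, 2, 5⟩)) (.node 1 (.one ⟨782, 1, 6⟩) (.one ⟨4700, 1, 5⟩))) (.node 2 (.node 1 (.one ⟨6131, 2, 5⟩) (.one ⟨5873, 0, 4⟩)) (.node 1 (.one ⟨13713, 0, 2⟩) (.one ⟨7223, 0, 3⟩)))) (.node 4 (.node 2 (.node 1 (.one ⟨4628, 1, 7⟩) (.one ⟨3201, 1, 6⟩)) (.node 1 (.one ⟨1703, 0, 3⟩) (.one ⟨6803, 1, 7⟩))) (.node 2 (.node 1 (.one ⟨7201, 0, 4⟩) (.one ⟨15873, 2, 4⟩)) (.node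 1 (.one ⟨14164, 0, 4⟩) (.one ⟨16773, 2, 6⟩))))) (.node 8 (.node 4 (.node 2 (.node 1 (.one ⟨4777, 1, 0⟩) (.one ⟨10806, 2, 6⟩)) (.node 1 (.one ⟨1703, 1, 3⟩) (.one ⟨13558, 2, 4⟩))) (.node 2 (.node 1 (.one ⟨656, 1, 4⟩) (.one ⟨16440, 1, 4⟩)) (.node 1 (.one ⟨10097, 1, 7⟩) (.one ⟨4181, 2, 6⟩)))) (.node 4 (.node 2 (.node 1 (.one ⟨4077, 1, 5⟩) (.one ⟨918, 1, 5⟩)) (.node 1 (.one ⟨14226, 0, 3⟩) (.one ⟨7179, 2, 7⟩))) (.node 2 (.node 1 (.one ⟨14463, 1, 5⟩) (.one ⟨14224, 0, 2⟩)) (.node 1 (.one ⟨8622, 2, 4⟩) (.one ⟨14821, 2, 6⟩)))))))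
def par8_1_12 : Arr Par :=
  (.node 32 (.node 16 (.node 8 (.node 4 (.node 2 (.node 1 (.one ⟨1577, 0, 7⟩) (.one ⟨12526, 1, 5⟩)) (.node 1 (.one ⟨8971, 2, 6⟩) (.one ⟨15150, 0, 5⟩))) (.node 2 (.node 1 (.one ⟨12367, 1, 5⟩) (.one ⟨11135, 2, 6⟩)) (.node 1 (.one ⟨16101, 1, 7⟩) (.one ⟨4808, 1, 0⟩)))) (.node 4 (.node 2 (.node 1 (.one ⟨8277, 0, 4⟩) (.one ⟨13625, 0, 3⟩)) (.node 1 (.one ⟨12372, 1, 4⟩) (.one ⟨9107, 2, 6⟩))) (.node 2 (.node 1 (.one ⟨468, 0, 4⟩) (.one ⟨12672, 2, 5⟩)) (.node 1 (.one ⟨16009, 1, 4⟩) (.one ⟨690, 1, 4⟩))))) (.node 8 (.node 4 (.node 2 (.node 1 (.one ⟨1168, 1, 1⟩) (.one ⟨2354, 2, 5⟩)) (.node 1 (.one ⟨12397, 1, 1⟩) (.one ⟨10267, 0, 1⟩))) (.node 2 (.node 1 (.one ⟨15376, 1, 7⟩) (.one ⟨8586, 1, 3⟩))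 (.node 1 (.one ⟨8622, 1, 4⟩) (.one ⟨13106, 2, 4⟩)))) (.node 4 (.node 2 (.node 1 (.one ⟨9432, 2, 5⟩) (.one ⟨15875, 1, 2⟩)) (.node 1 (.one ⟨16198, 2, 5⟩) (.one ⟨895, 1, 4⟩))) (.node 2 (.node 1 (.one ⟨13115, 0, 5⟩) (.one ⟨6484, 2, 3⟩)) (.node 1 (.one ⟨9998, 0, 3⟩) (.one ⟨5072, 1, 5⟩)))))) (.node 16 (.node 8 (.node 4 (.node 2 (.node 1 (.one ⟨12368, 1, 6⟩) (.one ⟨12521, 1, 7⟩)) (.node 1 (.one ⟨5186, 1, 6⟩) (.one ⟨12470, 2, 4⟩))) (.node 2 (.node 1 (.one ⟨420, 1, 5⟩) (.one ⟨1815, 1, 5⟩)) (.node 1 (.one ⟨11095, 1, 5⟩) (.one ⟨8484, 1, 3⟩)))) (.node 4 (.node 2 (.node 1 (.one ⟨8583, 1, 2⟩) (.one ⟨9066, 2, 4⟩)) (.node 1 (.one ⟨6201, 2, 6⟩) (.one ⟨12371, 1, 2⟩))) (.node 2 (.node 1 (.one ⟨11965, 1, 6⟩) (.one ⟨15901, 1, 4⟩))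 (.node 1 (.one ⟨327, 2, 4⟩) (.one ⟨16025, 1, 7⟩))))) (.node 8 (.node 4 (.node 2 (.node 1 (.one ⟨6399, 1, 3⟩) (.one ⟨15031, 1, 3⟩)) (.node 1 (.one ⟨2147, 2, 5⟩) (.one ⟨16498, 2, 3⟩))) (.node 2 (.node 1 (.one ⟨15419, 2, 1⟩) (.one ⟨8645, 2, 5⟩)) (.node 1 (.one ⟨7566, 2, 7⟩) (.one ⟨9262, 2, 1⟩)))) (.node 4 (.node 2 (.node 1 (.one ⟨620, 2, 4⟩) (.one ⟨16800, 1, 5⟩)) (.node 1 (.one ⟨13253, 2, 4⟩) (.one ⟨13639, 2, 6⟩))) (.node 2 (.node 1 (.one ⟨5374, 1, 6⟩) (.one ⟨1330, 1, 5⟩)) (.node 1 (.one ⟨13630, 0, 4⟩) (.one ⟨8987, 2, 6⟩)))))))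
def par8_1_13 : Arr Par :=
  (.node 32 (.node 16 (.node 8 (.node 4 (.node 2 (.node 1 (.one ⟨8988, 2, 5⟩) (.one ⟨268, 1, 5⟩)) (.node 1 (.one ⟨8983, 2, 3⟩) (.one ⟨8990, 2, 5⟩))) (.node 2 (.node 1 (.one ⟨8989, 2, 3⟩) (.one ⟨8985, 2, 5⟩)) (.node 1 (.one ⟨8986, 2, 5⟩) (.one ⟨4893, 2, 6⟩)))) (.node 4 (.node 2 (.node 1 (.one ⟨10838, 1, 5⟩) (.one ⟨4677, 0, 4⟩)) (.node 1 (.one ⟨2072, 1, 6⟩) (.one ⟨2465, 2, 6⟩))) (.node 2 (.node 1 (.one ⟨15185, 2, 5⟩) (.one ⟨6756, 2, 4⟩)) (.node 1 (.one ⟨9494, 2, 1⟩) (.one ⟨12139, 2, 2⟩))))) (.node 8 (.node 4 (.node 2 (.node 1 (.one ⟨5005, 1, 7⟩) (.one ⟨1974, 2, 1⟩)) (.node 1 (.one ⟨5839, 1, 6⟩) (.one ⟨5697, 1, 5⟩))) (.node 2 (.node 1 (.one ⟨17034, 2, 5⟩) (.one ⟨146, 0, 2⟩)) (.node 1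 (.one ⟨13653, 0, 4⟩) (.one ⟨14407, 2, 1⟩)))) (.node 4 (.node 2 (.node 1 (.one ⟨6340, 2, 2⟩) (.one ⟨11360, 1, 5⟩)) (.node 1 (.one ⟨71, 2, 1⟩) (.one ⟨1552, 2, 3⟩))) (.node 2 (.node 1 (.one ⟨9499, 2, 2⟩) (.one ⟨7223, 1, 3⟩)) (.node 1 (.one ⟨14415, 2, 3⟩) (.one ⟨15261, 0, 3⟩)))))) (.node 16 (.node 8 (.node 4 (.node 2 (.node 1 (.one ⟨5954, 0, 3⟩) (.one ⟨12271, 1, 4⟩)) (.node 1 (.one ⟨4179, 1, 3⟩) (.one ⟨8962, 2, 5⟩))) (.node 2 (.node 1 (.one ⟨1557, 2, 4⟩) (.one ⟨15749, 0, 7⟩)) (.node 1 (.one ⟨14480, 2, 6⟩) (.one ⟨13671, 2, 2⟩)))) (.node 4 (.node 2 (.node 1 (.one ⟨5088, 2, 7⟩) (.one ⟨16427, 1, 4⟩)) (.node 1 (.one ⟨11303, 1, 6⟩) (.one ⟨17043, 2, 4⟩))) (.node 2 (.node 1 (.one ⟨1813, 2, 4⟩) (.one ⟨11309, 2, 3⟩)) (.node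 1 (.one ⟨15176, 1, 4⟩) (.one ⟨5944, 0, 4⟩))))) (.node 8 (.node 4 (.node 2 (.node 1 (.one ⟨6128, 0, 4⟩) (.one ⟨6839, 2, 3⟩)) (.node 1 (.one ⟨25, 0, 4⟩) (.one ⟨12366, 1, 4⟩))) (.node 2 (.node 1 (.one ⟨13977, 2, 3⟩) (.one ⟨14750, 1, 6⟩)) (.node 1 (.one ⟨9752, 2, 4⟩) (.one ⟨16340, 1, 6⟩)))) (.node 4 (.node 2 (.node 1 (.one ⟨1073, 2, 5⟩) (.one ⟨1351, 2, 5⟩)) (.node 1 (.one ⟨16236, 1, 6⟩) (.one ⟨14703, 0, 7⟩))) (.node 2 (.node 1 (.one ⟨10967, 2, 2⟩) (.one ⟨2019, 1, 4⟩)) (.node 1 (.one ⟨1486, 2, 5⟩) (.one ⟨2382, 1, 5⟩)))))))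
def par8_1_14 : Arr Par :=
  (.node 32 (.node 16 (.node 8 (.node 4 (.node 2 (.node 1 (.one ⟨13342, 2, 4⟩) (.one ⟨5875, 0, 3⟩)) (.node 1 (.one ⟨8892, 1, 3⟩) (.one ⟨5293, 1, 5⟩))) (.node 2 (.node 1 (.one ⟨4781, 1, 4⟩) (.one ⟨5648, 1, 6⟩)) (.node 1 (.one ⟨6439, 1, 3⟩) (.one ⟨11363, 2, 1⟩)))) (.node 4 (.node 2 (.node 1 (.one ⟨1611, 2, 5⟩) (.one ⟨5195, 0, 4⟩)) (.node 1 (.one ⟨2388, 1, 4⟩) (.one ⟨16325, 1, 5⟩))) (.node 2 (.node 1 (.one ⟨11359, 2, 1⟩) (.one ⟨15108, 1, 4⟩)) (.node 1 (.one ⟨8851, 0, 4⟩) (.one ⟨5951, 0, 1⟩))))) (.node 8 (.node 4 (.node 2 (.node 1 (.one ⟨14176, 1, 6⟩) (.one ⟨13406, 2, 2⟩)) (.node 1 (.one ⟨12764, 1, 5⟩) (.one ⟨2767, 1, 6⟩))) (.node 2 (.node 1 (.one ⟨3600, 1, 4⟩) (.one ⟨7911, 1, 5⟩)) (.node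 1 (.one ⟨6891, 1, 4⟩) (.one ⟨5175, 0, 6⟩)))) (.node 4 (.node 2 (.node 1 (.one ⟨4065, 1, 4⟩) (.one ⟨13055, 1, 4⟩)) (.node 1 (.one ⟨5307, 0, 5⟩) (.one ⟨6496, 1, 4⟩))) (.node 2 (.node 1 (.one ⟨4668, 1, 5⟩) (.one ⟨1806, 2, 5⟩)) (.node 1 (.one ⟨7123, 2, 6⟩) (.one ⟨13511, 2, 1⟩)))))) (.node 16 (.node 8 (.node 4 (.node 2 (.node 1 (.one ⟨9909, 0, 4⟩) (.one ⟨11124, 2, 5⟩)) (.node 1 (.one ⟨1148, 1, 7⟩) (.one ⟨3342, 1, 5⟩))) (.node 2 (.node 1 (.one ⟨882, 2, 5⟩) (.one ⟨10882, 2, 2⟩)) (.node 1 (.one ⟨15314, 1, 6⟩) (.one ⟨4490, 1, 4⟩)))) (.node 4 (.node 2 (.node 1 (.one ⟨12538, 1, 5⟩) (.one ⟨12534, 1, 4⟩)) (.node 1 (.one ⟨4484, 1, 5⟩) (.one ⟨2669, 1, 4⟩))) (.node 2 (.node 1 (.one ⟨10717, 1, 5⟩) (.one ⟨10012, 0, 5⟩)) (.node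 1 (.one ⟨2658, 1, 5⟩) (.one ⟨8009, 2, 5⟩))))) (.node 8 (.node 4 (.node 2 (.node 1 (.one ⟨9902, 0, 5⟩) (.one ⟨11138, 1, 4⟩)) (.node 1 (.one ⟨10367, 1, 5⟩) (.one ⟨8526, 2, 5⟩))) (.node 2 (.node 1 (.one ⟨15611, 1, 2⟩) (.one ⟨10081, 0, 2⟩)) (.node 1 (.one ⟨4730, 1, 0⟩) (.one ⟨13798, 0, 7⟩)))) (.node 4 (.node 2 (.node 1 (.one ⟨5595, 2, 3⟩) (.one ⟨9581, 2, 5⟩)) (.node 1 (.one ⟨4741, 2, 5⟩) (.one ⟨8383, 1, 3⟩))) (.node 2 (.node 1 (.one ⟨16380, 0, 4⟩) (.one ⟨14903, 2, 4⟩)) (.node 1 (.one ⟨7936, 2, 6⟩) (.one ⟨2135, 1, 6⟩)))))))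
def par8_1_15 : Arr Par :=
  (.node 32 (.node 16 (.node 8 (.node 4 (.node 2 (.node 1 (.one ⟨16380, 1, 4⟩) (.one ⟨2560, 1, 5⟩)) (.node 1 (.one ⟨16164, 1, 3⟩) (.one ⟨4854, 0, 4⟩))) (.node 2 (.node 1 (.one ⟨11568, 1, 2⟩) (.one ⟨16115, 2, 4⟩)) (.node 1 (.one ⟨7347, 2, 5⟩) (.one ⟨2657, 1, 5⟩)))) (.node 4 (.node 2 (.node 1 (.one ⟨7187, 0, 2⟩) (.one ⟨11821, 2, 4⟩)) (.node 1 (.one ⟨13901, 2, 5⟩) (.one ⟨6037, 2, 4⟩))) (.node 2 (.node 1 (.one ⟨3572, 2, 4⟩) (.one ⟨1916, 0, 3⟩)) (.node 1 (.one ⟨5754, 0, 2⟩) (.one ⟨12432, 2, 5⟩))))) (.node 8 (.node 4 (.node 2 (.node 1 (.one ⟨15194, 0, 6⟩) (.one ⟨7542, 2, 2⟩)) (.node 1 (.one ⟨16485, 2, 6⟩) (.one ⟨8507, 2, 6⟩))) (.node 2 (.node 1 (.one ⟨5217, 1, 2⟩) (.one ⟨9953, 2, 5⟩)) (.node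 1 (.one ⟨3953, 2, 5⟩) (.one ⟨2429, 2, 3⟩)))) (.node 4 (.node 2 (.node 1 (.one ⟨4547, 1, 2⟩) (.one ⟨3597, 0, 7⟩)) (.node 1 (.one ⟨6465, 2, 4⟩) (.one ⟨15802, 2, 5⟩))) (.node 2 (.node 1 (.one ⟨639, 1, 6⟩) (.one ⟨16707, 2, 7⟩)) (.node 1 (.one ⟨15555, 1, 6⟩) (.one ⟨8389, 2, 5⟩)))))) (.node 16 (.node 8 (.node 4 (.node 2 (.node 1 (.one ⟨16268, 1, 6⟩) (.one ⟨12951, 1, 6⟩)) (.node 1 (.one ⟨3581, 0, 5⟩) (.one ⟨5593, 2, 3⟩))) (.node 2 (.node 1 (.one ⟨16607, 1, 5⟩) (.one ⟨12294, 1, 6⟩)) (.node 1 (.one ⟨2492, 2, 5⟩) (.one ⟨1974, 0, 1⟩)))) (.node 4 (.node 2 (.node 1 (.one ⟨1460, 2, 5⟩) (.one ⟨13706, 0, 4⟩)) (.node 1 (.one ⟨14696, 1, 2⟩) (.one ⟨8528, 1, 4⟩))) (.node 2 (.node 1 (.one ⟨7261, 1, 5⟩) (.one ⟨4329, 1, 5⟩)) (.node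 1 (.one ⟨5597, 2, 4⟩) (.one ⟨12993, 1, 3⟩))))) (.node 8 (.node 4 (.node 2 (.node 1 (.one ⟨2104, 1, 1⟩) (.one ⟨1776, 1, 1⟩)) (.node 1 (.one ⟨12635, 1, 4⟩) (.one ⟨7667, 1, 1⟩))) (.node 2 (.node 1 (.one ⟨14803, 1, 4⟩) (.one ⟨15040, 1, 3⟩)) (.node 1 (.one ⟨7872, 1, 1⟩) (.one ⟨7058, 1, 6⟩)))) (.node 4 (.node 2 (.node 1 (.one ⟨1350, 1, 3⟩) (.one ⟨4681, 2, 4⟩)) (.node 1 (.one ⟨5583, 2, 2⟩) (.one ⟨9021, 2, 6⟩))) (.node 2 (.node 1 (.one ⟨14622, 0, 7⟩) (.one ⟨8518, 2, 1⟩)) (.node 1 (.one ⟨1940, 2, 5⟩) (.one ⟨9650, 1, 2⟩)))))))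
def par8_1 : Arr Par :=
  (.node 512 (.node 256 (.node 128 (.node 64 par8_1_0 par8_1_1) (.node 64 par8_1_2 par8_1_3)) (.node 128 (.node 64 par8_1_4 par8_1_5) (.node 64 par8_1_6 par8_1_7))) (.node 256 (.node 128 (.node 64 par8_1_8 par8_1_9) (.node 64 par8_1_10 par8_1_11)) (.node 128 (.node 64 par8_1_12 par8_1_13) (.node 64 par8_1_14 par8_1_15))))
def par8_2_0 : Arr Par :=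
  (.node 32 (.node 16 (.node 8 (.node 4 (.node 2 (.node 1 (.one ⟨2241, 1, 3⟩) (.one ⟨2652, 1, 4⟩)) (.node 1 (.one ⟨8532, 2, 5⟩) (.one ⟨1088, 2, 5⟩))) (.node 2 (.node 1 (.one ⟨6680, 0, 3⟩) (.one ⟨9840, 0, 4⟩)) (.node 1 (.one ⟨7044, 0, 2⟩) (.one ⟨12132, 1, 5⟩)))) (.node 4 (.node 2 (.node 1 (.one ⟨2275, 2, 5⟩) (.one ⟨14486, 2, 6⟩)) (.node 1 (.one ⟨9398, 0, 3⟩) (.one ⟨6670, 2, 6⟩))) (.node 2 (.node 1 (.one ⟨7308, 2, 6⟩) (.one ⟨11438, 2, 5⟩)) (.node 1 (.one ⟨4854, 1, 4⟩) (.one ⟨11422, 0, 3⟩))))) (.node 8 (.node 4 (.node 2 (.node 1 (.one ⟨4276, 2, 7⟩) (.one ⟨7094, 1, 4⟩)) (.node 1 (.one ⟨4481, 1, 4⟩) (.one ⟨5035, 1, 4⟩))) (.node 2 (.node 1 (.one ⟨5746, 1, 4⟩) (.one ⟨7726, 2, 7⟩)) (.node 1 (.one ⟨6510, 2, 5⟩) (.one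 ⟨10864, 0, 4⟩)))) (.node 4 (.node 2 (.node 1 (.one ⟨16096, 2, 5⟩) (.one ⟨2826, 1, 5⟩)) (.node 1 (.one ⟨13644, 1, 5⟩) (.one ⟨6052, 2, 5⟩))) (.node 2 (.node 1 (.one ⟨11640, 2, 7⟩) (.one ⟨5623, 0, 3⟩)) (.node 1 (.one ⟨9149, 0, 5⟩) (.one ⟨10359, 0, 4⟩)))))) (.node 16 (.node 8 (.node 4 (.node 2 (.node 1 (.one ⟨671, 1, 7⟩) (.one ⟨6266, 1, 6⟩)) (.node 1 (.one ⟨6980, 2, 5⟩) (.one ⟨7986, 2, 5⟩))) (.node 2 (.node 1 (.one ⟨7053, 2, 4⟩) (.one ⟨1600, 2, 5⟩)) (.node 1 (.one ⟨4571, 2, 5⟩) (.one ⟨9492, 1, 1⟩)))) (.node 4 (.node 2 (.node 1 (.one ⟨6276, 2, 3⟩) (.one ⟨16418, 1, 6⟩)) (.node 1 (.one ⟨3286, 1, 5⟩) (.one ⟨7164, 1, 4⟩))) (.node 2 (.node 1 (.one ⟨8716, 2, 5⟩) (.one ⟨5007, 1, 3⟩)) (.node 1 (.one ⟨1549, 2, 4⟩) (.one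 ⟨3732, 1, 5⟩))))) (.node 8 (.node 4 (.node 2 (.node 1 (.one ⟨9560, 0, 5⟩) (.one ⟨15619, 1, 3⟩)) (.node 1 (.one ⟨16104, 1, 3⟩) (.one ⟨1776, 0, 1⟩))) (.node 2 (.node 1 (.one ⟨8753, 1, 5⟩) (.one ⟨13275, 1, 4⟩)) (.node 1 (.one ⟨16887, 0, 5⟩) (.one ⟨6015, 2, 3⟩)))) (.node 4 (.node 2 (.node 1 (.one ⟨4428, 1, 0⟩) (.one ⟨5553, 0, 4⟩)) (.node 1 (.one ⟨13, 0, 4⟩) (.one ⟨13273, 1, 3⟩))) (.node 2 (.node 1 (.one ⟨13982, 2, 4⟩) (.one ⟨9961, 1, 4⟩)) (.node 1 (.one ⟨3150, 2, 3⟩) (.one ⟨14984, 1, 5⟩)))))))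
def par8_2_1 : Arr Par :=
  (.node 32 (.node 16 (.node 8 (.node 4 (.node 2 (.node 1 (.one ⟨8504, 2, 4⟩) (.one ⟨3490, 1, 4⟩)) (.node 1 (.one ⟨14483, 1, 4⟩) (.one ⟨7108, 2, 6⟩))) (.node 2 (.node 1 (.one ⟨4944, 0, 5⟩) (.one ⟨4425, 1, 4⟩)) (.node 1 (.one ⟨16560, 2, 3⟩) (.one ⟨15134, 1, 3⟩)))) (.node 4 (.node 2 (.node 1 (.one ⟨16118, 1, 5⟩) (.one ⟨16156, 1, 3⟩)) (.node 1 (.one ⟨12494, 0, 4⟩) (.one ⟨1349, 1, 5⟩))) (.node 2 (.node 1 (.one ⟨11884, 2, 4⟩) (.one ⟨4618, 1, 4⟩)) (.node 1 (.one ⟨17045, 2, 5⟩) (.one ⟨6247, 1, 4⟩))))) (.node 8 (.node 4 (.node 2 (.node 1 (.one ⟨13858, 1, 5⟩) (.one ⟨6547, 2, 4⟩)) (.node 1 (.one ⟨12469, 1, 6⟩) (.one ⟨6320, 2, 4⟩))) (.node 2 (.node 1 (.one ⟨2172, 2, 6⟩) (.one ⟨7722, 2, 6⟩)) (.node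 1 (.one ⟨2551, 1, 6⟩) (.one ⟨15537, 2, 5⟩)))) (.node 4 (.node 2 (.node 1 (.one ⟨13052, 1, 5⟩) (.one ⟨1945, 2, 5⟩)) (.node 1 (.one ⟨13624, 0, 3⟩) (.one ⟨6208, 1, 3⟩))) (.node 2 (.node 1 (.one ⟨11784, 0, 3⟩) (.one ⟨7734, 0, 2⟩)) (.node 1 (.one ⟨14949, 2, 5⟩) (.one ⟨11377, 1, 5⟩)))))) (.node 16 (.node 8 (.node 4 (.node 2 (.node 1 (.one ⟨10160, 0, 4⟩) (.one ⟨1388, 1, 6⟩)) (.node 1 (.one ⟨11479, 2, 3⟩) (.one ⟨7207, 1, 4⟩))) (.node 2 (.node 1 (.one ⟨547, 0, 3⟩) (.one ⟨13860, 1, 6⟩)) (.node 1 (.one ⟨3275, 1, 2⟩) (.one ⟨13151, 2, 2⟩)))) (.node 4 (.node 2 (.node 1 (.one ⟨1173, 1, 7⟩) (.one ⟨15327, 1, 5⟩)) (.node 1 (.one ⟨9719, 1, 4⟩) (.one ⟨5857, 0, 7⟩))) (.node 2 (.node 1 (.one ⟨13364, 2, 2⟩) (.one ⟨7214, 1, 4⟩)) (.node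 1 (.one ⟨812, 1, 3⟩) (.one ⟨15343, 2, 7⟩))))) (.node 8 (.node 4 (.node 2 (.node 1 (.one ⟨9537, 0, 7⟩) (.one ⟨8644, 1, 6⟩)) (.node 1 (.one ⟨16462, 0, 7⟩) (.one ⟨4446, 1, 6⟩))) (.node 2 (.node 1 (.one ⟨7211, 1, 5⟩) (.one ⟨15813, 0, 7⟩)) (.node 1 (.one ⟨16768, 0, 6⟩) (.one ⟨4510, 1, 0⟩)))) (.node 4 (.node 2 (.node 1 (.one ⟨2819, 1, 5⟩) (.one ⟨6647, 1, 3⟩)) (.node 1 (.one ⟨6380, 1, 7⟩) (.one ⟨5809, 1, 5⟩))) (.node 2 (.node 1 (.one ⟨7210, 1, 5⟩) (.one ⟨16492, 0, 6⟩)) (.node 1 (.one ⟨15031, 2, 3⟩) (.one ⟨2106, 2, 5⟩)))))))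
def par8_2_2 : Arr Par :=
  (.node 32 (.node 16 (.node 8 (.node 4 (.node 2 (.node 1 (.one ⟨14235, 0, 1⟩) (.one ⟨11737, 1, 5⟩)) (.node 1 (.one ⟨4805, 1, 2⟩) (.one ⟨5505, 0, 4⟩))) (.node 2 (.node 1 (.one ⟨307, 1, 4⟩) (.one ⟨1484, 2, 5⟩)) (.node 1 (.one ⟨9142, 1, 1⟩) (.one ⟨4448, 1, 0⟩)))) (.node 4 (.node 2 (.node 1 (.one ⟨8187, 1, 3⟩) (.one ⟨1769, 2, 7⟩)) (.node 1 (.one ⟨13610, 2, 4⟩) (.one ⟨1328, 2, 7⟩))) (.node 2 (.node 1 (.one ⟨4718, 1, 3⟩) (.one ⟨862, 0, 5⟩)) (.node 1 (.one ⟨12241, 1, 5⟩) (.one ⟨2991, 2, 2⟩))))) (.node 8 (.node 4 (.node 2 (.node 1 (.one ⟨1290, 1, 7⟩) (.one ⟨6594, 1, 5⟩)) (.node 1 (.one ⟨14013, 2, 5⟩) (.one ⟨11977, 2, 5⟩))) (.node 2 (.node 1 (.one ⟨12429, 1, 6⟩) (.one ⟨17172, 1, 6⟩)) (.node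 1 (.one ⟨8972, 2, 6⟩) (.one ⟨6545, 1, 3⟩)))) (.node 4 (.node 2 (.node 1 (.one ⟨13582, 2, 5⟩) (.one ⟨15787, 1, 5⟩)) (.node 1 (.one ⟨9951, 2, 6⟩) (.one ⟨10318, 0, 4⟩))) (.node 2 (.node 1 (.one ⟨4371, 2, 5⟩) (.one ⟨16116, 1, 6⟩)) (.node 1 (.one ⟨3039, 2, 6⟩) (.one ⟨4227, 0, 0⟩)))))) (.node 16 (.node 8 (.node 4 (.node 2 (.node 1 (.one ⟨7340, 0, 4⟩) (.one ⟨3270, 0, 5⟩)) (.node 1 (.one ⟨1880, 0, 3⟩) (.one ⟨9555, 0, 1⟩))) (.node 2 (.node 1 (.one ⟨11458, 0, 5⟩) (.one ⟨15633, 0, 5⟩)) (.node 1 (.one ⟨3581, 1, 5⟩) (.one ⟨4235, 0, 0⟩)))) (.node 4 (.node 2 (.node 1 (.one ⟨1799, 0, 1⟩) (.one ⟨16603, 1, 4⟩)) (.node 1 (.one ⟨16608, 1, 6⟩) (.one ⟨6887, 1, 4⟩))) (.node 2 (.node 1 (.one ⟨2791, 2, 6⟩) (.one ⟨1412, 0, 4⟩)) (.node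 1 (.one ⟨1847, 0, 2⟩) (.one ⟨8169, 0, 1⟩))))) (.node 8 (.node 4 (.node 2 (.node 1 (.one ⟨7743, 0, 3⟩) (.one ⟨4231, 1, 0⟩)) (.node 1 (.one ⟨1473, 0, 3⟩) (.one ⟨14370, 2, 6⟩))) (.node 2 (.node 1 (.one ⟨7362, 1, 6⟩) (.one ⟨10827, 2, 6⟩)) (.node 1 (.one ⟨3287, 0, 1⟩) (.one ⟨6160, 1, 6⟩)))) (.node 4 (.node 2 (.node 1 (.one ⟨15381, 2, 6⟩) (.one ⟨16051, 1, 5⟩)) (.node 1 (.one ⟨8003, 1, 4⟩) (.one ⟨6152, 1, 2⟩))) (.node 2 (.node 1 (.one ⟨9224, 2, 4⟩) (.one ⟨16103, 1, 4⟩)) (.node 1 (.one ⟨8027, 1, 4⟩) (.one ⟨310, 2, 1⟩)))))))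
def par8_2_3 : Arr Par :=
  (.node 32 (.node 16 (.node 8 (.node 4 (.node 2 (.node 1 (.one ⟨138, 2, 3⟩) (.one ⟨706, 2, 2⟩)) (.node 1 (.one ⟨9917, 1, 6⟩) (.one ⟨795, 2, 3⟩))) (.node 2 (.node 1 (.one ⟨7342, 0, 4⟩) (.one ⟨183, 2, 2⟩)) (.node 1 (.one ⟨222, 2, 2⟩) (.one ⟨14359, 2, 7⟩)))) (.node 4 (.node 2 (.node 1 (.one ⟨16843, 2, 4⟩) (.one ⟨9888, 2, 6⟩)) (.node 1 (.one ⟨16502, 0, 5⟩) (.one ⟨6390, 2, 4⟩))) (.node 2 (.node 1 (.one ⟨9002, 2, 3⟩) (.one ⟨1010, 2, 3⟩)) (.node 1 (.one ⟨5308, 0, 5⟩) (.one ⟨7326, 2, 4⟩))))) (.node 8 (.node 4 (.node 2 (.node 1 (.one ⟨8090, 2, 6⟩) (.one ⟨1860, 0, 4⟩)) (.node 1 (.one ⟨7465, 1, 1⟩) (.one ⟨15991, 0, 5⟩))) (.node 2 (.node 1 (.one ⟨1217, 1, 6⟩) (.one ⟨2427, 1, 3⟩)) (.node 1 (.one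 ⟨454, 2, 4⟩) (.one ⟨14455, 2, 2⟩)))) (.node 4 (.node 2 (.node 1 (.one ⟨845, 2, 3⟩) (.one ⟨2038, 2, 2⟩)) (.node 1 (.one ⟨14615, 2, 3⟩) (.one ⟨9499, 1, 2⟩))) (.node 2 (.node 1 (.one ⟨6721, 1, 4⟩) (.one ⟨13442, 2, 5⟩)) (.node 1 (.one ⟨8669, 2, 5⟩) (.one ⟨1863, 1, 7⟩)))))) (.node 16 (.node 8 (.node 4 (.node 2 (.node 1 (.one ⟨9956, 0, 6⟩) (.one ⟨6248, 0, 6⟩)) (.node 1 (.one ⟨5258, 2, 2⟩) (.one ⟨6857, 1, 4⟩))) (.node 2 (.node 1 (.one ⟨12722, 1, 3⟩) (.one ⟨15943, 1, 3⟩)) (.node 1 (.one ⟨502, 1, 3⟩) (.one ⟨32, 2, 3⟩)))) (.node 4 (.node 2 (.node 1 (.one ⟨12586, 1, 6⟩) (.one ⟨7280, 1, 7⟩)) (.node 1 (.one ⟨17151, 2, 4⟩) (.one ⟨8379, 2, 4⟩))) (.node 2 (.node 1 (.one ⟨1480, 0, 3⟩) (.one ⟨9461, 2, 4⟩)) (.node 1 (.one ⟨10587,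 2, 3⟩) (.one ⟨6202, 1, 4⟩))))) (.node 8 (.node 4 (.node 2 (.node 1 (.one ⟨13285, 0, 4⟩) (.one ⟨15035, 1, 2⟩)) (.node 1 (.one ⟨7491, 1, 6⟩) (.one ⟨11893, 2, 3⟩))) (.node 2 (.node 1 (.one ⟨2440, 1, 3⟩) (.one ⟨3804, 2, 3⟩)) (.node 1 (.one ⟨1072, 0, 3⟩) (.one ⟨2493, 0, 6⟩)))) (.node 4 (.node 2 (.node 1 (.one ⟨9006, 2, 5⟩) (.one ⟨12549, 2, 6⟩)) (.node 1 (.one ⟨4779, 2, 4⟩) (.one ⟨9596, 0, 5⟩))) (.node 2 (.node 1 (.one ⟨13633, 0, 6⟩) (.one ⟨14990, 2, 5⟩)) (.node 1 (.one ⟨6342, 2, 3⟩) (.one ⟨3071, 1, 4⟩)))))))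
def par8_2_4 : Arr Par :=
  (.node 32 (.node 16 (.node 8 (.node 4 (.node 2 (.node 1 (.one ⟨10818, 2, 5⟩) (.one ⟨6856, 0, 3⟩)) (.node 1 (.one ⟨3563, 1, 4⟩) (.one ⟨9591, 0, 4⟩))) (.node 2 (.node 1 (.one ⟨714, 2, 5⟩) (.one ⟨12545, 2, 5⟩)) (.node 1 (.one ⟨6966, 1, 6⟩) (.one ⟨6468, 1, 6⟩)))) (.node 4 (.node 2 (.node 1 (.one ⟨5560, 2, 4⟩) (.one ⟨11232, 2, 5⟩)) (.node 1 (.one ⟨12303, 1, 3⟩) (.one ⟨13001, 1, 2⟩))) (.node 2 (.node 1 (.one ⟨8268, 2, 4⟩) (.one ⟨15677, 1, 4⟩)) (.node 1 (.one ⟨6932, 1, 3⟩) (.one ⟨13628, 0, 3⟩))))) (.node 8 (.node 4 (.node 2 (.node 1 (.one ⟨10571, 0, 3⟩) (.one ⟨16851, 2, 3⟩)) (.node 1 (.one ⟨2031, 2, 4⟩) (.one ⟨10960, 0, 7⟩))) (.node 2 (.node 1 (.one ⟨2694, 2, 4⟩) (.one ⟨13567, 1, 4⟩)) (.node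 1 (.one ⟨11266, 0, 7⟩) (.one ⟨11581, 0, 2⟩)))) (.node 4 (.node 2 (.node 1 (.one ⟨12150, 0, 7⟩) (.one ⟨6539, 1, 4⟩)) (.node 1 (.one ⟨3043, 0, 2⟩) (.one ⟨11890, 2, 2⟩))) (.node 2 (.node 1 (.one ⟨14632, 1, 4⟩) (.one ⟨12997, 0, 3⟩)) (.node 1 (.one ⟨9896, 2, 5⟩) (.one ⟨6447, 1, 4⟩)))))) (.node 16 (.node 8 (.node 4 (.node 2 (.node 1 (.one ⟨200, 2, 5⟩) (.one ⟨476, 2, 3⟩)) (.node 1 (.one ⟨14472, 0, 3⟩) (.one ⟨731, 2, 2⟩))) (.node 2 (.node 1 (.one ⟨592, 2, 1⟩) (.one ⟨11418, 0, 2⟩)) (.node 1 (.one ⟨13188, 1, 6⟩) (.one ⟨9594, 0, 4⟩)))) (.node 4 (.node 2 (.node 1 (.one ⟨4209, 0, 6⟩) (.one ⟨9354, 1, 4⟩)) (.node 1 (.one ⟨6265, 1, 6⟩) (.one ⟨6649, 1, 3⟩))) (.node 2 (.node 1 (.one ⟨11304, 1, 5⟩) (.one ⟨15958, 1, 5⟩)) (.node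 1 (.one ⟨4363, 1, 4⟩) (.one ⟨7866, 1, 7⟩))))) (.node 8 (.node 4 (.node 2 (.node 1 (.one ⟨4778, 1, 6⟩) (.one ⟨3419, 1, 4⟩)) (.node 1 (.one ⟨6325, 1, 4⟩) (.one ⟨16343, 2, 6⟩))) (.node 2 (.node 1 (.one ⟨5406, 2, 6⟩) (.one ⟨4469, 1, 4⟩)) (.node 1 (.one ⟨8984, 1, 5⟩) (.one ⟨4948, 1, 5⟩)))) (.node 4 (.node 2 (.node 1 (.one ⟨14267, 2, 3⟩) (.one ⟨12510, 1, 6⟩)) (.node 1 (.one ⟨3173, 0, 6⟩) (.one ⟨14794, 1, 7⟩))) (.node 2 (.node 1 (.one ⟨4920, 0, 3⟩) (.one ⟨6206, 1, 5⟩)) (.node 1 (.one ⟨718, 0, 3⟩) (.one ⟨7376, 0, 2⟩)))))))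
def par8_2_5 : Arr Par :=
  (.node 32 (.node 16 (.node 8 (.node 4 (.node 2 (.node 1 (.one ⟨13444, 1, 5⟩) (.one ⟨14618, 2, 4⟩)) (.node 1 (.one ⟨12163, 1, 4⟩) (.one ⟨12213, 2, 4⟩))) (.node 2 (.node 1 (.one ⟨5018, 1, 4⟩) (.one ⟨4103, 2, 5⟩)) (.node 1 (.one ⟨3610, 1, 5⟩) (.one ⟨17143, 2, 4⟩)))) (.node 4 (.node 2 (.node 1 (.one ⟨1206, 1, 4⟩) (.one ⟨10326, 1, 5⟩)) (.node 1 (.one ⟨5601, 0, 5⟩) (.one ⟨5840, 1, 4⟩))) (.node 2 (.node 1 (.one ⟨16475, 1, 4⟩) (.one ⟨8808, 1, 2⟩)) (.node 1 (.one ⟨12291, 0, 4⟩) (.one ⟨7699, 2, 5⟩))))) (.node 8 (.node 4 (.node 2 (.node 1 (.one ⟨10608, 1, 6⟩) (.one ⟨7328, 1, 6⟩)) (.node 1 (.one ⟨7157, 0, 1⟩) (.one ⟨8872, 2, 6⟩))) (.node 2 (.node 1 (.one ⟨14879, 0, 3⟩) (.one ⟨11586, 0, 2⟩))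 (.node 1 (.one ⟨14932, 1, 4⟩) (.one ⟨6217, 0, 6⟩)))) (.node 4 (.node 2 (.node 1 (.one ⟨1423, 2, 6⟩) (.one ⟨5996, 2, 2⟩)) (.node 1 (.one ⟨13564, 2, 3⟩) (.one ⟨2591, 0, 4⟩))) (.node 2 (.node 1 (.one ⟨12932, 1, 5⟩) (.one ⟨13965, 2, 6⟩)) (.node 1 (.one ⟨5166, 2, 6⟩) (.one ⟨11994, 0, 4⟩)))))) (.node 16 (.node 8 (.node 4 (.node 2 (.node 1 (.one ⟨14647, 1, 3⟩) (.one ⟨14426, 1, 4⟩)) (.node 1 (.one ⟨16953, 0, 5⟩) (.one ⟨15683, 2, 4⟩))) (.node 2 (.node 1 (.one ⟨6772, 0, 4⟩) (.one ⟨811, 2, 4⟩)) (.node 1 (.one ⟨6444, 1, 3⟩) (.one ⟨524, 1, 3⟩)))) (.node 4 (.node 2 (.node 1 (.one ⟨9655, 2, 6⟩) (.one ⟨1503, 2, 6⟩)) (.node 1 (.one ⟨10478, 1, 3⟩) (.one ⟨4221, 2, 3⟩))) (.node 2 (.node 1 (.one ⟨9749, 2, 4⟩) (.one ⟨3771, 1, 6⟩))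 (.node 1 (.one ⟨15672, 1, 6⟩) (.one ⟨11829, 1, 6⟩))))) (.node 8 (.node 4 (.node 2 (.node 1 (.one ⟨13716, 1, 5⟩) (.one ⟨16599, 2, 2⟩)) (.node 1 (.one ⟨12059, 2, 5⟩) (.one ⟨11146, 2, 3⟩))) (.node 2 (.node 1 (.one ⟨6056, 1, 5⟩) (.one ⟨1721, 1, 3⟩)) (.node 1 (.one ⟨987, 2, 3⟩) (.one ⟨1213, 2, 3⟩)))) (.node 4 (.node 2 (.node 1 (.one ⟨14306, 1, 4⟩) (.one ⟨9188, 2, 2⟩)) (.node 1 (.one ⟨2087, 2, 2⟩) (.one ⟨3321, 1, 2⟩))) (.node 2 (.node 1 (.one ⟨14814, 1, 4⟩) (.one ⟨14876, 1, 2⟩)) (.node 1 (.one ⟨9377, 2, 2⟩) (.one ⟨15265, 2, 5⟩)))))))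
def par8_2_6 : Arr Par :=
  (.node 32 (.node 16 (.node 8 (.node 4 (.node 2 (.node 1 (.one ⟨418, 0, 2⟩) (.one ⟨10528, 1, 3⟩)) (.node 1 (.one ⟨10488, 0, 4⟩) (.one ⟨3263, 2, 5⟩))) (.node 2 (.node 1 (.one ⟨700, 0, 3⟩) (.one ⟨1068, 0, 4⟩)) (.node 1 (.one ⟨6534, 2, 4⟩) (.one ⟨1599, 1, 5⟩)))) (.node 4 (.node 2 (.node 1 (.one ⟨13793, 2, 2⟩) (.one ⟨7019, 1, 4⟩)) (.node 1 (.one ⟨6241, 2, 5⟩) (.one ⟨7926, 0, 3⟩))) (.node 2 (.node 1 (.one ⟨11380, 0, 3⟩) (.one ⟨10427, 2, 5⟩)) (.node 1 (.one ⟨9449, 2, 5⟩) (.one ⟨14575, 2, 4⟩))))) (.node 8 (.node 4 (.node 2 (.node 1 (.one ⟨12434, 1, 7⟩) (.one ⟨7411, 2, 3⟩)) (.node 1 (.one ⟨10544, 1, 4⟩) (.one ⟨11247, 2, 4⟩))) (.node 2 (.node 1 (.one ⟨11082, 2, 3⟩) (.one ⟨2677, 2, 3⟩)) (.node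 1 (.one ⟨897, 2, 4⟩) (.one ⟨4604, 1, 5⟩)))) (.node 4 (.node 2 (.node 1 (.one ⟨12505, 1, 4⟩) (.one ⟨4500, 1, 6⟩)) (.node 1 (.one ⟨12831, 1, 4⟩) (.one ⟨12892, 1, 4⟩))) (.node 2 (.node 1 (.one ⟨12405, 2, 4⟩) (.one ⟨7364, 2, 3⟩)) (.node 1 (.one ⟨4879, 1, 5⟩) (.one ⟨4492, 1, 4⟩)))))) (.node 16 (.node 8 (.node 4 (.node 2 (.node 1 (.one ⟨17091, 0, 4⟩) (.one ⟨10301, 0, 5⟩)) (.node 1 (.one ⟨7735, 1, 1⟩) (.one ⟨7316, 1, 4⟩))) (.node 2 (.node 1 (.one ⟨13351, 1, 6⟩) (.one ⟨16733, 1, 2⟩)) (.node 1 (.one ⟨9405, 2, 3⟩) (.one ⟨11201, 2, 5⟩)))) (.node 4 (.node 2 (.node 1 (.one ⟨11534, 2, 5⟩) (.one ⟨12277, 2, 5⟩)) (.node 1 (.one ⟨16569, 1, 4⟩) (.one ⟨7766, 1, 4⟩))) (.node 2 (.node 1 (.one ⟨2357, 2, 5⟩) (.one ⟨5165, 2, 5⟩)) (.node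 1 (.one ⟨5471, 2, 5⟩) (.one ⟨13098, 2, 4⟩))))) (.node 8 (.node 4 (.node 2 (.node 1 (.one ⟨2570, 2, 3⟩) (.one ⟨12271, 2, 4⟩)) (.node 1 (.one ⟨2915, 2, 2⟩) (.one ⟨6, 1, 4⟩))) (.node 2 (.node 1 (.one ⟨2098, 2, 4⟩) (.one ⟨466, 1, 3⟩)) (.node 1 (.one ⟨3405, 2, 3⟩) (.one ⟨13451, 0, 5⟩)))) (.node 4 (.node 2 (.node 1 (.one ⟨9950, 0, 5⟩) (.one ⟨3506, 2, 6⟩)) (.node 1 (.one ⟨10644, 2, 4⟩) (.one ⟨13019, 0, 5⟩))) (.node 2 (.node 1 (.one ⟨14780, 1, 4⟩) (.one ⟨11812, 2, 5⟩)) (.node 1 (.one ⟨2382, 2, 5⟩) (.one ⟨15920, 1, 6⟩)))))))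
def par8_2_7 : Arr Par :=
  (.node 32 (.node 16 (.node 8 (.node 4 (.node 2 (.node 1 (.one ⟨2475, 2, 5⟩) (.one ⟨9718, 1, 5⟩)) (.node 1 (.one ⟨5589, 2, 5⟩) (.one ⟨14990, 1, 5⟩))) (.node 2 (.node 1 (.one ⟨4638, 1, 4⟩) (.one ⟨12613, 1, 4⟩)) (.node 1 (.one ⟨6870, 1, 7⟩) (.one ⟨8050, 0, 2⟩)))) (.node 4 (.node 2 (.node 1 (.one ⟨2990, 0, 6⟩) (.one ⟨5202, 1, 4⟩)) (.node 1 (.one ⟨7845, 1, 5⟩) (.one ⟨15640, 2, 6⟩))) (.node 2 (.node 1 (.one ⟨13124, 0, 3⟩) (.one ⟨15642, 2, 5⟩)) (.node 1 (.one ⟨6123, 2, 4⟩) (.one ⟨3176, 0, 1⟩))))) (.node 8 (.node 4 (.node 2 (.node 1 (.one ⟨8765, 0, 7⟩) (.one ⟨2221, 2, 5⟩)) (.node 1 (.one ⟨12857, 1, 5⟩) (.one ⟨5564, 2, 3⟩))) (.node 2 (.node 1 (.one ⟨2855, 1, 4⟩) (.one ⟨4822, 1, 4⟩)) (.node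 1 (.one ⟨14044, 2, 5⟩) (.one ⟨1110, 1, 7⟩)))) (.node 4 (.node 2 (.node 1 (.one ⟨7320, 2, 4⟩) (.one ⟨15305, 2, 3⟩)) (.node 1 (.one ⟨13485, 1, 3⟩) (.one ⟨11146, 1, 3⟩))) (.node 2 (.node 1 (.one ⟨12052, 1, 7⟩) (.one ⟨9584, 2, 6⟩)) (.node 1 (.one ⟨4063, 1, 3⟩) (.one ⟨17196, 0, 5⟩)))))) (.node 16 (.node 8 (.node 4 (.node 2 (.node 1 (.one ⟨6369, 2, 4⟩) (.one ⟨6341, 2, 2⟩)) (.node 1 (.one ⟨6325, 2, 4⟩) (.one ⟨8375, 0, 2⟩))) (.node 2 (.node 1 (.one ⟨9813, 1, 3⟩) (.one ⟨4414, 1, 3⟩)) (.node 1 (.one ⟨4221, 1, 3⟩) (.one ⟨10792, 1, 5⟩)))) (.node 4 (.node 2 (.node 1 (.one ⟨12100, 1, 3⟩) (.one ⟨7004, 2, 3⟩)) (.node 1 (.one ⟨4665, 1, 3⟩) (.one ⟨8270, 1, 6⟩))) (.node 2 (.node 1 (.one ⟨6281, 1, 6⟩) (.one ⟨16706, 1, 6⟩)) (.node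 1 (.one ⟨13220, 0, 4⟩) (.one ⟨2939, 1, 5⟩))))) (.node 8 (.node 4 (.node 2 (.node 1 (.one ⟨12218, 0, 4⟩) (.one ⟨3385, 2, 2⟩)) (.node 1 (.one ⟨7928, 0, 4⟩) (.one ⟨3387, 2, 6⟩))) (.node 2 (.node 1 (.one ⟨16782, 1, 5⟩) (.one ⟨16408, 1, 5⟩)) (.node 1 (.one ⟨3389, 2, 3⟩) (.one ⟨11119, 2, 5⟩)))) (.node 4 (.node 2 (.node 1 (.one ⟨8265, 1, 6⟩) (.one ⟨391, 2, 4⟩)) (.node 1 (.one ⟨14212, 1, 3⟩) (.one ⟨9686, 0, 3⟩))) (.node 2 (.node 1 (.one ⟨10022, 2, 5⟩) (.one ⟨16679, 2, 4⟩)) (.node 1 (.one ⟨2819, 2, 5⟩) (.one ⟨2931, 1, 5⟩)))))))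
def par8_2_8 : Arr Par :=
  (.node 32 (.node 16 (.node 8 (.node 4 (.node 2 (.node 1 (.one ⟨13629, 0, 4⟩) (.one ⟨16126, 2, 4⟩)) (.node 1 (.one ⟨1960, 2, 6⟩) (.one ⟨15356, 2, 6⟩))) (.node 2 (.node 1 (.one ⟨4689, 1, 0⟩) (.one ⟨1404, 1, 1⟩)) (.node 1 (.one ⟨8851, 1, 4⟩) (.one ⟨4513, 0, 5⟩)))) (.node 4 (.node 2 (.node 1 (.one ⟨4049, 0, 1⟩) (.one ⟨12762, 1, 7⟩)) (.node 1 (.one ⟨11878, 0, 2⟩) (.one ⟨12428, 1, 6⟩))) (.node 2 (.node 1 (.one ⟨12400, 1, 6⟩) (.one ⟨4474, 2, 6⟩)) (.node 1 (.one ⟨8115, 2, 6⟩) (.one ⟨12125, 0, 5⟩))))) (.node 8 (.node 4 (.node 2 (.node 1 (.one ⟨5709, 1, 5⟩) (.one ⟨3558, 1, 4⟩)) (.node 1 (.one ⟨16476, 2, 6⟩) (.one ⟨13160, 1, 4⟩))) (.node 2 (.node 1 (.one ⟨8702, 2, 5⟩) (.one ⟨7661, 1, 5⟩)) (.node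 1 (.one ⟨15152, 1, 4⟩) (.one ⟨11839, 2, 3⟩)))) (.node 4 (.node 2 (.node 1 (.one ⟨14635, 2, 5⟩) (.one ⟨7998, 2, 4⟩)) (.node 1 (.one ⟨10582, 0, 4⟩) (.one ⟨2140, 2, 4⟩))) (.node 2 (.node 1 (.one ⟨6738, 1, 2⟩) (.one ⟨10581, 0, 3⟩)) (.node 1 (.one ⟨4627, 1, 6⟩) (.one ⟨9028, 2, 3⟩)))))) (.node 16 (.node 8 (.node 4 (.node 2 (.node 1 (.one ⟨16133, 1, 4⟩) (.one ⟨5179, 2, 7⟩)) (.node 1 (.one ⟨9661, 1, 4⟩) (.one ⟨16931, 2, 3⟩))) (.node 2 (.node 1 (.one ⟨13959, 2, 5⟩) (.one ⟨12901, 1, 5⟩)) (.node 1 (.one ⟨9960, 2, 5⟩) (.one ⟨6639, 2, 4⟩)))) (.node 4 (.node 2 (.node 1 (.one ⟨3320, 1, 7⟩) (.one ⟨2280, 2, 7⟩)) (.node 1 (.one ⟨11322, 1, 4⟩) (.one ⟨11417, 1, 4⟩))) (.node 2 (.node 1 (.one ⟨7259, 2, 4⟩) (.one ⟨3289, 1, 4⟩)) (.node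 1 (.one ⟨3374, 1, 2⟩) (.one ⟨9272, 2, 5⟩))))) (.node 8 (.node 4 (.node 2 (.node 1 (.one ⟨12376, 0, 6⟩) (.one ⟨13109, 2, 7⟩)) (.node 1 (.one ⟨5500, 2, 7⟩) (.one ⟨8917, 2, 4⟩))) (.node 2 (.node 1 (.one ⟨10784, 0, 6⟩) (.one ⟨5798, 2, 3⟩)) (.node 1 (.one ⟨14124, 2, 3⟩) (.one ⟨14559, 2, 3⟩)))) (.node 4 (.node 2 (.node 1 (.one ⟨9187, 2, 2⟩) (.one ⟨5875, 1, 3⟩)) (.node 1 (.one ⟨11413, 1, 5⟩) (.one ⟨1371, 2, 3⟩))) (.node 2 (.node 1 (.one ⟨9258, 0, 4⟩) (.one ⟨1566, 2, 2⟩)) (.node 1 (.one ⟨16369, 1, 2⟩) (.one ⟨15840, 2, 5⟩)))))))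
def par8_2_9 : Arr Par :=
  (.node 32 (.node 16 (.node 8 (.node 4 (.node 2 (.node 1 (.one ⟨7809, 2, 3⟩) (.one ⟨13003, 2, 4⟩)) (.node 1 (.one ⟨2716, 1, 4⟩) (.one ⟨9538, 2, 5⟩))) (.node 2 (.node 1 (.one ⟨9256, 0, 4⟩) (.one ⟨15085, 2, 2⟩)) (.node 1 (.one ⟨6972, 2, 5⟩) (.one ⟨10383, 1, 2⟩)))) (.node 4 (.node 2 (.node 1 (.one ⟨7469, 1, 7⟩) (.one ⟨6650, 1, 6⟩)) (.node 1 (.one ⟨9866, 1, 7⟩) (.one ⟨9804, 2, 2⟩))) (.node 2 (.node 1 (.one ⟨8082, 2, 6⟩) (.one ⟨476, 1, 3⟩)) (.node 1 (.one ⟨14820, 1, 3⟩) (.one ⟨135, 2, 3⟩))))) (.node 8 (.node 4 (.node 2 (.node 1 (.one ⟨9998, 1, 3⟩) (.one ⟨13377, 0, 4⟩)) (.node 1 (.one ⟨1734, 1, 7⟩) (.one ⟨1540, 2, 5⟩))) (.node 2 (.node 1 (.one ⟨13178, 2, 3⟩) (.one ⟨2438, 1, 5⟩)) (.node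 1 (.one ⟨10511, 2, 5⟩) (.one ⟨15696, 1, 5⟩)))) (.node 4 (.node 2 (.node 1 (.one ⟨9663, 2, 7⟩) (.one ⟨8085, 2, 4⟩)) (.node 1 (.one ⟨15699, 1, 5⟩) (.one ⟨793, 2, 5⟩))) (.node 2 (.node 1 (.one ⟨4568, 2, 3⟩) (.one ⟨15698, 1, 6⟩)) (.node 1 (.one ⟨31, 1, 5⟩) (.one ⟨9531, 1, 7⟩)))))) (.node 16 (.node 8 (.node 4 (.node 2 (.node 1 (.one ⟨11704, 2, 6⟩) (.one ⟨360, 0, 4⟩)) (.node 1 (.one ⟨5475, 2, 4⟩) (.one ⟨1230, 2, 4⟩))) (.node 2 (.node 1 (.one ⟨14332, 2, 4⟩) (.one ⟨1603, 1, 5⟩)) (.node 1 (.one ⟨6741, 2, 4⟩) (.one ⟨3088, 2, 5⟩)))) (.node 4 (.node 2 (.node 1 (.one ⟨7059, 2, 4⟩) (.one ⟨12316, 0, 3⟩)) (.node 1 (.one ⟨16185, 2, 3⟩) (.one ⟨1350, 0, 3⟩))) (.node 2 (.node 1 (.one ⟨8912, 2, 2⟩) (.one ⟨8891, 0, 3⟩)) (.node 1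 (.one ⟨8553, 0, 3⟩) (.one ⟨6443, 1, 2⟩))))) (.node 8 (.node 4 (.node 2 (.node 1 (.one ⟨1797, 1, 7⟩) (.one ⟨6269, 1, 7⟩)) (.node 1 (.one ⟨745, 1, 3⟩) (.one ⟨6765, 1, 4⟩))) (.node 2 (.node 1 (.one ⟨3371, 1, 2⟩) (.one ⟨6651, 1, 2⟩)) (.node 1 (.one ⟨3222, 1, 7⟩) (.one ⟨975, 1, 4⟩)))) (.node 4 (.node 2 (.node 1 (.one ⟨9420, 2, 2⟩) (.one ⟨3301, 1, 6⟩)) (.node 1 (.one ⟨2120, 2, 6⟩) (.one ⟨933, 1, 3⟩))) (.node 2 (.node 1 (.one ⟨6075, 2, 5⟩) (.one ⟨3299, 1, 4⟩)) (.node 1 (.one ⟨11539, 0, 5⟩) (.one ⟨6387, 1, 1⟩)))))))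
def par8_2_10 : Arr Par :=
  (.node 32 (.node 16 (.node 8 (.node 4 (.node 2 (.node 1 (.one ⟨3048, 1, 2⟩) (.one ⟨16748, 1, 3⟩)) (.node 1 (.one ⟨12157, 1, 7⟩) (.one ⟨14876, 0, 2⟩))) (.node 2 (.node 1 (.one ⟨15875, 0, 2⟩) (.one ⟨6606, 1, 5⟩)) (.node 1 (.one ⟨2482, 1, 3⟩) (.one ⟨9528, 1, 1⟩)))) (.node 4 (.node 2 (.node 1 (.one ⟨10155, 2, 3⟩) (.one ⟨4423, 0, 2⟩)) (.node 1 (.one ⟨6878, 2, 4⟩) (.one ⟨1654, 1, 4⟩))) (.node 2 (.node 1 (.one ⟨6533, 2, 5⟩) (.one ⟨3713, 1, 4⟩)) (.node 1 (.one ⟨11565, 2, 5⟩) (.one ⟨2680, 1, 3⟩))))) (.node 8 (.node 4 (.node 2 (.node 1 (.one ⟨730, 0, 5⟩) (.one ⟨11047, 1, 2⟩)) (.node 1 (.one ⟨13911, 2, 4⟩) (.one ⟨13888, 1, 2⟩))) (.node 2 (.node 1 (.one ⟨10544, 2, 4⟩) (.one ⟨7311, 1, 2⟩)) (.node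 1 (.one ⟨15055, 1, 2⟩) (.one ⟨14304, 2, 5⟩)))) (.node 4 (.node 2 (.node 1 (.one ⟨2511, 2, 2⟩) (.one ⟨16514, 1, 3⟩)) (.node 1 (.one ⟨6712, 0, 4⟩) (.one ⟨726, 2, 4⟩))) (.node 2 (.node 1 (.one ⟨12044, 0, 3⟩) (.one ⟨11012, 2, 5⟩)) (.node 1 (.one ⟨15724, 1, 5⟩) (.one ⟨4450, 0, 5⟩)))))) (.node 16 (.node 8 (.node 4 (.node 2 (.node 1 (.one ⟨6392, 0, 7⟩) (.one ⟨9451, 1, 5⟩)) (.node 1 (.one ⟨2454, 1, 5⟩) (.one ⟨14941, 0, 5⟩))) (.node 2 (.node 1 (.one ⟨9253, 2, 6⟩) (.one ⟨10765, 1, 4⟩)) (.node 1 (.one ⟨1907, 1, 5⟩) (.one ⟨8305, 0, 1⟩)))) (.node 4 (.node 2 (.node 1 (.one ⟨4200, 0, 0⟩) (.one ⟨11503, 1, 6⟩)) (.node 1 (.one ⟨12472, 1, 6⟩) (.one ⟨15409, 2, 6⟩))) (.node 2 (.node 1 (.one ⟨9229, 1, 4⟩) (.one ⟨1237, 0, 3⟩)) (.node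 1 (.one ⟨7901, 1, 7⟩) (.one ⟨9457, 1, 2⟩))))) (.node 8 (.node 4 (.node 2 (.node 1 (.one ⟨15661, 2, 7⟩) (.one ⟨14674, 1, 5⟩)) (.node 1 (.one ⟨7432, 2, 2⟩) (.one ⟨15617, 2, 2⟩))) (.node 2 (.node 1 (.one ⟨10052, 2, 6⟩) (.one ⟨7462, 2, 6⟩)) (.node 1 (.one ⟨2264, 1, 4⟩) (.one ⟨10947, 2, 5⟩)))) (.node 4 (.node 2 (.node 1 (.one ⟨15993, 1, 3⟩) (.one ⟨15169, 2, 5⟩)) (.node 1 (.one ⟨5025, 1, 5⟩) (.one ⟨14661, 1, 5⟩))) (.node 2 (.node 1 (.one ⟨12730, 1, 3⟩) (.one ⟨1007, 1, 3⟩)) (.node 1 (.one ⟨7682, 1, 5⟩) (.one ⟨8660, 1, 7⟩)))))))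
def par8_2_11 : Arr Par :=
  (.node 32 (.node 16 (.node 8 (.node 4 (.node 2 (.node 1 (.one ⟨3582, 2, 5⟩) (.one ⟨10755, 2, 4⟩)) (.node 1 (.one ⟨10693, 2, 6⟩) (.one ⟨749, 2, 2⟩))) (.node 2 (.node 1 (.one ⟨4040, 1, 6⟩) (.one ⟨12398, 2, 1⟩)) (.node 1 (.one ⟨7542, 1, 2⟩) (.one ⟨3083, 1, 4⟩)))) (.node 4 (.node 2 (.node 1 (.one ⟨1205, 2, 2⟩) (.one ⟨10758, 2, 5⟩)) (.node 1 (.one ⟨477, 2, 3⟩) (.one ⟨3849, 2, 2⟩))) (.node 2 (.node 1 (.one ⟨14165, 1, 5⟩) (.one ⟨3885, 2, 2⟩)) (.node 1 (.one ⟨12055, 2, 3⟩) (.one ⟨3355, 2, 5⟩))))) (.node 8 (.node 4 (.node 2 (.node 1 (.one ⟨3358, 2, 3⟩) (.one ⟨12717, 1, 5⟩)) (.node 1 (.one ⟨3353, 2, 5⟩) (.one ⟨9714, 2, 6⟩))) (.node 2 (.node 1 (.one ⟨9712, 2, 6⟩) (.one ⟨9717, 2, 5⟩)) (.node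 1 (.one ⟨9715, 2, 5⟩) (.one ⟨8854, 1, 4⟩)))) (.node 4 (.node 2 (.node 1 (.one ⟨12221, 1, 3⟩) (.one ⟨1505, 1, 3⟩)) (.node 1 (.one ⟨14905, 1, 5⟩) (.one ⟨959, 1, 5⟩))) (.node 2 (.node 1 (.one ⟨15022, 1, 5⟩) (.one ⟨8762, 1, 6⟩)) (.node 1 (.one ⟨3395, 2, 3⟩) (.one ⟨6370, 2, 4⟩)))))) (.node 16 (.node 8 (.node 4 (.node 2 (.node 1 (.one ⟨16330, 2, 3⟩) (.one ⟨13597, 1, 3⟩)) (.node 1 (.one ⟨10408, 2, 4⟩) (.one ⟨13586, 1, 5⟩))) (.node 2 (.node 1 (.one ⟨9198, 2, 4⟩) (.one ⟨3389, 1, 3⟩)) (.node 1 (.one ⟨7475, 0, 3⟩) (.one ⟨6628, 0, 5⟩)))) (.node 4 (.node 2 (.node 1 (.one ⟨16785, 1, 6⟩) (.one ⟨2707, 1, 3⟩)) (.node 1 (.one ⟨15517, 1, 6⟩) (.one ⟨166, 2, 4⟩))) (.node 2 (.node 1 (.one ⟨12093, 0, 5⟩) (.one ⟨8767, 1, 4⟩)) (.node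 1 (.one ⟨12218, 1, 4⟩) (.one ⟨6409, 2, 4⟩))))) (.node 8 (.node 4 (.node 2 (.node 1 (.one ⟨14649, 2, 6⟩) (.one ⟨14648, 2, 5⟩)) (.node 1 (.one ⟨7333, 0, 4⟩) (.one ⟨10051, 0, 3⟩))) (.node 2 (.node 1 (.one ⟨13565, 1, 5⟩) (.one ⟨13126, 0, 6⟩)) (.node 1 (.one ⟨14385, 0, 3⟩) (.one ⟨6004, 0, 2⟩)))) (.node 4 (.node 2 (.node 1 (.one ⟨12372, 2, 4⟩) (.one ⟨12392, 2, 3⟩)) (.node 1 (.one ⟨13310, 0, 5⟩) (.one ⟨8121, 0, 5⟩))) (.node 2 (.node 1 (.one ⟨7284, 2, 3⟩) (.one ⟨2389, 1, 3⟩)) (.node 1 (.one ⟨16686, 2, 7⟩) (.one ⟨11935, 0, 6⟩)))))))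
def par8_2_12 : Arr Par :=
  (.node 32 (.node 16 (.node 8 (.node 4 (.node 2 (.node 1 (.one ⟨7314, 2, 6⟩) (.one ⟨10593, 2, 6⟩)) (.node 1 (.one ⟨205, 2, 4⟩) (.one ⟨5006, 0, 4⟩))) (.node 2 (.node 1 (.one ⟨15037, 0, 6⟩) (.one ⟨15483, 0, 5⟩)) (.node 1 (.one ⟨15310, 2, 3⟩) (.one ⟨16909, 0, 4⟩)))) (.node 4 (.node 2 (.node 1 (.one ⟨16080, 1, 6⟩) (.one ⟨14208, 1, 4⟩)) (.node 1 (.one ⟨16439, 2, 4⟩) (.one ⟨7998, 1, 4⟩))) (.node 2 (.node 1 (.one ⟨16074, 1, 6⟩) (.one ⟨14237, 1, 5⟩)) (.node 1 (.one ⟨6185, 1, 4⟩) (.one ⟨2688, 2, 3⟩))))) (.node 8 (.node 4 (.node 2 (.node 1 (.one ⟨15139, 0, 1⟩) (.one ⟨673, 0, 6⟩)) (.node 1 (.one ⟨6998, 2, 5⟩) (.one ⟨241, 2, 4⟩))) (.node 2 (.node 1 (.one ⟨10716, 2, 4⟩) (.one ⟨16071, 1, 6⟩))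 (.node 1 (.one ⟨7318, 2, 5⟩) (.one ⟨16572, 1, 4⟩)))) (.node 4 (.node 2 (.node 1 (.one ⟨11832, 1, 4⟩) (.one ⟨2683, 1, 4⟩)) (.node 1 (.one ⟨7543, 1, 7⟩) (.one ⟨12038, 1, 6⟩))) (.node 2 (.node 1 (.one ⟨17026, 1, 5⟩) (.one ⟨6757, 1, 7⟩)) (.node 1 (.one ⟨1234, 1, 4⟩) (.one ⟨13273, 0, 3⟩)))))) (.node 16 (.node 8 (.node 4 (.node 2 (.node 1 (.one ⟨14317, 2, 5⟩) (.one ⟨13923, 0, 3⟩)) (.node 1 (.one ⟨6714, 2, 5⟩) (.one ⟨11344, 2, 5⟩))) (.node 2 (.node 1 (.one ⟨11367, 2, 4⟩) (.one ⟨1164, 2, 3⟩)) (.node 1 (.one ⟨11140, 1, 2⟩) (.one ⟨6899, 0, 3⟩)))) (.node 4 (.node 2 (.node 1 (.one ⟨8658, 0, 4⟩) (.one ⟨12734, 0, 6⟩)) (.node 1 (.one ⟨7164, 2, 4⟩) (.one ⟨6613, 1, 5⟩))) (.node 2 (.node 1 (.one ⟨13807, 1, 4⟩) (.one ⟨1268, 1,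 2⟩)) (.node 1 (.one ⟨1162, 0, 3⟩) (.one ⟨1139, 1, 2⟩))))) (.node 8 (.node 4 (.node 2 (.node 1 (.one ⟨5253, 1, 4⟩) (.one ⟨14179, 1, 6⟩)) (.node 1 (.one ⟨17152, 1, 6⟩) (.one ⟨15390, 1, 5⟩))) (.node 2 (.node 1 (.one ⟨15832, 1, 6⟩) (.one ⟨3448, 1, 5⟩)) (.node 1 (.one ⟨13387, 2, 6⟩) (.one ⟨13267, 1, 5⟩)))) (.node 4 (.node 2 (.node 1 (.one ⟨13929, 2, 6⟩) (.one ⟨15370, 2, 6⟩)) (.node 1 (.one ⟨15079, 1, 3⟩) (.one ⟨12211, 1, 7⟩))) (.node 2 (.node 1 (.one ⟨3345, 2, 6⟩) (.one ⟨17051, 1, 5⟩)) (.node 1 (.one ⟨17076, 2, 6⟩) (.one ⟨911, 1, 3⟩)))))))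
def par8_2_13 : Arr Par :=
  (.node 32 (.node 16 (.node 8 (.node 4 (.node 2 (.node 1 (.one ⟨11669, 1, 5⟩) (.one ⟨11665, 1, 5⟩)) (.node 1 (.one ⟨402, 1, 5⟩) (.one ⟨819, 1, 4⟩))) (.node 2 (.node 1 (.one ⟨11668, 1, 5⟩) (.one ⟨5067, 2, 3⟩)) (.node 1 (.one ⟨287, 1, 5⟩) (.one ⟨14683, 0, 5⟩)))) (.node 4 (.node 2 (.node 1 (.one ⟨11134, 1, 3⟩) (.one ⟨7804, 1, 5⟩)) (.node 1 (.one ⟨16588, 1, 5⟩) (.one ⟨9302, 1, 1⟩))) (.node 2 (.node 1 (.one ⟨7995, 2, 5⟩) (.one ⟨8556, 2, 3⟩)) (.node 1 (.one ⟨11841, 2, 6⟩) (.one ⟨47, 1, 3⟩))))) (.node 8 (.node 4 (.node 2 (.node 1 (.one ⟨9158, 2, 5⟩) (.one ⟨6553, 1, 6⟩)) (.node 1 (.one ⟨4571, 1, 5⟩) (.one ⟨4996, 1, 7⟩))) (.node 2 (.node 1 (.one ⟨6276, 1, 3⟩) (.one ⟨8875, 1, 7⟩)) (.node 1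 (.one ⟨1912, 1, 6⟩) (.one ⟨9292, 2, 1⟩)))) (.node 4 (.node 2 (.node 1 (.one ⟨10357, 0, 5⟩) (.one ⟨3059, 1, 1⟩)) (.node 1 (.one ⟨6311, 2, 6⟩) (.one ⟨11820, 1, 3⟩))) (.node 2 (.node 1 (.one ⟨9434, 2, 5⟩) (.one ⟨7275, 0, 5⟩)) (.node 1 (.one ⟨10334, 0, 5⟩) (.one ⟨3948, 1, 4⟩)))))) (.node 16 (.node 8 (.node 4 (.node 2 (.node 1 (.one ⟨7306, 0, 2⟩) (.one ⟨660, 0, 5⟩)) (.node 1 (.one ⟨2937, 2, 6⟩) (.one ⟨8572, 1, 1⟩))) (.node 2 (.node 1 (.one ⟨5486, 2, 4⟩) (.one ⟨12270, 1, 4⟩)) (.node 1 (.one ⟨1847, 1, 2⟩) (.one ⟨7041, 1, 4⟩)))) (.node 4 (.node 2 (.node 1 (.one ⟨16009, 0, 4⟩) (.one ⟨14610, 1, 4⟩)) (.node 1 (.one ⟨17073, 2, 5⟩) (.one ⟨4657, 1, 3⟩))) (.node 2 (.node 1 (.one ⟨13505, 1, 6⟩) (.one ⟨3747, 0, 5⟩)) (.node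 1 (.one ⟨3673, 1, 3⟩) (.one ⟨4536, 1, 0⟩))))) (.node 8 (.node 4 (.node 2 (.node 1 (.one ⟨12971, 1, 3⟩) (.one ⟨4254, 1, 0⟩)) (.node 1 (.one ⟨5710, 1, 6⟩) (.one ⟨4151, 0, 4⟩))) (.node 2 (.node 1 (.one ⟨17135, 0, 7⟩) (.one ⟨347, 1, 4⟩)) (.node 1 (.one ⟨2193, 2, 6⟩) (.one ⟨1531, 2, 6⟩)))) (.node 4 (.node 2 (.node 1 (.one ⟨13735, 0, 6⟩) (.one ⟨10317, 1, 5⟩)) (.node 1 (.one ⟨7644, 2, 5⟩) (.one ⟨14424, 1, 4⟩))) (.node 2 (.node 1 (.one ⟨10, 1, 4⟩) (.one ⟨10333, 1, 5⟩)) (.node 1 (.one ⟨1572, 0, 4⟩) (.one ⟨11029, 1, 3⟩)))))))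
def par8_2_14 : Arr Par :=
  (.node 32 (.node 16 (.node 8 (.node 4 (.node 2 (.node 1 (.one ⟨14561, 0, 5⟩) (.one ⟨3913, 0, 4⟩)) (.node 1 (.one ⟨16672, 1, 6⟩) (.one ⟨13434, 0, 5⟩))) (.node 2 (.node 1 (.one ⟨8368, 0, 2⟩) (.one ⟨5057, 1, 2⟩)) (.node 1 (.one ⟨5189, 1, 5⟩) (.one ⟨12449, 1, 4⟩)))) (.node 4 (.node 2 (.node 1 (.one ⟨10137, 2, 4⟩) (.one ⟨9680, 2, 5⟩)) (.node 1 (.one ⟨171, 1, 5⟩) (.one ⟨11151, 1, 6⟩))) (.node 2 (.node 1 (.one ⟨10922, 1, 3⟩) (.one ⟨5432, 1, 4⟩)) (.node 1 (.one ⟨5184, 1, 7⟩) (.one ⟨2766, 0, 4⟩))))) (.node 8 (.node 4 (.node 2 (.node 1 (.one ⟨4746, 1, 0⟩) (.one ⟨3182, 0, 4⟩)) (.node 1 (.one ⟨17184, 2, 6⟩) (.one ⟨13933, 2, 6⟩))) (.node 2 (.node 1 (.one ⟨15258, 0, 4⟩) (.one ⟨11859, 1, 6⟩))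 (.node 1 (.one ⟨14808, 0, 3⟩) (.one ⟨1, 2, 1⟩)))) (.node 4 (.node 2 (.node 1 (.one ⟨4572, 1, 5⟩) (.one ⟨10919, 1, 6⟩)) (.node 1 (.one ⟨1170, 2, 6⟩) (.one ⟨10328, 1, 4⟩))) (.node 2 (.node 1 (.one ⟨9683, 2, 5⟩) (.one ⟨9649, 2, 4⟩)) (.node 1 (.one ⟨4036, 1, 4⟩) (.one ⟨921, 1, 6⟩)))))) (.node 16 (.node 8 (.node 4 (.node 2 (.node 1 (.one ⟨9298, 1, 2⟩) (.one ⟨9630, 2, 3⟩)) (.node 1 (.one ⟨14765, 0, 5⟩) (.one ⟨12251, 0, 5⟩))) (.node 2 (.node 1 (.one ⟨15817, 1, 6⟩) (.one ⟨3108, 1, 4⟩)) (.node 1 (.one ⟨11137, 1, 6⟩) (.one ⟨6272, 2, 4⟩)))) (.node 4 (.node 2 (.node 1 (.one ⟨661, 1, 4⟩) (.one ⟨5740, 2, 5⟩)) (.node 1 (.one ⟨6083, 2, 6⟩) (.one ⟨7273, 1, 5⟩))) (.node 2 (.node 1 (.one ⟨4229, 2, 5⟩) (.one ⟨10071, 0, 2⟩)) (.node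 1 (.one ⟨3821, 2, 5⟩) (.one ⟨8692, 1, 1⟩))))) (.node 8 (.node 4 (.node 2 (.node 1 (.one ⟨917, 1, 4⟩) (.one ⟨11048, 2, 3⟩)) (.node 1 (.one ⟨16556, 1, 6⟩) (.one ⟨4598, 1, 0⟩))) (.node 2 (.node 1 (.one ⟨14836, 0, 5⟩) (.one ⟨4750, 1, 0⟩)) (.node 1 (.one ⟨5926, 1, 3⟩) (.one ⟨1903, 2, 5⟩)))) (.node 4 (.node 2 (.node 1 (.one ⟨11302, 1, 4⟩) (.one ⟨14054, 1, 5⟩)) (.node 1 (.one ⟨1225, 2, 4⟩) (.one ⟨4459, 2, 4⟩))) (.node 2 (.node 1 (.one ⟨657, 1, 5⟩) (.one ⟨7516, 1, 4⟩)) (.node 1 (.one ⟨4083, 2, 5⟩) (.one ⟨6855, 0, 1⟩)))))))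
def par8_2_15 : Arr Par :=
  (.node 32 (.node 16 (.node 8 (.node 4 (.node 2 (.node 1 (.one ⟨10836, 1, 5⟩) (.one ⟨16452, 2, 5⟩)) (.node 1 (.one ⟨16841, 1, 3⟩) (.one ⟨14896, 0, 6⟩))) (.node 2 (.node 1 (.one ⟨7514, 2, 5⟩) (.one ⟨957, 0, 3⟩)) (.node 1 (.one ⟨9376, 2, 2⟩) (.one ⟨9498, 2, 4⟩)))) (.node 4 (.node 2 (.node 1 (.one ⟨10326, 2, 5⟩) (.one ⟨11502, 2, 5⟩)) (.node 1 (.one ⟨12658, 0, 7⟩) (.one ⟨5720, 2, 4⟩))) (.node 2 (.node 1 (.one ⟨6334, 2, 4⟩) (.one ⟨12030, 0, 7⟩)) (.node 1 (.one ⟨3198, 0, 3⟩) (.one ⟨16464, 2, 4⟩))))) (.node 8 (.node 4 (.node 2 (.node 1 (.one ⟨13868, 2, 4⟩) (.one ⟨13341, 1, 2⟩)) (.node 1 (.one ⟨9444, 0, 4⟩) (.one ⟨323, 1, 4⟩))) (.node 2 (.node 1 (.one ⟨394, 1, 2⟩) (.one ⟨4814, 2, 6⟩)) (.node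 1 (.one ⟨470, 2, 6⟩) (.one ⟨15823, 1, 5⟩)))) (.node 4 (.node 2 (.node 1 (.one ⟨5288, 1, 6⟩) (.one ⟨15369, 1, 6⟩)) (.node 1 (.one ⟨95, 1, 4⟩) (.one ⟨9472, 0, 4⟩))) (.node 2 (.node 1 (.one ⟨3038, 2, 3⟩) (.one ⟨3035, 2, 5⟩)) (.node 1 (.one ⟨13235, 1, 2⟩) (.one ⟨1320, 0, 5⟩)))))) (.node 16 (.node 8 (.node 4 (.node 2 (.node 1 (.one ⟨544, 1, 4⟩) (.one ⟨6805, 0, 5⟩)) (.node 1 (.one ⟨8806, 1, 6⟩) (.one ⟨9197, 2, 1⟩))) (.node 2 (.node 1 (.one ⟨848, 2, 5⟩) (.one ⟨12585, 2, 5⟩)) (.node 1 (.one ⟨4511, 2, 2⟩) (.one ⟨11037, 1, 5⟩)))) (.node 4 (.node 2 (.node 1 (.one ⟨9302, 2, 1⟩) (.one ⟨12638, 1, 5⟩)) (.node 1 (.one ⟨3116, 0, 2⟩) (.one ⟨3614, 2, 4⟩))) (.node 2 (.node 1 (.one ⟨8552, 2, 1⟩) (.one ⟨2997, 2, 1⟩)) (.node 1 (.one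 ⟨5664, 2, 5⟩) (.one ⟨8170, 2, 6⟩))))) (.node 8 (.node 4 (.node 2 (.node 1 (.one ⟨5233, 1, 5⟩) (.one ⟨4849, 2, 5⟩)) (.node 1 (.one ⟨3726, 2, 4⟩) (.one ⟨4764, 1, 0⟩))) (.node 2 (.node 1 (.one ⟨8596, 2, 3⟩) (.one ⟨13285, 1, 4⟩)) (.node 1 (.one ⟨4302, 2, 4⟩) (.one ⟨9043, 2, 6⟩)))) (.node 4 (.node 2 (.node 1 (.one ⟨1981, 1, 5⟩) (.one ⟨15293, 2, 6⟩)) (.node 1 (.one ⟨5185, 1, 4⟩) (.one ⟨3941, 2, 4⟩))) (.node 2 (.node 1 (.one ⟨5231, 1, 6⟩) (.one ⟨333, 1, 5⟩)) (.node 1 (.one ⟨2048, 1, 4⟩) (.one ⟨14700, 1, 3⟩)))))))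
def par8_2 : Arr Par :=
  (.node 512 (.node 256 (.node 128 (.node 64 par8_2_0 par8_2_1) (.node 64 par8_2_2 par8_2_3)) (.node 128 (.node 64 par8_2_4 par8_2_5) (.node 64 par8_2_6 par8_2_7))) (.node 256 (.node 128 (.node 64 par8_2_8 par8_2_9) (.node 64 par8_2_10 par8_2_11)) (.node 128 (.node 64 par8_2_12 par8_2_13) (.node 64 par8_2_14 par8_2_15))))
def par8_3_0 : Arr Par :=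
  (.node 32 (.node 16 (.node 8 (.node 4 (.node 2 (.node 1 (.one ⟨11060, 0, 6⟩) (.one ⟨4690, 2, 4⟩)) (.node 1 (.one ⟨4041, 2, 3⟩) (.one ⟨6682, 1, 4⟩))) (.node 2 (.node 1 (.one ⟨4300, 1, 4⟩) (.one ⟨14546, 1, 6⟩)) (.node 1 (.one ⟨15704, 2, 5⟩) (.one ⟨13421, 1, 6⟩)))) (.node 4 (.node 2 (.node 1 (.one ⟨7621, 2, 2⟩) (.one ⟨1182, 1, 6⟩)) (.node 1 (.one ⟨11183, 2, 5⟩) (.one ⟨5938, 1, 3⟩))) (.node 2 (.node 1 (.one ⟨7835, 2, 5⟩) (.one ⟨264, 2, 3⟩)) (.node 1 (.one ⟨11389, 2, 5⟩) (.one ⟨13161, 1, 6⟩))))) (.node 8 (.node 4 (.node 2 (.node 1 (.one ⟨1976, 1, 4⟩) (.one ⟨6195, 2, 4⟩)) (.node 1 (.one ⟨2436, 2, 4⟩) (.one ⟨5237, 1, 5⟩))) (.node 2 (.node 1 (.one ⟨9578, 2, 5⟩) (.one ⟨14142, 2, 4⟩)) (.node 1 (.one ⟨9942, 2, 7⟩) (.one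 ⟨4651, 1, 0⟩)))) (.node 4 (.node 2 (.node 1 (.one ⟨13550, 2, 4⟩) (.one ⟨14809, 0, 4⟩)) (.node 1 (.one ⟨10675, 2, 3⟩) (.one ⟨2763, 0, 3⟩))) (.node 2 (.node 1 (.one ⟨12996, 0, 4⟩) (.one ⟨6975, 1, 4⟩)) (.node 1 (.one ⟨9275, 2, 4⟩) (.one ⟨16954, 2, 6⟩)))))) (.node 16 (.node 8 (.node 4 (.node 2 (.node 1 (.one ⟨7690, 2, 3⟩) (.one ⟨16952, 2, 6⟩)) (.node 1 (.one ⟨13022, 1, 3⟩) (.one ⟨16957, 2, 5⟩))) (.node 2 (.node 1 (.one ⟨7694, 2, 3⟩) (.one ⟨16955, 2, 6⟩)) (.node 1 (.one ⟨7691, 2, 5⟩) (.one ⟨10152, 1, 6⟩)))) (.node 4 (.node 2 (.node 1 (.one ⟨4740, 1, 0⟩) (.one ⟨661, 0, 4⟩)) (.node 1 (.one ⟨3051, 0, 5⟩) (.one ⟨513, 0, 5⟩))) (.node 2 (.node 1 (.one ⟨12135, 2, 1⟩) (.one ⟨1970, 2, 6⟩)) (.node 1 (.one ⟨14009, 1, 5⟩) (.one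 ⟨1527, 0, 1⟩))))) (.node 8 (.node 4 (.node 2 (.node 1 (.one ⟨8551, 0, 4⟩) (.one ⟨15257, 0, 4⟩)) (.node 1 (.one ⟨9202, 2, 6⟩) (.one ⟨3471, 1, 4⟩))) (.node 2 (.node 1 (.one ⟨5467, 2, 4⟩) (.one ⟨6101, 2, 3⟩)) (.node 1 (.one ⟨14170, 2, 6⟩) (.one ⟨4039, 0, 5⟩)))) (.node 4 (.node 2 (.node 1 (.one ⟨7417, 1, 5⟩) (.one ⟨969, 2, 5⟩)) (.node 1 (.one ⟨7072, 1, 6⟩) (.one ⟨13409, 2, 4⟩))) (.node 2 (.node 1 (.one ⟨10113, 1, 6⟩) (.one ⟨6393, 2, 6⟩)) (.node 1 (.one ⟨10456, 1, 5⟩) (.one ⟨13127, 1, 3⟩)))))))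
def par8_3_1 : Arr Par :=
  (.node 32 (.node 16 (.node 8 (.node 4 (.node 2 (.node 1 (.one ⟨5658, 0, 4⟩) (.one ⟨1528, 0, 1⟩)) (.node 1 (.one ⟨4458, 2, 4⟩) (.one ⟨15175, 0, 6⟩))) (.node 2 (.node 1 (.one ⟨3164, 0, 5⟩) (.one ⟨3564, 1, 5⟩)) (.node 1 (.one ⟨11274, 0, 1⟩) (.one ⟨14604, 2, 4⟩)))) (.node 4 (.node 2 (.node 1 (.one ⟨13332, 2, 5⟩) (.one ⟨10604, 2, 5⟩)) (.node 1 (.one ⟨12781, 1, 6⟩) (.one ⟨4774, 2, 6⟩))) (.node 2 (.node 1 (.one ⟨2336, 1, 6⟩) (.one ⟨859, 1, 6⟩)) (.node 1 (.one ⟨12122, 0, 2⟩) (.one ⟨4062, 2, 4⟩))))) (.node 8 (.node 4 (.node 2 (.node 1 (.one ⟨8300, 2, 5⟩) (.one ⟨8831, 1, 6⟩)) (.node 1 (.one ⟨8938, 2, 4⟩) (.one ⟨11383, 1, 4⟩))) (.node 2 (.node 1 (.one ⟨8119, 2, 4⟩) (.one ⟨5241, 2, 5⟩)) (.node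 1 (.one ⟨9020, 2, 6⟩) (.one ⟨2911, 2, 5⟩)))) (.node 4 (.node 2 (.node 1 (.one ⟨13647, 2, 5⟩) (.one ⟨8471, 2, 6⟩)) (.node 1 (.one ⟨11815, 2, 6⟩) (.one ⟨7902, 2, 4⟩))) (.node 2 (.node 1 (.one ⟨12748, 2, 4⟩) (.one ⟨8009, 1, 5⟩)) (.node 1 (.one ⟨7026, 1, 6⟩) (.one ⟨6415, 2, 3⟩)))))) (.node 16 (.node 8 (.node 4 (.node 2 (.node 1 (.one ⟨3988, 1, 3⟩) (.one ⟨657, 0, 5⟩)) (.node 1 (.one ⟨1221, 2, 3⟩) (.one ⟨2471, 0, 6⟩))) (.node 2 (.node 1 (.one ⟨6441, 2, 3⟩) (.one ⟨610, 2, 5⟩)) (.node 1 (.one ⟨486, 1, 4⟩) (.one ⟨12684, 1, 6⟩)))) (.node 4 (.node 2 (.node 1 (.one ⟨4767, 1, 0⟩) (.one ⟨5366, 0, 5⟩)) (.node 1 (.one ⟨4549, 1, 0⟩) (.one ⟨1731, 1, 5⟩))) (.node 2 (.node 1 (.one ⟨3124, 0, 5⟩) (.one ⟨2122, 1, 5⟩)) (.node 1 (.one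 ⟨666, 2, 3⟩) (.one ⟨11974, 1, 2⟩))))) (.node 8 (.node 4 (.node 2 (.node 1 (.one ⟨1040, 0, 4⟩) (.one ⟨7551, 0, 3⟩)) (.node 1 (.one ⟨14182, 1, 4⟩) (.one ⟨4480, 1, 6⟩))) (.node 2 (.node 1 (.one ⟨12320, 1, 5⟩) (.one ⟨7553, 0, 6⟩)) (.node 1 (.one ⟨5671, 1, 5⟩) (.one ⟨12659, 0, 7⟩)))) (.node 4 (.node 2 (.node 1 (.one ⟨2270, 1, 6⟩) (.one ⟨2386, 2, 2⟩)) (.node 1 (.one ⟨7465, 2, 1⟩) (.one ⟨6857, 2, 4⟩))) (.node 2 (.node 1 (.one ⟨5496, 0, 7⟩) (.one ⟨3112, 2, 1⟩)) (.node 1 (.one ⟨6152, 2, 2⟩) (.one ⟨7727, 1, 5⟩)))))))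
def par8_3_2 : Arr Par :=
  (.node 32 (.node 16 (.node 8 (.node 4 (.node 2 (.node 1 (.one ⟨368, 1, 3⟩) (.one ⟨11297, 0, 5⟩)) (.node 1 (.one ⟨7732, 1, 5⟩) (.one ⟨15508, 0, 6⟩))) (.node 2 (.node 1 (.one ⟨9210, 2, 5⟩) (.one ⟨13744, 0, 5⟩)) (.node 1 (.one ⟨7734, 1, 2⟩) (.one ⟨13554, 2, 4⟩)))) (.node 4 (.node 2 (.node 1 (.one ⟨3282, 2, 5⟩) (.one ⟨7947, 0, 3⟩)) (.node 1 (.one ⟨11780, 2, 4⟩) (.one ⟨6991, 1, 4⟩))) (.node 2 (.node 1 (.one ⟨6677, 1, 5⟩) (.one ⟨652, 1, 3⟩)) (.node 1 (.one ⟨14967, 0, 3⟩) (.one ⟨15878, 0, 6⟩))))) (.node 8 (.node 4 (.node 2 (.node 1 (.one ⟨12490, 1, 5⟩) (.one ⟨1402, 2, 3⟩)) (.node 1 (.one ⟨3998, 0, 7⟩) (.one ⟨9843, 1, 6⟩))) (.node 2 (.node 1 (.one ⟨4441, 1, 2⟩) (.one ⟨6068, 2, 4⟩)) (.node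 1 (.one ⟨7612, 2, 6⟩) (.one ⟨15347, 2, 3⟩)))) (.node 4 (.node 2 (.node 1 (.one ⟨14789, 1, 2⟩) (.one ⟨10734, 1, 5⟩)) (.node 1 (.one ⟨3180, 2, 6⟩) (.one ⟨13695, 2, 4⟩))) (.node 2 (.node 1 (.one ⟨5444, 1, 2⟩) (.one ⟨7806, 1, 3⟩)) (.node 1 (.one ⟨194, 2, 6⟩) (.one ⟨6585, 1, 3⟩)))))) (.node 16 (.node 8 (.node 4 (.node 2 (.node 1 (.one ⟨7917, 2, 4⟩) (.one ⟨2253, 1, 4⟩)) (.node 1 (.one ⟨12435, 2, 3⟩) (.one ⟨2308, 0, 6⟩))) (.node 2 (.node 1 (.one ⟨15398, 1, 5⟩) (.one ⟨10359, 1, 4⟩)) (.node 1 (.one ⟨7999, 2, 4⟩) (.one ⟨5855, 1, 4⟩)))) (.node 4 (.node 2 (.node 1 (.one ⟨5167, 1, 3⟩) (.one ⟨5246, 2, 5⟩)) (.node 1 (.one ⟨8661, 2, 4⟩) (.one ⟨8786, 1, 6⟩))) (.node 2 (.node 1 (.one ⟨1144, 1, 5⟩) (.one ⟨14519, 1, 5⟩)) (.node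 1 (.one ⟨2001, 0, 3⟩) (.one ⟨15195, 0, 4⟩))))) (.node 8 (.node 4 (.node 2 (.node 1 (.one ⟨12605, 2, 4⟩) (.one ⟨15763, 1, 5⟩)) (.node 1 (.one ⟨11626, 2, 5⟩) (.one ⟨14590, 1, 6⟩))) (.node 2 (.node 1 (.one ⟨8114, 2, 5⟩) (.one ⟨13569, 2, 5⟩)) (.node 1 (.one ⟨1994, 0, 6⟩) (.one ⟨11426, 0, 3⟩)))) (.node 4 (.node 2 (.node 1 (.one ⟨1308, 1, 5⟩) (.one ⟨11425, 0, 5⟩)) (.node 1 (.one ⟨10487, 1, 5⟩) (.one ⟨11779, 1, 5⟩))) (.node 2 (.node 1 (.one ⟨10233, 1, 5⟩) (.one ⟨4485, 1, 5⟩)) (.node 1 (.one ⟨9692, 2, 4⟩) (.one ⟨2037, 1, 4⟩)))))))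
def par8_3_3 : Arr Par :=
  (.node 32 (.node 16 (.node 8 (.node 4 (.node 2 (.node 1 (.one ⟨1259, 2, 3⟩) (.one ⟨2061, 0, 6⟩)) (.node 1 (.one ⟨12077, 1, 5⟩) (.one ⟨3853, 1, 5⟩))) (.node 2 (.node 1 (.one ⟨11898, 2, 5⟩) (.one ⟨6530, 0, 4⟩)) (.node 1 (.one ⟨8453, 2, 4⟩) (.one ⟨9911, 1, 4⟩)))) (.node 4 (.node 2 (.node 1 (.one ⟨10964, 0, 6⟩) (.one ⟨15986, 1, 6⟩)) (.node 1 (.one ⟨2693, 2, 6⟩) (.one ⟨9173, 1, 1⟩))) (.node 2 (.node 1 (.one ⟨8164, 2, 5⟩) (.one ⟨15766, 1, 3⟩)) (.node 1 (.one ⟨12417, 1, 3⟩) (.one ⟨14767, 2, 3⟩))))) (.node 8 (.node 4 (.node 2 (.node 1 (.one ⟨16906, 1, 7⟩) (.one ⟨12261, 2, 4⟩)) (.node 1 (.one ⟨14797, 0, 4⟩) (.one ⟨7317, 1, 4⟩))) (.node 2 (.node 1 (.one ⟨8778, 1, 3⟩) (.one ⟨5517, 2, 5⟩)) (.node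 1 (.one ⟨10472, 2, 4⟩) (.one ⟨4479, 1, 0⟩)))) (.node 4 (.node 2 (.node 1 (.one ⟨16732, 2, 6⟩) (.one ⟨10887, 2, 3⟩)) (.node 1 (.one ⟨6184, 2, 5⟩) (.one ⟨15479, 0, 6⟩))) (.node 2 (.node 1 (.one ⟨15033, 0, 6⟩) (.one ⟨8025, 0, 5⟩)) (.node 1 (.one ⟨1020, 2, 5⟩) (.one ⟨5588, 1, 4⟩)))))) (.node 16 (.node 8 (.node 4 (.node 2 (.node 1 (.one ⟨5930, 1, 2⟩) (.one ⟨8629, 2, 5⟩)) (.node 1 (.one ⟨8853, 0, 4⟩) (.one ⟨8923, 0, 3⟩))) (.node 2 (.node 1 (.one ⟨11245, 0, 4⟩) (.one ⟨8625, 2, 5⟩)) (.node 1 (.one ⟨8626, 2, 1⟩) (.one ⟨13913, 1, 4⟩)))) (.node 4 (.node 2 (.node 1 (.one ⟨11893, 1, 3⟩) (.one ⟨379, 2, 4⟩)) (.node 1 (.one ⟨9273, 1, 2⟩) (.one ⟨13494, 1, 5⟩))) (.node 2 (.node 1 (.one ⟨6717, 2, 5⟩) (.one ⟨13060, 0, 5⟩)) (.node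 1 (.one ⟨13551, 2, 3⟩) (.one ⟨3053, 1, 2⟩))))) (.node 8 (.node 4 (.node 2 (.node 1 (.one ⟨9419, 2, 3⟩) (.one ⟨16778, 2, 6⟩)) (.node 1 (.one ⟨3468, 1, 4⟩) (.one ⟨16433, 2, 4⟩))) (.node 2 (.node 1 (.one ⟨732, 1, 3⟩) (.one ⟨2294, 1, 4⟩)) (.node 1 (.one ⟨4034, 1, 4⟩) (.one ⟨11161, 1, 6⟩)))) (.node 4 (.node 2 (.node 1 (.one ⟨6617, 2, 6⟩) (.one ⟨2167, 0, 1⟩)) (.node 1 (.one ⟨15505, 0, 5⟩) (.one ⟨7211, 0, 5⟩))) (.node 2 (.node 1 (.one ⟨9857, 1, 5⟩) (.one ⟨7344, 0, 2⟩)) (.node 1 (.one ⟨14915, 2, 2⟩) (.one ⟨16255, 1, 3⟩)))))))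
def par8_3_4 : Arr Par :=
  (.node 32 (.node 16 (.node 8 (.node 4 (.node 2 (.node 1 (.one ⟨5094, 2, 5⟩) (.one ⟨11600, 2, 7⟩)) (.node 1 (.one ⟨15002, 1, 3⟩) (.one ⟨14805, 2, 3⟩))) (.node 2 (.node 1 (.one ⟨4669, 2, 4⟩) (.one ⟨12123, 2, 4⟩)) (.node 1 (.one ⟨3232, 1, 5⟩) (.one ⟨3516, 1, 2⟩)))) (.node 4 (.node 2 (.node 1 (.one ⟨10315, 2, 5⟩) (.one ⟨12778, 1, 7⟩)) (.node 1 (.one ⟨11738, 2, 5⟩) (.one ⟨517, 1, 6⟩))) (.node 2 (.node 1 (.one ⟨16042, 1, 5⟩) (.one ⟨2446, 0, 6⟩)) (.node 1 (.one ⟨1717, 2, 4⟩) (.one ⟨15901, 2, 4⟩))))) (.node 8 (.node 4 (.node 2 (.node 1 (.one ⟨5212, 0, 6⟩) (.one ⟨9802, 1, 5⟩)) (.node 1 (.one ⟨13646, 1, 5⟩) (.one ⟨6132, 1, 4⟩))) (.node 2 (.node 1 (.one ⟨1908, 1, 4⟩) (.one ⟨9481, 2, 1⟩)) (.node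 1 (.one ⟨5948, 1, 4⟩) (.one ⟨11731, 0, 5⟩)))) (.node 4 (.node 2 (.node 1 (.one ⟨6203, 0, 4⟩) (.one ⟨2058, 1, 4⟩)) (.node 1 (.one ⟨11328, 0, 4⟩) (.one ⟨14107, 1, 4⟩))) (.node 2 (.node 1 (.one ⟨5711, 1, 5⟩) (.one ⟨14791, 0, 5⟩)) (.node 1 (.one ⟨9804, 1, 2⟩) (.one ⟨675, 1, 5⟩)))))) (.node 16 (.node 8 (.node 4 (.node 2 (.node 1 (.one ⟨2235, 2, 3⟩) (.one ⟨5819, 1, 5⟩)) (.node 1 (.one ⟨818, 1, 3⟩) (.one ⟨5815, 1, 6⟩))) (.node 2 (.node 1 (.one ⟨9665, 2, 5⟩) (.one ⟨14420, 2, 4⟩)) (.node 1 (.one ⟨5818, 1, 5⟩) (.one ⟨6076, 0, 5⟩)))) (.node 4 (.node 2 (.node 1 (.one ⟨9477, 1, 2⟩) (.one ⟨8252, 0, 6⟩)) (.node 1 (.one ⟨36, 1, 2⟩) (.one ⟨606, 1, 1⟩))) (.node 2 (.node 1 (.one ⟨15543, 0, 2⟩) (.one ⟨15835, 0, 6⟩)) (.node 1 (.one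 ⟨9486, 2, 1⟩) (.one ⟨15470, 1, 6⟩))))) (.node 8 (.node 4 (.node 2 (.node 1 (.one ⟨15383, 0, 7⟩) (.one ⟨1765, 1, 5⟩)) (.node 1 (.one ⟨15180, 1, 5⟩) (.one ⟨16725, 1, 5⟩))) (.node 2 (.node 1 (.one ⟨11779, 0, 5⟩) (.one ⟨3833, 2, 6⟩)) (.node 1 (.one ⟨1295, 0, 7⟩) (.one ⟨2544, 2, 5⟩)))) (.node 4 (.node 2 (.node 1 (.one ⟨1331, 0, 6⟩) (.one ⟨8010, 1, 1⟩)) (.node 1 (.one ⟨7396, 0, 6⟩) (.one ⟨15647, 1, 5⟩))) (.node 2 (.node 1 (.one ⟨2546, 2, 5⟩) (.one ⟨232, 1, 2⟩)) (.node 1 (.one ⟨2543, 2, 6⟩) (.one ⟨8865, 1, 3⟩)))))))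
def par8_3_5 : Arr Par :=
  (.node 32 (.node 16 (.node 8 (.node 4 (.node 2 (.node 1 (.one ⟨5713, 2, 5⟩) (.one ⟨15643, 1, 4⟩)) (.node 1 (.one ⟨11353, 2, 7⟩) (.one ⟨9183, 1, 2⟩))) (.node 2 (.node 1 (.one ⟨10344, 2, 3⟩) (.one ⟨3726, 1, 4⟩)) (.node 1 (.one ⟨3365, 1, 5⟩) (.one ⟨4059, 2, 4⟩)))) (.node 4 (.node 2 (.node 1 (.one ⟨7568, 2, 5⟩) (.one ⟨14481, 1, 6⟩)) (.node 1 (.one ⟨4243, 0, 4⟩) (.one ⟨2469, 2, 3⟩))) (.node 2 (.node 1 (.one ⟨9022, 2, 4⟩) (.one ⟨11868, 0, 2⟩)) (.node 1 (.one ⟨8993, 2, 3⟩) (.one ⟨10688, 1, 5⟩))))) (.node 8 (.node 4 (.node 2 (.node 1 (.one ⟨12034, 2, 6⟩) (.one ⟨2619, 1, 4⟩)) (.node 1 (.one ⟨10701, 1, 4⟩) (.one ⟨4505, 1, 7⟩))) (.node 2 (.node 1 (.one ⟨12583, 1, 5⟩) (.one ⟨12581, 1, 4⟩)) (.node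 1 (.one ⟨4501, 1, 2⟩) (.one ⟨16142, 0, 4⟩)))) (.node 4 (.node 2 (.node 1 (.one ⟨9935, 2, 4⟩) (.one ⟨12615, 2, 4⟩)) (.node 1 (.one ⟨10559, 2, 4⟩) (.one ⟨6062, 2, 3⟩))) (.node 2 (.node 1 (.one ⟨13454, 0, 4⟩) (.one ⟨6470, 2, 4⟩)) (.node 1 (.one ⟨8454, 2, 3⟩) (.one ⟨1327, 0, 1⟩)))))) (.node 16 (.node 8 (.node 4 (.node 2 (.node 1 (.one ⟨14628, 1, 7⟩) (.one ⟨14877, 1, 6⟩)) (.node 1 (.one ⟨10422, 1, 4⟩) (.one ⟨1820, 2, 6⟩))) (.node 2 (.node 1 (.one ⟨2782, 0, 4⟩) (.one ⟨8201, 1, 6⟩)) (.node 1 (.one ⟨4887, 1, 4⟩) (.one ⟨4892, 1, 4⟩)))) (.node 4 (.node 2 (.node 1 (.one ⟨332, 1, 6⟩) (.one ⟨2466, 1, 2⟩)) (.node 1 (.one ⟨17096, 2, 4⟩) (.one ⟨13214, 1, 5⟩))) (.node 2 (.node 1 (.one ⟨10416, 1, 6⟩) (.one ⟨17108, 0, 6⟩)) (.node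 1 (.one ⟨12934, 1, 6⟩) (.one ⟨8854, 0, 4⟩))))) (.node 8 (.node 4 (.node 2 (.node 1 (.one ⟨8688, 2, 5⟩) (.one ⟨6369, 1, 4⟩)) (.node 1 (.one ⟨16321, 2, 1⟩) (.one ⟨11683, 0, 4⟩))) (.node 2 (.node 1 (.one ⟨8691, 2, 5⟩) (.one ⟨4793, 1, 4⟩)) (.node 1 (.one ⟨467, 1, 3⟩) (.one ⟨7314, 1, 6⟩)))) (.node 4 (.node 2 (.node 1 (.one ⟨5281, 0, 4⟩) (.one ⟨9775, 1, 5⟩)) (.node 1 (.one ⟨7612, 1, 6⟩) (.one ⟨268, 2, 5⟩))) (.node 2 (.node 1 (.one ⟨11496, 2, 4⟩) (.one ⟨10389, 0, 5⟩)) (.node 1 (.one ⟨3649, 0, 5⟩) (.one ⟨16509, 1, 6⟩)))))))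
def par8_3_6 : Arr Par :=
  (.node 32 (.node 16 (.node 8 (.node 4 (.node 2 (.node 1 (.one ⟨2101, 2, 5⟩) (.one ⟨14314, 1, 5⟩)) (.node 1 (.one ⟨16853, 0, 5⟩) (.one ⟨3808, 1, 2⟩))) (.node 2 (.node 1 (.one ⟨3604, 1, 5⟩) (.one ⟨3454, 1, 6⟩)) (.node 1 (.one ⟨4200, 0, 4⟩) (.one ⟨3242, 0, 5⟩)))) (.node 4 (.node 2 (.node 1 (.one ⟨6072, 2, 4⟩) (.one ⟨360, 1, 4⟩)) (.node 1 (.one ⟨14795, 2, 5⟩) (.one ⟨5776, 1, 4⟩))) (.node 2 (.node 1 (.one ⟨13624, 1, 3⟩) (.one ⟨4806, 2, 2⟩)) (.node 1 (.one ⟨12424, 0, 4⟩) (.one ⟨8017, 2, 3⟩))))) (.node 8 (.node 4 (.node 2 (.node 1 (.one ⟨6525, 2, 4⟩) (.one ⟨5390, 0, 7⟩)) (.node 1 (.one ⟨10064, 2, 5⟩) (.one ⟨2587, 1, 5⟩))) (.node 2 (.node 1 (.one ⟨11295, 0, 7⟩) (.one ⟨6494, 2, 4⟩)) (.node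 1 (.one ⟨3641, 0, 2⟩) (.one ⟨148, 2, 2⟩)))) (.node 4 (.node 2 (.node 1 (.one ⟨10657, 1, 6⟩) (.one ⟨10356, 1, 3⟩)) (.node 1 (.one ⟨15513, 0, 7⟩) (.one ⟨6852, 0, 6⟩))) (.node 2 (.node 1 (.one ⟨7857, 2, 4⟩) (.one ⟨5324, 1, 3⟩)) (.node 1 (.one ⟨8722, 0, 7⟩) (.one ⟨3871, 2, 5⟩)))))) (.node 16 (.node 8 (.node 4 (.node 2 (.node 1 (.one ⟨10931, 2, 5⟩) (.one ⟨2020, 2, 6⟩)) (.node 1 (.one ⟨14967, 1, 3⟩) (.one ⟨10546, 1, 5⟩))) (.node 2 (.node 1 (.one ⟨7066, 2, 6⟩) (.one ⟨14097, 2, 7⟩)) (.node 1 (.one ⟨8697, 2, 5⟩) (.one ⟨5306, 1, 5⟩)))) (.node 4 (.node 2 (.node 1 (.one ⟨8740, 1, 6⟩) (.one ⟨2928, 2, 4⟩)) (.node 1 (.one ⟨4027, 1, 6⟩) (.one ⟨12674, 1, 6⟩))) (.node 2 (.node 1 (.one ⟨16972, 1, 6⟩) (.one ⟨16330, 1, 3⟩)) (.node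 1 (.one ⟨11908, 1, 4⟩) (.one ⟨8894, 0, 4⟩))))) (.node 8 (.node 4 (.node 2 (.node 1 (.one ⟨14591, 2, 5⟩) (.one ⟨12764, 0, 5⟩)) (.node 1 (.one ⟨2221, 1, 5⟩) (.one ⟨2614, 0, 4⟩))) (.node 2 (.node 1 (.one ⟨13816, 1, 3⟩) (.one ⟨16415, 2, 3⟩)) (.node 1 (.one ⟨14522, 1, 4⟩) (.one ⟨6367, 2, 2⟩)))) (.node 4 (.node 2 (.node 1 (.one ⟨2230, 2, 2⟩) (.one ⟨5792, 0, 7⟩)) (.node 1 (.one ⟨8237, 0, 7⟩) (.one ⟨3287, 2, 1⟩))) (.node 2 (.node 1 (.one ⟨7161, 2, 1⟩) (.one ⟨10094, 1, 6⟩)) (.node 1 (.one ⟨6907, 1, 6⟩) (.one ⟨16484, 2, 6⟩)))))))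
def par8_3_7 : Arr Par :=
  (.node 32 (.node 16 (.node 8 (.node 4 (.node 2 (.node 1 (.one ⟨16532, 2, 2⟩) (.one ⟨9422, 1, 3⟩)) (.node 1 (.one ⟨6120, 1, 3⟩) (.one ⟨10082, 1, 5⟩))) (.node 2 (.node 1 (.one ⟨5564, 1, 3⟩) (.one ⟨3995, 2, 2⟩)) (.node 1 (.one ⟨8931, 0, 3⟩) (.one ⟨1973, 2, 3⟩)))) (.node 4 (.node 2 (.node 1 (.one ⟨13095, 2, 4⟩) (.one ⟨624, 1, 5⟩)) (.node 1 (.one ⟨6158, 2, 3⟩) (.one ⟨40, 1, 4⟩))) (.node 2 (.node 1 (.one ⟨6915, 2, 4⟩) (.one ⟨2989, 2, 3⟩)) (.node 1 (.one ⟨11854, 2, 4⟩) (.one ⟨4516, 1, 6⟩))))) (.node 8 (.node 4 (.node 2 (.node 1 (.one ⟨16175, 1, 6⟩) (.one ⟨13108, 2, 7⟩)) (.node 1 (.one ⟨15533, 2, 5⟩) (.one ⟨11647, 0, 5⟩))) (.node 2 (.node 1 (.one ⟨200, 1, 5⟩) (.one ⟨12070, 1, 4⟩)) (.node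 1 (.one ⟨14126, 2, 3⟩) (.one ⟨10709, 2, 4⟩)))) (.node 4 (.node 2 (.node 1 (.one ⟨2575, 1, 6⟩) (.one ⟨4237, 1, 4⟩)) (.node 1 (.one ⟨6976, 2, 6⟩) (.one ⟨12318, 1, 2⟩))) (.node 2 (.node 1 (.one ⟨10579, 1, 6⟩) (.one ⟨12233, 1, 5⟩)) (.node 1 (.one ⟨10624, 1, 5⟩) (.one ⟨11756, 0, 4⟩)))))) (.node 16 (.node 8 (.node 4 (.node 2 (.node 1 (.one ⟨12563, 1, 4⟩) (.one ⟨4054, 1, 5⟩)) (.node 1 (.one ⟨16356, 0, 4⟩) (.one ⟨6205, 0, 4⟩))) (.node 2 (.node 1 (.one ⟨12504, 0, 4⟩) (.one ⟨16087, 0, 5⟩)) (.node 1 (.one ⟨12975, 2, 3⟩) (.one ⟨3902, 1, 5⟩)))) (.node 4 (.node 2 (.node 1 (.one ⟨9102, 1, 6⟩) (.one ⟨11053, 1, 5⟩)) (.node 1 (.one ⟨13651, 1, 2⟩) (.one ⟨15164, 1, 3⟩))) (.node 2 (.node 1 (.one ⟨10726, 2, 4⟩) (.one ⟨11934, 2,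 5⟩)) (.node 1 (.one ⟨3036, 0, 4⟩) (.one ⟨3631, 0, 1⟩))))) (.node 8 (.node 4 (.node 2 (.node 1 (.one ⟨3528, 0, 5⟩) (.one ⟨15446, 0, 4⟩)) (.node 1 (.one ⟨7204, 1, 3⟩) (.one ⟨15921, 1, 4⟩))) (.node 2 (.node 1 (.one ⟨2263, 1, 3⟩) (.one ⟨12138, 2, 3⟩)) (.node 1 (.one ⟨11156, 2, 5⟩) (.one ⟨10684, 0, 4⟩)))) (.node 4 (.node 2 (.node 1 (.one ⟨11775, 0, 4⟩) (.one ⟨10236, 1, 4⟩)) (.node 1 (.one ⟨10254, 1, 5⟩) (.one ⟨15954, 2, 4⟩))) (.node 2 (.node 1 (.one ⟨3845, 1, 2⟩) (.one ⟨5924, 2, 4⟩)) (.node 1 (.one ⟨2121, 1, 4⟩) (.one ⟨12206, 0, 6⟩)))))))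
def par8_3_8 : Arr Par :=
  (.node 32 (.node 16 (.node 8 (.node 4 (.node 2 (.node 1 (.one ⟨2265, 0, 3⟩) (.one ⟨8659, 1, 7⟩)) (.node 1 (.one ⟨11940, 0, 6⟩) (.one ⟨2931, 2, 5⟩))) (.node 2 (.node 1 (.one ⟨8026, 0, 5⟩) (.one ⟨15782, 1, 3⟩)) (.node 1 (.one ⟨13716, 2, 5⟩) (.one ⟨7361, 0, 4⟩)))) (.node 4 (.node 2 (.node 1 (.one ⟨13449, 0, 3⟩) (.one ⟨16687, 2, 2⟩)) (.node 1 (.one ⟨16168, 0, 6⟩) (.one ⟨9772, 1, 7⟩))) (.node 2 (.node 1 (.one ⟨16694, 2, 6⟩) (.one ⟨8331, 2, 6⟩)) (.node 1 (.one ⟨12075, 1, 5⟩) (.one ⟨13940, 2, 4⟩))))) (.node 8 (.node 4 (.node 2 (.node 1 (.one ⟨162, 0, 3⟩) (.one ⟨572, 0, 2⟩)) (.node 1 (.one ⟨10983, 2, 3⟩) (.one ⟨16113, 0, 5⟩))) (.node 2 (.node 1 (.one ⟨970, 0, 4⟩) (.one ⟨800, 0, 2⟩)) (.node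 1 (.one ⟨7046, 2, 5⟩) (.one ⟨15389, 0, 4⟩)))) (.node 4 (.node 2 (.node 1 (.one ⟨5263, 2, 6⟩) (.one ⟨1229, 2, 6⟩)) (.node 1 (.one ⟨11283, 2, 4⟩) (.one ⟨4377, 2, 3⟩))) (.node 2 (.node 1 (.one ⟨6817, 0, 4⟩) (.one ⟨10771, 2, 3⟩)) (.node 1 (.one ⟨6825, 1, 3⟩) (.one ⟨564, 1, 2⟩)))))) (.node 16 (.node 8 (.node 4 (.node 2 (.node 1 (.one ⟨15167, 2, 5⟩) (.one ⟨9923, 1, 4⟩)) (.node 1 (.one ⟨16288, 2, 6⟩) (.one ⟨49, 1, 6⟩))) (.node 2 (.node 1 (.one ⟨4910, 2, 2⟩) (.one ⟨12883, 2, 5⟩)) (.node 1 (.one ⟨2795, 0, 5⟩) (.one ⟨997, 1, 2⟩)))) (.node 4 (.node 2 (.node 1 (.one ⟨7024, 1, 5⟩) (.one ⟨13384, 0, 5⟩)) (.node 1 (.one ⟨12222, 1, 3⟩) (.one ⟨10110, 0, 3⟩))) (.node 2 (.node 1 (.one ⟨10533, 2, 5⟩) (.one ⟨9727, 1, 3⟩)) (.node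 1 (.one ⟨15069, 1, 6⟩) (.one ⟨4676, 1, 0⟩))))) (.node 8 (.node 4 (.node 2 (.node 1 (.one ⟨12970, 1, 4⟩) (.one ⟨16483, 2, 4⟩)) (.node 1 (.one ⟨4394, 1, 0⟩) (.one ⟨12282, 2, 6⟩))) (.node 2 (.node 1 (.one ⟨16890, 1, 2⟩) (.one ⟨7528, 2, 5⟩)) (.node 1 (.one ⟨11388, 0, 6⟩) (.one ⟨10600, 2, 4⟩)))) (.node 4 (.node 2 (.node 1 (.one ⟨4866, 1, 5⟩) (.one ⟨1527, 2, 1⟩)) (.node 1 (.one ⟨1342, 1, 4⟩) (.one ⟨11472, 1, 5⟩))) (.node 2 (.node 1 (.one ⟨7684, 2, 4⟩) (.one ⟨12380, 1, 4⟩)) (.node 1 (.one ⟨9742, 1, 7⟩) (.one ⟨5776, 0, 4⟩)))))))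
def par8_3_9 : Arr Par :=
  (.node 32 (.node 16 (.node 8 (.node 4 (.node 2 (.node 1 (.one ⟨10363, 0, 5⟩) (.one ⟨16248, 2, 4⟩)) (.node 1 (.one ⟨16678, 1, 3⟩) (.one ⟨7795, 2, 4⟩))) (.node 2 (.node 1 (.one ⟨13135, 2, 6⟩) (.one ⟨8515, 1, 5⟩)) (.node 1 (.one ⟨16057, 0, 6⟩) (.one ⟨47, 2, 3⟩)))) (.node 4 (.node 2 (.node 1 (.one ⟨10179, 2, 3⟩) (.one ⟨14731, 2, 5⟩)) (.node 1 (.one ⟨6978, 2, 4⟩) (.one ⟨8654, 1, 7⟩))) (.node 2 (.node 1 (.one ⟨8704, 1, 3⟩) (.one ⟨3892, 1, 6⟩)) (.node 1 (.one ⟨3952, 1, 3⟩) (.one ⟨1513, 0, 6⟩))))) (.node 8 (.node 4 (.node 2 (.node 1 (.one ⟨12968, 1, 6⟩) (.one ⟨2409, 0, 7⟩)) (.node 1 (.one ⟨7957, 1, 6⟩) (.one ⟨12321, 0, 7⟩))) (.node 2 (.node 1 (.one ⟨2194, 1, 6⟩) (.one ⟨2568, 2, 2⟩)) (.node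 1 (.one ⟨4049, 2, 1⟩) (.one ⟨10739, 1, 3⟩)))) (.node 4 (.node 2 (.node 1 (.one ⟨9744, 0, 4⟩) (.one ⟨14279, 1, 2⟩)) (.node 1 (.one ⟨9532, 2, 5⟩) (.one ⟨6651, 2, 2⟩))) (.node 2 (.node 1 (.one ⟨3854, 1, 3⟩) (.one ⟨8262, 1, 7⟩)) (.node 1 (.one ⟨7699, 1, 5⟩) (.one ⟨5706, 0, 5⟩)))))) (.node 16 (.node 8 (.node 4 (.node 2 (.node 1 (.one ⟨5058, 0, 4⟩) (.one ⟨3872, 1, 5⟩)) (.node 1 (.one ⟨14764, 1, 3⟩) (.one ⟨8899, 0, 5⟩))) (.node 2 (.node 1 (.one ⟨973, 0, 5⟩) (.one ⟨15718, 0, 6⟩)) (.node 1 (.one ⟨11403, 0, 6⟩) (.one ⟨3721, 0, 4⟩)))) (.node 4 (.node 2 (.node 1 (.one ⟨11396, 1, 7⟩) (.one ⟨14243, 1, 7⟩)) (.node 1 (.one ⟨3733, 1, 5⟩) (.one ⟨16253, 2, 4⟩))) (.node 2 (.node 1 (.one ⟨7814, 1, 2⟩) (.one ⟨13069, 2, 5⟩)) (.node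 1 (.one ⟨2993, 0, 4⟩) (.one ⟨15631, 2, 5⟩))))) (.node 8 (.node 4 (.node 2 (.node 1 (.one ⟨12946, 1, 4⟩) (.one ⟨12930, 1, 5⟩)) (.node 1 (.one ⟨13829, 2, 4⟩) (.one ⟨327, 1, 4⟩))) (.node 2 (.node 1 (.one ⟨10242, 1, 4⟩) (.one ⟨2453, 0, 4⟩)) (.node 1 (.one ⟨3502, 2, 5⟩) (.one ⟨1177, 2, 5⟩)))) (.node 4 (.node 2 (.node 1 (.one ⟨15499, 1, 6⟩) (.one ⟨9630, 1, 3⟩)) (.node 1 (.one ⟨14001, 1, 6⟩) (.one ⟨15577, 1, 5⟩))) (.node 2 (.node 1 (.one ⟨16137, 2, 7⟩) (.one ⟨16131, 2, 3⟩)) (.node 1 (.one ⟨8097, 2, 4⟩) (.one ⟨11539, 1, 5⟩)))))))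
def par8_3_10 : Arr Par :=
  (.node 32 (.node 16 (.node 8 (.node 4 (.node 2 (.node 1 (.one ⟨2330, 2, 3⟩) (.one ⟨524, 2, 3⟩)) (.node 1 (.one ⟨3797, 2, 4⟩) (.one ⟨3257, 1, 6⟩))) (.node 2 (.node 1 (.one ⟨12233, 2, 5⟩) (.one ⟨15579, 1, 5⟩)) (.node 1 (.one ⟨13871, 1, 5⟩) (.one ⟨7084, 2, 5⟩)))) (.node 4 (.node 2 (.node 1 (.one ⟨15375, 1, 5⟩) (.one ⟨14901, 2, 3⟩)) (.node 1 (.one ⟨9898, 2, 5⟩) (.one ⟨659, 1, 5⟩))) (.node 2 (.node 1 (.one ⟨15066, 1, 4⟩) (.one ⟨5646, 2, 5⟩)) (.node 1 (.one ⟨7859, 0, 3⟩) (.one ⟨9459, 2, 5⟩))))) (.node 8 (.node 4 (.node 2 (.node 1 (.one ⟨15553, 2, 4⟩) (.one ⟨4573, 1, 0⟩)) (.node 1 (.one ⟨5296, 1, 4⟩) (.one ⟨8780, 2, 3⟩))) (.node 2 (.node 1 (.one ⟨3682, 2, 4⟩) (.one ⟨14424, 0, 4⟩)) (.node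 1 (.one ⟨7530, 2, 6⟩) (.one ⟨2874, 2, 4⟩)))) (.node 4 (.node 2 (.node 1 (.one ⟨2762, 1, 4⟩) (.one ⟨5272, 2, 4⟩)) (.node 1 (.one ⟨15411, 1, 5⟩) (.one ⟨8778, 2, 3⟩))) (.node 2 (.node 1 (.one ⟨5925, 2, 4⟩) (.one ⟨5684, 1, 4⟩)) (.node 1 (.one ⟨14310, 1, 5⟩) (.one ⟨14052, 1, 3⟩)))))) (.node 16 (.node 8 (.node 4 (.node 2 (.node 1 (.one ⟨9827, 2, 4⟩) (.one ⟨9530, 1, 2⟩)) (.node 1 (.one ⟨9862, 2, 4⟩) (.one ⟨12449, 2, 4⟩))) (.node 2 (.node 1 (.one ⟨9212, 2, 4⟩) (.one ⟨12249, 2, 1⟩)) (.node 1 (.one ⟨2057, 0, 7⟩) (.one ⟨1104, 1, 2⟩)))) (.node 4 (.node 2 (.node 1 (.one ⟨9931, 1, 2⟩) (.one ⟨17039, 2, 4⟩)) (.node 1 (.one ⟨13227, 2, 4⟩) (.one ⟨15581, 1, 3⟩))) (.node 2 (.node 1 (.one ⟨7200, 1, 2⟩) (.one ⟨12943, 2, 4⟩)) (.node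 1 (.one ⟨16556, 2, 6⟩) (.one ⟨4698, 1, 0⟩))))) (.node 8 (.node 4 (.node 2 (.node 1 (.one ⟨14079, 2, 6⟩) (.one ⟨894, 1, 5⟩)) (.node 1 (.one ⟨8733, 1, 4⟩) (.one ⟨4389, 1, 0⟩))) (.node 2 (.node 1 (.one ⟨5023, 1, 5⟩) (.one ⟨14011, 1, 4⟩)) (.node 1 (.one ⟨12882, 1, 4⟩) (.one ⟨3956, 1, 1⟩)))) (.node 4 (.node 2 (.node 1 (.one ⟨9569, 0, 4⟩) (.one ⟨12101, 2, 6⟩)) (.node 1 (.one ⟨4610, 1, 3⟩) (.one ⟨7887, 0, 5⟩))) (.node 2 (.node 1 (.one ⟨12095, 2, 6⟩) (.one ⟨174, 0, 6⟩)) (.node 1 (.one ⟨14473, 1, 3⟩) (.one ⟨8492, 1, 2⟩)))))))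
def par8_3_11 : Arr Par :=
  (.node 32 (.node 16 (.node 8 (.node 4 (.node 2 (.node 1 (.one ⟨16494, 1, 5⟩) (.one ⟨14012, 2, 4⟩)) (.node 1 (.one ⟨12945, 2, 4⟩) (.one ⟨12385, 1, 3⟩))) (.node 2 (.node 1 (.one ⟨4184, 1, 3⟩) (.one ⟨16729, 0, 2⟩)) (.node 1 (.one ⟨17041, 2, 5⟩) (.one ⟨14131, 1, 3⟩)))) (.node 4 (.node 2 (.node 1 (.one ⟨10044, 2, 5⟩) (.one ⟨12700, 0, 4⟩)) (.node 1 (.one ⟨3141, 2, 6⟩) (.one ⟨9032, 0, 4⟩))) (.node 2 (.node 1 (.one ⟨16758, 1, 3⟩) (.one ⟨1432, 0, 6⟩)) (.node 1 (.one ⟨7874, 1, 4⟩) (.one ⟨4282, 2, 4⟩))))) (.node 8 (.node 4 (.node 2 (.node 1 (.one ⟨6625, 1, 5⟩) (.one ⟨14667, 1, 4⟩)) (.node 1 (.one ⟨4222, 2, 6⟩) (.one ⟨6589, 1, 4⟩))) (.node 2 (.node 1 (.one ⟨8487, 1, 5⟩) (.one ⟨11891, 0, 3⟩))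 (.node 1 (.one ⟨10050, 2, 5⟩) (.one ⟨13183, 2, 6⟩)))) (.node 4 (.node 2 (.node 1 (.one ⟨10772, 1, 4⟩) (.one ⟨8769, 2, 4⟩)) (.node 1 (.one ⟨13705, 2, 4⟩) (.one ⟨6027, 1, 6⟩))) (.node 2 (.node 1 (.one ⟨14444, 1, 2⟩) (.one ⟨8441, 2, 6⟩)) (.node 1 (.one ⟨5897, 0, 2⟩) (.one ⟨12716, 2, 4⟩)))))) (.node 16 (.node 8 (.node 4 (.node 2 (.node 1 (.one ⟨9528, 0, 1⟩) (.one ⟨3691, 0, 5⟩)) (.node 1 (.one ⟨6282, 2, 4⟩) (.one ⟨3576, 2, 5⟩))) (.node 2 (.node 1 (.one ⟨6540, 1, 6⟩) (.one ⟨8562, 1, 4⟩)) (.node 1 (.one ⟨352, 1, 6⟩) (.one ⟨1431, 0, 1⟩)))) (.node 4 (.node 2 (.node 1 (.one ⟨2522, 1, 4⟩) (.one ⟨6351, 1, 4⟩)) (.node 1 (.one ⟨9441, 2, 3⟩) (.one ⟨4295, 1, 5⟩))) (.node 2 (.node 1 (.one ⟨12478, 2, 6⟩) (.one ⟨16662, 1, 4⟩))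 (.node 1 (.one ⟨8169, 1, 1⟩) (.one ⟨2318, 1, 4⟩))))) (.node 8 (.node 4 (.node 2 (.node 1 (.one ⟨6453, 1, 3⟩) (.one ⟨8494, 1, 5⟩)) (.node 1 (.one ⟨4947, 1, 6⟩) (.one ⟨14110, 1, 6⟩))) (.node 2 (.node 1 (.one ⟨9526, 0, 3⟩) (.one ⟨3102, 0, 5⟩)) (.node 1 (.one ⟨16834, 1, 6⟩) (.one ⟨5092, 2, 5⟩)))) (.node 4 (.node 2 (.node 1 (.one ⟨8322, 0, 5⟩) (.one ⟨13440, 1, 5⟩)) (.node 1 (.one ⟨13638, 1, 6⟩) (.one ⟨9133, 1, 5⟩))) (.node 2 (.node 1 (.one ⟨55, 1, 3⟩) (.one ⟨8798, 1, 6⟩)) (.node 1 (.one ⟨10441, 2, 7⟩) (.one ⟨4251, 0, 6⟩)))))))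
def par8_3_12 : Arr Par :=
  (.node 32 (.node 16 (.node 8 (.node 4 (.node 2 (.node 1 (.one ⟨3420, 1, 5⟩) (.one ⟨655, 1, 4⟩)) (.node 1 (.one ⟨17133, 1, 5⟩) (.one ⟨9371, 0, 5⟩))) (.node 2 (.node 1 (.one ⟨13484, 2, 5⟩) (.one ⟨3874, 0, 1⟩)) (.node 1 (.one ⟨12248, 0, 5⟩) (.one ⟨16664, 1, 2⟩)))) (.node 4 (.node 2 (.node 1 (.one ⟨3879, 0, 4⟩) (.one ⟨1554, 1, 1⟩)) (.node 1 (.one ⟨6385, 2, 4⟩) (.one ⟨10733, 1, 6⟩))) (.node 2 (.node 1 (.one ⟨14429, 2, 6⟩) (.one ⟨3883, 0, 4⟩)) (.node 1 (.one ⟨8893, 1, 2⟩) (.one ⟨9522, 0, 4⟩))))) (.node 8 (.node 4 (.node 2 (.node 1 (.one ⟨11596, 1, 4⟩) (.one ⟨9762, 1, 4⟩)) (.node 1 (.one ⟨16969, 1, 1⟩) (.one ⟨96, 1, 5⟩))) (.node 2 (.node 1 (.one ⟨11529, 2, 5⟩) (.one ⟨7109, 1, 4⟩)) (.node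 1 (.one ⟨3614, 1, 4⟩) (.one ⟨11157, 2, 4⟩)))) (.node 4 (.node 2 (.node 1 (.one ⟨7090, 2, 7⟩) (.one ⟨13195, 1, 4⟩)) (.node 1 (.one ⟨13515, 1, 1⟩) (.one ⟨13759, 1, 5⟩))) (.node 2 (.node 1 (.one ⟨14010, 1, 5⟩) (.one ⟨3194, 0, 2⟩)) (.node 1 (.one ⟨6718, 0, 6⟩) (.one ⟨4233, 1, 4⟩)))))) (.node 16 (.node 8 (.node 4 (.node 2 (.node 1 (.one ⟨2419, 0, 4⟩) (.one ⟨13408, 1, 6⟩)) (.node 1 (.one ⟨4558, 1, 0⟩) (.one ⟨11846, 0, 4⟩))) (.node 2 (.node 1 (.one ⟨8489, 1, 5⟩) (.one ⟨2321, 1, 4⟩)) (.node 1 (.one ⟨15665, 1, 3⟩) (.one ⟨12742, 2, 3⟩)))) (.node 4 (.node 2 (.node 1 (.one ⟨8969, 1, 7⟩) (.one ⟨9605, 2, 1⟩)) (.node 1 (.one ⟨17065, 1, 2⟩) (.one ⟨3605, 2, 3⟩))) (.node 2 (.node 1 (.one ⟨3850, 0, 5⟩) (.one ⟨293, 0, 1⟩)) (.node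 1 (.one ⟨3271, 2, 5⟩) (.one ⟨8959, 2, 3⟩))))) (.node 8 (.node 4 (.node 2 (.node 1 (.one ⟨3041, 2, 6⟩) (.one ⟨2184, 1, 4⟩)) (.node 1 (.one ⟨6547, 1, 4⟩) (.one ⟨6334, 1, 4⟩))) (.node 2 (.node 1 (.one ⟨3930, 0, 5⟩) (.one ⟨10017, 0, 4⟩)) (.node 1 (.one ⟨14542, 1, 4⟩) (.one ⟨8272, 0, 4⟩)))) (.node 4 (.node 2 (.node 1 (.one ⟨3481, 2, 4⟩) (.one ⟨1489, 0, 1⟩)) (.node 1 (.one ⟨7994, 0, 3⟩) (.one ⟨665, 0, 4⟩))) (.node 2 (.node 1 (.one ⟨7239, 2, 6⟩) (.one ⟨7909, 1, 4⟩)) (.node 1 (.one ⟨2422, 0, 4⟩) (.one ⟨4541, 2, 5⟩)))))))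
def par8_3_13 : Arr Par :=
  (.node 32 (.node 16 (.node 8 (.node 4 (.node 2 (.node 1 (.one ⟨13192, 2, 4⟩) (.one ⟨16742, 0, 3⟩)) (.node 1 (.one ⟨1184, 1, 6⟩) (.one ⟨11311, 0, 3⟩))) (.node 2 (.node 1 (.one ⟨4379, 2, 5⟩) (.one ⟨16863, 2, 2⟩)) (.node 1 (.one ⟨8436, 2, 4⟩) (.one ⟨748, 1, 6⟩)))) (.node 4 (.node 2 (.node 1 (.one ⟨16881, 2, 4⟩) (.one ⟨8070, 2, 3⟩)) (.node 1 (.one ⟨4497, 2, 5⟩) (.one ⟨12388, 2, 6⟩))) (.node 2 (.node 1 (.one ⟨16006, 2, 3⟩) (.one ⟨15053, 1, 7⟩)) (.node 1 (.one ⟨4828, 2, 3⟩) (.one ⟨16536, 2, 6⟩))))) (.node 8 (.node 4 (.node 2 (.node 1 (.one ⟨4600, 1, 2⟩) (.one ⟨15122, 0, 5⟩)) (.node 1 (.one ⟨11923, 2, 4⟩) (.one ⟨4950, 1, 6⟩))) (.node 2 (.node 1 (.one ⟨8296, 0, 7⟩) (.one ⟨703, 0, 5⟩)) (.node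 1 (.one ⟨13309, 0, 6⟩) (.one ⟨16569, 0, 4⟩)))) (.node 4 (.node 2 (.node 1 (.one ⟨1168, 0, 1⟩) (.one ⟨6377, 1, 3⟩)) (.node 1 (.one ⟨8755, 2, 4⟩) (.one ⟨12267, 0, 1⟩))) (.node 2 (.node 1 (.one ⟨7109, 0, 4⟩) (.one ⟨16516, 2, 4⟩)) (.node 1 (.one ⟨12851, 2, 5⟩) (.one ⟨15329, 1, 5⟩)))))) (.node 16 (.node 8 (.node 4 (.node 2 (.node 1 (.one ⟨13411, 2, 1⟩) (.one ⟨3915, 0, 7⟩)) (.node 1 (.one ⟨12494, 1, 4⟩) (.one ⟨104, 2, 4⟩))) (.node 2 (.node 1 (.one ⟨8689, 1, 6⟩) (.one ⟨1032, 1, 3⟩)) (.node 1 (.one ⟨13144, 2, 5⟩) (.one ⟨5170, 1, 6⟩)))) (.node 4 (.node 2 (.node 1 (.one ⟨945, 2, 3⟩) (.one ⟨16172, 1, 5⟩)) (.node 1 (.one ⟨16518, 1, 5⟩) (.one ⟨3526, 2, 4⟩))) (.node 2 (.node 1 (.one ⟨8275, 0, 3⟩) (.one ⟨3797, 1, 4⟩)) (.node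 1 (.one ⟨4646, 1, 3⟩) (.one ⟨13429, 2, 6⟩))))) (.node 8 (.node 4 (.node 2 (.node 1 (.one ⟨10289, 2, 2⟩) (.one ⟨15923, 1, 4⟩)) (.node 1 (.one ⟨2249, 1, 7⟩) (.one ⟨16755, 1, 4⟩))) (.node 2 (.node 1 (.one ⟨4515, 1, 0⟩) (.one ⟨10160, 1, 4⟩)) (.node 1 (.one ⟨13336, 2, 5⟩) (.one ⟨8336, 0, 5⟩)))) (.node 4 (.node 2 (.node 1 (.one ⟨10722, 2, 4⟩) (.one ⟨8068, 2, 4⟩)) (.node 1 (.one ⟨191, 0, 4⟩) (.one ⟨14646, 1, 6⟩))) (.node 2 (.node 1 (.one ⟨8339, 0, 5⟩) (.one ⟨355, 0, 2⟩)) (.node 1 (.one ⟨224, 0, 2⟩) (.one ⟨13771, 0, 6⟩)))))))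
def par8_3_14 : Arr Par :=
  (.node 32 (.node 16 (.node 8 (.node 4 (.node 2 (.node 1 (.one ⟨9624, 0, 7⟩) (.one ⟨8273, 1, 5⟩)) (.node 1 (.one ⟨10026, 2, 5⟩) (.one ⟨4055, 1, 4⟩))) (.node 2 (.node 1 (.one ⟨12511, 0, 5⟩) (.one ⟨16827, 2, 5⟩)) (.node 1 (.one ⟨1398, 2, 5⟩) (.one ⟨13795, 1, 5⟩)))) (.node 4 (.node 2 (.node 1 (.one ⟨11776, 1, 5⟩) (.one ⟨874, 0, 4⟩)) (.node 1 (.one ⟨7649, 1, 5⟩) (.one ⟨3534, 1, 5⟩))) (.node 2 (.node 1 (.one ⟨2695, 2, 2⟩) (.one ⟨1318, 2, 4⟩)) (.node 1 (.one ⟨9549, 1, 5⟩) (.one ⟨3199, 2, 6⟩))))) (.node 8 (.node 4 (.node 2 (.node 1 (.one ⟨12090, 2, 6⟩) (.one ⟨8698, 2, 5⟩)) (.node 1 (.one ⟨14049, 2, 6⟩) (.one ⟨16497, 2, 5⟩))) (.node 2 (.node 1 (.one ⟨5853, 2, 2⟩) (.one ⟨2244, 1, 5⟩)) (.node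 1 (.one ⟨635, 0, 3⟩) (.one ⟨9622, 0, 3⟩)))) (.node 4 (.node 2 (.node 1 (.one ⟨424, 2, 7⟩) (.one ⟨5344, 1, 7⟩)) (.node 1 (.one ⟨6818, 2, 2⟩) (.one ⟨14827, 0, 1⟩))) (.node 2 (.node 1 (.one ⟨14653, 1, 5⟩) (.one ⟨8406, 2, 6⟩)) (.node 1 (.one ⟨5069, 2, 6⟩) (.one ⟨10040, 2, 5⟩)))))) (.node 16 (.node 8 (.node 4 (.node 2 (.node 1 (.one ⟨15660, 1, 2⟩) (.one ⟨13290, 2, 4⟩)) (.node 1 (.one ⟨5504, 2, 6⟩) (.one ⟨10100, 1, 3⟩))) (.node 2 (.node 1 (.one ⟨6900, 1, 3⟩) (.one ⟨7472, 0, 2⟩)) (.node 1 (.one ⟨2340, 1, 2⟩) (.one ⟨1322, 2, 5⟩)))) (.node 4 (.node 2 (.node 1 (.one ⟨12596, 1, 2⟩) (.one ⟨12028, 0, 7⟩)) (.node 1 (.one ⟨666, 1, 3⟩) (.one ⟨3224, 1, 3⟩))) (.node 2 (.node 1 (.one ⟨14748, 1, 5⟩) (.one ⟨12055, 1, 3⟩)) (.node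 1 (.one ⟨578, 2, 2⟩) (.one ⟨9264, 2, 4⟩))))) (.node 8 (.node 4 (.node 2 (.node 1 (.one ⟨7914, 2, 4⟩) (.one ⟨6965, 0, 4⟩)) (.node 1 (.one ⟨15785, 1, 5⟩) (.one ⟨15729, 1, 5⟩))) (.node 2 (.node 1 (.one ⟨11869, 2, 6⟩) (.one ⟨15756, 1, 2⟩)) (.node 1 (.one ⟨7684, 1, 4⟩) (.one ⟨3785, 2, 5⟩)))) (.node 4 (.node 2 (.node 1 (.one ⟨13158, 2, 6⟩) (.one ⟨13061, 2, 6⟩)) (.node 1 (.one ⟨4098, 2, 5⟩) (.one ⟨10977, 2, 5⟩))) (.node 2 (.node 1 (.one ⟨2380, 2, 5⟩) (.one ⟨2180, 2, 5⟩)) (.node 1 (.one ⟨14715, 1, 5⟩) (.one ⟨4467, 0, 6⟩)))))))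
def par8_3_15 : Arr Par :=
  (.node 32 (.node 16 (.node 8 (.node 4 (.node 2 (.node 1 (.one ⟨14792, 1, 5⟩) (.one ⟨7254, 2, 6⟩)) (.node 1 (.one ⟨16463, 0, 3⟩) (.one ⟨7248, 2, 6⟩))) (.node 2 (.node 1 (.one ⟨13765, 2, 3⟩) (.one ⟨7250, 2, 6⟩)) (.node 1 (.one ⟨13763, 2, 3⟩) (.one ⟨4959, 2, 4⟩)))) (.node 4 (.node 2 (.node 1 (.one ⟨15415, 2, 5⟩) (.one ⟨13151, 1, 2⟩)) (.node 1 (.one ⟨7153, 1, 5⟩) (.one ⟨7247, 1, 5⟩))) (.node 2 (.node 1 (.one ⟨13169, 1, 4⟩) (.one ⟨15760, 1, 3⟩)) (.node 1 (.one ⟨12410, 2, 4⟩) (.one ⟨998, 0, 4⟩))))) (.node 8 (.node 4 (.node 2 (.node 1 (.one ⟨4445, 1, 0⟩) (.one ⟨4825, 1, 0⟩)) (.node 1 (.one ⟨11844, 0, 3⟩) (.one ⟨2912, 2, 3⟩))) (.node 2 (.node 1 (.one ⟨9544, 2, 4⟩) (.one ⟨12631, 1, 4⟩))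 (.node 1 (.one ⟨14426, 0, 4⟩) (.one ⟨4333, 0, 3⟩)))) (.node 4 (.node 2 (.node 1 (.one ⟨14372, 1, 5⟩) (.one ⟨16905, 1, 7⟩)) (.node 1 (.one ⟨11945, 1, 6⟩) (.one ⟨16224, 0, 3⟩))) (.node 2 (.node 1 (.one ⟨6523, 1, 7⟩) (.one ⟨3648, 2, 6⟩)) (.node 1 (.one ⟨11578, 0, 3⟩) (.one ⟨15554, 1, 2⟩)))))) (.node 16 (.node 8 (.node 4 (.node 2 (.node 1 (.one ⟨6382, 1, 5⟩) (.one ⟨8931, 1, 3⟩)) (.node 1 (.one ⟨6912, 2, 6⟩) (.one ⟨13537, 2, 5⟩))) (.node 2 (.node 1 (.one ⟨11890, 1, 2⟩) (.one ⟨12173, 0, 3⟩)) (.node 1 (.one ⟨12170, 0, 6⟩) (.one ⟨6493, 0, 5⟩)))) (.node 4 (.node 2 (.node 1 (.one ⟨8488, 2, 5⟩) (.one ⟨13196, 1, 1⟩)) (.node 1 (.one ⟨11605, 1, 4⟩) (.one ⟨11889, 1, 3⟩))) (.node 2 (.node 1 (.one ⟨13415, 1, 1⟩) (.one ⟨4785,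 2, 4⟩)) (.node 1 (.one ⟨12128, 1, 1⟩) (.one ⟨16500, 2, 2⟩))))) (.node 8 (.node 4 (.node 2 (.node 1 (.one ⟨8259, 1, 6⟩) (.one ⟨4706, 1, 3⟩)) (.node 1 (.one ⟨15882, 2, 5⟩) (.one ⟨16798, 0, 4⟩))) (.node 2 (.node 1 (.one ⟨3994, 1, 3⟩) (.one ⟨8605, 1, 2⟩)) (.node 1 (.one ⟨1944, 2, 5⟩) (.one ⟨15960, 0, 5⟩)))) (.node 4 (.node 2 (.node 1 (.one ⟨13046, 2, 4⟩) (.one ⟨3737, 1, 5⟩)) (.node 1 (.one ⟨2167, 1, 1⟩) (.one ⟨13041, 2, 4⟩))) (.node 2 (.node 1 (.one ⟨13044, 2, 5⟩) (.one ⟨13040, 2, 5⟩)) (.node 1 (.one ⟨13045, 2, 4⟩) (.one ⟨3515, 1, 2⟩)))))))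
def par8_3 : Arr Par :=
  (.node 512 (.node 256 (.node 128 (.node 64 par8_3_0 par8_3_1) (.node 64 par8_3_2 par8_3_3)) (.node 128 (.node 64 par8_3_4 par8_3_5) (.node 64 par8_3_6 par8_3_7))) (.node 256 (.node 128 (.node 64 par8_3_8 par8_3_9) (.node 64 par8_3_10 par8_3_11)) (.node 128 (.node 64 par8_3_12 par8_3_13) (.node 64 par8_3_14 par8_3_15))))
def par8_4_0 : Arr Par :=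
  (.node 32 (.node 16 (.node 8 (.node 4 (.node 2 (.node 1 (.one ⟨12135, 0, 1⟩) (.one ⟨8286, 2, 4⟩)) (.node 1 (.one ⟨11740, 1, 4⟩) (.one ⟨937, 1, 2⟩))) (.node 2 (.node 1 (.one ⟨8880, 0, 4⟩) (.one ⟨13963, 2, 6⟩)) (.node 1 (.one ⟨10102, 1, 3⟩) (.one ⟨14443, 1, 4⟩)))) (.node 4 (.node 2 (.node 1 (.one ⟨9010, 2, 5⟩) (.one ⟨6746, 2, 6⟩)) (.node 1 (.one ⟨3661, 2, 7⟩) (.one ⟨8528, 2, 4⟩))) (.node 2 (.node 1 (.one ⟨1740, 2, 5⟩) (.one ⟨4172, 2, 4⟩)) (.node 1 (.one ⟨5022, 0, 4⟩) (.one ⟨13197, 1, 6⟩))))) (.node 8 (.node 4 (.node 2 (.node 1 (.one ⟨559, 1, 6⟩) (.one ⟨5656, 0, 6⟩)) (.node 1 (.one ⟨5121, 1, 6⟩) (.one ⟨9485, 2, 3⟩))) (.node 2 (.node 1 (.one ⟨7135, 1, 5⟩) (.one ⟨15184, 1, 6⟩)) (.node 1 (.one ⟨7678, 1, 6⟩) (.one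 ⟨9518, 1, 6⟩)))) (.node 4 (.node 2 (.node 1 (.one ⟨5387, 1, 6⟩) (.one ⟨2840, 2, 5⟩)) (.node 1 (.one ⟨11511, 1, 6⟩) (.one ⟨11386, 2, 5⟩))) (.node 2 (.node 1 (.one ⟨11606, 1, 6⟩) (.one ⟨13420, 1, 5⟩)) (.node 1 (.one ⟨357, 1, 4⟩) (.one ⟨3469, 0, 3⟩)))))) (.node 16 (.node 8 (.node 4 (.node 2 (.node 1 (.one ⟨17092, 1, 4⟩) (.one ⟨5876, 0, 6⟩)) (.node 1 (.one ⟨10293, 2, 5⟩) (.one ⟨4368, 1, 0⟩))) (.node 2 (.node 1 (.one ⟨14719, 2, 5⟩) (.one ⟨11456, 1, 4⟩)) (.node 1 (.one ⟨14244, 1, 6⟩) (.one ⟨3713, 0, 4⟩)))) (.node 4 (.node 2 (.node 1 (.one ⟨17090, 1, 6⟩) (.one ⟨1185, 1, 5⟩)) (.node 1 (.one ⟨15337, 1, 5⟩) (.one ⟨12901, 2, 5⟩))) (.node 2 (.node 1 (.one ⟨5882, 1, 5⟩) (.one ⟨888, 0, 4⟩)) (.node 1 (.one ⟨8025, 1, 5⟩) (.one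 ⟨5682, 2, 5⟩))))) (.node 8 (.node 4 (.node 2 (.node 1 (.one ⟨5976, 0, 5⟩) (.one ⟨1011, 1, 4⟩)) (.node 1 (.one ⟨13928, 2, 6⟩) (.one ⟨9913, 0, 5⟩))) (.node 2 (.node 1 (.one ⟨1737, 2, 6⟩) (.one ⟨9841, 2, 6⟩)) (.node 1 (.one ⟨1722, 0, 4⟩) (.one ⟨10994, 2, 3⟩)))) (.node 4 (.node 2 (.node 1 (.one ⟨13857, 2, 3⟩) (.one ⟨1675, 2, 4⟩)) (.node 1 (.one ⟨6987, 2, 4⟩) (.one ⟨6200, 1, 4⟩))) (.node 2 (.node 1 (.one ⟨7036, 2, 3⟩) (.one ⟨15532, 1, 7⟩)) (.node 1 (.one ⟨13961, 2, 4⟩) (.one ⟨11923, 1, 4⟩)))))))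
def par8_4_1 : Arr Par :=
  (.node 32 (.node 16 (.node 8 (.node 4 (.node 2 (.node 1 (.one ⟨9106, 0, 5⟩) (.one ⟨8914, 1, 3⟩)) (.node 1 (.one ⟨14393, 1, 4⟩) (.one ⟨2912, 1, 3⟩))) (.node 2 (.node 1 (.one ⟨11721, 1, 5⟩) (.one ⟨14328, 1, 6⟩)) (.node 1 (.one ⟨8775, 1, 6⟩) (.one ⟨797, 2, 3⟩)))) (.node 4 (.node 2 (.node 1 (.one ⟨13297, 1, 4⟩) (.one ⟨1586, 1, 6⟩)) (.node 1 (.one ⟨15124, 1, 4⟩) (.one ⟨11961, 0, 4⟩))) (.node 2 (.node 1 (.one ⟨12236, 1, 3⟩) (.one ⟨2114, 2, 5⟩)) (.node 1 (.one ⟨13618, 1, 4⟩) (.one ⟨2407, 2, 4⟩))))) (.node 8 (.node 4 (.node 2 (.node 1 (.one ⟨8251, 1, 6⟩) (.one ⟨912, 0, 7⟩)) (.node 1 (.one ⟨2315, 2, 3⟩) (.one ⟨11693, 1, 2⟩))) (.node 2 (.node 1 (.one ⟨12238, 0, 4⟩) (.one ⟨14022, 1, 5⟩)) (.node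 1 (.one ⟨10711, 2, 5⟩) (.one ⟨4981, 1, 5⟩)))) (.node 4 (.node 2 (.node 1 (.one ⟨3007, 2, 2⟩) (.one ⟨10812, 0, 7⟩)) (.node 1 (.one ⟨4069, 1, 4⟩) (.one ⟨4345, 1, 4⟩))) (.node 2 (.node 1 (.one ⟨1841, 2, 4⟩) (.one ⟨10048, 1, 5⟩)) (.node 1 (.one ⟨12757, 0, 6⟩) (.one ⟨9661, 2, 4⟩)))))) (.node 16 (.node 8 (.node 4 (.node 2 (.node 1 (.one ⟨9646, 2, 4⟩) (.one ⟨7929, 0, 6⟩)) (.node 1 (.one ⟨14970, 1, 3⟩) (.one ⟨1698, 2, 5⟩))) (.node 2 (.node 1 (.one ⟨11730, 1, 5⟩) (.one ⟨16438, 1, 5⟩)) (.node 1 (.one ⟨2048, 2, 4⟩) (.one ⟨12210, 0, 4⟩)))) (.node 4 (.node 2 (.node 1 (.one ⟨2047, 2, 3⟩) (.one ⟨13339, 2, 4⟩)) (.node 1 (.one ⟨12933, 0, 4⟩) (.one ⟨16285, 0, 4⟩))) (.node 2 (.node 1 (.one ⟨4883, 1, 7⟩) (.one ⟨10572, 1, 7⟩))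 (.node 1 (.one ⟨16673, 0, 6⟩) (.one ⟨6561, 1, 3⟩))))) (.node 8 (.node 4 (.node 2 (.node 1 (.one ⟨16732, 1, 6⟩) (.one ⟨16242, 2, 5⟩)) (.node 1 (.one ⟨14798, 2, 4⟩) (.one ⟨4309, 1, 4⟩))) (.node 2 (.node 1 (.one ⟨11378, 2, 3⟩) (.one ⟨15226, 0, 5⟩)) (.node 1 (.one ⟨13353, 1, 6⟩) (.one ⟨55, 2, 3⟩)))) (.node 4 (.node 2 (.node 1 (.one ⟨14019, 1, 5⟩) (.one ⟨7454, 2, 5⟩)) (.node 1 (.one ⟨8726, 2, 7⟩) (.one ⟨2607, 0, 6⟩))) (.node 2 (.node 1 (.one ⟨9131, 2, 3⟩) (.one ⟨5953, 0, 2⟩)) (.node 1 (.one ⟨2282, 0, 5⟩) (.one ⟨14512, 2, 6⟩)))))))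
def par8_4_2 : Arr Par :=
  (.node 32 (.node 16 (.node 8 (.node 4 (.node 2 (.node 1 (.one ⟨5397, 1, 7⟩) (.one ⟨7867, 1, 4⟩)) (.node 1 (.one ⟨17016, 1, 4⟩) (.one ⟨9404, 1, 2⟩))) (.node 2 (.node 1 (.one ⟨3416, 1, 5⟩) (.one ⟨11605, 0, 4⟩)) (.node 1 (.one ⟨15190, 1, 4⟩) (.one ⟨8562, 0, 4⟩)))) (.node 4 (.node 2 (.node 1 (.one ⟨5392, 1, 7⟩) (.one ⟨16821, 2, 3⟩)) (.node 1 (.one ⟨1937, 1, 3⟩) (.one ⟨12922, 0, 5⟩))) (.node 2 (.node 1 (.one ⟨13103, 1, 6⟩) (.one ⟨11889, 0, 3⟩)) (.node 1 (.one ⟨13862, 2, 4⟩) (.one ⟨2178, 2, 3⟩))))) (.node 8 (.node 4 (.node 2 (.node 1 (.one ⟨16010, 0, 5⟩) (.one ⟨10746, 2, 5⟩)) (.node 1 (.one ⟨10550, 1, 5⟩) (.one ⟨13153, 2, 3⟩))) (.node 2 (.node 1 (.one ⟨2027, 2, 5⟩) (.one ⟨4640, 1, 5⟩))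 (.node 1 (.one ⟨8338, 1, 5⟩) (.one ⟨11274, 2, 1⟩)))) (.node 4 (.node 2 (.node 1 (.one ⟨8202, 0, 6⟩) (.one ⟨7725, 2, 5⟩)) (.node 1 (.one ⟨955, 1, 2⟩) (.one ⟨9897, 2, 5⟩))) (.node 2 (.node 1 (.one ⟨413, 2, 4⟩) (.one ⟨4288, 1, 5⟩)) (.node 1 (.one ⟨2046, 1, 6⟩) (.one ⟨6690, 0, 5⟩)))))) (.node 16 (.node 8 (.node 4 (.node 2 (.node 1 (.one ⟨4880, 2, 3⟩) (.one ⟨2360, 0, 4⟩)) (.node 1 (.one ⟨7573, 1, 3⟩) (.one ⟨521, 1, 5⟩))) (.node 2 (.node 1 (.one ⟨7567, 1, 4⟩) (.one ⟨460, 1, 5⟩)) (.node 1 (.one ⟨7568, 1, 5⟩) (.one ⟨16359, 2, 6⟩)))) (.node 4 (.node 2 (.node 1 (.one ⟨10591, 0, 5⟩) (.one ⟨2520, 0, 5⟩)) (.node 1 (.one ⟨39, 1, 6⟩) (.one ⟨11443, 2, 2⟩))) (.node 2 (.node 1 (.one ⟨12929, 2, 2⟩) (.one ⟨7918, 0, 5⟩)) (.node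 1 (.one ⟨4784, 2, 4⟩) (.one ⟨4502, 1, 4⟩))))) (.node 8 (.node 4 (.node 2 (.node 1 (.one ⟨12485, 1, 6⟩) (.one ⟨10028, 2, 5⟩)) (.node 1 (.one ⟨1776, 2, 1⟩) (.one ⟨13687, 1, 3⟩))) (.node 2 (.node 1 (.one ⟨5602, 1, 6⟩) (.one ⟨14921, 0, 6⟩)) (.node 1 (.one ⟨9848, 2, 5⟩) (.one ⟨12291, 1, 4⟩)))) (.node 4 (.node 2 (.node 1 (.one ⟨4239, 0, 4⟩) (.one ⟨10391, 2, 4⟩)) (.node 1 (.one ⟨13822, 1, 3⟩) (.one ⟨1743, 1, 4⟩))) (.node 2 (.node 1 (.one ⟨8553, 1, 3⟩) (.one ⟨11216, 0, 5⟩)) (.node 1 (.one ⟨858, 2, 2⟩) (.one ⟨11765, 0, 5⟩)))))))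
def par8_4_3 : Arr Par :=
  (.node 32 (.node 16 (.node 8 (.node 4 (.node 2 (.node 1 (.one ⟨3990, 2, 4⟩) (.one ⟨4059, 1, 4⟩)) (.node 1 (.one ⟨7728, 2, 2⟩) (.one ⟨2003, 1, 7⟩))) (.node 2 (.node 1 (.one ⟨3817, 2, 5⟩) (.one ⟨7569, 2, 5⟩)) (.node 1 (.one ⟨8625, 1, 5⟩) (.one ⟨9889, 2, 4⟩)))) (.node 4 (.node 2 (.node 1 (.one ⟨13698, 2, 4⟩) (.one ⟨5204, 0, 4⟩)) (.node 1 (.one ⟨15137, 2, 5⟩) (.one ⟨6769, 1, 6⟩))) (.node 2 (.node 1 (.one ⟨715, 2, 3⟩) (.one ⟨6838, 2, 5⟩)) (.node 1 (.one ⟨15557, 1, 3⟩) (.one ⟨5777, 2, 2⟩))))) (.node 8 (.node 4 (.node 2 (.node 1 (.one ⟨5721, 2, 6⟩) (.one ⟨3754, 0, 5⟩)) (.node 1 (.one ⟨7669, 1, 3⟩) (.one ⟨6037, 1, 4⟩))) (.node 2 (.node 1 (.one ⟨10247, 1, 3⟩) (.one ⟨13776, 2, 3⟩)) (.node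 1 (.one ⟨13852, 2, 6⟩) (.one ⟨7721, 2, 3⟩)))) (.node 4 (.node 2 (.node 1 (.one ⟨15432, 1, 6⟩) (.one ⟨13088, 1, 4⟩)) (.node 1 (.one ⟨9993, 1, 5⟩) (.one ⟨1809, 0, 6⟩))) (.node 2 (.node 1 (.one ⟨2528, 1, 5⟩) (.one ⟨7837, 1, 4⟩)) (.node 1 (.one ⟨17026, 2, 5⟩) (.one ⟨4506, 2, 4⟩)))))) (.node 16 (.node 8 (.node 4 (.node 2 (.node 1 (.one ⟨8744, 2, 5⟩) (.one ⟨8360, 1, 6⟩)) (.node 1 (.one ⟨16832, 1, 7⟩) (.one ⟨6837, 0, 5⟩))) (.node 2 (.node 1 (.one ⟨11032, 1, 5⟩) (.one ⟨11984, 1, 3⟩)) (.node 1 (.one ⟨5330, 1, 5⟩) (.one ⟨14758, 2, 3⟩)))) (.node 4 (.node 2 (.node 1 (.one ⟨9536, 2, 4⟩) (.one ⟨10970, 0, 4⟩)) (.node 1 (.one ⟨3014, 1, 3⟩) (.one ⟨14054, 0, 5⟩))) (.node 2 (.node 1 (.one ⟨4173, 0, 6⟩) (.one ⟨6653, 2, 2⟩)) (.node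 1 (.one ⟨79, 2, 1⟩) (.one ⟨15831, 1, 7⟩))))) (.node 8 (.node 4 (.node 2 (.node 1 (.one ⟨13445, 0, 5⟩) (.one ⟨7437, 2, 2⟩)) (.node 1 (.one ⟨11273, 2, 1⟩) (.one ⟨7348, 2, 6⟩))) (.node 2 (.node 1 (.one ⟨15243, 0, 5⟩) (.one ⟨6845, 0, 5⟩)) (.node 1 (.one ⟨13932, 2, 6⟩) (.one ⟨16731, 0, 4⟩)))) (.node 4 (.node 2 (.node 1 (.one ⟨3452, 0, 5⟩) (.one ⟨12184, 0, 3⟩)) (.node 1 (.one ⟨2257, 1, 5⟩) (.one ⟨3155, 2, 5⟩))) (.node 2 (.node 1 (.one ⟨13825, 2, 5⟩) (.one ⟨583, 1, 2⟩)) (.node 1 (.one ⟨8099, 2, 5⟩) (.one ⟨1085, 1, 4⟩)))))))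
def par8_4_4 : Arr Par :=
  (.node 32 (.node 16 (.node 8 (.node 4 (.node 2 (.node 1 (.one ⟨6644, 0, 1⟩) (.one ⟨4226, 2, 5⟩)) (.node 1 (.one ⟨6712, 1, 4⟩) (.one ⟨2686, 1, 6⟩))) (.node 2 (.node 1 (.one ⟨15217, 1, 7⟩) (.one ⟨6167, 0, 6⟩)) (.node 1 (.one ⟨7545, 1, 6⟩) (.one ⟨6450, 2, 6⟩)))) (.node 4 (.node 2 (.node 1 (.one ⟨8182, 1, 6⟩) (.one ⟨10201, 2, 4⟩)) (.node 1 (.one ⟨15084, 1, 2⟩) (.one ⟨10873, 1, 3⟩))) (.node 2 (.node 1 (.one ⟨7623, 2, 5⟩) (.one ⟨4457, 1, 3⟩)) (.node 1 (.one ⟨12094, 2, 4⟩) (.one ⟨17072, 0, 4⟩))))) (.node 8 (.node 4 (.node 2 (.node 1 (.one ⟨6143, 0, 5⟩) (.one ⟨12398, 0, 1⟩)) (.node 1 (.one ⟨12196, 1, 3⟩) (.one ⟨14702, 1, 4⟩))) (.node 2 (.node 1 (.one ⟨13681, 2, 3⟩) (.one ⟨9957, 2, 6⟩)) (.node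 1 (.one ⟨5688, 2, 6⟩) (.one ⟨12079, 1, 2⟩)))) (.node 4 (.node 2 (.node 1 (.one ⟨12385, 0, 3⟩) (.one ⟨12384, 0, 2⟩)) (.node 1 (.one ⟨3472, 1, 5⟩) (.one ⟨380, 1, 4⟩))) (.node 2 (.node 1 (.one ⟨12130, 1, 1⟩) (.one ⟨13304, 2, 5⟩)) (.node 1 (.one ⟨3759, 2, 1⟩) (.one ⟨1461, 1, 3⟩)))))) (.node 16 (.node 8 (.node 4 (.node 2 (.node 1 (.one ⟨11980, 1, 1⟩) (.one ⟨12264, 1, 2⟩)) (.node 1 (.one ⟨1888, 1, 4⟩) (.one ⟨15199, 1, 2⟩))) (.node 2 (.node 1 (.one ⟨8415, 1, 4⟩) (.one ⟨8604, 1, 4⟩)) (.node 1 (.one ⟨15563, 1, 2⟩) (.one ⟨4097, 1, 5⟩)))) (.node 4 (.node 2 (.node 1 (.one ⟨15360, 2, 5⟩) (.one ⟨13650, 2, 5⟩)) (.node 1 (.one ⟨4376, 2, 4⟩) (.one ⟨3423, 1, 2⟩))) (.node 2 (.node 1 (.one ⟨2274, 1, 3⟩) (.one ⟨8361, 2, 5⟩)) (.node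 1 (.one ⟨9470, 2, 5⟩) (.one ⟨8939, 1, 2⟩))))) (.node 8 (.node 4 (.node 2 (.node 1 (.one ⟨312, 2, 4⟩) (.one ⟨7851, 2, 6⟩)) (.node 1 (.one ⟨1242, 1, 3⟩) (.one ⟨10353, 2, 4⟩))) (.node 2 (.node 1 (.one ⟨5120, 2, 4⟩) (.one ⟨7448, 2, 4⟩)) (.node 1 (.one ⟨16296, 2, 6⟩) (.one ⟨11245, 1, 4⟩)))) (.node 4 (.node 2 (.node 1 (.one ⟨14208, 2, 4⟩) (.one ⟨13377, 1, 4⟩)) (.node 1 (.one ⟨14593, 2, 6⟩) (.one ⟨3579, 1, 5⟩))) (.node 2 (.node 1 (.one ⟨12326, 2, 4⟩) (.one ⟨2088, 1, 4⟩)) (.node 1 (.one ⟨5369, 0, 2⟩) (.one ⟨12694, 2, 6⟩)))))))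
def par8_4_5 : Arr Par :=
  (.node 32 (.node 16 (.node 8 (.node 4 (.node 2 (.node 1 (.one ⟨12687, 2, 4⟩) (.one ⟨12383, 1, 5⟩)) (.node 1 (.one ⟨9609, 0, 6⟩) (.one ⟨5168, 0, 2⟩))) (.node 2 (.node 1 (.one ⟨12692, 2, 6⟩) (.one ⟨14449, 1, 5⟩)) (.node 1 (.one ⟨8075, 1, 4⟩) (.one ⟨14340, 2, 1⟩)))) (.node 4 (.node 2 (.node 1 (.one ⟨2487, 2, 6⟩) (.one ⟨7945, 1, 3⟩)) (.node 1 (.one ⟨8756, 2, 2⟩) (.one ⟨1751, 2, 7⟩))) (.node 2 (.node 1 (.one ⟨15237, 0, 4⟩) (.one ⟨9004, 1, 2⟩)) (.node 1 (.one ⟨12953, 1, 4⟩) (.one ⟨12588, 1, 4⟩))))) (.node 8 (.node 4 (.node 2 (.node 1 (.one ⟨7200, 0, 2⟩) (.one ⟨7271, 2, 4⟩)) (.node 1 (.one ⟨7140, 2, 4⟩) (.one ⟨8220, 2, 6⟩))) (.node 2 (.node 1 (.one ⟨5229, 1, 6⟩) (.one ⟨12886, 0, 4⟩)) (.node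 1 (.one ⟨13484, 1, 5⟩) (.one ⟨12098, 1, 5⟩)))) (.node 4 (.node 2 (.node 1 (.one ⟨13878, 1, 5⟩) (.one ⟨5480, 1, 1⟩)) (.node 1 (.one ⟨7014, 1, 6⟩) (.one ⟨9739, 2, 4⟩))) (.node 2 (.node 1 (.one ⟨8110, 2, 5⟩) (.one ⟨13269, 0, 3⟩)) (.node 1 (.one ⟨8772, 0, 5⟩) (.one ⟨4977, 1, 6⟩)))))) (.node 16 (.node 8 (.node 4 (.node 2 (.node 1 (.one ⟨3340, 2, 6⟩) (.one ⟨16964, 2, 5⟩)) (.node 1 (.one ⟨4695, 2, 4⟩) (.one ⟨9282, 2, 6⟩))) (.node 2 (.node 1 (.one ⟨13059, 1, 6⟩) (.one ⟨12203, 2, 4⟩)) (.node 1 (.one ⟨7631, 2, 4⟩) (.one ⟨9613, 0, 1⟩)))) (.node 4 (.node 2 (.node 1 (.one ⟨16590, 2, 5⟩) (.one ⟨10727, 2, 2⟩)) (.node 1 (.one ⟨3038, 1, 3⟩) (.one ⟨15934, 1, 3⟩))) (.node 2 (.node 1 (.one ⟨7871, 1, 3⟩) (.one ⟨16970, 2, 3⟩)) (.node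 1 (.one ⟨4666, 1, 4⟩) (.one ⟨10762, 2, 5⟩))))) (.node 8 (.node 4 (.node 2 (.node 1 (.one ⟨4475, 2, 7⟩) (.one ⟨2016, 2, 7⟩)) (.node 1 (.one ⟨11847, 2, 6⟩) (.one ⟨14102, 2, 5⟩))) (.node 2 (.node 1 (.one ⟨6204, 1, 4⟩) (.one ⟨7919, 1, 3⟩)) (.node 1 (.one ⟨16341, 2, 7⟩) (.one ⟨16064, 0, 4⟩)))) (.node 4 (.node 2 (.node 1 (.one ⟨9811, 1, 5⟩) (.one ⟨10285, 1, 5⟩)) (.node 1 (.one ⟨8238, 0, 5⟩) (.one ⟨13623, 1, 6⟩))) (.node 2 (.node 1 (.one ⟨8425, 2, 5⟩) (.one ⟨14057, 2, 4⟩)) (.node 1 (.one ⟨14039, 1, 5⟩) (.one ⟨43, 1, 4⟩)))))))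
def par8_4_6 : Arr Par :=
  (.node 32 (.node 16 (.node 8 (.node 4 (.node 2 (.node 1 (.one ⟨227, 2, 5⟩) (.one ⟨6373, 2, 3⟩)) (.node 1 (.one ⟨2785, 2, 4⟩) (.one ⟨8231, 0, 7⟩))) (.node 2 (.node 1 (.one ⟨1587, 2, 4⟩) (.one ⟨6436, 2, 4⟩)) (.node 1 (.one ⟨2860, 2, 5⟩) (.one ⟨3551, 2, 5⟩)))) (.node 4 (.node 2 (.node 1 (.one ⟨4399, 1, 3⟩) (.one ⟨3554, 2, 5⟩)) (.node 1 (.one ⟨13210, 2, 3⟩) (.one ⟨3556, 2, 5⟩))) (.node 2 (.node 1 (.one ⟨13212, 2, 3⟩) (.one ⟨3557, 2, 6⟩)) (.node 1 (.one ⟨13213, 2, 3⟩) (.one ⟨11200, 2, 5⟩))))) (.node 8 (.node 4 (.node 2 (.node 1 (.one ⟨2616, 1, 3⟩) (.one ⟨11638, 1, 4⟩)) (.node 1 (.one ⟨14335, 2, 5⟩) (.one ⟨2497, 2, 6⟩))) (.node 2 (.node 1 (.one ⟨16424, 2, 5⟩) (.one ⟨12267, 1, 1⟩)) (.node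 1 (.one ⟨7586, 2, 3⟩) (.one ⟨14994, 0, 6⟩)))) (.node 4 (.node 2 (.node 1 (.one ⟨9934, 2, 5⟩) (.one ⟨1948, 2, 6⟩)) (.node 1 (.one ⟨385, 1, 3⟩) (.one ⟨15511, 1, 3⟩))) (.node 2 (.node 1 (.one ⟨3931, 2, 2⟩) (.one ⟨16720, 1, 4⟩)) (.node 1 (.one ⟨8181, 0, 7⟩) (.one ⟨1249, 0, 1⟩)))))) (.node 16 (.node 8 (.node 4 (.node 2 (.node 1 (.one ⟨15009, 2, 4⟩) (.one ⟨3485, 2, 4⟩)) (.node 1 (.one ⟨15605, 2, 5⟩) (.one ⟨6541, 1, 6⟩))) (.node 2 (.node 1 (.one ⟨6434, 2, 5⟩) (.one ⟨6551, 1, 3⟩)) (.node 1 (.one ⟨5691, 2, 6⟩) (.one ⟨16898, 2, 6⟩)))) (.node 4 (.node 2 (.node 1 (.one ⟨16361, 1, 7⟩) (.one ⟨16849, 2, 5⟩)) (.node 1 (.one ⟨4094, 1, 5⟩) (.one ⟨3711, 2, 6⟩))) (.node 2 (.node 1 (.one ⟨9439, 1, 5⟩) (.one ⟨3736, 2, 5⟩)) (.node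 1 (.one ⟨15657, 2, 6⟩) (.one ⟨8663, 1, 6⟩))))) (.node 8 (.node 4 (.node 2 (.node 1 (.one ⟨99, 1, 4⟩) (.one ⟨10436, 2, 5⟩)) (.node 1 (.one ⟨8637, 1, 4⟩) (.one ⟨4726, 1, 0⟩))) (.node 2 (.node 1 (.one ⟨4522, 1, 0⟩) (.one ⟨954, 2, 6⟩)) (.node 1 (.one ⟨8536, 0, 5⟩) (.one ⟨12117, 2, 3⟩)))) (.node 4 (.node 2 (.node 1 (.one ⟨6243, 0, 5⟩) (.one ⟨12682, 0, 5⟩)) (.node 1 (.one ⟨1969, 2, 5⟩) (.one ⟨16801, 1, 3⟩))) (.node 2 (.node 1 (.one ⟨16504, 1, 3⟩) (.one ⟨6787, 1, 4⟩)) (.node 1 (.one ⟨11158, 2, 6⟩) (.one ⟨9245, 1, 7⟩)))))))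
def par8_4_7 : Arr Par :=
  (.node 32 (.node 16 (.node 8 (.node 4 (.node 2 (.node 1 (.one ⟨6097, 2, 3⟩) (.one ⟨8941, 1, 4⟩)) (.node 1 (.one ⟨11536, 2, 6⟩) (.one ⟨14340, 1, 1⟩))) (.node 2 (.node 1 (.one ⟨14811, 0, 4⟩) (.one ⟨5283, 2, 6⟩)) (.node 1 (.one ⟨15287, 2, 6⟩) (.one ⟨1567, 2, 4⟩)))) (.node 4 (.node 2 (.node 1 (.one ⟨14937, 2, 4⟩) (.one ⟨12836, 2, 5⟩)) (.node 1 (.one ⟨13430, 0, 5⟩) (.one ⟨17169, 2, 5⟩))) (.node 2 (.node 1 (.one ⟨3962, 2, 5⟩) (.one ⟨9246, 0, 5⟩)) (.node 1 (.one ⟨11213, 2, 6⟩) (.one ⟨11636, 1, 6⟩))))) (.node 8 (.node 4 (.node 2 (.node 1 (.one ⟨14002, 1, 5⟩) (.one ⟨4245, 2, 6⟩)) (.node 1 (.one ⟨6343, 1, 3⟩) (.one ⟨1793, 2, 6⟩))) (.node 2 (.node 1 (.one ⟨15088, 1, 6⟩) (.one ⟨3495, 2, 6⟩))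 (.node 1 (.one ⟨7143, 1, 3⟩) (.one ⟨8657, 0, 4⟩)))) (.node 4 (.node 2 (.node 1 (.one ⟨5584, 1, 2⟩) (.one ⟨13658, 1, 4⟩)) (.node 1 (.one ⟨5607, 1, 4⟩) (.one ⟨7854, 0, 4⟩))) (.node 2 (.node 1 (.one ⟨13627, 1, 4⟩) (.one ⟨12973, 2, 4⟩)) (.node 1 (.one ⟨3104, 0, 4⟩) (.one ⟨4591, 0, 2⟩)))))) (.node 16 (.node 8 (.node 4 (.node 2 (.node 1 (.one ⟨6385, 1, 4⟩) (.one ⟨242, 0, 4⟩)) (.node 1 (.one ⟨7761, 2, 6⟩) (.one ⟨10423, 1, 6⟩))) (.node 2 (.node 1 (.one ⟨243, 0, 4⟩) (.one ⟨15333, 2, 7⟩)) (.node 1 (.one ⟨662, 1, 5⟩) (.one ⟨1821, 0, 4⟩)))) (.node 4 (.node 2 (.node 1 (.one ⟨4959, 1, 4⟩) (.one ⟨3113, 1, 5⟩)) (.node 1 (.one ⟨9340, 0, 6⟩) (.one ⟨8728, 0, 3⟩))) (.node 2 (.node 1 (.one ⟨15795, 0, 3⟩) (.one ⟨13396, 2, 6⟩)) (.node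 1 (.one ⟨13395, 2, 6⟩) (.one ⟨1178, 2, 1⟩))))) (.node 8 (.node 4 (.node 2 (.node 1 (.one ⟨12516, 1, 5⟩) (.one ⟨6285, 1, 7⟩)) (.node 1 (.one ⟨7008, 1, 6⟩) (.one ⟨8013, 2, 5⟩))) (.node 2 (.node 1 (.one ⟨16109, 2, 4⟩) (.one ⟨777, 0, 1⟩)) (.node 1 (.one ⟨6347, 1, 5⟩) (.one ⟨12967, 0, 3⟩)))) (.node 4 (.node 2 (.node 1 (.one ⟨7161, 1, 1⟩) (.one ⟨9335, 0, 5⟩)) (.node 1 (.one ⟨14198, 0, 5⟩) (.one ⟨2664, 1, 5⟩))) (.node 2 (.node 1 (.one ⟨15826, 0, 4⟩) (.one ⟨13597, 2, 3⟩)) (.node 1 (.one ⟨13794, 1, 4⟩) (.one ⟨1594, 0, 5⟩)))))))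
def par8_4_8 : Arr Par :=
  (.node 32 (.node 16 (.node 8 (.node 4 (.node 2 (.node 1 (.one ⟨8582, 2, 4⟩) (.one ⟨15257, 1, 4⟩)) (.node 1 (.one ⟨11421, 1, 2⟩) (.one ⟨10683, 2, 4⟩))) (.node 2 (.node 1 (.one ⟨5685, 1, 5⟩) (.one ⟨5555, 1, 5⟩)) (.node 1 (.one ⟨1715, 1, 5⟩) (.one ⟨1755, 1, 4⟩)))) (.node 4 (.node 2 (.node 1 (.one ⟨5603, 2, 7⟩) (.one ⟨5588, 2, 4⟩)) (.node 1 (.one ⟨3046, 0, 3⟩) (.one ⟨1338, 2, 6⟩))) (.node 2 (.node 1 (.one ⟨2503, 1, 3⟩) (.one ⟨2709, 1, 3⟩)) (.node 1 (.one ⟨1425, 2, 6⟩) (.one ⟨685, 1, 4⟩))))) (.node 8 (.node 4 (.node 2 (.node 1 (.one ⟨3716, 1, 6⟩) (.one ⟨14197, 1, 5⟩)) (.node 1 (.one ⟨15827, 1, 6⟩) (.one ⟨1132, 0, 5⟩))) (.node 2 (.node 1 (.one ⟨12158, 2, 6⟩) (.one ⟨12155, 2, 3⟩)) (.node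 1 (.one ⟨12156, 2, 2⟩) (.one ⟨14013, 1, 5⟩)))) (.node 4 (.node 2 (.node 1 (.one ⟨13256, 2, 7⟩) (.one ⟨5280, 2, 5⟩)) (.node 1 (.one ⟨679, 2, 6⟩) (.one ⟨8829, 2, 7⟩))) (.node 2 (.node 1 (.one ⟨5868, 2, 5⟩) (.one ⟨13953, 2, 7⟩)) (.node 1 (.one ⟨12728, 1, 3⟩) (.one ⟨8306, 0, 5⟩)))))) (.node 16 (.node 8 (.node 4 (.node 2 (.node 1 (.one ⟨8223, 1, 4⟩) (.one ⟨8236, 1, 5⟩)) (.node 1 (.one ⟨14390, 1, 6⟩) (.one ⟨6344, 1, 5⟩))) (.node 2 (.node 1 (.one ⟨16274, 1, 4⟩) (.one ⟨16284, 1, 7⟩)) (.node 1 (.one ⟨6339, 1, 2⟩) (.one ⟨14342, 0, 6⟩)))) (.node 4 (.node 2 (.node 1 (.one ⟨1292, 1, 4⟩) (.one ⟨2315, 1, 3⟩)) (.node 1 (.one ⟨16836, 0, 6⟩) (.one ⟨16916, 2, 4⟩))) (.node 2 (.node 1 (.one ⟨4919, 1, 4⟩) (.one ⟨5326, 1, 3⟩)) (.node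 1 (.one ⟨9244, 0, 4⟩) (.one ⟨1525, 2, 2⟩))))) (.node 8 (.node 4 (.node 2 (.node 1 (.one ⟨5176, 1, 5⟩) (.one ⟨581, 2, 2⟩)) (.node 1 (.one ⟨8940, 0, 6⟩) (.one ⟨14696, 2, 2⟩))) (.node 2 (.node 1 (.one ⟨7336, 1, 6⟩) (.one ⟨9959, 1, 5⟩)) (.node 1 (.one ⟨9483, 2, 2⟩) (.one ⟨8503, 0, 4⟩)))) (.node 4 (.node 2 (.node 1 (.one ⟨980, 1, 4⟩) (.one ⟨361, 0, 2⟩)) (.node 1 (.one ⟨951, 1, 3⟩) (.one ⟨7237, 2, 5⟩))) (.node 2 (.node 1 (.one ⟨6416, 0, 4⟩) (.one ⟨700, 1, 3⟩)) (.node 1 (.one ⟨12927, 2, 3⟩) (.one ⟨7262, 0, 5⟩)))))))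
def par8_4_9 : Arr Par :=
  (.node 32 (.node 16 (.node 8 (.node 4 (.node 2 (.node 1 (.one ⟨16864, 1, 4⟩) (.one ⟨16109, 1, 4⟩)) (.node 1 (.one ⟨5273, 1, 5⟩) (.one ⟨3385, 1, 2⟩))) (.node 2 (.node 1 (.one ⟨15218, 0, 3⟩) (.one ⟨8787, 2, 3⟩)) (.node 1 (.one ⟨13444, 2, 5⟩) (.one ⟨224, 1, 2⟩)))) (.node 4 (.node 2 (.node 1 (.one ⟨16487, 2, 6⟩) (.one ⟨162, 1, 3⟩)) (.node 1 (.one ⟨4337, 0, 3⟩) (.one ⟨708, 1, 3⟩))) (.node 2 (.node 1 (.one ⟨8371, 0, 3⟩) (.one ⟨763, 1, 2⟩)) (.node 1 (.one ⟨5741, 2, 6⟩) (.one ⟨7659, 2, 5⟩))))) (.node 8 (.node 4 (.node 2 (.node 1 (.one ⟨4659, 0, 3⟩) (.one ⟨14141, 2, 4⟩)) (.node 1 (.one ⟨2680, 0, 3⟩) (.one ⟨11720, 1, 3⟩))) (.node 2 (.node 1 (.one ⟨8097, 1, 4⟩) (.one ⟨16678, 2, 3⟩)) (.node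 1 (.one ⟨3650, 2, 4⟩) (.one ⟨9516, 1, 3⟩)))) (.node 4 (.node 2 (.node 1 (.one ⟨5341, 1, 4⟩) (.one ⟨7137, 1, 5⟩)) (.node 1 (.one ⟨5450, 0, 6⟩) (.one ⟨321, 0, 5⟩))) (.node 2 (.node 1 (.one ⟨2696, 0, 4⟩) (.one ⟨6358, 0, 6⟩)) (.node 1 (.one ⟨6056, 0, 5⟩) (.one ⟨8626, 1, 1⟩)))))) (.node 16 (.node 8 (.node 4 (.node 2 (.node 1 (.one ⟨6362, 1, 5⟩) (.one ⟨6292, 1, 6⟩)) (.node 1 (.one ⟨5430, 2, 2⟩) (.one ⟨6917, 2, 6⟩))) (.node 2 (.node 1 (.one ⟨4703, 1, 2⟩) (.one ⟨4869, 1, 5⟩)) (.node 1 (.one ⟨12366, 0, 4⟩) (.one ⟨13172, 1, 5⟩)))) (.node 4 (.node 2 (.node 1 (.one ⟨88, 2, 2⟩) (.one ⟨13099, 0, 6⟩)) (.node 1 (.one ⟨4347, 0, 6⟩) (.one ⟨9480, 2, 2⟩))) (.node 2 (.node 1 (.one ⟨13986, 2, 5⟩) (.one ⟨1873, 1, 2⟩)) (.node 1 (.one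 ⟨1134, 2, 2⟩) (.one ⟨12683, 1, 6⟩))))) (.node 8 (.node 4 (.node 2 (.node 1 (.one ⟨14567, 1, 6⟩) (.one ⟨1510, 2, 5⟩)) (.node 1 (.one ⟨13326, 2, 5⟩) (.one ⟨16825, 2, 5⟩))) (.node 2 (.node 1 (.one ⟨4736, 0, 4⟩) (.one ⟨1041, 2, 3⟩)) (.node 1 (.one ⟨13284, 2, 3⟩) (.one ⟨12068, 1, 7⟩)))) (.node 4 (.node 2 (.node 1 (.one ⟨3588, 2, 6⟩) (.one ⟨15464, 2, 6⟩)) (.node 1 (.one ⟨12142, 2, 6⟩) (.one ⟨9703, 1, 5⟩))) (.node 2 (.node 1 (.one ⟨1957, 1, 3⟩) (.one ⟨5105, 2, 4⟩)) (.node 1 (.one ⟨4466, 1, 7⟩) (.one ⟨2127, 1, 5⟩)))))))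
def par8_4_10 : Arr Par :=
  (.node 32 (.node 16 (.node 8 (.node 4 (.node 2 (.node 1 (.one ⟨3966, 2, 3⟩) (.one ⟨11996, 0, 4⟩)) (.node 1 (.one ⟨9755, 2, 4⟩) (.one ⟨14855, 1, 4⟩))) (.node 2 (.node 1 (.one ⟨4001, 0, 5⟩) (.one ⟨6889, 1, 4⟩)) (.node 1 (.one ⟨11304, 0, 5⟩) (.one ⟨2343, 2, 5⟩)))) (.node 4 (.node 2 (.node 1 (.one ⟨8427, 1, 7⟩) (.one ⟨120, 0, 7⟩)) (.node 1 (.one ⟨5022, 1, 4⟩) (.one ⟨14090, 1, 6⟩))) (.node 2 (.node 1 (.one ⟨5627, 1, 7⟩) (.one ⟨9519, 1, 7⟩)) (.node 1 (.one ⟨1868, 1, 6⟩) (.one ⟨16271, 2, 5⟩))))) (.node 8 (.node 4 (.node 2 (.node 1 (.one ⟨15787, 2, 5⟩) (.one ⟨2404, 2, 5⟩)) (.node 1 (.one ⟨177, 2, 6⟩) (.one ⟨14669, 2, 6⟩))) (.node 2 (.node 1 (.one ⟨5345, 0, 5⟩) (.one ⟨8832, 1, 6⟩)) (.node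 1 (.one ⟨16802, 1, 5⟩) (.one ⟨13666, 1, 6⟩)))) (.node 4 (.node 2 (.node 1 (.one ⟨14908, 2, 5⟩) (.one ⟨8012, 2, 5⟩)) (.node 1 (.one ⟨6065, 1, 6⟩) (.one ⟨6126, 0, 5⟩))) (.node 2 (.node 1 (.one ⟨14316, 0, 4⟩) (.one ⟨4901, 0, 5⟩)) (.node 1 (.one ⟨8748, 2, 6⟩) (.one ⟨6274, 2, 5⟩)))))) (.node 16 (.node 8 (.node 4 (.node 2 (.node 1 (.one ⟨6878, 1, 4⟩) (.one ⟨10178, 1, 5⟩)) (.node 1 (.one ⟨14837, 1, 4⟩) (.one ⟨14006, 2, 5⟩))) (.node 2 (.node 1 (.one ⟨17034, 1, 5⟩) (.one ⟨10552, 0, 5⟩)) (.node 1 (.one ⟨9113, 1, 5⟩) (.one ⟨12928, 1, 7⟩)))) (.node 4 (.node 2 (.node 1 (.one ⟨16593, 2, 6⟩) (.one ⟨6174, 1, 5⟩)) (.node 1 (.one ⟨9802, 0, 5⟩) (.one ⟨12769, 1, 3⟩))) (.node 2 (.node 1 (.one ⟨11538, 2, 5⟩) (.one ⟨17163, 2, 3⟩))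 (.node 1 (.one ⟨8229, 2, 6⟩) (.one ⟨1391, 1, 7⟩))))) (.node 8 (.node 4 (.node 2 (.node 1 (.one ⟨9131, 1, 3⟩) (.one ⟨32, 1, 3⟩)) (.node 1 (.one ⟨9093, 1, 6⟩) (.one ⟨16442, 1, 3⟩))) (.node 2 (.node 1 (.one ⟨13806, 0, 5⟩) (.one ⟨16468, 1, 4⟩)) (.node 1 (.one ⟨10667, 1, 5⟩) (.one ⟨4154, 1, 5⟩)))) (.node 4 (.node 2 (.node 1 (.one ⟨14620, 1, 5⟩) (.one ⟨9727, 0, 3⟩)) (.node 1 (.one ⟨6619, 1, 3⟩) (.one ⟨5108, 1, 6⟩))) (.node 2 (.node 1 (.one ⟨15246, 1, 4⟩) (.one ⟨11707, 1, 5⟩)) (.node 1 (.one ⟨6026, 1, 6⟩) (.one ⟨12997, 1, 3⟩)))))))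
def par8_4_11 : Arr Par :=
  (.node 32 (.node 16 (.node 8 (.node 4 (.node 2 (.node 1 (.one ⟨5567, 1, 4⟩) (.one ⟨6723, 1, 4⟩)) (.node 1 (.one ⟨11407, 0, 4⟩) (.one ⟨7997, 1, 3⟩))) (.node 2 (.node 1 (.one ⟨9704, 0, 4⟩) (.one ⟨9331, 1, 1⟩)) (.node 1 (.one ⟨8552, 1, 1⟩) (.one ⟨11999, 1, 6⟩)))) (.node 4 (.node 2 (.node 1 (.one ⟨16441, 1, 7⟩) (.one ⟨8445, 1, 5⟩)) (.node 1 (.one ⟨4138, 2, 6⟩) (.one ⟨15773, 2, 5⟩))) (.node 2 (.node 1 (.one ⟨184, 2, 3⟩) (.one ⟨12618, 0, 4⟩)) (.node 1 (.one ⟨8162, 1, 5⟩) (.one ⟨10014, 1, 3⟩))))) (.node 8 (.node 4 (.node 2 (.node 1 (.one ⟨7061, 1, 2⟩) (.one ⟨15269, 1, 4⟩)) (.node 1 (.one ⟨2470, 1, 4⟩) (.one ⟨4974, 2, 4⟩))) (.node 2 (.node 1 (.one ⟨8589, 1, 2⟩) (.one ⟨17070, 1, 6⟩)) (.node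 1 (.one ⟨4014, 1, 3⟩) (.one ⟨8175, 2, 4⟩)))) (.node 4 (.node 2 (.node 1 (.one ⟨3317, 2, 5⟩) (.one ⟨14200, 1, 6⟩)) (.node 1 (.one ⟨486, 0, 4⟩) (.one ⟨5278, 1, 4⟩))) (.node 2 (.node 1 (.one ⟨17106, 1, 2⟩) (.one ⟨13916, 2, 6⟩)) (.node 1 (.one ⟨11314, 0, 7⟩) (.one ⟨1576, 1, 6⟩)))))) (.node 16 (.node 8 (.node 4 (.node 2 (.node 1 (.one ⟨6439, 2, 3⟩) (.one ⟨16993, 2, 5⟩)) (.node 1 (.one ⟨4431, 2, 5⟩) (.one ⟨7916, 2, 5⟩))) (.node 2 (.node 1 (.one ⟨12302, 0, 3⟩) (.one ⟨729, 2, 5⟩)) (.node 1 (.one ⟨10305, 1, 4⟩) (.one ⟨12287, 2, 5⟩)))) (.node 4 (.node 2 (.node 1 (.one ⟨11523, 2, 5⟩) (.one ⟨8300, 1, 5⟩)) (.node 1 (.one ⟨16713, 0, 6⟩) (.one ⟨3142, 1, 2⟩))) (.node 2 (.node 1 (.one ⟨8588, 1, 2⟩) (.one ⟨16329, 1, 5⟩)) (.node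 1 (.one ⟨9379, 1, 1⟩) (.one ⟨5827, 1, 1⟩))))) (.node 8 (.node 4 (.node 2 (.node 1 (.one ⟨5020, 1, 4⟩) (.one ⟨2118, 0, 4⟩)) (.node 1 (.one ⟨5734, 1, 4⟩) (.one ⟨689, 1, 4⟩))) (.node 2 (.node 1 (.one ⟨8667, 1, 4⟩) (.one ⟨8741, 1, 6⟩)) (.node 1 (.one ⟨13784, 2, 3⟩) (.one ⟨9806, 0, 4⟩)))) (.node 4 (.node 2 (.node 1 (.one ⟨13783, 2, 6⟩) (.one ⟨14706, 2, 6⟩)) (.node 1 (.one ⟨4755, 0, 7⟩) (.one ⟨16121, 1, 5⟩))) (.node 2 (.node 1 (.one ⟨2829, 2, 6⟩) (.one ⟨2602, 1, 5⟩)) (.node 1 (.one ⟨6395, 2, 5⟩) (.one ⟨12579, 1, 6⟩)))))))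
def par8_4_12 : Arr Par :=
  (.node 32 (.node 16 (.node 8 (.node 4 (.node 2 (.node 1 (.one ⟨14814, 0, 4⟩) (.one ⟨6090, 2, 6⟩)) (.node 1 (.one ⟨15260, 0, 4⟩) (.one ⟨11333, 2, 6⟩))) (.node 2 (.node 1 (.one ⟨3701, 1, 5⟩) (.one ⟨1545, 2, 4⟩)) (.node 1 (.one ⟨2917, 2, 5⟩) (.one ⟨10172, 1, 5⟩)))) (.node 4 (.node 2 (.node 1 (.one ⟨2140, 1, 4⟩) (.one ⟨9754, 2, 7⟩)) (.node 1 (.one ⟨8121, 1, 5⟩) (.one ⟨351, 1, 5⟩))) (.node 2 (.node 1 (.one ⟨4258, 2, 4⟩) (.one ⟨16366, 2, 6⟩)) (.node 1 (.one ⟨15064, 2, 2⟩) (.one ⟨2138, 2, 4⟩))))) (.node 8 (.node 4 (.node 2 (.node 1 (.one ⟨15549, 0, 2⟩) (.one ⟨6466, 2, 4⟩)) (.node 1 (.one ⟨8104, 2, 5⟩) (.one ⟨14139, 2, 6⟩))) (.node 2 (.node 1 (.one ⟨16401, 2, 4⟩) (.one ⟨13999, 1, 5⟩)) (.node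 1 (.one ⟨11902, 2, 4⟩) (.one ⟨15526, 1, 3⟩)))) (.node 4 (.node 2 (.node 1 (.one ⟨12549, 1, 6⟩) (.one ⟨16274, 0, 4⟩)) (.node 1 (.one ⟨658, 1, 6⟩) (.one ⟨1559, 1, 2⟩))) (.node 2 (.node 1 (.one ⟨7828, 2, 3⟩) (.one ⟨10321, 0, 5⟩)) (.node 1 (.one ⟨7213, 0, 4⟩) (.one ⟨10267, 2, 1⟩)))))) (.node 16 (.node 8 (.node 4 (.node 2 (.node 1 (.one ⟨12512, 2, 5⟩) (.one ⟨929, 2, 4⟩)) (.node 1 (.one ⟨5383, 0, 6⟩) (.one ⟨14048, 1, 5⟩))) (.node 2 (.node 1 (.one ⟨4432, 2, 3⟩) (.one ⟨9267, 2, 4⟩)) (.node 1 (.one ⟨4976, 0, 1⟩) (.one ⟨13873, 1, 5⟩)))) (.node 4 (.node 2 (.node 1 (.one ⟨15360, 1, 5⟩) (.one ⟨17174, 1, 5⟩)) (.node 1 (.one ⟨16124, 1, 5⟩) (.one ⟨9725, 0, 5⟩))) (.node 2 (.node 1 (.one ⟨2714, 1, 5⟩) (.one ⟨4093, 1, 6⟩)) (.node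 1 (.one ⟨8626, 0, 1⟩) (.one ⟨12477, 1, 4⟩))))) (.node 8 (.node 4 (.node 2 (.node 1 (.one ⟨3647, 1, 5⟩) (.one ⟨12104, 0, 3⟩)) (.node 1 (.one ⟨14190, 2, 6⟩) (.one ⟨14185, 2, 4⟩))) (.node 2 (.node 1 (.one ⟨6313, 1, 3⟩) (.one ⟨15241, 1, 5⟩)) (.node 1 (.one ⟨6817, 1, 4⟩) (.one ⟨8506, 1, 3⟩)))) (.node 4 (.node 2 (.node 1 (.one ⟨9273, 2, 2⟩) (.one ⟨8871, 2, 3⟩)) (.node 1 (.one ⟨184, 1, 3⟩) (.one ⟨8810, 2, 6⟩))) (.node 2 (.node 1 (.one ⟨443, 1, 6⟩) (.one ⟨8504, 1, 4⟩)) (.node 1 (.one ⟨1069, 1, 3⟩) (.one ⟨6947, 1, 6⟩)))))))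
def par8_4_13 : Arr Par :=
  (.node 32 (.node 16 (.node 8 (.node 4 (.node 2 (.node 1 (.one ⟨2707, 2, 3⟩) (.one ⟨2316, 1, 5⟩)) (.node 1 (.one ⟨15427, 1, 7⟩) (.one ⟨14074, 0, 4⟩))) (.node 2 (.node 1 (.one ⟨3043, 1, 2⟩) (.one ⟨11246, 1, 3⟩)) (.node 1 (.one ⟨6436, 1, 4⟩) (.one ⟨3918, 1, 4⟩)))) (.node 4 (.node 2 (.node 1 (.one ⟨8902, 1, 5⟩) (.one ⟨13382, 0, 5⟩)) (.node 1 (.one ⟨12873, 2, 4⟩) (.one ⟨14028, 2, 5⟩))) (.node 2 (.node 1 (.one ⟨633, 2, 5⟩) (.one ⟨5814, 2, 6⟩)) (.node 1 (.one ⟨10054, 2, 5⟩) (.one ⟨1831, 2, 4⟩))))) (.node 8 (.node 4 (.node 2 (.node 1 (.one ⟨13699, 2, 4⟩) (.one ⟨5033, 0, 6⟩)) (.node 1 (.one ⟨2476, 0, 6⟩) (.one ⟨2626, 2, 5⟩))) (.node 2 (.node 1 (.one ⟨14571, 2, 4⟩) (.one ⟨8254, 1, 6⟩)) (.node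 1 (.one ⟨14030, 2, 5⟩) (.one ⟨6231, 1, 6⟩)))) (.node 4 (.node 2 (.node 1 (.one ⟨9006, 1, 5⟩) (.one ⟨8437, 1, 5⟩)) (.node 1 (.one ⟨8807, 0, 5⟩) (.one ⟨3809, 1, 6⟩))) (.node 2 (.node 1 (.one ⟨4405, 0, 5⟩) (.one ⟨3451, 1, 6⟩)) (.node 1 (.one ⟨4213, 1, 6⟩) (.one ⟨8728, 1, 3⟩)))))) (.node 16 (.node 8 (.node 4 (.node 2 (.node 1 (.one ⟨8438, 0, 6⟩) (.one ⟨9111, 2, 5⟩)) (.node 1 (.one ⟨8967, 2, 5⟩) (.one ⟨12125, 1, 5⟩))) (.node 2 (.node 1 (.one ⟨7711, 1, 4⟩) (.one ⟨13461, 2, 4⟩)) (.node 1 (.one ⟨13237, 2, 5⟩) (.one ⟨13133, 2, 4⟩)))) (.node 4 (.node 2 (.node 1 (.one ⟨126, 2, 3⟩) (.one ⟨13124, 1, 3⟩)) (.node 1 (.one ⟨1837, 2, 5⟩) (.one ⟨1665, 1, 3⟩))) (.node 2 (.node 1 (.one ⟨5103, 1, 6⟩) (.one ⟨16951, 0, 5⟩)) (.node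 1 (.one ⟨10271, 1, 3⟩) (.one ⟨6406, 1, 4⟩))))) (.node 8 (.node 4 (.node 2 (.node 1 (.one ⟨4397, 1, 0⟩) (.one ⟨7190, 2, 5⟩)) (.node 1 (.one ⟨13950, 2, 5⟩) (.one ⟨8499, 0, 1⟩))) (.node 2 (.node 1 (.one ⟨12404, 1, 4⟩) (.one ⟨12105, 0, 4⟩)) (.node 1 (.one ⟨8087, 1, 5⟩) (.one ⟨312, 1, 4⟩)))) (.node 4 (.node 2 (.node 1 (.one ⟨14815, 1, 5⟩) (.one ⟨5125, 1, 2⟩)) (.node 1 (.one ⟨16252, 1, 6⟩) (.one ⟨13388, 0, 6⟩))) (.node 2 (.node 1 (.one ⟨14852, 1, 6⟩) (.one ⟨5139, 1, 6⟩)) (.node 1 (.one ⟨16295, 1, 2⟩) (.one ⟨741, 1, 3⟩)))))))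
def par8_4_14 : Arr Par :=
  (.node 32 (.node 16 (.node 8 (.node 4 (.node 2 (.node 1 (.one ⟨14137, 1, 3⟩) (.one ⟨13701, 1, 3⟩)) (.node 1 (.one ⟨7935, 2, 6⟩) (.one ⟨16202, 1, 6⟩))) (.node 2 (.node 1 (.one ⟨3540, 2, 6⟩) (.one ⟨2091, 2, 5⟩)) (.node 1 (.one ⟨16381, 1, 4⟩) (.one ⟨12034, 1, 6⟩)))) (.node 4 (.node 2 (.node 1 (.one ⟨16776, 2, 6⟩) (.one ⟨16551, 2, 5⟩)) (.node 1 (.one ⟨4384, 2, 2⟩) (.one ⟨7679, 2, 3⟩))) (.node 2 (.node 1 (.one ⟨13402, 2, 6⟩) (.one ⟨13330, 2, 6⟩)) (.node 1 (.one ⟨8098, 2, 3⟩) (.one ⟨2903, 1, 2⟩))))) (.node 8 (.node 4 (.node 2 (.node 1 (.one ⟨5011, 1, 6⟩) (.one ⟨5000, 1, 7⟩)) (.node 1 (.one ⟨2304, 0, 6⟩) (.one ⟨15839, 2, 5⟩))) (.node 2 (.node 1 (.one ⟨10065, 0, 6⟩) (.one ⟨6785, 2, 5⟩))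 (.node 1 (.one ⟨3955, 2, 5⟩) (.one ⟨587, 2, 5⟩)))) (.node 4 (.node 2 (.node 1 (.one ⟨3860, 0, 6⟩) (.one ⟨549, 1, 5⟩)) (.node 1 (.one ⟨3372, 2, 3⟩) (.one ⟨304, 1, 3⟩))) (.node 2 (.node 1 (.one ⟨3306, 2, 3⟩) (.one ⟨163, 1, 6⟩)) (.node 1 (.one ⟨3325, 2, 3⟩) (.one ⟨3627, 2, 4⟩)))))) (.node 16 (.node 8 (.node 4 (.node 2 (.node 1 (.one ⟨12567, 2, 4⟩) (.one ⟨11155, 2, 4⟩)) (.node 1 (.one ⟨3311, 2, 3⟩) (.one ⟨8855, 2, 5⟩))) (.node 2 (.node 1 (.one ⟨16632, 2, 4⟩) (.one ⟨14632, 2, 4⟩)) (.node 1 (.one ⟨5659, 2, 6⟩) (.one ⟨12900, 0, 3⟩)))) (.node 4 (.node 2 (.node 1 (.one ⟨3801, 1, 5⟩) (.one ⟨1309, 2, 5⟩)) (.node 1 (.one ⟨9978, 1, 5⟩) (.one ⟨15766, 2, 3⟩))) (.node 2 (.node 1 (.one ⟨5809, 0, 5⟩) (.one ⟨6566, 2, 5⟩)) (.node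 1 (.one ⟨8197, 2, 3⟩) (.one ⟨12041, 2, 4⟩))))) (.node 8 (.node 4 (.node 2 (.node 1 (.one ⟨1799, 1, 1⟩) (.one ⟨1195, 0, 6⟩)) (.node 1 (.one ⟨12146, 1, 4⟩) (.one ⟨12399, 1, 5⟩))) (.node 2 (.node 1 (.one ⟨13876, 1, 7⟩) (.one ⟨1920, 1, 5⟩)) (.node 1 (.one ⟨8234, 1, 7⟩) (.one ⟨11908, 2, 4⟩)))) (.node 4 (.node 2 (.node 1 (.one ⟨1288, 0, 4⟩) (.one ⟨4384, 1, 2⟩)) (.node 1 (.one ⟨7527, 1, 6⟩) (.one ⟨16433, 1, 4⟩))) (.node 2 (.node 1 (.one ⟨4943, 0, 5⟩) (.one ⟨11906, 2, 4⟩)) (.node 1 (.one ⟨9040, 0, 4⟩) (.one ⟨7128, 0, 3⟩)))))))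
def par8_4_15 : Arr Par :=
  (.node 32 (.node 16 (.node 8 (.node 4 (.node 2 (.node 1 (.one ⟨6807, 2, 4⟩) (.one ⟨1293, 0, 1⟩)) (.node 1 (.one ⟨17140, 2, 3⟩) (.one ⟨7751, 2, 4⟩))) (.node 2 (.node 1 (.one ⟨11525, 2, 4⟩) (.one ⟨16776, 1, 6⟩)) (.node 1 (.one ⟨4599, 2, 4⟩) (.one ⟨10220, 1, 6⟩)))) (.node 4 (.node 2 (.node 1 (.one ⟨15103, 2, 6⟩) (.one ⟨4036, 0, 4⟩)) (.node 1 (.one ⟨11919, 1, 4⟩) (.one ⟨2216, 1, 2⟩))) (.node 2 (.node 1 (.one ⟨2822, 0, 4⟩) (.one ⟨3813, 1, 5⟩)) (.node 1 (.one ⟨3795, 1, 5⟩) (.one ⟨14838, 2, 6⟩))))) (.node 8 (.node 4 (.node 2 (.node 1 (.one ⟨16351, 2, 4⟩) (.one ⟨15864, 2, 6⟩)) (.node 1 (.one ⟨15589, 2, 6⟩) (.one ⟨10202, 1, 4⟩))) (.node 2 (.node 1 (.one ⟨8098, 1, 3⟩) (.one ⟨2885, 1, 4⟩))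 (.node 1 (.one ⟨11220, 2, 6⟩) (.one ⟨1191, 0, 1⟩)))) (.node 4 (.node 2 (.node 1 (.one ⟨6460, 2, 3⟩) (.one ⟨13653, 1, 4⟩)) (.node 1 (.one ⟨128, 2, 3⟩) (.one ⟨9420, 1, 2⟩))) (.node 2 (.node 1 (.one ⟨5657, 1, 6⟩) (.one ⟨6081, 1, 1⟩)) (.node 1 (.one ⟨10203, 1, 4⟩) (.one ⟨5699, 1, 1⟩)))))) (.node 16 (.node 8 (.node 4 (.node 2 (.node 1 (.one ⟨11165, 1, 6⟩) (.one ⟨2425, 0, 3⟩)) (.node 1 (.one ⟨7940, 1, 4⟩) (.one ⟨12840, 1, 5⟩))) (.node 2 (.node 1 (.one ⟨2885, 0, 4⟩) (.one ⟨5787, 1, 2⟩)) (.node 1 (.one ⟨11074, 1, 4⟩) (.one ⟨13262, 1, 6⟩)))) (.node 4 (.node 2 (.node 1 (.one ⟨13402, 1, 6⟩) (.one ⟨10927, 1, 5⟩)) (.node 1 (.one ⟨13954, 2, 2⟩) (.one ⟨591, 2, 5⟩))) (.node 2 (.node 1 (.one ⟨11265, 0, 7⟩) (.one ⟨1240, 2, 5⟩))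 (.node 1 (.one ⟨9490, 1, 1⟩) (.one ⟨14792, 2, 5⟩))))) (.node 8 (.node 4 (.node 2 (.node 1 (.one ⟨16037, 2, 4⟩) (.one ⟨16926, 1, 3⟩)) (.node 1 (.one ⟨10681, 1, 7⟩) (.one ⟨12833, 2, 4⟩))) (.node 2 (.node 1 (.one ⟨10092, 2, 5⟩) (.one ⟨6811, 2, 5⟩)) (.node 1 (.one ⟨7863, 2, 5⟩) (.one ⟨14520, 2, 4⟩)))) (.node 4 (.node 2 (.node 1 (.one ⟨1385, 0, 5⟩) (.one ⟨5306, 2, 5⟩)) (.node 1 (.one ⟨1055, 1, 5⟩) (.one ⟨981, 1, 3⟩))) (.node 2 (.node 1 (.one ⟨1895, 1, 3⟩) (.one ⟨16509, 2, 6⟩)) (.node 1 (.one ⟨988, 1, 5⟩) (.one ⟨9777, 1, 6⟩)))))))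
def par8_4 : Arr Par :=
  (.node 512 (.node 256 (.node 128 (.node 64 par8_4_0 par8_4_1) (.node 64 par8_4_2 par8_4_3)) (.node 128 (.node 64 par8_4_4 par8_4_5) (.node 64 par8_4_6 par8_4_7))) (.node 256 (.node 128 (.node 64 par8_4_8 par8_4_9) (.node 64 par8_4_10 par8_4_11)) (.node 128 (.node 64 par8_4_12 par8_4_13) (.node 64 par8_4_14 par8_4_15))))
def par8_5_0 : Arr Par :=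
  (.node 32 (.node 16 (.node 8 (.node 4 (.node 2 (.node 1 (.one ⟨13178, 1, 3⟩) (.one ⟨628, 2, 5⟩)) (.node 1 (.one ⟨2910, 1, 6⟩) (.one ⟨4304, 1, 7⟩))) (.node 2 (.node 1 (.one ⟨11729, 0, 4⟩) (.one ⟨9494, 1, 1⟩)) (.node 1 (.one ⟨13355, 1, 5⟩) (.one ⟨8049, 1, 3⟩)))) (.node 4 (.node 2 (.node 1 (.one ⟨9858, 2, 6⟩) (.one ⟨15947, 2, 5⟩)) (.node 1 (.one ⟨15490, 2, 6⟩) (.one ⟨6776, 1, 4⟩))) (.node 2 (.node 1 (.one ⟨12855, 1, 6⟩) (.one ⟨6894, 1, 3⟩)) (.node 1 (.one ⟨13038, 1, 4⟩) (.one ⟨5791, 2, 4⟩))))) (.node 8 (.node 4 (.node 2 (.node 1 (.one ⟨5056, 1, 5⟩) (.one ⟨20, 1, 5⟩)) (.node 1 (.one ⟨10448, 2, 5⟩) (.one ⟨9799, 0, 5⟩))) (.node 2 (.node 1 (.one ⟨12957, 2, 6⟩) (.one ⟨8956, 2, 5⟩)) (.node 1 (.one ⟨1381, 0, 5⟩) (.one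 ⟨15247, 2, 5⟩)))) (.node 4 (.node 2 (.node 1 (.one ⟨15248, 2, 5⟩) (.one ⟨4521, 1, 6⟩)) (.node 1 (.one ⟨11382, 1, 5⟩) (.one ⟨15252, 2, 3⟩))) (.node 2 (.node 1 (.one ⟨15251, 2, 6⟩) (.one ⟨15254, 2, 3⟩)) (.node 1 (.one ⟨791, 1, 7⟩) (.one ⟨4269, 1, 6⟩)))))) (.node 16 (.node 8 (.node 4 (.node 2 (.node 1 (.one ⟨2544, 1, 5⟩) (.one ⟨4153, 1, 5⟩)) (.node 1 (.one ⟨2531, 1, 3⟩) (.one ⟨12266, 1, 5⟩))) (.node 2 (.node 1 (.one ⟨10548, 1, 4⟩) (.one ⟨1382, 0, 1⟩)) (.node 1 (.one ⟨5930, 2, 2⟩) (.one ⟨15669, 1, 3⟩)))) (.node 4 (.node 2 (.node 1 (.one ⟨9142, 2, 1⟩) (.one ⟨1282, 2, 7⟩)) (.node 1 (.one ⟨12328, 0, 5⟩) (.one ⟨9577, 1, 6⟩))) (.node 2 (.node 1 (.one ⟨12253, 0, 6⟩) (.one ⟨1393, 0, 4⟩)) (.node 1 (.one ⟨14722, 0, 5⟩)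 (.one ⟨1727, 2, 2⟩))))) (.node 8 (.node 4 (.node 2 (.node 1 (.one ⟨6081, 2, 1⟩) (.one ⟨16363, 1, 6⟩)) (.node 1 (.one ⟨5586, 2, 5⟩) (.one ⟨1799, 2, 1⟩))) (.node 2 (.node 1 (.one ⟨6156, 2, 2⟩) (.one ⟨1935, 2, 2⟩)) (.node 1 (.one ⟨9803, 0, 4⟩) (.one ⟨7358, 2, 5⟩)))) (.node 4 (.node 2 (.node 1 (.one ⟨12336, 0, 4⟩) (.one ⟨16856, 2, 6⟩)) (.node 1 (.one ⟨14260, 2, 5⟩) (.one ⟨3169, 1, 6⟩))) (.node 2 (.node 1 (.one ⟨3700, 1, 5⟩) (.one ⟨12563, 2, 4⟩)) (.node 1 (.one ⟨11557, 2, 3⟩) (.one ⟨6944, 2, 5⟩)))))))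
def par8_5_1 : Arr Par :=
  (.node 32 (.node 16 (.node 8 (.node 4 (.node 2 (.node 1 (.one ⟨6833, 2, 6⟩) (.one ⟨8843, 0, 3⟩)) (.node 1 (.one ⟨1509, 2, 5⟩) (.one ⟨13139, 1, 7⟩))) (.node 2 (.node 1 (.one ⟨13779, 2, 6⟩) (.one ⟨11778, 0, 4⟩)) (.node 1 (.one ⟨15677, 0, 4⟩) (.one ⟨11246, 2, 3⟩)))) (.node 4 (.node 2 (.node 1 (.one ⟨1536, 2, 5⟩) (.one ⟨11645, 2, 5⟩)) (.node 1 (.one ⟨13251, 1, 6⟩) (.one ⟨11684, 2, 3⟩))) (.node 2 (.node 1 (.one ⟨7831, 0, 3⟩) (.one ⟨11188, 2, 5⟩)) (.node 1 (.one ⟨7831, 1, 3⟩) (.one ⟨3815, 2, 2⟩))))) (.node 8 (.node 4 (.node 2 (.node 1 (.one ⟨9441, 1, 3⟩) (.one ⟨3573, 0, 4⟩)) (.node 1 (.one ⟨10145, 1, 3⟩) (.one ⟨3929, 2, 4⟩))) (.node 2 (.node 1 (.one ⟨16255, 2, 3⟩) (.one ⟨6426, 1, 5⟩))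 (.node 1 (.one ⟨8864, 2, 6⟩) (.one ⟨3061, 2, 5⟩)))) (.node 4 (.node 2 (.node 1 (.one ⟨339, 1, 7⟩) (.one ⟨12699, 1, 3⟩)) (.node 1 (.one ⟨452, 1, 6⟩) (.one ⟨747, 1, 7⟩))) (.node 2 (.node 1 (.one ⟨6931, 2, 5⟩) (.one ⟨14524, 2, 4⟩)) (.node 1 (.one ⟨12695, 1, 3⟩) (.one ⟨3306, 1, 3⟩)))))) (.node 16 (.node 8 (.node 4 (.node 2 (.node 1 (.one ⟨10985, 1, 4⟩) (.one ⟨2564, 2, 1⟩)) (.node 1 (.one ⟨15044, 1, 4⟩) (.one ⟨1090, 1, 4⟩))) (.node 2 (.node 1 (.one ⟨3003, 0, 5⟩) (.one ⟨2320, 2, 4⟩)) (.node 1 (.one ⟨5626, 0, 5⟩) (.one ⟨2929, 2, 1⟩)))) (.node 4 (.node 2 (.node 1 (.one ⟨1226, 2, 5⟩) (.one ⟨10498, 2, 4⟩)) (.node 1 (.one ⟨11554, 2, 3⟩) (.one ⟨14829, 2, 4⟩))) (.node 2 (.node 1 (.one ⟨14206, 2, 1⟩) (.one ⟨6565, 2, 5⟩))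 (.node 1 (.one ⟨7174, 2, 6⟩) (.one ⟨16865, 2, 5⟩))))) (.node 8 (.node 4 (.node 2 (.node 1 (.one ⟨7194, 1, 3⟩) (.one ⟨16264, 2, 4⟩)) (.node 1 (.one ⟨4386, 2, 5⟩) (.one ⟨3571, 2, 5⟩))) (.node 2 (.node 1 (.one ⟨15996, 2, 5⟩) (.one ⟨4539, 2, 4⟩)) (.node 1 (.one ⟨7269, 0, 3⟩) (.one ⟨11551, 2, 4⟩)))) (.node 4 (.node 2 (.node 1 (.one ⟨7855, 0, 4⟩) (.one ⟨11322, 0, 4⟩)) (.node 1 (.one ⟨16453, 2, 2⟩) (.one ⟨8642, 2, 2⟩))) (.node 2 (.node 1 (.one ⟨4015, 0, 5⟩) (.one ⟨5014, 1, 6⟩)) (.node 1 (.one ⟨10350, 1, 4⟩) (.one ⟨12582, 1, 5⟩)))))))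
def par8_5_2 : Arr Par :=
  (.node 32 (.node 16 (.node 8 (.node 4 (.node 2 (.node 1 (.one ⟨16960, 2, 5⟩) (.one ⟨13325, 0, 2⟩)) (.node 1 (.one ⟨4532, 2, 1⟩) (.one ⟨11875, 2, 4⟩))) (.node 2 (.node 1 (.one ⟨13322, 0, 2⟩) (.one ⟨8248, 2, 3⟩)) (.node 1 (.one ⟨14403, 2, 5⟩) (.one ⟨2675, 2, 5⟩)))) (.node 4 (.node 2 (.node 1 (.one ⟨226, 2, 2⟩) (.one ⟨17105, 0, 5⟩)) (.node 1 (.one ⟨7670, 0, 1⟩) (.one ⟨13869, 1, 2⟩))) (.node 2 (.node 1 (.one ⟨11336, 0, 7⟩) (.one ⟨11451, 0, 5⟩)) (.node 1 (.one ⟨12318, 2, 2⟩) (.one ⟨7011, 1, 5⟩))))) (.node 8 (.node 4 (.node 2 (.node 1 (.one ⟨12471, 1, 5⟩) (.one ⟨10058, 2, 5⟩)) (.node 1 (.one ⟨10871, 1, 6⟩) (.one ⟨15022, 0, 5⟩))) (.node 2 (.node 1 (.one ⟨2158, 2, 4⟩) (.one ⟨16093, 2, 5⟩))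 (.node 1 (.one ⟨14005, 1, 7⟩) (.one ⟨3084, 1, 6⟩)))) (.node 4 (.node 2 (.node 1 (.one ⟨17165, 1, 3⟩) (.one ⟨5196, 2, 4⟩)) (.node 1 (.one ⟨185, 1, 7⟩) (.one ⟨15842, 2, 5⟩))) (.node 2 (.node 1 (.one ⟨14651, 1, 5⟩) (.one ⟨3410, 2, 5⟩)) (.node 1 (.one ⟨11992, 0, 3⟩) (.one ⟨6875, 1, 4⟩)))))) (.node 16 (.node 8 (.node 4 (.node 2 (.node 1 (.one ⟨9072, 1, 4⟩) (.one ⟨1627, 2, 3⟩)) (.node 1 (.one ⟨2498, 1, 6⟩) (.one ⟨7193, 1, 5⟩))) (.node 2 (.node 1 (.one ⟨8470, 1, 6⟩) (.one ⟨14562, 0, 5⟩)) (.node 1 (.one ⟨1670, 1, 3⟩) (.one ⟨14438, 0, 4⟩)))) (.node 4 (.node 2 (.node 1 (.one ⟨15020, 2, 5⟩) (.one ⟨15628, 2, 3⟩)) (.node 1 (.one ⟨4288, 0, 5⟩) (.one ⟨2667, 2, 4⟩))) (.node 2 (.node 1 (.one ⟨6467, 2, 3⟩) (.one ⟨6059, 2, 4⟩))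 (.node 1 (.one ⟨2139, 2, 4⟩) (.one ⟨16060, 2, 5⟩))))) (.node 8 (.node 4 (.node 2 (.node 1 (.one ⟨11494, 2, 3⟩) (.one ⟨9922, 0, 2⟩)) (.node 1 (.one ⟨6035, 2, 6⟩) (.one ⟨7421, 2, 5⟩))) (.node 2 (.node 1 (.one ⟨3629, 2, 4⟩) (.one ⟨9207, 2, 5⟩)) (.node 1 (.one ⟨16932, 2, 4⟩) (.one ⟨1583, 2, 4⟩)))) (.node 4 (.node 2 (.node 1 (.one ⟨1324, 2, 4⟩) (.one ⟨5084, 2, 7⟩)) (.node 1 (.one ⟨16543, 1, 4⟩) (.one ⟨2276, 2, 4⟩))) (.node 2 (.node 1 (.one ⟨2305, 2, 4⟩) (.one ⟨11464, 0, 6⟩)) (.node 1 (.one ⟨16510, 1, 7⟩) (.one ⟨14909, 2, 5⟩)))))))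
def par8_5_3 : Arr Par :=
  (.node 32 (.node 16 (.node 8 (.node 4 (.node 2 (.node 1 (.one ⟨3995, 1, 2⟩) (.one ⟨9575, 2, 5⟩)) (.node 1 (.one ⟨4768, 2, 5⟩) (.one ⟨324, 0, 5⟩))) (.node 2 (.node 1 (.one ⟨2482, 0, 3⟩) (.one ⟨8077, 2, 3⟩)) (.node 1 (.one ⟨8124, 0, 4⟩) (.one ⟨10486, 1, 3⟩)))) (.node 4 (.node 2 (.node 1 (.one ⟨4771, 0, 6⟩) (.one ⟨13790, 1, 2⟩)) (.node 1 (.one ⟨8881, 2, 5⟩) (.one ⟨7926, 1, 3⟩))) (.node 2 (.node 1 (.one ⟨16230, 1, 2⟩) (.one ⟨4334, 1, 2⟩)) (.node 1 (.one ⟨11581, 1, 2⟩) (.one ⟨14824, 1, 4⟩))))) (.node 8 (.node 4 (.node 2 (.node 1 (.one ⟨17052, 2, 4⟩) (.one ⟨7647, 2, 6⟩)) (.node 1 (.one ⟨17054, 2, 4⟩) (.one ⟨7654, 2, 4⟩))) (.node 2 (.node 1 (.one ⟨8523, 1, 5⟩) (.one ⟨2713, 1, 4⟩)) (.node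 1 (.one ⟨17050, 2, 5⟩) (.one ⟨9831, 1, 5⟩)))) (.node 4 (.node 2 (.node 1 (.one ⟨14527, 2, 5⟩) (.one ⟨5643, 1, 5⟩)) (.node 1 (.one ⟨3133, 1, 7⟩) (.one ⟨4006, 2, 3⟩))) (.node 2 (.node 1 (.one ⟨13634, 1, 2⟩) (.one ⟨7379, 1, 3⟩)) (.node 1 (.one ⟨1827, 1, 5⟩) (.one ⟨9396, 1, 6⟩)))))) (.node 16 (.node 8 (.node 4 (.node 2 (.node 1 (.one ⟨5573, 2, 6⟩) (.one ⟨11383, 2, 4⟩)) (.node 1 (.one ⟨437, 2, 3⟩) (.one ⟨16300, 2, 5⟩))) (.node 2 (.node 1 (.one ⟨8455, 2, 5⟩) (.one ⟨12169, 2, 5⟩)) (.node 1 (.one ⟨4700, 2, 5⟩) (.one ⟨13686, 1, 4⟩)))) (.node 4 (.node 2 (.node 1 (.one ⟨4815, 2, 4⟩) (.one ⟨11745, 2, 5⟩)) (.node 1 (.one ⟨19, 2, 4⟩) (.one ⟨8495, 2, 4⟩))) (.node 2 (.node 1 (.one ⟨14687, 2, 5⟩) (.one ⟨107, 1, 4⟩)) (.node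 1 (.one ⟨15848, 2, 6⟩) (.one ⟨11346, 2, 6⟩))))) (.node 8 (.node 4 (.node 2 (.node 1 (.one ⟨13272, 1, 7⟩) (.one ⟨15849, 2, 4⟩)) (.node 1 (.one ⟨1300, 2, 4⟩) (.one ⟨2762, 0, 4⟩))) (.node 2 (.node 1 (.one ⟨12993, 0, 3⟩) (.one ⟨13535, 0, 4⟩)) (.node 1 (.one ⟨11412, 2, 4⟩) (.one ⟨6368, 2, 2⟩)))) (.node 4 (.node 2 (.node 1 (.one ⟨13278, 1, 6⟩) (.one ⟨8706, 2, 1⟩)) (.node 1 (.one ⟨10925, 0, 7⟩) (.one ⟨4994, 0, 7⟩))) (.node 2 (.node 1 (.one ⟨15632, 1, 6⟩) (.one ⟨15338, 1, 6⟩)) (.node 1 (.one ⟨5960, 2, 5⟩) (.one ⟨5554, 2, 5⟩)))))))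
def par8_5_4 : Arr Par :=
  (.node 32 (.node 16 (.node 8 (.node 4 (.node 2 (.node 1 (.one ⟨6230, 2, 6⟩) (.one ⟨16217, 2, 6⟩)) (.node 1 (.one ⟨15905, 2, 6⟩) (.one ⟨7359, 1, 6⟩))) (.node 2 (.node 1 (.one ⟨8393, 2, 5⟩) (.one ⟨14839, 2, 5⟩)) (.node 1 (.one ⟨7383, 1, 2⟩) (.one ⟨14154, 2, 5⟩)))) (.node 4 (.node 2 (.node 1 (.one ⟨10695, 1, 5⟩) (.one ⟨6873, 2, 7⟩)) (.node 1 (.one ⟨2993, 1, 4⟩) (.one ⟨12029, 2, 5⟩))) (.node 2 (.node 1 (.one ⟨6828, 2, 5⟩) (.one ⟨5180, 2, 6⟩)) (.node 1 (.one ⟨13669, 2, 6⟩) (.one ⟨15687, 2, 2⟩))))) (.node 8 (.node 4 (.node 2 (.node 1 (.one ⟨2018, 2, 6⟩) (.one ⟨1570, 2, 6⟩)) (.node 1 (.one ⟨16104, 2, 3⟩) (.one ⟨7683, 2, 6⟩))) (.node 2 (.node 1 (.one ⟨10214, 2, 5⟩) (.one ⟨9774, 2, 6⟩)) (.node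 1 (.one ⟨8100, 2, 3⟩) (.one ⟨15034, 0, 3⟩)))) (.node 4 (.node 2 (.node 1 (.one ⟨1341, 2, 6⟩) (.one ⟨10528, 2, 3⟩)) (.node 1 (.one ⟨3869, 1, 3⟩) (.one ⟨9337, 2, 6⟩))) (.node 2 (.node 1 (.one ⟨2388, 2, 4⟩) (.one ⟨10779, 1, 3⟩)) (.node 1 (.one ⟨12176, 1, 5⟩) (.one ⟨7070, 1, 6⟩)))))) (.node 16 (.node 8 (.node 4 (.node 2 (.node 1 (.one ⟨6695, 1, 6⟩) (.one ⟨1233, 2, 5⟩)) (.node 1 (.one ⟨6232, 0, 3⟩) (.one ⟨7064, 2, 2⟩))) (.node 2 (.node 1 (.one ⟨10827, 1, 6⟩) (.one ⟨1273, 2, 5⟩)) (.node 1 (.one ⟨16281, 1, 6⟩) (.one ⟨11659, 2, 5⟩)))) (.node 4 (.node 2 (.node 1 (.one ⟨7830, 1, 3⟩) (.one ⟨5098, 0, 3⟩)) (.node 1 (.one ⟨11661, 2, 5⟩) (.one ⟨11662, 2, 3⟩))) (.node 2 (.node 1 (.one ⟨11655, 2, 5⟩) (.one ⟨11657, 2, 6⟩)) (.node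 1 (.one ⟨17083, 1, 5⟩) (.one ⟨14999, 2, 2⟩))))) (.node 8 (.node 4 (.node 2 (.node 1 (.one ⟨3611, 1, 4⟩) (.one ⟨10212, 2, 4⟩)) (.node 1 (.one ⟨6707, 1, 6⟩) (.one ⟨8483, 1, 6⟩))) (.node 2 (.node 1 (.one ⟨6762, 1, 6⟩) (.one ⟨1277, 1, 4⟩)) (.node 1 (.one ⟨9312, 0, 1⟩) (.one ⟨11177, 2, 5⟩)))) (.node 4 (.node 2 (.node 1 (.one ⟨7341, 1, 3⟩) (.one ⟨13583, 1, 6⟩)) (.node 1 (.one ⟨16475, 2, 4⟩) (.one ⟨9965, 2, 5⟩))) (.node 2 (.node 1 (.one ⟨3360, 1, 4⟩) (.one ⟨11370, 0, 4⟩)) (.node 1 (.one ⟨15862, 2, 5⟩) (.one ⟨7195, 2, 3⟩)))))))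
def par8_5_5 : Arr Par :=
  (.node 32 (.node 16 (.node 8 (.node 4 (.node 2 (.node 1 (.one ⟨14393, 2, 4⟩) (.one ⟨10811, 0, 7⟩)) (.node 1 (.one ⟨14496, 2, 4⟩) (.one ⟨1701, 2, 5⟩))) (.node 2 (.node 1 (.one ⟨9311, 0, 1⟩) (.one ⟨8612, 1, 5⟩)) (.node 1 (.one ⟨14109, 1, 5⟩) (.one ⟨11387, 0, 4⟩)))) (.node 4 (.node 2 (.node 1 (.one ⟨7327, 1, 6⟩) (.one ⟨7681, 1, 2⟩)) (.node 1 (.one ⟨6890, 2, 5⟩) (.one ⟨9279, 0, 5⟩))) (.node 2 (.node 1 (.one ⟨2261, 2, 4⟩) (.one ⟨15666, 0, 6⟩)) (.node 1 (.one ⟨8517, 1, 5⟩) (.one ⟨6342, 1, 3⟩))))) (.node 8 (.node 4 (.node 2 (.node 1 (.one ⟨7636, 0, 4⟩) (.one ⟨12324, 1, 3⟩)) (.node 1 (.one ⟨15059, 1, 3⟩) (.one ⟨783, 2, 3⟩))) (.node 2 (.node 1 (.one ⟨7105, 2, 4⟩) (.one ⟨14774, 2, 6⟩)) (.node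 1 (.one ⟨10433, 2, 6⟩) (.one ⟨10192, 1, 5⟩)))) (.node 4 (.node 2 (.node 1 (.one ⟨6597, 2, 4⟩) (.one ⟨964, 2, 5⟩)) (.node 1 (.one ⟨492, 1, 4⟩) (.one ⟨15485, 1, 3⟩))) (.node 2 (.node 1 (.one ⟨9315, 0, 1⟩) (.one ⟨2964, 2, 5⟩)) (.node 1 (.one ⟨6228, 2, 6⟩) (.one ⟨16402, 1, 4⟩)))))) (.node 16 (.node 8 (.node 4 (.node 2 (.node 1 (.one ⟨4682, 1, 4⟩) (.one ⟨9611, 1, 4⟩)) (.node 1 (.one ⟨14721, 0, 5⟩) (.one ⟨16811, 1, 3⟩))) (.node 2 (.node 1 (.one ⟨4073, 1, 2⟩) (.one ⟨11380, 1, 3⟩)) (.node 1 (.one ⟨7126, 2, 6⟩) (.one ⟨14329, 2, 5⟩)))) (.node 4 (.node 2 (.node 1 (.one ⟨4564, 1, 0⟩) (.one ⟨12671, 2, 5⟩)) (.node 1 (.one ⟨5232, 2, 4⟩) (.one ⟨9316, 0, 1⟩))) (.node 2 (.node 1 (.one ⟨15259, 0, 7⟩) (.one ⟨11566, 2, 6⟩)) (.node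 1 (.one ⟨8557, 0, 3⟩) (.one ⟨12627, 1, 7⟩))))) (.node 8 (.node 4 (.node 2 (.node 1 (.one ⟨3138, 1, 5⟩) (.one ⟨3871, 1, 5⟩)) (.node 1 (.one ⟨6791, 2, 5⟩) (.one ⟨11129, 1, 2⟩))) (.node 2 (.node 1 (.one ⟨5468, 1, 2⟩) (.one ⟨149, 1, 3⟩)) (.node 1 (.one ⟨902, 2, 3⟩) (.one ⟨10565, 1, 4⟩)))) (.node 4 (.node 2 (.node 1 (.one ⟨7903, 2, 6⟩) (.one ⟨939, 1, 3⟩)) (.node 1 (.one ⟨14136, 1, 4⟩) (.one ⟨12043, 0, 2⟩))) (.node 2 (.node 1 (.one ⟨6063, 1, 6⟩) (.one ⟨2486, 1, 4⟩)) (.node 1 (.one ⟨14455, 1, 2⟩) (.one ⟨16568, 1, 3⟩)))))))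
def par8_5_6 : Arr Par :=
  (.node 32 (.node 16 (.node 8 (.node 4 (.node 2 (.node 1 (.one ⟨3242, 1, 5⟩) (.one ⟨10553, 2, 3⟩)) (.node 1 (.one ⟨2703, 2, 4⟩) (.one ⟨6432, 1, 6⟩))) (.node 2 (.node 1 (.one ⟨11703, 2, 6⟩) (.one ⟨1479, 2, 5⟩)) (.node 1 (.one ⟨6788, 1, 5⟩) (.one ⟨4512, 0, 5⟩)))) (.node 4 (.node 2 (.node 1 (.one ⟨2107, 1, 4⟩) (.one ⟨15285, 2, 4⟩)) (.node 1 (.one ⟨5947, 1, 6⟩) (.one ⟨14606, 1, 6⟩))) (.node 2 (.node 1 (.one ⟨3305, 1, 5⟩) (.one ⟨10766, 1, 4⟩)) (.node 1 (.one ⟨7147, 1, 4⟩) (.one ⟨1593, 1, 7⟩))))) (.node 8 (.node 4 (.node 2 (.node 1 (.one ⟨4450, 1, 0⟩) (.one ⟨4834, 1, 6⟩)) (.node 1 (.one ⟨4670, 0, 4⟩) (.one ⟨3412, 2, 6⟩))) (.node 2 (.node 1 (.one ⟨6353, 0, 6⟩) (.one ⟨11478, 0, 6⟩)) (.node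 1 (.one ⟨11415, 1, 5⟩) (.one ⟨14940, 1, 6⟩)))) (.node 4 (.node 2 (.node 1 (.one ⟨14106, 0, 6⟩) (.one ⟨13836, 0, 6⟩)) (.node 1 (.one ⟨13166, 0, 6⟩) (.one ⟨4446, 2, 6⟩))) (.node 2 (.node 1 (.one ⟨17171, 0, 6⟩) (.one ⟨16999, 0, 6⟩)) (.node 1 (.one ⟨9433, 0, 6⟩) (.one ⟨10499, 2, 6⟩)))))) (.node 16 (.node 8 (.node 4 (.node 2 (.node 1 (.one ⟨2038, 1, 2⟩) (.one ⟨16765, 2, 5⟩)) (.node 1 (.one ⟨14831, 2, 6⟩) (.one ⟨6711, 0, 6⟩))) (.node 2 (.node 1 (.one ⟨6001, 1, 4⟩) (.one ⟨15932, 2, 5⟩)) (.node 1 (.one ⟨9423, 0, 5⟩) (.one ⟨827, 2, 4⟩)))) (.node 4 (.node 2 (.node 1 (.one ⟨10712, 2, 4⟩) (.one ⟨7397, 2, 6⟩)) (.node 1 (.one ⟨3587, 1, 6⟩) (.one ⟨6335, 1, 4⟩))) (.node 2 (.node 1 (.one ⟨1988, 2, 3⟩) (.one ⟨14810, 2, 5⟩))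 (.node 1 (.one ⟨319, 0, 6⟩) (.one ⟨4, 0, 4⟩))))) (.node 8 (.node 4 (.node 2 (.node 1 (.one ⟨16047, 2, 3⟩) (.one ⟨7871, 2, 3⟩)) (.node 1 (.one ⟨5946, 0, 4⟩) (.one ⟨3074, 1, 4⟩))) (.node 2 (.node 1 (.one ⟨386, 2, 3⟩) (.one ⟨9906, 0, 5⟩)) (.node 1 (.one ⟨14132, 0, 3⟩) (.one ⟨8871, 1, 3⟩)))) (.node 4 (.node 2 (.node 1 (.one ⟨11714, 1, 3⟩) (.one ⟨8287, 0, 6⟩)) (.node 1 (.one ⟨10508, 2, 3⟩) (.one ⟨7803, 1, 5⟩))) (.node 2 (.node 1 (.one ⟨13490, 1, 2⟩) (.one ⟨4270, 1, 0⟩)) (.node 1 (.one ⟨14234, 0, 5⟩) (.one ⟨16714, 2, 3⟩)))))))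
def par8_5_7 : Arr Par :=
  (.node 32 (.node 16 (.node 8 (.node 4 (.node 2 (.node 1 (.one ⟨13274, 2, 4⟩) (.one ⟨9815, 1, 6⟩)) (.node 1 (.one ⟨14457, 2, 5⟩) (.one ⟨3520, 0, 3⟩))) (.node 2 (.node 1 (.one ⟨461, 2, 5⟩) (.one ⟨2823, 1, 5⟩)) (.node 1 (.one ⟨8175, 1, 4⟩) (.one ⟨14168, 2, 5⟩)))) (.node 4 (.node 2 (.node 1 (.one ⟨15593, 1, 5⟩) (.one ⟨13529, 2, 5⟩)) (.node 1 (.one ⟨5683, 0, 4⟩) (.one ⟨16216, 2, 5⟩))) (.node 2 (.node 1 (.one ⟨10210, 1, 5⟩) (.one ⟨10845, 2, 3⟩)) (.node 1 (.one ⟨4144, 2, 6⟩) (.one ⟨8518, 0, 1⟩))))) (.node 8 (.node 4 (.node 2 (.node 1 (.one ⟨3095, 0, 1⟩) (.one ⟨5579, 1, 6⟩)) (.node 1 (.one ⟨8451, 1, 4⟩) (.one ⟨15074, 0, 2⟩))) (.node 2 (.node 1 (.one ⟨12983, 0, 3⟩) (.one ⟨13618, 0, 4⟩)) (.node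 1 (.one ⟨7069, 2, 2⟩) (.one ⟨8827, 1, 6⟩)))) (.node 4 (.node 2 (.node 1 (.one ⟨1408, 2, 5⟩) (.one ⟨7064, 1, 2⟩)) (.node 1 (.one ⟨5877, 1, 6⟩) (.one ⟨13255, 1, 2⟩))) (.node 2 (.node 1 (.one ⟨1352, 2, 5⟩) (.one ⟨10932, 1, 3⟩)) (.node 1 (.one ⟨9197, 1, 1⟩) (.one ⟨5950, 2, 6⟩)))))) (.node 16 (.node 8 (.node 4 (.node 2 (.node 1 (.one ⟨14603, 2, 5⟩) (.one ⟨10606, 2, 4⟩)) (.node 1 (.one ⟨10216, 0, 5⟩) (.one ⟨488, 1, 6⟩))) (.node 2 (.node 1 (.one ⟨13152, 2, 4⟩) (.one ⟨9153, 1, 5⟩)) (.node 1 (.one ⟨7960, 1, 7⟩) (.one ⟨2529, 1, 3⟩)))) (.node 4 (.node 2 (.node 1 (.one ⟨1416, 1, 5⟩) (.one ⟨9801, 0, 4⟩)) (.node 1 (.one ⟨2683, 2, 4⟩) (.one ⟨15437, 1, 5⟩))) (.node 2 (.node 1 (.one ⟨16322, 0, 5⟩) (.one ⟨12187, 1, 5⟩)) (.node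 1 (.one ⟨11837, 1, 5⟩) (.one ⟨3209, 1, 4⟩))))) (.node 8 (.node 4 (.node 2 (.node 1 (.one ⟨3478, 1, 3⟩) (.one ⟨17165, 2, 3⟩)) (.node 1 (.one ⟨12967, 1, 3⟩) (.one ⟨4668, 1, 0⟩))) (.node 2 (.node 1 (.one ⟨1704, 1, 3⟩) (.one ⟨3283, 2, 5⟩)) (.node 1 (.one ⟨11747, 2, 3⟩) (.one ⟨15224, 2, 2⟩)))) (.node 4 (.node 2 (.node 1 (.one ⟨7178, 2, 7⟩) (.one ⟨9124, 0, 3⟩)) (.node 1 (.one ⟨15166, 2, 4⟩) (.one ⟨9452, 2, 6⟩))) (.node 2 (.node 1 (.one ⟨1333, 2, 6⟩) (.one ⟨67, 2, 6⟩)) (.node 1 (.one ⟨9177, 2, 6⟩) (.one ⟨17153, 0, 6⟩)))))))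
def par8_5_8 : Arr Par :=
  (.node 32 (.node 16 (.node 8 (.node 4 (.node 2 (.node 1 (.one ⟨2622, 1, 3⟩) (.one ⟨5394, 0, 4⟩)) (.node 1 (.one ⟨15126, 1, 7⟩) (.one ⟨6961, 1, 5⟩))) (.node 2 (.node 1 (.one ⟨2030, 0, 5⟩) (.one ⟨408, 2, 4⟩)) (.node 1 (.one ⟨14188, 0, 5⟩) (.one ⟨8303, 2, 5⟩)))) (.node 4 (.node 2 (.node 1 (.one ⟨10966, 1, 4⟩) (.one ⟨6900, 0, 3⟩)) (.node 1 (.one ⟨4718, 0, 3⟩) (.one ⟨16379, 2, 4⟩))) (.node 2 (.node 1 (.one ⟨7919, 0, 3⟩) (.one ⟨9182, 2, 5⟩)) (.node 1 (.one ⟨2063, 1, 4⟩) (.one ⟨9125, 0, 5⟩))))) (.node 8 (.node 4 (.node 2 (.node 1 (.one ⟨10455, 2, 5⟩) (.one ⟨5174, 2, 5⟩)) (.node 1 (.one ⟨13635, 0, 6⟩) (.one ⟨2437, 2, 5⟩))) (.node 2 (.node 1 (.one ⟨7869, 2, 4⟩) (.one ⟨13424, 0, 6⟩)) (.node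 1 (.one ⟨13351, 2, 6⟩) (.one ⟨1673, 2, 6⟩)))) (.node 4 (.node 2 (.node 1 (.one ⟨12304, 2, 5⟩) (.one ⟨15373, 0, 5⟩)) (.node 1 (.one ⟨11307, 2, 3⟩) (.one ⟨15969, 1, 5⟩))) (.node 2 (.node 1 (.one ⟨16630, 0, 5⟩) (.one ⟨13632, 1, 5⟩)) (.node 1 (.one ⟨9176, 1, 5⟩) (.one ⟨10846, 1, 5⟩)))))) (.node 16 (.node 8 (.node 4 (.node 2 (.node 1 (.one ⟨5861, 0, 4⟩) (.one ⟨13649, 2, 3⟩)) (.node 1 (.one ⟨16827, 1, 5⟩) (.one ⟨3330, 2, 4⟩))) (.node 2 (.node 1 (.one ⟨1201, 1, 2⟩) (.one ⟨8167, 1, 2⟩)) (.node 1 (.one ⟨14531, 2, 6⟩) (.one ⟨4991, 2, 4⟩)))) (.node 4 (.node 2 (.node 1 (.one ⟨11771, 2, 4⟩) (.one ⟨13308, 1, 7⟩)) (.node 1 (.one ⟨403, 0, 3⟩) (.one ⟨9978, 0, 5⟩))) (.node 2 (.node 1 (.one ⟨13459, 2, 5⟩) (.one ⟨4872, 2, 5⟩))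 (.node 1 (.one ⟨9981, 0, 7⟩) (.one ⟨16367, 2, 3⟩))))) (.node 8 (.node 4 (.node 2 (.node 1 (.one ⟨4400, 1, 0⟩) (.one ⟨5552, 0, 4⟩)) (.node 1 (.one ⟨7, 0, 4⟩) (.one ⟨1027, 2, 3⟩))) (.node 2 (.node 1 (.one ⟨5921, 1, 3⟩) (.one ⟨13810, 1, 4⟩)) (.node 1 (.one ⟨9725, 1, 5⟩) (.one ⟨17, 2, 5⟩)))) (.node 4 (.node 2 (.node 1 (.one ⟨15014, 1, 5⟩) (.one ⟨2042, 0, 3⟩)) (.node 1 (.one ⟨14308, 2, 5⟩) (.one ⟨9158, 1, 5⟩))) (.node 2 (.node 1 (.one ⟨1718, 2, 6⟩) (.one ⟨14412, 2, 4⟩)) (.node 1 (.one ⟨956, 1, 6⟩) (.one ⟨5923, 1, 4⟩)))))))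
def par8_5_9 : Arr Par :=
  (.node 32 (.node 16 (.node 8 (.node 4 (.node 2 (.node 1 (.one ⟨4603, 1, 0⟩) (.one ⟨7333, 1, 4⟩)) (.node 1 (.one ⟨12441, 0, 6⟩) (.one ⟨4462, 1, 0⟩))) (.node 2 (.node 1 (.one ⟨1158, 1, 4⟩) (.one ⟨15572, 2, 4⟩)) (.node 1 (.one ⟨15569, 2, 4⟩) (.one ⟨16129, 2, 4⟩)))) (.node 4 (.node 2 (.node 1 (.one ⟨1483, 2, 5⟩) (.one ⟨4611, 1, 5⟩)) (.node 1 (.one ⟨11526, 2, 4⟩) (.one ⟨3314, 2, 5⟩))) (.node 2 (.node 1 (.one ⟨17141, 2, 4⟩) (.one ⟨9975, 2, 4⟩)) (.node 1 (.one ⟨7803, 2, 5⟩) (.one ⟨10586, 2, 4⟩))))) (.node 8 (.node 4 (.node 2 (.node 1 (.one ⟨1860, 1, 4⟩) (.one ⟨1883, 1, 4⟩)) (.node 1 (.one ⟨10410, 0, 5⟩) (.one ⟨11768, 1, 5⟩))) (.node 2 (.node 1 (.one ⟨3722, 1, 6⟩) (.one ⟨3729, 1, 1⟩)) (.node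 1 (.one ⟨11807, 1, 5⟩) (.one ⟨14158, 0, 6⟩)))) (.node 4 (.node 2 (.node 1 (.one ⟨7257, 1, 3⟩) (.one ⟨1136, 1, 5⟩)) (.node 1 (.one ⟨315, 0, 5⟩) (.one ⟨9910, 0, 6⟩))) (.node 2 (.node 1 (.one ⟨4907, 1, 6⟩) (.one ⟨8150, 1, 5⟩)) (.node 1 (.one ⟨5887, 1, 4⟩) (.one ⟨15639, 1, 3⟩)))))) (.node 16 (.node 8 (.node 4 (.node 2 (.node 1 (.one ⟨16105, 1, 3⟩) (.one ⟨5154, 2, 4⟩)) (.node 1 (.one ⟨1253, 1, 3⟩) (.one ⟨15795, 1, 3⟩))) (.node 2 (.node 1 (.one ⟨15341, 1, 3⟩) (.one ⟨1884, 1, 3⟩)) (.node 1 (.one ⟨14769, 2, 3⟩) (.one ⟨9393, 0, 5⟩)))) (.node 4 (.node 2 (.node 1 (.one ⟨15944, 2, 4⟩) (.one ⟨9805, 0, 5⟩)) (.node 1 (.one ⟨13390, 1, 6⟩) (.one ⟨4806, 1, 2⟩))) (.node 2 (.node 1 (.one ⟨13236, 1, 4⟩) (.one ⟨14046, 1, 5⟩)) (.node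 1 (.one ⟨6461, 1, 6⟩) (.one ⟨8588, 2, 2⟩))))) (.node 8 (.node 4 (.node 2 (.node 1 (.one ⟨15055, 0, 2⟩) (.one ⟨3014, 0, 3⟩)) (.node 1 (.one ⟨9787, 0, 3⟩) (.one ⟨15851, 1, 5⟩))) (.node 2 (.node 1 (.one ⟨3315, 1, 5⟩) (.one ⟨16628, 2, 3⟩)) (.node 1 (.one ⟨6952, 0, 3⟩) (.one ⟨5824, 2, 6⟩)))) (.node 4 (.node 2 (.node 1 (.one ⟨8917, 1, 4⟩) (.one ⟨15500, 0, 4⟩)) (.node 1 (.one ⟨5825, 2, 1⟩) (.one ⟨1732, 1, 4⟩))) (.node 2 (.node 1 (.one ⟨5827, 2, 1⟩) (.one ⟨5830, 2, 6⟩)) (.node 1 (.one ⟨15207, 2, 4⟩) (.one ⟨9406, 0, 3⟩)))))))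
def par8_5_10 : Arr Par :=
  (.node 32 (.node 16 (.node 8 (.node 4 (.node 2 (.node 1 (.one ⟨8521, 2, 6⟩) (.one ⟨3857, 2, 5⟩)) (.node 1 (.one ⟨3920, 2, 3⟩) (.one ⟨16239, 1, 5⟩))) (.node 2 (.node 1 (.one ⟨8328, 1, 4⟩) (.one ⟨6576, 1, 6⟩)) (.node 1 (.one ⟨15048, 1, 6⟩) (.one ⟨10176, 2, 4⟩)))) (.node 4 (.node 2 (.node 1 (.one ⟨15703, 1, 4⟩) (.one ⟨10225, 2, 5⟩)) (.node 1 (.one ⟨16544, 2, 4⟩) (.one ⟨3310, 1, 4⟩))) (.node 2 (.node 1 (.one ⟨16478, 0, 5⟩) (.one ⟨9137, 0, 5⟩)) (.node 1 (.one ⟨8918, 1, 4⟩) (.one ⟨2002, 0, 7⟩))))) (.node 8 (.node 4 (.node 2 (.node 1 (.one ⟨7616, 2, 3⟩) (.one ⟨1178, 1, 1⟩)) (.node 1 (.one ⟨4567, 1, 5⟩) (.one ⟨6516, 2, 4⟩))) (.node 2 (.node 1 (.one ⟨2036, 2, 5⟩) (.one ⟨1223, 0, 5⟩)) (.node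 1 (.one ⟨1511, 1, 4⟩) (.one ⟨11904, 1, 6⟩)))) (.node 4 (.node 2 (.node 1 (.one ⟨11900, 1, 4⟩) (.one ⟨1895, 0, 3⟩)) (.node 1 (.one ⟨1264, 0, 3⟩) (.one ⟨6081, 0, 1⟩))) (.node 2 (.node 1 (.one ⟨4222, 0, 0⟩) (.one ⟨15971, 1, 4⟩)) (.node 1 (.one ⟨15951, 1, 4⟩) (.one ⟨2330, 1, 3⟩)))))) (.node 16 (.node 8 (.node 4 (.node 2 (.node 1 (.one ⟨4735, 2, 6⟩) (.one ⟨9139, 0, 5⟩)) (.node 1 (.one ⟨9894, 1, 3⟩) (.one ⟨16174, 1, 6⟩))) (.node 2 (.node 1 (.one ⟨12319, 1, 2⟩) (.one ⟨2093, 2, 4⟩)) (.node 1 (.one ⟨8680, 0, 2⟩) (.one ⟨13211, 0, 6⟩)))) (.node 4 (.node 2 (.node 1 (.one ⟨5810, 1, 6⟩) (.one ⟨4213, 1, 0⟩)) (.node 1 (.one ⟨5907, 1, 6⟩) (.one ⟨5224, 0, 6⟩))) (.node 2 (.node 1 (.one ⟨2441, 2, 5⟩) (.one ⟨9391, 0, 1⟩)) (.node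 1 (.one ⟨2900, 2, 4⟩) (.one ⟨342, 2, 3⟩))))) (.node 8 (.node 4 (.node 2 (.node 1 (.one ⟨172, 0, 5⟩) (.one ⟨13181, 2, 4⟩)) (.node 1 (.one ⟨11546, 2, 5⟩) (.one ⟨12197, 2, 3⟩))) (.node 2 (.node 1 (.one ⟨10597, 2, 5⟩) (.one ⟨2789, 2, 4⟩)) (.node 1 (.one ⟨11743, 1, 5⟩) (.one ⟨6674, 2, 5⟩)))) (.node 4 (.node 2 (.node 1 (.one ⟨13684, 0, 6⟩) (.one ⟨2288, 2, 5⟩)) (.node 1 (.one ⟨3655, 0, 4⟩) (.one ⟨6610, 2, 4⟩))) (.node 2 (.node 1 (.one ⟨7293, 2, 5⟩) (.one ⟨5107, 1, 5⟩)) (.node 1 (.one ⟨1604, 2, 6⟩) (.one ⟨7361, 1, 4⟩)))))))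
def par8_5_11 : Arr Par :=
  (.node 32 (.node 16 (.node 8 (.node 4 (.node 2 (.node 1 (.one ⟨5912, 1, 5⟩) (.one ⟨4455, 1, 0⟩)) (.node 1 (.one ⟨3217, 1, 4⟩) (.one ⟨4305, 1, 0⟩))) (.node 2 (.node 1 (.one ⟨11896, 1, 4⟩) (.one ⟨15953, 1, 4⟩)) (.node 1 (.one ⟨17121, 1, 5⟩) (.one ⟨13584, 0, 5⟩)))) (.node 4 (.node 2 (.node 1 (.one ⟨4864, 1, 5⟩) (.one ⟨9562, 0, 6⟩)) (.node 1 (.one ⟨5027, 0, 6⟩) (.one ⟨1570, 1, 6⟩))) (.node 2 (.node 1 (.one ⟨15746, 1, 5⟩) (.one ⟨1802, 2, 5⟩)) (.node 1 (.one ⟨15295, 2, 4⟩) (.one ⟨8087, 2, 5⟩))))) (.node 8 (.node 4 (.node 2 (.node 1 (.one ⟨10051, 1, 3⟩) (.one ⟨2809, 0, 4⟩)) (.node 1 (.one ⟨13093, 0, 4⟩) (.one ⟨15998, 0, 3⟩))) (.node 2 (.node 1 (.one ⟨9667, 1, 4⟩) (.one ⟨6992, 2, 6⟩)) (.node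 1 (.one ⟨10222, 1, 4⟩) (.one ⟨2565, 1, 2⟩)))) (.node 4 (.node 2 (.node 1 (.one ⟨6007, 1, 6⟩) (.one ⟨15153, 2, 4⟩)) (.node 1 (.one ⟨8632, 2, 6⟩) (.one ⟨4045, 2, 4⟩))) (.node 2 (.node 1 (.one ⟨4296, 1, 0⟩) (.one ⟨9546, 0, 1⟩)) (.node 1 (.one ⟨4878, 1, 3⟩) (.one ⟨1140, 0, 3⟩)))))) (.node 16 (.node 8 (.node 4 (.node 2 (.node 1 (.one ⟨17162, 1, 6⟩) (.one ⟨12071, 2, 6⟩)) (.node 1 (.one ⟨3086, 1, 6⟩) (.one ⟨3277, 2, 4⟩))) (.node 2 (.node 1 (.one ⟨4019, 2, 6⟩) (.one ⟨4717, 2, 3⟩)) (.node 1 (.one ⟨17180, 1, 5⟩) (.one ⟨2101, 1, 5⟩)))) (.node 4 (.node 2 (.node 1 (.one ⟨10214, 1, 5⟩) (.one ⟨2191, 1, 3⟩)) (.node 1 (.one ⟨1347, 2, 5⟩) (.one ⟨10223, 1, 6⟩))) (.node 2 (.node 1 (.one ⟨2210, 1, 4⟩) (.one ⟨10195, 1, 5⟩)) (.node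 1 (.one ⟨2116, 1, 6⟩) (.one ⟨5036, 1, 6⟩))))) (.node 8 (.node 4 (.node 2 (.node 1 (.one ⟨1090, 2, 4⟩) (.one ⟨3368, 2, 3⟩)) (.node 1 (.one ⟨4188, 0, 5⟩) (.one ⟨239, 2, 2⟩))) (.node 2 (.node 1 (.one ⟨12735, 2, 5⟩) (.one ⟨1143, 0, 5⟩)) (.node 1 (.one ⟨16805, 1, 6⟩) (.one ⟨10496, 0, 4⟩)))) (.node 4 (.node 2 (.node 1 (.one ⟨3120, 1, 5⟩) (.one ⟨17084, 0, 5⟩)) (.node 1 (.one ⟨11620, 2, 4⟩) (.one ⟨2033, 1, 2⟩))) (.node 2 (.node 1 (.one ⟨9557, 0, 4⟩) (.one ⟨11616, 2, 4⟩)) (.node 1 (.one ⟨16704, 0, 4⟩) (.one ⟨11575, 2, 3⟩)))))))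
def par8_5_12 : Arr Par :=
  (.node 32 (.node 16 (.node 8 (.node 4 (.node 2 (.node 1 (.one ⟨1506, 1, 6⟩) (.one ⟨13907, 1, 5⟩)) (.node 1 (.one ⟨5931, 1, 3⟩) (.one ⟨5727, 1, 4⟩))) (.node 2 (.node 1 (.one ⟨16545, 0, 4⟩) (.one ⟨1627, 1, 3⟩)) (.node 1 (.one ⟨9765, 1, 5⟩) (.one ⟨6151, 2, 2⟩)))) (.node 4 (.node 2 (.node 1 (.one ⟨2126, 1, 6⟩) (.one ⟨5480, 2, 1⟩)) (.node 1 (.one ⟨7891, 0, 6⟩) (.one ⟨4666, 2, 4⟩))) (.node 2 (.node 1 (.one ⟨13979, 0, 7⟩) (.one ⟨15690, 0, 7⟩)) (.node 1 (.one ⟨7883, 1, 6⟩) (.one ⟨8218, 2, 5⟩))))) (.node 8 (.node 4 (.node 2 (.node 1 (.one ⟨13358, 1, 4⟩) (.one ⟨11411, 1, 3⟩)) (.node 1 (.one ⟨10335, 0, 6⟩) (.one ⟨16899, 2, 5⟩))) (.node 2 (.node 1 (.one ⟨5228, 1, 2⟩) (.one ⟨3285, 1, 6⟩)) (.node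 1 (.one ⟨5255, 1, 6⟩) (.one ⟨15461, 0, 4⟩)))) (.node 4 (.node 2 (.node 1 (.one ⟨4220, 0, 4⟩) (.one ⟨9654, 1, 3⟩)) (.node 1 (.one ⟨7641, 2, 6⟩) (.one ⟨5085, 1, 2⟩))) (.node 2 (.node 1 (.one ⟨9558, 0, 5⟩) (.one ⟨4229, 1, 5⟩)) (.node 1 (.one ⟨15614, 0, 6⟩) (.one ⟨9384, 1, 2⟩)))))) (.node 16 (.node 8 (.node 4 (.node 2 (.node 1 (.one ⟨508, 2, 5⟩) (.one ⟨2033, 2, 2⟩)) (.node 1 (.one ⟨6462, 1, 3⟩) (.one ⟨9654, 2, 3⟩))) (.node 2 (.node 1 (.one ⟨4568, 1, 3⟩) (.one ⟨17132, 1, 3⟩)) (.node 1 (.one ⟨10238, 2, 2⟩) (.one ⟨11319, 2, 4⟩)))) (.node 4 (.node 2 (.node 1 (.one ⟨15899, 2, 5⟩) (.one ⟨5618, 2, 4⟩)) (.node 1 (.one ⟨5852, 0, 1⟩) (.one ⟨13949, 0, 2⟩))) (.node 2 (.node 1 (.one ⟨426, 2, 3⟩) (.one ⟨1932, 0, 2⟩)) (.node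 1 (.one ⟨15473, 2, 3⟩) (.one ⟨1140, 1, 3⟩))))) (.node 8 (.node 4 (.node 2 (.node 1 (.one ⟨15528, 2, 4⟩) (.one ⟨16909, 1, 4⟩)) (.node 1 (.one ⟨10244, 2, 2⟩) (.one ⟨5619, 0, 1⟩))) (.node 2 (.node 1 (.one ⟨1693, 2, 2⟩) (.one ⟨5221, 1, 5⟩)) (.node 1 (.one ⟨7567, 2, 4⟩) (.one ⟨4226, 1, 0⟩)))) (.node 4 (.node 2 (.node 1 (.one ⟨4679, 2, 3⟩) (.one ⟨4095, 2, 3⟩)) (.node 1 (.one ⟨12847, 2, 3⟩) (.one ⟨7367, 2, 5⟩))) (.node 2 (.node 1 (.one ⟨16903, 1, 3⟩) (.one ⟨1957, 0, 3⟩)) (.node 1 (.one ⟨6044, 0, 5⟩) (.one ⟨4215, 1, 0⟩)))))))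
def par8_5_13 : Arr Par :=
  (.node 32 (.node 16 (.node 8 (.node 4 (.node 2 (.node 1 (.one ⟨8526, 1, 5⟩) (.one ⟨2207, 2, 1⟩)) (.node 1 (.one ⟨2216, 2, 2⟩) (.one ⟨1087, 2, 4⟩))) (.node 2 (.node 1 (.one ⟨12007, 0, 7⟩) (.one ⟨5801, 2, 1⟩)) (.node 1 (.one ⟨5787, 2, 2⟩) (.one ⟨6819, 1, 6⟩)))) (.node 4 (.node 2 (.node 1 (.one ⟨6807, 1, 4⟩) (.one ⟨5952, 2, 6⟩)) (.node 1 (.one ⟨10107, 1, 6⟩) (.one ⟨12747, 1, 7⟩))) (.node 2 (.node 1 (.one ⟨12759, 1, 4⟩) (.one ⟨16231, 2, 6⟩)) (.node 1 (.one ⟨1461, 0, 3⟩) (.one ⟨15117, 0, 4⟩))))) (.node 8 (.node 4 (.node 2 (.node 1 (.one ⟨14701, 2, 6⟩) (.one ⟨13754, 1, 4⟩)) (.node 1 (.one ⟨6370, 1, 4⟩) (.one ⟨14019, 0, 5⟩))) (.node 2 (.node 1 (.one ⟨11650, 0, 4⟩) (.one ⟨9653, 1, 4⟩))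 (.node 1 (.one ⟨12199, 2, 7⟩) (.one ⟨40, 2, 4⟩)))) (.node 4 (.node 2 (.node 1 (.one ⟨9807, 2, 4⟩) (.one ⟨7295, 1, 6⟩)) (.node 1 (.one ⟨2921, 2, 5⟩) (.one ⟨4273, 0, 6⟩))) (.node 2 (.node 1 (.one ⟨11085, 2, 5⟩) (.one ⟨13096, 1, 5⟩)) (.node 1 (.one ⟨7095, 1, 5⟩) (.one ⟨7204, 2, 3⟩)))))) (.node 16 (.node 8 (.node 4 (.node 2 (.node 1 (.one ⟨7009, 0, 4⟩) (.one ⟨13568, 2, 5⟩)) (.node 1 (.one ⟨643, 1, 1⟩) (.one ⟨15292, 1, 6⟩))) (.node 2 (.node 1 (.one ⟨2389, 2, 3⟩) (.one ⟨19, 1, 4⟩)) (.node 1 (.one ⟨16427, 2, 4⟩) (.one ⟨7282, 0, 5⟩)))) (.node 4 (.node 2 (.node 1 (.one ⟨7205, 2, 6⟩) (.one ⟨10765, 0, 4⟩)) (.node 1 (.one ⟨381, 1, 4⟩) (.one ⟨3316, 2, 4⟩))) (.node 2 (.node 1 (.one ⟨777, 1, 1⟩) (.one ⟨767, 1, 4⟩)) (.node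 1 (.one ⟨3331, 1, 4⟩) (.one ⟨1664, 2, 2⟩))))) (.node 8 (.node 4 (.node 2 (.node 1 (.one ⟨14111, 0, 7⟩) (.one ⟨7475, 1, 3⟩)) (.node 1 (.one ⟨9696, 2, 5⟩) (.one ⟨336, 1, 3⟩))) (.node 2 (.node 1 (.one ⟨611, 2, 1⟩) (.one ⟨6253, 1, 5⟩)) (.node 1 (.one ⟨2583, 1, 4⟩) (.one ⟨3566, 2, 5⟩)))) (.node 4 (.node 2 (.node 1 (.one ⟨1451, 0, 5⟩) (.one ⟨7073, 0, 6⟩)) (.node 1 (.one ⟨14619, 1, 2⟩) (.one ⟨3858, 2, 2⟩))) (.node 2 (.node 1 (.one ⟨11407, 1, 4⟩) (.one ⟨8409, 2, 6⟩)) (.node 1 (.one ⟨15146, 1, 5⟩) (.one ⟨7472, 1, 2⟩)))))))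
def par8_5_14 : Arr Par :=
  (.node 32 (.node 16 (.node 8 (.node 4 (.node 2 (.node 1 (.one ⟨1434, 1, 4⟩) (.one ⟨9475, 2, 4⟩)) (.node 1 (.one ⟨3098, 1, 4⟩) (.one ⟨15729, 2, 5⟩))) (.node 2 (.node 1 (.one ⟨10342, 1, 5⟩) (.one ⟨13756, 1, 2⟩)) (.node 1 (.one ⟨11491, 1, 4⟩) (.one ⟨10934, 1, 6⟩)))) (.node 4 (.node 2 (.node 1 (.one ⟨1346, 2, 5⟩) (.one ⟨13403, 1, 6⟩)) (.node 1 (.one ⟨1267, 2, 5⟩) (.one ⟨64, 2, 5⟩))) (.node 2 (.node 1 (.one ⟨6700, 1, 4⟩) (.one ⟨16259, 1, 2⟩)) (.node 1 (.one ⟨8830, 1, 6⟩) (.one ⟨3899, 1, 5⟩))))) (.node 8 (.node 4 (.node 2 (.node 1 (.one ⟨16648, 1, 6⟩) (.one ⟨13737, 2, 4⟩)) (.node 1 (.one ⟨7741, 2, 5⟩) (.one ⟨7260, 1, 5⟩))) (.node 2 (.node 1 (.one ⟨9675, 0, 2⟩) (.one ⟨7184, 0, 3⟩)) (.node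 1 (.one ⟨11819, 2, 6⟩) (.one ⟨13098, 1, 4⟩)))) (.node 4 (.node 2 (.node 1 (.one ⟨4803, 1, 4⟩) (.one ⟨1673, 1, 6⟩)) (.node 1 (.one ⟨10059, 1, 4⟩) (.one ⟨5114, 2, 6⟩))) (.node 2 (.node 1 (.one ⟨4370, 2, 4⟩) (.one ⟨10813, 2, 6⟩)) (.node 1 (.one ⟨621, 0, 5⟩) (.one ⟨5068, 2, 5⟩)))))) (.node 16 (.node 8 (.node 4 (.node 2 (.node 1 (.one ⟨12375, 0, 4⟩) (.one ⟨4551, 1, 5⟩)) (.node 1 (.one ⟨9884, 1, 6⟩) (.one ⟨5468, 2, 2⟩))) (.node 2 (.node 1 (.one ⟨15197, 1, 4⟩) (.one ⟨16376, 0, 5⟩)) (.node 1 (.one ⟨1603, 2, 5⟩) (.one ⟨11998, 2, 2⟩)))) (.node 4 (.node 2 (.node 1 (.one ⟨6875, 2, 4⟩) (.one ⟨9987, 0, 3⟩)) (.node 1 (.one ⟨4537, 1, 6⟩) (.one ⟨8506, 0, 3⟩))) (.node 2 (.node 1 (.one ⟨12569, 1, 5⟩) (.one ⟨13022, 0, 3⟩)) (.node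 1 (.one ⟨13634, 0, 2⟩) (.one ⟨9133, 0, 5⟩))))) (.node 8 (.node 4 (.node 2 (.node 1 (.one ⟨14595, 1, 6⟩) (.one ⟨15001, 2, 5⟩)) (.node 1 (.one ⟨16824, 1, 6⟩) (.one ⟨5696, 0, 1⟩))) (.node 2 (.node 1 (.one ⟨2265, 1, 3⟩) (.one ⟨12868, 1, 3⟩)) (.node 1 (.one ⟨5413, 1, 6⟩) (.one ⟨2259, 1, 6⟩)))) (.node 4 (.node 2 (.node 1 (.one ⟨902, 1, 3⟩) (.one ⟨13726, 0, 5⟩)) (.node 1 (.one ⟨13327, 2, 4⟩) (.one ⟨15461, 1, 4⟩))) (.node 2 (.node 1 (.one ⟨4803, 2, 4⟩) (.one ⟨14655, 1, 4⟩)) (.node 1 (.one ⟨11180, 2, 2⟩) (.one ⟨4732, 1, 4⟩)))))))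
def par8_5_15 : Arr Par :=
  (.node 32 (.node 16 (.node 8 (.node 4 (.node 2 (.node 1 (.one ⟨16792, 1, 6⟩) (.one ⟨4229, 0, 0⟩)) (.node 1 (.one ⟨12641, 1, 4⟩) (.one ⟨8177, 1, 5⟩))) (.node 2 (.node 1 (.one ⟨13673, 0, 4⟩) (.one ⟨4240, 1, 6⟩)) (.node 1 (.one ⟨16190, 1, 5⟩) (.one ⟨14658, 1, 5⟩)))) (.node 4 (.node 2 (.node 1 (.one ⟨7085, 1, 6⟩) (.one ⟨4074, 1, 5⟩)) (.node 1 (.one ⟨12331, 1, 5⟩) (.one ⟨16950, 1, 5⟩))) (.node 2 (.node 1 (.one ⟨14209, 0, 4⟩) (.one ⟨1600, 1, 5⟩)) (.node 1 (.one ⟨14536, 0, 4⟩) (.one ⟨4249, 1, 6⟩))))) (.node 8 (.node 4 (.node 2 (.node 1 (.one ⟨12330, 1, 3⟩) (.one ⟨9974, 0, 2⟩)) (.node 1 (.one ⟨6244, 2, 6⟩) (.one ⟨6606, 2, 5⟩))) (.node 2 (.node 1 (.one ⟨3898, 2, 4⟩) (.one ⟨12371, 0, 2⟩))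 (.node 1 (.one ⟨8868, 0, 6⟩) (.one ⟨14409, 2, 5⟩)))) (.node 4 (.node 2 (.node 1 (.one ⟨5357, 2, 5⟩) (.one ⟨16783, 2, 6⟩)) (.node 1 (.one ⟨1327, 2, 1⟩) (.one ⟨10799, 2, 6⟩))) (.node 2 (.node 1 (.one ⟨7856, 2, 2⟩) (.one ⟨3309, 1, 6⟩)) (.node 1 (.one ⟨13270, 1, 3⟩) (.one ⟨16815, 1, 5⟩)))))) (.node 16 (.node 8 (.node 4 (.node 2 (.node 1 (.one ⟨531, 1, 5⟩) (.one ⟨909, 1, 5⟩)) (.node 1 (.one ⟨5895, 0, 3⟩) (.one ⟨142, 1, 5⟩))) (.node 2 (.node 1 (.one ⟨16817, 1, 5⟩) (.one ⟨16821, 1, 3⟩)) (.node 1 (.one ⟨816, 1, 5⟩) (.one ⟨2506, 2, 6⟩)))) (.node 4 (.node 2 (.node 1 (.one ⟨11097, 2, 2⟩) (.one ⟨13427, 1, 7⟩)) (.node 1 (.one ⟨14261, 1, 5⟩) (.one ⟨11198, 1, 3⟩))) (.node 2 (.node 1 (.one ⟨11101, 2, 5⟩) (.one ⟨2508, 2, 4⟩))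 (.node 1 (.one ⟨11100, 2, 4⟩) (.one ⟨2103, 0, 4⟩))))) (.node 8 (.node 4 (.node 2 (.node 1 (.one ⟨11671, 2, 3⟩) (.one ⟨13167, 2, 3⟩)) (.node 1 (.one ⟨8752, 2, 3⟩) (.one ⟨9885, 0, 4⟩))) (.node 2 (.node 1 (.one ⟨9740, 0, 3⟩) (.one ⟨15332, 2, 4⟩)) (.node 1 (.one ⟨2808, 1, 5⟩) (.one ⟨136, 1, 6⟩)))) (.node 4 (.node 2 (.node 1 (.one ⟨13155, 2, 6⟩) (.one ⟨12502, 1, 6⟩)) (.node 1 (.one ⟨2592, 2, 5⟩) (.one ⟨12500, 1, 3⟩))) (.node 2 (.node 1 (.one ⟨154, 1, 6⟩) (.one ⟨168, 1, 6⟩)) (.node 1 (.one ⟨17142, 2, 4⟩) (.one ⟨13591, 2, 4⟩)))))))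
def par8_5 : Arr Par :=
  (.node 512 (.node 256 (.node 128 (.node 64 par8_5_0 par8_5_1) (.node 64 par8_5_2 par8_5_3)) (.node 128 (.node 64 par8_5_4 par8_5_5) (.node 64 par8_5_6 par8_5_7))) (.node 256 (.node 128 (.node 64 par8_5_8 par8_5_9) (.node 64 par8_5_10 par8_5_11)) (.node 128 (.node 64 par8_5_12 par8_5_13) (.node 64 par8_5_14 par8_5_15))))
def par8_6_0 : Arr Par :=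
  (.node 32 (.node 16 (.node 8 (.node 4 (.node 2 (.node 1 (.one ⟨4375, 1, 3⟩) (.one ⟨11194, 1, 3⟩)) (.node 1 (.one ⟨8283, 1, 4⟩) (.one ⟨6069, 2, 4⟩))) (.node 2 (.node 1 (.one ⟨2856, 1, 5⟩) (.one ⟨8581, 2, 5⟩)) (.node 1 (.one ⟨6829, 2, 5⟩) (.one ⟨8706, 0, 1⟩)))) (.node 4 (.node 2 (.node 1 (.one ⟨2960, 0, 1⟩) (.one ⟨11596, 0, 4⟩)) (.node 1 (.one ⟨12743, 1, 4⟩) (.one ⟨9975, 1, 4⟩))) (.node 2 (.node 1 (.one ⟨2207, 0, 1⟩) (.one ⟨7912, 1, 7⟩)) (.node 1 (.one ⟨14893, 0, 2⟩) (.one ⟨10842, 2, 5⟩))))) (.node 8 (.node 4 (.node 2 (.node 1 (.one ⟨14708, 2, 5⟩) (.one ⟨1684, 2, 6⟩)) (.node 1 (.one ⟨5714, 2, 6⟩) (.one ⟨5892, 2, 5⟩))) (.node 2 (.node 1 (.one ⟨14414, 0, 4⟩) (.one ⟨14690, 2, 5⟩)) (.node 1 (.one ⟨10885, 2, 5⟩)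 (.one ⟨15280, 2, 5⟩)))) (.node 4 (.node 2 (.node 1 (.one ⟨4038, 1, 4⟩) (.one ⟨12162, 1, 4⟩)) (.node 1 (.one ⟨9907, 0, 5⟩) (.one ⟨12086, 1, 4⟩))) (.node 2 (.node 1 (.one ⟨4048, 1, 1⟩) (.one ⟨12180, 1, 6⟩)) (.node 1 (.one ⟨2110, 0, 4⟩) (.one ⟨5298, 0, 7⟩)))))) (.node 16 (.node 8 (.node 4 (.node 2 (.node 1 (.one ⟨15311, 2, 6⟩) (.one ⟨1995, 0, 5⟩)) (.node 1 (.one ⟨11493, 0, 4⟩) (.one ⟨11160, 1, 5⟩))) (.node 2 (.node 1 (.one ⟨15317, 2, 5⟩) (.one ⟨15312, 2, 4⟩)) (.node 1 (.one ⟨2224, 1, 4⟩) (.one ⟨8483, 2, 6⟩)))) (.node 4 (.node 2 (.node 1 (.one ⟨4156, 0, 4⟩) (.one ⟨16224, 1, 3⟩)) (.node 1 (.one ⟨935, 2, 6⟩) (.one ⟨1083, 1, 5⟩))) (.node 2 (.node 1 (.one ⟨12916, 2, 5⟩) (.one ⟨5401, 1, 4⟩)) (.node 1 (.one ⟨12032, 2,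 4⟩) (.one ⟨16056, 1, 4⟩))))) (.node 8 (.node 4 (.node 2 (.node 1 (.one ⟨12989, 2, 6⟩) (.one ⟨15981, 1, 5⟩)) (.node 1 (.one ⟨14297, 0, 4⟩) (.one ⟨15059, 0, 3⟩))) (.node 2 (.node 1 (.one ⟨4737, 1, 5⟩) (.one ⟨15104, 1, 6⟩)) (.node 1 (.one ⟨15029, 2, 5⟩) (.one ⟨707, 2, 3⟩)))) (.node 4 (.node 2 (.node 1 (.one ⟨12936, 1, 3⟩) (.one ⟨5053, 0, 5⟩)) (.node 1 (.one ⟨2545, 1, 3⟩) (.one ⟨7194, 2, 3⟩))) (.node 2 (.node 1 (.one ⟨14959, 1, 3⟩) (.one ⟨7413, 2, 3⟩)) (.node 1 (.one ⟨15349, 2, 4⟩) (.one ⟨10404, 1, 3⟩)))))))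
def par8_6_1 : Arr Par :=
  (.node 32 (.node 16 (.node 8 (.node 4 (.node 2 (.node 1 (.one ⟨5250, 1, 2⟩) (.one ⟨4820, 1, 3⟩)) (.node 1 (.one ⟨10258, 2, 6⟩) (.one ⟨8908, 2, 6⟩))) (.node 2 (.node 1 (.one ⟨1147, 2, 3⟩) (.one ⟨8749, 2, 4⟩)) (.node 1 (.one ⟨12009, 0, 6⟩) (.one ⟨11825, 1, 6⟩)))) (.node 4 (.node 2 (.node 1 (.one ⟨6189, 1, 5⟩) (.one ⟨16982, 2, 5⟩)) (.node 1 (.one ⟨12023, 2, 6⟩) (.one ⟨2595, 0, 4⟩))) (.node 2 (.node 1 (.one ⟨12115, 2, 3⟩) (.one ⟨10409, 0, 7⟩)) (.node 1 (.one ⟨2909, 2, 6⟩) (.one ⟨12135, 1, 1⟩))))) (.node 8 (.node 4 (.node 2 (.node 1 (.one ⟨13512, 2, 6⟩) (.one ⟨9890, 2, 7⟩)) (.node 1 (.one ⟨12981, 1, 6⟩) (.one ⟨7887, 1, 5⟩))) (.node 2 (.node 1 (.one ⟨1630, 0, 5⟩) (.one ⟨1778, 2, 4⟩)) (.node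 1 (.one ⟨10151, 0, 5⟩) (.one ⟨7208, 0, 5⟩)))) (.node 4 (.node 2 (.node 1 (.one ⟨2905, 2, 2⟩) (.one ⟨6903, 0, 3⟩)) (.node 1 (.one ⟨4366, 1, 5⟩) (.one ⟨14084, 2, 2⟩))) (.node 2 (.node 1 (.one ⟨8285, 2, 6⟩) (.one ⟨14956, 0, 7⟩)) (.node 1 (.one ⟨12803, 0, 7⟩) (.one ⟨6431, 2, 4⟩)))))) (.node 16 (.node 8 (.node 4 (.node 2 (.node 1 (.one ⟨6456, 2, 4⟩) (.one ⟨26, 1, 4⟩)) (.node 1 (.one ⟨2517, 2, 5⟩) (.one ⟨5644, 2, 4⟩))) (.node 2 (.node 1 (.one ⟨9683, 1, 5⟩) (.one ⟨11495, 0, 6⟩)) (.node 1 (.one ⟨2222, 2, 3⟩) (.one ⟨12518, 2, 3⟩)))) (.node 4 (.node 2 (.node 1 (.one ⟨905, 2, 5⟩) (.one ⟨12341, 2, 5⟩)) (.node 1 (.one ⟨3154, 1, 5⟩) (.one ⟨3511, 0, 3⟩))) (.node 2 (.node 1 (.one ⟨6424, 2, 6⟩) (.one ⟨2784, 0, 4⟩)) (.node 1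 (.one ⟨3151, 1, 5⟩) (.one ⟨3276, 1, 6⟩))))) (.node 8 (.node 4 (.node 2 (.node 1 (.one ⟨3250, 1, 6⟩) (.one ⟨4028, 1, 6⟩)) (.node 1 (.one ⟨2040, 2, 4⟩) (.one ⟨4677, 1, 4⟩))) (.node 2 (.node 1 (.one ⟨4688, 1, 4⟩) (.one ⟨1154, 1, 7⟩)) (.node 1 (.one ⟨15023, 0, 3⟩) (.one ⟨8426, 0, 6⟩)))) (.node 4 (.node 2 (.node 1 (.one ⟨3701, 2, 5⟩) (.one ⟨5609, 2, 5⟩)) (.node 1 (.one ⟨13632, 0, 5⟩) (.one ⟨1000, 0, 6⟩))) (.node 2 (.node 1 (.one ⟨8449, 2, 5⟩) (.one ⟨2910, 2, 6⟩)) (.node 1 (.one ⟨12670, 0, 6⟩) (.one ⟨9935, 1, 4⟩)))))))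
def par8_6_2 : Arr Par :=
  (.node 32 (.node 16 (.node 8 (.node 4 (.node 2 (.node 1 (.one ⟨2327, 1, 3⟩) (.one ⟨10927, 2, 5⟩)) (.node 1 (.one ⟨2667, 1, 4⟩) (.one ⟨12796, 0, 6⟩))) (.node 2 (.node 1 (.one ⟨3936, 0, 2⟩) (.one ⟨10183, 2, 4⟩)) (.node 1 (.one ⟨2817, 0, 7⟩) (.one ⟨9099, 2, 4⟩)))) (.node 4 (.node 2 (.node 1 (.one ⟨2019, 0, 4⟩) (.one ⟨16657, 2, 5⟩)) (.node 1 (.one ⟨10867, 1, 3⟩) (.one ⟨10396, 2, 6⟩))) (.node 2 (.node 1 (.one ⟨7412, 2, 4⟩) (.one ⟨494, 2, 6⟩)) (.node 1 (.one ⟨14853, 2, 5⟩) (.one ⟨3991, 2, 4⟩))))) (.node 8 (.node 4 (.node 2 (.node 1 (.one ⟨7398, 1, 6⟩) (.one ⟨7894, 1, 6⟩)) (.node 1 (.one ⟨12571, 0, 7⟩) (.one ⟨5667, 0, 5⟩))) (.node 2 (.node 1 (.one ⟨16966, 0, 5⟩) (.one ⟨10931, 1, 5⟩)) (.node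 1 (.one ⟨10042, 1, 4⟩) (.one ⟨3847, 1, 3⟩)))) (.node 4 (.node 2 (.node 1 (.one ⟨1117, 2, 5⟩) (.one ⟨11144, 1, 3⟩)) (.node 1 (.one ⟨605, 2, 1⟩) (.one ⟨7196, 2, 4⟩))) (.node 2 (.node 1 (.one ⟨9234, 2, 5⟩) (.one ⟨4846, 1, 2⟩)) (.node 1 (.one ⟨9351, 2, 5⟩) (.one ⟨2, 2, 2⟩)))))) (.node 16 (.node 8 (.node 4 (.node 2 (.node 1 (.one ⟨4536, 1, 6⟩) (.one ⟨15054, 1, 6⟩)) (.node 1 (.one ⟨9503, 2, 5⟩) (.one ⟨14461, 2, 4⟩))) (.node 2 (.node 1 (.one ⟨12106, 1, 4⟩) (.one ⟨6437, 2, 3⟩)) (.node 1 (.one ⟨3104, 1, 4⟩) (.one ⟨1143, 1, 5⟩)))) (.node 4 (.node 2 (.node 1 (.one ⟨10539, 2, 6⟩) (.one ⟨15283, 1, 2⟩)) (.node 1 (.one ⟨14533, 1, 6⟩) (.one ⟨15907, 1, 2⟩))) (.node 2 (.node 1 (.one ⟨16795, 1, 3⟩) (.one ⟨10288, 0, 6⟩)) (.node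 1 (.one ⟨3534, 0, 5⟩) (.one ⟨2807, 1, 3⟩))))) (.node 8 (.node 4 (.node 2 (.node 1 (.one ⟨11567, 1, 3⟩) (.one ⟨16724, 1, 5⟩)) (.node 1 (.one ⟨10858, 2, 5⟩) (.one ⟨15998, 1, 3⟩))) (.node 2 (.node 1 (.one ⟨2367, 2, 3⟩) (.one ⟨519, 1, 3⟩)) (.node 1 (.one ⟨5177, 0, 7⟩) (.one ⟨14599, 1, 1⟩)))) (.node 4 (.node 2 (.node 1 (.one ⟨1078, 1, 3⟩) (.one ⟨3022, 1, 4⟩)) (.node 1 (.one ⟨16440, 2, 4⟩) (.one ⟨8377, 1, 3⟩))) (.node 2 (.node 1 (.one ⟨13411, 1, 1⟩) (.one ⟨12139, 1, 2⟩)) (.node 1 (.one ⟨7994, 1, 3⟩) (.one ⟨1355, 0, 3⟩)))))))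
def par8_6_3 : Arr Par :=
  (.node 32 (.node 16 (.node 8 (.node 4 (.node 2 (.node 1 (.one ⟨575, 1, 5⟩) (.one ⟨73, 1, 3⟩)) (.node 1 (.one ⟨1491, 1, 5⟩) (.one ⟨1524, 2, 1⟩))) (.node 2 (.node 1 (.one ⟨81, 1, 1⟩) (.one ⟨603, 1, 1⟩)) (.node 1 (.one ⟨1488, 1, 2⟩) (.one ⟨16729, 1, 2⟩)))) (.node 4 (.node 2 (.node 1 (.one ⟨10377, 2, 4⟩) (.one ⟨2034, 2, 5⟩)) (.node 1 (.one ⟨10798, 2, 3⟩) (.one ⟨6716, 2, 4⟩))) (.node 2 (.node 1 (.one ⟨12517, 1, 5⟩) (.one ⟨2629, 0, 3⟩)) (.node 1 (.one ⟨15659, 2, 5⟩) (.one ⟨7215, 2, 3⟩))))) (.node 8 (.node 4 (.node 2 (.node 1 (.one ⟨10585, 2, 5⟩) (.one ⟨15303, 2, 5⟩)) (.node 1 (.one ⟨2527, 2, 6⟩) (.one ⟨2378, 1, 6⟩))) (.node 2 (.node 1 (.one ⟨9227, 2, 4⟩) (.one ⟨13323, 1, 5⟩)) (.node 1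 (.one ⟨210, 2, 5⟩) (.one ⟨6287, 1, 5⟩)))) (.node 4 (.node 2 (.node 1 (.one ⟨5689, 1, 4⟩) (.one ⟨2952, 1, 5⟩)) (.node 1 (.one ⟨13047, 2, 4⟩) (.one ⟨1885, 2, 4⟩))) (.node 2 (.node 1 (.one ⟨2400, 1, 4⟩) (.one ⟨6622, 2, 6⟩)) (.node 1 (.one ⟨6854, 2, 7⟩) (.one ⟨7161, 0, 1⟩)))))) (.node 16 (.node 8 (.node 4 (.node 2 (.node 1 (.one ⟨5480, 0, 1⟩) (.one ⟨8039, 0, 3⟩)) (.node 1 (.one ⟨1344, 0, 3⟩) (.one ⟨4235, 1, 0⟩))) (.node 2 (.node 1 (.one ⟨17123, 1, 6⟩) (.one ⟨8568, 0, 2⟩)) (.node 1 (.one ⟨14928, 1, 7⟩) (.one ⟨3092, 1, 6⟩)))) (.node 4 (.node 2 (.node 1 (.one ⟨16189, 1, 5⟩) (.one ⟨330, 0, 2⟩)) (.node 1 (.one ⟨14758, 1, 3⟩) (.one ⟨14748, 2, 5⟩))) (.node 2 (.node 1 (.one ⟨14747, 2, 6⟩) (.one ⟨14750, 2, 6⟩)) (.node 1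 (.one ⟨9249, 0, 4⟩) (.one ⟨8589, 0, 2⟩))))) (.node 8 (.node 4 (.node 2 (.node 1 (.one ⟨15115, 1, 5⟩) (.one ⟨7563, 0, 3⟩)) (.node 1 (.one ⟨3994, 0, 3⟩) (.one ⟨4252, 1, 0⟩))) (.node 2 (.node 1 (.one ⟨5538, 0, 7⟩) (.one ⟨7830, 0, 3⟩)) (.node 1 (.one ⟨3311, 1, 3⟩) (.one ⟨16772, 1, 5⟩)))) (.node 4 (.node 2 (.node 1 (.one ⟨12780, 2, 6⟩) (.one ⟨8162, 0, 5⟩)) (.node 1 (.one ⟨12830, 0, 7⟩) (.one ⟨15957, 1, 4⟩))) (.node 2 (.node 1 (.one ⟨9777, 2, 6⟩) (.one ⟨4018, 2, 6⟩)) (.node 1 (.one ⟨14358, 1, 6⟩) (.one ⟨765, 2, 2⟩)))))))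
def par8_6_4 : Arr Par :=
  (.node 32 (.node 16 (.node 8 (.node 4 (.node 2 (.node 1 (.one ⟨7776, 1, 3⟩) (.one ⟨12518, 1, 3⟩)) (.node 1 (.one ⟨2035, 2, 2⟩) (.one ⟨6333, 2, 3⟩))) (.node 2 (.node 1 (.one ⟨1204, 1, 2⟩) (.one ⟨14569, 1, 3⟩)) (.node 1 (.one ⟨1235, 0, 3⟩) (.one ⟨2802, 2, 5⟩)))) (.node 4 (.node 2 (.node 1 (.one ⟨1006, 0, 6⟩) (.one ⟨10865, 1, 3⟩)) (.node 1 (.one ⟨10309, 2, 5⟩) (.one ⟨16896, 1, 5⟩))) (.node 2 (.node 1 (.one ⟨8216, 1, 7⟩) (.one ⟨5513, 1, 5⟩)) (.node 1 (.one ⟨2804, 2, 6⟩) (.one ⟨9535, 1, 2⟩))))) (.node 8 (.node 4 (.node 2 (.node 1 (.one ⟨15619, 2, 3⟩) (.one ⟨11540, 2, 5⟩)) (.node 1 (.one ⟨502, 0, 3⟩) (.one ⟨5452, 0, 5⟩))) (.node 2 (.node 1 (.one ⟨10198, 2, 6⟩) (.one ⟨6683, 1, 5⟩)) (.node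 1 (.one ⟨12640, 1, 5⟩) (.one ⟨3362, 2, 4⟩)))) (.node 4 (.node 2 (.node 1 (.one ⟨10673, 1, 5⟩) (.one ⟨11348, 2, 3⟩)) (.node 1 (.one ⟨14362, 2, 4⟩) (.one ⟨14785, 2, 6⟩))) (.node 2 (.node 1 (.one ⟨9450, 2, 4⟩) (.one ⟨702, 1, 6⟩)) (.node 1 (.one ⟨12676, 1, 5⟩) (.one ⟨7586, 1, 3⟩)))))) (.node 16 (.node 8 (.node 4 (.node 2 (.node 1 (.one ⟨1332, 2, 5⟩) (.one ⟨15995, 0, 6⟩)) (.node 1 (.one ⟨14036, 1, 4⟩) (.one ⟨6583, 1, 4⟩))) (.node 2 (.node 1 (.one ⟨14969, 0, 3⟩) (.one ⟨1469, 1, 2⟩)) (.node 1 (.one ⟨4657, 0, 3⟩) (.one ⟨9326, 1, 2⟩)))) (.node 4 (.node 2 (.node 1 (.one ⟨37, 1, 2⟩) (.one ⟨595, 1, 2⟩)) (.node 1 (.one ⟨12645, 0, 6⟩) (.one ⟨607, 1, 1⟩))) (.node 2 (.node 1 (.one ⟨9321, 1, 2⟩) (.one ⟨1231, 0, 3⟩)) (.node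 1 (.one ⟨6310, 2, 5⟩) (.one ⟨2622, 2, 3⟩))))) (.node 8 (.node 4 (.node 2 (.node 1 (.one ⟨8450, 2, 5⟩) (.one ⟨6812, 2, 6⟩)) (.node 1 (.one ⟨12597, 1, 5⟩) (.one ⟨13906, 0, 7⟩))) (.node 2 (.node 1 (.one ⟨16388, 1, 4⟩) (.one ⟨15653, 1, 2⟩)) (.node 1 (.one ⟨11901, 2, 6⟩) (.one ⟨9175, 0, 4⟩)))) (.node 4 (.node 2 (.node 1 (.one ⟨12445, 1, 3⟩) (.one ⟨3278, 2, 4⟩)) (.node 1 (.one ⟨2252, 0, 4⟩) (.one ⟨155, 2, 6⟩))) (.node 2 (.node 1 (.one ⟨245, 1, 2⟩) (.one ⟨8173, 2, 5⟩)) (.node 1 (.one ⟨329, 1, 2⟩) (.one ⟨7769, 1, 5⟩)))))))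
def par8_6_5 : Arr Par :=
  (.node 32 (.node 16 (.node 8 (.node 4 (.node 2 (.node 1 (.one ⟨3569, 2, 5⟩) (.one ⟨4457, 0, 3⟩)) (.node 1 (.one ⟨6792, 1, 3⟩) (.one ⟨15035, 0, 2⟩))) (.node 2 (.node 1 (.one ⟨2620, 2, 5⟩) (.one ⟨12667, 1, 7⟩)) (.node 1 (.one ⟨7780, 0, 3⟩) (.one ⟨2749, 2, 4⟩)))) (.node 4 (.node 2 (.node 1 (.one ⟨2367, 1, 3⟩) (.one ⟨8314, 0, 4⟩)) (.node 1 (.one ⟨9333, 2, 6⟩) (.one ⟨9599, 2, 6⟩))) (.node 2 (.node 1 (.one ⟨10854, 2, 2⟩) (.one ⟨11897, 1, 3⟩)) (.node 1 (.one ⟨12300, 1, 4⟩) (.one ⟨9180, 0, 1⟩))))) (.node 8 (.node 4 (.node 2 (.node 1 (.one ⟨15374, 1, 5⟩) (.one ⟨9708, 1, 6⟩)) (.node 1 (.one ⟨7217, 1, 4⟩) (.one ⟨15181, 1, 6⟩))) (.node 2 (.node 1 (.one ⟨1172, 1, 2⟩) (.one ⟨7157, 1, 1⟩)) (.node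 1 (.one ⟨9646, 1, 4⟩) (.one ⟨15211, 1, 1⟩)))) (.node 4 (.node 2 (.node 1 (.one ⟨11858, 1, 4⟩) (.one ⟨8049, 0, 3⟩)) (.node 1 (.one ⟨14407, 1, 1⟩) (.one ⟨12255, 2, 4⟩))) (.node 2 (.node 1 (.one ⟨13511, 1, 1⟩) (.one ⟨6406, 2, 4⟩)) (.node 1 (.one ⟨14808, 1, 3⟩) (.one ⟨2464, 2, 5⟩)))))) (.node 16 (.node 8 (.node 4 (.node 2 (.node 1 (.one ⟨1649, 1, 3⟩) (.one ⟨15183, 2, 6⟩)) (.node 1 (.one ⟨2981, 2, 5⟩) (.one ⟨6978, 1, 4⟩))) (.node 2 (.node 1 (.one ⟨4469, 2, 4⟩) (.one ⟨4557, 2, 6⟩)) (.node 1 (.one ⟨17177, 2, 2⟩) (.one ⟨12015, 2, 5⟩)))) (.node 4 (.node 2 (.node 1 (.one ⟨12575, 2, 4⟩) (.one ⟨8167, 2, 2⟩)) (.node 1 (.one ⟨5617, 0, 4⟩) (.one ⟨13988, 2, 6⟩))) (.node 2 (.node 1 (.one ⟨14020, 2, 4⟩) (.one ⟨4431, 1, 0⟩))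 (.node 1 (.one ⟨627, 1, 4⟩) (.one ⟨15014, 2, 5⟩))))) (.node 8 (.node 4 (.node 2 (.node 1 (.one ⟨12616, 1, 4⟩) (.one ⟨16871, 1, 5⟩)) (.node 1 (.one ⟨5571, 2, 4⟩) (.one ⟨228, 1, 4⟩))) (.node 2 (.node 1 (.one ⟨14959, 0, 3⟩) (.one ⟨15039, 2, 6⟩)) (.node 1 (.one ⟨1750, 2, 5⟩) (.one ⟨7465, 0, 1⟩)))) (.node 4 (.node 2 (.node 1 (.one ⟨15588, 1, 6⟩) (.one ⟨4211, 1, 0⟩)) (.node 1 (.one ⟨5143, 1, 6⟩) (.one ⟨8827, 2, 6⟩))) (.node 2 (.node 1 (.one ⟨8408, 0, 2⟩) (.one ⟨1078, 0, 3⟩)) (.node 1 (.one ⟨7902, 1, 4⟩) (.one ⟨7809, 1, 3⟩)))))))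
def par8_6_6 : Arr Par :=
  (.node 32 (.node 16 (.node 8 (.node 4 (.node 2 (.node 1 (.one ⟨6808, 2, 4⟩) (.one ⟨9979, 2, 6⟩)) (.node 1 (.one ⟨9517, 2, 3⟩) (.one ⟨15623, 2, 6⟩))) (.node 2 (.node 1 (.one ⟨9187, 1, 2⟩) (.one ⟨15269, 0, 4⟩)) (.node 1 (.one ⟨1080, 0, 3⟩) (.one ⟨231, 0, 5⟩)))) (.node 4 (.node 2 (.node 1 (.one ⟨7415, 2, 2⟩) (.one ⟨8070, 1, 3⟩)) (.node 1 (.one ⟨4742, 1, 6⟩) (.one ⟨9764, 1, 3⟩))) (.node 2 (.node 1 (.one ⟨4154, 0, 5⟩) (.one ⟨1281, 2, 5⟩)) (.node 1 (.one ⟨9589, 0, 4⟩) (.one ⟨2945, 2, 5⟩))))) (.node 8 (.node 4 (.node 2 (.node 1 (.one ⟨2283, 1, 5⟩) (.one ⟨5228, 0, 2⟩)) (.node 1 (.one ⟨12241, 2, 5⟩) (.one ⟨10077, 0, 3⟩))) (.node 2 (.node 1 (.one ⟨2748, 2, 4⟩) (.one ⟨2510, 1, 5⟩)) (.node 1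 (.one ⟨16468, 0, 4⟩) (.one ⟨5953, 1, 2⟩)))) (.node 4 (.node 2 (.node 1 (.one ⟨7343, 2, 5⟩) (.one ⟨3545, 2, 5⟩)) (.node 1 (.one ⟨4715, 1, 3⟩) (.one ⟨8824, 2, 6⟩))) (.node 2 (.node 1 (.one ⟨16232, 2, 6⟩) (.one ⟨10826, 2, 6⟩)) (.node 1 (.one ⟨10000, 1, 4⟩) (.one ⟨10716, 1, 4⟩)))))) (.node 16 (.node 8 (.node 4 (.node 2 (.node 1 (.one ⟨3727, 0, 6⟩) (.one ⟨9588, 0, 2⟩)) (.node 1 (.one ⟨4247, 0, 2⟩) (.one ⟨14947, 2, 4⟩))) (.node 2 (.node 1 (.one ⟨16933, 0, 5⟩) (.one ⟨15083, 1, 4⟩)) (.node 1 (.one ⟨16541, 0, 4⟩) (.one ⟨9938, 2, 4⟩)))) (.node 4 (.node 2 (.node 1 (.one ⟨15025, 2, 4⟩) (.one ⟨12672, 1, 5⟩)) (.node 1 (.one ⟨182, 1, 6⟩) (.one ⟨15235, 2, 3⟩))) (.node 2 (.node 1 (.one ⟨10443, 2, 6⟩) (.one ⟨6740, 1, 6⟩)) (.node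 1 (.one ⟨15911, 1, 5⟩) (.one ⟨8034, 1, 6⟩))))) (.node 8 (.node 4 (.node 2 (.node 1 (.one ⟨7843, 2, 5⟩) (.one ⟨6402, 1, 3⟩)) (.node 1 (.one ⟨14386, 1, 5⟩) (.one ⟨2995, 0, 1⟩))) (.node 2 (.node 1 (.one ⟨17067, 2, 3⟩) (.one ⟨742, 2, 5⟩)) (.node 1 (.one ⟨17146, 0, 2⟩) (.one ⟨933, 0, 3⟩)))) (.node 4 (.node 2 (.node 1 (.one ⟨955, 2, 2⟩) (.one ⟨13890, 0, 2⟩)) (.node 1 (.one ⟨997, 2, 2⟩) (.one ⟨699, 2, 2⟩))) (.node 2 (.node 1 (.one ⟨609, 2, 1⟩) (.one ⟨745, 2, 3⟩)) (.node 1 (.one ⟨773, 2, 3⟩) (.one ⟨13822, 0, 3⟩)))))))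
def par8_6_7 : Arr Par :=
  (.node 32 (.node 16 (.node 8 (.node 4 (.node 2 (.node 1 (.one ⟨14093, 2, 5⟩) (.one ⟨14362, 1, 4⟩)) (.node 1 (.one ⟨2624, 0, 4⟩) (.one ⟨11409, 0, 5⟩))) (.node 2 (.node 1 (.one ⟨5988, 1, 4⟩) (.one ⟨15060, 1, 3⟩)) (.node 1 (.one ⟨17014, 2, 7⟩) (.one ⟨2426, 0, 3⟩)))) (.node 4 (.node 2 (.node 1 (.one ⟨9150, 1, 7⟩) (.one ⟨8665, 2, 4⟩)) (.node 1 (.one ⟨4530, 2, 5⟩) (.one ⟨12431, 0, 5⟩))) (.node 2 (.node 1 (.one ⟨10598, 2, 4⟩) (.one ⟨727, 2, 5⟩)) (.node 1 (.one ⟨8637, 0, 4⟩) (.one ⟨7316, 0, 4⟩))))) (.node 8 (.node 4 (.node 2 (.node 1 (.one ⟨9729, 2, 5⟩) (.one ⟨5004, 1, 7⟩)) (.node 1 (.one ⟨6476, 0, 3⟩) (.one ⟨13137, 1, 5⟩))) (.node 2 (.node 1 (.one ⟨15056, 0, 3⟩) (.one ⟨13892, 0, 4⟩)) (.node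 1 (.one ⟨9592, 1, 5⟩) (.one ⟨608, 1, 5⟩)))) (.node 4 (.node 2 (.node 1 (.one ⟨6098, 0, 7⟩) (.one ⟨9314, 1, 5⟩)) (.node 1 (.one ⟨72, 1, 1⟩) (.one ⟨9313, 1, 2⟩))) (.node 2 (.node 1 (.one ⟨7671, 2, 5⟩) (.one ⟨601, 1, 1⟩)) (.node 1 (.one ⟨9317, 1, 5⟩) (.one ⟨15671, 0, 4⟩)))))) (.node 16 (.node 8 (.node 4 (.node 2 (.node 1 (.one ⟨11973, 0, 5⟩) (.one ⟨6335, 2, 4⟩)) (.node 1 (.one ⟨13794, 0, 4⟩) (.one ⟨963, 2, 6⟩))) (.node 2 (.node 1 (.one ⟨12845, 2, 4⟩) (.one ⟨16007, 2, 5⟩)) (.node 1 (.one ⟨6834, 2, 5⟩) (.one ⟨14194, 1, 4⟩)))) (.node 4 (.node 2 (.node 1 (.one ⟨1653, 0, 3⟩) (.one ⟨8922, 2, 6⟩)) (.node 1 (.one ⟨1020, 1, 5⟩) (.one ⟨3286, 0, 5⟩))) (.node 2 (.node 1 (.one ⟨12786, 1, 5⟩) (.one ⟨4174, 2, 5⟩)) (.node 1 (.one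 ⟨3555, 1, 5⟩) (.one ⟨3080, 1, 3⟩))))) (.node 8 (.node 4 (.node 2 (.node 1 (.one ⟨14985, 2, 6⟩) (.one ⟨13146, 0, 5⟩)) (.node 1 (.one ⟨11701, 2, 5⟩) (.one ⟨4728, 1, 0⟩))) (.node 2 (.node 1 (.one ⟨4681, 1, 0⟩) (.one ⟨3096, 1, 5⟩)) (.node 1 (.one ⟨654, 2, 3⟩) (.one ⟨1495, 1, 2⟩)))) (.node 4 (.node 2 (.node 1 (.one ⟨2, 1, 2⟩) (.one ⟨1499, 1, 2⟩)) (.node 1 (.one ⟨12814, 0, 5⟩) (.one ⟨605, 1, 1⟩))) (.node 2 (.node 1 (.one ⟨7653, 0, 7⟩) (.one ⟨79, 1, 1⟩)) (.node 1 (.one ⟨6734, 0, 6⟩) (.one ⟨12482, 1, 1⟩)))))))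
def par8_6_8 : Arr Par :=
  (.node 32 (.node 16 (.node 8 (.node 4 (.node 2 (.node 1 (.one ⟨1325, 2, 6⟩) (.one ⟨2241, 0, 3⟩)) (.node 1 (.one ⟨14534, 1, 2⟩) (.one ⟨14705, 0, 7⟩))) (.node 2 (.node 1 (.one ⟨8158, 0, 6⟩) (.one ⟨7344, 1, 2⟩)) (.node 1 (.one ⟨13267, 0, 5⟩) (.one ⟨8926, 2, 5⟩)))) (.node 4 (.node 2 (.node 1 (.one ⟨2998, 1, 4⟩) (.one ⟨4125, 2, 6⟩)) (.node 1 (.one ⟨3695, 1, 6⟩) (.one ⟨4330, 2, 4⟩))) (.node 2 (.node 1 (.one ⟨1778, 1, 4⟩) (.one ⟨9011, 2, 5⟩)) (.node 1 (.one ⟨4530, 1, 5⟩) (.one ⟨1115, 1, 5⟩))))) (.node 8 (.node 4 (.node 2 (.node 1 (.one ⟨15521, 0, 4⟩) (.one ⟨2229, 1, 7⟩)) (.node 1 (.one ⟨10101, 0, 4⟩) (.one ⟨11787, 2, 5⟩))) (.node 2 (.node 1 (.one ⟨8089, 2, 5⟩) (.one ⟨2337, 0, 4⟩)) (.node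 1 (.one ⟨13428, 1, 5⟩) (.one ⟨10869, 0, 2⟩)))) (.node 4 (.node 2 (.node 1 (.one ⟨724, 2, 2⟩) (.one ⟨979, 2, 5⟩)) (.node 1 (.one ⟨304, 2, 3⟩) (.one ⟨1654, 0, 4⟩))) (.node 2 (.node 1 (.one ⟨164, 2, 5⟩) (.one ⟨489, 2, 5⟩)) (.node 1 (.one ⟨760, 0, 3⟩) (.one ⟨5806, 1, 5⟩)))))) (.node 16 (.node 8 (.node 4 (.node 2 (.node 1 (.one ⟨11102, 1, 6⟩) (.one ⟨17086, 1, 5⟩)) (.node 1 (.one ⟨2364, 2, 4⟩) (.one ⟨9437, 1, 5⟩))) (.node 2 (.node 1 (.one ⟨972, 0, 3⟩) (.one ⟨5443, 1, 6⟩)) (.node 1 (.one ⟨12193, 0, 5⟩) (.one ⟨13077, 2, 5⟩)))) (.node 4 (.node 2 (.node 1 (.one ⟨3026, 1, 5⟩) (.one ⟨1115, 2, 5⟩)) (.node 1 (.one ⟨2810, 1, 6⟩) (.one ⟨6927, 1, 4⟩))) (.node 2 (.node 1 (.one ⟨9094, 2, 3⟩) (.one ⟨6674, 1, 5⟩)) (.node 1 (.one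 ⟨14372, 2, 5⟩) (.one ⟨4314, 2, 6⟩))))) (.node 8 (.node 4 (.node 2 (.node 1 (.one ⟨1172, 2, 2⟩) (.one ⟨14844, 0, 5⟩)) (.node 1 (.one ⟨4283, 2, 5⟩) (.one ⟨6788, 0, 5⟩))) (.node 2 (.node 1 (.one ⟨9660, 2, 5⟩) (.one ⟨9693, 2, 6⟩)) (.node 1 (.one ⟨14930, 0, 4⟩) (.one ⟨5904, 2, 5⟩)))) (.node 4 (.node 2 (.node 1 (.one ⟨6582, 2, 3⟩) (.one ⟨4014, 0, 3⟩)) (.node 1 (.one ⟨3217, 0, 4⟩) (.one ⟨2989, 1, 3⟩))) (.node 2 (.node 1 (.one ⟨12673, 1, 3⟩) (.one ⟨4084, 1, 4⟩)) (.node 1 (.one ⟨2329, 2, 5⟩) (.one ⟨1631, 2, 3⟩)))))))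
def par8_6_9 : Arr Par :=
  (.node 32 (.node 16 (.node 8 (.node 4 (.node 2 (.node 1 (.one ⟨2777, 2, 4⟩) (.one ⟨13757, 2, 3⟩)) (.node 1 (.one ⟨14763, 2, 4⟩) (.one ⟨14684, 2, 3⟩))) (.node 2 (.node 1 (.one ⟨4532, 1, 1⟩) (.one ⟨2849, 2, 4⟩)) (.node 1 (.one ⟨122, 2, 4⟩) (.one ⟨11983, 2, 4⟩)))) (.node 4 (.node 2 (.node 1 (.one ⟨9055, 2, 6⟩) (.one ⟨6559, 2, 5⟩)) (.node 1 (.one ⟨4762, 1, 0⟩) (.one ⟨4691, 2, 4⟩))) (.node 2 (.node 1 (.one ⟨15972, 2, 3⟩) (.one ⟨15654, 1, 5⟩)) (.node 1 (.one ⟨1152, 2, 5⟩) (.one ⟨1854, 1, 5⟩))))) (.node 8 (.node 4 (.node 2 (.node 1 (.one ⟨3099, 2, 4⟩) (.one ⟨4047, 2, 5⟩)) (.node 1 (.one ⟨9486, 0, 1⟩) (.one ⟨10890, 0, 7⟩))) (.node 2 (.node 1 (.one ⟨4866, 2, 5⟩) (.one ⟨11936, 1, 3⟩)) (.node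 1 (.one ⟨8863, 2, 5⟩) (.one ⟨9454, 0, 1⟩)))) (.node 4 (.node 2 (.node 1 (.one ⟨2473, 1, 6⟩) (.one ⟨6730, 1, 1⟩)) (.node 1 (.one ⟨14516, 1, 5⟩) (.one ⟨12403, 2, 7⟩))) (.node 2 (.node 1 (.one ⟨11357, 0, 3⟩) (.one ⟨8518, 1, 1⟩)) (.node 1 (.one ⟨6462, 2, 3⟩) (.one ⟨4473, 2, 6⟩)))))) (.node 16 (.node 8 (.node 4 (.node 2 (.node 1 (.one ⟨2021, 2, 7⟩) (.one ⟨10933, 2, 6⟩)) (.node 1 (.one ⟨13401, 2, 4⟩) (.one ⟨4289, 2, 5⟩))) (.node 2 (.node 1 (.one ⟨16003, 1, 3⟩) (.one ⟨11077, 2, 6⟩)) (.node 1 (.one ⟨13572, 2, 6⟩) (.one ⟨6809, 0, 7⟩)))) (.node 4 (.node 2 (.node 1 (.one ⟨12252, 2, 4⟩) (.one ⟨6264, 1, 6⟩)) (.node 1 (.one ⟨16258, 2, 5⟩) (.one ⟨6445, 1, 4⟩))) (.node 2 (.node 1 (.one ⟨4081, 2, 4⟩) (.one ⟨1031, 0, 3⟩)) (.node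 1 (.one ⟨8278, 2, 5⟩) (.one ⟨10180, 1, 3⟩))))) (.node 8 (.node 4 (.node 2 (.node 1 (.one ⟨5101, 1, 6⟩) (.one ⟨13674, 2, 5⟩)) (.node 1 (.one ⟨3375, 2, 7⟩) (.one ⟨11075, 2, 5⟩))) (.node 2 (.node 1 (.one ⟨6315, 2, 3⟩) (.one ⟨14865, 0, 5⟩)) (.node 1 (.one ⟨13083, 1, 6⟩) (.one ⟨8593, 0, 4⟩)))) (.node 4 (.node 2 (.node 1 (.one ⟨11944, 2, 3⟩) (.one ⟨60, 1, 5⟩)) (.node 1 (.one ⟨7446, 1, 6⟩) (.one ⟨4163, 2, 4⟩))) (.node 2 (.node 1 (.one ⟨7442, 1, 5⟩) (.one ⟨529, 1, 5⟩)) (.node 1 (.one ⟨7439, 1, 5⟩) (.one ⟨10104, 0, 4⟩)))))))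
def par8_6_10 : Arr Par :=
  (.node 32 (.node 16 (.node 8 (.node 4 (.node 2 (.node 1 (.one ⟨8057, 2, 5⟩) (.one ⟨6657, 1, 4⟩)) (.node 1 (.one ⟨11530, 1, 4⟩) (.one ⟨6923, 0, 3⟩))) (.node 2 (.node 1 (.one ⟨15245, 2, 4⟩) (.one ⟨14973, 0, 5⟩)) (.node 1 (.one ⟨10986, 1, 4⟩) (.one ⟨1311, 0, 4⟩)))) (.node 4 (.node 2 (.node 1 (.one ⟨4382, 1, 2⟩) (.one ⟨3692, 1, 3⟩)) (.node 1 (.one ⟨6292, 2, 6⟩) (.one ⟨6399, 0, 3⟩))) (.node 2 (.node 1 (.one ⟨9395, 2, 3⟩) (.one ⟨14550, 1, 4⟩)) (.node 1 (.one ⟨11622, 1, 7⟩) (.one ⟨15486, 0, 6⟩))))) (.node 8 (.node 4 (.node 2 (.node 1 (.one ⟨2122, 2, 5⟩) (.one ⟨1319, 0, 5⟩)) (.node 1 (.one ⟨8222, 0, 6⟩) (.one ⟨10262, 2, 6⟩))) (.node 2 (.node 1 (.one ⟨14738, 1, 5⟩) (.one ⟨14938, 2, 4⟩))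 (.node 1 (.one ⟨15817, 2, 6⟩) (.one ⟨951, 0, 3⟩)))) (.node 4 (.node 2 (.node 1 (.one ⟨1231, 1, 3⟩) (.one ⟨15362, 2, 6⟩)) (.node 1 (.one ⟨535, 0, 4⟩) (.one ⟨944, 0, 4⟩))) (.node 2 (.node 1 (.one ⟨6764, 0, 5⟩) (.one ⟨6760, 0, 5⟩)) (.node 1 (.one ⟨2278, 1, 4⟩) (.one ⟨5149, 1, 4⟩)))))) (.node 16 (.node 8 (.node 4 (.node 2 (.node 1 (.one ⟨9573, 1, 6⟩) (.one ⟨12401, 2, 3⟩)) (.node 1 (.one ⟨9481, 0, 1⟩) (.one ⟨16461, 2, 5⟩))) (.node 2 (.node 1 (.one ⟨4508, 1, 3⟩) (.one ⟨13264, 1, 3⟩)) (.node 1 (.one ⟨1722, 1, 4⟩) (.one ⟨8021, 1, 7⟩)))) (.node 4 (.node 2 (.node 1 (.one ⟨7804, 2, 5⟩) (.one ⟨3142, 2, 2⟩)) (.node 1 (.one ⟨3626, 2, 4⟩) (.one ⟨1972, 2, 3⟩))) (.node 2 (.node 1 (.one ⟨4681, 1, 4⟩) (.one ⟨15949, 1, 4⟩)) (.node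 1 (.one ⟨635, 1, 3⟩) (.one ⟨9128, 2, 4⟩))))) (.node 8 (.node 4 (.node 2 (.node 1 (.one ⟨3022, 2, 4⟩) (.one ⟨15353, 1, 5⟩)) (.node 1 (.one ⟨7999, 1, 4⟩) (.one ⟨3269, 1, 5⟩))) (.node 2 (.node 1 (.one ⟨12114, 0, 5⟩) (.one ⟨6114, 2, 4⟩)) (.node 1 (.one ⟨1883, 0, 4⟩) (.one ⟨962, 1, 2⟩)))) (.node 4 (.node 2 (.node 1 (.one ⟨5242, 0, 3⟩) (.one ⟨5996, 1, 2⟩)) (.node 1 (.one ⟨696, 1, 3⟩) (.one ⟨473, 1, 3⟩))) (.node 2 (.node 1 (.one ⟨2739, 0, 3⟩) (.one ⟨12070, 2, 4⟩)) (.node 1 (.one ⟨219, 1, 4⟩) (.one ⟨363, 2, 3⟩)))))))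
def par8_6_11 : Arr Par :=
  (.node 32 (.node 16 (.node 8 (.node 4 (.node 2 (.node 1 (.one ⟨13279, 2, 6⟩) (.one ⟨6948, 0, 4⟩)) (.node 1 (.one ⟨10375, 0, 4⟩) (.one ⟨2450, 2, 5⟩))) (.node 2 (.node 1 (.one ⟨12842, 2, 5⟩) (.one ⟨16548, 2, 4⟩)) (.node 1 (.one ⟨11469, 1, 6⟩) (.one ⟨4314, 1, 0⟩)))) (.node 4 (.node 2 (.node 1 (.one ⟨1811, 2, 2⟩) (.one ⟨457, 1, 3⟩)) (.node 1 (.one ⟨10134, 1, 7⟩) (.one ⟨12745, 2, 4⟩))) (.node 2 (.node 1 (.one ⟨16196, 2, 5⟩) (.one ⟨10130, 1, 4⟩)) (.node 1 (.one ⟨970, 1, 4⟩) (.one ⟨8062, 2, 5⟩))))) (.node 8 (.node 4 (.node 2 (.node 1 (.one ⟨1959, 2, 5⟩) (.one ⟨9927, 1, 3⟩)) (.node 1 (.one ⟨3064, 2, 6⟩) (.one ⟨2454, 0, 5⟩))) (.node 2 (.node 1 (.one ⟨6312, 1, 7⟩) (.one ⟨2821, 2, 6⟩)) (.node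 1 (.one ⟨8466, 2, 6⟩) (.one ⟨12677, 1, 3⟩)))) (.node 4 (.node 2 (.node 1 (.one ⟨7656, 1, 7⟩) (.one ⟨11371, 1, 6⟩)) (.node 1 (.one ⟨6328, 1, 4⟩) (.one ⟨15127, 0, 3⟩))) (.node 2 (.node 1 (.one ⟨14275, 2, 7⟩) (.one ⟨9822, 2, 7⟩)) (.node 1 (.one ⟨10014, 0, 3⟩) (.one ⟨11559, 2, 5⟩)))))) (.node 16 (.node 8 (.node 4 (.node 2 (.node 1 (.one ⟨12460, 2, 6⟩) (.one ⟨6091, 2, 6⟩)) (.node 1 (.one ⟨196, 0, 7⟩) (.one ⟨12715, 1, 6⟩))) (.node 2 (.node 1 (.one ⟨17181, 0, 5⟩) (.one ⟨9720, 2, 5⟩)) (.node 1 (.one ⟨12949, 2, 4⟩) (.one ⟨17194, 0, 3⟩)))) (.node 4 (.node 2 (.node 1 (.one ⟨6355, 2, 7⟩) (.one ⟨6704, 0, 3⟩)) (.node 1 (.one ⟨5198, 1, 4⟩) (.one ⟨6924, 0, 3⟩))) (.node 2 (.node 1 (.one ⟨14461, 1, 4⟩) (.one ⟨17000, 1, 7⟩))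 (.node 1 (.one ⟨12035, 0, 2⟩) (.one ⟨13581, 1, 5⟩))))) (.node 8 (.node 4 (.node 2 (.node 1 (.one ⟨6349, 2, 4⟩) (.one ⟨2442, 0, 6⟩)) (.node 1 (.one ⟨4531, 1, 1⟩) (.one ⟨9313, 2, 2⟩))) (.node 2 (.node 1 (.one ⟨593, 2, 2⟩) (.one ⟨1770, 1, 4⟩)) (.node 1 (.one ⟨6675, 0, 6⟩) (.one ⟨9103, 2, 2⟩)))) (.node 4 (.node 2 (.node 1 (.one ⟨9964, 2, 5⟩) (.one ⟨3368, 1, 3⟩)) (.node 1 (.one ⟨10370, 1, 6⟩) (.one ⟨10550, 2, 5⟩))) (.node 2 (.node 1 (.one ⟨8550, 2, 6⟩) (.one ⟨6268, 1, 6⟩)) (.node 1 (.one ⟨1794, 0, 7⟩) (.one ⟨7468, 2, 6⟩)))))))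
def par8_6_12 : Arr Par :=
  (.node 32 (.node 16 (.node 8 (.node 4 (.node 2 (.node 1 (.one ⟨9659, 1, 5⟩) (.one ⟨14978, 1, 7⟩)) (.node 1 (.one ⟨5604, 1, 5⟩) (.one ⟨14132, 1, 3⟩))) (.node 2 (.node 1 (.one ⟨6758, 1, 7⟩) (.one ⟨2203, 1, 5⟩)) (.node 1 (.one ⟨10905, 1, 7⟩) (.one ⟨7303, 2, 4⟩)))) (.node 4 (.node 2 (.node 1 (.one ⟨1522, 2, 6⟩) (.one ⟨13325, 1, 2⟩)) (.node 1 (.one ⟨4849, 1, 5⟩) (.one ⟨68, 2, 2⟩))) (.node 2 (.node 1 (.one ⟨7258, 2, 2⟩) (.one ⟨536, 0, 5⟩)) (.node 1 (.one ⟨2075, 0, 6⟩) (.one ⟨15341, 2, 3⟩))))) (.node 8 (.node 4 (.node 2 (.node 1 (.one ⟨9640, 2, 6⟩) (.one ⟨1147, 1, 3⟩)) (.node 1 (.one ⟨14677, 0, 6⟩) (.one ⟨16916, 1, 4⟩))) (.node 2 (.node 1 (.one ⟨7832, 2, 2⟩) (.one ⟨12091, 0, 6⟩)) (.node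 1 (.one ⟨15810, 2, 4⟩) (.one ⟨6124, 0, 6⟩)))) (.node 4 (.node 2 (.node 1 (.one ⟨6985, 0, 4⟩) (.one ⟨12440, 0, 5⟩)) (.node 1 (.one ⟨13398, 0, 5⟩) (.one ⟨4932, 2, 3⟩))) (.node 2 (.node 1 (.one ⟨7048, 1, 4⟩) (.one ⟨5173, 0, 3⟩)) (.node 1 (.one ⟨2896, 1, 6⟩) (.one ⟨5131, 1, 5⟩)))))) (.node 16 (.node 8 (.node 4 (.node 2 (.node 1 (.one ⟨3255, 1, 4⟩) (.one ⟨1207, 1, 5⟩)) (.node 1 (.one ⟨3580, 1, 3⟩) (.one ⟨2706, 0, 5⟩))) (.node 2 (.node 1 (.one ⟨10779, 2, 3⟩) (.one ⟨15364, 1, 5⟩)) (.node 1 (.one ⟨6489, 2, 4⟩) (.one ⟨6563, 0, 5⟩)))) (.node 4 (.node 2 (.node 1 (.one ⟨16664, 2, 2⟩) (.one ⟨659, 0, 5⟩)) (.node 1 (.one ⟨4566, 2, 4⟩) (.one ⟨4824, 1, 6⟩))) (.node 2 (.node 1 (.one ⟨10750, 1, 5⟩) (.one ⟨6859, 0, 5⟩)) (.node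 1 (.one ⟨7438, 0, 5⟩) (.one ⟨5842, 1, 5⟩))))) (.node 8 (.node 4 (.node 2 (.node 1 (.one ⟨1878, 2, 5⟩) (.one ⟨15365, 2, 4⟩)) (.node 1 (.one ⟨16448, 1, 2⟩) (.one ⟨16890, 0, 2⟩))) (.node 2 (.node 1 (.one ⟨9285, 1, 1⟩) (.one ⟨8011, 2, 3⟩)) (.node 1 (.one ⟨13563, 2, 5⟩) (.one ⟨15135, 2, 5⟩)))) (.node 4 (.node 2 (.node 1 (.one ⟨11143, 1, 4⟩) (.one ⟨13842, 0, 4⟩)) (.node 1 (.one ⟨819, 2, 4⟩) (.one ⟨14115, 0, 6⟩))) (.node 2 (.node 1 (.one ⟨11024, 0, 4⟩) (.one ⟨15345, 2, 4⟩)) (.node 1 (.one ⟨10780, 2, 6⟩) (.one ⟨5999, 0, 3⟩)))))))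
def par8_6_13 : Arr Par :=
  (.node 32 (.node 16 (.node 8 (.node 4 (.node 2 (.node 1 (.one ⟨13845, 0, 5⟩) (.one ⟨2529, 0, 3⟩)) (.node 1 (.one ⟨5590, 1, 3⟩) (.one ⟨8877, 1, 5⟩))) (.node 2 (.node 1 (.one ⟨3172, 0, 4⟩) (.one ⟨6273, 1, 6⟩)) (.node 1 (.one ⟨6589, 0, 4⟩) (.one ⟨17093, 2, 3⟩)))) (.node 4 (.node 2 (.node 1 (.one ⟨1384, 1, 7⟩) (.one ⟨3869, 2, 3⟩)) (.node 1 (.one ⟨15177, 1, 2⟩) (.one ⟨112, 1, 3⟩))) (.node 2 (.node 1 (.one ⟨15898, 0, 4⟩) (.one ⟨15226, 1, 5⟩)) (.node 1 (.one ⟨3288, 1, 7⟩) (.one ⟨7144, 0, 3⟩))))) (.node 8 (.node 4 (.node 2 (.node 1 (.one ⟨8548, 1, 5⟩) (.one ⟨11432, 2, 7⟩)) (.node 1 (.one ⟨10942, 1, 6⟩) (.one ⟨1093, 0, 3⟩))) (.node 2 (.node 1 (.one ⟨8120, 1, 4⟩) (.one ⟨6636, 2, 6⟩)) (.node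 1 (.one ⟨10471, 1, 4⟩) (.one ⟨2144, 2, 5⟩)))) (.node 4 (.node 2 (.node 1 (.one ⟨11555, 0, 2⟩) (.one ⟨5729, 1, 5⟩)) (.node 1 (.one ⟨8020, 1, 6⟩) (.one ⟨4826, 1, 5⟩))) (.node 2 (.node 1 (.one ⟨3052, 1, 2⟩) (.one ⟨11758, 1, 5⟩)) (.node 1 (.one ⟨9138, 1, 5⟩) (.one ⟨6242, 0, 6⟩)))))) (.node 16 (.node 8 (.node 4 (.node 2 (.node 1 (.one ⟨662, 0, 5⟩) (.one ⟨2381, 2, 3⟩)) (.node 1 (.one ⟨2484, 0, 5⟩) (.one ⟨14910, 2, 4⟩))) (.node 2 (.node 1 (.one ⟨7941, 2, 4⟩) (.one ⟨7910, 2, 5⟩)) (.node 1 (.one ⟨15021, 2, 5⟩) (.one ⟨7719, 2, 7⟩)))) (.node 4 (.node 2 (.node 1 (.one ⟨4860, 0, 7⟩) (.one ⟨10172, 0, 5⟩)) (.node 1 (.one ⟨14569, 2, 3⟩) (.one ⟨11416, 0, 3⟩))) (.node 2 (.node 1 (.one ⟨4188, 1, 5⟩) (.one ⟨12262, 2, 6⟩)) (.node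 1 (.one ⟨4496, 1, 4⟩) (.one ⟨2927, 0, 1⟩))))) (.node 8 (.node 4 (.node 2 (.node 1 (.one ⟨6527, 2, 4⟩) (.one ⟨4293, 1, 0⟩)) (.node 1 (.one ⟨5221, 0, 5⟩) (.one ⟨3114, 2, 6⟩))) (.node 2 (.node 1 (.one ⟨10082, 0, 5⟩) (.one ⟨12850, 1, 5⟩)) (.node 1 (.one ⟨16062, 1, 3⟩) (.one ⟨14466, 1, 4⟩)))) (.node 4 (.node 2 (.node 1 (.one ⟨896, 1, 3⟩) (.one ⟨9426, 1, 7⟩)) (.node 1 (.one ⟨8613, 2, 2⟩) (.one ⟨2297, 1, 7⟩))) (.node 2 (.node 1 (.one ⟨13782, 1, 2⟩) (.one ⟨5777, 1, 2⟩)) (.node 1 (.one ⟨11728, 2, 3⟩) (.one ⟨11028, 0, 4⟩)))))))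
def par8_6_14 : Arr Par :=
  (.node 32 (.node 16 (.node 8 (.node 4 (.node 2 (.node 1 (.one ⟨11083, 1, 4⟩) (.one ⟨9414, 2, 3⟩)) (.node 1 (.one ⟨17059, 1, 4⟩) (.one ⟨16600, 2, 6⟩))) (.node 2 (.node 1 (.one ⟨15139, 2, 1⟩) (.one ⟨10867, 0, 3⟩)) (.node 1 (.one ⟨10611, 1, 4⟩) (.one ⟨706, 1, 2⟩)))) (.node 4 (.node 2 (.node 1 (.one ⟨1159, 0, 3⟩) (.one ⟨16445, 1, 7⟩)) (.node 1 (.one ⟨6528, 0, 5⟩) (.one ⟨10232, 2, 5⟩))) (.node 2 (.node 1 (.one ⟨15130, 0, 5⟩) (.one ⟨14784, 0, 3⟩)) (.node 1 (.one ⟨11417, 0, 4⟩) (.one ⟨12127, 2, 2⟩))))) (.node 8 (.node 4 (.node 2 (.node 1 (.one ⟨9283, 1, 7⟩) (.one ⟨3700, 2, 5⟩)) (.node 1 (.one ⟨12947, 2, 5⟩) (.one ⟨5259, 1, 3⟩))) (.node 2 (.node 1 (.one ⟨2770, 1, 6⟩) (.one ⟨6643, 1, 1⟩))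 (.node 1 (.one ⟨2996, 2, 6⟩) (.one ⟨13473, 0, 4⟩)))) (.node 4 (.node 2 (.node 1 (.one ⟨9555, 1, 1⟩) (.one ⟨16870, 1, 6⟩)) (.node 1 (.one ⟨11814, 1, 5⟩) (.one ⟨15794, 1, 5⟩))) (.node 2 (.node 1 (.one ⟨13598, 1, 5⟩) (.one ⟨14206, 1, 1⟩)) (.node 1 (.one ⟨13137, 2, 5⟩) (.one ⟨3741, 2, 5⟩)))))) (.node 16 (.node 8 (.node 4 (.node 2 (.node 1 (.one ⟨10962, 2, 5⟩) (.one ⟨8597, 2, 5⟩)) (.node 1 (.one ⟨4529, 1, 6⟩) (.one ⟨13409, 1, 4⟩))) (.node 2 (.node 1 (.one ⟨12760, 2, 5⟩) (.one ⟨6668, 2, 5⟩)) (.node 1 (.one ⟨15680, 2, 7⟩) (.one ⟨2307, 2, 5⟩)))) (.node 4 (.node 2 (.node 1 (.one ⟨7115, 1, 5⟩) (.one ⟨2650, 2, 6⟩)) (.node 1 (.one ⟨14989, 1, 7⟩) (.one ⟨6584, 0, 3⟩))) (.node 2 (.node 1 (.one ⟨5323, 1, 4⟩) (.one ⟨2219, 2,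 5⟩)) (.node 1 (.one ⟨3550, 2, 6⟩) (.one ⟨6441, 1, 3⟩))))) (.node 8 (.node 4 (.node 2 (.node 1 (.one ⟨15224, 1, 2⟩) (.one ⟨495, 1, 3⟩)) (.node 1 (.one ⟨10888, 1, 6⟩) (.one ⟨2398, 1, 7⟩))) (.node 2 (.node 1 (.one ⟨10732, 2, 6⟩) (.one ⟨5654, 1, 7⟩)) (.node 1 (.one ⟨2008, 2, 3⟩) (.one ⟨14780, 2, 4⟩)))) (.node 4 (.node 2 (.node 1 (.one ⟨4712, 0, 3⟩) (.one ⟨8704, 2, 3⟩)) (.node 1 (.one ⟨7588, 1, 2⟩) (.one ⟨7045, 1, 4⟩))) (.node 2 (.node 1 (.one ⟨12728, 0, 3⟩) (.one ⟨6591, 1, 4⟩)) (.node 1 (.one ⟨4479, 2, 5⟩) (.one ⟨11881, 1, 6⟩)))))))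
def par8_6_15 : Arr Par :=
  (.node 32 (.node 16 (.node 8 (.node 4 (.node 2 (.node 1 (.one ⟨2054, 2, 3⟩) (.one ⟨11916, 1, 3⟩)) (.node 1 (.one ⟨3767, 1, 2⟩) (.one ⟨3884, 1, 6⟩))) (.node 2 (.node 1 (.one ⟨11866, 1, 5⟩) (.one ⟨5491, 2, 3⟩)) (.node 1 (.one ⟨11902, 1, 4⟩) (.one ⟨3863, 1, 5⟩)))) (.node 4 (.node 2 (.node 1 (.one ⟨3877, 1, 5⟩) (.one ⟨2053, 2, 5⟩)) (.node 1 (.one ⟨11035, 2, 5⟩) (.one ⟨5625, 2, 4⟩))) (.node 2 (.node 1 (.one ⟨14770, 2, 3⟩) (.one ⟨8141, 0, 7⟩)) (.node 1 (.one ⟨15991, 1, 5⟩) (.one ⟨7791, 2, 6⟩))))) (.node 8 (.node 4 (.node 2 (.node 1 (.one ⟨15745, 2, 6⟩) (.one ⟨5303, 1, 5⟩)) (.node 1 (.one ⟨6568, 0, 5⟩) (.one ⟨6458, 1, 5⟩))) (.node 2 (.node 1 (.one ⟨10085, 2, 4⟩) (.one ⟨7378, 1, 6⟩)) (.node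 1 (.one ⟨8439, 1, 5⟩) (.one ⟨14781, 2, 5⟩)))) (.node 4 (.node 2 (.node 1 (.one ⟨15907, 2, 2⟩) (.one ⟨8160, 0, 6⟩)) (.node 1 (.one ⟨12859, 0, 5⟩) (.one ⟨842, 0, 6⟩))) (.node 2 (.node 1 (.one ⟨14761, 2, 3⟩) (.one ⟨10458, 0, 6⟩)) (.node 1 (.one ⟨6771, 0, 6⟩) (.one ⟨219, 0, 4⟩)))))) (.node 16 (.node 8 (.node 4 (.node 2 (.node 1 (.one ⟨9837, 1, 7⟩) (.one ⟨980, 0, 4⟩)) (.node 1 (.one ⟨15276, 0, 5⟩) (.one ⟨993, 2, 6⟩))) (.node 2 (.node 1 (.one ⟨9789, 1, 3⟩) (.one ⟨15277, 0, 5⟩)) (.node 1 (.one ⟨295, 1, 4⟩) (.one ⟨11421, 0, 2⟩)))) (.node 4 (.node 2 (.node 1 (.one ⟨641, 2, 2⟩) (.one ⟨11038, 0, 7⟩)) (.node 1 (.one ⟨368, 2, 3⟩) (.one ⟨835, 2, 3⟩))) (.node 2 (.node 1 (.one ⟨404, 2, 6⟩) (.one ⟨17075, 1, 6⟩)) (.node 1 (.one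 ⟨2340, 0, 2⟩) (.one ⟨14803, 0, 4⟩))))) (.node 8 (.node 4 (.node 2 (.node 1 (.one ⟨3028, 2, 3⟩) (.one ⟨7812, 1, 4⟩)) (.node 1 (.one ⟨17104, 1, 5⟩) (.one ⟨1252, 1, 2⟩))) (.node 2 (.node 1 (.one ⟨11460, 1, 4⟩) (.one ⟨4656, 1, 0⟩)) (.node 1 (.one ⟨3725, 1, 6⟩) (.one ⟨10351, 2, 4⟩)))) (.node 4 (.node 2 (.node 1 (.one ⟨9559, 2, 6⟩) (.one ⟨4439, 1, 0⟩)) (.node 1 (.one ⟨13306, 1, 7⟩) (.one ⟨15503, 0, 6⟩))) (.node 2 (.node 1 (.one ⟨15040, 0, 3⟩) (.one ⟨12775, 2, 4⟩)) (.node 1 (.one ⟨13159, 2, 4⟩) (.one ⟨16781, 1, 5⟩)))))))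
def par8_6 : Arr Par :=
  (.node 512 (.node 256 (.node 128 (.node 64 par8_6_0 par8_6_1) (.node 64 par8_6_2 par8_6_3)) (.node 128 (.node 64 par8_6_4 par8_6_5) (.node 64 par8_6_6 par8_6_7))) (.node 256 (.node 128 (.node 64 par8_6_8 par8_6_9) (.node 64 par8_6_10 par8_6_11)) (.node 128 (.node 64 par8_6_12 par8_6_13) (.node 64 par8_6_14 par8_6_15))))
def par8_7_0 : Arr Par :=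
  (.node 32 (.node 16 (.node 8 (.node 4 (.node 2 (.node 1 (.one ⟨5995, 0, 5⟩) (.one ⟨4338, 0, 2⟩)) (.node 1 (.one ⟨7652, 1, 6⟩) (.one ⟨4915, 0, 5⟩))) (.node 2 (.node 1 (.one ⟨15387, 0, 4⟩) (.one ⟨12243, 1, 6⟩)) (.node 1 (.one ⟨5841, 1, 5⟩) (.one ⟨7376, 1, 2⟩)))) (.node 4 (.node 2 (.node 1 (.one ⟨7966, 1, 5⟩) (.one ⟨5555, 2, 5⟩)) (.node 1 (.one ⟨762, 1, 6⟩) (.one ⟨4699, 1, 6⟩))) (.node 2 (.node 1 (.one ⟨1715, 2, 5⟩) (.one ⟨6934, 1, 5⟩)) (.node 1 (.one ⟨5685, 2, 5⟩) (.one ⟨12481, 2, 4⟩))))) (.node 8 (.node 4 (.node 2 (.node 1 (.one ⟨4979, 2, 2⟩) (.one ⟨16056, 0, 4⟩)) (.node 1 (.one ⟨12479, 2, 5⟩) (.one ⟨4976, 2, 1⟩))) (.node 2 (.node 1 (.one ⟨5785, 1, 4⟩) (.one ⟨15536, 1, 4⟩)) (.node 1 (.one ⟨1997, 1, 4⟩) (.one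 ⟨7546, 1, 3⟩)))) (.node 4 (.node 2 (.node 1 (.one ⟨15535, 1, 2⟩) (.one ⟨5455, 2, 4⟩)) (.node 1 (.one ⟨2903, 0, 2⟩) (.one ⟨9741, 1, 2⟩))) (.node 2 (.node 1 (.one ⟨1315, 1, 3⟩) (.one ⟨8664, 2, 4⟩)) (.node 1 (.one ⟨656, 2, 4⟩) (.one ⟨12739, 1, 6⟩)))))) (.node 16 (.node 8 (.node 4 (.node 2 (.node 1 (.one ⟨6855, 2, 1⟩) (.one ⟨6841, 2, 3⟩)) (.node 1 (.one ⟨4139, 1, 6⟩) (.one ⟨13020, 1, 7⟩))) (.node 2 (.node 1 (.one ⟨16739, 0, 2⟩) (.one ⟨15439, 0, 5⟩)) (.node 1 (.one ⟨16561, 0, 5⟩) (.one ⟨14535, 2, 3⟩)))) (.node 4 (.node 2 (.node 1 (.one ⟨6110, 2, 4⟩) (.one ⟨843, 2, 3⟩)) (.node 1 (.one ⟨10520, 2, 4⟩) (.one ⟨9944, 2, 4⟩))) (.node 2 (.node 1 (.one ⟨2637, 2, 4⟩) (.one ⟨6301, 2, 3⟩)) (.node 1 (.one ⟨13751, 2, 3⟩) (.one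 ⟨11855, 1, 2⟩))))) (.node 8 (.node 4 (.node 2 (.node 1 (.one ⟨3950, 2, 4⟩) (.one ⟨16568, 2, 3⟩)) (.node 1 (.one ⟨15323, 0, 3⟩) (.one ⟨11554, 1, 3⟩))) (.node 2 (.node 1 (.one ⟨7783, 2, 5⟩) (.one ⟨1070, 1, 4⟩)) (.node 1 (.one ⟨15591, 2, 5⟩) (.one ⟨456, 2, 2⟩)))) (.node 4 (.node 2 (.node 1 (.one ⟨2702, 1, 6⟩) (.one ⟨16854, 1, 7⟩)) (.node 1 (.one ⟨6860, 1, 6⟩) (.one ⟨8694, 1, 6⟩))) (.node 2 (.node 1 (.one ⟨7860, 2, 2⟩) (.one ⟨4202, 1, 5⟩)) (.node 1 (.one ⟨11461, 2, 6⟩) (.one ⟨2630, 1, 6⟩)))))))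
def par8_7_1 : Arr Par :=
  (.node 32 (.node 16 (.node 8 (.node 4 (.node 2 (.node 1 (.one ⟨8766, 0, 4⟩) (.one ⟨3719, 0, 6⟩)) (.node 1 (.one ⟨16032, 0, 5⟩) (.one ⟨8621, 1, 6⟩))) (.node 2 (.node 1 (.one ⟨12395, 1, 5⟩) (.one ⟨10205, 0, 4⟩)) (.node 1 (.one ⟨6181, 0, 5⟩) (.one ⟨3754, 1, 5⟩)))) (.node 4 (.node 2 (.node 1 (.one ⟨11800, 1, 4⟩) (.one ⟨9933, 1, 6⟩)) (.node 1 (.one ⟨1848, 1, 5⟩) (.one ⟨1891, 1, 6⟩))) (.node 2 (.node 1 (.one ⟨9939, 1, 7⟩) (.one ⟨11778, 1, 4⟩)) (.node 1 (.one ⟨3698, 1, 5⟩) (.one ⟨14011, 0, 4⟩))))) (.node 8 (.node 4 (.node 2 (.node 1 (.one ⟨4403, 0, 5⟩) (.one ⟨12653, 2, 4⟩)) (.node 1 (.one ⟨7159, 0, 5⟩) (.one ⟨1165, 1, 6⟩))) (.node 2 (.node 1 (.one ⟨13927, 1, 5⟩) (.one ⟨10209, 0, 4⟩)) (.node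 1 (.one ⟨8263, 0, 5⟩) (.one ⟨2417, 1, 3⟩)))) (.node 4 (.node 2 (.node 1 (.one ⟨11189, 1, 4⟩) (.one ⟨11736, 2, 2⟩)) (.node 1 (.one ⟨9605, 1, 1⟩) (.one ⟨10831, 1, 3⟩))) (.node 2 (.node 1 (.one ⟨665, 1, 4⟩) (.one ⟨16443, 2, 4⟩)) (.node 1 (.one ⟨307, 2, 4⟩) (.one ⟨3372, 1, 3⟩)))))) (.node 16 (.node 8 (.node 4 (.node 2 (.node 1 (.one ⟨10389, 1, 5⟩) (.one ⟨15491, 1, 6⟩)) (.node 1 (.one ⟨6222, 1, 7⟩) (.one ⟨6806, 1, 7⟩))) (.node 2 (.node 1 (.one ⟨14870, 2, 5⟩) (.one ⟨16721, 2, 2⟩)) (.node 1 (.one ⟨735, 1, 3⟩) (.one ⟨11479, 1, 3⟩)))) (.node 4 (.node 2 (.node 1 (.one ⟨3848, 2, 5⟩) (.one ⟨8628, 0, 4⟩)) (.node 1 (.one ⟨13743, 1, 5⟩) (.one ⟨1926, 2, 4⟩))) (.node 2 (.node 1 (.one ⟨1314, 1, 3⟩) (.one ⟨2237, 2, 5⟩)) (.node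 1 (.one ⟨767, 2, 4⟩) (.one ⟨7403, 0, 6⟩))))) (.node 8 (.node 4 (.node 2 (.node 1 (.one ⟨9144, 2, 6⟩) (.one ⟨14254, 2, 5⟩)) (.node 1 (.one ⟨1922, 2, 4⟩) (.one ⟨15179, 0, 6⟩))) (.node 2 (.node 1 (.one ⟨15816, 1, 2⟩) (.one ⟨6929, 2, 4⟩)) (.node 1 (.one ⟨11093, 2, 5⟩) (.one ⟨11455, 2, 6⟩)))) (.node 4 (.node 2 (.node 1 (.one ⟨15950, 0, 4⟩) (.one ⟨15616, 2, 5⟩)) (.node 1 (.one ⟨5718, 2, 6⟩) (.one ⟨7658, 1, 5⟩))) (.node 2 (.node 1 (.one ⟨13322, 1, 2⟩) (.one ⟨8784, 0, 4⟩)) (.node 1 (.one ⟨15548, 2, 6⟩) (.one ⟨17192, 0, 5⟩)))))))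
def par8_7_2 : Arr Par :=
  (.node 32 (.node 16 (.node 8 (.node 4 (.node 2 (.node 1 (.one ⟨12847, 1, 3⟩) (.one ⟨17001, 1, 6⟩)) (.node 1 (.one ⟨9807, 1, 4⟩) (.one ⟨13249, 0, 7⟩))) (.node 2 (.node 1 (.one ⟨11828, 2, 5⟩) (.one ⟨491, 0, 7⟩)) (.node 1 (.one ⟨13670, 2, 7⟩) (.one ⟨15393, 0, 3⟩)))) (.node 4 (.node 2 (.node 1 (.one ⟨6715, 2, 4⟩) (.one ⟨6171, 2, 5⟩)) (.node 1 (.one ⟨5619, 2, 1⟩) (.one ⟨7613, 1, 6⟩))) (.node 2 (.node 1 (.one ⟨5695, 1, 5⟩) (.one ⟨2813, 2, 4⟩)) (.node 1 (.one ⟨3758, 1, 7⟩) (.one ⟨601, 2, 1⟩))))) (.node 8 (.node 4 (.node 2 (.node 1 (.one ⟨10909, 2, 6⟩) (.one ⟨16581, 0, 5⟩)) (.node 1 (.one ⟨11733, 0, 5⟩) (.one ⟨5933, 1, 3⟩))) (.node 2 (.node 1 (.one ⟨10889, 2, 3⟩) (.one ⟨1480, 1, 3⟩)) (.node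 1 (.one ⟨13699, 1, 4⟩) (.one ⟨1743, 0, 4⟩)))) (.node 4 (.node 2 (.node 1 (.one ⟨1402, 1, 3⟩) (.one ⟨7837, 0, 4⟩)) (.node 1 (.one ⟨6457, 1, 5⟩) (.one ⟨6485, 1, 2⟩))) (.node 2 (.node 1 (.one ⟨875, 2, 5⟩) (.one ⟨15477, 0, 6⟩)) (.node 1 (.one ⟨4303, 0, 3⟩) (.one ⟨4827, 2, 5⟩)))))) (.node 16 (.node 8 (.node 4 (.node 2 (.node 1 (.one ⟨1447, 2, 5⟩) (.one ⟨12941, 0, 2⟩)) (.node 1 (.one ⟨16645, 1, 6⟩) (.one ⟨9996, 0, 5⟩))) (.node 2 (.node 1 (.one ⟨6084, 2, 5⟩) (.one ⟨4227, 2, 3⟩)) (.node 1 (.one ⟨3430, 2, 5⟩) (.one ⟨7146, 0, 4⟩)))) (.node 4 (.node 2 (.node 1 (.one ⟨362, 2, 5⟩) (.one ⟨123, 2, 5⟩)) (.node 1 (.one ⟨72, 2, 1⟩) (.one ⟨14440, 0, 2⟩))) (.node 2 (.node 1 (.one ⟨925, 2, 3⟩) (.one ⟨583, 2, 2⟩)) (.node 1 (.one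 ⟨653, 2, 3⟩) (.one ⟨6977, 1, 4⟩))))) (.node 8 (.node 4 (.node 2 (.node 1 (.one ⟨7985, 2, 1⟩) (.one ⟨6418, 2, 4⟩)) (.node 1 (.one ⟨7601, 2, 5⟩) (.one ⟨2589, 1, 4⟩))) (.node 2 (.node 1 (.one ⟨16862, 0, 5⟩) (.one ⟨1301, 0, 4⟩)) (.node 1 (.one ⟨6219, 1, 5⟩) (.one ⟨1004, 1, 3⟩)))) (.node 4 (.node 2 (.node 1 (.one ⟨7829, 1, 7⟩) (.one ⟨3137, 2, 2⟩)) (.node 1 (.one ⟨9159, 1, 3⟩) (.one ⟨14295, 0, 4⟩))) (.node 2 (.node 1 (.one ⟨10267, 1, 1⟩) (.one ⟨1339, 0, 6⟩)) (.node 1 (.one ⟨7857, 1, 4⟩) (.one ⟨10503, 2, 5⟩)))))))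
def par8_7_3 : Arr Par :=
  (.node 32 (.node 16 (.node 8 (.node 4 (.node 2 (.node 1 (.one ⟨5328, 0, 5⟩) (.one ⟨7599, 2, 3⟩)) (.node 1 (.one ⟨9280, 2, 5⟩) (.one ⟨1342, 0, 4⟩))) (.node 2 (.node 1 (.one ⟨148, 1, 2⟩) (.one ⟨518, 2, 6⟩)) (.node 1 (.one ⟨3422, 0, 4⟩) (.one ⟨3818, 0, 4⟩)))) (.node 4 (.node 2 (.node 1 (.one ⟨12106, 0, 4⟩) (.one ⟨186, 1, 6⟩)) (.node 1 (.one ⟨3402, 2, 5⟩) (.one ⟨7379, 0, 3⟩))) (.node 2 (.node 1 (.one ⟨15010, 1, 7⟩) (.one ⟨2107, 2, 4⟩)) (.node 1 (.one ⟨10766, 2, 4⟩) (.one ⟨2727, 2, 2⟩))))) (.node 8 (.node 4 (.node 2 (.node 1 (.one ⟨8305, 2, 1⟩) (.one ⟨7874, 2, 4⟩)) (.node 1 (.one ⟨2217, 2, 5⟩) (.one ⟨2223, 2, 2⟩))) (.node 2 (.node 1 (.one ⟨8169, 2, 1⟩) (.one ⟨8348, 1, 6⟩)) (.node 1 (.one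 ⟨6627, 0, 7⟩) (.one ⟨12554, 1, 1⟩)))) (.node 4 (.node 2 (.node 1 (.one ⟨11493, 1, 4⟩) (.one ⟨16012, 1, 5⟩)) (.node 1 (.one ⟨14906, 1, 4⟩) (.one ⟨8972, 1, 6⟩))) (.node 2 (.node 1 (.one ⟨1898, 2, 7⟩) (.one ⟨4767, 1, 6⟩)) (.node 1 (.one ⟨3396, 0, 4⟩) (.one ⟨1335, 0, 5⟩)))))) (.node 16 (.node 8 (.node 4 (.node 2 (.node 1 (.one ⟨8056, 1, 4⟩) (.one ⟨655, 0, 4⟩)) (.node 1 (.one ⟨15714, 1, 5⟩) (.one ⟨4300, 0, 4⟩))) (.node 2 (.node 1 (.one ⟨2456, 2, 5⟩) (.one ⟨10562, 1, 5⟩)) (.node 1 (.one ⟨3421, 0, 5⟩) (.one ⟨15373, 1, 5⟩)))) (.node 4 (.node 2 (.node 1 (.one ⟨10557, 1, 4⟩) (.one ⟨3855, 2, 5⟩)) (.node 1 (.one ⟨2595, 1, 4⟩) (.one ⟨12938, 2, 5⟩))) (.node 2 (.node 1 (.one ⟨7729, 2, 6⟩) (.one ⟨205, 1, 4⟩)) (.node 1 (.one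 ⟨6153, 2, 5⟩) (.one ⟨4270, 1, 5⟩))))) (.node 8 (.node 4 (.node 2 (.node 1 (.one ⟨11991, 1, 2⟩) (.one ⟨894, 2, 5⟩)) (.node 1 (.one ⟨5730, 2, 4⟩) (.one ⟨16449, 1, 2⟩))) (.node 2 (.node 1 (.one ⟨8525, 1, 3⟩) (.one ⟨11140, 0, 2⟩)) (.node 1 (.one ⟨2401, 2, 5⟩) (.one ⟨1249, 1, 1⟩)))) (.node 4 (.node 2 (.node 1 (.one ⟨8752, 1, 3⟩) (.one ⟨10648, 2, 4⟩)) (.node 1 (.one ⟨17095, 1, 4⟩) (.one ⟨16873, 0, 7⟩))) (.node 2 (.node 1 (.one ⟨5895, 1, 3⟩) (.one ⟨13591, 1, 4⟩)) (.node 1 (.one ⟨9199, 0, 5⟩) (.one ⟨13668, 1, 6⟩)))))))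
def par8_7_4 : Arr Par :=
  (.node 32 (.node 16 (.node 8 (.node 4 (.node 2 (.node 1 (.one ⟨4318, 1, 6⟩) (.one ⟨9250, 2, 1⟩)) (.node 1 (.one ⟨12392, 1, 3⟩) (.one ⟨622, 1, 7⟩))) (.node 2 (.node 1 (.one ⟨14864, 2, 5⟩) (.one ⟨12103, 0, 6⟩)) (.node 1 (.one ⟨11817, 2, 6⟩) (.one ⟨8093, 0, 5⟩)))) (.node 4 (.node 2 (.node 1 (.one ⟨10196, 1, 1⟩) (.one ⟨5522, 2, 5⟩)) (.node 1 (.one ⟨16772, 2, 5⟩) (.one ⟨6610, 1, 4⟩))) (.node 2 (.node 1 (.one ⟨5168, 1, 0⟩) (.one ⟨15419, 1, 1⟩)) (.node 1 (.one ⟨15957, 2, 4⟩) (.one ⟨8941, 2, 4⟩))))) (.node 8 (.node 4 (.node 2 (.node 1 (.one ⟨3294, 1, 6⟩) (.one ⟨469, 1, 7⟩)) (.node 1 (.one ⟨4055, 2, 4⟩) (.one ⟨9077, 2, 6⟩))) (.node 2 (.node 1 (.one ⟨4889, 2, 5⟩) (.one ⟨7732, 2, 5⟩)) (.node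 1 (.one ⟨4231, 2, 5⟩) (.one ⟨1748, 2, 6⟩)))) (.node 4 (.node 2 (.node 1 (.one ⟨3520, 1, 3⟩) (.one ⟨16662, 2, 4⟩)) (.node 1 (.one ⟨15191, 2, 4⟩) (.one ⟨16711, 2, 2⟩))) (.node 2 (.node 1 (.one ⟨15458, 2, 5⟩) (.one ⟨291, 2, 5⟩)) (.node 1 (.one ⟨15418, 1, 4⟩) (.one ⟨6779, 1, 5⟩)))))) (.node 16 (.node 8 (.node 4 (.node 2 (.node 1 (.one ⟨8648, 1, 5⟩) (.one ⟨6692, 2, 4⟩)) (.node 1 (.one ⟨15933, 1, 3⟩) (.one ⟨12920, 0, 2⟩))) (.node 2 (.node 1 (.one ⟨11285, 1, 6⟩) (.one ⟨4404, 1, 5⟩)) (.node 1 (.one ⟨2447, 1, 5⟩) (.one ⟨11979, 2, 6⟩)))) (.node 4 (.node 2 (.node 1 (.one ⟨1573, 2, 5⟩) (.one ⟨4780, 1, 0⟩)) (.node 1 (.one ⟨8024, 0, 6⟩) (.one ⟨17080, 2, 2⟩))) (.node 2 (.node 1 (.one ⟨3977, 1, 5⟩) (.one ⟨6540, 2, 6⟩)) (.node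 1 (.one ⟨3045, 0, 6⟩) (.one ⟨6842, 2, 4⟩))))) (.node 8 (.node 4 (.node 2 (.node 1 (.one ⟨3095, 2, 1⟩) (.one ⟨10686, 1, 6⟩)) (.node 1 (.one ⟨7521, 1, 6⟩) (.one ⟨5584, 2, 2⟩))) (.node 2 (.node 1 (.one ⟨1729, 2, 5⟩) (.one ⟨3147, 0, 7⟩)) (.node 1 (.one ⟨4721, 0, 6⟩) (.one ⟨13242, 1, 5⟩)))) (.node 4 (.node 2 (.node 1 (.one ⟨14421, 2, 6⟩) (.one ⟨851, 1, 5⟩)) (.node 1 (.one ⟨13246, 1, 5⟩) (.one ⟨50, 1, 5⟩))) (.node 2 (.node 1 (.one ⟨13240, 1, 6⟩) (.one ⟨13244, 1, 6⟩)) (.node 1 (.one ⟨627, 2, 4⟩) (.one ⟨13181, 1, 4⟩)))))))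
def par8_7_5 : Arr Par :=
  (.node 32 (.node 16 (.node 8 (.node 4 (.node 2 (.node 1 (.one ⟨10843, 1, 6⟩) (.one ⟨2023, 1, 2⟩)) (.node 1 (.one ⟨4389, 1, 5⟩) (.one ⟨4796, 2, 5⟩))) (.node 2 (.node 1 (.one ⟨3632, 2, 5⟩) (.one ⟨10989, 1, 5⟩)) (.node 1 (.one ⟨13575, 1, 6⟩) (.one ⟨7345, 1, 5⟩)))) (.node 4 (.node 2 (.node 1 (.one ⟨8051, 1, 6⟩) (.one ⟨10150, 1, 5⟩)) (.node 1 (.one ⟨13345, 1, 5⟩) (.one ⟨14716, 1, 7⟩))) (.node 2 (.node 1 (.one ⟨16303, 1, 5⟩) (.one ⟨7670, 2, 1⟩)) (.node 1 (.one ⟨8282, 0, 6⟩) (.one ⟨2252, 1, 4⟩))))) (.node 8 (.node 4 (.node 2 (.node 1 (.one ⟨4301, 1, 6⟩) (.one ⟨4884, 1, 5⟩)) (.node 1 (.one ⟨8574, 0, 6⟩) (.one ⟨14245, 2, 6⟩))) (.node 2 (.node 1 (.one ⟨13460, 1, 5⟩) (.one ⟨1520, 0, 5⟩)) (.node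 1 (.one ⟨3887, 0, 4⟩) (.one ⟨12926, 0, 5⟩)))) (.node 4 (.node 2 (.node 1 (.one ⟨16352, 1, 5⟩) (.one ⟨2148, 2, 4⟩)) (.node 1 (.one ⟨6719, 1, 4⟩) (.one ⟨2403, 1, 5⟩))) (.node 2 (.node 1 (.one ⟨12196, 0, 3⟩) (.one ⟨13021, 1, 6⟩)) (.node 1 (.one ⟨11481, 2, 5⟩) (.one ⟨510, 1, 6⟩)))))) (.node 16 (.node 8 (.node 4 (.node 2 (.node 1 (.one ⟨2809, 1, 4⟩) (.one ⟨14009, 2, 5⟩)) (.node 1 (.one ⟨6709, 1, 7⟩) (.one ⟨13064, 1, 6⟩))) (.node 2 (.node 1 (.one ⟨11879, 1, 6⟩) (.one ⟨16620, 1, 7⟩)) (.node 1 (.one ⟨8513, 2, 5⟩) (.one ⟨9127, 2, 5⟩)))) (.node 4 (.node 2 (.node 1 (.one ⟨10429, 1, 4⟩) (.one ⟨2423, 1, 4⟩)) (.node 1 (.one ⟨10521, 1, 5⟩) (.one ⟨2478, 1, 6⟩))) (.node 2 (.node 1 (.one ⟨12037, 0, 6⟩) (.one ⟨2375, 1, 5⟩)) (.node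 1 (.one ⟨10474, 1, 7⟩) (.one ⟨2713, 2, 4⟩))))) (.node 8 (.node 4 (.node 2 (.node 1 (.one ⟨4148, 1, 7⟩) (.one ⟨13420, 2, 5⟩)) (.node 1 (.one ⟨4226, 1, 5⟩) (.one ⟨12895, 2, 6⟩))) (.node 2 (.node 1 (.one ⟨13170, 1, 6⟩) (.one ⟨11024, 1, 4⟩)) (.node 1 (.one ⟨11211, 0, 1⟩) (.one ⟨8343, 2, 6⟩)))) (.node 4 (.node 2 (.node 1 (.one ⟨8184, 2, 5⟩) (.one ⟨3207, 0, 5⟩)) (.node 1 (.one ⟨16199, 2, 2⟩) (.one ⟨9627, 2, 2⟩))) (.node 2 (.node 1 (.one ⟨11976, 0, 5⟩) (.one ⟨1678, 2, 5⟩)) (.node 1 (.one ⟨2123, 2, 6⟩) (.one ⟨0, 2, 2⟩)))))))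
def par8_7_6 : Arr Par :=
  (.node 32 (.node 16 (.node 8 (.node 4 (.node 2 (.node 1 (.one ⟨1179, 1, 3⟩) (.one ⟨1248, 2, 5⟩)) (.node 1 (.one ⟨16852, 1, 7⟩) (.one ⟨8759, 1, 4⟩))) (.node 2 (.node 1 (.one ⟨6337, 2, 4⟩) (.one ⟨9163, 1, 4⟩)) (.node 1 (.one ⟨6328, 2, 4⟩) (.one ⟨999, 1, 7⟩)))) (.node 4 (.node 2 (.node 1 (.one ⟨5779, 1, 5⟩) (.one ⟨2395, 1, 5⟩)) (.node 1 (.one ⟨1765, 2, 5⟩) (.one ⟨6738, 2, 2⟩))) (.node 2 (.node 1 (.one ⟨4343, 2, 5⟩) (.one ⟨8998, 2, 4⟩)) (.node 1 (.one ⟨5647, 1, 6⟩) (.one ⟨2755, 1, 3⟩))))) (.node 8 (.node 4 (.node 2 (.node 1 (.one ⟨12000, 0, 4⟩) (.one ⟨12740, 0, 4⟩)) (.node 1 (.one ⟨6885, 1, 6⟩) (.one ⟨4800, 1, 0⟩))) (.node 2 (.node 1 (.one ⟨9977, 1, 3⟩) (.one ⟨13890, 1, 2⟩)) (.node 1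 (.one ⟨11357, 1, 3⟩) (.one ⟨12554, 2, 1⟩)))) (.node 4 (.node 2 (.node 1 (.one ⟨6038, 0, 7⟩) (.one ⟨12555, 2, 5⟩)) (.node 1 (.one ⟨12558, 2, 5⟩) (.one ⟨11491, 0, 4⟩))) (.node 2 (.node 1 (.one ⟨11240, 1, 3⟩) (.one ⟨16396, 1, 5⟩)) (.node 1 (.one ⟨6262, 1, 4⟩) (.one ⟨14153, 1, 4⟩)))))) (.node 16 (.node 8 (.node 4 (.node 2 (.node 1 (.one ⟨16261, 2, 6⟩) (.one ⟨3459, 2, 3⟩)) (.node 1 (.one ⟨13608, 0, 2⟩) (.one ⟨15805, 2, 6⟩))) (.node 2 (.node 1 (.one ⟨4531, 0, 1⟩) (.one ⟨3856, 2, 5⟩)) (.node 1 (.one ⟨3008, 2, 6⟩) (.one ⟨3227, 0, 5⟩)))) (.node 4 (.node 2 (.node 1 (.one ⟨2421, 2, 4⟩) (.one ⟨13253, 1, 4⟩)) (.node 1 (.one ⟨13645, 2, 5⟩) (.one ⟨3223, 0, 4⟩))) (.node 2 (.node 1 (.one ⟨6822, 2, 5⟩) (.one ⟨5466, 2, 5⟩)) (.node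 1 (.one ⟨11351, 1, 2⟩) (.one ⟨9515, 1, 2⟩))))) (.node 8 (.node 4 (.node 2 (.node 1 (.one ⟨11569, 1, 4⟩) (.one ⟨17002, 1, 4⟩)) (.node 1 (.one ⟨15158, 1, 4⟩) (.one ⟨16033, 1, 4⟩))) (.node 2 (.node 1 (.one ⟨14198, 1, 5⟩) (.one ⟨198, 2, 3⟩)) (.node 1 (.one ⟨13386, 1, 5⟩) (.one ⟨2004, 1, 3⟩)))) (.node 4 (.node 2 (.node 1 (.one ⟨13678, 1, 6⟩) (.one ⟨3753, 0, 5⟩)) (.node 1 (.one ⟨9887, 1, 6⟩) (.one ⟨11684, 1, 3⟩))) (.node 2 (.node 1 (.one ⟨11707, 0, 5⟩) (.one ⟨9080, 0, 5⟩)) (.node 1 (.one ⟨3793, 1, 5⟩) (.one ⟨15745, 1, 6⟩)))))))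
def par8_7_7 : Arr Par :=
  (.node 32 (.node 16 (.node 8 (.node 4 (.node 2 (.node 1 (.one ⟨13671, 1, 2⟩) (.one ⟨15769, 1, 6⟩)) (.node 1 (.one ⟨9331, 2, 1⟩) (.one ⟨14917, 2, 5⟩))) (.node 2 (.node 1 (.one ⟨2797, 2, 5⟩) (.one ⟨7670, 1, 1⟩)) (.node 1 (.one ⟨5598, 1, 2⟩) (.one ⟨3613, 0, 4⟩)))) (.node 4 (.node 2 (.node 1 (.one ⟨8133, 1, 2⟩) (.one ⟨8793, 1, 3⟩)) (.node 1 (.one ⟨11196, 0, 5⟩) (.one ⟨13908, 0, 6⟩))) (.node 2 (.node 1 (.one ⟨16610, 2, 3⟩) (.one ⟨6148, 2, 6⟩)) (.node 1 (.one ⟨8862, 0, 7⟩) (.one ⟨16996, 1, 3⟩))))) (.node 8 (.node 4 (.node 2 (.node 1 (.one ⟨6024, 1, 6⟩) (.one ⟨12869, 1, 7⟩)) (.node 1 (.one ⟨2489, 1, 7⟩) (.one ⟨5797, 0, 5⟩))) (.node 2 (.node 1 (.one ⟨14032, 2, 3⟩) (.one ⟨11811, 0, 5⟩)) (.node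 1 (.one ⟨14371, 1, 7⟩) (.one ⟨15049, 1, 6⟩)))) (.node 4 (.node 2 (.node 1 (.one ⟨12105, 1, 4⟩) (.one ⟨10007, 0, 5⟩)) (.node 1 (.one ⟨6582, 1, 3⟩) (.one ⟨10087, 1, 4⟩))) (.node 2 (.node 1 (.one ⟨17018, 1, 4⟩) (.one ⟨9092, 1, 5⟩)) (.node 1 (.one ⟨717, 1, 7⟩) (.one ⟨14249, 1, 5⟩)))))) (.node 16 (.node 8 (.node 4 (.node 2 (.node 1 (.one ⟨10020, 0, 5⟩) (.one ⟨15697, 0, 4⟩)) (.node 1 (.one ⟨3343, 1, 5⟩) (.one ⟨5333, 2, 5⟩))) (.node 2 (.node 1 (.one ⟨11837, 2, 5⟩) (.one ⟨11836, 2, 6⟩)) (.node 1 (.one ⟨15599, 1, 3⟩) (.one ⟨7882, 1, 5⟩)))) (.node 4 (.node 2 (.node 1 (.one ⟨1991, 2, 6⟩) (.one ⟨6735, 2, 6⟩)) (.node 1 (.one ⟨10031, 2, 4⟩) (.one ⟨4588, 1, 4⟩))) (.node 2 (.node 1 (.one ⟨1589, 1, 4⟩) (.one ⟨12743, 2, 4⟩))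 (.node 1 (.one ⟨7895, 2, 6⟩) (.one ⟨4043, 2, 6⟩))))) (.node 8 (.node 4 (.node 2 (.node 1 (.one ⟨10156, 2, 6⟩) (.one ⟨6403, 1, 4⟩)) (.node 1 (.one ⟨16709, 1, 4⟩) (.one ⟨4578, 1, 0⟩))) (.node 2 (.node 1 (.one ⟨12450, 2, 6⟩) (.one ⟨17146, 1, 2⟩)) (.node 1 (.one ⟨4635, 1, 0⟩) (.one ⟨4233, 0, 4⟩)))) (.node 4 (.node 2 (.node 1 (.one ⟨10616, 1, 2⟩) (.one ⟨9241, 1, 5⟩)) (.node 1 (.one ⟨14668, 2, 6⟩) (.one ⟨5367, 1, 3⟩))) (.node 2 (.node 1 (.one ⟨11651, 0, 4⟩) (.one ⟨9825, 1, 2⟩)) (.node 1 (.one ⟨9585, 2, 5⟩) (.one ⟨7739, 1, 2⟩)))))))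
def par8_7_8 : Arr Par :=
  (.node 32 (.node 16 (.node 8 (.node 4 (.node 2 (.node 1 (.one ⟨13017, 1, 7⟩) (.one ⟨8499, 1, 1⟩)) (.node 1 (.one ⟨11608, 1, 4⟩) (.one ⟨1091, 1, 5⟩))) (.node 2 (.node 1 (.one ⟨15056, 1, 3⟩) (.one ⟨2995, 1, 1⟩)) (.node 1 (.one ⟨3512, 0, 3⟩) (.one ⟨3106, 2, 4⟩)))) (.node 4 (.node 2 (.node 1 (.one ⟨8002, 0, 4⟩) (.one ⟨7210, 0, 5⟩)) (.node 1 (.one ⟨8613, 1, 2⟩) (.one ⟨8140, 1, 4⟩))) (.node 2 (.node 1 (.one ⟨11535, 1, 6⟩) (.one ⟨8239, 0, 5⟩)) (.node 1 (.one ⟨4380, 1, 2⟩) (.one ⟨11823, 1, 6⟩))))) (.node 8 (.node 4 (.node 2 (.node 1 (.one ⟨4753, 1, 6⟩) (.one ⟨5001, 1, 6⟩)) (.node 1 (.one ⟨6155, 2, 5⟩) (.one ⟨11608, 0, 4⟩))) (.node 2 (.node 1 (.one ⟨10002, 1, 6⟩) (.one ⟨8010, 2, 1⟩)) (.node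 1 (.one ⟨9648, 0, 7⟩) (.one ⟨5897, 1, 2⟩)))) (.node 4 (.node 2 (.node 1 (.one ⟨3728, 1, 5⟩) (.one ⟨1189, 1, 4⟩)) (.node 1 (.one ⟨9261, 2, 5⟩) (.one ⟨11458, 1, 5⟩))) (.node 2 (.node 1 (.one ⟨15785, 2, 5⟩) (.one ⟨16291, 2, 4⟩)) (.node 1 (.one ⟨13310, 1, 5⟩) (.one ⟨6986, 2, 3⟩)))))) (.node 16 (.node 8 (.node 4 (.node 2 (.node 1 (.one ⟨6101, 1, 3⟩) (.one ⟨16345, 2, 5⟩)) (.node 1 (.one ⟨14894, 0, 4⟩) (.one ⟨3378, 2, 6⟩))) (.node 2 (.node 1 (.one ⟨16705, 2, 4⟩) (.one ⟨14329, 1, 5⟩)) (.node 1 (.one ⟨4589, 0, 7⟩) (.one ⟨10484, 1, 6⟩)))) (.node 4 (.node 2 (.node 1 (.one ⟨12189, 1, 3⟩) (.one ⟨4090, 1, 2⟩)) (.node 1 (.one ⟨2451, 1, 5⟩) (.one ⟨7050, 2, 6⟩))) (.node 2 (.node 1 (.one ⟨4062, 1, 4⟩) (.one ⟨12094, 1, 4⟩)) (.node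 1 (.one ⟨10449, 1, 6⟩) (.one ⟨1655, 2, 4⟩))))) (.node 8 (.node 4 (.node 2 (.node 1 (.one ⟨7872, 0, 1⟩) (.one ⟨7335, 1, 5⟩)) (.node 1 (.one ⟨9163, 0, 4⟩) (.one ⟨15629, 1, 3⟩))) (.node 2 (.node 1 (.one ⟨15834, 0, 4⟩) (.one ⟨4189, 2, 6⟩)) (.node 1 (.one ⟨1563, 2, 1⟩) (.one ⟨4256, 0, 0⟩)))) (.node 4 (.node 2 (.node 1 (.one ⟨11094, 0, 5⟩) (.one ⟨11624, 2, 3⟩)) (.node 1 (.one ⟨6158, 1, 3⟩) (.one ⟨7667, 0, 1⟩))) (.node 2 (.node 1 (.one ⟨6963, 2, 3⟩) (.one ⟨13271, 1, 4⟩)) (.node 1 (.one ⟨11153, 2, 7⟩) (.one ⟨7775, 2, 2⟩)))))))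
def par8_7_9 : Arr Par :=
  (.node 32 (.node 16 (.node 8 (.node 4 (.node 2 (.node 1 (.one ⟨12689, 1, 4⟩) (.one ⟨4429, 1, 3⟩)) (.node 1 (.one ⟨11092, 2, 5⟩) (.one ⟨3409, 2, 5⟩))) (.node 2 (.node 1 (.one ⟨9068, 2, 4⟩) (.one ⟨10343, 2, 5⟩)) (.node 1 (.one ⟨16211, 2, 7⟩) (.one ⟨16903, 0, 3⟩)))) (.node 4 (.node 2 (.node 1 (.one ⟨12767, 2, 5⟩) (.one ⟨16869, 2, 4⟩)) (.node 1 (.one ⟨8433, 2, 4⟩) (.one ⟨11567, 2, 3⟩))) (.node 2 (.node 1 (.one ⟨4053, 2, 5⟩) (.one ⟨7735, 2, 1⟩)) (.node 1 (.one ⟨15912, 0, 3⟩) (.one ⟨12455, 2, 5⟩))))) (.node 8 (.node 4 (.node 2 (.node 1 (.one ⟨7146, 1, 4⟩) (.one ⟨1114, 1, 5⟩)) (.node 1 (.one ⟨7897, 2, 4⟩) (.one ⟨11799, 1, 4⟩))) (.node 2 (.node 1 (.one ⟨9025, 2, 5⟩) (.one ⟨13030, 2, 4⟩))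 (.node 1 (.one ⟨17194, 1, 3⟩) (.one ⟨11557, 1, 3⟩)))) (.node 4 (.node 2 (.node 1 (.one ⟨4362, 1, 3⟩) (.one ⟨2555, 2, 4⟩)) (.node 1 (.one ⟨11179, 1, 4⟩) (.one ⟨14253, 2, 6⟩))) (.node 2 (.node 1 (.one ⟨831, 1, 3⟩) (.one ⟨2292, 1, 4⟩)) (.node 1 (.one ⟨9534, 0, 4⟩) (.one ⟨16397, 1, 1⟩)))))) (.node 16 (.node 8 (.node 4 (.node 2 (.node 1 (.one ⟨2223, 1, 2⟩) (.one ⟨6776, 0, 4⟩)) (.node 1 (.one ⟨12846, 1, 4⟩) (.one ⟨7937, 1, 5⟩))) (.node 2 (.node 1 (.one ⟨1201, 2, 2⟩) (.one ⟨5082, 0, 4⟩)) (.node 1 (.one ⟨12500, 2, 3⟩) (.one ⟨4402, 1, 4⟩)))) (.node 4 (.node 2 (.node 1 (.one ⟨13004, 2, 3⟩) (.one ⟨15540, 1, 2⟩)) (.node 1 (.one ⟨5905, 2, 4⟩) (.one ⟨16788, 2, 6⟩))) (.node 2 (.node 1 (.one ⟨6845, 1, 5⟩) (.one ⟨4613, 1, 0⟩))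 (.node 1 (.one ⟨16384, 2, 3⟩) (.one ⟨16588, 0, 5⟩))))) (.node 8 (.node 4 (.node 2 (.node 1 (.one ⟨11762, 2, 4⟩) (.one ⟨5770, 1, 5⟩)) (.node 1 (.one ⟨9633, 2, 6⟩) (.one ⟨11575, 1, 3⟩))) (.node 2 (.node 1 (.one ⟨13978, 1, 6⟩) (.one ⟨9546, 1, 1⟩)) (.node 1 (.one ⟨15736, 1, 6⟩) (.one ⟨15679, 1, 4⟩)))) (.node 4 (.node 2 (.node 1 (.one ⟨9359, 0, 1⟩) (.one ⟨13867, 1, 5⟩)) (.node 1 (.one ⟨11576, 1, 4⟩) (.one ⟨13275, 0, 4⟩))) (.node 2 (.node 1 (.one ⟨15814, 0, 4⟩) (.one ⟨15836, 0, 5⟩)) (.node 1 (.one ⟨4455, 2, 2⟩) (.one ⟨3059, 2, 1⟩)))))))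
def par8_7_10 : Arr Par :=
  (.node 32 (.node 16 (.node 8 (.node 4 (.node 2 (.node 1 (.one ⟨3178, 2, 1⟩) (.one ⟨7841, 0, 2⟩)) (.node 1 (.one ⟨3168, 1, 4⟩) (.one ⟨2129, 1, 5⟩))) (.node 2 (.node 1 (.one ⟨11194, 2, 3⟩) (.one ⟨713, 0, 5⟩)) (.node 1 (.one ⟨9502, 2, 1⟩) (.one ⟨6127, 2, 5⟩)))) (.node 4 (.node 2 (.node 1 (.one ⟨17083, 2, 5⟩) (.one ⟨12457, 2, 6⟩)) (.node 1 (.one ⟨3101, 2, 5⟩) (.one ⟨7067, 2, 6⟩))) (.node 2 (.node 1 (.one ⟨16336, 2, 7⟩) (.one ⟨13405, 2, 6⟩)) (.node 1 (.one ⟨2017, 2, 7⟩) (.one ⟨11253, 0, 4⟩))))) (.node 8 (.node 4 (.node 2 (.node 1 (.one ⟨14207, 2, 5⟩) (.one ⟨2976, 2, 3⟩)) (.node 1 (.one ⟨9016, 1, 6⟩) (.one ⟨6801, 2, 6⟩))) (.node 2 (.node 1 (.one ⟨6655, 1, 2⟩) (.one ⟨15732, 2, 6⟩)) (.node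 1 (.one ⟨9298, 2, 2⟩) (.one ⟨9151, 2, 2⟩)))) (.node 4 (.node 2 (.node 1 (.one ⟨9360, 0, 1⟩) (.one ⟨5731, 2, 4⟩)) (.node 1 (.one ⟨16114, 1, 6⟩) (.one ⟨13045, 1, 4⟩))) (.node 2 (.node 1 (.one ⟨7817, 1, 7⟩) (.one ⟨15007, 2, 3⟩)) (.node 1 (.one ⟨6705, 1, 6⟩) (.one ⟨4961, 1, 6⟩)))))) (.node 16 (.node 8 (.node 4 (.node 2 (.node 1 (.one ⟨1055, 2, 5⟩) (.one ⟨12267, 2, 1⟩)) (.node 1 (.one ⟨14056, 1, 7⟩) (.one ⟨7812, 0, 4⟩))) (.node 2 (.node 1 (.one ⟨11946, 2, 5⟩) (.one ⟨895, 0, 4⟩)) (.node 1 (.one ⟨15450, 1, 6⟩) (.one ⟨15032, 0, 6⟩)))) (.node 4 (.node 2 (.node 1 (.one ⟨16442, 0, 3⟩) (.one ⟨14061, 1, 7⟩)) (.node 1 (.one ⟨8023, 0, 6⟩) (.one ⟨9523, 0, 5⟩))) (.node 2 (.node 1 (.one ⟨11941, 0, 6⟩) (.one ⟨187, 2, 6⟩)) (.node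 1 (.one ⟨6444, 2, 3⟩) (.one ⟨16282, 2, 3⟩))))) (.node 8 (.node 4 (.node 2 (.node 1 (.one ⟨108, 1, 1⟩) (.one ⟨364, 1, 3⟩)) (.node 1 (.one ⟨9026, 1, 6⟩) (.one ⟨16559, 2, 2⟩))) (.node 2 (.node 1 (.one ⟨7987, 0, 1⟩) (.one ⟨9030, 1, 6⟩)) (.node 1 (.one ⟨12345, 2, 5⟩) (.one ⟨11846, 1, 4⟩)))) (.node 4 (.node 2 (.node 1 (.one ⟨3739, 0, 4⟩) (.one ⟨14528, 2, 6⟩)) (.node 1 (.one ⟨6266, 2, 6⟩) (.one ⟨9740, 1, 3⟩))) (.node 2 (.node 1 (.one ⟨4554, 2, 6⟩) (.one ⟨7921, 1, 3⟩)) (.node 1 (.one ⟨14251, 0, 5⟩) (.one ⟨1015, 1, 2⟩)))))))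
def par8_7_11 : Arr Par :=
  (.node 32 (.node 16 (.node 8 (.node 4 (.node 2 (.node 1 (.one ⟨4794, 1, 0⟩) (.one ⟨16280, 2, 6⟩)) (.node 1 (.one ⟨632, 1, 3⟩) (.one ⟨13613, 1, 6⟩))) (.node 2 (.node 1 (.one ⟨12763, 2, 4⟩) (.one ⟨310, 1, 1⟩)) (.node 1 (.one ⟨3324, 2, 6⟩) (.one ⟨4268, 1, 3⟩)))) (.node 4 (.node 2 (.node 1 (.one ⟨4556, 1, 6⟩) (.one ⟨13016, 1, 6⟩)) (.node 1 (.one ⟨11708, 2, 4⟩) (.one ⟨10210, 2, 5⟩))) (.node 2 (.node 1 (.one ⟨8547, 2, 6⟩) (.one ⟨6094, 2, 5⟩)) (.node 1 (.one ⟨14365, 1, 4⟩) (.one ⟨2294, 2, 4⟩))))) (.node 8 (.node 4 (.node 2 (.node 1 (.one ⟨1780, 2, 5⟩) (.one ⟨831, 2, 3⟩)) (.node 1 (.one ⟨11446, 0, 5⟩) (.one ⟨12811, 2, 5⟩))) (.node 2 (.node 1 (.one ⟨15645, 0, 6⟩) (.one ⟨7940, 0, 4⟩)) (.node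 1 (.one ⟨17051, 0, 5⟩) (.one ⟨12323, 1, 5⟩)))) (.node 4 (.node 2 (.node 1 (.one ⟨17006, 2, 7⟩) (.one ⟨7547, 0, 3⟩)) (.node 1 (.one ⟨7741, 1, 5⟩) (.one ⟨9164, 2, 3⟩))) (.node 2 (.node 1 (.one ⟨11686, 1, 4⟩) (.one ⟨9820, 2, 6⟩)) (.node 1 (.one ⟨7946, 0, 3⟩) (.one ⟨5077, 1, 5⟩)))))) (.node 16 (.node 8 (.node 4 (.node 2 (.node 1 (.one ⟨6941, 2, 4⟩) (.one ⟨9810, 0, 5⟩)) (.node 1 (.one ⟨14004, 2, 6⟩) (.one ⟨9130, 1, 5⟩))) (.node 2 (.node 1 (.one ⟨12216, 0, 4⟩) (.one ⟨5312, 2, 3⟩)) (.node 1 (.one ⟨10554, 0, 4⟩) (.one ⟨11735, 0, 4⟩)))) (.node 4 (.node 2 (.node 1 (.one ⟨11323, 2, 6⟩) (.one ⟨5158, 1, 3⟩)) (.node 1 (.one ⟨10010, 0, 3⟩) (.one ⟨2918, 1, 3⟩))) (.node 2 (.node 1 (.one ⟨4383, 1, 4⟩) (.one ⟨10486, 0, 3⟩)) (.node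 1 (.one ⟨9893, 2, 4⟩) (.one ⟨9255, 2, 2⟩))))) (.node 8 (.node 4 (.node 2 (.node 1 (.one ⟨3275, 2, 2⟩) (.one ⟨1499, 2, 2⟩)) (.node 1 (.one ⟨13566, 1, 5⟩) (.one ⟨1430, 1, 5⟩))) (.node 2 (.node 1 (.one ⟨16128, 0, 3⟩) (.one ⟨5162, 1, 6⟩)) (.node 1 (.one ⟨80, 2, 2⟩) (.one ⟨4092, 0, 6⟩)))) (.node 4 (.node 2 (.node 1 (.one ⟨10745, 2, 3⟩) (.one ⟨4468, 2, 5⟩)) (.node 1 (.one ⟨2411, 0, 4⟩) (.one ⟨7942, 2, 5⟩))) (.node 2 (.node 1 (.one ⟨5622, 0, 4⟩) (.one ⟨14547, 2, 6⟩)) (.node 1 (.one ⟨15204, 1, 6⟩) (.one ⟨5436, 1, 5⟩)))))))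
def par8_7_12 : Arr Par :=
  (.node 32 (.node 16 (.node 8 (.node 4 (.node 2 (.node 1 (.one ⟨3801, 0, 5⟩) (.one ⟨16709, 2, 4⟩)) (.node 1 (.one ⟨13030, 1, 4⟩) (.one ⟨14343, 1, 4⟩))) (.node 2 (.node 1 (.one ⟨11897, 2, 3⟩) (.one ⟨16531, 1, 3⟩)) (.node 1 (.one ⟨5733, 1, 4⟩) (.one ⟨2025, 1, 5⟩)))) (.node 4 (.node 2 (.node 1 (.one ⟨13573, 0, 6⟩) (.one ⟨1129, 2, 2⟩)) (.node 1 (.one ⟨10394, 2, 2⟩) (.one ⟨590, 2, 2⟩))) (.node 2 (.node 1 (.one ⟨9443, 1, 5⟩) (.one ⟨13356, 1, 6⟩)) (.node 1 (.one ⟨11852, 0, 3⟩) (.one ⟨15132, 1, 3⟩))))) (.node 8 (.node 4 (.node 2 (.node 1 (.one ⟨8123, 1, 4⟩) (.one ⟨3025, 1, 3⟩)) (.node 1 (.one ⟨12202, 1, 7⟩) (.one ⟨12600, 2, 2⟩))) (.node 2 (.node 1 (.one ⟨6503, 1, 6⟩) (.one ⟨13226, 2, 5⟩))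 (.node 1 (.one ⟨10564, 1, 7⟩) (.one ⟨15763, 0, 5⟩)))) (.node 4 (.node 2 (.node 1 (.one ⟨1985, 2, 6⟩) (.one ⟨9621, 1, 3⟩)) (.node 1 (.one ⟨14437, 2, 2⟩) (.one ⟨14072, 1, 5⟩))) (.node 2 (.node 1 (.one ⟨11324, 0, 6⟩) (.one ⟨16860, 0, 7⟩)) (.node 1 (.one ⟨13617, 0, 4⟩) (.one ⟨7876, 0, 5⟩)))))) (.node 16 (.node 8 (.node 4 (.node 2 (.node 1 (.one ⟨10967, 1, 2⟩) (.one ⟨12875, 1, 4⟩)) (.node 1 (.one ⟨14942, 2, 6⟩) (.one ⟨893, 0, 5⟩))) (.node 2 (.node 1 (.one ⟨11769, 2, 6⟩) (.one ⟨2142, 0, 6⟩)) (.node 1 (.one ⟨2236, 0, 5⟩) (.one ⟨10115, 1, 5⟩)))) (.node 4 (.node 2 (.node 1 (.one ⟨15906, 2, 6⟩) (.one ⟨9101, 1, 7⟩)) (.node 1 (.one ⟨8833, 2, 6⟩) (.one ⟨13538, 1, 7⟩))) (.node 2 (.node 1 (.one ⟨10333, 0, 5⟩) (.one ⟨16908,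 2, 4⟩)) (.node 1 (.one ⟨11350, 2, 5⟩) (.one ⟨10049, 2, 2⟩))))) (.node 8 (.node 4 (.node 2 (.node 1 (.one ⟨2776, 1, 4⟩) (.one ⟨4822, 1, 0⟩)) (.node 1 (.one ⟨4832, 0, 4⟩) (.one ⟨4797, 1, 0⟩))) (.node 2 (.node 1 (.one ⟨16444, 1, 4⟩) (.one ⟨6727, 1, 5⟩)) (.node 1 (.one ⟨7077, 0, 6⟩) (.one ⟨3731, 0, 4⟩)))) (.node 4 (.node 2 (.node 1 (.one ⟨9380, 2, 2⟩) (.one ⟨11257, 2, 4⟩)) (.node 1 (.one ⟨11712, 2, 2⟩) (.one ⟨4151, 1, 4⟩))) (.node 2 (.node 1 (.one ⟨3965, 2, 3⟩) (.one ⟨4597, 2, 2⟩)) (.node 1 (.one ⟨3980, 1, 3⟩) (.one ⟨7946, 1, 3⟩)))))))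
def par8_7_13 : Arr Par :=
  (.node 32 (.node 16 (.node 8 (.node 4 (.node 2 (.node 1 (.one ⟨2127, 2, 5⟩) (.one ⟨10946, 2, 5⟩)) (.node 1 (.one ⟨10524, 2, 3⟩) (.one ⟨10622, 2, 3⟩))) (.node 2 (.node 1 (.one ⟨6713, 1, 4⟩) (.one ⟨6725, 1, 5⟩)) (.node 1 (.one ⟨16858, 0, 6⟩) (.one ⟨8729, 1, 6⟩)))) (.node 4 (.node 2 (.node 1 (.one ⟨8714, 1, 6⟩) (.one ⟨11569, 0, 4⟩)) (.node 1 (.one ⟨4806, 1, 0⟩) (.one ⟨10244, 1, 2⟩))) (.node 2 (.node 1 (.one ⟨10212, 1, 4⟩) (.one ⟨1474, 1, 4⟩)) (.node 1 (.one ⟨7029, 2, 6⟩) (.one ⟨14584, 2, 4⟩))))) (.node 8 (.node 4 (.node 2 (.node 1 (.one ⟨1365, 2, 5⟩) (.one ⟨8997, 1, 2⟩)) (.node 1 (.one ⟨14772, 2, 4⟩) (.one ⟨422, 2, 4⟩))) (.node 2 (.node 1 (.one ⟨14613, 2, 5⟩) (.one ⟨14852, 2, 6⟩))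 (.node 1 (.one ⟨3453, 2, 6⟩) (.one ⟨8078, 2, 5⟩)))) (.node 4 (.node 2 (.node 1 (.one ⟨14319, 2, 5⟩) (.one ⟨3508, 2, 4⟩)) (.node 1 (.one ⟨10641, 2, 4⟩) (.one ⟨6021, 2, 3⟩))) (.node 2 (.node 1 (.one ⟨14027, 0, 5⟩) (.one ⟨1564, 2, 1⟩)) (.node 1 (.one ⟨13432, 0, 5⟩) (.one ⟨10178, 2, 5⟩)))))) (.node 16 (.node 8 (.node 4 (.node 2 (.node 1 (.one ⟨5778, 2, 6⟩) (.one ⟨11185, 2, 5⟩)) (.node 1 (.one ⟨7593, 2, 5⟩) (.one ⟨466, 2, 3⟩))) (.node 2 (.node 1 (.one ⟨5937, 1, 5⟩) (.one ⟨3448, 2, 5⟩)) (.node 1 (.one ⟨15456, 2, 5⟩) (.one ⟨11599, 2, 2⟩)))) (.node 4 (.node 2 (.node 1 (.one ⟨3073, 1, 5⟩) (.one ⟨16795, 2, 3⟩)) (.node 1 (.one ⟨16708, 1, 5⟩) (.one ⟨15934, 2, 3⟩))) (.node 2 (.node 1 (.one ⟨10208, 2, 5⟩) (.one ⟨1366, 1,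 2⟩)) (.node 1 (.one ⟨14806, 2, 7⟩) (.one ⟨12612, 1, 6⟩))))) (.node 8 (.node 4 (.node 2 (.node 1 (.one ⟨7931, 0, 6⟩) (.one ⟨6519, 2, 2⟩)) (.node 1 (.one ⟨7157, 2, 1⟩) (.one ⟨5784, 2, 5⟩))) (.node 2 (.node 1 (.one ⟨1580, 1, 6⟩) (.one ⟨2960, 2, 1⟩)) (.node 1 (.one ⟨329, 2, 2⟩) (.one ⟨463, 1, 5⟩)))) (.node 4 (.node 2 (.node 1 (.one ⟨3478, 2, 3⟩) (.one ⟨45, 1, 4⟩)) (.node 1 (.one ⟨16833, 0, 5⟩) (.one ⟨3213, 2, 4⟩))) (.node 2 (.node 1 (.one ⟨6524, 2, 3⟩) (.one ⟨645, 1, 3⟩)) (.node 1 (.one ⟨5317, 0, 4⟩) (.one ⟨13364, 1, 2⟩)))))))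
def par8_7_14 : Arr Par :=
  (.node 32 (.node 16 (.node 8 (.node 4 (.node 2 (.node 1 (.one ⟨5365, 1, 5⟩) (.one ⟨8962, 1, 5⟩)) (.node 1 (.one ⟨8713, 2, 6⟩) (.one ⟨9406, 1, 3⟩))) (.node 2 (.node 1 (.one ⟨945, 1, 3⟩) (.one ⟨6114, 1, 4⟩)) (.node 1 (.one ⟨14144, 1, 2⟩) (.one ⟨12380, 0, 4⟩)))) (.node 4 (.node 2 (.node 1 (.one ⟨6525, 1, 4⟩) (.one ⟨14477, 1, 3⟩)) (.node 1 (.one ⟨11176, 2, 6⟩) (.one ⟨10144, 1, 3⟩))) (.node 2 (.node 1 (.one ⟨15327, 0, 5⟩) (.one ⟨8680, 1, 2⟩)) (.node 1 (.one ⟨1362, 1, 4⟩) (.one ⟨2916, 1, 5⟩))))) (.node 8 (.node 4 (.node 2 (.node 1 (.one ⟨2059, 0, 7⟩) (.one ⟨11725, 1, 6⟩)) (.node 1 (.one ⟨3895, 1, 5⟩) (.one ⟨16695, 1, 6⟩))) (.node 2 (.node 1 (.one ⟨8909, 1, 4⟩) (.one ⟨6097, 1, 3⟩)) (.node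 1 (.one ⟨2800, 0, 7⟩) (.one ⟨11189, 0, 4⟩)))) (.node 4 (.node 2 (.node 1 (.one ⟨5197, 0, 6⟩) (.one ⟨11800, 0, 4⟩)) (.node 1 (.one ⟨7151, 1, 5⟩) (.one ⟨8035, 0, 4⟩))) (.node 2 (.node 1 (.one ⟨7242, 2, 6⟩) (.one ⟨2793, 2, 4⟩)) (.node 1 (.one ⟨6435, 2, 5⟩) (.one ⟨8687, 1, 3⟩)))))) (.node 16 (.node 8 (.node 4 (.node 2 (.node 1 (.one ⟨2790, 1, 4⟩) (.one ⟨1473, 1, 3⟩)) (.node 1 (.one ⟨7860, 1, 2⟩) (.one ⟨7825, 1, 4⟩))) (.node 2 (.node 1 (.one ⟨2099, 1, 2⟩) (.one ⟨2927, 1, 1⟩)) (.node 1 (.one ⟨8429, 1, 6⟩) (.one ⟨17168, 0, 5⟩)))) (.node 4 (.node 2 (.node 1 (.one ⟨14790, 0, 4⟩) (.one ⟨3504, 0, 6⟩)) (.node 1 (.one ⟨2556, 0, 6⟩) (.one ⟨5040, 2, 2⟩))) (.node 2 (.node 1 (.one ⟨4562, 2, 4⟩) (.one ⟨3308, 0, 6⟩)) (.node 1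 (.one ⟨5026, 0, 4⟩) (.one ⟨9602, 0, 6⟩))))) (.node 8 (.node 4 (.node 2 (.node 1 (.one ⟨16448, 0, 2⟩) (.one ⟨6884, 2, 6⟩)) (.node 1 (.one ⟨11995, 1, 4⟩) (.one ⟨13878, 0, 5⟩))) (.node 2 (.node 1 (.one ⟨5915, 2, 3⟩) (.one ⟨12611, 1, 3⟩)) (.node 1 (.one ⟨7609, 1, 6⟩) (.one ⟨11798, 1, 3⟩)))) (.node 4 (.node 2 (.node 1 (.one ⟨5587, 2, 3⟩) (.one ⟨16635, 2, 4⟩)) (.node 1 (.one ⟨138, 1, 3⟩) (.one ⟨1704, 2, 3⟩))) (.node 2 (.node 1 (.one ⟨7329, 2, 3⟩) (.one ⟨48, 1, 3⟩)) (.node 1 (.one ⟨13472, 0, 4⟩) (.one ⟨12143, 2, 5⟩)))))))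
def par8_7_15 : Arr Par :=
  (.node 32 (.node 16 (.node 8 (.node 4 (.node 2 (.node 1 (.one ⟨9254, 2, 3⟩) (.one ⟨9601, 0, 5⟩)) (.node 1 (.one ⟨10325, 0, 5⟩) (.one ⟨15367, 0, 5⟩))) (.node 2 (.node 1 (.one ⟨14755, 0, 6⟩) (.one ⟨8706, 1, 1⟩)) (.node 1 (.one ⟨15830, 0, 5⟩) (.one ⟨8493, 2, 5⟩)))) (.node 4 (.node 2 (.node 1 (.one ⟨5176, 2, 5⟩) (.one ⟨13514, 1, 4⟩)) (.node 1 (.one ⟨12891, 2, 6⟩) (.one ⟨3790, 2, 5⟩))) (.node 2 (.node 1 (.one ⟨9510, 0, 3⟩) (.one ⟨12565, 2, 6⟩)) (.node 1 (.one ⟨2949, 1, 3⟩) (.one ⟨3620, 1, 3⟩))))) (.node 8 (.node 4 (.node 2 (.node 1 (.one ⟨8474, 1, 4⟩) (.one ⟨3615, 2, 3⟩)) (.node 1 (.one ⟨2400, 2, 4⟩) (.one ⟨16668, 1, 4⟩))) (.node 2 (.node 1 (.one ⟨11912, 1, 6⟩) (.one ⟨10485, 2, 6⟩))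 (.node 1 (.one ⟨15098, 1, 4⟩) (.one ⟨10314, 2, 5⟩)))) (.node 4 (.node 2 (.node 1 (.one ⟨1770, 2, 4⟩) (.one ⟨9606, 0, 7⟩)) (.node 1 (.one ⟨11699, 2, 5⟩) (.one ⟨5827, 0, 1⟩))) (.node 2 (.node 1 (.one ⟨6999, 1, 6⟩) (.one ⟨2144, 1, 5⟩)) (.node 1 (.one ⟨11949, 2, 5⟩) (.one ⟨9507, 0, 3⟩)))))) (.node 16 (.node 8 (.node 4 (.node 2 (.node 1 (.one ⟨2306, 2, 5⟩) (.one ⟨2825, 2, 5⟩)) (.node 1 (.one ⟨14641, 2, 4⟩) (.one ⟨15326, 2, 6⟩))) (.node 2 (.node 1 (.one ⟨13667, 1, 4⟩) (.one ⟨15051, 1, 5⟩)) (.node 1 (.one ⟨13921, 2, 5⟩) (.one ⟨9605, 0, 1⟩)))) (.node 4 (.node 2 (.node 1 (.one ⟨6865, 1, 4⟩) (.one ⟨4587, 1, 0⟩)) (.node 1 (.one ⟨10629, 1, 5⟩) (.one ⟨7360, 2, 6⟩))) (.node 2 (.node 1 (.one ⟨16630, 1, 5⟩) (.one ⟨7782, 0,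 4⟩)) (.node 1 (.one ⟨16841, 0, 3⟩) (.one ⟨1261, 0, 3⟩))))) (.node 8 (.node 4 (.node 2 (.node 1 (.one ⟨13397, 1, 5⟩) (.one ⟨7625, 2, 4⟩)) (.node 1 (.one ⟨14970, 2, 3⟩) (.one ⟨6988, 2, 5⟩))) (.node 2 (.node 1 (.one ⟨13664, 1, 6⟩) (.one ⟨1875, 2, 6⟩)) (.node 1 (.one ⟨10562, 0, 5⟩) (.one ⟨4799, 2, 4⟩)))) (.node 4 (.node 2 (.node 1 (.one ⟨15195, 1, 4⟩) (.one ⟨1865, 2, 5⟩)) (.node 1 (.one ⟨12290, 1, 6⟩) (.one ⟨15868, 2, 2⟩))) (.node 2 (.node 1 (.one ⟨13655, 0, 5⟩) (.one ⟨1327, 1, 1⟩)) (.node 1 (.one ⟨7993, 1, 5⟩) (.one ⟨10265, 1, 6⟩)))))))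
def par8_7 : Arr Par :=
  (.node 512 (.node 256 (.node 128 (.node 64 par8_7_0 par8_7_1) (.node 64 par8_7_2 par8_7_3)) (.node 128 (.node 64 par8_7_4 par8_7_5) (.node 64 par8_7_6 par8_7_7))) (.node 256 (.node 128 (.node 64 par8_7_8 par8_7_9) (.node 64 par8_7_10 par8_7_11)) (.node 128 (.node 64 par8_7_12 par8_7_13) (.node 64 par8_7_14 par8_7_15))))
def par8_8_0 : Arr Par :=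
  (.node 32 (.node 16 (.node 8 (.node 4 (.node 2 (.node 1 (.one ⟨4449, 1, 6⟩) (.one ⟨5701, 0, 5⟩)) (.node 1 (.one ⟨6506, 1, 5⟩) (.one ⟨15840, 1, 5⟩))) (.node 2 (.node 1 (.one ⟨6407, 1, 6⟩) (.one ⟨1104, 0, 2⟩)) (.node 1 (.one ⟨2542, 2, 5⟩) (.one ⟨12600, 1, 2⟩)))) (.node 4 (.node 2 (.node 1 (.one ⟨14592, 2, 6⟩) (.one ⟨14907, 0, 5⟩)) (.node 1 (.one ⟨11002, 2, 5⟩) (.one ⟨14548, 2, 5⟩))) (.node 2 (.node 1 (.one ⟨2605, 1, 5⟩) (.one ⟨10982, 2, 6⟩)) (.node 1 (.one ⟨13174, 2, 5⟩) (.one ⟨11197, 1, 5⟩))))) (.node 8 (.node 4 (.node 2 (.node 1 (.one ⟨6185, 2, 4⟩) (.one ⟨12191, 1, 3⟩)) (.node 1 (.one ⟨14401, 2, 5⟩) (.one ⟨12205, 2, 6⟩))) (.node 2 (.node 1 (.one ⟨5038, 1, 4⟩) (.one ⟨3813, 2, 5⟩)) (.node 1 (.one ⟨1995, 1,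 5⟩) (.one ⟨6279, 0, 5⟩)))) (.node 4 (.node 2 (.node 1 (.one ⟨1063, 2, 6⟩) (.one ⟨12584, 2, 4⟩)) (.node 1 (.one ⟨10755, 1, 4⟩) (.one ⟨863, 1, 4⟩))) (.node 2 (.node 1 (.one ⟨5111, 0, 5⟩) (.one ⟨1107, 0, 5⟩)) (.node 1 (.one ⟨8321, 2, 5⟩) (.one ⟨1665, 2, 3⟩)))))) (.node 16 (.node 8 (.node 4 (.node 2 (.node 1 (.one ⟨3262, 1, 5⟩) (.one ⟨1113, 0, 5⟩)) (.node 1 (.one ⟨12786, 2, 5⟩) (.one ⟨3981, 1, 5⟩))) (.node 2 (.node 1 (.one ⟨9694, 2, 5⟩) (.one ⟨14860, 1, 5⟩)) (.node 1 (.one ⟨9132, 0, 5⟩) (.one ⟨15545, 2, 6⟩)))) (.node 4 (.node 2 (.node 1 (.one ⟨11624, 1, 3⟩) (.one ⟨15980, 2, 5⟩)) (.node 1 (.one ⟨6836, 2, 6⟩) (.one ⟨889, 0, 5⟩))) (.node 2 (.node 1 (.one ⟨2486, 0, 4⟩) (.one ⟨116, 2, 6⟩)) (.node 1 (.one ⟨12808, 2,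 4⟩) (.one ⟨10519, 2, 4⟩))))) (.node 8 (.node 4 (.node 2 (.node 1 (.one ⟨1178, 0, 1⟩) (.one ⟨8501, 2, 4⟩)) (.node 1 (.one ⟨8686, 1, 2⟩) (.one ⟨15125, 1, 6⟩))) (.node 2 (.node 1 (.one ⟨16728, 1, 6⟩) (.one ⟨14734, 0, 6⟩)) (.node 1 (.one ⟨3742, 2, 6⟩) (.one ⟨13174, 1, 5⟩)))) (.node 4 (.node 2 (.node 1 (.one ⟨8511, 1, 2⟩) (.one ⟨2255, 1, 5⟩)) (.node 1 (.one ⟨14091, 1, 3⟩) (.one ⟨13873, 2, 5⟩))) (.node 2 (.node 1 (.one ⟨13005, 2, 5⟩) (.one ⟨17082, 1, 7⟩)) (.node 1 (.one ⟨16900, 2, 5⟩) (.one ⟨16625, 1, 4⟩)))))))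
def par8_8_1 : Arr Par :=
  (.node 32 (.node 16 (.node 8 (.node 4 (.node 2 (.node 1 (.one ⟨2248, 1, 5⟩) (.one ⟨4298, 1, 6⟩)) (.node 1 (.one ⟨14753, 1, 6⟩) (.one ⟨8260, 2, 5⟩))) (.node 2 (.node 1 (.one ⟨1501, 0, 4⟩) (.one ⟨11745, 1, 5⟩)) (.node 1 (.one ⟨8261, 2, 6⟩) (.one ⟨10352, 2, 4⟩)))) (.node 4 (.node 2 (.node 1 (.one ⟨3641, 1, 2⟩) (.one ⟨9586, 2, 5⟩)) (.node 1 (.one ⟨2345, 2, 5⟩) (.one ⟨9355, 1, 5⟩))) (.node 2 (.node 1 (.one ⟨927, 1, 3⟩) (.one ⟨13468, 1, 3⟩)) (.node 1 (.one ⟨1323, 2, 5⟩) (.one ⟨4570, 1, 0⟩))))) (.node 8 (.node 4 (.node 2 (.node 1 (.one ⟨2588, 2, 3⟩) (.one ⟨4051, 0, 4⟩)) (.node 1 (.one ⟨17060, 2, 5⟩) (.one ⟨15627, 2, 2⟩))) (.node 2 (.node 1 (.one ⟨11717, 2, 5⟩) (.one ⟨4068, 2, 3⟩)) (.node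 1 (.one ⟨13696, 1, 4⟩) (.one ⟨2025, 2, 5⟩)))) (.node 4 (.node 2 (.node 1 (.one ⟨2404, 1, 5⟩) (.one ⟨15481, 2, 6⟩)) (.node 1 (.one ⟨13157, 2, 5⟩) (.one ⟨11005, 2, 3⟩))) (.node 2 (.node 1 (.one ⟨16745, 2, 5⟩) (.one ⟨16305, 1, 5⟩)) (.node 1 (.one ⟨16472, 1, 3⟩) (.one ⟨4462, 2, 5⟩)))))) (.node 16 (.node 8 (.node 4 (.node 2 (.node 1 (.one ⟨12127, 1, 2⟩) (.one ⟨1171, 0, 3⟩)) (.node 1 (.one ⟨16412, 2, 5⟩) (.one ⟨3905, 2, 4⟩))) (.node 2 (.node 1 (.one ⟨8140, 2, 4⟩) (.one ⟨12027, 2, 5⟩)) (.node 1 (.one ⟨16240, 2, 6⟩) (.one ⟨3878, 2, 4⟩)))) (.node 4 (.node 2 (.node 1 (.one ⟨4614, 2, 6⟩) (.one ⟨3097, 2, 5⟩)) (.node 1 (.one ⟨11586, 1, 2⟩) (.one ⟨5235, 0, 6⟩))) (.node 2 (.node 1 (.one ⟨1498, 0, 4⟩) (.one ⟨10259, 1, 6⟩))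 (.node 1 (.one ⟨3932, 2, 5⟩) (.one ⟨7825, 0, 4⟩))))) (.node 8 (.node 4 (.node 2 (.node 1 (.one ⟨7585, 0, 4⟩) (.one ⟨4647, 1, 0⟩)) (.node 1 (.one ⟨11195, 2, 4⟩) (.one ⟨15514, 2, 6⟩))) (.node 2 (.node 1 (.one ⟨14874, 0, 6⟩) (.one ⟨13636, 2, 6⟩)) (.node 1 (.one ⟨2623, 1, 6⟩) (.one ⟨4676, 2, 4⟩)))) (.node 4 (.node 2 (.node 1 (.one ⟨4021, 2, 3⟩) (.one ⟨9583, 1, 7⟩)) (.node 1 (.one ⟨1789, 2, 3⟩) (.one ⟨17158, 0, 6⟩))) (.node 2 (.node 1 (.one ⟨7342, 1, 4⟩) (.one ⟨3893, 2, 5⟩)) (.node 1 (.one ⟨4797, 2, 6⟩) (.one ⟨14088, 1, 5⟩)))))))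
def par8_8_2 : Arr Par :=
  (.node 32 (.node 16 (.node 8 (.node 4 (.node 2 (.node 1 (.one ⟨16404, 0, 4⟩) (.one ⟨14456, 1, 4⟩)) (.node 1 (.one ⟨8232, 2, 4⟩) (.one ⟨14496, 1, 4⟩))) (.node 2 (.node 1 (.one ⟨2638, 1, 4⟩) (.one ⟨6796, 0, 4⟩)) (.node 1 (.one ⟨1557, 1, 4⟩) (.one ⟨16409, 1, 5⟩)))) (.node 4 (.node 2 (.node 1 (.one ⟨8054, 1, 3⟩) (.one ⟨9123, 1, 7⟩)) (.node 1 (.one ⟨3592, 2, 4⟩) (.one ⟨14864, 1, 5⟩))) (.node 2 (.node 1 (.one ⟨7150, 1, 3⟩) (.one ⟨17139, 0, 5⟩)) (.node 1 (.one ⟨1025, 0, 6⟩) (.one ⟨5497, 2, 4⟩))))) (.node 8 (.node 4 (.node 2 (.node 1 (.one ⟨3563, 2, 4⟩) (.one ⟨15121, 1, 7⟩)) (.node 1 (.one ⟨12823, 2, 4⟩) (.one ⟨4363, 2, 4⟩))) (.node 2 (.node 1 (.one ⟨4576, 2, 5⟩) (.one ⟨13539, 2, 5⟩)) (.node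 1 (.one ⟨8077, 1, 3⟩) (.one ⟨16616, 1, 5⟩)))) (.node 4 (.node 2 (.node 1 (.one ⟨15097, 1, 5⟩) (.one ⟨4265, 2, 6⟩)) (.node 1 (.one ⟨4502, 0, 4⟩) (.one ⟨3591, 1, 5⟩))) (.node 2 (.node 1 (.one ⟨16555, 2, 5⟩) (.one ⟨7785, 1, 3⟩)) (.node 1 (.one ⟨5625, 1, 4⟩) (.one ⟨12712, 1, 6⟩)))))) (.node 16 (.node 8 (.node 4 (.node 2 (.node 1 (.one ⟨16266, 1, 6⟩) (.one ⟨6318, 1, 6⟩)) (.node 1 (.one ⟨3980, 0, 3⟩) (.one ⟨14915, 1, 2⟩))) (.node 2 (.node 1 (.one ⟨12273, 2, 5⟩) (.one ⟨4152, 1, 4⟩)) (.node 1 (.one ⟨12323, 2, 5⟩) (.one ⟨16378, 0, 4⟩)))) (.node 4 (.node 2 (.node 1 (.one ⟨14904, 2, 5⟩) (.one ⟨11971, 0, 4⟩)) (.node 1 (.one ⟨15015, 2, 5⟩) (.one ⟨13792, 0, 4⟩))) (.node 2 (.node 1 (.one ⟨4742, 2, 6⟩) (.one ⟨14320, 2, 3⟩))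 (.node 1 (.one ⟨4773, 2, 6⟩) (.one ⟨9203, 1, 2⟩))))) (.node 8 (.node 4 (.node 2 (.node 1 (.one ⟨15566, 2, 1⟩) (.one ⟨1211, 2, 1⟩)) (.node 1 (.one ⟨3651, 0, 5⟩) (.one ⟨16449, 2, 2⟩))) (.node 2 (.node 1 (.one ⟨8063, 1, 3⟩) (.one ⟨8700, 2, 2⟩)) (.node 1 (.one ⟨6904, 1, 6⟩) (.one ⟨10311, 2, 1⟩)))) (.node 4 (.node 2 (.node 1 (.one ⟨8277, 1, 4⟩) (.one ⟨10296, 2, 2⟩)) (.node 1 (.one ⟨15243, 1, 5⟩) (.one ⟨2191, 0, 3⟩))) (.node 2 (.node 1 (.one ⟨588, 2, 1⟩) (.one ⟨2267, 2, 3⟩)) (.node 1 (.one ⟨8623, 1, 5⟩) (.one ⟨13354, 1, 2⟩)))))))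
def par8_8_3 : Arr Par :=
  (.node 32 (.node 16 (.node 8 (.node 4 (.node 2 (.node 1 (.one ⟨1538, 1, 2⟩) (.one ⟨2617, 1, 4⟩)) (.node 1 (.one ⟨13047, 1, 4⟩) (.one ⟨9113, 2, 5⟩))) (.node 2 (.node 1 (.one ⟨5917, 2, 6⟩) (.one ⟨10610, 0, 4⟩)) (.node 1 (.one ⟨3144, 1, 6⟩) (.one ⟨9130, 2, 5⟩)))) (.node 4 (.node 2 (.node 1 (.one ⟨5574, 2, 5⟩) (.one ⟨160, 1, 4⟩)) (.node 1 (.one ⟨16213, 1, 6⟩) (.one ⟨5020, 0, 4⟩))) (.node 2 (.node 1 (.one ⟨5936, 1, 5⟩) (.one ⟨15197, 2, 4⟩)) (.node 1 (.one ⟨3522, 1, 4⟩) (.one ⟨5731, 1, 4⟩))))) (.node 8 (.node 4 (.node 2 (.node 1 (.one ⟨6644, 2, 1⟩) (.one ⟨17166, 2, 5⟩)) (.node 1 (.one ⟨4246, 1, 0⟩) (.one ⟨10030, 2, 5⟩))) (.node 2 (.node 1 (.one ⟨13006, 0, 4⟩) (.one ⟨12264, 2, 2⟩)) (.node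 1 (.one ⟨5823, 1, 5⟩) (.one ⟨9338, 1, 5⟩)))) (.node 4 (.node 2 (.node 1 (.one ⟨1528, 2, 1⟩) (.one ⟨11159, 1, 5⟩)) (.node 1 (.one ⟨13122, 2, 3⟩) (.one ⟨8695, 1, 5⟩))) (.node 2 (.node 1 (.one ⟨2204, 0, 6⟩) (.one ⟨7698, 1, 6⟩)) (.node 1 (.one ⟨14231, 1, 5⟩) (.one ⟨12699, 2, 3⟩)))))) (.node 16 (.node 8 (.node 4 (.node 2 (.node 1 (.one ⟨14556, 2, 5⟩) (.one ⟨9578, 1, 5⟩)) (.node 1 (.one ⟨4569, 2, 5⟩) (.one ⟨6950, 1, 5⟩))) (.node 2 (.node 1 (.one ⟨17127, 2, 4⟩) (.one ⟨5660, 1, 6⟩)) (.node 1 (.one ⟨4812, 0, 4⟩) (.one ⟨11813, 2, 5⟩)))) (.node 4 (.node 2 (.node 1 (.one ⟨9490, 2, 1⟩) (.one ⟨3709, 1, 4⟩)) (.node 1 (.one ⟨2379, 2, 5⟩) (.one ⟨5735, 2, 6⟩))) (.node 2 (.node 1 (.one ⟨8072, 2, 5⟩) (.one ⟨14325, 2, 5⟩)) (.node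 1 (.one ⟨14094, 0, 6⟩) (.one ⟨4394, 0, 5⟩))))) (.node 8 (.node 4 (.node 2 (.node 1 (.one ⟨2709, 2, 3⟩) (.one ⟨16490, 1, 3⟩)) (.node 1 (.one ⟨16696, 1, 3⟩) (.one ⟨6438, 1, 4⟩))) (.node 2 (.node 1 (.one ⟨6524, 1, 3⟩) (.one ⟨6057, 2, 4⟩)) (.node 1 (.one ⟨17036, 2, 5⟩) (.one ⟨320, 0, 4⟩)))) (.node 4 (.node 2 (.node 1 (.one ⟨10103, 0, 5⟩) (.one ⟨10072, 1, 5⟩)) (.node 1 (.one ⟨2253, 0, 4⟩) (.one ⟨5086, 2, 5⟩))) (.node 2 (.node 1 (.one ⟨4879, 0, 5⟩) (.one ⟨5292, 0, 4⟩)) (.node 1 (.one ⟨11656, 1, 5⟩) (.one ⟨15270, 2, 6⟩)))))))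
def par8_8_4 : Arr Par :=
  (.node 32 (.node 16 (.node 8 (.node 4 (.node 2 (.node 1 (.one ⟨15565, 2, 4⟩) (.one ⟨125, 0, 4⟩)) (.node 1 (.one ⟨13068, 0, 4⟩) (.one ⟨924, 0, 3⟩))) (.node 2 (.node 1 (.one ⟨13066, 0, 5⟩) (.one ⟨1075, 1, 3⟩)) (.node 1 (.one ⟨496, 0, 2⟩) (.one ⟨2806, 1, 4⟩)))) (.node 4 (.node 2 (.node 1 (.one ⟨5617, 1, 4⟩) (.one ⟨16040, 2, 7⟩)) (.node 1 (.one ⟨10483, 1, 6⟩) (.one ⟨9156, 2, 4⟩))) (.node 2 (.node 1 (.one ⟨17025, 1, 6⟩) (.one ⟨7153, 2, 5⟩)) (.node 1 (.one ⟨4633, 1, 6⟩) (.one ⟨8423, 0, 6⟩))))) (.node 8 (.node 4 (.node 2 (.node 1 (.one ⟨3604, 2, 5⟩) (.one ⟨5361, 1, 5⟩)) (.node 1 (.one ⟨14594, 0, 5⟩) (.one ⟨8738, 2, 6⟩))) (.node 2 (.node 1 (.one ⟨12788, 2, 4⟩) (.one ⟨280, 2, 5⟩)) (.node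 1 (.one ⟨14165, 2, 5⟩) (.one ⟨4281, 0, 5⟩)))) (.node 4 (.node 2 (.node 1 (.one ⟨4419, 1, 3⟩) (.one ⟨3966, 1, 3⟩)) (.node 1 (.one ⟨1052, 1, 3⟩) (.one ⟨3149, 2, 7⟩))) (.node 2 (.node 1 (.one ⟨15535, 0, 2⟩) (.one ⟨9342, 2, 6⟩)) (.node 1 (.one ⟨13616, 0, 4⟩) (.one ⟨822, 1, 6⟩)))))) (.node 16 (.node 8 (.node 4 (.node 2 (.node 1 (.one ⟨3431, 2, 5⟩) (.one ⟨11545, 2, 2⟩)) (.node 1 (.one ⟨13646, 0, 5⟩) (.one ⟨3698, 0, 5⟩))) (.node 2 (.node 1 (.one ⟨15199, 2, 2⟩) (.one ⟨7240, 2, 5⟩)) (.node 1 (.one ⟨14161, 2, 6⟩) (.one ⟨7738, 2, 4⟩)))) (.node 4 (.node 2 (.node 1 (.one ⟨9128, 1, 4⟩) (.one ⟨16867, 2, 4⟩)) (.node 1 (.one ⟨13091, 0, 3⟩) (.one ⟨5921, 0, 3⟩))) (.node 2 (.node 1 (.one ⟨13196, 2, 1⟩) (.one ⟨15207, 1, 4⟩)) (.node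 1 (.one ⟨3570, 2, 4⟩) (.one ⟨5798, 1, 3⟩))))) (.node 8 (.node 4 (.node 2 (.node 1 (.one ⟨12602, 1, 7⟩) (.one ⟨2411, 1, 4⟩)) (.node 1 (.one ⟨16904, 1, 7⟩) (.one ⟨4470, 1, 0⟩))) (.node 2 (.node 1 (.one ⟨2230, 1, 2⟩) (.one ⟨12867, 1, 3⟩)) (.node 1 (.one ⟨5592, 1, 6⟩) (.one ⟨1641, 2, 3⟩)))) (.node 4 (.node 2 (.node 1 (.one ⟨14472, 1, 3⟩) (.one ⟨4473, 1, 0⟩)) (.node 1 (.one ⟨9310, 2, 2⟩) (.one ⟨8404, 1, 5⟩))) (.node 2 (.node 1 (.one ⟨9817, 1, 5⟩) (.one ⟨9658, 2, 6⟩)) (.node 1 (.one ⟨10193, 2, 6⟩) (.one ⟨9331, 0, 1⟩)))))))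
def par8_8_5 : Arr Par :=
  (.node 32 (.node 16 (.node 8 (.node 4 (.node 2 (.node 1 (.one ⟨9627, 1, 2⟩) (.one ⟨11284, 1, 4⟩)) (.node 1 (.one ⟨7331, 2, 6⟩) (.one ⟨8415, 0, 4⟩))) (.node 2 (.node 1 (.one ⟨3160, 1, 6⟩) (.one ⟨1822, 2, 4⟩)) (.node 1 (.one ⟨4373, 1, 0⟩) (.one ⟨8603, 0, 5⟩)))) (.node 4 (.node 2 (.node 1 (.one ⟨15447, 1, 4⟩) (.one ⟨1611, 1, 5⟩)) (.node 1 (.one ⟨10106, 1, 7⟩) (.one ⟨323, 0, 4⟩))) (.node 2 (.node 1 (.one ⟨13603, 2, 7⟩) (.one ⟨2099, 2, 2⟩)) (.node 1 (.one ⟨8604, 0, 4⟩) (.one ⟨9237, 0, 5⟩))))) (.node 8 (.node 4 (.node 2 (.node 1 (.one ⟨6587, 1, 3⟩) (.one ⟨4279, 2, 5⟩)) (.node 1 (.one ⟨14697, 2, 2⟩) (.one ⟨11387, 1, 4⟩))) (.node 2 (.node 1 (.one ⟨9806, 1, 4⟩) (.one ⟨1059, 2, 4⟩)) (.node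 1 (.one ⟨17195, 2, 5⟩) (.one ⟨9217, 1, 3⟩)))) (.node 4 (.node 2 (.node 1 (.one ⟨6820, 2, 4⟩) (.one ⟨9800, 1, 5⟩)) (.node 1 (.one ⟨10857, 2, 5⟩) (.one ⟨6865, 2, 4⟩))) (.node 2 (.node 1 (.one ⟨7920, 1, 3⟩) (.one ⟨15080, 1, 5⟩)) (.node 1 (.one ⟨2049, 2, 5⟩) (.one ⟨7951, 2, 4⟩)))))) (.node 16 (.node 8 (.node 4 (.node 2 (.node 1 (.one ⟨11772, 1, 6⟩) (.one ⟨17088, 1, 5⟩)) (.node 1 (.one ⟨13885, 1, 6⟩) (.one ⟨13593, 1, 5⟩))) (.node 2 (.node 1 (.one ⟨10418, 2, 4⟩) (.one ⟨15189, 0, 4⟩)) (.node 1 (.one ⟨16108, 1, 5⟩) (.one ⟨13468, 2, 3⟩)))) (.node 4 (.node 2 (.node 1 (.one ⟨4365, 1, 0⟩) (.one ⟨9489, 2, 2⟩)) (.node 1 (.one ⟨3098, 0, 4⟩) (.one ⟨13606, 2, 5⟩))) (.node 2 (.node 1 (.one ⟨8756, 1, 2⟩) (.one ⟨9825, 2, 2⟩))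 (.node 1 (.one ⟨6153, 1, 5⟩) (.one ⟨1293, 2, 1⟩))))) (.node 8 (.node 4 (.node 2 (.node 1 (.one ⟨9235, 0, 5⟩) (.one ⟨9145, 2, 1⟩)) (.node 1 (.one ⟨6648, 2, 3⟩) (.one ⟨11671, 1, 3⟩))) (.node 2 (.node 1 (.one ⟨4644, 1, 5⟩) (.one ⟨9286, 2, 7⟩)) (.node 1 (.one ⟨12843, 1, 6⟩) (.one ⟨1795, 2, 6⟩)))) (.node 4 (.node 2 (.node 1 (.one ⟨9476, 2, 1⟩) (.one ⟨8732, 1, 4⟩)) (.node 1 (.one ⟨7476, 1, 6⟩) (.one ⟨16767, 1, 5⟩))) (.node 2 (.node 1 (.one ⟨4662, 1, 0⟩) (.one ⟨9607, 1, 5⟩)) (.node 1 (.one ⟨1947, 2, 5⟩) (.one ⟨12208, 1, 7⟩)))))))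
def par8_8_6 : Arr Par :=
  (.node 32 (.node 16 (.node 8 (.node 4 (.node 2 (.node 1 (.one ⟨16777, 2, 5⟩) (.one ⟨6183, 1, 7⟩)) (.node 1 (.one ⟨1337, 1, 5⟩) (.one ⟨16615, 0, 5⟩))) (.node 2 (.node 1 (.one ⟨14130, 1, 5⟩) (.one ⟨8145, 1, 4⟩)) (.node 1 (.one ⟨4377, 1, 3⟩) (.one ⟨5680, 2, 1⟩)))) (.node 4 (.node 2 (.node 1 (.one ⟨5464, 1, 5⟩) (.one ⟨13781, 2, 2⟩)) (.node 1 (.one ⟨1363, 2, 2⟩) (.one ⟨16322, 1, 5⟩))) (.node 2 (.node 1 (.one ⟨1120, 0, 1⟩) (.one ⟨577, 2, 1⟩)) (.node 1 (.one ⟨6108, 1, 3⟩) (.one ⟨6029, 1, 3⟩))))) (.node 8 (.node 4 (.node 2 (.node 1 (.one ⟨9328, 0, 6⟩) (.one ⟨149, 2, 3⟩)) (.node 1 (.one ⟨11127, 2, 2⟩) (.one ⟨15927, 1, 3⟩))) (.node 2 (.node 1 (.one ⟨7877, 1, 2⟩) (.one ⟨6842, 1, 4⟩)) (.node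 1 (.one ⟨14916, 1, 4⟩) (.one ⟨2511, 1, 2⟩)))) (.node 4 (.node 2 (.node 1 (.one ⟨799, 1, 2⟩) (.one ⟨10597, 1, 5⟩)) (.node 1 (.one ⟨8525, 0, 3⟩) (.one ⟨4396, 2, 4⟩))) (.node 2 (.node 1 (.one ⟨5668, 2, 3⟩) (.one ⟨1369, 2, 1⟩)) (.node 1 (.one ⟨8271, 2, 1⟩) (.one ⟨6139, 2, 4⟩)))))) (.node 16 (.node 8 (.node 4 (.node 2 (.node 1 (.one ⟨11315, 2, 7⟩) (.one ⟨14316, 1, 4⟩)) (.node 1 (.one ⟨10996, 2, 3⟩) (.one ⟨7089, 2, 4⟩))) (.node 2 (.node 1 (.one ⟨9971, 2, 4⟩) (.one ⟨10698, 1, 1⟩)) (.node 1 (.one ⟨10419, 2, 3⟩) (.one ⟨16562, 0, 4⟩)))) (.node 4 (.node 2 (.node 1 (.one ⟨6889, 2, 4⟩) (.one ⟨14859, 2, 3⟩)) (.node 1 (.one ⟨10129, 2, 5⟩) (.one ⟨10024, 2, 3⟩))) (.node 2 (.node 1 (.one ⟨2338, 1, 4⟩) (.one ⟨7039, 2, 5⟩)) (.node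 1 (.one ⟨4286, 1, 3⟩) (.one ⟨3299, 2, 4⟩))))) (.node 8 (.node 4 (.node 2 (.node 1 (.one ⟨13825, 1, 5⟩) (.one ⟨8145, 0, 4⟩)) (.node 1 (.one ⟨4593, 1, 0⟩) (.one ⟨3295, 2, 5⟩))) (.node 2 (.node 1 (.one ⟨3296, 2, 3⟩) (.one ⟨16803, 1, 4⟩)) (.node 1 (.one ⟨9117, 1, 5⟩) (.one ⟨5202, 2, 4⟩)))) (.node 4 (.node 2 (.node 1 (.one ⟨8513, 1, 5⟩) (.one ⟨8064, 2, 6⟩)) (.node 1 (.one ⟨3458, 2, 6⟩) (.one ⟨16872, 2, 4⟩))) (.node 2 (.node 1 (.one ⟨13167, 1, 3⟩) (.one ⟨11714, 2, 3⟩)) (.node 1 (.one ⟨15562, 2, 4⟩) (.one ⟨8138, 0, 7⟩)))))))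
def par8_8_7 : Arr Par :=
  (.node 32 (.node 16 (.node 8 (.node 4 (.node 2 (.node 1 (.one ⟨15232, 0, 4⟩) (.one ⟨13826, 0, 5⟩)) (.node 1 (.one ⟨15566, 1, 1⟩) (.one ⟨8998, 1, 4⟩))) (.node 2 (.node 1 (.one ⟨7730, 2, 5⟩) (.one ⟨5811, 0, 4⟩)) (.node 1 (.one ⟨7950, 1, 4⟩) (.one ⟨7191, 2, 4⟩)))) (.node 4 (.node 2 (.node 1 (.one ⟨15200, 2, 4⟩) (.one ⟨12550, 1, 2⟩)) (.node 1 (.one ⟨3347, 2, 5⟩) (.one ⟨4514, 1, 6⟩))) (.node 2 (.node 1 (.one ⟨2643, 0, 6⟩) (.one ⟨9152, 2, 4⟩)) (.node 1 (.one ⟨1386, 2, 6⟩) (.one ⟨15694, 2, 2⟩))))) (.node 8 (.node 4 (.node 2 (.node 1 (.one ⟨4078, 2, 2⟩) (.one ⟨4385, 2, 3⟩)) (.node 1 (.one ⟨16107, 2, 3⟩) (.one ⟨14940, 2, 6⟩))) (.node 2 (.node 1 (.one ⟨3463, 2, 6⟩) (.one ⟨5093, 1, 3⟩)) (.node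 1 (.one ⟨16185, 1, 3⟩) (.one ⟨10358, 2, 5⟩)))) (.node 4 (.node 2 (.node 1 (.one ⟨9398, 1, 3⟩) (.one ⟨7955, 1, 3⟩)) (.node 1 (.one ⟨9731, 2, 4⟩) (.one ⟨14764, 2, 3⟩))) (.node 2 (.node 1 (.one ⟨195, 2, 3⟩) (.one ⟨8381, 0, 4⟩)) (.node 1 (.one ⟨12005, 0, 4⟩) (.one ⟨5890, 2, 4⟩)))))) (.node 16 (.node 8 (.node 4 (.node 2 (.node 1 (.one ⟨14374, 1, 4⟩) (.one ⟨8789, 1, 5⟩)) (.node 1 (.one ⟨12963, 2, 5⟩) (.one ⟨16525, 2, 6⟩))) (.node 2 (.node 1 (.one ⟨15724, 0, 5⟩) (.one ⟨5774, 2, 5⟩)) (.node 1 (.one ⟨6548, 0, 5⟩) (.one ⟨9810, 1, 5⟩)))) (.node 4 (.node 2 (.node 1 (.one ⟨12130, 2, 1⟩) (.one ⟨10656, 2, 4⟩)) (.node 1 (.one ⟨11215, 2, 4⟩) (.one ⟨16676, 2, 6⟩))) (.node 2 (.node 1 (.one ⟨15764, 2, 6⟩) (.one ⟨4222, 1, 6⟩))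 (.node 1 (.one ⟨14827, 2, 1⟩) (.one ⟨9112, 1, 2⟩))))) (.node 8 (.node 4 (.node 2 (.node 1 (.one ⟨16613, 1, 4⟩) (.one ⟨3441, 2, 5⟩)) (.node 1 (.one ⟨3649, 1, 5⟩) (.one ⟨2266, 1, 4⟩))) (.node 2 (.node 1 (.one ⟨4381, 1, 0⟩) (.one ⟨4452, 1, 0⟩)) (.node 1 (.one ⟨3445, 2, 5⟩) (.one ⟨7731, 2, 4⟩)))) (.node 4 (.node 2 (.node 1 (.one ⟨16045, 0, 6⟩) (.one ⟨9073, 1, 4⟩)) (.node 1 (.one ⟨5226, 0, 4⟩) (.one ⟨6082, 2, 5⟩))) (.node 2 (.node 1 (.one ⟨1644, 1, 1⟩) (.one ⟨5240, 2, 5⟩)) (.node 1 (.one ⟨7924, 1, 4⟩) (.one ⟨13381, 0, 6⟩)))))))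
def par8_8_8 : Arr Par :=
  (.node 32 (.node 16 (.node 8 (.node 4 (.node 2 (.node 1 (.one ⟨7044, 1, 2⟩) (.one ⟨8650, 1, 6⟩)) (.node 1 (.one ⟨4657, 1, 0⟩) (.one ⟨1287, 2, 6⟩))) (.node 2 (.node 1 (.one ⟨15147, 1, 6⟩) (.one ⟨7961, 2, 4⟩)) (.node 1 (.one ⟨8250, 2, 4⟩) (.one ⟨10844, 1, 7⟩)))) (.node 4 (.node 2 (.node 1 (.one ⟨13528, 1, 7⟩) (.one ⟨15773, 1, 5⟩)) (.node 1 (.one ⟨7666, 2, 5⟩) (.one ⟨1379, 2, 6⟩))) (.node 2 (.node 1 (.one ⟨4102, 1, 4⟩) (.one ⟨15421, 2, 4⟩)) (.node 1 (.one ⟨7169, 1, 3⟩) (.one ⟨2333, 1, 4⟩))))) (.node 8 (.node 4 (.node 2 (.node 1 (.one ⟨15655, 2, 5⟩) (.one ⟨14364, 1, 4⟩)) (.node 1 (.one ⟨6943, 2, 6⟩) (.one ⟨3129, 0, 6⟩))) (.node 2 (.node 1 (.one ⟨9741, 0, 2⟩) (.one ⟨10361, 2, 4⟩)) (.node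 1 (.one ⟨5675, 1, 6⟩) (.one ⟨5168, 1, 2⟩)))) (.node 4 (.node 2 (.node 1 (.one ⟨6479, 2, 2⟩) (.one ⟨3247, 2, 5⟩)) (.node 1 (.one ⟨7740, 0, 4⟩) (.one ⟨15725, 1, 2⟩))) (.node 2 (.node 1 (.one ⟨4429, 2, 3⟩) (.one ⟨14980, 0, 3⟩)) (.node 1 (.one ⟨9666, 1, 4⟩) (.one ⟨3575, 2, 5⟩)))))) (.node 16 (.node 8 (.node 4 (.node 2 (.node 1 (.one ⟨4653, 2, 4⟩) (.one ⟨7770, 2, 5⟩)) (.node 1 (.one ⟨2447, 0, 5⟩) (.one ⟨539, 2, 4⟩))) (.node 2 (.node 1 (.one ⟨2856, 2, 5⟩) (.one ⟨5633, 2, 5⟩)) (.node 1 (.one ⟨17189, 0, 6⟩) (.one ⟨14391, 1, 5⟩)))) (.node 4 (.node 2 (.node 1 (.one ⟨11290, 1, 4⟩) (.one ⟨6836, 1, 6⟩)) (.node 1 (.one ⟨4928, 0, 4⟩) (.one ⟨15473, 1, 3⟩))) (.node 2 (.node 1 (.one ⟨10321, 1, 5⟩) (.one ⟨5958, 1, 3⟩)) (.node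 1 (.one ⟨3067, 1, 5⟩) (.one ⟨4538, 0, 6⟩))))) (.node 8 (.node 4 (.node 2 (.node 1 (.one ⟨2045, 1, 2⟩) (.one ⟨7790, 0, 4⟩)) (.node 1 (.one ⟨14815, 2, 5⟩) (.one ⟨4508, 0, 3⟩))) (.node 2 (.node 1 (.one ⟨14340, 0, 1⟩) (.one ⟨13458, 2, 5⟩)) (.node 1 (.one ⟨11413, 0, 5⟩) (.one ⟨11338, 2, 3⟩)))) (.node 4 (.node 2 (.node 1 (.one ⟨10714, 1, 6⟩) (.one ⟨5070, 2, 6⟩)) (.node 1 (.one ⟨15390, 0, 5⟩) (.one ⟨12761, 1, 4⟩))) (.node 2 (.node 1 (.one ⟨16987, 1, 5⟩) (.one ⟨5576, 2, 6⟩)) (.node 1 (.one ⟨11583, 2, 3⟩) (.one ⟨11104, 2, 3⟩)))))))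
def par8_8_9 : Arr Par :=
  (.node 32 (.node 16 (.node 8 (.node 4 (.node 2 (.node 1 (.one ⟨12607, 2, 4⟩) (.one ⟨8248, 1, 3⟩)) (.node 1 (.one ⟨45, 2, 4⟩) (.one ⟨12276, 1, 6⟩))) (.node 2 (.node 1 (.one ⟨6117, 2, 4⟩) (.one ⟨14685, 2, 5⟩)) (.node 1 (.one ⟨16637, 1, 6⟩) (.one ⟨5365, 2, 5⟩)))) (.node 4 (.node 2 (.node 1 (.one ⟨7413, 1, 3⟩) (.one ⟨10507, 1, 7⟩)) (.node 1 (.one ⟨4247, 1, 2⟩) (.one ⟨3120, 2, 5⟩))) (.node 2 (.node 1 (.one ⟨7757, 0, 2⟩) (.one ⟨16262, 0, 6⟩)) (.node 1 (.one ⟨11878, 1, 2⟩) (.one ⟨9050, 0, 6⟩))))) (.node 8 (.node 4 (.node 2 (.node 1 (.one ⟨10847, 2, 3⟩) (.one ⟨7879, 1, 4⟩)) (.node 1 (.one ⟨8719, 2, 5⟩) (.one ⟨6964, 1, 2⟩))) (.node 2 (.node 1 (.one ⟨8076, 1, 6⟩) (.one ⟨14932, 2, 4⟩)) (.node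 1 (.one ⟨804, 2, 5⟩) (.one ⟨14099, 1, 2⟩)))) (.node 4 (.node 2 (.node 1 (.one ⟨1564, 1, 1⟩) (.one ⟨4511, 1, 2⟩)) (.node 1 (.one ⟨16234, 1, 6⟩) (.one ⟨1411, 2, 6⟩))) (.node 2 (.node 1 (.one ⟨802, 1, 6⟩) (.one ⟨4471, 1, 5⟩)) (.node 1 (.one ⟨1482, 2, 5⟩) (.one ⟨14033, 1, 6⟩)))))) (.node 16 (.node 8 (.node 4 (.node 2 (.node 1 (.one ⟨9412, 1, 3⟩) (.one ⟨3576, 1, 5⟩)) (.node 1 (.one ⟨8037, 1, 6⟩) (.one ⟨4383, 2, 4⟩))) (.node 2 (.node 1 (.one ⟨12383, 2, 5⟩) (.one ⟨11729, 1, 4⟩)) (.node 1 (.one ⟨4351, 2, 5⟩) (.one ⟨12148, 2, 4⟩)))) (.node 4 (.node 2 (.node 1 (.one ⟨11211, 2, 1⟩) (.one ⟨2220, 1, 7⟩)) (.node 1 (.one ⟨9550, 1, 5⟩) (.one ⟨16675, 2, 5⟩))) (.node 2 (.node 1 (.one ⟨2644, 0, 4⟩) (.one ⟨7172, 2, 5⟩)) (.node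 1 (.one ⟨10340, 0, 4⟩) (.one ⟨12782, 1, 3⟩))))) (.node 8 (.node 4 (.node 2 (.node 1 (.one ⟨4496, 2, 4⟩) (.one ⟨9380, 1, 2⟩)) (.node 1 (.one ⟨13660, 0, 5⟩) (.one ⟨15600, 1, 4⟩))) (.node 2 (.node 1 (.one ⟨6197, 2, 7⟩) (.one ⟨16345, 1, 5⟩)) (.node 1 (.one ⟨5326, 2, 3⟩) (.one ⟨9129, 2, 5⟩)))) (.node 4 (.node 2 (.node 1 (.one ⟨3507, 1, 5⟩) (.one ⟨8938, 1, 4⟩)) (.node 1 (.one ⟨4574, 2, 5⟩) (.one ⟨16835, 0, 5⟩))) (.node 2 (.node 1 (.one ⟨5325, 1, 3⟩) (.one ⟨7974, 1, 6⟩)) (.node 1 (.one ⟨1321, 2, 5⟩) (.one ⟨1005, 2, 5⟩)))))))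
def par8_8_10 : Arr Par :=
  (.node 32 (.node 16 (.node 8 (.node 4 (.node 2 (.node 1 (.one ⟨7135, 2, 5⟩) (.one ⟨4577, 1, 5⟩)) (.node 1 (.one ⟨5393, 1, 7⟩) (.one ⟨15228, 2, 3⟩))) (.node 2 (.node 1 (.one ⟨434, 0, 6⟩) (.one ⟨13408, 2, 6⟩)) (.node 1 (.one ⟨12665, 0, 6⟩) (.one ⟨13499, 0, 7⟩)))) (.node 4 (.node 2 (.node 1 (.one ⟨8402, 2, 1⟩) (.one ⟨13013, 0, 7⟩)) (.node 1 (.one ⟨5396, 1, 6⟩) (.one ⟨394, 2, 2⟩))) (.node 2 (.node 1 (.one ⟨10555, 1, 6⟩) (.one ⟨4760, 0, 6⟩)) (.node 1 (.one ⟨7409, 1, 6⟩) (.one ⟨16878, 0, 4⟩))))) (.node 8 (.node 4 (.node 2 (.node 1 (.one ⟨5116, 2, 4⟩) (.one ⟨16135, 0, 3⟩)) (.node 1 (.one ⟨8341, 1, 6⟩) (.one ⟨11685, 2, 3⟩))) (.node 2 (.node 1 (.one ⟨5423, 1, 3⟩) (.one ⟨15665, 2, 3⟩)) (.node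 1 (.one ⟨5931, 2, 3⟩) (.one ⟨10391, 1, 4⟩)))) (.node 4 (.node 2 (.node 1 (.one ⟨192, 1, 3⟩) (.one ⟨2545, 0, 3⟩)) (.node 1 (.one ⟨5705, 2, 6⟩) (.one ⟨6630, 0, 6⟩))) (.node 2 (.node 1 (.one ⟨2710, 1, 3⟩) (.one ⟨2040, 1, 4⟩)) (.node 1 (.one ⟨4613, 2, 6⟩) (.one ⟨1886, 1, 4⟩)))))) (.node 16 (.node 8 (.node 4 (.node 2 (.node 1 (.one ⟨15357, 1, 5⟩) (.one ⟨15627, 1, 2⟩)) (.node 1 (.one ⟨1187, 1, 1⟩) (.one ⟨11199, 2, 6⟩))) (.node 2 (.node 1 (.one ⟨16517, 2, 5⟩) (.one ⟨8733, 2, 4⟩)) (.node 1 (.one ⟨11579, 0, 4⟩) (.one ⟨1297, 1, 2⟩)))) (.node 4 (.node 2 (.node 1 (.one ⟨10926, 0, 5⟩) (.one ⟨1885, 1, 4⟩)) (.node 1 (.one ⟨13596, 1, 3⟩) (.one ⟨3653, 2, 6⟩))) (.node 2 (.node 1 (.one ⟨17111, 1, 5⟩) (.one ⟨10403, 0, 4⟩)) (.node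 1 (.one ⟨16880, 1, 6⟩) (.one ⟨10551, 2, 4⟩))))) (.node 8 (.node 4 (.node 2 (.node 1 (.one ⟨2705, 2, 3⟩) (.one ⟨12424, 1, 4⟩)) (.node 1 (.one ⟨5568, 1, 5⟩) (.one ⟨4789, 2, 5⟩))) (.node 2 (.node 1 (.one ⟨12662, 2, 5⟩) (.one ⟨2444, 1, 4⟩)) (.node 1 (.one ⟨9291, 0, 1⟩) (.one ⟨16186, 1, 5⟩)))) (.node 4 (.node 2 (.node 1 (.one ⟨4880, 1, 3⟩) (.one ⟨4297, 1, 5⟩)) (.node 1 (.one ⟨16626, 1, 3⟩) (.one ⟨8893, 2, 2⟩))) (.node 2 (.node 1 (.one ⟨14157, 1, 2⟩) (.one ⟨9324, 0, 1⟩)) (.node 1 (.one ⟨8892, 2, 3⟩) (.one ⟨13071, 2, 5⟩)))))))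
def par8_8_11 : Arr Par :=
  (.node 32 (.node 16 (.node 8 (.node 4 (.node 2 (.node 1 (.one ⟨11332, 0, 6⟩) (.one ⟨1416, 2, 5⟩)) (.node 1 (.one ⟨7768, 2, 4⟩) (.one ⟨270, 2, 4⟩))) (.node 2 (.node 1 (.one ⟨7848, 2, 4⟩) (.one ⟨14251, 1, 5⟩)) (.node 1 (.one ⟨15136, 2, 4⟩) (.one ⟨5759, 2, 4⟩)))) (.node 4 (.node 2 (.node 1 (.one ⟨13120, 2, 3⟩) (.one ⟨3561, 2, 6⟩)) (.node 1 (.one ⟨15154, 2, 6⟩) (.one ⟨11870, 1, 2⟩))) (.node 2 (.node 1 (.one ⟨10947, 1, 5⟩) (.one ⟨12181, 1, 3⟩)) (.node 1 (.one ⟨7071, 0, 6⟩) (.one ⟨12173, 1, 3⟩))))) (.node 8 (.node 4 (.node 2 (.node 1 (.one ⟨9319, 0, 1⟩) (.one ⟨15165, 1, 5⟩)) (.node 1 (.one ⟨1367, 2, 2⟩) (.one ⟨4327, 0, 4⟩))) (.node 2 (.node 1 (.one ⟨9681, 0, 4⟩) (.one ⟨7055, 0, 3⟩)) (.node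 1 (.one ⟨10680, 2, 3⟩) (.one ⟨2436, 1, 4⟩)))) (.node 4 (.node 2 (.node 1 (.one ⟨1620, 2, 4⟩) (.one ⟨10533, 1, 5⟩)) (.node 1 (.one ⟨4135, 1, 5⟩) (.one ⟨15670, 2, 2⟩))) (.node 2 (.node 1 (.one ⟨4046, 1, 5⟩) (.one ⟨2399, 1, 5⟩)) (.node 1 (.one ⟨12140, 1, 4⟩) (.one ⟨9320, 0, 1⟩)))))) (.node 16 (.node 8 (.node 4 (.node 2 (.node 1 (.one ⟨7183, 0, 5⟩) (.one ⟨11592, 1, 6⟩)) (.node 1 (.one ⟨1890, 2, 4⟩) (.one ⟨9012, 2, 2⟩))) (.node 2 (.node 1 (.one ⟨17004, 0, 5⟩) (.one ⟨558, 2, 4⟩)) (.node 1 (.one ⟨617, 1, 2⟩) (.one ⟨10669, 1, 6⟩)))) (.node 4 (.node 2 (.node 1 (.one ⟨14352, 1, 5⟩) (.one ⟨16463, 1, 3⟩)) (.node 1 (.one ⟨12191, 0, 3⟩) (.one ⟨9292, 0, 1⟩))) (.node 2 (.node 1 (.one ⟨16819, 2, 5⟩) (.one ⟨3675, 0, 3⟩)) (.node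 1 (.one ⟨5965, 1, 7⟩) (.one ⟨7701, 1, 2⟩))))) (.node 8 (.node 4 (.node 2 (.node 1 (.one ⟨2954, 2, 6⟩) (.one ⟨5565, 1, 1⟩)) (.node 1 (.one ⟨6294, 2, 5⟩) (.one ⟨13639, 1, 6⟩))) (.node 2 (.node 1 (.one ⟨15429, 2, 6⟩) (.one ⟨3176, 2, 1⟩)) (.node 1 (.one ⟨13648, 1, 2⟩) (.one ⟨14120, 2, 4⟩)))) (.node 4 (.node 2 (.node 1 (.one ⟨2577, 2, 5⟩) (.one ⟨14377, 2, 5⟩)) (.node 1 (.one ⟨9429, 0, 5⟩) (.one ⟨3163, 1, 5⟩))) (.node 2 (.node 1 (.one ⟨3509, 1, 4⟩) (.one ⟨8381, 1, 4⟩)) (.node 1 (.one ⟨6426, 0, 5⟩) (.one ⟨7797, 1, 2⟩)))))))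
def par8_8_12 : Arr Par :=
  (.node 32 (.node 16 (.node 8 (.node 4 (.node 2 (.node 1 (.one ⟨3945, 2, 6⟩) (.one ⟨9435, 0, 5⟩)) (.node 1 (.one ⟨1589, 0, 4⟩) (.one ⟨8869, 1, 5⟩))) (.node 2 (.node 1 (.one ⟨9909, 1, 4⟩) (.one ⟨8933, 0, 5⟩)) (.node 1 (.one ⟨16107, 1, 3⟩) (.one ⟨15445, 0, 4⟩)))) (.node 4 (.node 2 (.node 1 (.one ⟨4560, 2, 6⟩) (.one ⟨15071, 2, 6⟩)) (.node 1 (.one ⟨3494, 1, 6⟩) (.one ⟨6082, 1, 5⟩))) (.node 2 (.node 1 (.one ⟨8177, 0, 5⟩) (.one ⟨2580, 1, 6⟩)) (.node 1 (.one ⟨14441, 1, 5⟩) (.one ⟨14837, 2, 4⟩))))) (.node 8 (.node 4 (.node 2 (.node 1 (.one ⟨14326, 2, 5⟩) (.one ⟨8593, 1, 4⟩)) (.node 1 (.one ⟨2243, 1, 4⟩) (.one ⟨1157, 2, 4⟩))) (.node 2 (.node 1 (.one ⟨3269, 2, 5⟩) (.one ⟨6581, 1, 6⟩)) (.node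 1 (.one ⟨4215, 1, 4⟩) (.one ⟨16721, 1, 2⟩)))) (.node 4 (.node 2 (.node 1 (.one ⟨13224, 0, 4⟩) (.one ⟨13856, 0, 4⟩)) (.node 1 (.one ⟨17092, 0, 4⟩) (.one ⟨13495, 0, 5⟩))) (.node 2 (.node 1 (.one ⟨9436, 0, 4⟩) (.one ⟨4078, 1, 2⟩)) (.node 1 (.one ⟨8289, 1, 4⟩) (.one ⟨8585, 0, 3⟩)))))) (.node 16 (.node 8 (.node 4 (.node 2 (.node 1 (.one ⟨14122, 1, 6⟩) (.one ⟨153, 1, 2⟩)) (.node 1 (.one ⟨14630, 1, 7⟩) (.one ⟨8389, 1, 5⟩))) (.node 2 (.node 1 (.one ⟨17069, 0, 3⟩) (.one ⟨9430, 0, 1⟩)) (.node 1 (.one ⟨11913, 0, 3⟩) (.one ⟨5548, 0, 4⟩)))) (.node 4 (.node 2 (.node 1 (.one ⟨358, 1, 4⟩) (.one ⟨5543, 0, 5⟩)) (.node 1 (.one ⟨1047, 0, 2⟩) (.one ⟨1355, 1, 3⟩))) (.node 2 (.node 1 (.one ⟨310, 0, 1⟩) (.one ⟨5544, 0, 5⟩)) (.node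 1 (.one ⟨1026, 0, 4⟩) (.one ⟨8822, 0, 4⟩))))) (.node 8 (.node 4 (.node 2 (.node 1 (.one ⟨1886, 0, 4⟩) (.one ⟨5677, 1, 6⟩)) (.node 1 (.one ⟨8041, 0, 4⟩) (.one ⟨1087, 1, 4⟩))) (.node 2 (.node 1 (.one ⟨1187, 0, 1⟩) (.one ⟨15143, 2, 5⟩)) (.node 1 (.one ⟨17101, 2, 4⟩) (.one ⟨11121, 1, 6⟩)))) (.node 4 (.node 2 (.node 1 (.one ⟨11761, 2, 5⟩) (.one ⟨4309, 0, 4⟩)) (.node 1 (.one ⟨1321, 1, 5⟩) (.one ⟨5098, 1, 3⟩))) (.node 2 (.node 1 (.one ⟨11477, 1, 5⟩) (.one ⟨6258, 0, 5⟩)) (.node 1 (.one ⟨8377, 0, 3⟩) (.one ⟨3395, 1, 3⟩)))))))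
def par8_8_13 : Arr Par :=
  (.node 32 (.node 16 (.node 8 (.node 4 (.node 2 (.node 1 (.one ⟨14153, 2, 4⟩) (.one ⟨3396, 1, 4⟩)) (.node 1 (.one ⟨2395, 2, 5⟩) (.one ⟨7969, 2, 5⟩))) (.node 2 (.node 1 (.one ⟨765, 1, 2⟩) (.one ⟨12065, 2, 6⟩)) (.node 1 (.one ⟨13728, 2, 5⟩) (.one ⟨6995, 1, 4⟩)))) (.node 4 (.node 2 (.node 1 (.one ⟨14899, 2, 3⟩) (.one ⟨113, 2, 5⟩)) (.node 1 (.one ⟨10495, 0, 5⟩) (.one ⟨8421, 2, 7⟩))) (.node 2 (.node 1 (.one ⟨2698, 1, 5⟩) (.one ⟨7529, 2, 5⟩)) (.node 1 (.one ⟨11748, 2, 3⟩) (.one ⟨2951, 2, 5⟩))))) (.node 8 (.node 4 (.node 2 (.node 1 (.one ⟨1835, 2, 3⟩) (.one ⟨16436, 0, 6⟩)) (.node 1 (.one ⟨4862, 1, 6⟩) (.one ⟨14988, 1, 5⟩))) (.node 2 (.node 1 (.one ⟨16629, 1, 5⟩) (.one ⟨14289, 0, 5⟩)) (.node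 1 (.one ⟨16460, 0, 6⟩) (.one ⟨5951, 1, 1⟩)))) (.node 4 (.node 2 (.node 1 (.one ⟨1894, 0, 7⟩) (.one ⟨1183, 0, 6⟩)) (.node 1 (.one ⟨11715, 2, 5⟩) (.one ⟨10034, 2, 4⟩))) (.node 2 (.node 1 (.one ⟨10529, 2, 5⟩) (.one ⟨9240, 1, 3⟩)) (.node 1 (.one ⟨12532, 2, 5⟩) (.one ⟨14699, 0, 5⟩)))))) (.node 16 (.node 8 (.node 4 (.node 2 (.node 1 (.one ⟨12465, 1, 4⟩) (.one ⟨6830, 2, 4⟩)) (.node 1 (.one ⟨14832, 2, 4⟩) (.one ⟨1186, 2, 6⟩))) (.node 2 (.node 1 (.one ⟨9168, 2, 6⟩) (.one ⟨12215, 0, 2⟩)) (.node 1 (.one ⟨1935, 1, 2⟩) (.one ⟨12274, 1, 7⟩)))) (.node 4 (.node 2 (.node 1 (.one ⟨728, 2, 3⟩) (.one ⟨2766, 1, 4⟩)) (.node 1 (.one ⟨6333, 1, 3⟩) (.one ⟨15236, 0, 4⟩))) (.node 2 (.node 1 (.one ⟨14783, 1, 3⟩) (.one ⟨15703, 0, 4⟩))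 (.node 1 (.one ⟨7720, 2, 4⟩) (.one ⟨5411, 1, 3⟩))))) (.node 8 (.node 4 (.node 2 (.node 1 (.one ⟨12543, 0, 3⟩) (.one ⟨16156, 0, 3⟩)) (.node 1 (.one ⟨2573, 1, 7⟩) (.one ⟨12601, 1, 5⟩))) (.node 2 (.node 1 (.one ⟨5018, 0, 4⟩) (.one ⟨12511, 1, 5⟩)) (.node 1 (.one ⟨14850, 0, 5⟩) (.one ⟨16552, 2, 6⟩)))) (.node 4 (.node 2 (.node 1 (.one ⟨14008, 2, 4⟩) (.one ⟨15323, 1, 3⟩)) (.node 1 (.one ⟨15543, 1, 2⟩) (.one ⟨2284, 1, 4⟩))) (.node 2 (.node 1 (.one ⟨325, 0, 2⟩) (.one ⟨1951, 1, 2⟩)) (.node 1 (.one ⟨1397, 1, 2⟩) (.one ⟨586, 2, 5⟩)))))))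
def par8_8_14 : Arr Par :=
  (.node 32 (.node 16 (.node 8 (.node 4 (.node 2 (.node 1 (.one ⟨3972, 1, 6⟩) (.one ⟨11818, 0, 6⟩)) (.node 1 (.one ⟨5805, 1, 2⟩) (.one ⟨16231, 1, 6⟩))) (.node 2 (.node 1 (.one ⟨1085, 2, 4⟩) (.one ⟨1463, 2, 5⟩)) (.node 1 (.one ⟨13954, 1, 2⟩) (.one ⟨6696, 2, 6⟩)))) (.node 4 (.node 2 (.node 1 (.one ⟨8828, 2, 4⟩) (.one ⟨991, 2, 7⟩)) (.node 1 (.one ⟨3969, 2, 6⟩) (.one ⟨9220, 1, 3⟩))) (.node 2 (.node 1 (.one ⟨7724, 2, 5⟩) (.one ⟨3212, 2, 6⟩)) (.node 1 (.one ⟨4545, 2, 5⟩) (.one ⟨12486, 1, 1⟩))))) (.node 8 (.node 4 (.node 2 (.node 1 (.one ⟨1324, 1, 4⟩) (.one ⟨9017, 1, 5⟩)) (.node 1 (.one ⟨7953, 2, 4⟩) (.one ⟨16582, 1, 5⟩))) (.node 2 (.node 1 (.one ⟨7406, 1, 6⟩) (.one ⟨3802, 1, 5⟩)) (.node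 1 (.one ⟨10320, 1, 6⟩) (.one ⟨5567, 0, 4⟩)))) (.node 4 (.node 2 (.node 1 (.one ⟨3763, 2, 1⟩) (.one ⟨7152, 1, 4⟩)) (.node 1 (.one ⟨5299, 0, 6⟩) (.one ⟨12599, 2, 4⟩))) (.node 2 (.node 1 (.one ⟨11628, 2, 4⟩) (.one ⟨15042, 0, 4⟩)) (.node 1 (.one ⟨16073, 2, 4⟩) (.one ⟨5970, 2, 5⟩)))))) (.node 16 (.node 8 (.node 4 (.node 2 (.node 1 (.one ⟨16766, 1, 6⟩) (.one ⟨827, 1, 4⟩)) (.node 1 (.one ⟨1405, 0, 5⟩) (.one ⟨313, 2, 6⟩))) (.node 2 (.node 1 (.one ⟨8240, 2, 2⟩) (.one ⟨12588, 2, 4⟩)) (.node 1 (.one ⟨8757, 0, 6⟩) (.one ⟨5745, 1, 4⟩)))) (.node 4 (.node 2 (.node 1 (.one ⟨5172, 0, 3⟩) (.one ⟨6061, 1, 4⟩)) (.node 1 (.one ⟨2666, 1, 4⟩) (.one ⟨9112, 0, 2⟩))) (.node 2 (.node 1 (.one ⟨3660, 2, 4⟩) (.one ⟨2284, 2, 4⟩)) (.node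 1 (.one ⟨6605, 0, 6⟩) (.one ⟨16807, 2, 3⟩))))) (.node 8 (.node 4 (.node 2 (.node 1 (.one ⟨211, 1, 5⟩) (.one ⟨7607, 2, 4⟩)) (.node 1 (.one ⟨2907, 2, 4⟩) (.one ⟨15452, 2, 4⟩))) (.node 2 (.node 1 (.one ⟨16843, 1, 4⟩) (.one ⟨6539, 2, 4⟩)) (.node 1 (.one ⟨4708, 1, 0⟩) (.one ⟨4275, 2, 4⟩)))) (.node 4 (.node 2 (.node 1 (.one ⟨11356, 1, 5⟩) (.one ⟨5247, 1, 0⟩)) (.node 1 (.one ⟨921, 2, 6⟩) (.one ⟨10348, 1, 5⟩))) (.node 2 (.node 1 (.one ⟨8595, 2, 4⟩) (.one ⟨7317, 2, 4⟩)) (.node 1 (.one ⟨4305, 2, 6⟩) (.one ⟨11363, 1, 1⟩)))))))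
def par8_8_15 : Arr Par :=
  (.node 32 (.node 16 (.node 8 (.node 4 (.node 2 (.node 1 (.one ⟨1251, 1, 3⟩) (.one ⟨690, 0, 4⟩)) (.node 1 (.one ⟨11123, 0, 4⟩) (.one ⟨7975, 2, 6⟩))) (.node 2 (.node 1 (.one ⟨15630, 1, 3⟩) (.one ⟨15838, 0, 6⟩)) (.node 1 (.one ⟨8619, 0, 4⟩) (.one ⟨418, 1, 2⟩)))) (.node 4 (.node 2 (.node 1 (.one ⟨16194, 2, 7⟩) (.one ⟨744, 0, 2⟩)) (.node 1 (.one ⟨10729, 2, 3⟩) (.one ⟨5739, 2, 3⟩))) (.node 2 (.node 1 (.one ⟨739, 1, 2⟩) (.one ⟨726, 1, 4⟩)) (.node 1 (.one ⟨1709, 2, 6⟩) (.one ⟨5405, 2, 4⟩))))) (.node 8 (.node 4 (.node 2 (.node 1 (.one ⟨9572, 1, 5⟩) (.one ⟨14923, 1, 5⟩)) (.node 1 (.one ⟨4724, 1, 5⟩) (.one ⟨4225, 2, 5⟩))) (.node 2 (.node 1 (.one ⟨8350, 2, 5⟩) (.one ⟨5043, 1, 0⟩)) (.node 1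 (.one ⟨2274, 0, 3⟩) (.one ⟨12189, 2, 3⟩)))) (.node 4 (.node 2 (.node 1 (.one ⟨16229, 2, 4⟩) (.one ⟨15964, 1, 5⟩)) (.node 1 (.one ⟨236, 1, 5⟩) (.one ⟨15409, 1, 6⟩))) (.node 2 (.node 1 (.one ⟨4384, 1, 0⟩) (.one ⟨1216, 2, 4⟩)) (.node 1 (.one ⟨10722, 1, 4⟩) (.one ⟨592, 0, 1⟩)))))) (.node 16 (.node 8 (.node 4 (.node 2 (.node 1 (.one ⟨11604, 2, 5⟩) (.one ⟨1840, 2, 4⟩)) (.node 1 (.one ⟨585, 0, 5⟩) (.one ⟨14445, 1, 1⟩))) (.node 2 (.node 1 (.one ⟨2215, 1, 1⟩) (.one ⟨14485, 1, 1⟩)) (.node 1 (.one ⟨2032, 1, 2⟩) (.one ⟨1881, 2, 6⟩)))) (.node 4 (.node 2 (.node 1 (.one ⟨9387, 1, 2⟩) (.one ⟨6509, 1, 1⟩)) (.node 1 (.one ⟨9763, 1, 4⟩) (.one ⟨4760, 1, 0⟩))) (.node 2 (.node 1 (.one ⟨83, 0, 4⟩) (.one ⟨4774, 1, 0⟩)) (.node 1 (.one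 ⟨73, 0, 3⟩) (.one ⟨10096, 2, 4⟩))))) (.node 8 (.node 4 (.node 2 (.node 1 (.one ⟨8738, 1, 6⟩) (.one ⟨7412, 1, 4⟩)) (.node 1 (.one ⟨231, 1, 5⟩) (.one ⟨7436, 0, 1⟩))) (.node 2 (.node 1 (.one ⟨11462, 2, 4⟩) (.one ⟨16808, 1, 3⟩)) (.node 1 (.one ⟨12332, 1, 4⟩) (.one ⟨7191, 1, 4⟩)))) (.node 4 (.node 2 (.node 1 (.one ⟨1835, 1, 3⟩) (.one ⟨16453, 1, 2⟩)) (.node 1 (.one ⟨11516, 0, 4⟩) (.one ⟨16579, 1, 4⟩))) (.node 2 (.node 1 (.one ⟨12537, 1, 3⟩) (.one ⟨7510, 1, 5⟩)) (.node 1 (.one ⟨11558, 2, 5⟩) (.one ⟨4100, 1, 5⟩)))))))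
def par8_8 : Arr Par :=
  (.node 512 (.node 256 (.node 128 (.node 64 par8_8_0 par8_8_1) (.node 64 par8_8_2 par8_8_3)) (.node 128 (.node 64 par8_8_4 par8_8_5) (.node 64 par8_8_6 par8_8_7))) (.node 256 (.node 128 (.node 64 par8_8_8 par8_8_9) (.node 64 par8_8_10 par8_8_11)) (.node 128 (.node 64 par8_8_12 par8_8_13) (.node 64 par8_8_14 par8_8_15))))
def par8_9_0 : Arr Par :=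
  (.node 32 (.node 16 (.node 8 (.node 4 (.node 2 (.node 1 (.one ⟨6784, 0, 6⟩) (.one ⟨4805, 2, 2⟩)) (.node 1 (.one ⟨6584, 1, 3⟩) (.one ⟨12384, 1, 2⟩))) (.node 2 (.node 1 (.one ⟨1121, 2, 2⟩) (.one ⟨12532, 1, 5⟩)) (.node 1 (.one ⟨15082, 1, 2⟩) (.one ⟨8533, 0, 5⟩)))) (.node 4 (.node 2 (.node 1 (.one ⟨16621, 0, 3⟩) (.one ⟨11325, 2, 5⟩)) (.node 1 (.one ⟨13193, 1, 4⟩) (.one ⟨15556, 1, 3⟩))) (.node 2 (.node 1 (.one ⟨5750, 2, 4⟩) (.one ⟨9217, 0, 3⟩)) (.node 1 (.one ⟨15240, 2, 4⟩) (.one ⟨8543, 0, 5⟩))))) (.node 8 (.node 4 (.node 2 (.node 1 (.one ⟨11271, 2, 3⟩) (.one ⟨1609, 1, 6⟩)) (.node 1 (.one ⟨11283, 1, 4⟩) (.one ⟨15597, 2, 4⟩))) (.node 2 (.node 1 (.one ⟨3459, 1, 3⟩) (.one ⟨2522, 2, 4⟩)) (.node 1 (.one ⟨1318, 1, 4⟩)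 (.one ⟨10557, 2, 4⟩)))) (.node 4 (.node 2 (.node 1 (.one ⟨11226, 1, 2⟩) (.one ⟨12631, 0, 4⟩)) (.node 1 (.one ⟨7100, 1, 4⟩) (.one ⟨11253, 1, 4⟩))) (.node 2 (.node 1 (.one ⟨14334, 2, 3⟩) (.one ⟨12503, 2, 6⟩)) (.node 1 (.one ⟨11691, 2, 4⟩) (.one ⟨14430, 0, 1⟩)))))) (.node 16 (.node 8 (.node 4 (.node 2 (.node 1 (.one ⟨6351, 0, 4⟩) (.one ⟨5476, 2, 3⟩)) (.node 1 (.one ⟨4802, 1, 0⟩) (.one ⟨6346, 0, 4⟩))) (.node 2 (.node 1 (.one ⟨9222, 2, 3⟩) (.one ⟨7676, 1, 5⟩)) (.node 1 (.one ⟨235, 1, 2⟩) (.one ⟨10698, 0, 1⟩)))) (.node 4 (.node 2 (.node 1 (.one ⟨1007, 2, 3⟩) (.one ⟨16072, 1, 6⟩)) (.node 1 (.one ⟨4990, 2, 3⟩) (.one ⟨10447, 1, 5⟩))) (.node 2 (.node 1 (.one ⟨16269, 1, 5⟩) (.one ⟨2521, 1, 4⟩)) (.node 1 (.one ⟨4344, 1,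 0⟩) (.one ⟨3751, 1, 3⟩))))) (.node 8 (.node 4 (.node 2 (.node 1 (.one ⟨12535, 1, 3⟩) (.one ⟨16756, 1, 5⟩)) (.node 1 (.one ⟨9125, 1, 5⟩) (.one ⟨7192, 1, 3⟩))) (.node 2 (.node 1 (.one ⟨14770, 1, 3⟩) (.one ⟨12921, 2, 5⟩)) (.node 1 (.one ⟨1548, 1, 5⟩) (.one ⟨9081, 1, 4⟩)))) (.node 4 (.node 2 (.node 1 (.one ⟨16810, 1, 4⟩) (.one ⟨11273, 0, 1⟩)) (.node 1 (.one ⟨3241, 0, 6⟩) (.one ⟨126, 1, 3⟩))) (.node 2 (.node 1 (.one ⟨10519, 1, 4⟩) (.one ⟨10198, 1, 6⟩)) (.node 1 (.one ⟨2558, 1, 6⟩) (.one ⟨15193, 2, 4⟩)))))))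
def par8_9_1 : Arr Par :=
  (.node 32 (.node 16 (.node 8 (.node 4 (.node 2 (.node 1 (.one ⟨6195, 1, 4⟩) (.one ⟨16210, 1, 5⟩)) (.node 1 (.one ⟨11602, 1, 5⟩) (.one ⟨9782, 2, 6⟩))) (.node 2 (.node 1 (.one ⟨352, 2, 6⟩) (.one ⟨4737, 1, 0⟩)) (.node 1 (.one ⟨8134, 1, 6⟩) (.one ⟨1753, 2, 4⟩)))) (.node 4 (.node 2 (.node 1 (.one ⟨9421, 2, 4⟩) (.one ⟨8636, 2, 4⟩)) (.node 1 (.one ⟨16576, 2, 3⟩) (.one ⟨4528, 1, 0⟩))) (.node 2 (.node 1 (.one ⟨4502, 1, 0⟩) (.one ⟨10661, 1, 6⟩)) (.node 1 (.one ⟨7611, 2, 4⟩) (.one ⟨14387, 1, 5⟩))))) (.node 8 (.node 4 (.node 2 (.node 1 (.one ⟨13672, 2, 5⟩) (.one ⟨4209, 1, 0⟩)) (.node 1 (.one ⟨611, 0, 1⟩) (.one ⟨8916, 2, 5⟩))) (.node 2 (.node 1 (.one ⟨70, 0, 1⟩) (.one ⟨2225, 1, 1⟩)) (.node 1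 (.one ⟨4644, 1, 0⟩) (.one ⟨13923, 1, 3⟩)))) (.node 4 (.node 2 (.node 1 (.one ⟨5807, 1, 4⟩) (.one ⟨5726, 1, 5⟩)) (.node 1 (.one ⟨601, 0, 1⟩) (.one ⟨4302, 1, 0⟩))) (.node 2 (.node 1 (.one ⟨4205, 0, 0⟩) (.one ⟨9647, 1, 2⟩)) (.node 1 (.one ⟨79, 0, 1⟩) (.one ⟨4686, 1, 0⟩)))))) (.node 16 (.node 8 (.node 4 (.node 2 (.node 1 (.one ⟨5425, 1, 0⟩) (.one ⟨16985, 0, 1⟩)) (.node 1 (.one ⟨17002, 0, 4⟩) (.one ⟨4404, 1, 0⟩))) (.node 2 (.node 1 (.one ⟨4310, 1, 0⟩) (.one ⟨16962, 0, 4⟩)) (.node 1 (.one ⟨3574, 1, 6⟩) (.one ⟨4268, 1, 0⟩)))) (.node 4 (.node 2 (.node 1 (.one ⟨4243, 1, 0⟩) (.one ⟨13515, 0, 1⟩)) (.node 1 (.one ⟨8951, 1, 5⟩) (.one ⟨14867, 2, 5⟩))) (.node 2 (.node 1 (.one ⟨4674, 1, 0⟩) (.one ⟨6808, 1, 4⟩)) (.node 1 (.one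 ⟨13541, 0, 1⟩) (.one ⟨8872, 1, 6⟩))))) (.node 8 (.node 4 (.node 2 (.node 1 (.one ⟨4162, 2, 5⟩) (.one ⟨12186, 2, 5⟩)) (.node 1 (.one ⟨958, 1, 5⟩) (.one ⟨4714, 1, 0⟩))) (.node 2 (.node 1 (.one ⟨4255, 1, 6⟩) (.one ⟨6849, 1, 5⟩)) (.node 1 (.one ⟨1514, 1, 5⟩) (.one ⟨1546, 2, 4⟩)))) (.node 4 (.node 2 (.node 1 (.one ⟨11167, 1, 2⟩) (.one ⟨7930, 1, 5⟩)) (.node 1 (.one ⟨11061, 2, 4⟩) (.one ⟨13844, 1, 4⟩))) (.node 2 (.node 1 (.one ⟨6486, 2, 5⟩) (.one ⟨15435, 2, 3⟩)) (.node 1 (.one ⟨4764, 1, 5⟩) (.one ⟨5571, 1, 4⟩)))))))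
def par8_9_2 : Arr Par :=
  (.node 32 (.node 16 (.node 8 (.node 4 (.node 2 (.node 1 (.one ⟨8602, 1, 4⟩) (.one ⟨16875, 2, 2⟩)) (.node 1 (.one ⟨10932, 2, 3⟩) (.one ⟨7467, 0, 3⟩))) (.node 2 (.node 1 (.one ⟨15315, 1, 7⟩) (.one ⟨15590, 2, 3⟩)) (.node 1 (.one ⟨12677, 2, 3⟩) (.one ⟨3214, 1, 4⟩)))) (.node 4 (.node 2 (.node 1 (.one ⟨3466, 0, 6⟩) (.one ⟨12411, 1, 2⟩)) (.node 1 (.one ⟨15522, 0, 3⟩) (.one ⟨3471, 0, 4⟩))) (.node 2 (.node 1 (.one ⟨716, 2, 6⟩) (.one ⟨11749, 2, 4⟩)) (.node 1 (.one ⟨14346, 2, 5⟩) (.one ⟨4323, 1, 0⟩))))) (.node 8 (.node 4 (.node 2 (.node 1 (.one ⟨4816, 1, 0⟩) (.one ⟨3672, 1, 5⟩)) (.node 1 (.one ⟨10204, 1, 5⟩) (.one ⟨7789, 0, 1⟩))) (.node 2 (.node 1 (.one ⟨7755, 0, 4⟩) (.one ⟨7924, 2, 4⟩)) (.node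 1 (.one ⟨5767, 1, 5⟩) (.one ⟨9218, 2, 4⟩)))) (.node 4 (.node 2 (.node 1 (.one ⟨3326, 1, 3⟩) (.one ⟨15188, 1, 5⟩)) (.node 1 (.one ⟨3759, 0, 1⟩) (.one ⟨17148, 2, 4⟩))) (.node 2 (.node 1 (.one ⟨7671, 1, 5⟩) (.one ⟨4263, 1, 0⟩)) (.node 1 (.one ⟨14517, 2, 6⟩) (.one ⟨1, 0, 1⟩)))))) (.node 16 (.node 8 (.node 4 (.node 2 (.node 1 (.one ⟨82, 0, 1⟩) (.one ⟨2183, 1, 1⟩)) (.node 1 (.one ⟨12217, 2, 6⟩) (.one ⟨4814, 1, 0⟩))) (.node 2 (.node 1 (.one ⟨603, 0, 1⟩) (.one ⟨2335, 1, 5⟩)) (.node 1 (.one ⟨14092, 1, 5⟩) (.one ⟨10715, 1, 4⟩)))) (.node 4 (.node 2 (.node 1 (.one ⟨5788, 1, 1⟩) (.one ⟨15041, 2, 5⟩)) (.node 1 (.one ⟨6985, 1, 4⟩) (.one ⟨9500, 1, 1⟩))) (.node 2 (.node 1 (.one ⟨6490, 1, 2⟩) (.one ⟨10955, 1, 3⟩)) (.node 1 (.one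 ⟨594, 0, 5⟩) (.one ⟨4615, 1, 0⟩))))) (.node 8 (.node 4 (.node 2 (.node 1 (.one ⟨14777, 2, 7⟩) (.one ⟨7552, 2, 4⟩)) (.node 1 (.one ⟨3, 2, 7⟩) (.one ⟨10576, 1, 2⟩))) (.node 2 (.node 1 (.one ⟨2732, 2, 5⟩) (.one ⟨9427, 2, 6⟩)) (.node 1 (.one ⟨15660, 2, 2⟩) (.one ⟨9786, 1, 5⟩)))) (.node 4 (.node 2 (.node 1 (.one ⟨15855, 2, 7⟩) (.one ⟨8354, 2, 4⟩)) (.node 1 (.one ⟨4594, 2, 7⟩) (.one ⟨949, 1, 2⟩))) (.node 2 (.node 1 (.one ⟨5699, 0, 1⟩) (.one ⟨3885, 1, 2⟩)) (.node 1 (.one ⟨7061, 2, 2⟩) (.one ⟨2968, 2, 6⟩)))))))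
def par8_9_3 : Arr Par :=
  (.node 32 (.node 16 (.node 8 (.node 4 (.node 2 (.node 1 (.one ⟨14, 2, 5⟩) (.one ⟨14692, 1, 6⟩)) (.node 1 (.one ⟨11109, 1, 3⟩) (.one ⟨15172, 2, 6⟩))) (.node 2 (.node 1 (.one ⟨11080, 1, 2⟩) (.one ⟨5789, 2, 5⟩)) (.node 1 (.one ⟨335, 1, 2⟩) (.one ⟨8353, 2, 7⟩)))) (.node 4 (.node 2 (.node 1 (.one ⟨15884, 1, 5⟩) (.one ⟨16759, 2, 7⟩)) (.node 1 (.one ⟨15856, 2, 4⟩) (.one ⟨16370, 1, 2⟩))) (.node 2 (.node 1 (.one ⟨1612, 0, 1⟩) (.one ⟨8943, 1, 3⟩)) (.node 1 (.one ⟨11047, 2, 2⟩) (.one ⟨4517, 2, 4⟩))))) (.node 8 (.node 4 (.node 2 (.node 1 (.one ⟨12619, 1, 5⟩) (.one ⟨9778, 2, 6⟩)) (.node 1 (.one ⟨892, 2, 6⟩) (.one ⟨6194, 1, 5⟩))) (.node 2 (.node 1 (.one ⟨220, 1, 5⟩) (.one ⟨4306, 2, 4⟩)) (.node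 1 (.one ⟨4827, 1, 0⟩) (.one ⟨10347, 1, 5⟩)))) (.node 4 (.node 2 (.node 1 (.one ⟨13675, 1, 4⟩) (.one ⟨11136, 2, 5⟩)) (.node 1 (.one ⟨12584, 1, 4⟩) (.one ⟨4460, 2, 4⟩))) (.node 2 (.node 1 (.one ⟨12329, 2, 3⟩) (.one ⟨5159, 2, 4⟩)) (.node 1 (.one ⟨13356, 2, 6⟩) (.one ⟨4620, 2, 4⟩)))))) (.node 16 (.node 8 (.node 4 (.node 2 (.node 1 (.one ⟨8473, 2, 4⟩) (.one ⟨4352, 1, 2⟩)) (.node 1 (.one ⟨14370, 1, 6⟩) (.one ⟨11058, 2, 4⟩))) (.node 2 (.node 1 (.one ⟨15102, 2, 3⟩) (.one ⟨9548, 2, 4⟩)) (.node 1 (.one ⟨4331, 1, 6⟩) (.one ⟨15987, 1, 5⟩)))) (.node 4 (.node 2 (.node 1 (.one ⟨16155, 2, 4⟩) (.one ⟨13940, 1, 4⟩)) (.node 1 (.one ⟨6825, 0, 3⟩) (.one ⟨511, 2, 4⟩))) (.node 2 (.node 1 (.one ⟨6720, 0, 5⟩) (.one ⟨12212, 2, 5⟩))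 (.node 1 (.one ⟨4704, 1, 0⟩) (.one ⟨14747, 1, 6⟩))))) (.node 8 (.node 4 (.node 2 (.node 1 (.one ⟨10508, 1, 3⟩) (.one ⟨1644, 0, 1⟩)) (.node 1 (.one ⟨7432, 1, 2⟩) (.one ⟨811, 1, 4⟩))) (.node 2 (.node 1 (.one ⟨7408, 1, 3⟩) (.one ⟨14761, 1, 3⟩)) (.node 1 (.one ⟨11126, 2, 5⟩) (.one ⟨1658, 2, 5⟩)))) (.node 4 (.node 2 (.node 1 (.one ⟨10262, 1, 6⟩) (.one ⟨2494, 1, 6⟩)) (.node 1 (.one ⟨6962, 1, 3⟩) (.one ⟨1831, 1, 4⟩))) (.node 2 (.node 1 (.one ⟨7195, 1, 3⟩) (.one ⟨14772, 1, 4⟩)) (.node 1 (.one ⟨10352, 1, 4⟩) (.one ⟨12509, 1, 6⟩)))))))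
def par8_9_4 : Arr Par :=
  (.node 32 (.node 16 (.node 8 (.node 4 (.node 2 (.node 1 (.one ⟨6010, 2, 3⟩) (.one ⟨15994, 2, 4⟩)) (.node 1 (.one ⟨12959, 1, 5⟩) (.one ⟨5999, 1, 3⟩))) (.node 2 (.node 1 (.one ⟨4340, 1, 0⟩) (.one ⟨6730, 0, 1⟩)) (.node 1 (.one ⟨7201, 1, 4⟩) (.one ⟨1428, 1, 6⟩)))) (.node 4 (.node 2 (.node 1 (.one ⟨2997, 0, 1⟩) (.one ⟨4333, 1, 0⟩)) (.node 1 (.one ⟨4142, 2, 6⟩) (.one ⟨3059, 0, 1⟩))) (.node 2 (.node 1 (.one ⟨11154, 0, 4⟩) (.one ⟨14789, 0, 2⟩)) (.node 1 (.one ⟨4695, 1, 0⟩) (.one ⟨14459, 1, 2⟩))))) (.node 8 (.node 4 (.node 2 (.node 1 (.one ⟨11993, 2, 5⟩) (.one ⟨72, 0, 1⟩)) (.node 1 (.one ⟨4547, 1, 0⟩) (.one ⟨2239, 1, 2⟩))) (.node 2 (.node 1 (.one ⟨4391, 0, 0⟩) (.one ⟨589, 0, 5⟩)) (.node 1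 (.one ⟨4459, 1, 0⟩) (.one ⟨10692, 1, 5⟩)))) (.node 4 (.node 2 (.node 1 (.one ⟨5844, 1, 5⟩) (.one ⟨7038, 1, 4⟩)) (.node 1 (.one ⟨11311, 1, 3⟩) (.one ⟨6521, 1, 1⟩))) (.node 2 (.node 1 (.one ⟨4379, 1, 0⟩) (.one ⟨7988, 2, 5⟩)) (.node 1 (.one ⟨4278, 1, 0⟩) (.one ⟨12660, 1, 4⟩)))))) (.node 16 (.node 8 (.node 4 (.node 2 (.node 1 (.one ⟨57, 2, 7⟩) (.one ⟨14776, 2, 7⟩)) (.node 1 (.one ⟨11423, 2, 7⟩) (.one ⟨6223, 2, 2⟩))) (.node 2 (.node 1 (.one ⟨16367, 1, 3⟩) (.one ⟨14504, 1, 2⟩)) (.node 1 (.one ⟨11345, 2, 2⟩) (.one ⟨8351, 2, 7⟩)))) (.node 4 (.node 2 (.node 1 (.one ⟨3704, 2, 7⟩) (.one ⟨16761, 2, 7⟩)) (.node 1 (.one ⟨4453, 0, 5⟩) (.one ⟨12484, 0, 1⟩))) (.node 2 (.node 1 (.one ⟨3881, 1, 2⟩) (.one ⟨183, 1, 2⟩)) (.node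 1 (.one ⟨1942, 2, 5⟩) (.one ⟨13861, 2, 6⟩))))) (.node 8 (.node 4 (.node 2 (.node 1 (.one ⟨15869, 0, 6⟩) (.one ⟨11310, 2, 4⟩)) (.node 1 (.one ⟨16926, 2, 3⟩) (.one ⟨16075, 2, 4⟩))) (.node 2 (.node 1 (.one ⟨16324, 1, 6⟩) (.one ⟨12410, 1, 4⟩)) (.node 1 (.one ⟨15563, 2, 2⟩) (.one ⟨7673, 2, 6⟩)))) (.node 4 (.node 2 (.node 1 (.one ⟨4575, 1, 0⟩) (.one ⟨12898, 1, 4⟩)) (.node 1 (.one ⟨7735, 0, 1⟩) (.one ⟨6005, 2, 6⟩))) (.node 2 (.node 1 (.one ⟨4376, 1, 4⟩) (.one ⟨14035, 2, 3⟩)) (.node 1 (.one ⟨11720, 2, 3⟩) (.one ⟨10196, 0, 1⟩)))))))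
def par8_9_5 : Arr Par :=
  (.node 32 (.node 16 (.node 8 (.node 4 (.node 2 (.node 1 (.one ⟨6661, 1, 3⟩) (.one ⟨3578, 2, 6⟩)) (.node 1 (.one ⟨7196, 1, 4⟩) (.one ⟨17169, 1, 5⟩))) (.node 2 (.node 1 (.one ⟨10159, 0, 4⟩) (.one ⟨16575, 1, 4⟩)) (.node 1 (.one ⟨3755, 1, 4⟩) (.one ⟨1997, 2, 4⟩)))) (.node 4 (.node 2 (.node 1 (.one ⟨728, 1, 3⟩) (.one ⟨15077, 1, 3⟩)) (.node 1 (.one ⟨4712, 1, 0⟩) (.one ⟨12329, 1, 3⟩))) (.node 2 (.node 1 (.one ⟨9085, 1, 3⟩) (.one ⟨3200, 2, 4⟩)) (.node 1 (.one ⟨4926, 2, 4⟩) (.one ⟨6535, 2, 6⟩))))) (.node 8 (.node 4 (.node 2 (.node 1 (.one ⟨13352, 2, 4⟩) (.one ⟨1262, 2, 4⟩)) (.node 1 (.one ⟨16744, 2, 4⟩) (.one ⟨4702, 1, 0⟩))) (.node 2 (.node 1 (.one ⟨2904, 2, 6⟩) (.one ⟨12537, 2, 3⟩)) (.node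 1 (.one ⟨7296, 2, 4⟩) (.one ⟨13674, 1, 5⟩)))) (.node 4 (.node 2 (.node 1 (.one ⟨12464, 2, 4⟩) (.one ⟨7313, 2, 6⟩)) (.node 1 (.one ⟨12546, 2, 5⟩) (.one ⟨16799, 2, 3⟩))) (.node 2 (.node 1 (.one ⟨14802, 1, 5⟩) (.one ⟨4633, 1, 0⟩)) (.node 1 (.one ⟨4541, 1, 0⟩) (.one ⟨11919, 0, 4⟩)))))) (.node 16 (.node 8 (.node 4 (.node 2 (.node 1 (.one ⟨5156, 2, 5⟩) (.one ⟨2289, 2, 3⟩)) (.node 1 (.one ⟨192, 2, 3⟩) (.one ⟨3002, 0, 5⟩))) (.node 2 (.node 1 (.one ⟨4535, 0, 4⟩) (.one ⟨11168, 0, 5⟩)) (.node 1 (.one ⟨16915, 2, 6⟩) (.one ⟨13661, 1, 4⟩)))) (.node 4 (.node 2 (.node 1 (.one ⟨17166, 1, 5⟩) (.one ⟨3802, 0, 5⟩)) (.node 1 (.one ⟨11888, 0, 4⟩) (.one ⟨10024, 1, 3⟩))) (.node 2 (.node 1 (.one ⟨4389, 2, 5⟩) (.one ⟨1786, 1, 4⟩)) (.node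 1 (.one ⟨5473, 1, 5⟩) (.one ⟨523, 2, 6⟩))))) (.node 8 (.node 4 (.node 2 (.node 1 (.one ⟨11183, 1, 5⟩) (.one ⟨12278, 1, 4⟩)) (.node 1 (.one ⟨4913, 1, 4⟩) (.one ⟨12613, 2, 4⟩))) (.node 2 (.node 1 (.one ⟨13415, 2, 1⟩) (.one ⟨14712, 2, 3⟩)) (.node 1 (.one ⟨15556, 2, 3⟩) (.one ⟨15782, 2, 3⟩)))) (.node 4 (.node 2 (.node 1 (.one ⟨10406, 0, 4⟩) (.one ⟨4115, 1, 4⟩)) (.node 1 (.one ⟨10637, 2, 3⟩) (.one ⟨10422, 2, 4⟩))) (.node 2 (.node 1 (.one ⟨10202, 2, 4⟩) (.one ⟨2321, 0, 4⟩)) (.node 1 (.one ⟨13654, 1, 4⟩) (.one ⟨6850, 1, 5⟩)))))))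
def par8_9_6 : Arr Par :=
  (.node 32 (.node 16 (.node 8 (.node 4 (.node 2 (.node 1 (.one ⟨11916, 2, 3⟩) (.one ⟨9268, 2, 4⟩)) (.node 1 (.one ⟨8144, 2, 5⟩) (.one ⟨12819, 1, 5⟩))) (.node 2 (.node 1 (.one ⟨455, 2, 4⟩) (.one ⟨4424, 1, 0⟩)) (.node 1 (.one ⟨14525, 2, 6⟩) (.one ⟨15434, 2, 4⟩)))) (.node 4 (.node 2 (.node 1 (.one ⟨4621, 2, 4⟩) (.one ⟨6079, 2, 5⟩)) (.node 1 (.one ⟨10770, 1, 4⟩) (.one ⟨9062, 2, 3⟩))) (.node 2 (.node 1 (.one ⟨11056, 2, 4⟩) (.one ⟨4560, 1, 0⟩)) (.node 1 (.one ⟨8115, 1, 6⟩) (.one ⟨6305, 2, 7⟩))))) (.node 8 (.node 4 (.node 2 (.node 1 (.one ⟨2969, 2, 7⟩) (.one ⟨16747, 1, 6⟩)) (.node 1 (.one ⟨53, 2, 5⟩) (.one ⟨641, 1, 2⟩))) (.node 2 (.node 1 (.one ⟨11541, 2, 6⟩) (.one ⟨6106, 1, 2⟩)) (.node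 1 (.one ⟨10438, 2, 2⟩) (.one ⟨8352, 2, 7⟩)))) (.node 4 (.node 2 (.node 1 (.one ⟨4592, 2, 6⟩) (.one ⟨8799, 2, 7⟩)) (.node 1 (.one ⟨3705, 2, 4⟩) (.one ⟨16397, 0, 1⟩))) (.node 2 (.node 1 (.one ⟨1283, 2, 6⟩) (.one ⟨6260, 2, 5⟩)) (.node 1 (.one ⟨8949, 1, 2⟩) (.one ⟨6286, 1, 6⟩)))))) (.node 16 (.node 8 (.node 4 (.node 2 (.node 1 (.one ⟨8464, 1, 6⟩) (.one ⟨12681, 0, 5⟩)) (.node 1 (.one ⟨4962, 1, 6⟩) (.one ⟨11564, 2, 6⟩))) (.node 2 (.node 1 (.one ⟨15808, 0, 7⟩) (.one ⟨725, 0, 7⟩)) (.node 1 (.one ⟨9109, 2, 6⟩) (.one ⟨16005, 1, 7⟩)))) (.node 4 (.node 2 (.node 1 (.one ⟨13679, 1, 5⟩) (.one ⟨3656, 1, 4⟩)) (.node 1 (.one ⟨6168, 2, 5⟩) (.one ⟨16163, 1, 7⟩))) (.node 2 (.node 1 (.one ⟨5488, 2, 6⟩) (.one ⟨6726, 0, 5⟩)) (.node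 1 (.one ⟨1756, 1, 3⟩) (.one ⟨5680, 1, 1⟩))))) (.node 8 (.node 4 (.node 2 (.node 1 (.one ⟨16008, 2, 6⟩) (.one ⟨1264, 1, 3⟩)) (.node 1 (.one ⟨6855, 1, 1⟩) (.one ⟨6579, 1, 2⟩))) (.node 2 (.node 1 (.one ⟨1867, 1, 7⟩) (.one ⟨2763, 1, 3⟩)) (.node 1 (.one ⟨6067, 1, 2⟩) (.one ⟨2186, 1, 5⟩)))) (.node 4 (.node 2 (.node 1 (.one ⟨2137, 1, 6⟩) (.one ⟨10167, 1, 5⟩)) (.node 1 (.one ⟨10279, 1, 5⟩) (.one ⟨10603, 0, 4⟩))) (.node 2 (.node 1 (.one ⟨10189, 1, 4⟩) (.one ⟨2156, 1, 3⟩)) (.node 1 (.one ⟨6220, 0, 4⟩) (.one ⟨2913, 1, 6⟩)))))))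
def par8_9_7 : Arr Par :=
  (.node 32 (.node 16 (.node 8 (.node 4 (.node 2 (.node 1 (.one ⟨15168, 2, 3⟩) (.one ⟨14332, 1, 4⟩)) (.node 1 (.one ⟨14540, 2, 3⟩) (.one ⟨15060, 2, 3⟩))) (.node 2 (.node 1 (.one ⟨6100, 1, 5⟩) (.one ⟨13848, 2, 5⟩)) (.node 1 (.one ⟨2879, 2, 4⟩) (.one ⟨16394, 2, 5⟩)))) (.node 4 (.node 2 (.node 1 (.one ⟨5296, 0, 4⟩) (.one ⟨16391, 2, 1⟩)) (.node 1 (.one ⟨11708, 1, 4⟩) (.one ⟨16397, 2, 1⟩))) (.node 2 (.node 1 (.one ⟨16171, 1, 4⟩) (.one ⟨16396, 2, 5⟩)) (.node 1 (.one ⟨15610, 0, 4⟩) (.one ⟨14108, 0, 6⟩))))) (.node 8 (.node 4 (.node 2 (.node 1 (.one ⟨13590, 0, 4⟩) (.one ⟨16626, 2, 3⟩)) (.node 1 (.one ⟨14192, 1, 4⟩) (.one ⟨1354, 1, 4⟩))) (.node 2 (.node 1 (.one ⟨12910, 0, 6⟩) (.one ⟨8739, 0,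 5⟩)) (.node 1 (.one ⟨16597, 2, 2⟩) (.one ⟨1607, 0, 7⟩)))) (.node 4 (.node 2 (.node 1 (.one ⟨6202, 2, 4⟩) (.one ⟨16141, 1, 4⟩)) (.node 1 (.one ⟨9719, 0, 4⟩) (.one ⟨8623, 0, 5⟩))) (.node 2 (.node 1 (.one ⟨16152, 1, 3⟩) (.one ⟨1483, 1, 5⟩)) (.node 1 (.one ⟨16720, 0, 4⟩) (.one ⟨7052, 2, 6⟩)))))) (.node 16 (.node 8 (.node 4 (.node 2 (.node 1 (.one ⟨4892, 0, 4⟩) (.one ⟨12322, 1, 3⟩)) (.node 1 (.one ⟨16610, 1, 3⟩) (.one ⟨15408, 2, 2⟩))) (.node 2 (.node 1 (.one ⟨8173, 1, 5⟩) (.one ⟨5346, 0, 4⟩)) (.node 1 (.one ⟨1444, 0, 5⟩) (.one ⟨1716, 0, 4⟩)))) (.node 4 (.node 2 (.node 1 (.one ⟨10886, 2, 3⟩) (.one ⟨8221, 2, 6⟩)) (.node 1 (.one ⟨16912, 2, 5⟩) (.one ⟨4150, 2, 5⟩))) (.node 2 (.node 1 (.one ⟨4738, 0, 5⟩) (.one ⟨6170,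 2, 6⟩)) (.node 1 (.one ⟨13226, 1, 5⟩) (.one ⟨10404, 2, 3⟩))))) (.node 8 (.node 4 (.node 2 (.node 1 (.one ⟨6299, 0, 5⟩) (.one ⟨7685, 1, 2⟩)) (.node 1 (.one ⟨8647, 0, 5⟩) (.one ⟨1443, 0, 4⟩))) (.node 2 (.node 1 (.one ⟨11571, 1, 2⟩) (.one ⟨5439, 0, 4⟩)) (.node 1 (.one ⟨10549, 0, 4⟩) (.one ⟨9977, 2, 3⟩)))) (.node 4 (.node 2 (.node 1 (.one ⟨7848, 1, 4⟩) (.one ⟨10295, 1, 3⟩)) (.node 1 (.one ⟨14741, 1, 6⟩) (.one ⟨12954, 1, 4⟩))) (.node 2 (.node 1 (.one ⟨16187, 1, 6⟩) (.one ⟨15564, 2, 4⟩)) (.node 1 (.one ⟨2488, 2, 6⟩) (.one ⟨10903, 2, 2⟩)))))))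
def par8_9_8 : Arr Par :=
  (.node 32 (.node 16 (.node 8 (.node 4 (.node 2 (.node 1 (.one ⟨9067, 1, 5⟩) (.one ⟨7585, 1, 4⟩)) (.node 1 (.one ⟨9008, 1, 5⟩) (.one ⟨9061, 1, 3⟩))) (.node 2 (.node 1 (.one ⟨1420, 2, 5⟩) (.one ⟨9022, 1, 4⟩)) (.node 1 (.one ⟨7591, 1, 6⟩) (.one ⟨14155, 0, 4⟩)))) (.node 4 (.node 2 (.node 1 (.one ⟨1689, 0, 7⟩) (.one ⟨4722, 0, 6⟩)) (.node 1 (.one ⟨12553, 1, 6⟩) (.one ⟨810, 1, 3⟩))) (.node 2 (.node 1 (.one ⟨2023, 2, 2⟩) (.one ⟨11980, 2, 1⟩)) (.node 1 (.one ⟨9431, 2, 6⟩) (.one ⟨59, 2, 7⟩))))) (.node 8 (.node 4 (.node 2 (.node 1 (.one ⟨10180, 2, 3⟩) (.one ⟨3657, 0, 6⟩)) (.node 1 (.one ⟨11806, 0, 6⟩) (.one ⟨15057, 2, 5⟩))) (.node 2 (.node 1 (.one ⟨9707, 1, 6⟩) (.one ⟨1464, 0, 3⟩)) (.node 1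 (.one ⟨5804, 1, 6⟩) (.one ⟨15725, 0, 2⟩)))) (.node 4 (.node 2 (.node 1 (.one ⟨9124, 1, 3⟩) (.one ⟨12752, 1, 5⟩)) (.node 1 (.one ⟨6953, 1, 6⟩) (.one ⟨5958, 0, 3⟩))) (.node 2 (.node 1 (.one ⟨16017, 1, 5⟩) (.one ⟨2109, 2, 5⟩)) (.node 1 (.one ⟨10764, 2, 4⟩) (.one ⟨11611, 2, 7⟩)))))) (.node 16 (.node 8 (.node 4 (.node 2 (.node 1 (.one ⟨3121, 1, 5⟩) (.one ⟨2131, 1, 5⟩)) (.node 1 (.one ⟨7353, 1, 3⟩) (.one ⟨5743, 1, 3⟩))) (.node 2 (.node 1 (.one ⟨2832, 2, 2⟩) (.one ⟨6003, 2, 4⟩)) (.node 1 (.one ⟨14724, 0, 4⟩) (.one ⟨10023, 1, 5⟩)))) (.node 4 (.node 2 (.node 1 (.one ⟨17175, 2, 5⟩) (.one ⟨15051, 2, 5⟩)) (.node 1 (.one ⟨11277, 0, 7⟩) (.one ⟨3010, 2, 4⟩))) (.node 2 (.node 1 (.one ⟨1380, 2, 6⟩) (.one ⟨4074, 2, 5⟩)) (.node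 1 (.one ⟨11737, 0, 5⟩) (.one ⟨14466, 2, 4⟩))))) (.node 8 (.node 4 (.node 2 (.node 1 (.one ⟨1446, 2, 7⟩) (.one ⟨10298, 0, 5⟩)) (.node 1 (.one ⟨3778, 0, 5⟩) (.one ⟨12443, 0, 5⟩))) (.node 2 (.node 1 (.one ⟨7703, 1, 3⟩) (.one ⟨6440, 2, 3⟩)) (.node 1 (.one ⟨12538, 0, 5⟩) (.one ⟨11499, 1, 7⟩)))) (.node 4 (.node 2 (.node 1 (.one ⟨14899, 1, 3⟩) (.one ⟨12719, 1, 3⟩)) (.node 1 (.one ⟨7094, 0, 4⟩) (.one ⟨16584, 2, 2⟩))) (.node 2 (.node 1 (.one ⟨8885, 2, 5⟩) (.one ⟨456, 1, 2⟩)) (.node 1 (.one ⟨6381, 1, 7⟩) (.one ⟨15607, 2, 6⟩)))))))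
def par8_9_9 : Arr Par :=
  (.node 32 (.node 16 (.node 8 (.node 4 (.node 2 (.node 1 (.one ⟨5510, 2, 6⟩) (.one ⟨6188, 0, 6⟩)) (.node 1 (.one ⟨16407, 2, 6⟩) (.one ⟨12138, 1, 3⟩))) (.node 2 (.node 1 (.one ⟨4610, 2, 3⟩) (.one ⟨1119, 2, 1⟩)) (.node 1 (.one ⟨15824, 2, 6⟩) (.one ⟨12818, 2, 4⟩)))) (.node 4 (.node 2 (.node 1 (.one ⟨13521, 2, 4⟩) (.one ⟨2676, 2, 3⟩)) (.node 1 (.one ⟨719, 2, 4⟩) (.one ⟨1635, 2, 3⟩))) (.node 2 (.node 1 (.one ⟨11975, 1, 1⟩) (.one ⟨13609, 2, 4⟩)) (.node 1 (.one ⟨12705, 2, 3⟩) (.one ⟨15129, 1, 3⟩))))) (.node 8 (.node 4 (.node 2 (.node 1 (.one ⟨13704, 2, 5⟩) (.one ⟨6530, 1, 4⟩)) (.node 1 (.one ⟨9914, 2, 4⟩) (.one ⟨4900, 0, 4⟩))) (.node 2 (.node 1 (.one ⟨6200, 2, 4⟩) (.one ⟨8053, 0, 2⟩)) (.node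 1 (.one ⟨9087, 1, 6⟩) (.one ⟨12865, 2, 5⟩)))) (.node 4 (.node 2 (.node 1 (.one ⟨15095, 2, 6⟩) (.one ⟨9855, 2, 4⟩)) (.node 1 (.one ⟨7951, 1, 4⟩) (.one ⟨10281, 1, 6⟩))) (.node 2 (.node 1 (.one ⟨7843, 1, 5⟩) (.one ⟨4692, 2, 5⟩)) (.node 1 (.one ⟨2102, 1, 6⟩) (.one ⟨12991, 2, 5⟩)))))) (.node 16 (.node 8 (.node 4 (.node 2 (.node 1 (.one ⟨5316, 2, 4⟩) (.one ⟨9195, 1, 1⟩)) (.node 1 (.one ⟨17138, 2, 5⟩) (.one ⟨6108, 0, 3⟩))) (.node 2 (.node 1 (.one ⟨12292, 2, 6⟩) (.one ⟨13060, 1, 5⟩)) (.node 1 (.one ⟨8260, 1, 5⟩) (.one ⟨5855, 2, 4⟩)))) (.node 4 (.node 2 (.node 1 (.one ⟨16861, 0, 6⟩) (.one ⟨5134, 1, 5⟩)) (.node 1 (.one ⟨1987, 2, 5⟩) (.one ⟨14133, 1, 6⟩))) (.node 2 (.node 1 (.one ⟨14924, 1, 6⟩) (.one ⟨5981, 2, 6⟩)) (.node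 1 (.one ⟨5353, 1, 6⟩) (.one ⟨18, 2, 5⟩))))) (.node 8 (.node 4 (.node 2 (.node 1 (.one ⟨8242, 2, 3⟩) (.one ⟨15006, 1, 5⟩)) (.node 1 (.one ⟨5557, 2, 6⟩) (.one ⟨16066, 2, 5⟩))) (.node 2 (.node 1 (.one ⟨15034, 1, 3⟩) (.one ⟨14411, 2, 4⟩)) (.node 1 (.one ⟨7972, 1, 7⟩) (.one ⟨4369, 2, 2⟩)))) (.node 4 (.node 2 (.node 1 (.one ⟨4156, 1, 4⟩) (.one ⟨9900, 2, 3⟩)) (.node 1 (.one ⟨12528, 1, 4⟩) (.one ⟨1584, 0, 1⟩))) (.node 2 (.node 1 (.one ⟨11287, 1, 3⟩) (.one ⟨4761, 0, 6⟩)) (.node 1 (.one ⟨12517, 2, 5⟩) (.one ⟨6078, 0, 3⟩)))))))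
def par8_9_10 : Arr Par :=
  (.node 32 (.node 16 (.node 8 (.node 4 (.node 2 (.node 1 (.one ⟨3000, 2, 5⟩) (.one ⟨16191, 0, 4⟩)) (.node 1 (.one ⟨6722, 1, 5⟩) (.one ⟨11441, 2, 4⟩))) (.node 2 (.node 1 (.one ⟨2433, 2, 4⟩) (.one ⟨4555, 1, 6⟩)) (.node 1 (.one ⟨10847, 1, 3⟩) (.one ⟨13667, 2, 4⟩)))) (.node 4 (.node 2 (.node 1 (.one ⟨9136, 2, 6⟩) (.one ⟨15420, 0, 7⟩)) (.node 1 (.one ⟨11141, 2, 6⟩) (.one ⟨11943, 1, 5⟩))) (.node 2 (.node 1 (.one ⟨12642, 1, 6⟩) (.one ⟨3991, 1, 4⟩)) (.node 1 (.one ⟨16108, 2, 5⟩) (.one ⟨1202, 1, 1⟩))))) (.node 8 (.node 4 (.node 2 (.node 1 (.one ⟨10829, 1, 6⟩) (.one ⟨1407, 2, 5⟩)) (.node 1 (.one ⟨13260, 1, 6⟩) (.one ⟨1278, 2, 6⟩))) (.node 2 (.node 1 (.one ⟨6697, 1, 6⟩) (.one ⟨1353, 2, 5⟩))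 (.node 1 (.one ⟨8823, 1, 6⟩) (.one ⟨12454, 2, 7⟩)))) (.node 4 (.node 2 (.node 1 (.one ⟨640, 0, 5⟩) (.one ⟨11137, 2, 6⟩)) (.node 1 (.one ⟨16930, 2, 2⟩) (.one ⟨12564, 2, 7⟩))) (.node 2 (.node 1 (.one ⟨2186, 0, 5⟩) (.one ⟨10976, 2, 3⟩)) (.node 1 (.one ⟨16978, 2, 5⟩) (.one ⟨8304, 2, 5⟩)))))) (.node 16 (.node 8 (.node 4 (.node 2 (.node 1 (.one ⟨13048, 1, 5⟩) (.one ⟨14812, 0, 3⟩)) (.node 1 (.one ⟨15497, 1, 6⟩) (.one ⟨3718, 2, 6⟩))) (.node 2 (.node 1 (.one ⟨5563, 2, 6⟩) (.one ⟨7962, 0, 3⟩)) (.node 1 (.one ⟨1882, 0, 2⟩) (.one ⟨5637, 0, 5⟩)))) (.node 4 (.node 2 (.node 1 (.one ⟨3627, 1, 4⟩) (.one ⟨14798, 1, 4⟩)) (.node 1 (.one ⟨13461, 1, 4⟩) (.one ⟨10506, 2, 6⟩))) (.node 2 (.node 1 (.one ⟨15930, 1, 2⟩) (.one ⟨16306,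 0, 4⟩)) (.node 1 (.one ⟨12581, 2, 4⟩) (.one ⟨6043, 0, 7⟩))))) (.node 8 (.node 4 (.node 2 (.node 1 (.one ⟨1705, 1, 5⟩) (.one ⟨5642, 1, 4⟩)) (.node 1 (.one ⟨4102, 2, 4⟩) (.one ⟨4003, 2, 4⟩))) (.node 2 (.node 1 (.one ⟨13738, 2, 5⟩) (.one ⟨12389, 2, 3⟩)) (.node 1 (.one ⟨5994, 2, 5⟩) (.one ⟨12610, 2, 3⟩)))) (.node 4 (.node 2 (.node 1 (.one ⟨4818, 2, 5⟩) (.one ⟨6, 2, 4⟩)) (.node 1 (.one ⟨5669, 1, 3⟩) (.one ⟨14664, 2, 6⟩))) (.node 2 (.node 1 (.one ⟨6815, 2, 5⟩) (.one ⟨3933, 0, 5⟩)) (.node 1 (.one ⟨15896, 2, 5⟩) (.one ⟨16325, 2, 5⟩)))))))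
def par8_9_11 : Arr Par :=
  (.node 32 (.node 16 (.node 8 (.node 4 (.node 2 (.node 1 (.one ⟨8693, 2, 1⟩) (.one ⟨4599, 1, 4⟩)) (.node 1 (.one ⟨8692, 2, 1⟩) (.one ⟨5158, 0, 3⟩))) (.node 2 (.node 1 (.one ⟨8690, 2, 6⟩) (.one ⟨6233, 1, 4⟩)) (.node 1 (.one ⟨8687, 2, 3⟩) (.one ⟨11000, 2, 2⟩)))) (.node 4 (.node 2 (.node 1 (.one ⟨4434, 1, 5⟩) (.one ⟨3150, 1, 3⟩)) (.node 1 (.one ⟨12299, 2, 5⟩) (.one ⟨2995, 2, 1⟩))) (.node 2 (.node 1 (.one ⟨8627, 1, 6⟩) (.one ⟨5472, 2, 5⟩)) (.node 1 (.one ⟨8610, 1, 4⟩) (.one ⟨2760, 0, 3⟩))))) (.node 8 (.node 4 (.node 2 (.node 1 (.one ⟨12746, 2, 5⟩) (.one ⟨8029, 0, 2⟩)) (.node 1 (.one ⟨8594, 0, 3⟩) (.one ⟨6014, 2, 6⟩))) (.node 2 (.node 1 (.one ⟨6795, 1, 4⟩) (.one ⟨13197, 2, 6⟩)) (.node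 1 (.one ⟨14633, 1, 6⟩) (.one ⟨10413, 2, 5⟩)))) (.node 4 (.node 2 (.node 1 (.one ⟨8817, 1, 3⟩) (.one ⟨718, 1, 3⟩)) (.node 1 (.one ⟨8818, 1, 6⟩) (.one ⟨6133, 0, 5⟩))) (.node 2 (.node 1 (.one ⟨5722, 2, 6⟩) (.one ⟨3323, 2, 6⟩)) (.node 1 (.one ⟨14483, 2, 4⟩) (.one ⟨11986, 1, 5⟩)))))) (.node 16 (.node 8 (.node 4 (.node 2 (.node 1 (.one ⟨11976, 1, 5⟩) (.one ⟨11971, 1, 4⟩)) (.node 1 (.one ⟨11996, 1, 4⟩) (.one ⟨2334, 1, 6⟩))) (.node 2 (.node 1 (.one ⟨16082, 2, 5⟩) (.one ⟨2312, 1, 5⟩)) (.node 1 (.one ⟨2320, 1, 4⟩) (.one ⟨12446, 2, 4⟩)))) (.node 4 (.node 2 (.node 1 (.one ⟨3170, 1, 4⟩) (.one ⟨8063, 2, 3⟩)) (.node 1 (.one ⟨14754, 1, 4⟩) (.one ⟨13967, 1, 3⟩))) (.node 2 (.node 1 (.one ⟨3584, 1, 4⟩) (.one ⟨2449, 1, 4⟩)) (.node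 1 (.one ⟨16191, 1, 4⟩) (.one ⟨3877, 2, 5⟩))))) (.node 8 (.node 4 (.node 2 (.node 1 (.one ⟨12562, 2, 5⟩) (.one ⟨4540, 2, 4⟩)) (.node 1 (.one ⟨13194, 2, 5⟩) (.one ⟨7034, 0, 3⟩))) (.node 2 (.node 1 (.one ⟨14626, 0, 3⟩) (.one ⟨7739, 2, 2⟩)) (.node 1 (.one ⟨16263, 2, 1⟩) (.one ⟨364, 0, 3⟩)))) (.node 4 (.node 2 (.node 1 (.one ⟨15880, 1, 6⟩) (.one ⟨616, 0, 2⟩)) (.node 1 (.one ⟨10770, 2, 4⟩) (.one ⟨5672, 0, 5⟩))) (.node 2 (.node 1 (.one ⟨5852, 2, 1⟩) (.one ⟨10725, 2, 6⟩)) (.node 1 (.one ⟨9582, 2, 6⟩) (.one ⟨13863, 2, 5⟩)))))))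
def par8_9_12 : Arr Par :=
  (.node 32 (.node 16 (.node 8 (.node 4 (.node 2 (.node 1 (.one ⟨13952, 2, 6⟩) (.one ⟨16275, 2, 6⟩)) (.node 1 (.one ⟨16235, 2, 6⟩) (.one ⟨3897, 2, 2⟩))) (.node 2 (.node 1 (.one ⟨1109, 1, 7⟩) (.one ⟨1645, 2, 5⟩)) (.node 1 (.one ⟨968, 2, 6⟩) (.one ⟨11173, 2, 4⟩)))) (.node 4 (.node 2 (.node 1 (.one ⟨16514, 0, 3⟩) (.one ⟨16613, 0, 4⟩)) (.node 1 (.one ⟨11169, 2, 4⟩) (.one ⟨2045, 0, 2⟩))) (.node 2 (.node 1 (.one ⟨11170, 2, 4⟩) (.one ⟨10143, 1, 4⟩)) (.node 1 (.one ⟨11167, 2, 2⟩) (.one ⟨5928, 0, 6⟩))))) (.node 8 (.node 4 (.node 2 (.node 1 (.one ⟨7968, 2, 3⟩) (.one ⟨13182, 0, 4⟩)) (.node 1 (.one ⟨12950, 2, 5⟩) (.one ⟨5665, 1, 4⟩))) (.node 2 (.node 1 (.one ⟨11100, 1, 4⟩) (.one ⟨15004, 2, 7⟩))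 (.node 1 (.one ⟨11884, 1, 4⟩) (.one ⟨10087, 2, 4⟩)))) (.node 4 (.node 2 (.node 1 (.one ⟨12109, 2, 6⟩) (.one ⟨15570, 1, 6⟩)) (.node 1 (.one ⟨6067, 2, 2⟩) (.one ⟨5608, 2, 6⟩))) (.node 2 (.node 1 (.one ⟨8349, 2, 4⟩) (.one ⟨15569, 1, 4⟩)) (.node 1 (.one ⟨9404, 2, 2⟩) (.one ⟨13585, 2, 6⟩)))))) (.node 16 (.node 8 (.node 4 (.node 2 (.node 1 (.one ⟨2496, 0, 6⟩) (.one ⟨1251, 2, 3⟩)) (.node 1 (.one ⟨13327, 1, 4⟩) (.one ⟨2264, 0, 4⟩))) (.node 2 (.node 1 (.one ⟨12875, 2, 4⟩) (.one ⟨1041, 1, 3⟩)) (.node 1 (.one ⟨5416, 1, 4⟩) (.one ⟨14055, 0, 4⟩)))) (.node 4 (.node 2 (.node 1 (.one ⟨12156, 1, 2⟩) (.one ⟨4103, 1, 5⟩)) (.node 1 (.one ⟨5147, 0, 4⟩) (.one ⟨8835, 0, 4⟩))) (.node 2 (.node 1 (.one ⟨12121, 1, 4⟩) (.one ⟨4075, 1,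 4⟩)) (.node 1 (.one ⟨12107, 1, 4⟩) (.one ⟨8187, 0, 3⟩))))) (.node 8 (.node 4 (.node 2 (.node 1 (.one ⟨8467, 1, 7⟩) (.one ⟨12442, 2, 4⟩)) (.node 1 (.one ⟨3326, 0, 3⟩) (.one ⟨16471, 1, 4⟩))) (.node 2 (.node 1 (.one ⟨14222, 2, 5⟩) (.one ⟨15480, 2, 6⟩)) (.node 1 (.one ⟨1657, 1, 6⟩) (.one ⟨15198, 1, 6⟩)))) (.node 4 (.node 2 (.node 1 (.one ⟨4239, 1, 4⟩) (.one ⟨8599, 1, 3⟩)) (.node 1 (.one ⟨11305, 2, 3⟩) (.one ⟨9145, 0, 1⟩))) (.node 2 (.node 1 (.one ⟨13570, 1, 4⟩) (.one ⟨16129, 1, 4⟩)) (.node 1 (.one ⟨11072, 2, 6⟩) (.one ⟨15242, 0, 5⟩)))))))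
def par8_9_13 : Arr Par :=
  (.node 32 (.node 16 (.node 8 (.node 4 (.node 2 (.node 1 (.one ⟨10159, 1, 4⟩) (.one ⟨11273, 1, 1⟩)) (.node 1 (.one ⟨14524, 1, 4⟩) (.one ⟨6745, 2, 2⟩))) (.node 2 (.node 1 (.one ⟨14498, 0, 5⟩) (.one ⟨8505, 2, 1⟩)) (.node 1 (.one ⟨14981, 1, 4⟩) (.one ⟨12666, 1, 3⟩)))) (.node 4 (.node 2 (.node 1 (.one ⟨4443, 1, 5⟩) (.one ⟨16543, 0, 4⟩)) (.node 1 (.one ⟨9755, 1, 4⟩) (.one ⟨2427, 2, 3⟩))) (.node 2 (.node 1 (.one ⟨11492, 1, 3⟩) (.one ⟨12559, 1, 5⟩)) (.node 1 (.one ⟨4773, 1, 6⟩) (.one ⟨4194, 2, 4⟩))))) (.node 8 (.node 4 (.node 2 (.node 1 (.one ⟨1274, 0, 4⟩) (.one ⟨9201, 2, 5⟩)) (.node 1 (.one ⟨10552, 1, 5⟩) (.one ⟨4290, 1, 0⟩))) (.node 2 (.node 1 (.one ⟨4908, 2, 6⟩) (.one ⟨215, 0, 5⟩)) (.node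 1 (.one ⟨11548, 2, 4⟩) (.one ⟨9319, 2, 1⟩)))) (.node 4 (.node 2 (.node 1 (.one ⟨7104, 0, 4⟩) (.one ⟨14214, 1, 6⟩)) (.node 1 (.one ⟨7205, 1, 6⟩) (.one ⟨9452, 1, 6⟩))) (.node 2 (.node 1 (.one ⟨15451, 2, 3⟩) (.one ⟨8133, 2, 2⟩)) (.node 1 (.one ⟨2978, 1, 6⟩) (.one ⟨3503, 2, 5⟩)))))) (.node 16 (.node 8 (.node 4 (.node 2 (.node 1 (.one ⟨12295, 2, 4⟩) (.one ⟨9324, 2, 1⟩)) (.node 1 (.one ⟨2669, 2, 4⟩) (.one ⟨14718, 0, 4⟩))) (.node 2 (.node 1 (.one ⟨9148, 0, 5⟩) (.one ⟨11500, 1, 3⟩)) (.node 1 (.one ⟨15077, 2, 3⟩) (.one ⟨8481, 1, 3⟩)))) (.node 4 (.node 2 (.node 1 (.one ⟨11062, 1, 6⟩) (.one ⟨2679, 2, 5⟩)) (.node 1 (.one ⟨16154, 1, 5⟩) (.one ⟨11098, 1, 5⟩))) (.node 2 (.node 1 (.one ⟨7214, 0, 4⟩) (.one ⟨7548, 2, 6⟩)) (.node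 1 (.one ⟨12948, 2, 5⟩) (.one ⟨2735, 1, 3⟩))))) (.node 8 (.node 4 (.node 2 (.node 1 (.one ⟨198, 1, 3⟩) (.one ⟨2796, 2, 6⟩)) (.node 1 (.one ⟨9540, 2, 5⟩) (.one ⟨2742, 1, 5⟩))) (.node 2 (.node 1 (.one ⟨595, 2, 2⟩) (.one ⟨10848, 2, 3⟩)) (.node 1 (.one ⟨1538, 2, 2⟩) (.one ⟨8095, 2, 4⟩)))) (.node 4 (.node 2 (.node 1 (.one ⟨12325, 2, 3⟩) (.one ⟨9062, 1, 3⟩)) (.node 1 (.one ⟨6073, 2, 6⟩) (.one ⟨2424, 2, 5⟩))) (.node 2 (.node 1 (.one ⟨14805, 1, 3⟩) (.one ⟨16742, 1, 3⟩)) (.node 1 (.one ⟨4076, 2, 2⟩) (.one ⟨9007, 2, 5⟩)))))))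
def par8_9_14 : Arr Par :=
  (.node 32 (.node 16 (.node 8 (.node 4 (.node 2 (.node 1 (.one ⟨13838, 2, 5⟩) (.one ⟨13581, 2, 5⟩)) (.node 1 (.one ⟨1679, 2, 6⟩) (.one ⟨10469, 0, 4⟩))) (.node 2 (.node 1 (.one ⟨8684, 1, 7⟩) (.one ⟨13931, 2, 5⟩)) (.node 1 (.one ⟨9122, 2, 6⟩) (.one ⟨14820, 0, 3⟩)))) (.node 4 (.node 2 (.node 1 (.one ⟨8826, 1, 6⟩) (.one ⟨7069, 1, 2⟩)) (.node 1 (.one ⟨5735, 1, 6⟩) (.one ⟨11989, 1, 5⟩))) (.node 2 (.node 1 (.one ⟨13399, 1, 6⟩) (.one ⟨10828, 1, 6⟩)) (.node 1 (.one ⟨69, 2, 5⟩) (.one ⟨6046, 2, 6⟩))))) (.node 8 (.node 4 (.node 2 (.node 1 (.one ⟨4696, 2, 5⟩) (.one ⟨14554, 1, 4⟩)) (.node 1 (.one ⟨972, 1, 3⟩) (.one ⟨199, 1, 3⟩))) (.node 2 (.node 1 (.one ⟨14555, 1, 6⟩) (.one ⟨1910, 0, 5⟩)) (.node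 1 (.one ⟨14481, 2, 6⟩) (.one ⟨9751, 1, 3⟩)))) (.node 4 (.node 2 (.node 1 (.one ⟨253, 2, 5⟩) (.one ⟨75, 1, 3⟩)) (.node 1 (.one ⟨2394, 0, 4⟩) (.one ⟨5760, 0, 7⟩))) (.node 2 (.node 1 (.one ⟨7367, 1, 5⟩) (.one ⟨12178, 2, 5⟩)) (.node 1 (.one ⟨15516, 1, 5⟩) (.one ⟨13449, 1, 3⟩)))))) (.node 16 (.node 8 (.node 4 (.node 2 (.node 1 (.one ⟨12079, 2, 2⟩) (.one ⟨5079, 2, 2⟩)) (.node 1 (.one ⟨5447, 2, 5⟩) (.one ⟨10219, 1, 4⟩))) (.node 2 (.node 1 (.one ⟨6567, 1, 5⟩) (.one ⟨6425, 1, 4⟩)) (.node 1 (.one ⟨10902, 2, 4⟩) (.one ⟨12849, 2, 4⟩)))) (.node 4 (.node 2 (.node 1 (.one ⟨15559, 2, 5⟩) (.one ⟨16874, 2, 4⟩)) (.node 1 (.one ⟨11074, 2, 4⟩) (.one ⟨11000, 1, 2⟩))) (.node 2 (.node 1 (.one ⟨2864, 1, 5⟩) (.one ⟨5937, 2, 5⟩)) (.node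 1 (.one ⟨4065, 2, 4⟩) (.one ⟨8367, 2, 3⟩))))) (.node 8 (.node 4 (.node 2 (.node 1 (.one ⟨9209, 2, 3⟩) (.one ⟨990, 1, 6⟩)) (.node 1 (.one ⟨7292, 1, 3⟩) (.one ⟨237, 1, 6⟩))) (.node 2 (.node 1 (.one ⟨8384, 2, 3⟩) (.one ⟨7293, 1, 5⟩)) (.node 1 (.one ⟨653, 1, 3⟩) (.one ⟨16968, 2, 4⟩)))) (.node 4 (.node 2 (.node 1 (.one ⟨773, 1, 3⟩) (.one ⟨13243, 2, 5⟩)) (.node 1 (.one ⟨834, 1, 5⟩) (.one ⟨16490, 2, 3⟩))) (.node 2 (.node 1 (.one ⟨16133, 2, 4⟩) (.one ⟨8365, 0, 4⟩)) (.node 1 (.one ⟨11853, 2, 4⟩) (.one ⟨367, 1, 3⟩)))))))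
def par8_9_15 : Arr Par :=
  (.node 32 (.node 16 (.node 8 (.node 4 (.node 2 (.node 1 (.one ⟨10561, 1, 3⟩) (.one ⟨2141, 1, 3⟩)) (.node 1 (.one ⟨10477, 1, 4⟩) (.one ⟨15788, 0, 2⟩))) (.node 2 (.node 1 (.one ⟨8808, 0, 2⟩) (.one ⟨15428, 0, 6⟩)) (.node 1 (.one ⟨15687, 1, 2⟩) (.one ⟨1413, 0, 3⟩)))) (.node 4 (.node 2 (.node 1 (.one ⟨3862, 2, 5⟩) (.one ⟨3282, 1, 5⟩)) (.node 1 (.one ⟨3538, 0, 6⟩) (.one ⟨7160, 1, 7⟩))) (.node 2 (.node 1 (.one ⟨1372, 1, 2⟩) (.one ⟨5796, 2, 3⟩)) (.node 1 (.one ⟨4234, 2, 4⟩) (.one ⟨12958, 0, 6⟩))))) (.node 8 (.node 4 (.node 2 (.node 1 (.one ⟨12761, 2, 4⟩) (.one ⟨6667, 0, 5⟩)) (.node 1 (.one ⟨16987, 2, 5⟩) (.one ⟨15061, 0, 4⟩))) (.node 2 (.node 1 (.one ⟨4555, 1, 0⟩) (.one ⟨14969, 1, 3⟩))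 (.node 1 (.one ⟨7727, 0, 5⟩) (.one ⟨13909, 0, 7⟩)))) (.node 4 (.node 2 (.node 1 (.one ⟨4344, 2, 6⟩) (.one ⟨218, 1, 3⟩)) (.node 1 (.one ⟨3669, 1, 3⟩) (.one ⟨4630, 1, 3⟩))) (.node 2 (.node 1 (.one ⟨2893, 1, 4⟩) (.one ⟨12445, 2, 3⟩)) (.node 1 (.one ⟨9527, 1, 7⟩) (.one ⟨7687, 0, 5⟩)))))) (.node 16 (.node 8 (.node 4 (.node 2 (.node 1 (.one ⟨9563, 0, 4⟩) (.one ⟨16811, 2, 3⟩)) (.node 1 (.one ⟨13160, 0, 4⟩) (.one ⟨15310, 1, 3⟩))) (.node 2 (.node 1 (.one ⟨13347, 1, 3⟩) (.one ⟨8100, 1, 3⟩)) (.node 1 (.one ⟨11577, 0, 4⟩) (.one ⟨12660, 2, 4⟩)))) (.node 4 (.node 2 (.node 1 (.one ⟨9174, 2, 4⟩) (.one ⟨5481, 1, 6⟩)) (.node 1 (.one ⟨11410, 1, 6⟩) (.one ⟨15538, 2, 3⟩))) (.node 2 (.node 1 (.one ⟨16344, 2, 5⟩) (.one ⟨8779, 1,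 6⟩)) (.node 1 (.one ⟨14302, 2, 3⟩) (.one ⟨16085, 0, 5⟩))))) (.node 8 (.node 4 (.node 2 (.node 1 (.one ⟨16434, 1, 5⟩) (.one ⟨11577, 1, 4⟩)) (.node 1 (.one ⟨5225, 0, 5⟩) (.one ⟨9552, 0, 5⟩))) (.node 2 (.node 1 (.one ⟨8116, 1, 4⟩) (.one ⟨14029, 2, 5⟩)) (.node 1 (.one ⟨14041, 2, 6⟩) (.one ⟨4979, 1, 2⟩)))) (.node 4 (.node 2 (.node 1 (.one ⟨14797, 1, 4⟩) (.one ⟨2895, 2, 4⟩)) (.node 1 (.one ⟨4663, 1, 5⟩) (.one ⟨5943, 1, 1⟩))) (.node 2 (.node 1 (.one ⟨11578, 1, 3⟩) (.one ⟨11844, 1, 3⟩)) (.node 1 (.one ⟨5619, 1, 1⟩) (.one ⟨15560, 2, 5⟩)))))))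
def par8_9 : Arr Par :=
  (.node 512 (.node 256 (.node 128 (.node 64 par8_9_0 par8_9_1) (.node 64 par8_9_2 par8_9_3)) (.node 128 (.node 64 par8_9_4 par8_9_5) (.node 64 par8_9_6 par8_9_7))) (.node 256 (.node 128 (.node 64 par8_9_8 par8_9_9) (.node 64 par8_9_10 par8_9_11)) (.node 128 (.node 64 par8_9_12 par8_9_13) (.node 64 par8_9_14 par8_9_15))))
def par8_10_0 : Arr Par :=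
  (.node 32 (.node 16 (.node 8 (.node 4 (.node 2 (.node 1 (.one ⟨15418, 2, 4⟩) (.one ⟨4956, 2, 6⟩)) (.node 1 (.one ⟨4843, 2, 3⟩) (.one ⟨5854, 2, 4⟩))) (.node 2 (.node 1 (.one ⟨2929, 0, 1⟩) (.one ⟨13580, 1, 7⟩)) (.node 1 (.one ⟨12461, 2, 5⟩) (.one ⟨3670, 1, 2⟩)))) (.node 4 (.node 2 (.node 1 (.one ⟨2644, 1, 4⟩) (.one ⟨13637, 2, 6⟩)) (.node 1 (.one ⟨4051, 1, 4⟩) (.one ⟨3795, 2, 5⟩))) (.node 2 (.node 1 (.one ⟨11650, 1, 4⟩) (.one ⟨12296, 1, 7⟩)) (.node 1 (.one ⟨10101, 1, 4⟩) (.one ⟨1271, 2, 5⟩))))) (.node 8 (.node 4 (.node 2 (.node 1 (.one ⟨16171, 2, 4⟩) (.one ⟨12574, 2, 3⟩)) (.node 1 (.one ⟨3740, 1, 5⟩) (.one ⟨3318, 2, 5⟩))) (.node 2 (.node 1 (.one ⟨17137, 2, 5⟩) (.one ⟨13055, 2, 4⟩)) (.node 1 (.one ⟨17087, 0,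 5⟩) (.one ⟨13483, 1, 7⟩)))) (.node 4 (.node 2 (.node 1 (.one ⟨11969, 1, 4⟩) (.one ⟨16118, 2, 5⟩)) (.node 1 (.one ⟨2961, 1, 5⟩) (.one ⟨4433, 1, 0⟩))) (.node 2 (.node 1 (.one ⟨6055, 1, 3⟩) (.one ⟨16893, 2, 5⟩)) (.node 1 (.one ⟨16826, 1, 3⟩) (.one ⟨17106, 2, 2⟩)))))) (.node 16 (.node 8 (.node 4 (.node 2 (.node 1 (.one ⟨965, 2, 6⟩) (.one ⟨8950, 2, 3⟩)) (.node 1 (.one ⟨4893, 1, 6⟩) (.one ⟨12266, 2, 5⟩))) (.node 2 (.node 1 (.one ⟨16297, 1, 6⟩) (.one ⟨3962, 1, 5⟩)) (.node 1 (.one ⟨3323, 1, 6⟩) (.one ⟨5559, 2, 4⟩)))) (.node 4 (.node 2 (.node 1 (.one ⟨1637, 1, 6⟩) (.one ⟨3342, 0, 5⟩)) (.node 1 (.one ⟨2733, 1, 4⟩) (.one ⟨13984, 0, 4⟩))) (.node 2 (.node 1 (.one ⟨5720, 1, 4⟩) (.one ⟨2286, 0, 4⟩)) (.node 1 (.one ⟨6504,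 1, 5⟩) (.one ⟨1713, 2, 5⟩))))) (.node 8 (.node 4 (.node 2 (.node 1 (.one ⟨4022, 2, 5⟩) (.one ⟨9173, 0, 1⟩)) (.node 1 (.one ⟨2366, 1, 4⟩) (.one ⟨1535, 2, 4⟩))) (.node 2 (.node 1 (.one ⟨4011, 2, 4⟩) (.one ⟨10916, 1, 4⟩)) (.node 1 (.one ⟨1772, 2, 5⟩) (.one ⟨9247, 1, 2⟩)))) (.node 4 (.node 2 (.node 1 (.one ⟨71, 1, 1⟩) (.one ⟨609, 1, 1⟩)) (.node 1 (.one ⟨4794, 2, 4⟩) (.one ⟨9251, 1, 5⟩))) (.node 2 (.node 1 (.one ⟨4184, 0, 3⟩) (.one ⟨4013, 2, 4⟩)) (.node 1 (.one ⟨9248, 1, 5⟩) (.one ⟨9171, 0, 6⟩)))))))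
def par8_10_1 : Arr Par :=
  (.node 32 (.node 16 (.node 8 (.node 4 (.node 2 (.node 1 (.one ⟨2753, 1, 5⟩) (.one ⟨15771, 0, 3⟩)) (.node 1 (.one ⟨13182, 1, 4⟩) (.one ⟨3112, 1, 1⟩))) (.node 2 (.node 1 (.one ⟨1745, 1, 7⟩) (.one ⟨13450, 1, 4⟩)) (.node 1 (.one ⟨14650, 2, 5⟩) (.one ⟨4375, 0, 0⟩)))) (.node 4 (.node 2 (.node 1 (.one ⟨12719, 2, 3⟩) (.one ⟨10761, 0, 4⟩)) (.node 1 (.one ⟨10601, 0, 4⟩) (.one ⟨2696, 1, 4⟩))) (.node 2 (.node 1 (.one ⟨10682, 1, 3⟩) (.one ⟨4629, 1, 4⟩)) (.node 1 (.one ⟨75, 2, 3⟩) (.one ⟨4275, 1, 0⟩))))) (.node 8 (.node 4 (.node 2 (.node 1 (.one ⟨5547, 2, 5⟩) (.one ⟨4010, 2, 4⟩)) (.node 1 (.one ⟨3037, 1, 6⟩) (.one ⟨2668, 1, 3⟩))) (.node 2 (.node 1 (.one ⟨15621, 2, 5⟩) (.one ⟨14464, 2, 4⟩)) (.node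 1 (.one ⟨1477, 0, 4⟩) (.one ⟨3882, 2, 3⟩)))) (.node 4 (.node 2 (.node 1 (.one ⟨4008, 2, 3⟩) (.one ⟨4535, 1, 4⟩)) (.node 1 (.one ⟨4974, 1, 4⟩) (.one ⟨14539, 2, 7⟩))) (.node 2 (.node 1 (.one ⟨1624, 1, 7⟩) (.one ⟨415, 2, 4⟩)) (.node 1 (.one ⟨2674, 2, 4⟩) (.one ⟨9541, 2, 5⟩)))))) (.node 16 (.node 8 (.node 4 (.node 2 (.node 1 (.one ⟨12936, 0, 3⟩) (.one ⟨12925, 2, 3⟩)) (.node 1 (.one ⟨1474, 0, 4⟩) (.one ⟨2611, 1, 5⟩))) (.node 2 (.node 1 (.one ⟨2948, 2, 3⟩) (.one ⟨4907, 2, 6⟩)) (.node 1 (.one ⟨3828, 2, 4⟩) (.one ⟨5281, 1, 4⟩)))) (.node 4 (.node 2 (.node 1 (.one ⟨2386, 1, 2⟩) (.one ⟨4736, 1, 4⟩)) (.node 1 (.one ⟨15234, 0, 3⟩) (.one ⟨10938, 0, 4⟩))) (.node 2 (.node 1 (.one ⟨14554, 0, 4⟩) (.one ⟨5191, 1, 4⟩)) (.node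 1 (.one ⟨2430, 1, 3⟩) (.one ⟨10010, 1, 3⟩))))) (.node 8 (.node 4 (.node 2 (.node 1 (.one ⟨9526, 1, 3⟩) (.one ⟨1871, 1, 3⟩)) (.node 1 (.one ⟨1707, 1, 5⟩) (.one ⟨4971, 2, 4⟩))) (.node 2 (.node 1 (.one ⟨7311, 0, 2⟩) (.one ⟨5728, 2, 4⟩)) (.node 1 (.one ⟨12823, 1, 4⟩) (.one ⟨42, 2, 3⟩)))) (.node 4 (.node 2 (.node 1 (.one ⟨11894, 2, 5⟩) (.one ⟨7284, 1, 3⟩)) (.node 1 (.one ⟨10786, 0, 5⟩) (.one ⟨16997, 2, 4⟩))) (.node 2 (.node 1 (.one ⟨7488, 2, 7⟩) (.one ⟨10590, 2, 7⟩)) (.node 1 (.one ⟨12378, 0, 5⟩) (.one ⟨5665, 0, 4⟩)))))))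
def par8_10_2 : Arr Par :=
  (.node 32 (.node 16 (.node 8 (.node 4 (.node 2 (.node 1 (.one ⟨11855, 2, 2⟩) (.one ⟨6505, 1, 3⟩)) (.node 1 (.one ⟨4855, 2, 5⟩) (.one ⟨4412, 1, 0⟩))) (.node 2 (.node 1 (.one ⟨14331, 0, 5⟩) (.one ⟨15485, 0, 3⟩)) (.node 1 (.one ⟨12340, 1, 5⟩) (.one ⟨9813, 2, 3⟩)))) (.node 4 (.node 2 (.node 1 (.one ⟨12308, 0, 7⟩) (.one ⟨2570, 1, 3⟩)) (.node 1 (.one ⟨12474, 1, 5⟩) (.one ⟨2862, 1, 4⟩))) (.node 2 (.node 1 (.one ⟨12637, 1, 3⟩) (.one ⟨13092, 0, 5⟩)) (.node 1 (.one ⟨6514, 0, 5⟩) (.one ⟨588, 1, 1⟩))))) (.node 8 (.node 4 (.node 2 (.node 1 (.one ⟨4835, 0, 6⟩) (.one ⟨1075, 0, 3⟩)) (.node 1 (.one ⟨1, 1, 1⟩) (.one ⟨2347, 2, 4⟩))) (.node 2 (.node 1 (.one ⟨4393, 0, 6⟩) (.one ⟨8269, 2, 4⟩)) (.node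 1 (.one ⟨11726, 0, 7⟩) (.one ⟨7992, 1, 3⟩)))) (.node 4 (.node 2 (.node 1 (.one ⟨8275, 1, 3⟩) (.one ⟨5581, 0, 4⟩)) (.node 1 (.one ⟨9454, 1, 1⟩) (.one ⟨7144, 1, 3⟩))) (.node 2 (.node 1 (.one ⟨9595, 0, 5⟩) (.one ⟨1011, 2, 4⟩)) (.node 1 (.one ⟨11742, 2, 5⟩) (.one ⟨13084, 0, 6⟩)))))) (.node 16 (.node 8 (.node 4 (.node 2 (.node 1 (.one ⟨3357, 2, 6⟩) (.one ⟨3351, 2, 6⟩)) (.node 1 (.one ⟨3354, 2, 5⟩) (.one ⟨9713, 2, 3⟩))) (.node 2 (.node 1 (.one ⟨1870, 1, 2⟩) (.one ⟨628, 1, 5⟩)) (.node 1 (.one ⟨9716, 2, 3⟩) (.one ⟨2397, 0, 7⟩)))) (.node 4 (.node 2 (.node 1 (.one ⟨8530, 1, 3⟩) (.one ⟨5118, 2, 6⟩)) (.node 1 (.one ⟨11110, 2, 4⟩) (.one ⟨288, 2, 3⟩))) (.node 2 (.node 1 (.one ⟨12547, 2, 6⟩) (.one ⟨11854, 1, 4⟩)) (.node 1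 (.one ⟨4133, 2, 5⟩) (.one ⟨9344, 2, 5⟩))))) (.node 8 (.node 4 (.node 2 (.node 1 (.one ⟨1400, 2, 5⟩) (.one ⟨4844, 1, 3⟩)) (.node 1 (.one ⟨5492, 1, 3⟩) (.one ⟨3849, 1, 2⟩))) (.node 2 (.node 1 (.one ⟨16579, 2, 4⟩) (.one ⟨9597, 1, 5⟩)) (.node 1 (.one ⟨10571, 1, 3⟩) (.one ⟨214, 2, 5⟩)))) (.node 4 (.node 2 (.node 1 (.one ⟨7100, 2, 4⟩) (.one ⟨16801, 2, 3⟩)) (.node 1 (.one ⟨1976, 0, 4⟩) (.one ⟨3403, 0, 4⟩))) (.node 2 (.node 1 (.one ⟨6789, 2, 6⟩) (.one ⟨17161, 2, 3⟩)) (.node 1 (.one ⟨6625, 0, 5⟩) (.one ⟨10695, 2, 5⟩)))))))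
def par8_10_3 : Arr Par :=
  (.node 32 (.node 16 (.node 8 (.node 4 (.node 2 (.node 1 (.one ⟨16479, 0, 5⟩) (.one ⟨12280, 0, 5⟩)) (.node 1 (.one ⟨701, 2, 5⟩) (.one ⟨8279, 1, 6⟩))) (.node 2 (.node 1 (.one ⟨11616, 1, 4⟩) (.one ⟨14288, 1, 6⟩)) (.node 1 (.one ⟨1974, 1, 1⟩) (.one ⟨11340, 0, 7⟩)))) (.node 4 (.node 2 (.node 1 (.one ⟨15331, 1, 6⟩) (.one ⟨4323, 1, 6⟩)) (.node 1 (.one ⟨9092, 0, 5⟩) (.one ⟨16561, 1, 5⟩))) (.node 2 (.node 1 (.one ⟨4896, 0, 6⟩) (.one ⟨4293, 1, 6⟩)) (.node 1 (.one ⟨5860, 0, 7⟩) (.one ⟨12866, 2, 4⟩))))) (.node 8 (.node 4 (.node 2 (.node 1 (.one ⟨9563, 1, 4⟩) (.one ⟨6567, 0, 5⟩)) (.node 1 (.one ⟨12860, 1, 5⟩) (.one ⟨10060, 2, 4⟩))) (.node 2 (.node 1 (.one ⟨2582, 2, 5⟩) (.one ⟨5032, 2, 6⟩)) (.node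 1 (.one ⟨13493, 2, 5⟩) (.one ⟨6719, 0, 4⟩)))) (.node 4 (.node 2 (.node 1 (.one ⟨11848, 2, 4⟩) (.one ⟨8860, 2, 4⟩)) (.node 1 (.one ⟨11520, 2, 5⟩) (.one ⟨12572, 2, 4⟩))) (.node 2 (.node 1 (.one ⟨6208, 2, 3⟩) (.one ⟨11160, 2, 5⟩)) (.node 1 (.one ⟨8451, 2, 4⟩) (.one ⟨8943, 2, 3⟩)))))) (.node 16 (.node 8 (.node 4 (.node 2 (.node 1 (.one ⟨10312, 0, 4⟩) (.one ⟨8996, 1, 4⟩)) (.node 1 (.one ⟨7703, 2, 3⟩) (.one ⟨9844, 2, 4⟩))) (.node 2 (.node 1 (.one ⟨15495, 1, 7⟩) (.one ⟨810, 2, 3⟩)) (.node 1 (.one ⟨3846, 1, 6⟩) (.one ⟨15164, 0, 3⟩)))) (.node 4 (.node 2 (.node 1 (.one ⟨12303, 0, 3⟩) (.one ⟨5493, 2, 4⟩)) (.node 1 (.one ⟨13996, 2, 6⟩) (.one ⟨2788, 0, 5⟩))) (.node 2 (.node 1 (.one ⟨7992, 0, 3⟩) (.one ⟨17132, 2, 3⟩)) (.node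 1 (.one ⟨11892, 0, 2⟩) (.one ⟨8155, 2, 2⟩))))) (.node 8 (.node 4 (.node 2 (.node 1 (.one ⟨3305, 0, 5⟩) (.one ⟨14183, 1, 5⟩)) (.node 1 (.one ⟨11349, 0, 5⟩) (.one ⟨14162, 2, 5⟩))) (.node 2 (.node 1 (.one ⟨15958, 0, 5⟩) (.one ⟨248, 1, 5⟩)) (.node 1 (.one ⟨1139, 2, 2⟩) (.one ⟨13104, 2, 4⟩)))) (.node 4 (.node 2 (.node 1 (.one ⟨4362, 2, 3⟩) (.one ⟨13969, 1, 4⟩)) (.node 1 (.one ⟨1145, 1, 7⟩) (.one ⟨2435, 0, 6⟩))) (.node 2 (.node 1 (.one ⟨8837, 1, 7⟩) (.one ⟨4603, 2, 6⟩)) (.node 1 (.one ⟨2438, 0, 5⟩) (.one ⟨5399, 2, 4⟩)))))))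
def par8_10_4 : Arr Par :=
  (.node 32 (.node 16 (.node 8 (.node 4 (.node 2 (.node 1 (.one ⟨12540, 2, 3⟩) (.one ⟨12050, 2, 3⟩)) (.node 1 (.one ⟨16006, 1, 3⟩) (.one ⟨15659, 1, 5⟩))) (.node 2 (.node 1 (.one ⟨8291, 1, 5⟩) (.one ⟨12146, 2, 4⟩)) (.node 1 (.one ⟨5059, 1, 5⟩) (.one ⟨16986, 1, 4⟩)))) (.node 4 (.node 2 (.node 1 (.one ⟨8459, 1, 5⟩) (.one ⟨2417, 0, 3⟩)) (.node 1 (.one ⟨7393, 1, 5⟩) (.one ⟨3309, 2, 6⟩))) (.node 2 (.node 1 (.one ⟨10053, 1, 2⟩) (.one ⟨5577, 0, 6⟩)) (.node 1 (.one ⟨12402, 1, 6⟩) (.one ⟨16455, 0, 4⟩))))) (.node 8 (.node 4 (.node 2 (.node 1 (.one ⟨309, 2, 6⟩) (.one ⟨16976, 0, 5⟩)) (.node 1 (.one ⟨5704, 1, 6⟩) (.one ⟨16690, 1, 6⟩))) (.node 2 (.node 1 (.one ⟨2659, 0, 5⟩) (.one ⟨8730, 1, 5⟩))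 (.node 1 (.one ⟨1850, 0, 5⟩) (.one ⟨16621, 1, 3⟩)))) (.node 4 (.node 2 (.node 1 (.one ⟨16498, 1, 3⟩) (.one ⟨5457, 2, 4⟩)) (.node 1 (.one ⟨2402, 2, 6⟩) (.one ⟨12063, 1, 6⟩))) (.node 2 (.node 1 (.one ⟨12301, 1, 2⟩) (.one ⟨917, 2, 4⟩)) (.node 1 (.one ⟨4973, 2, 6⟩) (.one ⟨9164, 1, 3⟩)))))) (.node 16 (.node 8 (.node 4 (.node 2 (.node 1 (.one ⟨239, 1, 2⟩) (.one ⟨4683, 1, 4⟩)) (.node 1 (.one ⟨1901, 0, 4⟩) (.one ⟨11379, 1, 7⟩))) (.node 2 (.node 1 (.one ⟨7802, 2, 5⟩) (.one ⟨2615, 0, 4⟩)) (.node 1 (.one ⟨12155, 1, 3⟩) (.one ⟨17188, 0, 5⟩)))) (.node 4 (.node 2 (.node 1 (.one ⟨9347, 1, 4⟩) (.one ⟨14357, 1, 6⟩)) (.node 1 (.one ⟨3343, 0, 5⟩) (.one ⟨5068, 1, 5⟩))) (.node 2 (.node 1 (.one ⟨29, 1, 3⟩) (.one ⟨6277, 0, 5⟩)) (.node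 1 (.one ⟨8428, 1, 6⟩) (.one ⟨9084, 2, 3⟩))))) (.node 8 (.node 4 (.node 2 (.node 1 (.one ⟨12900, 1, 3⟩) (.one ⟨8551, 1, 4⟩)) (.node 1 (.one ⟨3918, 0, 4⟩) (.one ⟨12390, 1, 3⟩))) (.node 2 (.node 1 (.one ⟨10602, 1, 3⟩) (.one ⟨3781, 2, 3⟩)) (.node 1 (.one ⟨16203, 0, 4⟩) (.one ⟨15218, 1, 3⟩)))) (.node 4 (.node 2 (.node 1 (.one ⟨6145, 2, 4⟩) (.one ⟨5717, 1, 2⟩)) (.node 1 (.one ⟨1721, 2, 3⟩) (.one ⟨14010, 2, 5⟩))) (.node 2 (.node 1 (.one ⟨16727, 1, 7⟩) (.one ⟨4712, 1, 3⟩)) (.node 1 (.one ⟨8264, 1, 3⟩) (.one ⟨12574, 1, 3⟩)))))))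
def par8_10_5 : Arr Par :=
  (.node 32 (.node 16 (.node 8 (.node 4 (.node 2 (.node 1 (.one ⟨14150, 2, 5⟩) (.one ⟨8424, 0, 2⟩)) (.node 1 (.one ⟨3501, 2, 4⟩) (.one ⟨4885, 2, 6⟩))) (.node 2 (.node 1 (.one ⟨16265, 2, 6⟩) (.one ⟨11843, 0, 3⟩)) (.node 1 (.one ⟨15482, 1, 7⟩) (.one ⟨16188, 1, 5⟩)))) (.node 4 (.node 2 (.node 1 (.one ⟨4886, 1, 5⟩) (.one ⟨11587, 0, 6⟩)) (.node 1 (.one ⟨2254, 1, 6⟩) (.one ⟨10573, 2, 2⟩))) (.node 2 (.node 1 (.one ⟨10574, 2, 6⟩) (.one ⟨2564, 0, 1⟩)) (.node 1 (.one ⟨12583, 0, 5⟩) (.one ⟨2259, 2, 6⟩))))) (.node 8 (.node 4 (.node 2 (.node 1 (.one ⟨1431, 2, 1⟩) (.one ⟨13788, 2, 6⟩)) (.node 1 (.one ⟨7253, 1, 5⟩) (.one ⟨2587, 0, 5⟩))) (.node 2 (.node 1 (.one ⟨3069, 2, 6⟩) (.one ⟨14895, 2, 2⟩))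 (.node 1 (.one ⟨15557, 2, 3⟩) (.one ⟨6389, 1, 4⟩)))) (.node 4 (.node 2 (.node 1 (.one ⟨305, 1, 3⟩) (.one ⟨10476, 1, 4⟩)) (.node 1 (.one ⟨13697, 1, 3⟩) (.one ⟨9931, 0, 2⟩))) (.node 2 (.node 1 (.one ⟨1045, 2, 4⟩) (.one ⟨4558, 0, 7⟩)) (.node 1 (.one ⟨10430, 1, 6⟩) (.one ⟨9697, 2, 4⟩)))))) (.node 16 (.node 8 (.node 4 (.node 2 (.node 1 (.one ⟨14104, 1, 6⟩) (.one ⟨10545, 1, 5⟩)) (.node 1 (.one ⟨4921, 1, 4⟩) (.one ⟨13224, 1, 4⟩))) (.node 2 (.node 1 (.one ⟨13051, 0, 7⟩) (.one ⟨15447, 0, 4⟩)) (.node 1 (.one ⟨7920, 0, 3⟩) (.one ⟨13447, 2, 3⟩)))) (.node 4 (.node 2 (.node 1 (.one ⟨17069, 1, 3⟩) (.one ⟨15927, 2, 3⟩)) (.node 1 (.one ⟨9047, 2, 2⟩) (.one ⟨9751, 2, 3⟩))) (.node 2 (.node 1 (.one ⟨11597, 1, 4⟩) (.one ⟨13879,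 0, 3⟩)) (.node 1 (.one ⟨9847, 0, 3⟩) (.one ⟨9096, 0, 5⟩))))) (.node 8 (.node 4 (.node 2 (.node 1 (.one ⟨16956, 2, 5⟩) (.one ⟨7693, 2, 6⟩)) (.node 1 (.one ⟨16958, 2, 3⟩) (.one ⟨779, 1, 3⟩))) (.node 2 (.node 1 (.one ⟨7688, 2, 5⟩) (.one ⟨16851, 1, 3⟩)) (.node 1 (.one ⟨7689, 2, 6⟩) (.one ⟨12922, 1, 5⟩)))) (.node 4 (.node 2 (.node 1 (.one ⟨9316, 2, 1⟩) (.one ⟨9600, 1, 4⟩)) (.node 1 (.one ⟨2603, 2, 5⟩) (.one ⟨2286, 1, 4⟩))) (.node 2 (.node 1 (.one ⟨16299, 2, 5⟩) (.one ⟨5195, 1, 4⟩)) (.node 1 (.one ⟨3516, 0, 2⟩) (.one ⟨16953, 1, 5⟩)))))))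
def par8_10_6 : Arr Par :=
  (.node 32 (.node 16 (.node 8 (.node 4 (.node 2 (.node 1 (.one ⟨14757, 0, 4⟩) (.one ⟨1329, 1, 5⟩)) (.node 1 (.one ⟨9311, 2, 1⟩) (.one ⟨4179, 2, 3⟩))) (.node 2 (.node 1 (.one ⟨14192, 0, 4⟩) (.one ⟨17134, 0, 4⟩)) (.node 1 (.one ⟨4822, 2, 4⟩) (.one ⟨2269, 0, 6⟩)))) (.node 4 (.node 2 (.node 1 (.one ⟨12912, 0, 7⟩) (.one ⟨4214, 2, 7⟩)) (.node 1 (.one ⟨7433, 1, 6⟩) (.one ⟨15295, 1, 4⟩))) (.node 2 (.node 1 (.one ⟨8761, 0, 7⟩) (.one ⟨9797, 1, 2⟩)) (.node 1 (.one ⟨16984, 0, 6⟩) (.one ⟨16756, 0, 5⟩))))) (.node 8 (.node 4 (.node 2 (.node 1 (.one ⟨10408, 1, 4⟩) (.one ⟨2712, 1, 3⟩)) (.node 1 (.one ⟨7374, 0, 5⟩) (.one ⟨8188, 2, 6⟩))) (.node 2 (.node 1 (.one ⟨14446, 1, 3⟩) (.one ⟨6494, 1, 4⟩)) (.node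 1 (.one ⟨6212, 0, 4⟩) (.one ⟨15089, 1, 6⟩)))) (.node 4 (.node 2 (.node 1 (.one ⟨1662, 0, 3⟩) (.one ⟨6229, 0, 5⟩)) (.node 1 (.one ⟨4710, 2, 5⟩) (.one ⟨7665, 1, 5⟩))) (.node 2 (.node 1 (.one ⟨4887, 2, 4⟩) (.one ⟨13895, 2, 6⟩)) (.node 1 (.one ⟨10803, 1, 6⟩) (.one ⟨11207, 2, 5⟩)))))) (.node 16 (.node 8 (.node 4 (.node 2 (.node 1 (.one ⟨13681, 1, 3⟩) (.one ⟨17040, 2, 5⟩)) (.node 1 (.one ⟨5028, 1, 5⟩) (.one ⟨3762, 2, 5⟩))) (.node 2 (.node 1 (.one ⟨8293, 1, 6⟩) (.one ⟨4046, 0, 5⟩)) (.node 1 (.one ⟨11186, 1, 6⟩) (.one ⟨17110, 2, 6⟩)))) (.node 4 (.node 2 (.node 1 (.one ⟨12361, 2, 6⟩) (.one ⟨14618, 1, 4⟩)) (.node 1 (.one ⟨14607, 1, 5⟩) (.one ⟨2302, 0, 4⟩))) (.node 2 (.node 1 (.one ⟨8276, 1, 6⟩) (.one ⟨4477, 0, 5⟩)) (.node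 1 (.one ⟨1858, 0, 4⟩) (.one ⟨10709, 1, 4⟩))))) (.node 8 (.node 4 (.node 2 (.node 1 (.one ⟨1800, 2, 5⟩) (.one ⟨686, 0, 4⟩)) (.node 1 (.one ⟨7120, 1, 7⟩) (.one ⟨8492, 0, 2⟩))) (.node 2 (.node 1 (.one ⟨15638, 2, 6⟩) (.one ⟨1850, 1, 5⟩)) (.node 1 (.one ⟨3875, 2, 5⟩) (.one ⟨12319, 2, 2⟩)))) (.node 4 (.node 2 (.node 1 (.one ⟨9301, 1, 2⟩) (.one ⟨12832, 2, 6⟩)) (.node 1 (.one ⟨8101, 2, 2⟩) (.one ⟨15825, 1, 3⟩))) (.node 2 (.node 1 (.one ⟨16105, 2, 3⟩) (.one ⟨4387, 2, 3⟩)) (.node 1 (.one ⟨17042, 2, 5⟩) (.one ⟨2596, 0, 6⟩)))))))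
def par8_10_7 : Arr Par :=
  (.node 32 (.node 16 (.node 8 (.node 4 (.node 2 (.node 1 (.one ⟨10131, 2, 4⟩) (.one ⟨6068, 1, 4⟩)) (.node 1 (.one ⟨3469, 1, 3⟩) (.one ⟨6604, 1, 5⟩))) (.node 2 (.node 1 (.one ⟨2291, 1, 4⟩) (.one ⟨16292, 1, 5⟩)) (.node 1 (.one ⟨3957, 2, 5⟩) (.one ⟨1608, 1, 4⟩)))) (.node 4 (.node 2 (.node 1 (.one ⟨6205, 1, 4⟩) (.one ⟨16489, 1, 6⟩)) (.node 1 (.one ⟨4357, 1, 0⟩) (.one ⟨17046, 1, 6⟩))) (.node 2 (.node 1 (.one ⟨12888, 1, 4⟩) (.one ⟨5449, 2, 3⟩)) (.node 1 (.one ⟨5843, 1, 4⟩) (.one ⟨4123, 0, 6⟩))))) (.node 8 (.node 4 (.node 2 (.node 1 (.one ⟨13312, 1, 5⟩) (.one ⟨15790, 1, 6⟩)) (.node 1 (.one ⟨12337, 1, 6⟩) (.one ⟨979, 1, 5⟩))) (.node 2 (.node 1 (.one ⟨6508, 1, 5⟩) (.one ⟨14428, 0, 3⟩)) (.node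 1 (.one ⟨7366, 1, 5⟩) (.one ⟨10627, 0, 4⟩)))) (.node 4 (.node 2 (.node 1 (.one ⟨12316, 1, 3⟩) (.one ⟨4895, 0, 2⟩)) (.node 1 (.one ⟨10195, 2, 5⟩) (.one ⟨2331, 1, 3⟩))) (.node 2 (.node 1 (.one ⟨6952, 1, 3⟩) (.one ⟨4629, 0, 4⟩)) (.node 1 (.one ⟨1354, 0, 4⟩) (.one ⟨9491, 1, 3⟩)))))) (.node 16 (.node 8 (.node 4 (.node 2 (.node 1 (.one ⟨15625, 2, 6⟩) (.one ⟨15268, 0, 4⟩)) (.node 1 (.one ⟨13091, 1, 3⟩) (.one ⟨8452, 2, 6⟩))) (.node 2 (.node 1 (.one ⟨10772, 0, 4⟩) (.one ⟨8099, 1, 5⟩)) (.node 1 (.one ⟨5491, 1, 3⟩) (.one ⟨9262, 0, 1⟩)))) (.node 4 (.node 2 (.node 1 (.one ⟨15377, 1, 6⟩) (.one ⟨832, 1, 2⟩)) (.node 1 (.one ⟨6356, 0, 5⟩) (.one ⟨7104, 1, 4⟩))) (.node 2 (.node 1 (.one ⟨9729, 1, 5⟩) (.one ⟨9786, 2, 5⟩)) (.node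 1 (.one ⟨16749, 2, 4⟩) (.one ⟨2759, 2, 5⟩))))) (.node 8 (.node 4 (.node 2 (.node 1 (.one ⟨3547, 2, 3⟩) (.one ⟨7509, 1, 6⟩)) (.node 1 (.one ⟨14507, 0, 6⟩) (.one ⟨11998, 1, 2⟩))) (.node 2 (.node 1 (.one ⟨14505, 0, 4⟩) (.one ⟨5430, 1, 2⟩)) (.node 1 (.one ⟨4654, 2, 5⟩) (.one ⟨16879, 1, 5⟩)))) (.node 4 (.node 2 (.node 1 (.one ⟨9189, 1, 2⟩) (.one ⟨8029, 1, 2⟩)) (.node 1 (.one ⟨2293, 0, 4⟩) (.one ⟨11767, 1, 5⟩))) (.node 2 (.node 1 (.one ⟨16818, 2, 5⟩) (.one ⟨5181, 1, 5⟩)) (.node 1 (.one ⟨8857, 2, 4⟩) (.one ⟨1136, 2, 5⟩)))))))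
def par8_10_8 : Arr Par :=
  (.node 32 (.node 16 (.node 8 (.node 4 (.node 2 (.node 1 (.one ⟨15046, 1, 7⟩) (.one ⟨9391, 2, 1⟩)) (.node 1 (.one ⟨38, 2, 2⟩) (.one ⟨1052, 0, 3⟩))) (.node 2 (.node 1 (.one ⟨4494, 1, 4⟩) (.one ⟨8614, 1, 4⟩)) (.node 1 (.one ⟨4670, 1, 4⟩) (.one ⟨4435, 1, 0⟩)))) (.node 4 (.node 2 (.node 1 (.one ⟨14600, 0, 4⟩) (.one ⟨8727, 2, 3⟩)) (.node 1 (.one ⟨14410, 0, 4⟩) (.one ⟨16757, 1, 4⟩))) (.node 2 (.node 1 (.one ⟨5002, 1, 3⟩) (.one ⟨1766, 2, 3⟩)) (.node 1 (.one ⟨2151, 0, 3⟩) (.one ⟨9297, 1, 1⟩))))) (.node 8 (.node 4 (.node 2 (.node 1 (.one ⟨12703, 1, 4⟩) (.one ⟨11899, 2, 6⟩)) (.node 1 (.one ⟨1242, 0, 3⟩) (.one ⟨7841, 1, 2⟩))) (.node 2 (.node 1 (.one ⟨1149, 2, 3⟩) (.one ⟨3964, 2, 6⟩)) (.node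 1 (.one ⟨2434, 2, 5⟩) (.one ⟨6830, 1, 4⟩)))) (.node 4 (.node 2 (.node 1 (.one ⟨645, 2, 3⟩) (.one ⟨226, 1, 2⟩)) (.node 1 (.one ⟨14465, 0, 5⟩) (.one ⟨962, 0, 2⟩))) (.node 2 (.node 1 (.one ⟨14467, 0, 5⟩) (.one ⟨556, 0, 2⟩)) (.node 1 (.one ⟨13844, 2, 4⟩) (.one ⟨12219, 2, 4⟩)))))) (.node 16 (.node 8 (.node 4 (.node 2 (.node 1 (.one ⟨4044, 2, 5⟩) (.one ⟨2285, 0, 5⟩)) (.node 1 (.one ⟨15509, 2, 4⟩) (.one ⟨8304, 1, 5⟩))) (.node 2 (.node 1 (.one ⟨4995, 2, 7⟩) (.one ⟨5795, 2, 7⟩)) (.node 1 (.one ⟨14125, 2, 7⟩) (.one ⟨13515, 2, 1⟩)))) (.node 4 (.node 2 (.node 1 (.one ⟨1062, 0, 4⟩) (.one ⟨13513, 1, 6⟩)) (.node 1 (.one ⟨12925, 1, 3⟩) (.one ⟨14451, 0, 2⟩))) (.node 2 (.node 1 (.one ⟨11193, 2, 5⟩) (.one ⟨3793, 2, 5⟩)) (.node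 1 (.one ⟨222, 1, 2⟩) (.one ⟨15527, 0, 5⟩))))) (.node 8 (.node 4 (.node 2 (.node 1 (.one ⟨10588, 0, 5⟩) (.one ⟨5703, 1, 5⟩)) (.node 1 (.one ⟨16181, 1, 6⟩) (.one ⟨10702, 2, 5⟩))) (.node 2 (.node 1 (.one ⟨14360, 2, 7⟩) (.one ⟨9438, 1, 7⟩)) (.node 1 (.one ⟨3927, 1, 5⟩) (.one ⟨13904, 2, 6⟩)))) (.node 4 (.node 2 (.node 1 (.one ⟨9226, 2, 5⟩) (.one ⟨5863, 2, 6⟩)) (.node 1 (.one ⟨11977, 1, 5⟩) (.one ⟨14116, 2, 6⟩))) (.node 2 (.node 1 (.one ⟨10099, 2, 6⟩) (.one ⟨12195, 1, 5⟩)) (.node 1 (.one ⟨2062, 2, 5⟩) (.one ⟨280, 1, 5⟩)))))))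
def par8_10_9 : Arr Par :=
  (.node 32 (.node 16 (.node 8 (.node 4 (.node 2 (.node 1 (.one ⟨13129, 2, 6⟩) (.one ⟨11310, 1, 4⟩)) (.node 1 (.one ⟨6554, 1, 4⟩) (.one ⟨5964, 2, 5⟩))) (.node 2 (.node 1 (.one ⟨12790, 1, 6⟩) (.one ⟨17134, 1, 4⟩)) (.node 1 (.one ⟨3933, 1, 5⟩) (.one ⟨4235, 1, 6⟩)))) (.node 4 (.node 2 (.node 1 (.one ⟨8431, 1, 6⟩) (.one ⟨4003, 1, 4⟩)) (.node 1 (.one ⟨8554, 1, 5⟩) (.one ⟨7011, 0, 5⟩))) (.node 2 (.node 1 (.one ⟨2826, 0, 5⟩) (.one ⟨13441, 2, 5⟩)) (.node 1 (.one ⟨6028, 2, 5⟩) (.one ⟨901, 2, 2⟩))))) (.node 8 (.node 4 (.node 2 (.node 1 (.one ⟨647, 0, 3⟩) (.one ⟨14654, 1, 5⟩)) (.node 1 (.one ⟨8772, 1, 5⟩) (.one ⟨512, 2, 2⟩))) (.node 2 (.node 1 (.one ⟨6682, 0, 4⟩) (.one ⟨265, 2, 1⟩)) (.node 1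 (.one ⟨301, 2, 4⟩) (.one ⟨5174, 1, 5⟩)))) (.node 4 (.node 2 (.node 1 (.one ⟨9561, 1, 7⟩) (.one ⟨5975, 0, 5⟩)) (.node 1 (.one ⟨8767, 0, 4⟩) (.one ⟨8152, 0, 5⟩))) (.node 2 (.node 1 (.one ⟨1964, 2, 6⟩) (.one ⟨7258, 1, 2⟩)) (.node 1 (.one ⟨2199, 2, 4⟩) (.one ⟨1525, 1, 2⟩)))))) (.node 16 (.node 8 (.node 4 (.node 2 (.node 1 (.one ⟨74, 1, 2⟩) (.one ⟨10756, 2, 5⟩)) (.node 1 (.one ⟨14657, 0, 6⟩) (.one ⟨6832, 0, 5⟩))) (.node 2 (.node 1 (.one ⟨1521, 1, 2⟩) (.one ⟨1526, 1, 5⟩)) (.node 1 (.one ⟨65, 1, 1⟩) (.one ⟨10757, 2, 5⟩)))) (.node 4 (.node 2 (.node 1 (.one ⟨12725, 2, 5⟩) (.one ⟨2812, 0, 4⟩)) (.node 1 (.one ⟨8312, 1, 4⟩) (.one ⟨143, 2, 6⟩))) (.node 2 (.node 1 (.one ⟨14287, 1, 6⟩) (.one ⟨17009, 2, 7⟩)) (.node 1 (.one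 ⟨14042, 2, 6⟩) (.one ⟨263, 2, 5⟩))))) (.node 8 (.node 4 (.node 2 (.node 1 (.one ⟨112, 2, 3⟩) (.one ⟨13888, 0, 2⟩)) (.node 1 (.one ⟨818, 2, 3⟩) (.one ⟨832, 2, 2⟩))) (.node 2 (.node 1 (.one ⟨1723, 1, 5⟩) (.one ⟨70, 2, 1⟩)) (.node 1 (.one ⟨10837, 0, 2⟩) (.one ⟨8004, 2, 5⟩)))) (.node 4 (.node 2 (.node 1 (.one ⟨7112, 2, 6⟩) (.one ⟨5444, 2, 2⟩)) (.node 1 (.one ⟨286, 2, 4⟩) (.one ⟨16075, 1, 4⟩))) (.node 2 (.node 1 (.one ⟨13866, 2, 5⟩) (.one ⟨11739, 2, 5⟩)) (.node 1 (.one ⟨11428, 2, 5⟩) (.one ⟨5715, 2, 6⟩)))))))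
def par8_10_10 : Arr Par :=
  (.node 32 (.node 16 (.node 8 (.node 4 (.node 2 (.node 1 (.one ⟨9947, 2, 6⟩) (.one ⟨1382, 1, 1⟩)) (.node 1 (.one ⟨7025, 0, 1⟩) (.one ⟨151, 1, 2⟩))) (.node 2 (.node 1 (.one ⟨5354, 0, 5⟩) (.one ⟨4282, 1, 4⟩)) (.node 1 (.one ⟨13331, 1, 2⟩) (.one ⟨9255, 1, 2⟩)))) (.node 4 (.node 2 (.node 1 (.one ⟨16012, 0, 5⟩) (.one ⟨38, 1, 2⟩)) (.node 1 (.one ⟨9362, 2, 6⟩) (.one ⟨14675, 0, 6⟩))) (.node 2 (.node 1 (.one ⟨77, 1, 1⟩) (.one ⟨11430, 2, 5⟩)) (.node 1 (.one ⟨5893, 2, 4⟩) (.one ⟨14439, 0, 3⟩))))) (.node 8 (.node 4 (.node 2 (.node 1 (.one ⟨5867, 2, 7⟩) (.one ⟨15994, 1, 4⟩)) (.node 1 (.one ⟨10135, 2, 4⟩) (.one ⟨9174, 1, 4⟩))) (.node 2 (.node 1 (.one ⟨5846, 2, 5⟩) (.one ⟨11595, 0, 4⟩)) (.node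 1 (.one ⟨3965, 1, 3⟩) (.one ⟨8693, 1, 1⟩)))) (.node 4 (.node 2 (.node 1 (.one ⟨4486, 0, 6⟩) (.one ⟨13162, 2, 6⟩)) (.node 1 (.one ⟨13894, 0, 6⟩) (.one ⟨8161, 0, 6⟩))) (.node 2 (.node 1 (.one ⟨14725, 0, 6⟩) (.one ⟨9393, 1, 5⟩)) (.node 1 (.one ⟨7370, 1, 6⟩) (.one ⟨8606, 1, 2⟩)))))) (.node 16 (.node 8 (.node 4 (.node 2 (.node 1 (.one ⟨13497, 1, 5⟩) (.one ⟨14395, 1, 6⟩)) (.node 1 (.one ⟨1442, 1, 5⟩) (.one ⟨7166, 1, 5⟩))) (.node 2 (.node 1 (.one ⟨10100, 0, 3⟩) (.one ⟨16078, 1, 6⟩)) (.node 1 (.one ⟨4328, 0, 5⟩) (.one ⟨98, 0, 5⟩)))) (.node 4 (.node 2 (.node 1 (.one ⟨3888, 1, 7⟩) (.one ⟨15975, 2, 5⟩)) (.node 1 (.one ⟨1693, 1, 2⟩) (.one ⟨4482, 0, 5⟩))) (.node 2 (.node 1 (.one ⟨13969, 2, 4⟩) (.one ⟨710, 2, 6⟩)) (.node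 1 (.one ⟨1507, 2, 4⟩) (.one ⟨3406, 0, 4⟩))))) (.node 8 (.node 4 (.node 2 (.node 1 (.one ⟨11372, 1, 6⟩) (.one ⟨1917, 2, 5⟩)) (.node 1 (.one ⟨13834, 1, 5⟩) (.one ⟨15260, 1, 4⟩))) (.node 2 (.node 1 (.one ⟨3349, 1, 2⟩) (.one ⟨9154, 1, 5⟩)) (.node 1 (.one ⟨4573, 0, 5⟩) (.one ⟨7103, 2, 7⟩)))) (.node 4 (.node 2 (.node 1 (.one ⟨16597, 1, 2⟩) (.one ⟨14406, 0, 6⟩)) (.node 1 (.one ⟨8500, 2, 3⟩) (.one ⟨6684, 0, 6⟩))) (.node 2 (.node 1 (.one ⟨9231, 2, 6⟩) (.one ⟨11404, 0, 7⟩)) (.node 1 (.one ⟨15165, 0, 5⟩) (.one ⟨9854, 1, 6⟩)))))))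
def par8_10_11 : Arr Par :=
  (.node 32 (.node 16 (.node 8 (.node 4 (.node 2 (.node 1 (.one ⟨14037, 2, 6⟩) (.one ⟨11639, 2, 7⟩)) (.node 1 (.one ⟨7914, 1, 4⟩) (.one ⟨13617, 1, 4⟩))) (.node 2 (.node 1 (.one ⟨15109, 2, 6⟩) (.one ⟨12737, 2, 5⟩)) (.node 1 (.one ⟨3811, 1, 6⟩) (.one ⟨10300, 1, 4⟩)))) (.node 4 (.node 2 (.node 1 (.one ⟨11384, 1, 5⟩) (.one ⟨1515, 0, 6⟩)) (.node 1 (.one ⟨14732, 1, 7⟩) (.one ⟨3866, 2, 2⟩))) (.node 2 (.node 1 (.one ⟨14484, 1, 7⟩) (.one ⟨10851, 1, 6⟩)) (.node 1 (.one ⟨9284, 1, 7⟩) (.one ⟨10689, 2, 5⟩))))) (.node 8 (.node 4 (.node 2 (.node 1 (.one ⟨6513, 2, 6⟩) (.one ⟨13407, 1, 5⟩)) (.node 1 (.one ⟨9664, 0, 4⟩) (.one ⟨15348, 2, 6⟩))) (.node 2 (.node 1 (.one ⟨3350, 2, 5⟩) (.one ⟨11978, 1,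 4⟩)) (.node 1 (.one ⟨10835, 0, 3⟩) (.one ⟨1293, 1, 1⟩)))) (.node 4 (.node 2 (.node 1 (.one ⟨3674, 1, 6⟩) (.one ⟨12889, 0, 5⟩)) (.node 1 (.one ⟨2150, 2, 3⟩) (.one ⟨14052, 2, 3⟩))) (.node 2 (.node 1 (.one ⟨7000, 2, 3⟩) (.one ⟨9070, 1, 5⟩)) (.node 1 (.one ⟨7114, 1, 6⟩) (.one ⟨2288, 1, 5⟩)))))) (.node 16 (.node 8 (.node 4 (.node 2 (.node 1 (.one ⟨11555, 1, 2⟩) (.one ⟨13186, 0, 4⟩)) (.node 1 (.one ⟨233, 1, 3⟩) (.one ⟨13981, 2, 6⟩))) (.node 2 (.node 1 (.one ⟨9425, 1, 7⟩) (.one ⟨10394, 1, 2⟩)) (.node 1 (.one ⟨8768, 0, 5⟩) (.one ⟨12929, 1, 2⟩)))) (.node 4 (.node 2 (.node 1 (.one ⟨13846, 0, 4⟩) (.one ⟨10713, 2, 3⟩)) (.node 1 (.one ⟨6586, 0, 3⟩) (.one ⟨6663, 0, 6⟩))) (.node 2 (.node 1 (.one ⟨3548, 2, 7⟩) (.one ⟨17015,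 1, 4⟩)) (.node 1 (.one ⟨10778, 2, 6⟩) (.one ⟨15306, 1, 4⟩))))) (.node 8 (.node 4 (.node 2 (.node 1 (.one ⟨6662, 1, 6⟩) (.one ⟨10412, 1, 7⟩)) (.node 1 (.one ⟨1664, 1, 2⟩) (.one ⟨1294, 1, 7⟩))) (.node 2 (.node 1 (.one ⟨10297, 1, 2⟩) (.one ⟨12798, 0, 6⟩)) (.node 1 (.one ⟨15275, 1, 6⟩) (.one ⟨1906, 2, 5⟩)))) (.node 4 (.node 2 (.node 1 (.one ⟨6643, 0, 1⟩) (.one ⟨10042, 0, 4⟩)) (.node 1 (.one ⟨7259, 1, 4⟩) (.one ⟨1453, 1, 7⟩))) (.node 2 (.node 1 (.one ⟨1763, 2, 6⟩) (.one ⟨8189, 1, 2⟩)) (.node 1 (.one ⟨8879, 0, 5⟩) (.one ⟨6587, 0, 3⟩)))))))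
def par8_10_12 : Arr Par :=
  (.node 32 (.node 16 (.node 8 (.node 4 (.node 2 (.node 1 (.one ⟨12397, 0, 1⟩) (.one ⟨15062, 0, 4⟩)) (.node 1 (.one ⟨10149, 2, 5⟩) (.one ⟨2615, 1, 4⟩))) (.node 2 (.node 1 (.one ⟨10273, 0, 4⟩) (.one ⟨10373, 2, 4⟩)) (.node 1 (.one ⟨3544, 2, 7⟩) (.one ⟨14832, 1, 4⟩)))) (.node 4 (.node 2 (.node 1 (.one ⟨3724, 2, 5⟩) (.one ⟨6756, 1, 4⟩)) (.node 1 (.one ⟨615, 2, 4⟩) (.one ⟨2884, 2, 6⟩))) (.node 2 (.node 1 (.one ⟨12836, 1, 5⟩) (.one ⟨7980, 1, 6⟩)) (.node 1 (.one ⟨15686, 2, 6⟩) (.one ⟨7138, 2, 6⟩))))) (.node 8 (.node 4 (.node 2 (.node 1 (.one ⟨12269, 2, 3⟩) (.one ⟨7107, 2, 7⟩)) (.node 1 (.one ⟨12231, 2, 5⟩) (.one ⟨16604, 2, 6⟩))) (.node 2 (.node 1 (.one ⟨1174, 2, 3⟩) (.one ⟨14451, 1, 2⟩))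 (.node 1 (.one ⟨10085, 1, 4⟩) (.one ⟨13851, 2, 6⟩)))) (.node 4 (.node 2 (.node 1 (.one ⟨6319, 2, 4⟩) (.one ⟨14103, 1, 6⟩)) (.node 1 (.one ⟨11433, 2, 7⟩) (.one ⟨9224, 1, 4⟩))) (.node 2 (.node 1 (.one ⟨14695, 2, 5⟩) (.one ⟨10336, 2, 4⟩)) (.node 1 (.one ⟨527, 2, 6⟩) (.one ⟨10425, 0, 4⟩)))))) (.node 16 (.node 8 (.node 4 (.node 2 (.node 1 (.one ⟨7939, 2, 5⟩) (.one ⟨15019, 2, 4⟩)) (.node 1 (.one ⟨10167, 0, 5⟩) (.one ⟨9577, 2, 6⟩))) (.node 2 (.node 1 (.one ⟨11781, 0, 5⟩) (.one ⟨11969, 0, 4⟩)) (.node 1 (.one ⟨4770, 2, 5⟩) (.one ⟨17098, 1, 1⟩)))) (.node 4 (.node 2 (.node 1 (.one ⟨8866, 1, 2⟩) (.one ⟨9556, 1, 7⟩)) (.node 1 (.one ⟨1859, 1, 6⟩) (.one ⟨6159, 1, 6⟩))) (.node 2 (.node 1 (.one ⟨13897, 1, 6⟩) (.one ⟨10242,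 0, 4⟩)) (.node 1 (.one ⟨13588, 1, 6⟩) (.one ⟨7351, 2, 4⟩))))) (.node 8 (.node 4 (.node 2 (.node 1 (.one ⟨11833, 1, 3⟩) (.one ⟨7369, 2, 7⟩)) (.node 1 (.one ⟨11728, 1, 3⟩) (.one ⟨9170, 2, 6⟩))) (.node 2 (.node 1 (.one ⟨7405, 2, 5⟩) (.one ⟨2432, 1, 3⟩)) (.node 1 (.one ⟨7390, 2, 5⟩) (.one ⟨2834, 1, 6⟩)))) (.node 4 (.node 2 (.node 1 (.one ⟨2682, 1, 7⟩) (.one ⟨10482, 1, 6⟩)) (.node 1 (.one ⟨6482, 2, 5⟩) (.one ⟨13093, 1, 4⟩))) (.node 2 (.node 1 (.one ⟨12032, 1, 4⟩) (.one ⟨4263, 1, 7⟩)) (.node 1 (.one ⟨4587, 1, 4⟩) (.one ⟨7879, 2, 4⟩)))))))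
def par8_10_13 : Arr Par :=
  (.node 32 (.node 16 (.node 8 (.node 4 (.node 2 (.node 1 (.one ⟨11733, 1, 5⟩) (.one ⟨14337, 1, 6⟩)) (.node 1 (.one ⟨9699, 1, 3⟩) (.one ⟨2314, 1, 4⟩))) (.node 2 (.node 1 (.one ⟨5596, 1, 6⟩) (.one ⟨4231, 1, 5⟩)) (.node 1 (.one ⟨7918, 1, 5⟩) (.one ⟨8840, 1, 2⟩)))) (.node 4 (.node 2 (.node 1 (.one ⟨643, 0, 1⟩) (.one ⟨16839, 1, 2⟩)) (.node 1 (.one ⟨8792, 1, 2⟩) (.one ⟨10777, 2, 3⟩))) (.node 2 (.node 1 (.one ⟨10283, 2, 5⟩) (.one ⟨8766, 1, 4⟩)) (.node 1 (.one ⟨6515, 2, 5⟩) (.one ⟨7792, 1, 5⟩))))) (.node 8 (.node 4 (.node 2 (.node 1 (.one ⟨1296, 2, 4⟩) (.one ⟨5189, 2, 5⟩)) (.node 1 (.one ⟨5249, 2, 3⟩) (.one ⟨9184, 1, 6⟩))) (.node 2 (.node 1 (.one ⟨7628, 0, 4⟩) (.one ⟨8755, 1, 4⟩)) (.node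 1 (.one ⟨7218, 2, 4⟩) (.one ⟨15644, 2, 4⟩)))) (.node 4 (.node 2 (.node 1 (.one ⟨11166, 0, 6⟩) (.one ⟨6644, 1, 1⟩)) (.node 1 (.one ⟨12404, 0, 4⟩) (.one ⟨8402, 1, 1⟩))) (.node 2 (.node 1 (.one ⟨5199, 0, 3⟩) (.one ⟨16219, 1, 4⟩)) (.node 1 (.one ⟨15641, 2, 5⟩) (.one ⟨959, 0, 5⟩)))))) (.node 16 (.node 8 (.node 4 (.node 2 (.node 1 (.one ⟨15634, 1, 2⟩) (.one ⟨3264, 1, 4⟩)) (.node 1 (.one ⟨5351, 2, 5⟩) (.one ⟨7338, 1, 2⟩))) (.node 2 (.node 1 (.one ⟨1882, 1, 2⟩) (.one ⟨13881, 1, 2⟩)) (.node 1 (.one ⟨11457, 1, 3⟩) (.one ⟨5348, 1, 6⟩)))) (.node 4 (.node 2 (.node 1 (.one ⟨10093, 1, 7⟩) (.one ⟨412, 1, 7⟩)) (.node 1 (.one ⟨4609, 2, 5⟩) (.one ⟨5287, 2, 5⟩))) (.node 2 (.node 1 (.one ⟨17068, 1, 6⟩) (.one ⟨16780, 2, 6⟩)) (.node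 1 (.one ⟨14160, 1, 4⟩) (.one ⟨5398, 0, 4⟩))))) (.node 8 (.node 4 (.node 2 (.node 1 (.one ⟨7485, 2, 7⟩) (.one ⟨10347, 2, 5⟩)) (.node 1 (.one ⟨16365, 1, 4⟩) (.one ⟨6894, 2, 3⟩))) (.node 2 (.node 1 (.one ⟨12141, 0, 4⟩) (.one ⟨16309, 1, 5⟩)) (.node 1 (.one ⟨16315, 1, 4⟩) (.one ⟨9476, 0, 1⟩)))) (.node 4 (.node 2 (.node 1 (.one ⟨6731, 0, 5⟩) (.one ⟨5565, 0, 1⟩)) (.node 1 (.one ⟨5866, 1, 6⟩) (.one ⟨16446, 0, 5⟩))) (.node 2 (.node 1 (.one ⟨8911, 1, 4⟩) (.one ⟨4605, 0, 4⟩)) (.node 1 (.one ⟨14693, 2, 2⟩) (.one ⟨10387, 0, 5⟩)))))))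
def par8_10_14 : Arr Par :=
  (.node 32 (.node 16 (.node 8 (.node 4 (.node 2 (.node 1 (.one ⟨1986, 1, 4⟩) (.one ⟨16641, 0, 5⟩)) (.node 1 (.one ⟨5940, 1, 3⟩) (.one ⟨1808, 2, 2⟩))) (.node 2 (.node 1 (.one ⟨9291, 2, 1⟩) (.one ⟨9115, 0, 5⟩)) (.node 1 (.one ⟨3777, 0, 5⟩) (.one ⟨5256, 1, 3⟩)))) (.node 4 (.node 2 (.node 1 (.one ⟨3119, 1, 2⟩) (.one ⟨7232, 1, 5⟩)) (.node 1 (.one ⟨8912, 1, 2⟩) (.one ⟨7832, 1, 2⟩))) (.node 2 (.node 1 (.one ⟨4777, 2, 6⟩) (.one ⟨1208, 1, 1⟩)) (.node 1 (.one ⟨11086, 0, 6⟩) (.one ⟨8435, 2, 5⟩))))) (.node 8 (.node 4 (.node 2 (.node 1 (.one ⟨8096, 2, 5⟩) (.one ⟨6958, 1, 6⟩)) (.node 1 (.one ⟨8600, 2, 3⟩) (.one ⟨8656, 0, 3⟩))) (.node 2 (.node 1 (.one ⟨16516, 1, 4⟩) (.one ⟨10955, 0, 3⟩)) (.node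 1 (.one ⟨11124, 1, 5⟩) (.one ⟨95, 0, 4⟩)))) (.node 4 (.node 2 (.node 1 (.one ⟨13271, 0, 4⟩) (.one ⟨5293, 0, 5⟩)) (.node 1 (.one ⟨9445, 0, 5⟩) (.one ⟨1676, 2, 6⟩))) (.node 2 (.node 1 (.one ⟨5075, 2, 5⟩) (.one ⟨4295, 0, 5⟩)) (.node 1 (.one ⟨3816, 2, 5⟩) (.one ⟨7789, 1, 1⟩)))))) (.node 16 (.node 8 (.node 4 (.node 2 (.node 1 (.one ⟨9992, 2, 4⟩) (.one ⟨15845, 1, 3⟩)) (.node 1 (.one ⟨8843, 1, 3⟩) (.one ⟨9995, 2, 3⟩))) (.node 2 (.node 1 (.one ⟨9993, 2, 5⟩) (.one ⟨11420, 1, 3⟩)) (.node 1 (.one ⟨9997, 2, 5⟩) (.one ⟨1317, 0, 5⟩)))) (.node 4 (.node 2 (.node 1 (.one ⟨8539, 0, 5⟩) (.one ⟨15445, 1, 4⟩)) (.node 1 (.one ⟨16421, 0, 4⟩) (.one ⟨11843, 1, 3⟩))) (.node 2 (.node 1 (.one ⟨13541, 1, 1⟩) (.one ⟨3468, 2, 4⟩)) (.node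 1 (.one ⟨12992, 1, 5⟩) (.one ⟨13535, 1, 4⟩))))) (.node 8 (.node 4 (.node 2 (.node 1 (.one ⟨930, 2, 5⟩) (.one ⟨1583, 1, 4⟩)) (.node 1 (.one ⟨8395, 2, 5⟩) (.one ⟨1544, 0, 5⟩))) (.node 2 (.node 1 (.one ⟨4815, 1, 4⟩) (.one ⟨7598, 2, 3⟩)) (.node 1 (.one ⟨6400, 2, 4⟩) (.one ⟨11001, 1, 5⟩)))) (.node 4 (.node 2 (.node 1 (.one ⟨15904, 2, 4⟩) (.one ⟨3916, 0, 4⟩)) (.node 1 (.one ⟨5079, 1, 2⟩) (.one ⟨8731, 1, 3⟩))) (.node 2 (.node 1 (.one ⟨9263, 2, 4⟩) (.one ⟨16390, 2, 4⟩)) (.node 1 (.one ⟨15408, 1, 2⟩) (.one ⟨7863, 1, 5⟩)))))))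
def par8_10_15 : Arr Par :=
  (.node 32 (.node 16 (.node 8 (.node 4 (.node 2 (.node 1 (.one ⟨10197, 1, 4⟩) (.one ⟨2188, 1, 4⟩)) (.node 1 (.one ⟨7573, 2, 3⟩) (.one ⟨15826, 1, 4⟩))) (.node 2 (.node 1 (.one ⟨1005, 1, 5⟩) (.one ⟨9645, 1, 6⟩)) (.node 1 (.one ⟨7816, 1, 6⟩) (.one ⟨8628, 1, 4⟩)))) (.node 4 (.node 2 (.node 1 (.one ⟨6211, 0, 7⟩) (.one ⟨16515, 1, 5⟩)) (.node 1 (.one ⟨10261, 1, 5⟩) (.one ⟨4640, 1, 0⟩))) (.node 2 (.node 1 (.one ⟨10543, 1, 4⟩) (.one ⟨9065, 1, 5⟩)) (.node 1 (.one ⟨2402, 1, 6⟩) (.one ⟨6921, 1, 3⟩))))) (.node 8 (.node 4 (.node 2 (.node 1 (.one ⟨16033, 2, 4⟩) (.one ⟨1163, 1, 6⟩)) (.node 1 (.one ⟨8474, 2, 4⟩) (.one ⟨12149, 2, 5⟩))) (.node 2 (.node 1 (.one ⟨7221, 1, 5⟩) (.one ⟨2561, 1, 5⟩)) (.node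 1 (.one ⟨2557, 1, 5⟩) (.one ⟨2437, 1, 5⟩)))) (.node 4 (.node 2 (.node 1 (.one ⟨14612, 1, 6⟩) (.one ⟨1198, 1, 5⟩)) (.node 1 (.one ⟨9373, 2, 1⟩) (.one ⟨12140, 2, 4⟩))) (.node 2 (.node 1 (.one ⟨16279, 1, 6⟩) (.one ⟨3807, 1, 5⟩)) (.node 1 (.one ⟨15743, 1, 5⟩) (.one ⟨8290, 0, 6⟩)))))) (.node 16 (.node 8 (.node 4 (.node 2 (.node 1 (.one ⟨16570, 0, 4⟩) (.one ⟨4398, 0, 6⟩)) (.node 1 (.one ⟨13054, 0, 7⟩) (.one ⟨6323, 2, 4⟩))) (.node 2 (.node 1 (.one ⟨2613, 1, 4⟩) (.one ⟨4763, 1, 6⟩)) (.node 1 (.one ⟨13185, 1, 6⟩) (.one ⟨1219, 2, 4⟩)))) (.node 4 (.node 2 (.node 1 (.one ⟨8559, 1, 2⟩) (.one ⟨5214, 2, 4⟩)) (.node 1 (.one ⟨15684, 2, 4⟩) (.one ⟨11742, 1, 5⟩))) (.node 2 (.node 1 (.one ⟨554, 2, 3⟩) (.one ⟨15669, 2, 3⟩)) (.node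 1 (.one ⟨15571, 0, 2⟩) (.one ⟨4891, 1, 3⟩))))) (.node 8 (.node 4 (.node 2 (.node 1 (.one ⟨422, 1, 4⟩) (.one ⟨12065, 1, 6⟩)) (.node 1 (.one ⟨11369, 1, 5⟩) (.one ⟨6302, 1, 6⟩))) (.node 2 (.node 1 (.one ⟨8967, 1, 5⟩) (.one ⟨12286, 2, 3⟩)) (.node 1 (.one ⟨6577, 2, 4⟩) (.one ⟨11774, 2, 4⟩)))) (.node 4 (.node 2 (.node 1 (.one ⟨6296, 1, 6⟩) (.one ⟨11494, 1, 3⟩)) (.node 1 (.one ⟨4397, 1, 6⟩) (.one ⟨9401, 1, 5⟩))) (.node 2 (.node 1 (.one ⟨3562, 2, 3⟩) (.one ⟨11638, 2, 4⟩)) (.node 1 (.one ⟨15781, 2, 5⟩) (.one ⟨16030, 0, 7⟩)))))))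
def par8_10 : Arr Par :=
  (.node 512 (.node 256 (.node 128 (.node 64 par8_10_0 par8_10_1) (.node 64 par8_10_2 par8_10_3)) (.node 128 (.node 64 par8_10_4 par8_10_5) (.node 64 par8_10_6 par8_10_7))) (.node 256 (.node 128 (.node 64 par8_10_8 par8_10_9) (.node 64 par8_10_10 par8_10_11)) (.node 128 (.node 64 par8_10_12 par8_10_13) (.node 64 par8_10_14 par8_10_15))))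
def par8_11_0 : Arr Par :=
  (.node 32 (.node 16 (.node 8 (.node 4 (.node 2 (.node 1 (.one ⟨11770, 1, 6⟩) (.one ⟨7614, 2, 6⟩)) (.node 1 (.one ⟨4030, 2, 6⟩) (.one ⟨11393, 1, 6⟩))) (.node 2 (.node 1 (.one ⟨17116, 1, 6⟩) (.one ⟨7339, 1, 3⟩)) (.node 1 (.one ⟨16948, 2, 3⟩) (.one ⟨10081, 1, 2⟩)))) (.node 4 (.node 2 (.node 1 (.one ⟨9657, 2, 6⟩) (.one ⟨4621, 1, 0⟩)) (.node 1 (.one ⟨4409, 1, 0⟩) (.one ⟨15457, 0, 6⟩))) (.node 2 (.node 1 (.one ⟨8657, 1, 4⟩) (.one ⟨12436, 2, 6⟩)) (.node 1 (.one ⟨14479, 1, 4⟩) (.one ⟨6730, 2, 1⟩))))) (.node 8 (.node 4 (.node 2 (.node 1 (.one ⟨3016, 1, 6⟩) (.one ⟨15653, 0, 2⟩)) (.node 1 (.one ⟨15392, 2, 5⟩) (.one ⟨15651, 0, 3⟩))) (.node 2 (.node 1 (.one ⟨4395, 2, 3⟩) (.one ⟨11845, 2, 5⟩))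 (.node 1 (.one ⟨11975, 2, 1⟩) (.one ⟨5957, 1, 2⟩)))) (.node 4 (.node 2 (.node 1 (.one ⟨16019, 1, 6⟩) (.one ⟨14310, 2, 5⟩)) (.node 1 (.one ⟨3193, 0, 3⟩) (.one ⟨5535, 0, 7⟩))) (.node 2 (.node 1 (.one ⟨6428, 0, 5⟩) (.one ⟨15003, 1, 7⟩)) (.node 1 (.one ⟨5684, 2, 4⟩) (.one ⟨12242, 2, 6⟩)))))) (.node 16 (.node 8 (.node 4 (.node 2 (.node 1 (.one ⟨12487, 1, 5⟩) (.one ⟨2366, 2, 4⟩)) (.node 1 (.one ⟨3593, 1, 3⟩) (.one ⟨8241, 1, 5⟩))) (.node 2 (.node 1 (.one ⟨6300, 1, 6⟩) (.one ⟨10911, 2, 3⟩)) (.node 1 (.one ⟨11457, 0, 3⟩) (.one ⟨343, 0, 5⟩)))) (.node 4 (.node 2 (.node 1 (.one ⟨6144, 2, 4⟩) (.one ⟨11345, 1, 2⟩)) (.node 1 (.one ⟨6223, 1, 2⟩) (.one ⟨6298, 1, 2⟩))) (.node 2 (.node 1 (.one ⟨11418, 1, 2⟩) (.one ⟨14786, 1,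 2⟩)) (.node 1 (.one ⟨1162, 1, 3⟩) (.one ⟨11734, 2, 2⟩))))) (.node 8 (.node 4 (.node 2 (.node 1 (.one ⟨10854, 1, 2⟩) (.one ⟨7801, 2, 6⟩)) (.node 1 (.one ⟨4612, 2, 6⟩) (.one ⟨13974, 1, 6⟩))) (.node 2 (.node 1 (.one ⟨6620, 1, 6⟩) (.one ⟨9796, 0, 4⟩)) (.node 1 (.one ⟨15720, 2, 6⟩) (.one ⟨6903, 1, 3⟩)))) (.node 4 (.node 2 (.node 1 (.one ⟨3823, 2, 5⟩) (.one ⟨11911, 2, 6⟩)) (.node 1 (.one ⟨13967, 2, 3⟩) (.one ⟨1878, 1, 5⟩))) (.node 2 (.node 1 (.one ⟨173, 2, 5⟩) (.one ⟨6580, 1, 4⟩)) (.node 1 (.one ⟨13041, 1, 4⟩) (.one ⟨3057, 1, 6⟩)))))))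
def par8_11_1 : Arr Par :=
  (.node 32 (.node 16 (.node 8 (.node 4 (.node 2 (.node 1 (.one ⟨3775, 2, 3⟩) (.one ⟨12858, 0, 6⟩)) (.node 1 (.one ⟨14290, 0, 5⟩) (.one ⟨14530, 2, 4⟩))) (.node 2 (.node 1 (.one ⟨5042, 2, 5⟩) (.one ⟨3778, 1, 5⟩)) (.node 1 (.one ⟨12002, 0, 6⟩) (.one ⟨2452, 0, 4⟩)))) (.node 4 (.node 2 (.node 1 (.one ⟨10707, 2, 6⟩) (.one ⟨4942, 1, 6⟩)) (.node 1 (.one ⟨6745, 1, 2⟩) (.one ⟨16733, 2, 2⟩))) (.node 2 (.node 1 (.one ⟨13446, 2, 6⟩) (.one ⟨3798, 1, 6⟩)) (.node 1 (.one ⟨15938, 0, 7⟩) (.one ⟨11888, 1, 4⟩))))) (.node 8 (.node 4 (.node 2 (.node 1 (.one ⟨11861, 1, 4⟩) (.one ⟨3874, 1, 1⟩)) (.node 1 (.one ⟨3777, 1, 5⟩) (.one ⟨3763, 1, 1⟩))) (.node 2 (.node 1 (.one ⟨3858, 1, 2⟩) (.one ⟨15244, 2, 4⟩))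 (.node 1 (.one ⟨11910, 1, 4⟩) (.one ⟨5825, 1, 1⟩)))) (.node 4 (.node 2 (.node 1 (.one ⟨3331, 0, 4⟩) (.one ⟨11867, 1, 6⟩)) (.node 1 (.one ⟨15978, 1, 5⟩) (.one ⟨5934, 1, 4⟩))) (.node 2 (.node 1 (.one ⟨2652, 0, 4⟩) (.one ⟨188, 2, 2⟩)) (.node 1 (.one ⟨16014, 1, 5⟩) (.one ⟨4504, 1, 0⟩)))))) (.node 16 (.node 8 (.node 4 (.node 2 (.node 1 (.one ⟨7628, 1, 4⟩) (.one ⟨9696, 1, 5⟩)) (.node 1 (.one ⟨3602, 1, 4⟩) (.one ⟨4684, 1, 0⟩))) (.node 2 (.node 1 (.one ⟨10109, 1, 4⟩) (.one ⟨8089, 1, 5⟩)) (.node 1 (.one ⟨14035, 1, 3⟩) (.one ⟨2222, 1, 3⟩)))) (.node 4 (.node 2 (.node 1 (.one ⟨4741, 1, 0⟩) (.one ⟨14365, 2, 4⟩)) (.node 1 (.one ⟨8649, 2, 3⟩) (.one ⟨14183, 0, 5⟩))) (.node 2 (.node 1 (.one ⟨2625, 0, 5⟩) (.one ⟨11612, 1, 3⟩))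 (.node 1 (.one ⟨13523, 2, 5⟩) (.one ⟨4061, 1, 7⟩))))) (.node 8 (.node 4 (.node 2 (.node 1 (.one ⟨11175, 2, 6⟩) (.one ⟨15733, 2, 4⟩)) (.node 1 (.one ⟨10903, 1, 2⟩) (.one ⟨14214, 2, 6⟩))) (.node 2 (.node 1 (.one ⟨2466, 2, 2⟩) (.one ⟨9081, 2, 4⟩)) (.node 1 (.one ⟨10076, 0, 4⟩) (.one ⟨3511, 1, 3⟩)))) (.node 4 (.node 2 (.node 1 (.one ⟨16734, 2, 4⟩) (.one ⟨2703, 1, 4⟩)) (.node 1 (.one ⟨12391, 1, 4⟩) (.one ⟨14508, 2, 3⟩))) (.node 2 (.node 1 (.one ⟨167, 2, 5⟩) (.one ⟨8159, 1, 4⟩)) (.node 1 (.one ⟨14272, 1, 6⟩) (.one ⟨14601, 2, 5⟩)))))))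
def par8_11_2 : Arr Par :=
  (.node 32 (.node 16 (.node 8 (.node 4 (.node 2 (.node 1 (.one ⟨7068, 2, 6⟩) (.one ⟨8643, 2, 5⟩)) (.node 1 (.one ⟨16338, 2, 6⟩) (.one ⟨10930, 2, 6⟩))) (.node 2 (.node 1 (.one ⟨2661, 2, 6⟩) (.one ⟨4478, 2, 6⟩)) (.node 1 (.one ⟨13100, 2, 6⟩) (.one ⟨7784, 0, 4⟩)))) (.node 4 (.node 2 (.node 1 (.one ⟨4091, 1, 5⟩) (.one ⟨11824, 1, 5⟩)) (.node 1 (.one ⟨6288, 2, 7⟩) (.one ⟨17156, 2, 5⟩))) (.node 2 (.node 1 (.one ⟨13078, 2, 6⟩) (.one ⟨6514, 1, 5⟩)) (.node 1 (.one ⟨8033, 1, 6⟩) (.one ⟨14673, 2, 3⟩))))) (.node 8 (.node 4 (.node 2 (.node 1 (.one ⟨2959, 2, 5⟩) (.one ⟨16372, 2, 4⟩)) (.node 1 (.one ⟨3899, 2, 5⟩) (.one ⟨7501, 1, 2⟩))) (.node 2 (.node 1 (.one ⟨3909, 0, 3⟩) (.one ⟨14018, 2, 4⟩)) (.node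 1 (.one ⟨3781, 1, 3⟩) (.one ⟨2243, 0, 4⟩)))) (.node 4 (.node 2 (.node 1 (.one ⟨153, 2, 2⟩) (.one ⟨495, 2, 3⟩)) (.node 1 (.one ⟨606, 2, 1⟩) (.one ⟨6147, 1, 5⟩))) (.node 2 (.node 1 (.one ⟨7338, 0, 2⟩) (.one ⟨293, 2, 1⟩)) (.node 1 (.one ⟨949, 2, 2⟩) (.one ⟨1254, 1, 6⟩)))))) (.node 16 (.node 8 (.node 4 (.node 2 (.node 1 (.one ⟨3380, 1, 6⟩) (.one ⟨9410, 2, 4⟩)) (.node 1 (.one ⟨36, 2, 2⟩) (.one ⟨2846, 2, 5⟩))) (.node 2 (.node 1 (.one ⟨17091, 1, 4⟩) (.one ⟨2861, 2, 3⟩)) (.node 1 (.one ⟨1858, 1, 4⟩) (.one ⟨15631, 1, 5⟩)))) (.node 4 (.node 2 (.node 1 (.one ⟨17117, 1, 6⟩) (.one ⟨17089, 1, 6⟩)) (.node 1 (.one ⟨15628, 1, 3⟩) (.one ⟨17107, 1, 5⟩))) (.node 2 (.node 1 (.one ⟨15641, 1, 5⟩) (.one ⟨3948, 2, 4⟩)) (.node 1 (.one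 ⟨17096, 1, 4⟩) (.one ⟨2105, 2, 5⟩))))) (.node 8 (.node 4 (.node 2 (.node 1 (.one ⟨13744, 1, 5⟩) (.one ⟨10911, 1, 3⟩)) (.node 1 (.one ⟨4069, 2, 4⟩) (.one ⟨8692, 0, 1⟩))) (.node 2 (.node 1 (.one ⟨7457, 1, 5⟩) (.one ⟨11984, 2, 3⟩)) (.node 1 (.one ⟨1305, 2, 4⟩) (.one ⟨16058, 0, 7⟩)))) (.node 4 (.node 2 (.node 1 (.one ⟨11362, 2, 5⟩) (.one ⟨8379, 1, 4⟩)) (.node 1 (.one ⟨15670, 1, 2⟩) (.one ⟨11366, 2, 4⟩))) (.node 2 (.node 1 (.one ⟨11822, 0, 4⟩) (.one ⟨1612, 2, 1⟩)) (.node 1 (.one ⟨11364, 2, 5⟩) (.one ⟨5239, 1, 5⟩)))))))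
def par8_11_3 : Arr Par :=
  (.node 32 (.node 16 (.node 8 (.node 4 (.node 2 (.node 1 (.one ⟨9458, 2, 3⟩) (.one ⟨74, 2, 2⟩)) (.node 1 (.one ⟨15306, 2, 4⟩) (.one ⟨10971, 0, 4⟩))) (.node 2 (.node 1 (.one ⟨2430, 0, 3⟩) (.one ⟨5241, 1, 5⟩)) (.node 1 (.one ⟨856, 1, 3⟩) (.one ⟨16149, 0, 5⟩)))) (.node 4 (.node 2 (.node 1 (.one ⟨10635, 2, 5⟩) (.one ⟨11602, 2, 5⟩)) (.node 1 (.one ⟨6314, 2, 7⟩) (.one ⟨15211, 0, 1⟩))) (.node 2 (.node 1 (.one ⟨14629, 1, 6⟩) (.one ⟨5513, 0, 5⟩)) (.node 1 (.one ⟨9983, 1, 6⟩) (.one ⟨2418, 1, 6⟩))))) (.node 8 (.node 4 (.node 2 (.node 1 (.one ⟨14934, 2, 4⟩) (.one ⟨10497, 1, 4⟩)) (.node 1 (.one ⟨2467, 1, 5⟩) (.one ⟨2383, 1, 6⟩))) (.node 2 (.node 1 (.one ⟨10623, 2, 6⟩) (.one ⟨6401, 2, 4⟩)) (.node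 1 (.one ⟨9206, 2, 5⟩) (.one ⟨17021, 1, 2⟩)))) (.node 4 (.node 2 (.node 1 (.one ⟨4967, 1, 5⟩) (.one ⟨11456, 0, 4⟩)) (.node 1 (.one ⟨10415, 1, 6⟩) (.one ⟨2535, 2, 6⟩))) (.node 2 (.node 1 (.one ⟨16719, 1, 6⟩) (.one ⟨7003, 2, 6⟩)) (.node 1 (.one ⟨6249, 1, 6⟩) (.one ⟨3135, 2, 4⟩)))))) (.node 16 (.node 8 (.node 4 (.node 2 (.node 1 (.one ⟨7643, 2, 5⟩) (.one ⟨16864, 2, 4⟩)) (.node 1 (.one ⟨9467, 2, 5⟩) (.one ⟨11820, 2, 3⟩))) (.node 2 (.node 1 (.one ⟨11453, 0, 2⟩) (.one ⟨6036, 2, 3⟩)) (.node 1 (.one ⟨9920, 0, 2⟩) (.one ⟨213, 2, 5⟩)))) (.node 4 (.node 2 (.node 1 (.one ⟨1080, 1, 3⟩) (.one ⟨17198, 2, 6⟩)) (.node 1 (.one ⟨4348, 1, 6⟩) (.one ⟨16655, 2, 6⟩))) (.node 2 (.node 1 (.one ⟨16295, 2, 2⟩) (.one ⟨2299, 2, 6⟩)) (.node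 1 (.one ⟨9019, 1, 4⟩) (.one ⟨15715, 2, 5⟩))))) (.node 8 (.node 4 (.node 2 (.node 1 (.one ⟨9346, 0, 4⟩) (.one ⟨15712, 2, 5⟩)) (.node 1 (.one ⟨15711, 2, 6⟩) (.one ⟨11634, 1, 4⟩))) (.node 2 (.node 1 (.one ⟨15717, 2, 5⟩) (.one ⟨15713, 2, 6⟩)) (.node 1 (.one ⟨6280, 1, 5⟩) (.one ⟨7487, 2, 5⟩)))) (.node 4 (.node 2 (.node 1 (.one ⟨140, 0, 6⟩) (.one ⟨12437, 2, 6⟩)) (.node 1 (.one ⟨1749, 0, 6⟩) (.one ⟨395, 1, 3⟩))) (.node 2 (.node 1 (.one ⟨7292, 2, 3⟩) (.one ⟨1962, 2, 6⟩)) (.node 1 (.one ⟨16887, 1, 5⟩) (.one ⟨11741, 1, 4⟩)))))))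
def par8_11_4 : Arr Par :=
  (.node 32 (.node 16 (.node 8 (.node 4 (.node 2 (.node 1 (.one ⟨3106, 1, 4⟩) (.one ⟨479, 1, 3⟩)) (.node 1 (.one ⟨9516, 2, 3⟩) (.one ⟨9350, 0, 4⟩))) (.node 2 (.node 1 (.one ⟨11046, 0, 6⟩) (.one ⟨4085, 1, 3⟩)) (.node 1 (.one ⟨11309, 1, 3⟩) (.one ⟨12833, 1, 4⟩)))) (.node 4 (.node 2 (.node 1 (.one ⟨3989, 2, 6⟩) (.one ⟨14520, 1, 4⟩)) (.node 1 (.one ⟨16796, 2, 3⟩) (.one ⟨1941, 2, 6⟩))) (.node 2 (.node 1 (.one ⟨6867, 1, 6⟩) (.one ⟨9099, 1, 4⟩)) (.node 1 (.one ⟨4004, 1, 4⟩) (.one ⟨16994, 2, 5⟩))))) (.node 8 (.node 4 (.node 2 (.node 1 (.one ⟨10357, 1, 5⟩) (.one ⟨10363, 1, 5⟩)) (.node 1 (.one ⟨10403, 1, 4⟩) (.one ⟨9698, 2, 4⟩))) (.node 2 (.node 1 (.one ⟨3887, 1, 4⟩) (.one ⟨3901, 1, 5⟩)) (.node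 1 (.one ⟨3942, 1, 6⟩) (.one ⟨3464, 0, 5⟩)))) (.node 4 (.node 2 (.node 1 (.one ⟨6972, 1, 5⟩) (.one ⟨11363, 0, 1⟩)) (.node 1 (.one ⟨4445, 1, 4⟩) (.one ⟨8897, 1, 6⟩))) (.node 2 (.node 1 (.one ⟨9345, 0, 3⟩) (.one ⟨6142, 0, 5⟩)) (.node 1 (.one ⟨16900, 1, 5⟩) (.one ⟨8367, 1, 3⟩)))))) (.node 16 (.node 8 (.node 4 (.node 2 (.node 1 (.one ⟨101, 0, 5⟩) (.one ⟨7457, 0, 5⟩)) (.node 1 (.one ⟨8368, 1, 2⟩) (.one ⟨9546, 2, 1⟩))) (.node 2 (.node 1 (.one ⟨8370, 1, 6⟩) (.one ⟨8369, 1, 2⟩)) (.node 1 (.one ⟨2537, 0, 4⟩) (.one ⟨9349, 0, 4⟩)))) (.node 4 (.node 2 (.node 1 (.one ⟨9228, 1, 5⟩) (.one ⟨3693, 1, 6⟩)) (.node 1 (.one ⟨9115, 1, 5⟩) (.one ⟨4388, 1, 5⟩))) (.node 2 (.node 1 (.one ⟨8569, 1, 5⟩) (.one ⟨2470, 0, 4⟩)) (.node 1 (.one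 ⟨10355, 1, 5⟩) (.one ⟨235, 0, 2⟩))))) (.node 8 (.node 4 (.node 2 (.node 1 (.one ⟨1208, 2, 1⟩) (.one ⟨5669, 2, 3⟩)) (.node 1 (.one ⟨3607, 2, 5⟩) (.one ⟨2929, 1, 1⟩))) (.node 2 (.node 1 (.one ⟨12310, 1, 5⟩) (.one ⟨12081, 1, 6⟩)) (.node 1 (.one ⟨2788, 1, 5⟩) (.one ⟨16508, 1, 2⟩)))) (.node 4 (.node 2 (.node 1 (.one ⟨10581, 1, 3⟩) (.one ⟨5919, 2, 3⟩)) (.node 1 (.one ⟨13971, 2, 2⟩) (.one ⟨1200, 2, 3⟩))) (.node 2 (.node 1 (.one ⟨9309, 2, 3⟩) (.one ⟨78, 2, 1⟩)) (.node 1 (.one ⟨12996, 1, 4⟩) (.one ⟨282, 1, 2⟩)))))))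
def par8_11_5 : Arr Par :=
  (.node 32 (.node 16 (.node 8 (.node 4 (.node 2 (.node 1 (.one ⟨7996, 0, 4⟩) (.one ⟨10222, 0, 4⟩)) (.node 1 (.one ⟨9359, 2, 1⟩) (.one ⟨5218, 2, 5⟩))) (.node 2 (.node 1 (.one ⟨395, 2, 3⟩) (.one ⟨13389, 1, 5⟩)) (.node 1 (.one ⟨9167, 1, 5⟩) (.one ⟨16546, 1, 6⟩)))) (.node 4 (.node 2 (.node 1 (.one ⟨15364, 2, 5⟩) (.one ⟨12375, 1, 4⟩)) (.node 1 (.one ⟨14757, 1, 4⟩) (.one ⟨15888, 2, 3⟩))) (.node 2 (.node 1 (.one ⟨16919, 2, 3⟩) (.one ⟨15454, 2, 3⟩)) (.node 1 (.one ⟨13661, 2, 4⟩) (.one ⟨1612, 1, 1⟩))))) (.node 8 (.node 4 (.node 2 (.node 1 (.one ⟨4602, 1, 6⟩) (.one ⟨6838, 1, 5⟩)) (.node 1 (.one ⟨3360, 0, 4⟩) (.one ⟨6983, 0, 4⟩))) (.node 2 (.node 1 (.one ⟨2666, 0, 4⟩) (.one ⟨8817, 2, 3⟩)) (.node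 1 (.one ⟨1897, 2, 5⟩) (.one ⟨5840, 2, 4⟩)))) (.node 4 (.node 2 (.node 1 (.one ⟨1505, 2, 3⟩) (.one ⟨13994, 2, 5⟩)) (.node 1 (.one ⟨9303, 2, 4⟩) (.one ⟨2887, 1, 6⟩))) (.node 2 (.node 1 (.one ⟨14279, 0, 2⟩) (.one ⟨14114, 0, 7⟩)) (.node 1 (.one ⟨5786, 2, 4⟩) (.one ⟨5886, 2, 5⟩)))))) (.node 16 (.node 8 (.node 4 (.node 2 (.node 1 (.one ⟨5590, 0, 3⟩) (.one ⟨5884, 2, 5⟩)) (.node 1 (.one ⟨5883, 2, 3⟩) (.one ⟨5881, 2, 6⟩))) (.node 2 (.node 1 (.one ⟨5411, 0, 3⟩) (.one ⟨5879, 2, 5⟩)) (.node 1 (.one ⟨5880, 2, 6⟩) (.one ⟨9834, 1, 6⟩)))) (.node 4 (.node 2 (.node 1 (.one ⟨5160, 1, 2⟩) (.one ⟨8671, 1, 5⟩)) (.node 1 (.one ⟨14634, 1, 4⟩) (.one ⟨4320, 1, 6⟩))) (.node 2 (.node 1 (.one ⟨11107, 1, 3⟩) (.one ⟨15330, 1, 6⟩)) (.node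 1 (.one ⟨7784, 1, 4⟩) (.one ⟨8342, 2, 4⟩))))) (.node 8 (.node 4 (.node 2 (.node 1 (.one ⟨4548, 1, 5⟩) (.one ⟨3749, 0, 2⟩)) (.node 1 (.one ⟨8891, 1, 3⟩) (.one ⟨7818, 1, 6⟩))) (.node 2 (.node 1 (.one ⟨4186, 2, 5⟩) (.one ⟨3932, 1, 5⟩)) (.node 1 (.one ⟨9787, 1, 3⟩) (.one ⟨14656, 1, 6⟩)))) (.node 4 (.node 2 (.node 1 (.one ⟨6635, 1, 6⟩) (.one ⟨14683, 1, 5⟩)) (.node 1 (.one ⟨6577, 1, 4⟩) (.one ⟨6612, 1, 4⟩))) (.node 2 (.node 1 (.one ⟨8150, 2, 5⟩) (.one ⟨6599, 1, 4⟩)) (.node 1 (.one ⟨14693, 1, 2⟩) (.one ⟨9208, 2, 4⟩)))))))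
def par8_11_6 : Arr Par :=
  (.node 32 (.node 16 (.node 8 (.node 4 (.node 2 (.node 1 (.one ⟨4451, 1, 7⟩) (.one ⟨3930, 1, 5⟩)) (.node 1 (.one ⟨5499, 2, 3⟩) (.one ⟨12868, 2, 3⟩))) (.node 2 (.node 1 (.one ⟨8206, 1, 6⟩) (.one ⟨8303, 1, 5⟩)) (.node 1 (.one ⟨2094, 0, 5⟩) (.one ⟨14833, 0, 4⟩)))) (.node 4 (.node 2 (.node 1 (.one ⟨5417, 2, 4⟩) (.one ⟨11381, 0, 5⟩)) (.node 1 (.one ⟨5416, 2, 4⟩) (.one ⟨16076, 0, 4⟩))) (.node 2 (.node 1 (.one ⟨10543, 0, 4⟩) (.one ⟨12491, 0, 4⟩)) (.node 1 (.one ⟨6898, 1, 2⟩) (.one ⟨10626, 0, 2⟩))))) (.node 8 (.node 4 (.node 2 (.node 1 (.one ⟨2073, 2, 6⟩) (.one ⟨6612, 2, 4⟩)) (.node 1 (.one ⟨8469, 1, 6⟩) (.one ⟨16302, 2, 3⟩))) (.node 2 (.node 1 (.one ⟨2279, 0, 4⟩) (.one ⟨6975, 2, 4⟩)) (.node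 1 (.one ⟨13440, 2, 5⟩) (.one ⟨5171, 1, 2⟩)))) (.node 4 (.node 2 (.node 1 (.one ⟨13658, 2, 4⟩) (.one ⟨3125, 1, 4⟩)) (.node 1 (.one ⟨2614, 1, 4⟩) (.one ⟨4211, 2, 5⟩))) (.node 2 (.node 1 (.one ⟨12107, 2, 4⟩) (.one ⟨11683, 1, 4⟩)) (.node 1 (.one ⟨13092, 1, 5⟩) (.one ⟨8785, 2, 5⟩)))))) (.node 16 (.node 8 (.node 4 (.node 2 (.node 1 (.one ⟨16050, 1, 7⟩) (.one ⟨5865, 2, 4⟩)) (.node 1 (.one ⟨5549, 1, 6⟩) (.one ⟨5933, 2, 3⟩))) (.node 2 (.node 1 (.one ⟨15573, 0, 2⟩) (.one ⟨13943, 0, 2⟩)) (.node 1 (.one ⟨272, 2, 3⟩) (.one ⟨2613, 0, 4⟩)))) (.node 4 (.node 2 (.node 1 (.one ⟨1106, 2, 5⟩) (.one ⟨10741, 1, 3⟩)) (.node 1 (.one ⟨7507, 1, 7⟩) (.one ⟨5954, 1, 3⟩))) (.node 2 (.node 1 (.one ⟨11149, 1, 2⟩) (.one ⟨1404, 2, 1⟩)) (.node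 1 (.one ⟨4068, 1, 3⟩) (.one ⟨11132, 2, 5⟩))))) (.node 8 (.node 4 (.node 2 (.node 1 (.one ⟨15272, 1, 3⟩) (.one ⟨13486, 1, 7⟩)) (.node 1 (.one ⟨5409, 1, 6⟩) (.one ⟨8043, 0, 4⟩))) (.node 2 (.node 1 (.one ⟨6843, 1, 4⟩) (.one ⟨12498, 0, 4⟩)) (.node 1 (.one ⟨12742, 1, 3⟩) (.one ⟨10334, 1, 5⟩)))) (.node 4 (.node 2 (.node 1 (.one ⟨14760, 1, 5⟩) (.one ⟨9669, 0, 6⟩)) (.node 1 (.one ⟨1918, 1, 6⟩) (.one ⟨6905, 2, 4⟩))) (.node 2 (.node 1 (.one ⟨13127, 0, 3⟩) (.one ⟨7326, 1, 4⟩)) (.node 1 (.one ⟨16251, 2, 4⟩) (.one ⟨3035, 1, 5⟩)))))))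
def par8_11_7 : Arr Par :=
  (.node 32 (.node 16 (.node 8 (.node 4 (.node 2 (.node 1 (.one ⟨9502, 1, 1⟩) (.one ⟨12346, 1, 6⟩)) (.node 1 (.one ⟨5258, 1, 2⟩) (.one ⟨3626, 1, 4⟩))) (.node 2 (.node 1 (.one ⟨13058, 1, 5⟩) (.one ⟨1070, 0, 4⟩)) (.node 1 (.one ⟨2620, 1, 5⟩) (.one ⟨7438, 1, 5⟩)))) (.node 4 (.node 2 (.node 1 (.one ⟨15074, 1, 2⟩) (.one ⟨2966, 2, 4⟩)) (.node 1 (.one ⟨12704, 2, 4⟩) (.one ⟨15575, 0, 6⟩))) (.node 2 (.node 1 (.one ⟨11011, 2, 5⟩) (.one ⟨834, 2, 5⟩)) (.node 1 (.one ⟨11777, 2, 6⟩) (.one ⟨10951, 2, 5⟩))))) (.node 8 (.node 4 (.node 2 (.node 1 (.one ⟨3515, 0, 2⟩) (.one ⟨16250, 2, 3⟩)) (.node 1 (.one ⟨3907, 2, 4⟩) (.one ⟨3780, 2, 4⟩))) (.node 2 (.node 1 (.one ⟨9069, 1, 5⟩) (.one ⟨7270, 2, 4⟩)) (.node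 1 (.one ⟨2997, 1, 1⟩) (.one ⟨233, 2, 3⟩)))) (.node 4 (.node 2 (.node 1 (.one ⟨14430, 1, 1⟩) (.one ⟨5922, 2, 4⟩)) (.node 1 (.one ⟨8283, 0, 4⟩) (.one ⟨10327, 1, 4⟩))) (.node 2 (.node 1 (.one ⟨11422, 1, 3⟩) (.one ⟨2760, 1, 3⟩)) (.node 1 (.one ⟨998, 1, 4⟩) (.one ⟨17071, 2, 4⟩)))))) (.node 16 (.node 8 (.node 4 (.node 2 (.node 1 (.one ⟨10438, 1, 2⟩) (.one ⟨7909, 0, 4⟩)) (.node 1 (.one ⟨13846, 1, 4⟩) (.one ⟨3670, 0, 2⟩))) (.node 2 (.node 1 (.one ⟨8380, 1, 2⟩) (.one ⟨7947, 1, 3⟩)) (.node 1 (.one ⟨5099, 1, 6⟩) (.one ⟨3404, 1, 5⟩)))) (.node 4 (.node 2 (.node 1 (.one ⟨910, 1, 5⟩) (.one ⟨7717, 2, 6⟩)) (.node 1 (.one ⟨3399, 1, 5⟩) (.one ⟨7092, 0, 7⟩))) (.node 2 (.node 1 (.one ⟨3756, 2, 3⟩) (.one ⟨3406, 1, 4⟩)) (.node 1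 (.one ⟨15719, 2, 4⟩) (.one ⟨11849, 2, 5⟩))))) (.node 8 (.node 4 (.node 2 (.node 1 (.one ⟨6749, 1, 2⟩) (.one ⟨10189, 0, 4⟩)) (.node 1 (.one ⟨6536, 0, 3⟩) (.one ⟨3428, 1, 5⟩))) (.node 2 (.node 1 (.one ⟨4212, 0, 4⟩) (.one ⟨8117, 2, 4⟩)) (.node 1 (.one ⟨16141, 0, 4⟩) (.one ⟨12506, 2, 4⟩)))) (.node 4 (.node 2 (.node 1 (.one ⟨16757, 0, 4⟩) (.one ⟨5363, 1, 5⟩)) (.node 1 (.one ⟨8640, 2, 5⟩) (.one ⟨7962, 1, 3⟩))) (.node 2 (.node 1 (.one ⟨6763, 2, 5⟩) (.one ⟨15154, 1, 6⟩)) (.node 1 (.one ⟨9987, 1, 3⟩) (.one ⟨7098, 2, 3⟩)))))))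
def par8_11_8 : Arr Par :=
  (.node 32 (.node 16 (.node 8 (.node 4 (.node 2 (.node 1 (.one ⟨107, 2, 4⟩) (.one ⟨13549, 1, 5⟩)) (.node 1 (.one ⟨17102, 2, 3⟩) (.one ⟨5642, 2, 4⟩))) (.node 2 (.node 1 (.one ⟨264, 1, 3⟩) (.one ⟨13369, 2, 4⟩)) (.node 1 (.one ⟨15921, 2, 4⟩) (.one ⟨10667, 2, 5⟩)))) (.node 4 (.node 2 (.node 1 (.one ⟨15554, 2, 2⟩) (.one ⟨8466, 1, 6⟩)) (.node 1 (.one ⟨4029, 0, 6⟩) (.one ⟨3240, 1, 4⟩))) (.node 2 (.node 1 (.one ⟨371, 2, 6⟩) (.one ⟨6977, 2, 4⟩)) (.node 1 (.one ⟨2210, 2, 4⟩) (.one ⟨10257, 0, 4⟩))))) (.node 8 (.node 4 (.node 2 (.node 1 (.one ⟨3070, 2, 5⟩) (.one ⟨3914, 0, 6⟩)) (.node 1 (.one ⟨6729, 0, 6⟩) (.one ⟨2553, 0, 5⟩))) (.node 2 (.node 1 (.one ⟨8737, 0, 6⟩) (.one ⟨3100, 1, 5⟩)) (.node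 1 (.one ⟨15788, 1, 2⟩) (.one ⟨29, 2, 3⟩)))) (.node 4 (.node 2 (.node 1 (.one ⟨10182, 2, 3⟩) (.one ⟨5013, 1, 6⟩)) (.node 1 (.one ⟨8724, 2, 3⟩) (.one ⟨10184, 0, 6⟩))) (.node 2 (.node 1 (.one ⟨2092, 0, 6⟩) (.one ⟨2213, 2, 6⟩)) (.node 1 (.one ⟨9542, 2, 5⟩) (.one ⟨14143, 2, 4⟩)))))) (.node 16 (.node 8 (.node 4 (.node 2 (.node 1 (.one ⟨2226, 1, 4⟩) (.one ⟨9498, 1, 4⟩)) (.node 1 (.one ⟨14638, 0, 4⟩) (.one ⟨1979, 2, 4⟩))) (.node 2 (.node 1 (.one ⟨2031, 1, 4⟩) (.one ⟨10690, 1, 4⟩)) (.node 1 (.one ⟨2088, 0, 4⟩) (.one ⟨4047, 1, 5⟩)))) (.node 4 (.node 2 (.node 1 (.one ⟨13962, 2, 4⟩) (.one ⟨4694, 1, 5⟩)) (.node 1 (.one ⟨9276, 2, 5⟩) (.one ⟨3465, 1, 5⟩))) (.node 2 (.node 1 (.one ⟨9673, 0, 2⟩) (.one ⟨1916, 1, 3⟩)) (.node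 1 (.one ⟨15613, 2, 3⟩) (.one ⟨13105, 2, 5⟩))))) (.node 8 (.node 4 (.node 2 (.node 1 (.one ⟨12888, 0, 4⟩) (.one ⟨3541, 2, 5⟩)) (.node 1 (.one ⟨9869, 2, 5⟩) (.one ⟨15560, 1, 5⟩))) (.node 2 (.node 1 (.one ⟨7737, 0, 4⟩) (.one ⟨7823, 2, 5⟩)) (.node 1 (.one ⟨10659, 1, 6⟩) (.one ⟨7649, 2, 5⟩)))) (.node 4 (.node 2 (.node 1 (.one ⟨6505, 0, 3⟩) (.one ⟨7380, 0, 2⟩)) (.node 1 (.one ⟨7648, 2, 6⟩) (.one ⟨1435, 0, 6⟩))) (.node 2 (.node 1 (.one ⟨13561, 1, 5⟩) (.one ⟨12477, 0, 4⟩)) (.node 1 (.one ⟨17049, 2, 5⟩) (.one ⟨17177, 1, 2⟩)))))))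
def par8_11_9 : Arr Par :=
  (.node 32 (.node 16 (.node 8 (.node 4 (.node 2 (.node 1 (.one ⟨5609, 1, 5⟩) (.one ⟨16923, 1, 5⟩)) (.node 1 (.one ⟨11876, 0, 4⟩) (.one ⟨9183, 2, 2⟩))) (.node 2 (.node 1 (.one ⟨4846, 2, 2⟩) (.one ⟨10034, 1, 4⟩)) (.node 1 (.one ⟨4063, 2, 3⟩) (.one ⟨6982, 1, 5⟩)))) (.node 4 (.node 2 (.node 1 (.one ⟨5926, 0, 3⟩) (.one ⟨1650, 1, 4⟩)) (.node 1 (.one ⟨2052, 1, 4⟩) (.one ⟨2485, 2, 4⟩))) (.node 2 (.node 1 (.one ⟨11974, 2, 2⟩) (.one ⟨797, 1, 3⟩)) (.node 1 (.one ⟨15997, 0, 3⟩) (.one ⟨14807, 0, 1⟩))))) (.node 8 (.node 4 (.node 2 (.node 1 (.one ⟨5062, 1, 5⟩) (.one ⟨9653, 2, 4⟩)) (.node 1 (.one ⟨3669, 0, 3⟩) (.one ⟨12717, 2, 5⟩))) (.node 2 (.node 1 (.one ⟨9389, 2, 4⟩) (.one ⟨4630, 0, 3⟩)) (.node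 1 (.one ⟨10338, 2, 5⟩) (.one ⟨1426, 1, 5⟩)))) (.node 4 (.node 2 (.node 1 (.one ⟨2263, 0, 3⟩) (.one ⟨1436, 0, 5⟩)) (.node 1 (.one ⟨16627, 0, 4⟩) (.one ⟨16190, 0, 5⟩))) (.node 2 (.node 1 (.one ⟨1497, 2, 1⟩) (.one ⟨13207, 1, 5⟩)) (.node 1 (.one ⟨8305, 1, 1⟩) (.one ⟨12092, 1, 5⟩)))))) (.node 16 (.node 8 (.node 4 (.node 2 (.node 1 (.one ⟨9440, 1, 5⟩) (.one ⟨13454, 1, 4⟩)) (.node 1 (.one ⟨898, 2, 3⟩) (.one ⟨14712, 1, 3⟩))) (.node 2 (.node 1 (.one ⟨13134, 2, 3⟩) (.one ⟨4026, 0, 6⟩)) (.node 1 (.one ⟨1502, 2, 1⟩) (.one ⟨13930, 0, 5⟩)))) (.node 4 (.node 2 (.node 1 (.one ⟨3467, 2, 5⟩) (.one ⟨9228, 0, 5⟩)) (.node 1 (.one ⟨5614, 2, 6⟩) (.one ⟨7899, 0, 4⟩))) (.node 2 (.node 1 (.one ⟨562, 1, 3⟩) (.one ⟨3763, 0, 1⟩)) (.node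 1 (.one ⟨7186, 1, 6⟩) (.one ⟨4256, 0, 4⟩))))) (.node 8 (.node 4 (.node 2 (.node 1 (.one ⟨9388, 2, 3⟩) (.one ⟨10383, 2, 2⟩)) (.node 1 (.one ⟨9373, 0, 1⟩) (.one ⟨9193, 2, 2⟩))) (.node 2 (.node 1 (.one ⟨81, 2, 1⟩) (.one ⟨11963, 1, 2⟩)) (.node 1 (.one ⟨14933, 1, 4⟩) (.one ⟨12313, 1, 4⟩)))) (.node 4 (.node 2 (.node 1 (.one ⟨15359, 2, 3⟩) (.one ⟨1015, 0, 2⟩)) (.node 1 (.one ⟨11928, 0, 4⟩) (.one ⟨11931, 0, 5⟩))) (.node 2 (.node 1 (.one ⟨457, 0, 3⟩) (.one ⟨11929, 0, 5⟩)) (.node 1 (.one ⟨708, 0, 3⟩) (.one ⟨6754, 0, 5⟩)))))))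
def par8_11_10 : Arr Par :=
  (.node 32 (.node 16 (.node 8 (.node 4 (.node 2 (.node 1 (.one ⟨5051, 2, 5⟩) (.one ⟨5048, 2, 5⟩)) (.node 1 (.one ⟨6502, 1, 3⟩) (.one ⟨5054, 2, 5⟩))) (.node 2 (.node 1 (.one ⟨1937, 0, 3⟩) (.one ⟨5052, 2, 6⟩)) (.node 1 (.one ⟨5049, 2, 3⟩) (.one ⟨11181, 0, 5⟩)))) (.node 4 (.node 2 (.node 1 (.one ⟨11352, 2, 5⟩) (.one ⟨3371, 2, 2⟩)) (.node 1 (.one ⟨3339, 2, 7⟩) (.one ⟨9447, 2, 6⟩))) (.node 2 (.node 1 (.one ⟨8583, 0, 2⟩) (.one ⟨1197, 2, 6⟩)) (.node 1 (.one ⟨12050, 1, 3⟩) (.one ⟨4414, 2, 3⟩))))) (.node 8 (.node 4 (.node 2 (.node 1 (.one ⟨14293, 1, 5⟩) (.one ⟨12352, 2, 5⟩)) (.node 1 (.one ⟨4717, 1, 3⟩) (.one ⟨14980, 1, 3⟩))) (.node 2 (.node 1 (.one ⟨5077, 2, 5⟩) (.one ⟨4379, 1, 5⟩)) (.node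 1 (.one ⟨14974, 1, 3⟩) (.one ⟨12863, 2, 4⟩)))) (.node 4 (.node 2 (.node 1 (.one ⟨3692, 2, 3⟩) (.one ⟨4084, 2, 4⟩)) (.node 1 (.one ⟨13383, 2, 5⟩) (.one ⟨4365, 2, 4⟩))) (.node 2 (.node 1 (.one ⟨13231, 2, 5⟩) (.one ⟨11685, 1, 3⟩)) (.node 1 (.one ⟨11896, 0, 4⟩) (.one ⟨3510, 2, 5⟩)))))) (.node 16 (.node 8 (.node 4 (.node 2 (.node 1 (.one ⟨3928, 2, 2⟩) (.one ⟨12714, 0, 5⟩)) (.node 1 (.one ⟨1024, 1, 6⟩) (.one ⟨1374, 2, 1⟩))) (.node 2 (.node 1 (.one ⟨2376, 2, 5⟩) (.one ⟨15708, 2, 5⟩)) (.node 1 (.one ⟨9521, 0, 5⟩) (.one ⟨6403, 0, 4⟩)))) (.node 4 (.node 2 (.node 1 (.one ⟨2568, 1, 2⟩) (.one ⟨16846, 2, 5⟩)) (.node 1 (.one ⟨12213, 1, 4⟩) (.one ⟨7394, 2, 6⟩))) (.node 2 (.node 1 (.one ⟨10573, 1, 2⟩) (.one ⟨12326, 1, 4⟩))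 (.node 1 (.one ⟨4211, 1, 5⟩) (.one ⟨8015, 0, 5⟩))))) (.node 8 (.node 4 (.node 2 (.node 1 (.one ⟨15220, 1, 6⟩) (.one ⟨13082, 1, 7⟩)) (.node 1 (.one ⟨7740, 1, 4⟩) (.one ⟨5676, 1, 6⟩))) (.node 2 (.node 1 (.one ⟨11090, 1, 4⟩) (.one ⟨17030, 1, 4⟩)) (.node 1 (.one ⟨4265, 1, 6⟩) (.one ⟨1167, 0, 5⟩)))) (.node 4 (.node 2 (.node 1 (.one ⟨6546, 1, 6⟩) (.one ⟨3025, 2, 3⟩)) (.node 1 (.one ⟨15105, 1, 5⟩) (.one ⟨3956, 0, 1⟩))) (.node 2 (.node 1 (.one ⟨15378, 1, 6⟩) (.one ⟨1091, 2, 5⟩)) (.node 1 (.one ⟨5826, 1, 5⟩) (.one ⟨12014, 0, 7⟩)))))))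
def par8_11_11 : Arr Par :=
  (.node 32 (.node 16 (.node 8 (.node 4 (.node 2 (.node 1 (.one ⟨16868, 0, 4⟩) (.one ⟨12673, 2, 3⟩)) (.node 1 (.one ⟨16631, 2, 4⟩) (.one ⟨17035, 2, 3⟩))) (.node 2 (.node 1 (.one ⟨13574, 2, 4⟩) (.one ⟨15793, 2, 4⟩)) (.node 1 (.one ⟨265, 1, 1⟩) (.one ⟨4748, 1, 0⟩)))) (.node 4 (.node 2 (.node 1 (.one ⟨5913, 2, 4⟩) (.one ⟨8658, 1, 4⟩)) (.node 1 (.one ⟨1072, 1, 3⟩) (.one ⟨2401, 1, 5⟩))) (.node 2 (.node 1 (.one ⟨4220, 1, 0⟩) (.one ⟨5736, 1, 5⟩)) (.node 1 (.one ⟨4965, 1, 5⟩) (.one ⟨7257, 0, 3⟩))))) (.node 8 (.node 4 (.node 2 (.node 1 (.one ⟨16506, 0, 2⟩) (.one ⟨12064, 0, 4⟩)) (.node 1 (.one ⟨5076, 2, 4⟩) (.one ⟨15829, 1, 4⟩))) (.node 2 (.node 1 (.one ⟨16034, 1, 4⟩) (.one ⟨12669, 2, 4⟩))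 (.node 1 (.one ⟨14500, 1, 5⟩) (.one ⟨5943, 2, 1⟩)))) (.node 4 (.node 2 (.node 1 (.one ⟨1372, 2, 2⟩) (.one ⟨16090, 0, 4⟩)) (.node 1 (.one ⟨14060, 2, 3⟩) (.one ⟨14075, 2, 3⟩))) (.node 2 (.node 1 (.one ⟨9190, 2, 3⟩) (.one ⟨14331, 1, 5⟩)) (.node 1 (.one ⟨1493, 0, 1⟩) (.one ⟨16383, 2, 5⟩)))))) (.node 16 (.node 8 (.node 4 (.node 2 (.node 1 (.one ⟨10295, 2, 3⟩) (.one ⟨15551, 2, 5⟩)) (.node 1 (.one ⟨13175, 2, 5⟩) (.one ⟨634, 2, 5⟩))) (.node 2 (.node 1 (.one ⟨7915, 2, 4⟩) (.one ⟨4675, 2, 3⟩)) (.node 1 (.one ⟨6891, 2, 4⟩) (.one ⟨334, 2, 6⟩)))) (.node 4 (.node 2 (.node 1 (.one ⟨12841, 2, 4⟩) (.one ⟨12809, 2, 5⟩)) (.node 1 (.one ⟨1506, 2, 6⟩) (.one ⟨16381, 0, 4⟩))) (.node 2 (.node 1 (.one ⟨12598, 2, 6⟩) (.one ⟨14790, 1,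 4⟩)) (.node 1 (.one ⟨1646, 2, 6⟩) (.one ⟨10327, 0, 4⟩))))) (.node 8 (.node 4 (.node 2 (.node 1 (.one ⟨2201, 2, 6⟩) (.one ⟨12514, 2, 6⟩)) (.node 1 (.one ⟨1651, 1, 5⟩) (.one ⟨4110, 1, 5⟩))) (.node 2 (.node 1 (.one ⟨6552, 1, 6⟩) (.one ⟨7601, 1, 5⟩)) (.node 1 (.one ⟨1990, 1, 6⟩) (.one ⟨12923, 1, 5⟩)))) (.node 4 (.node 2 (.node 1 (.one ⟨9620, 0, 7⟩) (.one ⟨3206, 2, 3⟩)) (.node 1 (.one ⟨4847, 1, 2⟩) (.one ⟨6425, 0, 4⟩))) (.node 2 (.node 1 (.one ⟨15580, 2, 6⟩) (.one ⟨10598, 1, 4⟩)) (.node 1 (.one ⟨10651, 2, 6⟩) (.one ⟨8143, 2, 4⟩)))))))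
def par8_11_12 : Arr Par :=
  (.node 32 (.node 16 (.node 8 (.node 4 (.node 2 (.node 1 (.one ⟨760, 1, 3⟩) (.one ⟨4902, 2, 2⟩)) (.node 1 (.one ⟨15969, 0, 5⟩) (.one ⟨8499, 2, 1⟩))) (.node 2 (.node 1 (.one ⟨7256, 2, 5⟩) (.one ⟨4313, 2, 5⟩)) (.node 1 (.one ⟨2262, 0, 5⟩) (.one ⟨3997, 0, 7⟩)))) (.node 4 (.node 2 (.node 1 (.one ⟨3197, 0, 2⟩) (.one ⟨386, 1, 3⟩)) (.node 1 (.one ⟨9845, 1, 5⟩) (.one ⟨2927, 2, 1⟩))) (.node 2 (.node 1 (.one ⟨13235, 2, 2⟩) (.one ⟨15210, 1, 6⟩)) (.node 1 (.one ⟨4509, 2, 5⟩) (.one ⟨11094, 1, 5⟩))))) (.node 8 (.node 4 (.node 2 (.node 1 (.one ⟨2491, 2, 6⟩) (.one ⟨9341, 1, 4⟩)) (.node 1 (.one ⟨5957, 0, 2⟩) (.one ⟨11802, 1, 4⟩))) (.node 2 (.node 1 (.one ⟨9372, 2, 6⟩) (.one ⟨3640, 2, 6⟩)) (.node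 1 (.one ⟨2121, 2, 4⟩) (.one ⟨5483, 1, 2⟩)))) (.node 4 (.node 2 (.node 1 (.one ⟨13056, 1, 3⟩) (.one ⟨4534, 1, 0⟩)) (.node 1 (.one ⟨14437, 1, 2⟩) (.one ⟨711, 0, 4⟩))) (.node 2 (.node 1 (.one ⟨12787, 2, 5⟩) (.one ⟨11646, 2, 3⟩)) (.node 1 (.one ⟨3843, 1, 6⟩) (.one ⟨4663, 2, 5⟩)))))) (.node 16 (.node 8 (.node 4 (.node 2 (.node 1 (.one ⟨9161, 2, 3⟩) (.one ⟨12490, 0, 5⟩)) (.node 1 (.one ⟨9626, 0, 5⟩) (.one ⟨16392, 1, 6⟩))) (.node 2 (.node 1 (.one ⟨3202, 2, 6⟩) (.one ⟨14697, 1, 2⟩)) (.node 1 (.one ⟨3952, 0, 3⟩) (.one ⟨4980, 1, 5⟩)))) (.node 4 (.node 2 (.node 1 (.one ⟨631, 0, 5⟩) (.one ⟨6579, 2, 2⟩)) (.node 1 (.one ⟨6643, 2, 1⟩) (.one ⟨349, 0, 4⟩))) (.node 2 (.node 1 (.one ⟨2830, 2, 5⟩) (.one ⟨16388, 0, 4⟩)) (.node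 1 (.one ⟨475, 2, 4⟩) (.one ⟨14423, 0, 1⟩))))) (.node 8 (.node 4 (.node 2 (.node 1 (.one ⟨5259, 2, 3⟩) (.one ⟨10718, 2, 5⟩)) (.node 1 (.one ⟨10461, 1, 6⟩) (.one ⟨6549, 2, 6⟩))) (.node 2 (.node 1 (.one ⟨6665, 0, 7⟩) (.one ⟨6040, 2, 5⟩)) (.node 1 (.one ⟨15758, 0, 3⟩) (.one ⟨13903, 0, 6⟩)))) (.node 4 (.node 2 (.node 1 (.one ⟨9116, 0, 5⟩) (.one ⟨9994, 0, 5⟩)) (.node 1 (.one ⟨5239, 0, 5⟩) (.one ⟨1156, 2, 5⟩))) (.node 2 (.node 1 (.one ⟨7572, 2, 4⟩) (.one ⟨8372, 2, 4⟩)) (.node 1 (.one ⟨12222, 0, 3⟩) (.one ⟨742, 1, 5⟩)))))))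
def par8_11_13 : Arr Par :=
  (.node 32 (.node 16 (.node 8 (.node 4 (.node 2 (.node 1 (.one ⟨15764, 1, 6⟩) (.one ⟨9864, 1, 7⟩)) (.node 1 (.one ⟨3774, 2, 4⟩) (.one ⟨3768, 2, 5⟩))) (.node 2 (.node 1 (.one ⟨3767, 2, 2⟩) (.one ⟨8013, 1, 5⟩)) (.node 1 (.one ⟨3770, 2, 4⟩) (.one ⟨16535, 2, 5⟩)))) (.node 4 (.node 2 (.node 1 (.one ⟨11885, 2, 2⟩) (.one ⟨15131, 2, 3⟩)) (.node 1 (.one ⟨9336, 2, 3⟩) (.one ⟨12184, 1, 3⟩))) (.node 2 (.node 1 (.one ⟨6714, 1, 5⟩) (.one ⟨2802, 1, 5⟩)) (.node 1 (.one ⟨16223, 1, 5⟩) (.one ⟨15189, 1, 4⟩))))) (.node 8 (.node 4 (.node 2 (.node 1 (.one ⟨6146, 2, 5⟩) (.one ⟨13289, 2, 5⟩)) (.node 1 (.one ⟨5503, 2, 4⟩) (.one ⟨12920, 1, 2⟩))) (.node 2 (.node 1 (.one ⟨7672, 1, 3⟩) (.one ⟨5171, 0, 2⟩))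 (.node 1 (.one ⟨11892, 1, 2⟩) (.one ⟨846, 1, 6⟩)))) (.node 4 (.node 2 (.node 1 (.one ⟨5329, 0, 7⟩) (.one ⟨15558, 1, 3⟩)) (.node 1 (.one ⟨1187, 2, 1⟩) (.one ⟨11891, 1, 3⟩))) (.node 2 (.node 1 (.one ⟨6737, 1, 6⟩) (.one ⟨2665, 2, 4⟩)) (.node 1 (.one ⟨16708, 2, 5⟩) (.one ⟨4976, 1, 1⟩)))))) (.node 16 (.node 8 (.node 4 (.node 2 (.node 1 (.one ⟨4843, 1, 0⟩) (.one ⟨5872, 1, 5⟩)) (.node 1 (.one ⟨4371, 1, 0⟩) (.one ⟨6203, 1, 4⟩))) (.node 2 (.node 1 (.one ⟨10104, 1, 4⟩) (.one ⟨5459, 1, 4⟩)) (.node 1 (.one ⟨16431, 1, 5⟩) (.one ⟨4590, 1, 0⟩)))) (.node 4 (.node 2 (.node 1 (.one ⟨10527, 2, 4⟩) (.one ⟨13562, 2, 5⟩)) (.node 1 (.one ⟨16730, 1, 2⟩) (.one ⟨11980, 0, 1⟩))) (.node 2 (.node 1 (.one ⟨10110, 1, 3⟩) (.one ⟨12390, 2,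 3⟩)) (.node 1 (.one ⟨12093, 1, 5⟩) (.one ⟨7675, 1, 4⟩))))) (.node 8 (.node 4 (.node 2 (.node 1 (.one ⟨6862, 2, 5⟩) (.one ⟨8895, 1, 6⟩)) (.node 1 (.one ⟨11416, 1, 3⟩) (.one ⟨6077, 2, 5⟩))) (.node 2 (.node 1 (.one ⟨3512, 1, 3⟩) (.one ⟨13691, 0, 4⟩)) (.node 1 (.one ⟨11925, 2, 6⟩) (.one ⟨16624, 1, 6⟩)))) (.node 4 (.node 2 (.node 1 (.one ⟨14751, 1, 6⟩) (.one ⟨4882, 1, 6⟩)) (.node 1 (.one ⟨3089, 1, 5⟩) (.one ⟨11008, 1, 2⟩))) (.node 2 (.node 1 (.one ⟨4048, 0, 1⟩) (.one ⟨4627, 2, 6⟩)) (.node 1 (.one ⟨11807, 0, 5⟩) (.one ⟨10649, 2, 6⟩)))))))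
def par8_11_14 : Arr Par :=
  (.node 32 (.node 16 (.node 8 (.node 4 (.node 2 (.node 1 (.one ⟨16257, 1, 5⟩) (.one ⟨8707, 1, 7⟩)) (.node 1 (.one ⟨5502, 2, 3⟩) (.one ⟨12867, 2, 3⟩))) (.node 2 (.node 1 (.one ⟨4944, 1, 5⟩) (.one ⟨4217, 0, 6⟩)) (.node 1 (.one ⟨12053, 1, 7⟩) (.one ⟨10313, 2, 5⟩)))) (.node 4 (.node 2 (.node 1 (.one ⟨9180, 2, 1⟩) (.one ⟨3526, 1, 4⟩)) (.node 1 (.one ⟨4983, 2, 5⟩) (.one ⟨14639, 2, 5⟩))) (.node 2 (.node 1 (.one ⟨11599, 1, 2⟩) (.one ⟨7877, 2, 2⟩)) (.node 1 (.one ⟨8320, 2, 5⟩) (.one ⟨3938, 2, 5⟩))))) (.node 8 (.node 4 (.node 2 (.node 1 (.one ⟨6646, 0, 4⟩) (.one ⟨7701, 0, 2⟩)) (.node 1 (.one ⟨9801, 1, 4⟩) (.one ⟨5601, 1, 5⟩))) (.node 2 (.node 1 (.one ⟨5219, 2, 5⟩) (.one ⟨11008, 2, 2⟩)) (.node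 1 (.one ⟨13982, 1, 4⟩) (.one ⟨8183, 0, 5⟩)))) (.node 4 (.node 2 (.node 1 (.one ⟨6618, 2, 2⟩) (.one ⟨1194, 2, 5⟩)) (.node 1 (.one ⟨9803, 1, 4⟩) (.one ⟨13297, 0, 4⟩))) (.node 2 (.node 1 (.one ⟨14688, 2, 4⟩) (.one ⟨1879, 0, 2⟩)) (.node 1 (.one ⟨85, 2, 6⟩) (.one ⟨13973, 2, 2⟩)))))) (.node 16 (.node 8 (.node 4 (.node 2 (.node 1 (.one ⟨5874, 2, 6⟩) (.one ⟨579, 2, 4⟩)) (.node 1 (.one ⟨1062, 1, 4⟩) (.one ⟨350, 0, 4⟩))) (.node 2 (.node 1 (.one ⟨1297, 2, 2⟩) (.one ⟨1844, 1, 2⟩)) (.node 1 (.one ⟨1840, 1, 4⟩) (.one ⟨873, 1, 6⟩)))) (.node 4 (.node 2 (.node 1 (.one ⟨2065, 2, 5⟩) (.one ⟨2818, 0, 5⟩)) (.node 1 (.one ⟨5877, 2, 6⟩) (.one ⟨14228, 1, 3⟩))) (.node 2 (.node 1 (.one ⟨874, 1, 4⟩) (.one ⟨1869, 0, 5⟩)) (.node 1 (.one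 ⟨3889, 2, 5⟩) (.one ⟨16566, 0, 6⟩))))) (.node 8 (.node 4 (.node 2 (.node 1 (.one ⟨6707, 2, 6⟩) (.one ⟨15222, 2, 3⟩)) (.node 1 (.one ⟨7106, 2, 3⟩) (.one ⟨510, 2, 6⟩))) (.node 2 (.node 1 (.one ⟨5399, 1, 4⟩) (.one ⟨6476, 1, 3⟩)) (.node 1 (.one ⟨16571, 1, 5⟩) (.one ⟨10759, 2, 1⟩)))) (.node 4 (.node 2 (.node 1 (.one ⟨9487, 2, 3⟩) (.one ⟨4918, 1, 5⟩)) (.node 1 (.one ⟨10744, 2, 3⟩) (.one ⟨15423, 0, 3⟩))) (.node 2 (.node 1 (.one ⟨9297, 2, 1⟩) (.one ⟨9189, 2, 2⟩)) (.node 1 (.one ⟨10767, 2, 2⟩) (.one ⟨8449, 1, 5⟩)))))))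
def par8_11_15 : Arr Par :=
  (.node 32 (.node 16 (.node 8 (.node 4 (.node 2 (.node 1 (.one ⟨2465, 1, 6⟩) (.one ⟨8986, 1, 5⟩)) (.node 1 (.one ⟨494, 1, 6⟩) (.one ⟨15183, 1, 6⟩))) (.node 2 (.node 1 (.one ⟨11688, 1, 6⟩) (.one ⟨14847, 1, 6⟩)) (.node 1 (.one ⟨12015, 1, 5⟩) (.one ⟨4178, 0, 4⟩)))) (.node 4 (.node 2 (.node 1 (.one ⟨737, 0, 2⟩) (.one ⟨93, 0, 4⟩)) (.node 1 (.one ⟨1616, 2, 6⟩) (.one ⟨4829, 1, 7⟩))) (.node 2 (.node 1 (.one ⟨763, 0, 2⟩) (.one ⟨3634, 2, 1⟩)) (.node 1 (.one ⟨770, 2, 3⟩) (.one ⟨10771, 1, 3⟩))))) (.node 8 (.node 4 (.node 2 (.node 1 (.one ⟨4910, 1, 2⟩) (.one ⟨9961, 0, 4⟩)) (.node 1 (.one ⟨6699, 1, 5⟩) (.one ⟨6710, 2, 5⟩))) (.node 2 (.node 1 (.one ⟨7286, 1, 6⟩) (.one ⟨10255, 1, 6⟩)) (.node 1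 (.one ⟨5252, 1, 3⟩) (.one ⟨14749, 1, 6⟩)))) (.node 4 (.node 2 (.node 1 (.one ⟨17149, 2, 4⟩) (.one ⟨4406, 1, 0⟩)) (.node 1 (.one ⟨4702, 1, 6⟩) (.one ⟨13859, 2, 4⟩))) (.node 2 (.node 1 (.one ⟨8594, 1, 3⟩) (.one ⟨10489, 2, 5⟩)) (.node 1 (.one ⟨3267, 2, 6⟩) (.one ⟨42, 1, 3⟩)))))) (.node 16 (.node 8 (.node 4 (.node 2 (.node 1 (.one ⟨2256, 1, 7⟩) (.one ⟨8725, 0, 5⟩)) (.node 1 (.one ⟨5395, 1, 7⟩) (.one ⟨12556, 0, 5⟩))) (.node 2 (.node 1 (.one ⟨12664, 1, 6⟩) (.one ⟨10587, 1, 3⟩)) (.node 1 (.one ⟨10027, 1, 5⟩) (.one ⟨6011, 0, 3⟩)))) (.node 4 (.node 2 (.node 1 (.one ⟨12128, 0, 1⟩) (.one ⟨8346, 1, 5⟩)) (.node 1 (.one ⟨5394, 1, 4⟩) (.one ⟨4421, 1, 0⟩))) (.node 2 (.node 1 (.one ⟨8642, 1, 2⟩) (.one ⟨7621, 1, 2⟩)) (.node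 1 (.one ⟨2758, 2, 3⟩) (.one ⟨7921, 0, 3⟩))))) (.node 8 (.node 4 (.node 2 (.node 1 (.one ⟨7054, 1, 5⟩) (.one ⟨1345, 1, 4⟩)) (.node 1 (.one ⟨10170, 2, 6⟩) (.one ⟨8122, 2, 4⟩))) (.node 2 (.node 1 (.one ⟨9610, 2, 5⟩) (.one ⟨14015, 1, 4⟩)) (.node 1 (.one ⟨4715, 0, 3⟩) (.one ⟨6452, 1, 5⟩)))) (.node 4 (.node 2 (.node 1 (.one ⟨1292, 2, 4⟩) (.one ⟨3662, 2, 4⟩)) (.node 1 (.one ⟨15250, 1, 5⟩) (.one ⟨2181, 1, 6⟩))) (.node 2 (.node 1 (.one ⟨13416, 2, 4⟩) (.one ⟨11278, 2, 5⟩)) (.node 1 (.one ⟨10881, 1, 2⟩) (.one ⟨7448, 1, 4⟩)))))))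
def par8_11 : Arr Par :=
  (.node 512 (.node 256 (.node 128 (.node 64 par8_11_0 par8_11_1) (.node 64 par8_11_2 par8_11_3)) (.node 128 (.node 64 par8_11_4 par8_11_5) (.node 64 par8_11_6 par8_11_7))) (.node 256 (.node 128 (.node 64 par8_11_8 par8_11_9) (.node 64 par8_11_10 par8_11_11)) (.node 128 (.node 64 par8_11_12 par8_11_13) (.node 64 par8_11_14 par8_11_15))))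
def par8_12_0 : Arr Par :=
  (.node 32 (.node 16 (.node 8 (.node 4 (.node 2 (.node 1 (.one ⟨9694, 1, 5⟩) (.one ⟨13465, 2, 5⟩)) (.node 1 (.one ⟨6810, 2, 5⟩) (.one ⟨8355, 2, 3⟩))) (.node 2 (.node 1 (.one ⟨15442, 1, 5⟩) (.one ⟨15894, 2, 5⟩)) (.node 1 (.one ⟨3728, 0, 5⟩) (.one ⟨13977, 1, 3⟩)))) (.node 4 (.node 2 (.node 1 (.one ⟨1376, 2, 6⟩) (.one ⟨1613, 1, 6⟩)) (.node 1 (.one ⟨9628, 1, 7⟩) (.one ⟨15443, 1, 4⟩))) (.node 2 (.node 1 (.one ⟨1752, 2, 3⟩) (.one ⟨12128, 2, 1⟩)) (.node 1 (.one ⟨4352, 2, 2⟩) (.one ⟨16353, 2, 2⟩))))) (.node 8 (.node 4 (.node 2 (.node 1 (.one ⟨11691, 1, 4⟩) (.one ⟨3216, 2, 6⟩)) (.node 1 (.one ⟨14934, 1, 4⟩) (.one ⟨8357, 2, 5⟩))) (.node 2 (.node 1 (.one ⟨13662, 2, 6⟩) (.one ⟨8735, 1, 6⟩))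 (.node 1 (.one ⟨5031, 2, 4⟩) (.one ⟨4669, 1, 4⟩)))) (.node 4 (.node 2 (.node 1 (.one ⟨14911, 1, 5⟩) (.one ⟨1093, 1, 3⟩)) (.node 1 (.one ⟨12988, 0, 4⟩) (.one ⟨14174, 0, 6⟩))) (.node 2 (.node 1 (.one ⟨8927, 2, 2⟩) (.one ⟨8340, 1, 6⟩)) (.node 1 (.one ⟨10319, 1, 1⟩) (.one ⟨11359, 1, 1⟩)))))) (.node 16 (.node 8 (.node 4 (.node 2 (.node 1 (.one ⟨3836, 2, 4⟩) (.one ⟨7907, 2, 6⟩)) (.node 1 (.one ⟨11467, 1, 2⟩) (.one ⟨1412, 1, 4⟩))) (.node 2 (.node 1 (.one ⟨17099, 1, 2⟩) (.one ⟨16863, 1, 2⟩)) (.node 1 (.one ⟨1880, 1, 3⟩) (.one ⟨9588, 1, 2⟩)))) (.node 4 (.node 2 (.node 1 (.one ⟨17044, 2, 4⟩) (.one ⟨1879, 1, 2⟩)) (.node 1 (.one ⟨8561, 0, 2⟩) (.one ⟨10211, 2, 4⟩))) (.node 2 (.node 1 (.one ⟨7228, 1, 3⟩) (.one ⟨14007, 2,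 4⟩)) (.node 1 (.one ⟨15617, 1, 2⟩) (.one ⟨15916, 1, 5⟩))))) (.node 8 (.node 4 (.node 2 (.node 1 (.one ⟨3414, 2, 3⟩) (.one ⟨2883, 2, 5⟩)) (.node 1 (.one ⟨3390, 0, 7⟩) (.one ⟨382, 1, 6⟩))) (.node 2 (.node 1 (.one ⟨5746, 2, 4⟩) (.one ⟨15553, 1, 4⟩)) (.node 1 (.one ⟨7022, 2, 5⟩) (.one ⟨295, 2, 4⟩)))) (.node 4 (.node 2 (.node 1 (.one ⟨16791, 0, 6⟩) (.one ⟨12507, 0, 4⟩)) (.node 1 (.one ⟨9008, 2, 5⟩) (.one ⟨9732, 1, 6⟩))) (.node 2 (.node 1 (.one ⟨4392, 1, 6⟩) (.one ⟨2700, 1, 6⟩)) (.node 1 (.one ⟨14515, 0, 5⟩) (.one ⟨8805, 2, 5⟩)))))))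
def par8_12_1 : Arr Par :=
  (.node 32 (.node 16 (.node 8 (.node 4 (.node 2 (.node 1 (.one ⟨7097, 0, 4⟩) (.one ⟨8619, 1, 4⟩)) (.node 1 (.one ⟨3379, 2, 6⟩) (.one ⟨6846, 2, 5⟩))) (.node 2 (.node 1 (.one ⟨4678, 1, 6⟩) (.one ⟨5621, 0, 6⟩)) (.node 1 (.one ⟨4801, 2, 5⟩) (.one ⟨15182, 0, 4⟩)))) (.node 4 (.node 2 (.node 1 (.one ⟨5967, 2, 5⟩) (.one ⟨11192, 1, 5⟩)) (.node 1 (.one ⟨6646, 1, 4⟩) (.one ⟨10984, 2, 5⟩))) (.node 2 (.node 1 (.one ⟨16627, 1, 4⟩) (.one ⟨13456, 0, 7⟩)) (.node 1 (.one ⟨7489, 2, 3⟩) (.one ⟨260, 2, 4⟩))))) (.node 8 (.node 4 (.node 2 (.node 1 (.one ⟨10379, 2, 5⟩) (.one ⟨14661, 2, 5⟩)) (.node 1 (.one ⟨6794, 1, 7⟩) (.one ⟨11368, 2, 1⟩))) (.node 2 (.node 1 (.one ⟨15558, 0, 3⟩) (.one ⟨6329, 2, 5⟩)) (.node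 1 (.one ⟨12558, 1, 5⟩) (.one ⟨24, 2, 3⟩)))) (.node 4 (.node 2 (.node 1 (.one ⟨1215, 2, 5⟩) (.one ⟨724, 1, 2⟩)) (.node 1 (.one ⟨16482, 2, 4⟩) (.one ⟨5971, 1, 6⟩))) (.node 2 (.node 1 (.one ⟨16996, 2, 3⟩) (.one ⟨3973, 1, 6⟩)) (.node 1 (.one ⟨2414, 2, 7⟩) (.one ⟨1274, 1, 4⟩)))))) (.node 16 (.node 8 (.node 4 (.node 2 (.node 1 (.one ⟨7025, 2, 1⟩) (.one ⟨17031, 2, 2⟩)) (.node 1 (.one ⟨16553, 1, 4⟩) (.one ⟨2100, 2, 6⟩))) (.node 2 (.node 1 (.one ⟨8688, 1, 5⟩) (.one ⟨642, 0, 2⟩)) (.node 1 (.one ⟨16532, 1, 2⟩) (.one ⟨7451, 1, 3⟩)))) (.node 4 (.node 2 (.node 1 (.one ⟨5217, 0, 2⟩) (.one ⟨12468, 0, 6⟩)) (.node 1 (.one ⟨15319, 2, 5⟩) (.one ⟨1622, 2, 4⟩))) (.node 2 (.node 1 (.one ⟨1992, 1, 3⟩) (.one ⟨4624, 1, 0⟩)) (.node 1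 (.one ⟨4638, 1, 0⟩) (.one ⟨2410, 2, 4⟩))))) (.node 8 (.node 4 (.node 2 (.node 1 (.one ⟨1389, 2, 5⟩) (.one ⟨8155, 1, 2⟩)) (.node 1 (.one ⟨7110, 2, 5⟩) (.one ⟨678, 1, 6⟩))) (.node 2 (.node 1 (.one ⟨7155, 2, 3⟩) (.one ⟨1018, 1, 3⟩)) (.node 1 (.one ⟨119, 2, 6⟩) (.one ⟨15251, 1, 6⟩)))) (.node 4 (.node 2 (.node 1 (.one ⟨16265, 1, 6⟩) (.one ⟨12486, 0, 1⟩)) (.node 1 (.one ⟨6502, 0, 3⟩) (.one ⟨1493, 2, 1⟩))) (.node 2 (.node 1 (.one ⟨3453, 1, 6⟩) (.one ⟨11164, 0, 6⟩)) (.node 1 (.one ⟨4855, 1, 5⟩) (.one ⟨4121, 1, 6⟩)))))))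
def par8_12_2 : Arr Par :=
  (.node 32 (.node 16 (.node 8 (.node 4 (.node 2 (.node 1 (.one ⟨406, 1, 7⟩) (.one ⟨15540, 0, 2⟩)) (.node 1 (.one ⟨2941, 2, 6⟩) (.one ⟨14159, 1, 7⟩))) (.node 2 (.node 1 (.one ⟨16384, 1, 3⟩) (.one ⟨9612, 1, 5⟩)) (.node 1 (.one ⟨1490, 2, 6⟩) (.one ⟨7355, 2, 5⟩)))) (.node 4 (.node 2 (.node 1 (.one ⟨10981, 2, 3⟩) (.one ⟨8746, 2, 5⟩)) (.node 1 (.one ⟨13173, 2, 6⟩) (.one ⟨2028, 2, 6⟩))) (.node 2 (.node 1 (.one ⟨14322, 2, 5⟩) (.one ⟨4100, 2, 5⟩)) (.node 1 (.one ⟨15965, 2, 5⟩) (.one ⟨10143, 2, 4⟩))))) (.node 8 (.node 4 (.node 2 (.node 1 (.one ⟨7686, 1, 4⟩) (.one ⟨228, 2, 4⟩)) (.node 1 (.one ⟨9424, 2, 6⟩) (.one ⟨4369, 1, 2⟩))) (.node 2 (.node 1 (.one ⟨6482, 1, 5⟩) (.one ⟨5442, 0, 5⟩)) (.node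 1 (.one ⟨1685, 1, 6⟩) (.one ⟨11481, 1, 5⟩)))) (.node 4 (.node 2 (.node 1 (.one ⟨9547, 2, 4⟩) (.one ⟨10013, 2, 5⟩)) (.node 1 (.one ⟨13746, 1, 3⟩) (.one ⟨9721, 2, 4⟩))) (.node 2 (.node 1 (.one ⟨9784, 2, 4⟩) (.one ⟨1103, 1, 2⟩)) (.node 1 (.one ⟨7000, 1, 3⟩) (.one ⟨8530, 0, 3⟩)))))) (.node 16 (.node 8 (.node 4 (.node 2 (.node 1 (.one ⟨15367, 1, 5⟩) (.one ⟨7228, 0, 3⟩)) (.node 1 (.one ⟨14941, 1, 5⟩) (.one ⟨4311, 0, 4⟩))) (.node 2 (.node 1 (.one ⟨3005, 2, 5⟩) (.one ⟨14489, 1, 5⟩)) (.node 1 (.one ⟨11553, 1, 6⟩) (.one ⟨2977, 0, 4⟩)))) (.node 4 (.node 2 (.node 1 (.one ⟨2921, 1, 5⟩) (.one ⟨6672, 1, 5⟩)) (.node 1 (.one ⟨4689, 1, 5⟩) (.one ⟨10204, 2, 5⟩))) (.node 2 (.node 1 (.one ⟨15688, 1, 5⟩) (.one ⟨11762, 1, 4⟩)) (.node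 1 (.one ⟨14064, 1, 6⟩) (.one ⟨7374, 1, 5⟩))))) (.node 8 (.node 4 (.node 2 (.node 1 (.one ⟨7175, 1, 3⟩) (.one ⟨12177, 2, 3⟩)) (.node 1 (.one ⟨9397, 1, 7⟩) (.one ⟨8163, 0, 7⟩))) (.node 2 (.node 1 (.one ⟨271, 2, 5⟩) (.one ⟨4017, 2, 5⟩)) (.node 1 (.one ⟨1027, 1, 3⟩) (.one ⟨12864, 2, 4⟩)))) (.node 4 (.node 2 (.node 1 (.one ⟨9140, 2, 5⟩) (.one ⟨9600, 0, 4⟩)) (.node 1 (.one ⟨4115, 0, 4⟩) (.one ⟨8515, 2, 5⟩))) (.node 2 (.node 1 (.one ⟨6085, 2, 7⟩) (.one ⟨2863, 2, 3⟩)) (.node 1 (.one ⟨2510, 0, 5⟩) (.one ⟨14947, 1, 4⟩)))))))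
def par8_12_3 : Arr Par :=
  (.node 32 (.node 16 (.node 8 (.node 4 (.node 2 (.node 1 (.one ⟨4781, 1, 0⟩) (.one ⟨10637, 1, 3⟩)) (.node 1 (.one ⟨4585, 1, 0⟩) (.one ⟨7189, 2, 5⟩))) (.node 2 (.node 1 (.one ⟨4236, 1, 0⟩) (.one ⟨7188, 2, 5⟩)) (.node 1 (.one ⟨4678, 1, 0⟩) (.one ⟨7263, 2, 4⟩)))) (.node 4 (.node 2 (.node 1 (.one ⟨8715, 1, 7⟩) (.one ⟨10375, 1, 4⟩)) (.node 1 (.one ⟨9023, 2, 4⟩) (.one ⟨9082, 2, 3⟩))) (.node 2 (.node 1 (.one ⟨16557, 1, 4⟩) (.one ⟨10957, 2, 7⟩)) (.node 1 (.one ⟨7088, 2, 3⟩) (.one ⟨2649, 1, 5⟩))))) (.node 8 (.node 4 (.node 2 (.node 1 (.one ⟨1094, 2, 5⟩) (.one ⟨11343, 2, 5⟩)) (.node 1 (.one ⟨7785, 2, 3⟩) (.one ⟨8616, 1, 5⟩))) (.node 2 (.node 1 (.one ⟨1553, 1, 2⟩) (.one ⟨16840, 2, 5⟩)) (.node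 1 (.one ⟨220, 2, 5⟩) (.one ⟨16344, 1, 5⟩)))) (.node 4 (.node 2 (.node 1 (.one ⟨3751, 2, 3⟩) (.one ⟨15758, 1, 3⟩)) (.node 1 (.one ⟨752, 1, 3⟩) (.one ⟨3745, 2, 3⟩))) (.node 2 (.node 1 (.one ⟨8135, 0, 6⟩) (.one ⟨11764, 2, 5⟩)) (.node 1 (.one ⟨1403, 2, 5⟩) (.one ⟨16907, 2, 4⟩)))))) (.node 16 (.node 8 (.node 4 (.node 2 (.node 1 (.one ⟨6331, 1, 4⟩) (.one ⟨6324, 1, 4⟩)) (.node 1 (.one ⟨14401, 1, 5⟩) (.one ⟨6379, 1, 6⟩))) (.node 2 (.node 1 (.one ⟨14427, 1, 4⟩) (.one ⟨12270, 0, 4⟩)) (.node 1 (.one ⟨6368, 1, 2⟩) (.one ⟨9579, 2, 4⟩)))) (.node 4 (.node 2 (.node 1 (.one ⟨4739, 2, 5⟩) (.one ⟨7905, 2, 6⟩)) (.node 1 (.one ⟨15017, 2, 6⟩) (.one ⟨11716, 2, 6⟩))) (.node 2 (.node 1 (.one ⟨351, 0, 5⟩) (.one ⟨3527, 0, 4⟩)) (.node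 1 (.one ⟨8123, 0, 4⟩) (.one ⟨3743, 2, 4⟩))))) (.node 8 (.node 4 (.node 2 (.node 1 (.one ⟨15629, 2, 3⟩) (.one ⟨8030, 2, 6⟩)) (.node 1 (.one ⟨10340, 1, 4⟩) (.one ⟨10098, 1, 6⟩))) (.node 2 (.node 1 (.one ⟨12882, 0, 4⟩) (.one ⟨12933, 1, 4⟩)) (.node 1 (.one ⟨5536, 2, 3⟩) (.one ⟨16506, 1, 2⟩)))) (.node 4 (.node 2 (.node 1 (.one ⟨15285, 1, 4⟩) (.one ⟨8375, 1, 2⟩)) (.node 1 (.one ⟨10213, 2, 4⟩) (.one ⟨10545, 2, 5⟩))) (.node 2 (.node 1 (.one ⟨3936, 1, 2⟩) (.one ⟨9749, 1, 4⟩)) (.node 1 (.one ⟨12073, 1, 3⟩) (.one ⟨10386, 2, 2⟩)))))))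
def par8_12_4 : Arr Par :=
  (.node 32 (.node 16 (.node 8 (.node 4 (.node 2 (.node 1 (.one ⟨16047, 1, 3⟩) (.one ⟨1116, 0, 4⟩)) (.node 1 (.one ⟨11774, 1, 4⟩) (.one ⟨3746, 0, 5⟩))) (.node 2 (.node 1 (.one ⟨10521, 0, 5⟩) (.one ⟨7212, 0, 5⟩)) (.node 1 (.one ⟨9430, 2, 1⟩) (.one ⟨3253, 1, 6⟩)))) (.node 4 (.node 2 (.node 1 (.one ⟨7581, 2, 6⟩) (.one ⟨7582, 2, 5⟩)) (.node 1 (.one ⟨4495, 1, 0⟩) (.one ⟨12209, 0, 4⟩))) (.node 2 (.node 1 (.one ⟨7580, 2, 4⟩) (.one ⟨16096, 1, 5⟩)) (.node 1 (.one ⟨14624, 1, 4⟩) (.one ⟨8289, 2, 4⟩))))) (.node 8 (.node 4 (.node 2 (.node 1 (.one ⟨14945, 2, 5⟩) (.one ⟨5386, 2, 5⟩)) (.node 1 (.one ⟨13220, 1, 4⟩) (.one ⟨1253, 0, 3⟩))) (.node 2 (.node 1 (.one ⟨11552, 1, 6⟩) (.one ⟨4848, 1, 5⟩)) (.node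 1 (.one ⟨14868, 2, 5⟩) (.one ⟨11748, 1, 3⟩)))) (.node 4 (.node 2 (.node 1 (.one ⟨12625, 2, 6⟩) (.one ⟨5055, 2, 4⟩)) (.node 1 (.one ⟨1111, 0, 4⟩) (.one ⟨2726, 2, 6⟩))) (.node 2 (.node 1 (.one ⟨3562, 1, 3⟩) (.one ⟨8362, 0, 6⟩)) (.node 1 (.one ⟨11286, 1, 2⟩) (.one ⟨2765, 0, 3⟩)))))) (.node 16 (.node 8 (.node 4 (.node 2 (.node 1 (.one ⟨10426, 2, 5⟩) (.one ⟨10237, 2, 4⟩)) (.node 1 (.one ⟨11930, 1, 6⟩) (.one ⟨6280, 2, 5⟩))) (.node 2 (.node 1 (.one ⟨10690, 2, 4⟩) (.one ⟨13485, 0, 3⟩)) (.node 1 (.one ⟨5966, 2, 4⟩) (.one ⟨5215, 2, 4⟩)))) (.node 4 (.node 2 (.node 1 (.one ⟨2246, 1, 3⟩) (.one ⟨9389, 1, 4⟩)) (.node 1 (.one ⟨16257, 0, 5⟩) (.one ⟨4285, 2, 6⟩))) (.node 2 (.node 1 (.one ⟨7997, 0, 3⟩) (.one ⟨14576, 1, 6⟩)) (.node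 1 (.one ⟨6550, 1, 5⟩) (.one ⟨8906, 1, 7⟩))))) (.node 8 (.node 4 (.node 2 (.node 1 (.one ⟨16353, 1, 2⟩) (.one ⟨7774, 2, 5⟩)) (.node 1 (.one ⟨5262, 1, 3⟩) (.one ⟨768, 2, 6⟩))) (.node 2 (.node 1 (.one ⟨1369, 1, 1⟩) (.one ⟨12703, 0, 4⟩)) (.node 1 (.one ⟨15150, 1, 5⟩) (.one ⟨13777, 1, 3⟩)))) (.node 4 (.node 2 (.node 1 (.one ⟨3287, 1, 1⟩) (.one ⟨11910, 0, 4⟩)) (.node 1 (.one ⟨11763, 2, 6⟩) (.one ⟨1760, 1, 6⟩))) (.node 2 (.node 1 (.one ⟨13823, 2, 5⟩) (.one ⟨11308, 1, 3⟩)) (.node 1 (.one ⟨11041, 0, 5⟩) (.one ⟨6704, 1, 3⟩)))))))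
def par8_12_5 : Arr Par :=
  (.node 32 (.node 16 (.node 8 (.node 4 (.node 2 (.node 1 (.one ⟨17074, 2, 6⟩) (.one ⟨11028, 1, 4⟩)) (.node 1 (.one ⟨6172, 1, 2⟩) (.one ⟨10869, 1, 2⟩))) (.node 2 (.node 1 (.one ⟨9069, 2, 5⟩) (.one ⟨6923, 1, 3⟩)) (.node 1 (.one ⟨10126, 1, 6⟩) (.one ⟨14783, 0, 3⟩)))) (.node 4 (.node 2 (.node 1 (.one ⟨6235, 1, 3⟩) (.one ⟨6948, 1, 4⟩)) (.node 1 (.one ⟨8045, 2, 3⟩) (.one ⟨14136, 0, 4⟩))) (.node 2 (.node 1 (.one ⟨15030, 2, 7⟩) (.one ⟨6832, 1, 5⟩)) (.node 1 (.one ⟨8819, 2, 5⟩) (.one ⟨8246, 0, 7⟩))))) (.node 8 (.node 4 (.node 2 (.node 1 (.one ⟨10045, 2, 5⟩) (.one ⟨11192, 0, 5⟩)) (.node 1 (.one ⟨1913, 1, 6⟩) (.one ⟨8182, 2, 6⟩))) (.node 2 (.node 1 (.one ⟨11088, 0, 5⟩) (.one ⟨16574, 0, 5⟩))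 (.node 1 (.one ⟨7771, 0, 7⟩) (.one ⟨4399, 2, 3⟩)))) (.node 4 (.node 2 (.node 1 (.one ⟨14456, 2, 4⟩) (.one ⟨4561, 0, 7⟩)) (.node 1 (.one ⟨2445, 1, 6⟩) (.one ⟨5367, 0, 3⟩))) (.node 2 (.node 1 (.one ⟨1206, 2, 4⟩) (.one ⟨10616, 0, 2⟩)) (.node 1 (.one ⟨2226, 2, 4⟩) (.one ⟨14327, 2, 6⟩)))))) (.node 16 (.node 8 (.node 4 (.node 2 (.node 1 (.one ⟨12447, 2, 4⟩) (.one ⟨4375, 2, 3⟩)) (.node 1 (.one ⟨6271, 2, 5⟩) (.one ⟨16220, 1, 6⟩))) (.node 2 (.node 1 (.one ⟨14946, 2, 4⟩) (.one ⟨6874, 2, 5⟩)) (.node 1 (.one ⟨4688, 2, 4⟩) (.one ⟨252, 1, 7⟩)))) (.node 4 (.node 2 (.node 1 (.one ⟨13762, 2, 5⟩) (.one ⟨1865, 1, 5⟩)) (.node 1 (.one ⟨13760, 2, 6⟩) (.one ⟨7823, 1, 5⟩))) (.node 2 (.node 1 (.one ⟨13766, 2, 5⟩) (.one ⟨8017, 1, 3⟩))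 (.node 1 (.one ⟨13764, 2, 6⟩) (.one ⟨61, 1, 5⟩))))) (.node 8 (.node 4 (.node 2 (.node 1 (.one ⟨13477, 1, 5⟩) (.one ⟨13475, 1, 5⟩)) (.node 1 (.one ⟨6569, 2, 6⟩) (.one ⟨4772, 2, 6⟩))) (.node 2 (.node 1 (.one ⟨1031, 1, 3⟩) (.one ⟨852, 1, 5⟩)) (.node 1 (.one ⟨13473, 1, 4⟩) (.one ⟨8356, 1, 6⟩)))) (.node 4 (.node 2 (.node 1 (.one ⟨15706, 2, 5⟩) (.one ⟨11809, 2, 5⟩)) (.node 1 (.one ⟨9375, 2, 2⟩) (.one ⟨14323, 2, 6⟩))) (.node 2 (.node 1 (.one ⟨9239, 0, 5⟩) (.one ⟨8355, 1, 3⟩)) (.node 1 (.one ⟨10645, 2, 5⟩) (.one ⟨16682, 0, 4⟩)))))))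
def par8_12_6 : Arr Par :=
  (.node 32 (.node 16 (.node 8 (.node 4 (.node 2 (.node 1 (.one ⟨12141, 1, 4⟩) (.one ⟨6339, 0, 2⟩)) (.node 1 (.one ⟨11053, 2, 5⟩) (.one ⟨3100, 2, 5⟩))) (.node 2 (.node 1 (.one ⟨4050, 2, 4⟩) (.one ⟨14893, 1, 2⟩)) (.node 1 (.one ⟨8567, 1, 7⟩) (.one ⟨1999, 1, 6⟩)))) (.node 4 (.node 2 (.node 1 (.one ⟨15190, 2, 4⟩) (.one ⟨7420, 2, 4⟩)) (.node 1 (.one ⟨13722, 2, 4⟩) (.one ⟨1098, 2, 5⟩))) (.node 2 (.node 1 (.one ⟨11382, 2, 5⟩) (.one ⟨3239, 2, 5⟩)) (.node 1 (.one ⟨9867, 2, 6⟩) (.one ⟨6679, 1, 3⟩))))) (.node 8 (.node 4 (.node 2 (.node 1 (.one ⟨4422, 2, 5⟩) (.one ⟨4419, 2, 3⟩)) (.node 1 (.one ⟨4417, 2, 6⟩) (.one ⟨4608, 1, 5⟩))) (.node 2 (.node 1 (.one ⟨4651, 0, 5⟩) (.one ⟨4421, 2, 6⟩)) (.node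 1 (.one ⟨16777, 1, 5⟩) (.one ⟨11351, 2, 2⟩)))) (.node 4 (.node 2 (.node 1 (.one ⟨15170, 2, 5⟩) (.one ⟨5733, 2, 4⟩)) (.node 1 (.one ⟨11171, 1, 4⟩) (.one ⟨9489, 1, 2⟩))) (.node 2 (.node 1 (.one ⟨4820, 2, 3⟩) (.one ⟨12013, 2, 5⟩)) (.node 1 (.one ⟨13574, 1, 4⟩) (.one ⟨12236, 2, 3⟩)))))) (.node 16 (.node 8 (.node 4 (.node 2 (.node 1 (.one ⟨1817, 1, 3⟩) (.one ⟨9871, 1, 2⟩)) (.node 1 (.one ⟨10432, 2, 6⟩) (.one ⟨16596, 2, 6⟩))) (.node 2 (.node 1 (.one ⟨1795, 1, 6⟩) (.one ⟨15413, 2, 5⟩)) (.node 1 (.one ⟨14807, 2, 1⟩) (.one ⟨14611, 2, 5⟩)))) (.node 4 (.node 2 (.node 1 (.one ⟨11776, 0, 5⟩) (.one ⟨9196, 2, 5⟩)) (.node 1 (.one ⟨6554, 2, 4⟩) (.one ⟨16298, 2, 5⟩))) (.node 2 (.node 1 (.one ⟨2054, 1, 3⟩) (.one ⟨6700, 0, 4⟩))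 (.node 1 (.one ⟨8225, 2, 6⟩) (.one ⟨572, 1, 2⟩))))) (.node 8 (.node 4 (.node 2 (.node 1 (.one ⟨3319, 2, 7⟩) (.one ⟨7294, 0, 7⟩)) (.node 1 (.one ⟨355, 1, 2⟩) (.one ⟨5871, 2, 7⟩))) (.node 2 (.node 1 (.one ⟨14727, 2, 2⟩) (.one ⟨125, 1, 4⟩)) (.node 1 (.one ⟨6138, 1, 6⟩) (.one ⟨10842, 1, 5⟩)))) (.node 4 (.node 2 (.node 1 (.one ⟨9370, 2, 2⟩) (.one ⟨16134, 0, 6⟩)) (.node 1 (.one ⟨12074, 1, 2⟩) (.one ⟨1122, 2, 5⟩))) (.node 2 (.node 1 (.one ⟨8490, 2, 4⟩) (.one ⟨4305, 1, 6⟩)) (.node 1 (.one ⟨1487, 2, 5⟩) (.one ⟨9945, 1, 4⟩)))))))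
def par8_12_7 : Arr Par :=
  (.node 32 (.node 16 (.node 8 (.node 4 (.node 2 (.node 1 (.one ⟨9943, 1, 6⟩) (.one ⟨1068, 1, 4⟩)) (.node 1 (.one ⟨15144, 2, 3⟩) (.one ⟨12885, 2, 5⟩))) (.node 2 (.node 1 (.one ⟨16507, 2, 3⟩) (.one ⟨342, 1, 3⟩)) (.node 1 (.one ⟨556, 1, 2⟩) (.one ⟨12772, 0, 3⟩)))) (.node 4 (.node 2 (.node 1 (.one ⟨12643, 2, 7⟩) (.one ⟨12033, 0, 3⟩)) (.node 1 (.one ⟨3629, 1, 4⟩) (.one ⟨14277, 2, 6⟩))) (.node 2 (.node 1 (.one ⟨8782, 1, 3⟩) (.one ⟨15478, 1, 4⟩)) (.node 1 (.one ⟨3162, 1, 7⟩) (.one ⟨16326, 1, 5⟩))))) (.node 8 (.node 4 (.node 2 (.node 1 (.one ⟨11269, 2, 4⟩) (.one ⟨4731, 2, 6⟩)) (.node 1 (.one ⟨7076, 0, 6⟩) (.one ⟨3559, 2, 6⟩))) (.node 2 (.node 1 (.one ⟨3579, 0, 5⟩) (.one ⟨11068, 2, 5⟩)) (.node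 1 (.one ⟨12625, 1, 6⟩) (.one ⟨4286, 0, 3⟩)))) (.node 4 (.node 2 (.node 1 (.one ⟨5618, 1, 4⟩) (.one ⟨15132, 0, 3⟩)) (.node 1 (.one ⟨14678, 2, 6⟩) (.one ⟨4267, 0, 3⟩))) (.node 2 (.node 1 (.one ⟨4836, 2, 4⟩) (.one ⟨15837, 2, 7⟩)) (.node 1 (.one ⟨9543, 1, 5⟩) (.one ⟨2784, 1, 4⟩)))))) (.node 16 (.node 8 (.node 4 (.node 2 (.node 1 (.one ⟨9325, 2, 5⟩) (.one ⟨13002, 1, 2⟩)) (.node 1 (.one ⟨4132, 1, 6⟩) (.one ⟨2339, 1, 3⟩))) (.node 2 (.node 1 (.one ⟨15870, 2, 2⟩) (.one ⟨12548, 1, 6⟩)) (.node 1 (.one ⟨9248, 2, 5⟩) (.one ⟨9419, 1, 3⟩)))) (.node 4 (.node 2 (.node 1 (.one ⟨12003, 0, 6⟩) (.one ⟨14118, 0, 6⟩)) (.node 1 (.one ⟨9760, 2, 6⟩) (.one ⟨2841, 2, 5⟩))) (.node 2 (.node 1 (.one ⟨14238, 1, 5⟩) (.one ⟨920, 0, 5⟩)) (.node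 1 (.one ⟨9980, 1, 2⟩) (.one ⟨14259, 0, 7⟩))))) (.node 8 (.node 4 (.node 2 (.node 1 (.one ⟨7021, 1, 7⟩) (.one ⟨1712, 1, 5⟩)) (.node 1 (.one ⟨14809, 1, 4⟩) (.one ⟨16902, 0, 4⟩))) (.node 2 (.node 1 (.one ⟨6899, 1, 3⟩) (.one ⟨15174, 2, 5⟩)) (.node 1 (.one ⟨14659, 0, 5⟩) (.one ⟨10747, 2, 6⟩)))) (.node 4 (.node 2 (.node 1 (.one ⟨16416, 2, 5⟩) (.one ⟨14651, 0, 5⟩)) (.node 1 (.one ⟨3748, 0, 5⟩) (.one ⟨13393, 0, 6⟩))) (.node 2 (.node 1 (.one ⟨2933, 2, 5⟩) (.one ⟨14550, 2, 4⟩)) (.node 1 (.one ⟨12492, 2, 5⟩) (.one ⟨6464, 1, 6⟩)))))))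
def par8_12_8 : Arr Par :=
  (.node 32 (.node 16 (.node 8 (.node 4 (.node 2 (.node 1 (.one ⟨14380, 1, 7⟩) (.one ⟨2296, 1, 6⟩)) (.node 1 (.one ⟨10614, 1, 7⟩) (.one ⟨11563, 2, 6⟩))) (.node 2 (.node 1 (.one ⟨12456, 2, 6⟩) (.one ⟨1818, 1, 6⟩)) (.node 1 (.one ⟨10171, 1, 4⟩) (.one ⟨10984, 1, 5⟩)))) (.node 4 (.node 2 (.node 1 (.one ⟨4021, 1, 3⟩) (.one ⟨2744, 1, 4⟩)) (.node 1 (.one ⟨12435, 1, 3⟩) (.one ⟨13225, 1, 4⟩))) (.node 2 (.node 1 (.one ⟨1971, 1, 6⟩) (.one ⟨5498, 1, 5⟩)) (.node 1 (.one ⟨11858, 2, 4⟩) (.one ⟨6410, 0, 6⟩))))) (.node 8 (.node 4 (.node 2 (.node 1 (.one ⟨12688, 0, 6⟩) (.one ⟨4528, 2, 5⟩)) (.node 1 (.one ⟨5668, 1, 3⟩) (.one ⟨6324, 0, 4⟩))) (.node 2 (.node 1 (.one ⟨12846, 0, 4⟩) (.one ⟨12876, 2, 3⟩))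 (.node 1 (.one ⟨948, 2, 3⟩) (.one ⟨9764, 0, 3⟩)))) (.node 4 (.node 2 (.node 1 (.one ⟨704, 0, 7⟩) (.one ⟨12976, 1, 6⟩)) (.node 1 (.one ⟨13423, 1, 7⟩) (.one ⟨6495, 1, 6⟩))) (.node 2 (.node 1 (.one ⟨5983, 1, 4⟩) (.one ⟨16512, 1, 6⟩)) (.node 1 (.one ⟨6089, 2, 6⟩) (.one ⟨2151, 1, 3⟩)))))) (.node 16 (.node 8 (.node 4 (.node 2 (.node 1 (.one ⟨4611, 0, 5⟩) (.one ⟨13504, 0, 3⟩)) (.node 1 (.one ⟨14355, 1, 7⟩) (.one ⟨6804, 2, 6⟩))) (.node 2 (.node 1 (.one ⟨9666, 0, 4⟩) (.one ⟨10173, 2, 5⟩)) (.node 1 (.one ⟨5578, 1, 5⟩) (.one ⟨7039, 1, 5⟩)))) (.node 4 (.node 2 (.node 1 (.one ⟨2619, 0, 4⟩) (.one ⟨14737, 1, 3⟩)) (.node 1 (.one ⟨9068, 1, 4⟩) (.one ⟨13593, 0, 5⟩))) (.node 2 (.node 1 (.one ⟨1888, 2, 4⟩) (.one ⟨4041, 1, 3⟩))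 (.node 1 (.one ⟨12232, 2, 3⟩) (.one ⟨8050, 1, 2⟩))))) (.node 8 (.node 4 (.node 2 (.node 1 (.one ⟨5911, 2, 5⟩) (.one ⟨14385, 1, 3⟩)) (.node 1 (.one ⟨11090, 0, 4⟩) (.one ⟨9664, 1, 4⟩))) (.node 2 (.node 1 (.one ⟨6428, 1, 5⟩) (.one ⟨4161, 1, 4⟩)) (.node 1 (.one ⟨16085, 1, 5⟩) (.one ⟨2823, 2, 5⟩)))) (.node 4 (.node 2 (.node 1 (.one ⟨4649, 2, 4⟩) (.one ⟨11864, 2, 4⟩)) (.node 1 (.one ⟨10018, 2, 5⟩) (.one ⟨1050, 2, 4⟩))) (.node 2 (.node 1 (.one ⟨3600, 2, 4⟩) (.one ⟨13053, 2, 3⟩)) (.node 1 (.one ⟨14469, 1, 6⟩) (.one ⟨1010, 1, 3⟩)))))))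
def par8_12_9 : Arr Par :=
  (.node 32 (.node 16 (.node 8 (.node 4 (.node 2 (.node 1 (.one ⟨6383, 1, 3⟩) (.one ⟨2138, 1, 4⟩)) (.node 1 (.one ⟨6467, 1, 3⟩) (.one ⟨4274, 0, 2⟩))) (.node 2 (.node 1 (.one ⟨5223, 0, 2⟩) (.one ⟨10787, 2, 6⟩)) (.node 1 (.one ⟨1516, 0, 6⟩) (.one ⟨8903, 1, 5⟩)))) (.node 4 (.node 2 (.node 1 (.one ⟨14084, 1, 2⟩) (.one ⟨1998, 1, 3⟩)) (.node 1 (.one ⟨13229, 1, 5⟩) (.one ⟨3193, 1, 3⟩))) (.node 2 (.node 1 (.one ⟨11939, 1, 2⟩) (.one ⟨7905, 1, 6⟩)) (.node 1 (.one ⟨15453, 1, 6⟩) (.one ⟨13985, 1, 3⟩))))) (.node 8 (.node 4 (.node 2 (.node 1 (.one ⟨12475, 1, 6⟩) (.one ⟨5655, 1, 7⟩)) (.node 1 (.one ⟨14913, 2, 3⟩) (.one ⟨15042, 1, 4⟩))) (.node 2 (.node 1 (.one ⟨13298, 1, 6⟩) (.one ⟨6840, 1, 4⟩))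 (.node 1 (.one ⟨803, 2, 3⟩) (.one ⟨7986, 1, 5⟩)))) (.node 4 (.node 2 (.node 1 (.one ⟨8112, 2, 3⟩) (.one ⟨9545, 2, 4⟩)) (.node 1 (.one ⟨795, 1, 3⟩) (.one ⟨7988, 1, 5⟩))) (.node 2 (.node 1 (.one ⟨12221, 0, 3⟩) (.one ⟨1547, 2, 5⟩)) (.node 1 (.one ⟨9466, 2, 4⟩) (.one ⟨13015, 0, 5⟩)))))) (.node 16 (.node 8 (.node 4 (.node 2 (.node 1 (.one ⟨4007, 1, 6⟩) (.one ⟨3569, 1, 5⟩)) (.node 1 (.one ⟨4426, 0, 3⟩) (.one ⟨16296, 1, 6⟩))) (.node 2 (.node 1 (.one ⟨11870, 2, 2⟩) (.one ⟨12534, 0, 4⟩)) (.node 1 (.one ⟨15732, 1, 6⟩) (.one ⟨8907, 2, 3⟩)))) (.node 4 (.node 2 (.node 1 (.one ⟨12137, 1, 6⟩) (.one ⟨9219, 2, 3⟩)) (.node 1 (.one ⟨7453, 1, 6⟩) (.one ⟨11317, 2, 5⟩))) (.node 2 (.node 1 (.one ⟨6518, 1, 6⟩) (.one ⟨8038, 1, 6⟩))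 (.node 1 (.one ⟨14875, 2, 5⟩) (.one ⟨11826, 1, 6⟩))))) (.node 8 (.node 4 (.node 2 (.node 1 (.one ⟨10666, 2, 6⟩) (.one ⟨1967, 1, 6⟩)) (.node 1 (.one ⟨10648, 1, 4⟩) (.one ⟨9835, 2, 7⟩))) (.node 2 (.node 1 (.one ⟨17052, 1, 4⟩) (.one ⟨14666, 1, 6⟩)) (.node 1 (.one ⟨7450, 1, 5⟩) (.one ⟨4340, 1, 6⟩)))) (.node 4 (.node 2 (.node 1 (.one ⟨82, 2, 1⟩) (.one ⟨2146, 0, 4⟩)) (.node 1 (.one ⟨10300, 2, 4⟩) (.one ⟨919, 0, 4⟩))) (.node 2 (.node 1 (.one ⟨4342, 1, 7⟩) (.one ⟨4338, 1, 2⟩)) (.node 1 (.one ⟨9456, 2, 4⟩) (.one ⟨11736, 1, 2⟩)))))))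
def par8_12_10 : Arr Par :=
  (.node 32 (.node 16 (.node 8 (.node 4 (.node 2 (.node 1 (.one ⟨4262, 2, 6⟩) (.one ⟨8693, 0, 1⟩)) (.node 1 (.one ⟨4682, 2, 4⟩) (.one ⟨2988, 1, 6⟩))) (.node 2 (.node 1 (.one ⟨15948, 2, 4⟩) (.one ⟨15933, 2, 3⟩)) (.node 1 (.one ⟨16725, 0, 5⟩) (.one ⟨8127, 0, 6⟩)))) (.node 4 (.node 2 (.node 1 (.one ⟨4600, 2, 2⟩) (.one ⟨14211, 1, 6⟩)) (.node 1 (.one ⟨16656, 1, 4⟩) (.one ⟨7689, 1, 6⟩))) (.node 2 (.node 1 (.one ⟨6811, 1, 5⟩) (.one ⟨1120, 2, 1⟩)) (.node 1 (.one ⟨2979, 1, 6⟩) (.one ⟨15228, 1, 3⟩))))) (.node 8 (.node 4 (.node 2 (.node 1 (.one ⟨9510, 1, 3⟩) (.one ⟨8011, 1, 3⟩)) (.node 1 (.one ⟨16812, 2, 3⟩) (.one ⟨12903, 0, 4⟩))) (.node 2 (.node 1 (.one ⟨8116, 0, 4⟩) (.one ⟨7467, 1, 3⟩)) (.node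 1 (.one ⟨6732, 0, 4⟩) (.one ⟨10070, 0, 5⟩)))) (.node 4 (.node 2 (.node 1 (.one ⟨16674, 2, 5⟩) (.one ⟨6562, 2, 3⟩)) (.node 1 (.one ⟨7169, 2, 3⟩) (.one ⟨2227, 1, 7⟩))) (.node 2 (.node 1 (.one ⟨9469, 2, 5⟩) (.one ⟨12114, 1, 5⟩)) (.node 1 (.one ⟨4260, 2, 5⟩) (.one ⟨16466, 2, 4⟩)))))) (.node 16 (.node 8 (.node 4 (.node 2 (.node 1 (.one ⟨14025, 2, 5⟩) (.one ⟨13140, 1, 4⟩)) (.node 1 (.one ⟨10063, 0, 5⟩) (.one ⟨15205, 1, 4⟩))) (.node 2 (.node 1 (.one ⟨14676, 1, 5⟩) (.one ⟨10066, 2, 6⟩)) (.node 1 (.one ⟨10462, 1, 5⟩) (.one ⟨6487, 2, 2⟩)))) (.node 4 (.node 2 (.node 1 (.one ⟨9067, 2, 5⟩) (.one ⟨12785, 2, 6⟩)) (.node 1 (.one ⟨9651, 2, 3⟩) (.one ⟨14619, 2, 2⟩))) (.node 2 (.node 1 (.one ⟨3028, 1, 3⟩) (.one ⟨2235, 1, 3⟩))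 (.node 1 (.one ⟨381, 2, 4⟩) (.one ⟨17080, 1, 2⟩))))) (.node 8 (.node 4 (.node 2 (.node 1 (.one ⟨13214, 2, 5⟩) (.one ⟨14584, 1, 4⟩)) (.node 1 (.one ⟨106, 1, 5⟩) (.one ⟨13209, 2, 5⟩))) (.node 2 (.node 1 (.one ⟨3553, 2, 6⟩) (.one ⟨3552, 2, 5⟩)) (.node 1 (.one ⟨13208, 2, 6⟩) (.one ⟨7383, 2, 2⟩)))) (.node 4 (.node 2 (.node 1 (.one ⟨13810, 0, 4⟩) (.one ⟨3612, 2, 5⟩)) (.node 1 (.one ⟨13225, 2, 4⟩) (.one ⟨4683, 2, 4⟩))) (.node 2 (.node 1 (.one ⟨12118, 2, 3⟩) (.one ⟨11218, 0, 5⟩)) (.node 1 (.one ⟨8311, 1, 5⟩) (.one ⟨16244, 1, 4⟩)))))))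
def par8_12_11 : Arr Par :=
  (.node 32 (.node 16 (.node 8 (.node 4 (.node 2 (.node 1 (.one ⟨11933, 2, 4⟩) (.one ⟨2891, 2, 2⟩)) (.node 1 (.one ⟨5589, 1, 5⟩) (.one ⟨10092, 1, 5⟩))) (.node 2 (.node 1 (.one ⟨4844, 2, 3⟩) (.one ⟨9300, 2, 2⟩)) (.node 1 (.one ⟨3125, 0, 4⟩) (.one ⟨2319, 1, 4⟩)))) (.node 4 (.node 2 (.node 1 (.one ⟨10698, 2, 1⟩) (.one ⟨9195, 2, 1⟩)) (.node 1 (.one ⟨16308, 2, 1⟩) (.one ⟨8405, 0, 3⟩))) (.node 2 (.node 1 (.one ⟨8400, 0, 2⟩) (.one ⟨5127, 1, 4⟩)) (.node 1 (.one ⟨1069, 2, 3⟩) (.one ⟨8294, 0, 7⟩))))) (.node 8 (.node 4 (.node 2 (.node 1 (.one ⟨11831, 1, 6⟩) (.one ⟨11109, 2, 3⟩)) (.node 1 (.one ⟨1362, 2, 4⟩) (.one ⟨10256, 1, 5⟩))) (.node 2 (.node 1 (.one ⟨3850, 1, 5⟩) (.one ⟨6945, 2, 6⟩)) (.node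 1 (.one ⟨13754, 2, 4⟩) (.one ⟨16244, 2, 4⟩)))) (.node 4 (.node 2 (.node 1 (.one ⟨4894, 2, 5⟩) (.one ⟨4213, 2, 6⟩)) (.node 1 (.one ⟨16575, 2, 4⟩) (.one ⟨3490, 2, 4⟩))) (.node 2 (.node 1 (.one ⟨14211, 2, 6⟩) (.one ⟨15186, 2, 5⟩)) (.node 1 (.one ⟨1559, 2, 2⟩) (.one ⟨7867, 2, 4⟩)))))) (.node 16 (.node 8 (.node 4 (.node 2 (.node 1 (.one ⟨16808, 2, 3⟩) (.one ⟨17167, 1, 5⟩)) (.node 1 (.one ⟨5131, 2, 5⟩) (.one ⟨3123, 1, 5⟩))) (.node 2 (.node 1 (.one ⟨12306, 2, 5⟩) (.one ⟨9219, 1, 3⟩)) (.node 1 (.one ⟨4659, 1, 3⟩) (.one ⟨15182, 1, 4⟩)))) (.node 4 (.node 2 (.node 1 (.one ⟨11735, 1, 4⟩) (.one ⟨16276, 2, 5⟩)) (.node 1 (.one ⟨16531, 2, 3⟩) (.one ⟨17130, 1, 4⟩))) (.node 2 (.node 1 (.one ⟨9356, 1, 7⟩) (.one ⟨5336, 1, 6⟩))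 (.node 1 (.one ⟨3580, 2, 3⟩) (.one ⟨4087, 2, 6⟩))))) (.node 8 (.node 4 (.node 2 (.node 1 (.one ⟨16803, 0, 4⟩) (.one ⟨13347, 0, 3⟩)) (.node 1 (.one ⟨8443, 0, 6⟩) (.one ⟨4090, 2, 2⟩))) (.node 2 (.node 1 (.one ⟨12849, 1, 4⟩) (.one ⟨10145, 0, 3⟩)) (.node 1 (.one ⟨654, 1, 3⟩) (.one ⟨14647, 0, 3⟩)))) (.node 4 (.node 2 (.node 1 (.one ⟨16444, 0, 4⟩) (.one ⟨8901, 2, 6⟩)) (.node 1 (.one ⟨14070, 0, 6⟩) (.one ⟨9833, 2, 6⟩))) (.node 2 (.node 1 (.one ⟨14291, 2, 4⟩) (.one ⟨10791, 1, 2⟩)) (.node 1 (.one ⟨16901, 2, 6⟩) (.one ⟨8655, 0, 3⟩)))))))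
def par8_12_12 : Arr Par :=
  (.node 32 (.node 16 (.node 8 (.node 4 (.node 2 (.node 1 (.one ⟨7356, 2, 2⟩) (.one ⟨4498, 0, 6⟩)) (.node 1 (.one ⟨3783, 2, 4⟩) (.one ⟨7031, 2, 5⟩))) (.node 2 (.node 1 (.one ⟨10534, 2, 4⟩) (.one ⟨10630, 0, 5⟩)) (.node 1 (.one ⟨15061, 1, 4⟩) (.one ⟨12250, 2, 7⟩)))) (.node 4 (.node 2 (.node 1 (.one ⟨16403, 2, 5⟩) (.one ⟨10901, 1, 5⟩)) (.node 1 (.one ⟨11634, 2, 4⟩) (.one ⟨16254, 1, 6⟩))) (.node 2 (.node 1 (.one ⟨4085, 2, 3⟩) (.one ⟨10385, 1, 4⟩)) (.node 1 (.one ⟨7886, 2, 5⟩) (.one ⟨12970, 0, 4⟩))))) (.node 8 (.node 4 (.node 2 (.node 1 (.one ⟨8198, 1, 6⟩) (.one ⟨3289, 0, 4⟩)) (.node 1 (.one ⟨16249, 1, 6⟩) (.one ⟨16291, 1, 4⟩))) (.node 2 (.node 1 (.one ⟨8209, 1, 4⟩) (.one ⟨4494, 0, 4⟩))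 (.node 1 (.one ⟨16299, 1, 5⟩) (.one ⟨5681, 2, 5⟩)))) (.node 4 (.node 2 (.node 1 (.one ⟨6699, 2, 5⟩) (.one ⟨13956, 2, 6⟩)) (.node 1 (.one ⟨14663, 2, 6⟩) (.one ⟨9733, 2, 5⟩))) (.node 2 (.node 1 (.one ⟨10825, 2, 5⟩) (.one ⟨417, 2, 6⟩)) (.node 1 (.one ⟨2859, 2, 6⟩) (.one ⟨5201, 2, 5⟩)))))) (.node 16 (.node 8 (.node 4 (.node 2 (.node 1 (.one ⟨11992, 1, 3⟩) (.one ⟨1550, 2, 4⟩)) (.node 1 (.one ⟨16414, 2, 6⟩) (.one ⟨4380, 2, 2⟩))) (.node 2 (.node 1 (.one ⟨13654, 2, 4⟩) (.one ⟨3050, 2, 3⟩)) (.node 1 (.one ⟨3815, 1, 2⟩) (.one ⟨16003, 0, 3⟩)))) (.node 4 (.node 2 (.node 1 (.one ⟨5003, 0, 4⟩) (.one ⟨10895, 1, 4⟩)) (.node 1 (.one ⟨1166, 0, 3⟩) (.one ⟨5989, 2, 5⟩))) (.node 2 (.node 1 (.one ⟨2071, 1, 5⟩) (.one ⟨6970, 1, 5⟩))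 (.node 1 (.one ⟨8126, 2, 5⟩) (.one ⟨4471, 2, 5⟩))))) (.node 8 (.node 4 (.node 2 (.node 1 (.one ⟨715, 1, 3⟩) (.one ⟨6470, 1, 4⟩)) (.node 1 (.one ⟨13702, 1, 3⟩) (.one ⟨10185, 2, 6⟩))) (.node 2 (.node 1 (.one ⟨8058, 1, 6⟩) (.one ⟨4071, 1, 6⟩)) (.node 1 (.one ⟨7888, 0, 6⟩) (.one ⟨8332, 2, 4⟩)))) (.node 4 (.node 2 (.node 1 (.one ⟨10641, 1, 4⟩) (.one ⟨8333, 2, 6⟩)) (.node 1 (.one ⟨1192, 0, 6⟩) (.one ⟨8328, 2, 4⟩))) (.node 2 (.node 1 (.one ⟨10369, 1, 4⟩) (.one ⟨7334, 0, 6⟩)) (.node 1 (.one ⟨16689, 2, 5⟩) (.one ⟨5794, 2, 4⟩)))))))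
def par8_12_13 : Arr Par :=
  (.node 32 (.node 16 (.node 8 (.node 4 (.node 2 (.node 1 (.one ⟨4902, 1, 2⟩) (.one ⟨1189, 0, 4⟩)) (.node 1 (.one ⟨4895, 1, 2⟩) (.one ⟨3429, 2, 7⟩))) (.node 2 (.node 1 (.one ⟨3822, 2, 2⟩) (.one ⟨2867, 2, 6⟩)) (.node 1 (.one ⟨4230, 2, 5⟩) (.one ⟨6655, 2, 2⟩)))) (.node 4 (.node 2 (.node 1 (.one ⟨16526, 1, 6⟩) (.one ⟨8442, 1, 5⟩)) (.node 1 (.one ⟨16529, 1, 6⟩) (.one ⟨8454, 1, 3⟩))) (.node 2 (.node 1 (.one ⟨16551, 1, 5⟩) (.one ⟨8476, 1, 3⟩)) (.node 1 (.one ⟨16500, 1, 2⟩) (.one ⟨10894, 1, 5⟩))))) (.node 8 (.node 4 (.node 2 (.node 1 (.one ⟨5649, 1, 6⟩) (.one ⟨11618, 0, 4⟩)) (.node 1 (.one ⟨13827, 2, 6⟩) (.one ⟨4537, 2, 6⟩))) (.node 2 (.node 1 (.one ⟨11760, 2, 3⟩) (.one ⟨14382, 1, 5⟩))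 (.node 1 (.one ⟨3274, 1, 7⟩) (.one ⟨17078, 0, 6⟩)))) (.node 4 (.node 2 (.node 1 (.one ⟨15944, 1, 4⟩) (.one ⟨15268, 1, 4⟩)) (.node 1 (.one ⟨11861, 2, 4⟩) (.one ⟨10717, 2, 5⟩))) (.node 2 (.node 1 (.one ⟨6669, 0, 6⟩) (.one ⟨7679, 1, 3⟩)) (.node 1 (.one ⟨1291, 0, 5⟩) (.one ⟨17098, 0, 1⟩)))))) (.node 16 (.node 8 (.node 4 (.node 2 (.node 1 (.one ⟨13004, 1, 3⟩) (.one ⟨858, 1, 2⟩)) (.node 1 (.one ⟨13330, 1, 6⟩) (.one ⟨10057, 1, 5⟩))) (.node 2 (.node 1 (.one ⟨1414, 2, 5⟩) (.one ⟨10395, 1, 4⟩)) (.node 1 (.one ⟨5352, 0, 5⟩) (.one ⟨14124, 1, 3⟩)))) (.node 4 (.node 2 (.node 1 (.one ⟨6658, 2, 3⟩) (.one ⟨11356, 2, 5⟩)) (.node 1 (.one ⟨13073, 1, 5⟩) (.one ⟨5961, 1, 7⟩))) (.node 2 (.node 1 (.one ⟨24, 1, 3⟩) (.one ⟨8388, 1,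 7⟩)) (.node 1 (.one ⟨2350, 2, 5⟩) (.one ⟨3194, 1, 2⟩))))) (.node 8 (.node 4 (.node 2 (.node 1 (.one ⟨9756, 2, 6⟩) (.one ⟨4920, 1, 3⟩)) (.node 1 (.one ⟨1358, 2, 5⟩) (.one ⟨6073, 1, 6⟩))) (.node 2 (.node 1 (.one ⟨1720, 0, 4⟩) (.one ⟨5506, 0, 5⟩)) (.node 1 (.one ⟨9911, 0, 4⟩) (.one ⟨11771, 1, 4⟩)))) (.node 4 (.node 2 (.node 1 (.one ⟨13589, 1, 6⟩) (.one ⟨225, 2, 6⟩)) (.node 1 (.one ⟨1397, 0, 2⟩) (.one ⟨15646, 1, 6⟩))) (.node 2 (.node 1 (.one ⟨14204, 1, 2⟩) (.one ⟨3988, 0, 3⟩)) (.node 1 (.one ⟨6545, 2, 3⟩) (.one ⟨13726, 1, 5⟩)))))))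
def par8_12_14 : Arr Par :=
  (.node 32 (.node 16 (.node 8 (.node 4 (.node 2 (.node 1 (.one ⟨26, 2, 4⟩) (.one ⟨2920, 2, 5⟩)) (.node 1 (.one ⟨4816, 2, 3⟩) (.one ⟨2070, 0, 6⟩))) (.node 2 (.node 1 (.one ⟨1415, 2, 5⟩) (.one ⟨5639, 1, 6⟩)) (.node 1 (.one ⟨4791, 2, 6⟩) (.one ⟨8383, 2, 3⟩)))) (.node 4 (.node 2 (.node 1 (.one ⟨15913, 1, 3⟩) (.one ⟨10679, 1, 3⟩)) (.node 1 (.one ⟨5641, 1, 4⟩) (.one ⟨4005, 2, 3⟩))) (.node 2 (.node 1 (.one ⟨4665, 1, 0⟩) (.one ⟨4153, 0, 5⟩)) (.node 1 (.one ⟨7329, 1, 3⟩) (.one ⟨3415, 2, 5⟩))))) (.node 8 (.node 4 (.node 2 (.node 1 (.one ⟨12031, 0, 5⟩) (.one ⟨2119, 1, 4⟩)) (.node 1 (.one ⟨16360, 1, 7⟩) (.one ⟨2939, 2, 5⟩))) (.node 2 (.node 1 (.one ⟨6963, 1, 3⟩) (.one ⟨5249, 1, 3⟩)) (.node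 1 (.one ⟨2722, 2, 6⟩) (.one ⟨4488, 2, 4⟩)))) (.node 4 (.node 2 (.node 1 (.one ⟨6284, 0, 5⟩) (.one ⟨1390, 0, 4⟩)) (.node 1 (.one ⟨6492, 1, 2⟩) (.one ⟨12977, 2, 5⟩))) (.node 2 (.node 1 (.one ⟨15085, 1, 2⟩) (.one ⟨6724, 1, 2⟩)) (.node 1 (.one ⟨2449, 0, 4⟩) (.one ⟨14522, 2, 4⟩)))))) (.node 16 (.node 8 (.node 4 (.node 2 (.node 1 (.one ⟨11753, 0, 7⟩) (.one ⟨12016, 0, 7⟩)) (.node 1 (.one ⟨13102, 1, 6⟩) (.one ⟨2640, 2, 4⟩))) (.node 2 (.node 1 (.one ⟨2949, 2, 3⟩) (.one ⟨15043, 2, 5⟩)) (.node 1 (.one ⟨14616, 2, 4⟩) (.one ⟨9083, 2, 5⟩)))) (.node 4 (.node 2 (.node 1 (.one ⟨12330, 2, 3⟩) (.one ⟨2425, 1, 3⟩)) (.node 1 (.one ⟨15205, 0, 4⟩) (.one ⟨14458, 1, 3⟩))) (.node 2 (.node 1 (.one ⟨10887, 1, 3⟩) (.one ⟨3310, 0, 4⟩))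 (.node 1 (.one ⟨5324, 2, 3⟩) (.one ⟨6465, 1, 4⟩))))) (.node 8 (.node 4 (.node 2 (.node 1 (.one ⟨9613, 1, 1⟩) (.one ⟨8060, 1, 4⟩)) (.node 1 (.one ⟨15914, 0, 5⟩) (.one ⟨16969, 0, 1⟩))) (.node 2 (.node 1 (.one ⟨2616, 0, 3⟩) (.one ⟨12771, 1, 4⟩)) (.node 1 (.one ⟨8734, 2, 5⟩) (.one ⟨2200, 0, 6⟩)))) (.node 4 (.node 2 (.node 1 (.one ⟨9017, 2, 5⟩) (.one ⟨10057, 2, 5⟩)) (.node 1 (.one ⟨8991, 2, 4⟩) (.one ⟨8128, 0, 4⟩))) (.node 2 (.node 1 (.one ⟨6831, 0, 5⟩) (.one ⟨947, 1, 7⟩)) (.node 1 (.one ⟨9073, 2, 4⟩) (.one ⟨4575, 1, 3⟩)))))))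
def par8_12_15 : Arr Par :=
  (.node 32 (.node 16 (.node 8 (.node 4 (.node 2 (.node 1 (.one ⟨11184, 0, 6⟩) (.one ⟨7538, 2, 6⟩)) (.node 1 (.one ⟨7490, 2, 6⟩) (.one ⟨7137, 2, 5⟩))) (.node 2 (.node 1 (.one ⟨7245, 2, 5⟩) (.one ⟨7806, 0, 3⟩)) (.node 1 (.one ⟨1924, 2, 5⟩) (.one ⟨15139, 1, 1⟩)))) (.node 4 (.node 2 (.node 1 (.one ⟨3177, 1, 6⟩) (.one ⟨2268, 2, 5⟩)) (.node 1 (.one ⟨5972, 1, 5⟩) (.one ⟨2212, 1, 6⟩))) (.node 2 (.node 1 (.one ⟨13644, 2, 5⟩) (.one ⟨7363, 1, 5⟩)) (.node 1 (.one ⟨5065, 2, 5⟩) (.one ⟨3970, 1, 6⟩))))) (.node 8 (.node 4 (.node 2 (.node 1 (.one ⟨8240, 1, 2⟩) (.one ⟨11339, 0, 3⟩)) (.node 1 (.one ⟨5301, 0, 6⟩) (.one ⟨1234, 2, 4⟩))) (.node 2 (.node 1 (.one ⟨16335, 1, 5⟩) (.one ⟨6964, 2, 2⟩)) (.node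 1 (.one ⟨9375, 1, 2⟩) (.one ⟨10231, 2, 3⟩)))) (.node 4 (.node 2 (.node 1 (.one ⟨10669, 2, 6⟩) (.one ⟨6332, 2, 2⟩)) (.node 1 (.one ⟨10344, 1, 3⟩) (.one ⟨14617, 2, 3⟩))) (.node 2 (.node 1 (.one ⟨16628, 1, 3⟩) (.one ⟨664, 2, 4⟩)) (.node 1 (.one ⟨2399, 2, 5⟩) (.one ⟨12251, 1, 5⟩)))))) (.node 16 (.node 8 (.node 4 (.node 2 (.node 1 (.one ⟨2198, 1, 7⟩) (.one ⟨16555, 1, 5⟩)) (.node 1 (.one ⟨7371, 1, 4⟩) (.one ⟨14549, 0, 4⟩))) (.node 2 (.node 1 (.one ⟨8424, 1, 2⟩) (.one ⟨10852, 2, 3⟩)) (.node 1 (.one ⟨4319, 1, 5⟩) (.one ⟨1118, 1, 7⟩)))) (.node 4 (.node 2 (.node 1 (.one ⟨16421, 1, 4⟩) (.one ⟨4372, 0, 4⟩)) (.node 1 (.one ⟨13094, 1, 3⟩) (.one ⟨16743, 2, 5⟩))) (.node 2 (.node 1 (.one ⟨8545, 2, 6⟩) (.one ⟨7640, 2, 5⟩)) (.node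 1 (.one ⟨15800, 2, 5⟩) (.one ⟨15368, 1, 4⟩))))) (.node 8 (.node 4 (.node 2 (.node 1 (.one ⟨11926, 2, 4⟩) (.one ⟨4575, 2, 3⟩)) (.node 1 (.one ⟨8549, 2, 5⟩) (.one ⟨16041, 0, 6⟩))) (.node 2 (.node 1 (.one ⟨3655, 1, 4⟩) (.one ⟨11810, 2, 5⟩)) (.node 1 (.one ⟨1396, 1, 7⟩) (.one ⟨15296, 2, 6⟩)))) (.node 4 (.node 2 (.node 1 (.one ⟨16538, 0, 4⟩) (.one ⟨11496, 1, 4⟩)) (.node 1 (.one ⟨2723, 2, 6⟩) (.one ⟨1560, 1, 6⟩))) (.node 2 (.node 1 (.one ⟨7010, 2, 6⟩) (.one ⟨9211, 2, 5⟩)) (.node 1 (.one ⟨8602, 2, 4⟩) (.one ⟨663, 1, 6⟩)))))))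
def par8_12 : Arr Par :=
  (.node 512 (.node 256 (.node 128 (.node 64 par8_12_0 par8_12_1) (.node 64 par8_12_2 par8_12_3)) (.node 128 (.node 64 par8_12_4 par8_12_5) (.node 64 par8_12_6 par8_12_7))) (.node 256 (.node 128 (.node 64 par8_12_8 par8_12_9) (.node 64 par8_12_10 par8_12_11)) (.node 128 (.node 64 par8_12_12 par8_12_13) (.node 64 par8_12_14 par8_12_15))))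
def par8_13_0 : Arr Par :=
  (.node 32 (.node 16 (.node 8 (.node 4 (.node 2 (.node 1 (.one ⟨14193, 0, 4⟩) (.one ⟨7600, 2, 5⟩)) (.node 1 (.one ⟨4969, 2, 4⟩) (.one ⟨7790, 1, 4⟩))) (.node 2 (.node 1 (.one ⟨16165, 1, 7⟩) (.one ⟨8482, 1, 6⟩)) (.node 1 (.one ⟨16617, 1, 7⟩) (.one ⟨14526, 2, 6⟩)))) (.node 4 (.node 2 (.node 1 (.one ⟨1590, 2, 6⟩) (.one ⟨12848, 1, 6⟩)) (.node 1 (.one ⟨928, 2, 1⟩) (.one ⟨5253, 0, 4⟩))) (.node 2 (.node 1 (.one ⟨4570, 2, 5⟩) (.one ⟨17098, 2, 1⟩)) (.node 1 (.one ⟨4969, 1, 4⟩) (.one ⟨14812, 1, 3⟩))))) (.node 8 (.node 4 (.node 2 (.node 1 (.one ⟨14428, 1, 3⟩) (.one ⟨16358, 0, 5⟩)) (.node 1 (.one ⟨11190, 0, 5⟩) (.one ⟨1431, 1, 1⟩))) (.node 2 (.node 1 (.one ⟨13686, 0, 4⟩) (.one ⟨11679, 0, 6⟩))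 (.node 1 (.one ⟨11179, 2, 4⟩) (.one ⟨10029, 2, 5⟩)))) (.node 4 (.node 2 (.node 1 (.one ⟨2364, 1, 4⟩) (.one ⟨2148, 1, 4⟩)) (.node 1 (.one ⟨12311, 2, 5⟩) (.one ⟨7004, 1, 3⟩))) (.node 2 (.node 1 (.one ⟨9460, 2, 4⟩) (.one ⟨12057, 2, 1⟩)) (.node 1 (.one ⟨7459, 1, 3⟩) (.one ⟨16991, 2, 4⟩)))))) (.node 16 (.node 8 (.node 4 (.node 2 (.node 1 (.one ⟨12411, 0, 2⟩) (.one ⟨11434, 2, 4⟩)) (.node 1 (.one ⟨14724, 1, 4⟩) (.one ⟨5085, 2, 2⟩))) (.node 2 (.node 1 (.one ⟨504, 2, 6⟩) (.one ⟨7151, 2, 5⟩)) (.node 1 (.one ⟨7602, 2, 5⟩) (.one ⟨14658, 0, 5⟩)))) (.node 4 (.node 2 (.node 1 (.one ⟨3636, 1, 3⟩) (.one ⟨9051, 0, 5⟩)) (.node 1 (.one ⟨1382, 2, 1⟩) (.one ⟨5674, 2, 4⟩))) (.node 2 (.node 1 (.one ⟨1833, 0, 5⟩) (.one ⟨10343, 1, 5⟩))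 (.node 1 (.one ⟨1464, 1, 3⟩) (.one ⟨2796, 1, 6⟩))))) (.node 8 (.node 4 (.node 2 (.node 1 (.one ⟨11055, 0, 5⟩) (.one ⟨4501, 2, 2⟩)) (.node 1 (.one ⟨14889, 2, 6⟩) (.one ⟨6282, 1, 4⟩))) (.node 2 (.node 1 (.one ⟨928, 0, 1⟩) (.one ⟨8139, 0, 6⟩)) (.node 1 (.one ⟨11768, 2, 5⟩) (.one ⟨3227, 1, 5⟩)))) (.node 4 (.node 2 (.node 1 (.one ⟨2638, 2, 4⟩) (.one ⟨11307, 1, 3⟩)) (.node 1 (.one ⟨7480, 0, 7⟩) (.one ⟨16859, 0, 7⟩))) (.node 2 (.node 1 (.one ⟨6236, 0, 7⟩) (.one ⟨2733, 2, 4⟩)) (.node 1 (.one ⟨2184, 2, 4⟩) (.one ⟨3662, 1, 4⟩)))))))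
def par8_13_1 : Arr Par :=
  (.node 32 (.node 16 (.node 8 (.node 4 (.node 2 (.node 1 (.one ⟨5227, 0, 5⟩) (.one ⟨6561, 2, 3⟩)) (.node 1 (.one ⟨8194, 2, 6⟩) (.one ⟨5127, 2, 4⟩))) (.node 2 (.node 1 (.one ⟨2387, 1, 7⟩) (.one ⟨9271, 2, 5⟩)) (.node 1 (.one ⟨11922, 2, 4⟩) (.one ⟨6386, 1, 4⟩)))) (.node 4 (.node 2 (.node 1 (.one ⟨10558, 2, 4⟩) (.one ⟨10426, 1, 5⟩)) (.node 1 (.one ⟨3419, 0, 4⟩) (.one ⟨16665, 1, 5⟩))) (.node 2 (.node 1 (.one ⟨5540, 2, 5⟩) (.one ⟨915, 0, 4⟩)) (.node 1 (.one ⟨3462, 2, 5⟩) (.one ⟨15601, 1, 5⟩))))) (.node 8 (.node 4 (.node 2 (.node 1 (.one ⟨4585, 2, 6⟩) (.one ⟨4584, 2, 5⟩)) (.node 1 (.one ⟨4583, 2, 5⟩) (.one ⟨6213, 0, 5⟩))) (.node 2 (.node 1 (.one ⟨15846, 1, 5⟩) (.one ⟨4588, 2, 4⟩)) (.node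 1 (.one ⟨4587, 2, 4⟩) (.one ⟨9525, 2, 5⟩)))) (.node 4 (.node 2 (.node 1 (.one ⟨12473, 1, 5⟩) (.one ⟨12115, 1, 3⟩)) (.node 1 (.one ⟨11477, 0, 5⟩) (.one ⟨12601, 2, 5⟩))) (.node 2 (.node 1 (.one ⟨12756, 1, 6⟩) (.one ⟨12998, 1, 5⟩)) (.node 1 (.one ⟨14827, 1, 1⟩) (.one ⟨6599, 2, 4⟩)))))) (.node 16 (.node 8 (.node 4 (.node 2 (.node 1 (.one ⟨15442, 0, 5⟩) (.one ⟨14062, 1, 3⟩)) (.node 1 (.one ⟨4641, 2, 6⟩) (.one ⟨4415, 1, 0⟩))) (.node 2 (.node 1 (.one ⟨10164, 1, 4⟩) (.one ⟨13223, 1, 6⟩)) (.node 1 (.one ⟨16148, 0, 7⟩) (.one ⟨4507, 1, 0⟩)))) (.node 4 (.node 2 (.node 1 (.one ⟨9622, 1, 3⟩) (.one ⟨5572, 0, 6⟩)) (.node 1 (.one ⟨10080, 1, 5⟩) (.one ⟨13146, 1, 5⟩))) (.node 2 (.node 1 (.one ⟨14055, 1, 4⟩) (.one ⟨16530, 2, 5⟩))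 (.node 1 (.one ⟨15656, 2, 6⟩) (.one ⟨16281, 2, 6⟩))))) (.node 8 (.node 4 (.node 2 (.node 1 (.one ⟨3891, 2, 5⟩) (.one ⟨13832, 2, 5⟩)) (.node 1 (.one ⟨6471, 0, 5⟩) (.one ⟨514, 2, 6⟩))) (.node 2 (.node 1 (.one ⟨5419, 0, 4⟩) (.one ⟨9024, 0, 5⟩)) (.node 1 (.one ⟨16219, 2, 4⟩) (.one ⟨619, 1, 7⟩)))) (.node 4 (.node 2 (.node 1 (.one ⟨2188, 2, 4⟩) (.one ⟨16279, 2, 6⟩)) (.node 1 (.one ⟨7772, 2, 4⟩) (.one ⟨9034, 1, 6⟩))) (.node 2 (.node 1 (.one ⟨9033, 1, 6⟩) (.one ⟨573, 1, 6⟩)) (.node 1 (.one ⟨547, 1, 3⟩) (.one ⟨12289, 1, 6⟩)))))))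
def par8_13_2 : Arr Par :=
  (.node 32 (.node 16 (.node 8 (.node 4 (.node 2 (.node 1 (.one ⟨8223, 0, 4⟩) (.one ⟨2768, 0, 4⟩)) (.node 1 (.one ⟨10600, 1, 4⟩) (.one ⟨12182, 2, 5⟩))) (.node 2 (.node 1 (.one ⟨6927, 0, 4⟩) (.one ⟨1539, 2, 4⟩)) (.node 1 (.one ⟨2603, 1, 5⟩) (.one ⟨7380, 1, 2⟩)))) (.node 4 (.node 2 (.node 1 (.one ⟨6231, 2, 6⟩) (.one ⟨3423, 2, 2⟩)) (.node 1 (.one ⟨5199, 1, 3⟩) (.one ⟨4425, 2, 4⟩))) (.node 2 (.node 1 (.one ⟨12181, 0, 3⟩) (.one ⟨2010, 1, 5⟩)) (.node 1 (.one ⟨8865, 2, 3⟩) (.one ⟨15538, 1, 3⟩))))) (.node 8 (.node 4 (.node 2 (.node 1 (.one ⟨2499, 2, 6⟩) (.one ⟨6246, 1, 4⟩)) (.node 1 (.one ⟨9218, 1, 4⟩) (.one ⟨2665, 1, 4⟩))) (.node 2 (.node 1 (.one ⟨9929, 2, 4⟩) (.one ⟨7451, 0, 3⟩)) (.node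 1 (.one ⟨6810, 1, 5⟩) (.one ⟨6818, 1, 2⟩)))) (.node 4 (.node 2 (.node 1 (.one ⟨3628, 1, 6⟩) (.one ⟨380, 0, 4⟩)) (.node 1 (.one ⟨12570, 2, 5⟩) (.one ⟨5380, 0, 6⟩))) (.node 2 (.node 1 (.one ⟨3897, 1, 2⟩) (.one ⟨7864, 2, 5⟩)) (.node 1 (.one ⟨15537, 1, 5⟩) (.one ⟨9863, 1, 5⟩)))))) (.node 16 (.node 8 (.node 4 (.node 2 (.node 1 (.one ⟨15728, 2, 3⟩) (.one ⟨4349, 2, 3⟩)) (.node 1 (.one ⟨7464, 1, 6⟩) (.one ⟨9072, 2, 4⟩))) (.node 2 (.node 1 (.one ⟨3293, 1, 6⟩) (.one ⟨4237, 2, 4⟩)) (.node 1 (.one ⟨450, 1, 7⟩) (.one ⟨16183, 1, 6⟩)))) (.node 4 (.node 2 (.node 1 (.one ⟨3090, 1, 5⟩) (.one ⟨2250, 1, 6⟩)) (.node 1 (.one ⟨16623, 1, 5⟩) (.one ⟨3843, 2, 6⟩))) (.node 2 (.node 1 (.one ⟨9849, 0, 4⟩) (.one ⟨3845, 2, 2⟩)) (.node 1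 (.one ⟨3846, 2, 6⟩) (.one ⟨8679, 2, 6⟩))))) (.node 8 (.node 4 (.node 2 (.node 1 (.one ⟨11994, 1, 4⟩) (.one ⟨14294, 1, 5⟩)) (.node 1 (.one ⟨9285, 0, 1⟩) (.one ⟨12646, 1, 5⟩))) (.node 2 (.node 1 (.one ⟨17115, 2, 5⟩) (.one ⟨7636, 1, 4⟩)) (.node 1 (.one ⟨4933, 2, 4⟩) (.one ⟨12332, 2, 4⟩)))) (.node 4 (.node 2 (.node 1 (.one ⟨7565, 1, 5⟩) (.one ⟨7712, 2, 4⟩)) (.node 1 (.one ⟨528, 1, 3⟩) (.one ⟨9576, 2, 6⟩))) (.node 2 (.node 1 (.one ⟨7564, 1, 6⟩) (.one ⟨6574, 2, 6⟩)) (.node 1 (.one ⟨44, 1, 5⟩) (.one ⟨13721, 0, 7⟩)))))))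
def par8_13_3 : Arr Par :=
  (.node 32 (.node 16 (.node 8 (.node 4 (.node 2 (.node 1 (.one ⟨13756, 2, 2⟩) (.one ⟨580, 2, 5⟩)) (.node 1 (.one ⟨16342, 1, 6⟩) (.one ⟨1263, 2, 5⟩))) (.node 2 (.node 1 (.one ⟨5192, 0, 6⟩) (.one ⟨1086, 2, 6⟩)) (.node 1 (.one ⟨4477, 1, 5⟩) (.one ⟨4426, 1, 0⟩)))) (.node 4 (.node 2 (.node 1 (.one ⟨5440, 0, 5⟩) (.one ⟨6550, 2, 5⟩)) (.node 1 (.one ⟨1662, 1, 3⟩) (.one ⟨4595, 1, 0⟩))) (.node 2 (.node 1 (.one ⟨5003, 1, 4⟩) (.one ⟨10549, 1, 4⟩)) (.node 1 (.one ⟨14264, 0, 7⟩) (.one ⟨16812, 1, 3⟩))))) (.node 8 (.node 4 (.node 2 (.node 1 (.one ⟨5615, 2, 5⟩) (.one ⟨2635, 0, 3⟩)) (.node 1 (.one ⟨15501, 2, 4⟩) (.one ⟨10373, 1, 4⟩))) (.node 2 (.node 1 (.one ⟨12568, 1, 7⟩) (.one ⟨8561, 1, 2⟩)) (.node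 1 (.one ⟨7221, 2, 5⟩) (.one ⟨5551, 2, 5⟩)))) (.node 4 (.node 2 (.node 1 (.one ⟨10140, 2, 6⟩) (.one ⟨17197, 1, 4⟩)) (.node 1 (.one ⟨8185, 1, 6⟩) (.one ⟨14171, 2, 6⟩))) (.node 2 (.node 1 (.one ⟨1265, 2, 5⟩) (.one ⟨15863, 1, 6⟩)) (.node 1 (.one ⟨13703, 0, 5⟩) (.one ⟨13463, 2, 3⟩)))))) (.node 16 (.node 8 (.node 4 (.node 2 (.node 1 (.one ⟨4544, 0, 4⟩) (.one ⟨2453, 1, 4⟩)) (.node 1 (.one ⟨4841, 2, 6⟩) (.one ⟨5750, 1, 4⟩))) (.node 2 (.node 1 (.one ⟨6184, 1, 5⟩) (.one ⟨5293, 1, 0⟩)) (.node 1 (.one ⟨15860, 2, 5⟩) (.one ⟨7870, 1, 6⟩)))) (.node 4 (.node 2 (.node 1 (.one ⟨813, 0, 6⟩) (.one ⟨4441, 2, 2⟩)) (.node 1 (.one ⟨10457, 0, 5⟩) (.one ⟨15830, 1, 5⟩))) (.node 2 (.node 1 (.one ⟨16580, 2, 4⟩) (.one ⟨1477, 1, 4⟩)) (.node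 1 (.one ⟨16814, 1, 3⟩) (.one ⟨3822, 1, 2⟩))))) (.node 8 (.node 4 (.node 2 (.node 1 (.one ⟨12401, 1, 3⟩) (.one ⟨6750, 1, 4⟩)) (.node 1 (.one ⟨15359, 1, 3⟩) (.one ⟨3085, 0, 4⟩))) (.node 2 (.node 1 (.one ⟨16668, 0, 4⟩) (.one ⟨15407, 2, 4⟩)) (.node 1 (.one ⟨14615, 1, 3⟩) (.one ⟨17017, 0, 6⟩)))) (.node 4 (.node 2 (.node 1 (.one ⟨16511, 1, 6⟩) (.one ⟨1457, 1, 4⟩)) (.node 1 (.one ⟨17016, 0, 4⟩) (.one ⟨17015, 0, 4⟩))) (.node 2 (.node 1 (.one ⟨1043, 0, 2⟩) (.one ⟨916, 0, 4⟩)) (.node 1 (.one ⟨17018, 0, 4⟩) (.one ⟨4662, 0, 3⟩)))))))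
def par8_13_4 : Arr Par :=
  (.node 32 (.node 16 (.node 8 (.node 4 (.node 2 (.node 1 (.one ⟨2118, 1, 4⟩) (.one ⟨10832, 1, 4⟩)) (.node 1 (.one ⟨11500, 0, 3⟩) (.one ⟨1478, 1, 4⟩))) (.node 2 (.node 1 (.one ⟨2208, 1, 5⟩) (.one ⟨2483, 2, 5⟩)) (.node 1 (.one ⟨453, 0, 3⟩) (.one ⟨1241, 2, 5⟩)))) (.node 4 (.node 2 (.node 1 (.one ⟨1987, 1, 5⟩) (.one ⟨13184, 0, 5⟩)) (.node 1 (.one ⟨3463, 1, 6⟩) (.one ⟨10133, 2, 6⟩))) (.node 2 (.node 1 (.one ⟨2190, 2, 6⟩) (.one ⟨13913, 0, 4⟩)) (.node 1 (.one ⟨1059, 1, 4⟩) (.one ⟨10023, 2, 5⟩))))) (.node 8 (.node 4 (.node 2 (.node 1 (.one ⟨15116, 2, 4⟩) (.one ⟨14869, 1, 5⟩)) (.node 1 (.one ⟨15108, 2, 4⟩) (.one ⟨792, 2, 5⟩))) (.node 2 (.node 1 (.one ⟨6783, 2, 5⟩) (.one ⟨1083, 2, 5⟩)) (.node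 1 (.one ⟨6792, 2, 3⟩) (.one ⟨7547, 1, 3⟩)))) (.node 4 (.node 2 (.node 1 (.one ⟨8882, 2, 6⟩) (.one ⟨10041, 2, 4⟩)) (.node 1 (.one ⟨13288, 2, 5⟩) (.one ⟨16557, 2, 4⟩))) (.node 2 (.node 1 (.one ⟨6588, 1, 2⟩) (.one ⟨6004, 1, 2⟩)) (.node 1 (.one ⟨11445, 0, 4⟩) (.one ⟨17059, 0, 4⟩)))))) (.node 16 (.node 8 (.node 4 (.node 2 (.node 1 (.one ⟨9405, 1, 3⟩) (.one ⟨3568, 1, 6⟩)) (.node 1 (.one ⟨5347, 1, 6⟩) (.one ⟨14163, 1, 6⟩))) (.node 2 (.node 1 (.one ⟨599, 0, 5⟩) (.one ⟨16669, 2, 7⟩)) (.node 1 (.one ⟨7855, 1, 4⟩) (.one ⟨953, 1, 7⟩)))) (.node 4 (.node 2 (.node 1 (.one ⟨14235, 2, 1⟩) (.one ⟨14299, 1, 3⟩)) (.node 1 (.one ⟨845, 1, 3⟩) (.one ⟨10021, 2, 4⟩))) (.node 2 (.node 1 (.one ⟨302, 1, 7⟩) (.one ⟨6039, 2, 5⟩)) (.node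 1 (.one ⟨14297, 1, 4⟩) (.one ⟨8535, 2, 4⟩))))) (.node 8 (.node 4 (.node 2 (.node 1 (.one ⟨14488, 2, 3⟩) (.one ⟨11948, 2, 3⟩)) (.node 1 (.one ⟨3183, 2, 3⟩) (.one ⟨13614, 2, 5⟩))) (.node 2 (.node 1 (.one ⟨4167, 1, 4⟩) (.one ⟨8325, 2, 5⟩)) (.node 1 (.one ⟨2279, 1, 4⟩) (.one ⟨2660, 0, 5⟩)))) (.node 4 (.node 2 (.node 1 (.one ⟨1366, 2, 2⟩) (.one ⟨11149, 2, 2⟩)) (.node 1 (.one ⟨3186, 2, 5⟩) (.one ⟨3228, 2, 3⟩))) (.node 2 (.node 1 (.one ⟨11080, 2, 2⟩) (.one ⟨336, 2, 3⟩)) (.node 1 (.one ⟨10781, 2, 3⟩) (.one ⟨6309, 1, 4⟩)))))))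
def par8_13_5 : Arr Par :=
  (.node 32 (.node 16 (.node 8 (.node 4 (.node 2 (.node 1 (.one ⟨16222, 2, 4⟩) (.one ⟨393, 2, 5⟩)) (.node 1 (.one ⟨1202, 2, 1⟩) (.one ⟨8326, 2, 5⟩))) (.node 2 (.node 1 (.one ⟨2530, 0, 5⟩) (.one ⟨6500, 0, 5⟩)) (.node 1 (.one ⟨10282, 2, 5⟩) (.one ⟨3138, 0, 5⟩)))) (.node 4 (.node 2 (.node 1 (.one ⟨4938, 1, 5⟩) (.one ⟨13553, 2, 5⟩)) (.node 1 (.one ⟨3338, 1, 6⟩) (.one ⟨16099, 2, 6⟩))) (.node 2 (.node 1 (.one ⟨4038, 0, 4⟩) (.one ⟨1720, 1, 4⟩)) (.node 1 (.one ⟨505, 2, 4⟩) (.one ⟨1887, 1, 4⟩))))) (.node 8 (.node 4 (.node 2 (.node 1 (.one ⟨8572, 2, 1⟩) (.one ⟨1873, 0, 2⟩)) (.node 1 (.one ⟨12148, 1, 4⟩) (.one ⟨9379, 2, 1⟩))) (.node 2 (.node 1 (.one ⟨11614, 1, 5⟩) (.one ⟨15397, 2, 3⟩)) (.node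 1 (.one ⟨1871, 0, 3⟩) (.one ⟨4732, 2, 4⟩)))) (.node 4 (.node 2 (.node 1 (.one ⟨4072, 1, 6⟩) (.one ⟨12353, 2, 5⟩)) (.node 1 (.one ⟨1159, 1, 3⟩) (.one ⟨5432, 2, 4⟩))) (.node 2 (.node 1 (.one ⟨4618, 2, 4⟩) (.one ⟨12772, 1, 3⟩)) (.node 1 (.one ⟨4053, 1, 5⟩) (.one ⟨5498, 2, 5⟩)))))) (.node 16 (.node 8 (.node 4 (.node 2 (.node 1 (.one ⟨7418, 2, 5⟩) (.one ⟨1260, 1, 6⟩)) (.node 1 (.one ⟨16017, 2, 5⟩) (.one ⟨7955, 0, 3⟩))) (.node 2 (.node 1 (.one ⟨16140, 2, 5⟩) (.one ⟨11276, 1, 5⟩)) (.node 1 (.one ⟨3505, 1, 6⟩) (.one ⟨16321, 1, 1⟩)))) (.node 4 (.node 2 (.node 1 (.one ⟨5749, 0, 4⟩) (.one ⟨15024, 2, 3⟩)) (.node 1 (.one ⟨6247, 0, 4⟩) (.one ⟨2621, 0, 3⟩))) (.node 2 (.node 1 (.one ⟨15610, 1, 4⟩) (.one ⟨343, 1, 5⟩)) (.node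 1 (.one ⟨12984, 2, 5⟩) (.one ⟨5556, 0, 4⟩))))) (.node 8 (.node 4 (.node 2 (.node 1 (.one ⟨15278, 1, 6⟩) (.one ⟨8400, 1, 2⟩)) (.node 1 (.one ⟨5456, 1, 5⟩) (.one ⟨9662, 2, 5⟩))) (.node 2 (.node 1 (.one ⟨4145, 2, 5⟩) (.one ⟨12314, 2, 5⟩)) (.node 1 (.one ⟨1680, 2, 3⟩) (.one ⟨16230, 0, 2⟩)))) (.node 4 (.node 2 (.node 1 (.one ⟨10317, 2, 5⟩) (.one ⟨1098, 1, 5⟩)) (.node 1 (.one ⟨10393, 2, 5⟩) (.one ⟨5908, 2, 3⟩))) (.node 2 (.node 1 (.one ⟨15000, 1, 6⟩) (.one ⟨5686, 2, 6⟩)) (.node 1 (.one ⟨5645, 0, 6⟩) (.one ⟨6051, 0, 3⟩)))))))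
def par8_13_6 : Arr Par :=
  (.node 32 (.node 16 (.node 8 (.node 4 (.node 2 (.node 1 (.one ⟨4706, 0, 3⟩) (.one ⟨8369, 0, 2⟩)) (.node 1 (.one ⟨17140, 1, 3⟩) (.one ⟨10873, 0, 3⟩))) (.node 2 (.node 1 (.one ⟨16164, 0, 3⟩) (.one ⟨11939, 0, 2⟩)) (.node 1 (.one ⟨14786, 0, 2⟩) (.one ⟨43, 2, 4⟩)))) (.node 4 (.node 2 (.node 1 (.one ⟨5581, 1, 4⟩) (.one ⟨7215, 1, 3⟩)) (.node 1 (.one ⟨11744, 2, 3⟩) (.one ⟨8598, 2, 5⟩))) (.node 2 (.node 1 (.one ⟨16717, 2, 5⟩) (.one ⟨3208, 1, 6⟩)) (.node 1 (.one ⟨16632, 1, 4⟩) (.one ⟨11934, 1, 5⟩))))) (.node 8 (.node 4 (.node 2 (.node 1 (.one ⟨11092, 1, 5⟩) (.one ⟨1336, 2, 1⟩)) (.node 1 (.one ⟨6473, 1, 5⟩) (.one ⟨16226, 1, 6⟩))) (.node 2 (.node 1 (.one ⟨8610, 0, 4⟩) (.one ⟨4264, 2, 6⟩)) (.node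 1 (.one ⟨1235, 1, 3⟩) (.one ⟨6639, 1, 4⟩)))) (.node 4 (.node 2 (.node 1 (.one ⟨15688, 2, 5⟩) (.one ⟨13357, 2, 6⟩)) (.node 1 (.one ⟨11839, 1, 3⟩) (.one ⟨12607, 1, 4⟩))) (.node 2 (.node 1 (.one ⟨11119, 1, 5⟩) (.one ⟨13250, 0, 7⟩)) (.node 1 (.one ⟨10108, 2, 4⟩) (.one ⟨1170, 1, 6⟩)))))) (.node 16 (.node 8 (.node 4 (.node 2 (.node 1 (.one ⟨16631, 1, 4⟩) (.one ⟨887, 0, 5⟩)) (.node 1 (.one ⟨9446, 2, 7⟩) (.one ⟨9886, 0, 6⟩))) (.node 2 (.node 1 (.one ⟨5325, 2, 3⟩) (.one ⟨1908, 0, 4⟩)) (.node 1 (.one ⟨1166, 1, 3⟩) (.one ⟨1095, 2, 5⟩)))) (.node 4 (.node 2 (.node 1 (.one ⟨13734, 2, 4⟩) (.one ⟨7743, 1, 3⟩)) (.node 1 (.one ⟨929, 1, 4⟩) (.one ⟨9884, 2, 6⟩))) (.node 2 (.node 1 (.one ⟨5737, 2, 6⟩) (.one ⟨262, 1, 4⟩)) (.node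 1 (.one ⟨2176, 2, 2⟩) (.one ⟨7458, 2, 4⟩))))) (.node 8 (.node 4 (.node 2 (.node 1 (.one ⟨14269, 2, 4⟩) (.one ⟨12894, 0, 5⟩)) (.node 1 (.one ⟨4334, 0, 2⟩) (.one ⟨5460, 1, 5⟩))) (.node 2 (.node 1 (.one ⟨3281, 1, 5⟩) (.one ⟨11727, 1, 6⟩)) (.node 1 (.one ⟨9294, 1, 5⟩) (.one ⟨6341, 1, 2⟩)))) (.node 4 (.node 2 (.node 1 (.one ⟨16079, 2, 6⟩) (.one ⟨6851, 0, 6⟩)) (.node 1 (.one ⟨11339, 1, 3⟩) (.one ⟨13971, 1, 2⟩))) (.node 2 (.node 1 (.one ⟨9566, 1, 1⟩) (.one ⟨6621, 1, 2⟩)) (.node 1 (.one ⟨2838, 1, 6⟩) (.one ⟨4034, 2, 4⟩)))))))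
def par8_13_7 : Arr Par :=
  (.node 32 (.node 16 (.node 8 (.node 4 (.node 2 (.node 1 (.one ⟨13803, 0, 5⟩) (.one ⟨689, 0, 4⟩)) (.node 1 (.one ⟨13024, 0, 4⟩) (.one ⟨8101, 1, 2⟩))) (.node 2 (.node 1 (.one ⟨16726, 0, 5⟩) (.one ⟨11734, 1, 2⟩)) (.node 1 (.one ⟨9135, 0, 4⟩) (.one ⟨14602, 2, 5⟩)))) (.node 4 (.node 2 (.node 1 (.one ⟨2625, 1, 5⟩) (.one ⟨5366, 1, 5⟩)) (.node 1 (.one ⟨5607, 2, 4⟩) (.one ⟨14280, 2, 5⟩))) (.node 2 (.node 1 (.one ⟨11937, 2, 6⟩) (.one ⟨4075, 2, 4⟩)) (.node 1 (.one ⟨10070, 1, 5⟩) (.one ⟨13510, 2, 6⟩))))) (.node 8 (.node 4 (.node 2 (.node 1 (.one ⟨35, 1, 2⟩) (.one ⟨9363, 1, 2⟩)) (.node 1 (.one ⟨9821, 0, 6⟩) (.one ⟨9364, 1, 5⟩))) (.node 2 (.node 1 (.one ⟨9365, 1, 5⟩) (.one ⟨78, 1, 1⟩)) (.node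 1 (.one ⟨70, 1, 1⟩) (.one ⟨10154, 0, 5⟩)))) (.node 4 (.node 2 (.node 1 (.one ⟨13232, 1, 2⟩) (.one ⟨1378, 1, 7⟩)) (.node 1 (.one ⟨13516, 2, 5⟩) (.one ⟨3110, 1, 6⟩))) (.node 2 (.node 1 (.one ⟨8631, 0, 5⟩) (.one ⟨16467, 0, 5⟩)) (.node 1 (.one ⟨12398, 1, 1⟩) (.one ⟨435, 1, 5⟩)))))) (.node 16 (.node 8 (.node 4 (.node 2 (.node 1 (.one ⟨13344, 2, 3⟩) (.one ⟨293, 1, 1⟩)) (.node 1 (.one ⟨11612, 2, 3⟩) (.one ⟨3214, 2, 4⟩))) (.node 2 (.node 1 (.one ⟨5837, 1, 6⟩) (.one ⟨423, 2, 5⟩)) (.node 1 (.one ⟨11966, 2, 6⟩) (.one ⟨9141, 0, 5⟩)))) (.node 4 (.node 2 (.node 1 (.one ⟨4325, 2, 4⟩) (.one ⟨16432, 0, 5⟩)) (.node 1 (.one ⟨1800, 1, 5⟩) (.one ⟨16810, 2, 4⟩))) (.node 2 (.node 1 (.one ⟨12832, 1, 6⟩) (.one ⟨12861, 0, 4⟩)) (.node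 1 (.one ⟨15747, 2, 4⟩) (.one ⟨2393, 1, 3⟩))))) (.node 8 (.node 4 (.node 2 (.node 1 (.one ⟨10495, 1, 5⟩) (.one ⟨13864, 2, 6⟩)) (.node 1 (.one ⟨16152, 2, 3⟩) (.one ⟨5292, 1, 4⟩))) (.node 2 (.node 1 (.one ⟨2339, 0, 3⟩) (.one ⟨3366, 2, 6⟩)) (.node 1 (.one ⟨5526, 2, 6⟩) (.one ⟨1518, 1, 6⟩)))) (.node 4 (.node 2 (.node 1 (.one ⟨13918, 1, 2⟩) (.one ⟨942, 2, 2⟩)) (.node 1 (.one ⟨6588, 0, 2⟩) (.one ⟨10859, 0, 7⟩))) (.node 2 (.node 1 (.one ⟨144, 2, 6⟩) (.one ⟨331, 2, 1⟩)) (.node 1 (.one ⟨458, 2, 2⟩) (.one ⟨2461, 1, 4⟩)))))))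
def par8_13_8 : Arr Par :=
  (.node 32 (.node 16 (.node 8 (.node 4 (.node 2 (.node 1 (.one ⟨6563, 1, 5⟩) (.one ⟨3542, 0, 4⟩)) (.node 1 (.one ⟨8874, 2, 4⟩) (.one ⟨6084, 1, 5⟩))) (.node 2 (.node 1 (.one ⟨16430, 2, 5⟩) (.one ⟨4387, 1, 3⟩)) (.node 1 (.one ⟨8174, 1, 4⟩) (.one ⟨297, 1, 5⟩)))) (.node 4 (.node 2 (.node 1 (.one ⟨5966, 1, 4⟩) (.one ⟨967, 2, 6⟩)) (.node 1 (.one ⟨12163, 0, 4⟩) (.one ⟨5812, 1, 6⟩))) (.node 2 (.node 1 (.one ⟨8219, 2, 5⟩) (.one ⟨9303, 1, 4⟩)) (.node 1 (.one ⟨13230, 0, 4⟩) (.one ⟨15888, 1, 3⟩))))) (.node 8 (.node 4 (.node 2 (.node 1 (.one ⟨13817, 0, 3⟩) (.one ⟨10963, 0, 7⟩)) (.node 1 (.one ⟨2692, 2, 3⟩) (.one ⟨1200, 1, 3⟩))) (.node 2 (.node 1 (.one ⟨15393, 1, 3⟩) (.one ⟨9003, 2, 4⟩)) (.node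 1 (.one ⟨9619, 2, 3⟩) (.one ⟨5151, 2, 7⟩)))) (.node 4 (.node 2 (.node 1 (.one ⟨1813, 1, 4⟩) (.one ⟨8418, 0, 6⟩)) (.node 1 (.one ⟨14474, 0, 7⟩) (.one ⟨15439, 1, 5⟩))) (.node 2 (.node 1 (.one ⟨1256, 1, 5⟩) (.one ⟨13335, 0, 6⟩)) (.node 1 (.one ⟨1220, 0, 6⟩) (.one ⟨2060, 0, 7⟩)))))) (.node 16 (.node 8 (.node 4 (.node 2 (.node 1 (.one ⟨12327, 2, 3⟩) (.one ⟨2891, 1, 2⟩)) (.node 1 (.one ⟨9347, 2, 4⟩) (.one ⟨477, 1, 3⟩))) (.node 2 (.node 1 (.one ⟨1105, 2, 5⟩) (.one ⟨14708, 1, 5⟩)) (.node 1 (.one ⟨13463, 1, 3⟩) (.one ⟨8991, 1, 4⟩)))) (.node 4 (.node 2 (.node 1 (.one ⟨7395, 1, 5⟩) (.one ⟨17042, 1, 5⟩)) (.node 1 (.one ⟨15446, 1, 4⟩) (.one ⟨3656, 0, 4⟩))) (.node 2 (.node 1 (.one ⟨9002, 1, 3⟩) (.one ⟨9142, 0, 1⟩)) (.node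 1 (.one ⟨6189, 2, 5⟩) (.one ⟨16375, 0, 4⟩))))) (.node 8 (.node 4 (.node 2 (.node 1 (.one ⟨10385, 2, 4⟩) (.one ⟨10429, 0, 4⟩)) (.node 1 (.one ⟨10171, 0, 4⟩) (.one ⟨6947, 2, 6⟩))) (.node 2 (.node 1 (.one ⟨16011, 2, 6⟩) (.one ⟨8054, 0, 3⟩)) (.node 1 (.one ⟨12810, 2, 4⟩) (.one ⟨10881, 2, 2⟩)))) (.node 4 (.node 2 (.node 1 (.one ⟨5903, 1, 6⟩) (.one ⟨9566, 0, 1⟩)) (.node 1 (.one ⟨13951, 1, 6⟩) (.one ⟨2018, 1, 6⟩))) (.node 2 (.node 1 (.one ⟨9307, 1, 1⟩) (.one ⟨1081, 2, 5⟩)) (.node 1 (.one ⟨11490, 0, 6⟩) (.one ⟨471, 2, 4⟩)))))))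
def par8_13_9 : Arr Par :=
  (.node 32 (.node 16 (.node 8 (.node 4 (.node 2 (.node 1 (.one ⟨603, 2, 1⟩) (.one ⟨427, 2, 5⟩)) (.node 1 (.one ⟨777, 2, 1⟩) (.one ⟨4363, 1, 0⟩))) (.node 2 (.node 1 (.one ⟨735, 2, 3⟩) (.one ⟨528, 2, 3⟩)) (.node 1 (.one ⟨695, 2, 5⟩) (.one ⟨13071, 1, 5⟩)))) (.node 4 (.node 2 (.node 1 (.one ⟨5759, 1, 4⟩) (.one ⟨17180, 2, 5⟩)) (.node 1 (.one ⟨311, 0, 7⟩) (.one ⟨4833, 1, 6⟩))) (.node 2 (.node 1 (.one ⟨4388, 2, 5⟩) (.one ⟨10551, 1, 4⟩)) (.node 1 (.one ⟨7574, 2, 4⟩) (.one ⟨12198, 2, 5⟩))))) (.node 8 (.node 4 (.node 2 (.node 1 (.one ⟨4191, 0, 5⟩) (.one ⟨13516, 1, 5⟩)) (.node 1 (.one ⟨5155, 2, 6⟩) (.one ⟨2058, 2, 4⟩))) (.node 2 (.node 1 (.one ⟨5512, 2, 5⟩) (.one ⟨12374, 2, 6⟩)) (.node 1 (.one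 ⟨10965, 2, 5⟩) (.one ⟨15397, 1, 3⟩)))) (.node 4 (.node 2 (.node 1 (.one ⟨12111, 2, 5⟩) (.one ⟨5321, 2, 3⟩)) (.node 1 (.one ⟨9774, 1, 6⟩) (.one ⟨11118, 2, 5⟩))) (.node 2 (.node 1 (.one ⟨6783, 1, 5⟩) (.one ⟨11757, 2, 5⟩)) (.node 1 (.one ⟨9565, 0, 1⟩) (.one ⟨15305, 1, 3⟩)))))) (.node 16 (.node 8 (.node 4 (.node 2 (.node 1 (.one ⟨15990, 0, 6⟩) (.one ⟨16738, 0, 4⟩)) (.node 1 (.one ⟨1445, 1, 7⟩) (.one ⟨6724, 2, 2⟩))) (.node 2 (.node 1 (.one ⟨1663, 1, 2⟩) (.one ⟨15192, 1, 2⟩)) (.node 1 (.one ⟨6396, 1, 7⟩) (.one ⟨10177, 2, 4⟩)))) (.node 4 (.node 2 (.node 1 (.one ⟨3566, 1, 5⟩) (.one ⟨1779, 1, 5⟩)) (.node 1 (.one ⟨13552, 2, 4⟩) (.one ⟨13732, 0, 4⟩))) (.node 2 (.node 1 (.one ⟨9550, 0, 5⟩) (.one ⟨1833, 1, 5⟩)) (.node 1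 (.one ⟨11609, 1, 6⟩) (.one ⟨7141, 2, 6⟩))))) (.node 8 (.node 4 (.node 2 (.node 1 (.one ⟨7041, 0, 4⟩) (.one ⟨8999, 2, 5⟩)) (.node 1 (.one ⟨13563, 1, 5⟩) (.one ⟨1555, 1, 3⟩))) (.node 2 (.node 1 (.one ⟨2629, 1, 3⟩) (.one ⟨9734, 2, 7⟩)) (.node 1 (.one ⟨5477, 1, 4⟩) (.one ⟨12482, 2, 1⟩)))) (.node 4 (.node 2 (.node 1 (.one ⟨4980, 2, 5⟩) (.one ⟨4981, 2, 5⟩)) (.node 1 (.one ⟨12480, 2, 1⟩) (.one ⟨4975, 2, 5⟩))) (.node 2 (.node 1 (.one ⟨12486, 2, 1⟩) (.one ⟨12484, 2, 1⟩)) (.node 1 (.one ⟨11864, 1, 4⟩) (.one ⟨10583, 2, 5⟩)))))))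
def par8_13_10 : Arr Par :=
  (.node 32 (.node 16 (.node 8 (.node 4 (.node 2 (.node 1 (.one ⟨8071, 1, 5⟩) (.one ⟨7736, 1, 6⟩)) (.node 1 (.one ⟨9292, 1, 1⟩) (.one ⟨13428, 2, 5⟩))) (.node 2 (.node 1 (.one ⟨8812, 1, 5⟩) (.one ⟨9076, 1, 5⟩)) (.node 1 (.one ⟨2238, 2, 5⟩) (.one ⟨698, 1, 4⟩)))) (.node 4 (.node 2 (.node 1 (.one ⟨9905, 2, 5⟩) (.one ⟨15024, 1, 3⟩)) (.node 1 (.one ⟨15023, 1, 3⟩) (.one ⟨10467, 0, 5⟩))) (.node 2 (.node 1 (.one ⟨9553, 0, 5⟩) (.one ⟨508, 1, 5⟩)) (.node 1 (.one ⟨478, 1, 4⟩) (.one ⟨1134, 1, 2⟩))))) (.node 8 (.node 4 (.node 2 (.node 1 (.one ⟨3769, 0, 7⟩) (.one ⟨1130, 1, 3⟩)) (.node 1 (.one ⟨1129, 1, 2⟩) (.one ⟨602, 1, 1⟩))) (.node 2 (.node 1 (.one ⟨584, 1, 5⟩) (.one ⟨82, 1, 1⟩)) (.node 1 (.one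 ⟨15981, 0, 5⟩) (.one ⟨5948, 2, 4⟩)))) (.node 4 (.node 2 (.node 1 (.one ⟨1101, 1, 7⟩) (.one ⟨14157, 0, 2⟩)) (.node 1 (.one ⟨11178, 2, 5⟩) (.one ⟨15016, 2, 6⟩))) (.node 2 (.node 1 (.one ⟨6132, 2, 4⟩) (.one ⟨4710, 1, 5⟩)) (.node 1 (.one ⟨6680, 1, 3⟩) (.one ⟨2245, 0, 3⟩)))))) (.node 16 (.node 8 (.node 4 (.node 2 (.node 1 (.one ⟨14091, 2, 3⟩) (.one ⟨12220, 0, 2⟩)) (.node 1 (.one ⟨9450, 1, 4⟩) (.one ⟨11722, 0, 5⟩))) (.node 2 (.node 1 (.one ⟨11710, 1, 5⟩) (.one ⟨11318, 1, 7⟩)) (.node 1 (.one ⟨13128, 2, 7⟩) (.one ⟨10238, 1, 2⟩)))) (.node 4 (.node 2 (.node 1 (.one ⟨3946, 2, 6⟩) (.one ⟨9052, 0, 6⟩)) (.node 1 (.one ⟨6580, 0, 4⟩) (.one ⟨9554, 0, 5⟩))) (.node 2 (.node 1 (.one ⟨5633, 1, 5⟩) (.one ⟨3901, 2, 5⟩)) (.node 1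 (.one ⟨13842, 1, 4⟩) (.one ⟨8056, 0, 4⟩))))) (.node 8 (.node 4 (.node 2 (.node 1 (.one ⟨3533, 0, 4⟩) (.one ⟨691, 0, 5⟩)) (.node 1 (.one ⟨5983, 0, 4⟩) (.one ⟨7938, 2, 5⟩))) (.node 2 (.node 1 (.one ⟨11399, 1, 5⟩) (.one ⟨4740, 2, 6⟩)) (.node 1 (.one ⟨15153, 1, 4⟩) (.one ⟨1171, 1, 3⟩)))) (.node 4 (.node 2 (.node 1 (.one ⟨7098, 1, 3⟩) (.one ⟨17005, 0, 4⟩)) (.node 1 (.one ⟨3509, 0, 4⟩) (.one ⟨16814, 2, 3⟩))) (.node 2 (.node 1 (.one ⟨9651, 1, 3⟩) (.one ⟨15152, 0, 4⟩)) (.node 1 (.one ⟨15234, 1, 3⟩) (.one ⟨10831, 0, 3⟩)))))))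
def par8_13_11 : Arr Par :=
  (.node 32 (.node 16 (.node 8 (.node 4 (.node 2 (.node 1 (.one ⟨5843, 2, 4⟩) (.one ⟨15350, 2, 7⟩)) (.node 1 (.one ⟨15235, 1, 3⟩) (.one ⟨2716, 2, 4⟩))) (.node 2 (.node 1 (.one ⟨10781, 1, 3⟩) (.one ⟨13752, 1, 7⟩)) (.node 1 (.one ⟨8617, 0, 4⟩) (.one ⟨12006, 1, 5⟩)))) (.node 4 (.node 2 (.node 1 (.one ⟨303, 2, 5⟩) (.one ⟨5762, 1, 4⟩)) (.node 1 (.one ⟨1441, 0, 5⟩) (.one ⟨10197, 2, 4⟩))) (.node 2 (.node 1 (.one ⟨15236, 1, 4⟩) (.one ⟨16203, 1, 4⟩)) (.node 1 (.one ⟨4836, 1, 4⟩) (.one ⟨15679, 2, 4⟩))))) (.node 8 (.node 4 (.node 2 (.node 1 (.one ⟨5040, 1, 2⟩) (.one ⟨11970, 0, 5⟩)) (.node 1 (.one ⟨9462, 0, 6⟩) (.one ⟨7425, 1, 2⟩))) (.node 2 (.node 1 (.one ⟨7341, 0, 3⟩) (.one ⟨9805, 1, 5⟩))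 (.node 1 (.one ⟨2898, 2, 6⟩) (.one ⟨5038, 0, 4⟩)))) (.node 4 (.node 2 (.node 1 (.one ⟨2087, 1, 2⟩) (.one ⟨4001, 1, 5⟩)) (.node 1 (.one ⟨9799, 1, 5⟩) (.one ⟨2574, 1, 7⟩))) (.node 2 (.node 1 (.one ⟨1457, 0, 4⟩) (.one ⟨10362, 1, 6⟩)) (.node 1 (.one ⟨16471, 0, 4⟩) (.one ⟨8001, 1, 6⟩)))))) (.node 16 (.node 8 (.node 4 (.node 2 (.node 1 (.one ⟨2538, 2, 4⟩) (.one ⟨17087, 1, 5⟩)) (.node 1 (.one ⟨3383, 1, 6⟩) (.one ⟨9551, 1, 7⟩))) (.node 2 (.node 1 (.one ⟨7808, 1, 2⟩) (.one ⟨3364, 1, 6⟩)) (.node 1 (.one ⟨7516, 2, 4⟩) (.one ⟨12324, 2, 3⟩)))) (.node 4 (.node 2 (.node 1 (.one ⟨15863, 2, 6⟩) (.one ⟨17093, 1, 3⟩)) (.node 1 (.one ⟨7681, 2, 2⟩) (.one ⟨16110, 2, 5⟩))) (.node 2 (.node 1 (.one ⟨9188, 1, 2⟩) (.one ⟨7870, 2, 6⟩))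 (.node 1 (.one ⟨4073, 2, 2⟩) (.one ⟨1573, 1, 5⟩))))) (.node 8 (.node 4 (.node 2 (.node 1 (.one ⟨5790, 2, 5⟩) (.one ⟨11013, 1, 5⟩)) (.node 1 (.one ⟨13734, 1, 4⟩) (.one ⟨6421, 2, 6⟩))) (.node 2 (.node 1 (.one ⟨11435, 2, 6⟩) (.one ⟨11749, 1, 4⟩)) (.node 1 (.one ⟨2303, 2, 5⟩) (.one ⟨1511, 2, 4⟩)))) (.node 4 (.node 2 (.node 1 (.one ⟨14634, 2, 4⟩) (.one ⟨16423, 1, 5⟩)) (.node 1 (.one ⟨11308, 2, 3⟩) (.one ⟨9377, 1, 2⟩))) (.node 2 (.node 1 (.one ⟨8292, 1, 5⟩) (.one ⟨15613, 1, 3⟩)) (.node 1 (.one ⟨4740, 1, 6⟩) (.one ⟨16256, 1, 5⟩)))))))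
def par8_13_12 : Arr Par :=
  (.node 32 (.node 16 (.node 8 (.node 4 (.node 2 (.node 1 (.one ⟨8136, 1, 6⟩) (.one ⟨1450, 1, 7⟩)) (.node 1 (.one ⟨9769, 1, 6⟩) (.one ⟨6099, 1, 6⟩))) (.node 2 (.node 1 (.one ⟨14235, 1, 1⟩) (.one ⟨14135, 2, 7⟩)) (.node 1 (.one ⟨2998, 2, 4⟩) (.one ⟨14408, 2, 5⟩)))) (.node 4 (.node 2 (.node 1 (.one ⟨2319, 2, 4⟩) (.one ⟨7319, 2, 5⟩)) (.node 1 (.one ⟨11335, 2, 5⟩) (.one ⟨12122, 1, 2⟩))) (.node 2 (.node 1 (.one ⟨179, 2, 4⟩) (.one ⟨12336, 1, 4⟩)) (.node 1 (.one ⟨10897, 2, 5⟩) (.one ⟨15008, 1, 6⟩))))) (.node 8 (.node 4 (.node 2 (.node 1 (.one ⟨6259, 2, 5⟩) (.one ⟨10381, 1, 6⟩)) (.node 1 (.one ⟨9407, 0, 7⟩) (.one ⟨9430, 1, 1⟩))) (.node 2 (.node 1 (.one ⟨14497, 1, 6⟩) (.one ⟨9243, 2, 5⟩))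 (.node 1 (.one ⟨11110, 1, 4⟩) (.one ⟨4567, 2, 5⟩)))) (.node 4 (.node 2 (.node 1 (.one ⟨15146, 2, 5⟩) (.one ⟨597, 2, 4⟩)) (.node 1 (.one ⟨16143, 2, 5⟩) (.one ⟨8107, 0, 3⟩))) (.node 2 (.node 1 (.one ⟨4648, 2, 5⟩) (.one ⟨16120, 2, 4⟩)) (.node 1 (.one ⟨1349, 2, 5⟩) (.one ⟨16685, 2, 6⟩)))))) (.node 16 (.node 8 (.node 4 (.node 2 (.node 1 (.one ⟨11207, 1, 5⟩) (.one ⟨9411, 0, 7⟩)) (.node 1 (.one ⟨8036, 2, 6⟩) (.one ⟨11642, 2, 5⟩))) (.node 2 (.node 1 (.one ⟨10594, 1, 5⟩) (.one ⟨2928, 1, 4⟩)) (.node 1 (.one ⟨4672, 2, 5⟩) (.one ⟨5749, 1, 4⟩)))) (.node 4 (.node 2 (.node 1 (.one ⟨9937, 1, 3⟩) (.one ⟨2670, 1, 4⟩)) (.node 1 (.one ⟨7063, 2, 5⟩) (.one ⟨11653, 2, 6⟩))) (.node 2 (.node 1 (.one ⟨12301, 0, 2⟩) (.one ⟨10494, 1,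 6⟩)) (.node 1 (.one ⟨6487, 1, 2⟩) (.one ⟨2015, 1, 6⟩))))) (.node 8 (.node 4 (.node 2 (.node 1 (.one ⟨2174, 1, 4⟩) (.one ⟨11239, 0, 5⟩)) (.node 1 (.one ⟨1277, 2, 4⟩) (.one ⟨3928, 1, 2⟩))) (.node 2 (.node 1 (.one ⟨2182, 2, 2⟩) (.one ⟨11384, 0, 5⟩)) (.node 1 (.one ⟨4474, 1, 6⟩) (.one ⟨16267, 1, 6⟩)))) (.node 4 (.node 2 (.node 1 (.one ⟨15825, 2, 3⟩) (.one ⟨1870, 0, 2⟩)) (.node 1 (.one ⟨16748, 0, 3⟩) (.one ⟨10019, 1, 5⟩))) (.node 2 (.node 1 (.one ⟨3041, 1, 6⟩) (.one ⟨6932, 0, 3⟩)) (.node 1 (.one ⟨13053, 1, 3⟩) (.one ⟨8384, 1, 3⟩)))))))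
def par8_13_13 : Arr Par :=
  (.node 32 (.node 16 (.node 8 (.node 4 (.node 2 (.node 1 (.one ⟨4048, 2, 1⟩) (.one ⟨16946, 2, 6⟩)) (.node 1 (.one ⟨3060, 0, 4⟩) (.one ⟨2394, 1, 4⟩))) (.node 2 (.node 1 (.one ⟨13338, 0, 6⟩) (.one ⟨1810, 2, 2⟩)) (.node 1 (.one ⟨16583, 1, 4⟩) (.one ⟨9882, 0, 3⟩)))) (.node 4 (.node 2 (.node 1 (.one ⟨13169, 2, 4⟩) (.one ⟨4655, 1, 3⟩)) (.node 1 (.one ⟨4787, 1, 4⟩) (.one ⟨1877, 2, 3⟩))) (.node 2 (.node 1 (.one ⟨5997, 2, 5⟩) (.one ⟨9173, 2, 1⟩)) (.node 1 (.one ⟨13741, 2, 5⟩) (.one ⟨663, 2, 6⟩))))) (.node 8 (.node 4 (.node 2 (.node 1 (.one ⟨17029, 2, 3⟩) (.one ⟨4583, 1, 5⟩)) (.node 1 (.one ⟨1456, 1, 4⟩) (.one ⟨15515, 0, 5⟩))) (.node 2 (.node 1 (.one ⟨17012, 2, 3⟩) (.one ⟨15443, 0, 4⟩)) (.node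 1 (.one ⟨5404, 1, 5⟩) (.one ⟨4220, 1, 4⟩)))) (.node 4 (.node 2 (.node 1 (.one ⟨4200, 1, 4⟩) (.one ⟨12216, 1, 4⟩)) (.node 1 (.one ⟨12328, 1, 5⟩) (.one ⟨12248, 1, 5⟩))) (.node 2 (.node 1 (.one ⟨8540, 2, 4⟩) (.one ⟨4252, 1, 5⟩)) (.node 1 (.one ⟨4159, 2, 5⟩) (.one ⟨11133, 2, 5⟩)))))) (.node 16 (.node 8 (.node 4 (.node 2 (.node 1 (.one ⟨3890, 2, 5⟩) (.one ⟨1961, 2, 5⟩)) (.node 1 (.one ⟨13283, 2, 5⟩) (.one ⟨1508, 0, 5⟩))) (.node 2 (.node 1 (.one ⟨14309, 0, 4⟩) (.one ⟨4368, 2, 6⟩)) (.node 1 (.one ⟨10883, 2, 3⟩) (.one ⟨4913, 2, 4⟩)))) (.node 4 (.node 2 (.node 1 (.one ⟨4911, 2, 5⟩) (.one ⟨426, 1, 3⟩)) (.node 1 (.one ⟨4917, 2, 6⟩) (.one ⟨12219, 1, 4⟩))) (.node 2 (.node 1 (.one ⟨4916, 2, 4⟩) (.one ⟨5934, 0, 4⟩)) (.node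 1 (.one ⟨8847, 1, 5⟩) (.one ⟨7757, 1, 2⟩))))) (.node 8 (.node 4 (.node 2 (.node 1 (.one ⟨14137, 2, 3⟩) (.one ⟨12417, 2, 3⟩)) (.node 1 (.one ⟨10561, 2, 3⟩) (.one ⟨7908, 2, 5⟩))) (.node 2 (.node 1 (.one ⟨14568, 1, 6⟩) (.one ⟨8732, 0, 4⟩)) (.node 1 (.one ⟨2670, 2, 4⟩) (.one ⟨4052, 0, 5⟩)))) (.node 4 (.node 2 (.node 1 (.one ⟨3947, 0, 5⟩) (.one ⟨8361, 1, 5⟩)) (.node 1 (.one ⟨7754, 1, 5⟩) (.one ⟨2723, 1, 6⟩))) (.node 2 (.node 1 (.one ⟨12480, 0, 1⟩) (.one ⟨1741, 0, 5⟩)) (.node 1 (.one ⟨4672, 1, 0⟩) (.one ⟨11906, 1, 4⟩)))))))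
def par8_13_14 : Arr Par :=
  (.node 32 (.node 16 (.node 8 (.node 4 (.node 2 (.node 1 (.one ⟨12543, 1, 3⟩) (.one ⟨1150, 2, 3⟩)) (.node 1 (.one ⟨6496, 2, 4⟩) (.one ⟨15241, 0, 5⟩))) (.node 2 (.node 1 (.one ⟨325, 1, 2⟩) (.one ⟨11141, 1, 6⟩)) (.node 1 (.one ⟨11767, 0, 5⟩) (.one ⟨2589, 2, 4⟩)))) (.node 4 (.node 2 (.node 1 (.one ⟨12085, 0, 6⟩) (.one ⟨101, 1, 5⟩)) (.node 1 (.one ⟨3687, 2, 5⟩) (.one ⟨11297, 1, 5⟩))) (.node 2 (.node 1 (.one ⟨1608, 0, 4⟩) (.one ⟨3787, 2, 5⟩)) (.node 1 (.one ⟨10970, 1, 4⟩) (.one ⟨1150, 1, 3⟩))))) (.node 8 (.node 4 (.node 2 (.node 1 (.one ⟨1249, 2, 1⟩) (.one ⟨16837, 1, 6⟩)) (.node 1 (.one ⟨35, 2, 2⟩) (.one ⟨15340, 2, 7⟩))) (.node 2 (.node 1 (.one ⟨13713, 1, 2⟩) (.one ⟨7758, 1, 4⟩)) (.node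 1 (.one ⟨5147, 1, 4⟩) (.one ⟨17095, 2, 4⟩)))) (.node 4 (.node 2 (.node 1 (.one ⟨17197, 2, 4⟩) (.one ⟨7753, 1, 5⟩)) (.node 1 (.one ⟨11702, 2, 4⟩) (.one ⟨4238, 1, 0⟩))) (.node 2 (.node 1 (.one ⟨13872, 1, 5⟩) (.one ⟨13892, 1, 4⟩)) (.node 1 (.one ⟨5873, 1, 4⟩) (.one ⟨345, 1, 4⟩)))))) (.node 16 (.node 8 (.node 4 (.node 2 (.node 1 (.one ⟨3714, 1, 5⟩) (.one ⟨5290, 1, 6⟩)) (.node 1 (.one ⟨3417, 1, 5⟩) (.one ⟨7509, 2, 6⟩))) (.node 2 (.node 1 (.one ⟨7510, 2, 5⟩) (.one ⟨2920, 1, 5⟩)) (.node 1 (.one ⟨4086, 0, 6⟩) (.one ⟨8653, 0, 5⟩)))) (.node 4 (.node 2 (.node 1 (.one ⟨2262, 1, 5⟩) (.one ⟨2422, 1, 4⟩)) (.node 1 (.one ⟨9604, 1, 5⟩) (.one ⟨13276, 2, 4⟩))) (.node 2 (.node 1 (.one ⟨9361, 2, 6⟩) (.one ⟨10315, 1, 5⟩)) (.node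 1 (.one ⟨1717, 1, 4⟩) (.one ⟨7165, 0, 5⟩))))) (.node 8 (.node 4 (.node 2 (.node 1 (.one ⟨12420, 2, 4⟩) (.one ⟨2110, 1, 4⟩)) (.node 1 (.one ⟨10604, 1, 5⟩) (.one ⟨1494, 2, 6⟩))) (.node 2 (.node 1 (.one ⟨14604, 1, 4⟩) (.one ⟨7642, 2, 4⟩)) (.node 1 (.one ⟨1193, 1, 5⟩) (.one ⟨5015, 0, 6⟩)))) (.node 4 (.node 2 (.node 1 (.one ⟨6293, 2, 6⟩) (.one ⟨13043, 1, 3⟩)) (.node 1 (.one ⟨8666, 1, 5⟩) (.one ⟨16385, 1, 2⟩))) (.node 2 (.node 1 (.one ⟨4454, 1, 5⟩) (.one ⟨10102, 0, 3⟩)) (.node 1 (.one ⟨13028, 1, 6⟩) (.one ⟨10671, 2, 5⟩)))))))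
def par8_13_15 : Arr Par :=
  (.node 32 (.node 16 (.node 8 (.node 4 (.node 2 (.node 1 (.one ⟨5495, 2, 5⟩) (.one ⟨14957, 1, 5⟩)) (.node 1 (.one ⟨15431, 2, 6⟩) (.one ⟨10642, 1, 6⟩))) (.node 2 (.node 1 (.one ⟨15971, 2, 4⟩) (.one ⟨15319, 1, 5⟩)) (.node 1 (.one ⟨2508, 1, 4⟩) (.one ⟨1489, 2, 1⟩)))) (.node 4 (.node 2 (.node 1 (.one ⟨11821, 1, 4⟩) (.one ⟨9175, 1, 4⟩)) (.node 1 (.one ⟨2467, 2, 5⟩) (.one ⟨2236, 1, 5⟩))) (.node 2 (.node 1 (.one ⟨16365, 2, 4⟩) (.one ⟨16103, 2, 4⟩)) (.node 1 (.one ⟨4394, 1, 5⟩) (.one ⟨11943, 2, 5⟩))))) (.node 8 (.node 4 (.node 2 (.node 1 (.one ⟨5640, 2, 5⟩) (.one ⟨906, 2, 4⟩)) (.node 1 (.one ⟨16145, 2, 4⟩) (.one ⟨16089, 0, 3⟩))) (.node 2 (.node 1 (.one ⟨6793, 2, 4⟩) (.one ⟨2847, 2, 4⟩))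 (.node 1 (.one ⟨16603, 2, 4⟩) (.one ⟨2710, 2, 3⟩)))) (.node 4 (.node 2 (.node 1 (.one ⟨16942, 1, 5⟩) (.one ⟨5093, 2, 3⟩)) (.node 1 (.one ⟨7762, 1, 5⟩) (.one ⟨1205, 1, 2⟩))) (.node 2 (.node 1 (.one ⟨12616, 2, 4⟩) (.one ⟨15943, 2, 3⟩)) (.node 1 (.one ⟨14728, 1, 2⟩) (.one ⟨11079, 2, 3⟩)))))) (.node 16 (.node 8 (.node 4 (.node 2 (.node 1 (.one ⟨10463, 0, 4⟩) (.one ⟨6551, 2, 3⟩)) (.node 1 (.one ⟨10602, 0, 3⟩) (.one ⟨13742, 0, 3⟩))) (.node 2 (.node 1 (.one ⟨3234, 1, 4⟩) (.one ⟨385, 2, 3⟩)) (.node 1 (.one ⟨3818, 1, 4⟩) (.one ⟨2915, 1, 2⟩)))) (.node 4 (.node 2 (.node 1 (.one ⟨16123, 2, 6⟩) (.one ⟨15676, 0, 5⟩)) (.node 1 (.one ⟨13700, 2, 4⟩) (.one ⟨5007, 2, 3⟩))) (.node 2 (.node 1 (.one ⟨3806, 2, 3⟩) (.one ⟨2443, 1,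 4⟩)) (.node 1 (.one ⟨12576, 1, 6⟩) (.one ⟨14616, 1, 4⟩))))) (.node 8 (.node 4 (.node 2 (.node 1 (.one ⟨5223, 1, 2⟩) (.one ⟨7095, 0, 5⟩)) (.node 1 (.one ⟨5031, 1, 4⟩) (.one ⟨10718, 1, 5⟩))) (.node 2 (.node 1 (.one ⟨13329, 2, 6⟩) (.one ⟨9198, 1, 4⟩)) (.node 1 (.one ⟨11522, 0, 4⟩) (.one ⟨11584, 1, 5⟩)))) (.node 4 (.node 2 (.node 1 (.one ⟨1804, 2, 5⟩) (.one ⟨6965, 1, 4⟩)) (.node 1 (.one ⟨1851, 1, 7⟩) (.one ⟨13455, 2, 4⟩))) (.node 2 (.node 1 (.one ⟨15581, 0, 3⟩) (.one ⟨4864, 2, 5⟩)) (.node 1 (.one ⟨8568, 1, 2⟩) (.one ⟨2923, 1, 4⟩)))))))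
def par8_13 : Arr Par :=
  (.node 512 (.node 256 (.node 128 (.node 64 par8_13_0 par8_13_1) (.node 64 par8_13_2 par8_13_3)) (.node 128 (.node 64 par8_13_4 par8_13_5) (.node 64 par8_13_6 par8_13_7))) (.node 256 (.node 128 (.node 64 par8_13_8 par8_13_9) (.node 64 par8_13_10 par8_13_11)) (.node 128 (.node 64 par8_13_12 par8_13_13) (.node 64 par8_13_14 par8_13_15))))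
def par8_14_0 : Arr Par :=
  (.node 32 (.node 16 (.node 8 (.node 4 (.node 2 (.node 1 (.one ⟨16710, 2, 6⟩) (.one ⟨1731, 2, 5⟩)) (.node 1 (.one ⟨13660, 1, 5⟩) (.one ⟨3712, 1, 4⟩))) (.node 2 (.node 1 (.one ⟨4520, 1, 0⟩) (.one ⟨3328, 0, 6⟩)) (.node 1 (.one ⟨1814, 2, 5⟩) (.one ⟨6303, 0, 3⟩)))) (.node 4 (.node 2 (.node 1 (.one ⟨6243, 1, 5⟩) (.one ⟨11288, 2, 7⟩)) (.node 1 (.one ⟨89, 0, 4⟩) (.one ⟨4088, 1, 5⟩))) (.node 2 (.node 1 (.one ⟨6491, 1, 5⟩) (.one ⟨6306, 0, 6⟩)) (.node 1 (.one ⟨5990, 1, 5⟩) (.one ⟨13258, 2, 6⟩))))) (.node 8 (.node 4 (.node 2 (.node 1 (.one ⟨975, 0, 4⟩) (.one ⟨6698, 2, 7⟩)) (.node 1 (.one ⟨16238, 2, 7⟩) (.one ⟨2439, 2, 6⟩))) (.node 2 (.node 1 (.one ⟨12947, 1, 5⟩) (.one ⟨15681, 2, 5⟩)) (.node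 1 (.one ⟨7435, 2, 5⟩) (.one ⟨17136, 1, 6⟩)))) (.node 4 (.node 2 (.node 1 (.one ⟨10382, 1, 6⟩) (.one ⟨14752, 2, 6⟩)) (.node 1 (.one ⟨7353, 0, 3⟩) (.one ⟨5078, 0, 7⟩))) (.node 2 (.node 1 (.one ⟨12666, 0, 3⟩) (.one ⟨16826, 0, 3⟩)) (.node 1 (.one ⟨8380, 0, 2⟩) (.one ⟨13186, 1, 4⟩)))))) (.node 16 (.node 8 (.node 4 (.node 2 (.node 1 (.one ⟨256, 2, 4⟩) (.one ⟨3804, 1, 3⟩)) (.node 1 (.one ⟨1981, 0, 5⟩) (.one ⟨9700, 2, 6⟩))) (.node 2 (.node 1 (.one ⟨4490, 0, 4⟩) (.one ⟨7313, 1, 6⟩)) (.node 1 (.one ⟨7323, 2, 3⟩) (.one ⟨4993, 2, 4⟩)))) (.node 4 (.node 2 (.node 1 (.one ⟨52, 1, 5⟩) (.one ⟨6772, 1, 4⟩)) (.node 1 (.one ⟨13488, 2, 5⟩) (.one ⟨17113, 2, 5⟩))) (.node 2 (.node 1 (.one ⟨5139, 2, 6⟩) (.one ⟨14276, 1, 5⟩)) (.node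 1 (.one ⟨8747, 2, 4⟩) (.one ⟨1887, 2, 4⟩))))) (.node 8 (.node 4 (.node 2 (.node 1 (.one ⟨1711, 2, 5⟩) (.one ⟨6743, 2, 2⟩)) (.node 1 (.one ⟨16572, 0, 4⟩) (.one ⟨6571, 1, 4⟩))) (.node 2 (.node 1 (.one ⟨10216, 1, 5⟩) (.one ⟨6995, 2, 4⟩)) (.node 1 (.one ⟨5464, 0, 5⟩) (.one ⟨8159, 2, 4⟩)))) (.node 4 (.node 2 (.node 1 (.one ⟨10578, 2, 6⟩) (.one ⟨12044, 1, 3⟩)) (.node 1 (.one ⟨10518, 1, 6⟩) (.one ⟨6901, 2, 5⟩))) (.node 2 (.node 1 (.one ⟨11651, 1, 4⟩) (.one ⟨12793, 1, 6⟩)) (.node 1 (.one ⟨10858, 1, 5⟩) (.one ⟨12391, 2, 4⟩)))))))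
def par8_14_1 : Arr Par :=
  (.node 32 (.node 16 (.node 8 (.node 4 (.node 2 (.node 1 (.one ⟨4809, 2, 6⟩) (.one ⟨7340, 1, 4⟩)) (.node 1 (.one ⟨8758, 1, 6⟩) (.one ⟨9252, 0, 4⟩))) (.node 2 (.node 1 (.one ⟨11740, 2, 4⟩) (.one ⟨17155, 2, 4⟩)) (.node 1 (.one ⟨7773, 2, 5⟩) (.one ⟨4626, 1, 0⟩)))) (.node 4 (.node 2 (.node 1 (.one ⟨14303, 0, 4⟩) (.one ⟨10599, 0, 4⟩)) (.node 1 (.one ⟨10247, 2, 3⟩) (.one ⟨1756, 0, 3⟩))) (.node 2 (.node 1 (.one ⟨14626, 1, 3⟩) (.one ⟨4542, 1, 7⟩)) (.node 1 (.one ⟨1032, 2, 3⟩) (.one ⟨9193, 1, 2⟩))))) (.node 8 (.node 4 (.node 2 (.node 1 (.one ⟨11408, 1, 6⟩) (.one ⟨16697, 1, 5⟩)) (.node 1 (.one ⟨5389, 0, 7⟩) (.one ⟨2507, 0, 7⟩))) (.node 2 (.node 1 (.one ⟨8780, 1, 3⟩) (.one ⟨2917, 1, 5⟩)) (.node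 1 (.one ⟨16945, 0, 4⟩) (.one ⟨5171, 1, 0⟩)))) (.node 4 (.node 2 (.node 1 (.one ⟨752, 2, 3⟩) (.one ⟨7557, 2, 5⟩)) (.node 1 (.one ⟨11144, 2, 3⟩) (.one ⟨12592, 2, 3⟩))) (.node 2 (.node 1 (.one ⟨9004, 2, 2⟩) (.one ⟨2662, 0, 5⟩)) (.node 1 (.one ⟨4706, 1, 0⟩) (.one ⟨7555, 2, 5⟩)))))) (.node 16 (.node 8 (.node 4 (.node 2 (.node 1 (.one ⟨15090, 1, 7⟩) (.one ⟨10480, 1, 6⟩)) (.node 1 (.one ⟨7548, 1, 6⟩) (.one ⟨5081, 2, 5⟩))) (.node 2 (.node 1 (.one ⟨11932, 1, 6⟩) (.one ⟨9250, 0, 1⟩)) (.node 1 (.one ⟨12782, 2, 3⟩) (.one ⟨335, 2, 2⟩)))) (.node 4 (.node 2 (.node 1 (.one ⟨643, 2, 1⟩) (.one ⟨7147, 0, 4⟩)) (.node 1 (.one ⟨314, 2, 6⟩) (.one ⟨896, 2, 3⟩))) (.node 2 (.node 1 (.one ⟨65, 2, 1⟩) (.one ⟨4338, 1, 0⟩)) (.node 1 (.one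 ⟨799, 2, 2⟩) (.one ⟨13075, 2, 5⟩))))) (.node 8 (.node 4 (.node 2 (.node 1 (.one ⟨8633, 1, 7⟩) (.one ⟨687, 0, 4⟩)) (.node 1 (.one ⟨6578, 2, 6⟩) (.one ⟨12397, 2, 1⟩))) (.node 2 (.node 1 (.one ⟨8670, 1, 5⟩) (.one ⟨698, 2, 4⟩)) (.node 1 (.one ⟨6308, 2, 5⟩) (.one ⟨16391, 1, 1⟩)))) (.node 4 (.node 2 (.node 1 (.one ⟨8557, 1, 3⟩) (.one ⟨7782, 1, 4⟩)) (.node 1 (.one ⟨17031, 1, 2⟩) (.one ⟨10759, 1, 1⟩))) (.node 2 (.node 1 (.one ⟨13164, 2, 4⟩) (.one ⟨1237, 1, 3⟩)) (.node 1 (.one ⟨11271, 1, 3⟩) (.one ⟨10584, 2, 4⟩)))))))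
def par8_14_2 : Arr Par :=
  (.node 32 (.node 16 (.node 8 (.node 4 (.node 2 (.node 1 (.one ⟨14320, 1, 3⟩) (.one ⟨10270, 2, 4⟩)) (.node 1 (.one ⟨911, 0, 3⟩) (.one ⟨2689, 2, 4⟩))) (.node 2 (.node 1 (.one ⟨8853, 1, 4⟩) (.one ⟨1963, 2, 5⟩)) (.node 1 (.one ⟨10776, 0, 4⟩) (.one ⟨5355, 1, 5⟩)))) (.node 4 (.node 2 (.node 1 (.one ⟨269, 2, 2⟩) (.one ⟨14444, 0, 2⟩)) (.node 1 (.one ⟨118, 2, 6⟩) (.one ⟨10767, 1, 2⟩))) (.node 2 (.node 1 (.one ⟨555, 2, 6⟩) (.one ⟨8886, 1, 2⟩)) (.node 1 (.one ⟨2240, 0, 4⟩) (.one ⟨1742, 2, 3⟩))))) (.node 8 (.node 4 (.node 2 (.node 1 (.one ⟨4279, 1, 5⟩) (.one ⟨10688, 0, 5⟩)) (.node 1 (.one ⟨9332, 2, 7⟩) (.one ⟨15997, 1, 3⟩))) (.node 2 (.node 1 (.one ⟨9779, 2, 6⟩) (.one ⟨4233, 1, 0⟩)) (.node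 1 (.one ⟨16205, 1, 5⟩) (.one ⟨13797, 1, 6⟩)))) (.node 4 (.node 2 (.node 1 (.one ⟨10753, 0, 2⟩) (.one ⟨3231, 2, 4⟩)) (.node 1 (.one ⟨10754, 0, 3⟩) (.one ⟨681, 0, 7⟩))) (.node 2 (.node 1 (.one ⟨1543, 1, 5⟩) (.one ⟨13692, 2, 7⟩)) (.node 1 (.one ⟨16417, 1, 5⟩) (.one ⟨10783, 1, 5⟩)))))) (.node 16 (.node 8 (.node 4 (.node 2 (.node 1 (.one ⟨12302, 1, 3⟩) (.one ⟨10342, 0, 5⟩)) (.node 1 (.one ⟨3168, 2, 4⟩) (.one ⟨2731, 1, 7⟩))) (.node 2 (.node 1 (.one ⟨12246, 2, 4⟩) (.one ⟨3596, 1, 7⟩)) (.node 1 (.one ⟨10517, 2, 6⟩) (.one ⟨10736, 0, 4⟩)))) (.node 4 (.node 2 (.node 1 (.one ⟨14423, 2, 1⟩) (.one ⟨12722, 2, 3⟩)) (.node 1 (.one ⟨1191, 2, 1⟩) (.one ⟨4126, 2, 5⟩))) (.node 2 (.node 1 (.one ⟨7775, 1, 2⟩) (.one ⟨15742, 2, 6⟩))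 (.node 1 (.one ⟨6603, 2, 6⟩) (.one ⟨685, 0, 4⟩))))) (.node 8 (.node 4 (.node 2 (.node 1 (.one ⟨10001, 1, 5⟩) (.one ⟨4954, 2, 6⟩)) (.node 1 (.one ⟨9181, 0, 5⟩) (.one ⟨12116, 2, 4⟩))) (.node 2 (.node 1 (.one ⟨3712, 0, 4⟩) (.one ⟨14594, 1, 5⟩)) (.node 1 (.one ⟨9448, 1, 5⟩) (.one ⟨14479, 0, 4⟩)))) (.node 4 (.node 2 (.node 1 (.one ⟨14976, 1, 3⟩) (.one ⟨3462, 1, 5⟩)) (.node 1 (.one ⟨6078, 1, 3⟩) (.one ⟨387, 2, 3⟩))) (.node 2 (.node 1 (.one ⟨2393, 0, 3⟩) (.one ⟨15169, 1, 5⟩)) (.node 1 (.one ⟨9690, 1, 5⟩) (.one ⟨13877, 1, 4⟩)))))))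
def par8_14_3 : Arr Par :=
  (.node 32 (.node 16 (.node 8 (.node 4 (.node 2 (.node 1 (.one ⟨7012, 1, 5⟩) (.one ⟨13805, 2, 5⟩)) (.node 1 (.one ⟨4432, 1, 3⟩) (.one ⟨16835, 1, 5⟩))) (.node 2 (.node 1 (.one ⟨8364, 1, 7⟩) (.one ⟨15978, 0, 5⟩)) (.node 1 (.one ⟨2960, 1, 1⟩) (.one ⟨13973, 1, 2⟩)))) (.node 4 (.node 2 (.node 1 (.one ⟨6661, 2, 3⟩) (.one ⟨10301, 1, 5⟩)) (.node 1 (.one ⟨10442, 1, 6⟩) (.one ⟨1668, 1, 6⟩))) (.node 2 (.node 1 (.one ⟨1808, 1, 2⟩) (.one ⟨6340, 1, 2⟩)) (.node 1 (.one ⟨6232, 1, 3⟩) (.one ⟨2617, 2, 4⟩))))) (.node 8 (.node 4 (.node 2 (.node 1 (.one ⟨1512, 2, 7⟩) (.one ⟨5268, 1, 5⟩)) (.node 1 (.one ⟨15466, 2, 5⟩) (.one ⟨3691, 1, 5⟩))) (.node 2 (.node 1 (.one ⟨16918, 0, 4⟩) (.one ⟨13596, 2, 3⟩)) (.node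 1 (.one ⟨16128, 1, 3⟩) (.one ⟨16571, 2, 5⟩)))) (.node 4 (.node 2 (.node 1 (.one ⟨11108, 2, 3⟩) (.one ⟨17053, 1, 4⟩)) (.node 1 (.one ⟨7776, 2, 3⟩) (.one ⟨7115, 0, 5⟩))) (.node 2 (.node 1 (.one ⟨16411, 1, 4⟩) (.one ⟨2305, 1, 4⟩)) (.node 1 (.one ⟨9954, 2, 5⟩) (.one ⟨1367, 1, 2⟩)))))) (.node 16 (.node 8 (.node 4 (.node 2 (.node 1 (.one ⟨16942, 2, 5⟩) (.one ⟨13498, 2, 4⟩)) (.node 1 (.one ⟨6316, 2, 4⟩) (.one ⟨11412, 1, 4⟩))) (.node 2 (.node 1 (.one ⟨6820, 1, 4⟩) (.one ⟨4415, 0, 7⟩)) (.node 1 (.one ⟨16701, 1, 6⟩) (.one ⟨7966, 2, 5⟩)))) (.node 4 (.node 2 (.node 1 (.one ⟨7777, 2, 5⟩) (.one ⟨6519, 1, 2⟩)) (.node 1 (.one ⟨4636, 1, 6⟩) (.one ⟨8724, 1, 3⟩))) (.node 2 (.node 1 (.one ⟨2412, 1, 5⟩) (.one ⟨13425, 1, 6⟩)) (.node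 1 (.one ⟨13643, 1, 7⟩) (.one ⟨10848, 1, 3⟩))))) (.node 8 (.node 4 (.node 2 (.node 1 (.one ⟨2516, 2, 5⟩) (.one ⟨5674, 1, 4⟩)) (.node 1 (.one ⟨6337, 1, 4⟩) (.one ⟨7415, 1, 2⟩))) (.node 2 (.node 1 (.one ⟨6618, 1, 2⟩) (.one ⟨10296, 1, 2⟩)) (.node 1 (.one ⟨9881, 1, 7⟩) (.one ⟨17176, 1, 6⟩)))) (.node 4 (.node 2 (.node 1 (.one ⟨12104, 1, 3⟩) (.one ⟨9952, 2, 6⟩)) (.node 1 (.one ⟨3050, 1, 3⟩) (.one ⟨943, 1, 7⟩))) (.node 2 (.node 1 (.one ⟨15846, 2, 5⟩) (.one ⟨13398, 1, 5⟩)) (.node 1 (.one ⟨7321, 2, 5⟩) (.one ⟨241, 1, 4⟩)))))))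
def par8_14_4 : Arr Par :=
  (.node 32 (.node 16 (.node 8 (.node 4 (.node 2 (.node 1 (.one ⟨9587, 0, 5⟩) (.one ⟨16847, 0, 5⟩)) (.node 1 (.one ⟨8073, 2, 4⟩) (.one ⟨11808, 2, 5⟩))) (.node 2 (.node 1 (.one ⟨11429, 1, 4⟩) (.one ⟨11427, 1, 6⟩)) (.node 1 (.one ⟨242, 1, 4⟩) (.one ⟨4627, 1, 0⟩)))) (.node 4 (.node 2 (.node 1 (.one ⟨9159, 2, 3⟩) (.one ⟨10466, 0, 4⟩)) (.node 1 (.one ⟨14305, 0, 4⟩) (.one ⟨13034, 1, 4⟩))) (.node 2 (.node 1 (.one ⟨8656, 1, 3⟩) (.one ⟨14312, 1, 7⟩)) (.node 1 (.one ⟨7368, 2, 5⟩) (.one ⟨16731, 1, 4⟩))))) (.node 8 (.node 4 (.node 2 (.node 1 (.one ⟨9779, 1, 6⟩) (.one ⟨4572, 2, 5⟩)) (.node 1 (.one ⟨9412, 2, 3⟩) (.one ⟨10406, 1, 4⟩))) (.node 2 (.node 1 (.one ⟨106, 2, 5⟩) (.one ⟨3828, 1, 4⟩)) (.node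 1 (.one ⟨15044, 2, 4⟩) (.one ⟨16199, 1, 2⟩)))) (.node 4 (.node 2 (.node 1 (.one ⟨13625, 1, 3⟩) (.one ⟨16875, 1, 2⟩)) (.node 1 (.one ⟨14784, 1, 3⟩) (.one ⟨11368, 1, 1⟩))) (.node 2 (.node 1 (.one ⟨12618, 1, 4⟩) (.one ⟨10311, 1, 1⟩)) (.node 1 (.one ⟨12813, 2, 6⟩) (.one ⟨1566, 1, 2⟩)))))) (.node 16 (.node 8 (.node 4 (.node 2 (.node 1 (.one ⟨12322, 2, 3⟩) (.one ⟨3421, 1, 5⟩)) (.node 1 (.one ⟨7685, 2, 2⟩) (.one ⟨4390, 2, 3⟩))) (.node 2 (.node 1 (.one ⟨7295, 2, 6⟩) (.one ⟨15689, 2, 5⟩)) (.node 1 (.one ⟨10934, 2, 6⟩) (.one ⟨14258, 2, 6⟩)))) (.node 4 (.node 2 (.node 1 (.one ⟨5172, 1, 3⟩) (.one ⟨6950, 0, 5⟩)) (.node 1 (.one ⟨15639, 0, 3⟩) (.one ⟨9590, 0, 4⟩))) (.node 2 (.node 1 (.one ⟨2688, 1, 3⟩) (.one ⟨12980, 1, 7⟩))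 (.node 1 (.one ⟨1180, 2, 3⟩) (.one ⟨5505, 1, 4⟩))))) (.node 8 (.node 4 (.node 2 (.node 1 (.one ⟨3313, 0, 7⟩) (.one ⟨9090, 1, 3⟩)) (.node 1 (.one ⟨637, 0, 6⟩) (.one ⟨2627, 0, 6⟩))) (.node 2 (.node 1 (.one ⟨6938, 1, 6⟩) (.one ⟨2914, 0, 7⟩)) (.node 1 (.one ⟨13710, 2, 5⟩) (.one ⟨10307, 2, 2⟩)))) (.node 4 (.node 2 (.node 1 (.one ⟨6939, 0, 4⟩) (.one ⟨4609, 1, 5⟩)) (.node 1 (.one ⟨1767, 1, 4⟩) (.one ⟨2806, 2, 4⟩))) (.node 2 (.node 1 (.one ⟨16962, 1, 4⟩) (.one ⟨10305, 2, 4⟩)) (.node 1 (.one ⟨2803, 2, 4⟩) (.one ⟨7622, 2, 3⟩)))))))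
def par8_14_5 : Arr Par :=
  (.node 32 (.node 16 (.node 8 (.node 4 (.node 2 (.node 1 (.one ⟨14314, 0, 5⟩) (.one ⟨14578, 2, 5⟩)) (.node 1 (.one ⟨1636, 2, 4⟩) (.one ⟨697, 2, 4⟩))) (.node 2 (.node 1 (.one ⟨14537, 2, 6⟩) (.one ⟨13009, 1, 4⟩)) (.node 1 (.one ⟨7677, 2, 3⟩) (.one ⟨4343, 1, 5⟩)))) (.node 4 (.node 2 (.node 1 (.one ⟨8611, 1, 5⟩) (.one ⟨14128, 1, 5⟩)) (.node 1 (.one ⟨15942, 2, 5⟩) (.one ⟨6619, 2, 3⟩))) (.node 2 (.node 1 (.one ⟨9235, 1, 5⟩) (.one ⟨4818, 1, 5⟩)) (.node 1 (.one ⟨8228, 1, 6⟩) (.one ⟨12183, 2, 6⟩))))) (.node 8 (.node 4 (.node 2 (.node 1 (.one ⟨3367, 2, 6⟩) (.one ⟨13341, 0, 2⟩)) (.node 1 (.one ⟨4127, 2, 4⟩) (.one ⟨4673, 2, 5⟩))) (.node 2 (.node 1 (.one ⟨9229, 2, 4⟩) (.one ⟨240, 2, 5⟩)) (.node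 1 (.one ⟨13562, 1, 5⟩) (.one ⟨1714, 2, 5⟩)))) (.node 4 (.node 2 (.node 1 (.one ⟨15792, 1, 3⟩) (.one ⟨14367, 2, 5⟩)) (.node 1 (.one ⟨7791, 1, 6⟩) (.one ⟨12898, 2, 4⟩))) (.node 2 (.node 1 (.one ⟨13884, 1, 2⟩) (.one ⟨15814, 1, 4⟩)) (.node 1 (.one ⟨5885, 1, 5⟩) (.one ⟨9162, 1, 4⟩)))))) (.node 16 (.node 8 (.node 4 (.node 2 (.node 1 (.one ⟨957, 1, 3⟩) (.one ⟨14895, 1, 2⟩)) (.node 1 (.one ⟨14552, 0, 4⟩) (.one ⟨16850, 1, 7⟩))) (.node 2 (.node 1 (.one ⟨16329, 2, 5⟩) (.one ⟨12249, 1, 1⟩)) (.node 1 (.one ⟨2651, 0, 6⟩) (.one ⟨2452, 1, 4⟩)))) (.node 4 (.node 2 (.node 1 (.one ⟨1191, 1, 1⟩) (.one ⟨8271, 1, 1⟩)) (.node 1 (.one ⟨7996, 1, 4⟩) (.one ⟨11741, 2, 4⟩))) (.node 2 (.node 1 (.one ⟨937, 2, 2⟩) (.one ⟨4192, 0, 5⟩)) (.node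 1 (.one ⟨14439, 1, 3⟩) (.one ⟨8564, 2, 6⟩))))) (.node 8 (.node 4 (.node 2 (.node 1 (.one ⟨10324, 1, 6⟩) (.one ⟨11125, 2, 6⟩)) (.node 1 (.one ⟨13874, 1, 5⟩) (.one ⟨6908, 0, 7⟩))) (.node 2 (.node 1 (.one ⟨13009, 0, 4⟩) (.one ⟨14711, 1, 5⟩)) (.node 1 (.one ⟨11798, 2, 3⟩) (.one ⟨8784, 1, 4⟩)))) (.node 4 (.node 2 (.node 1 (.one ⟨15309, 1, 2⟩) (.one ⟨9946, 2, 7⟩)) (.node 1 (.one ⟨7309, 1, 5⟩) (.one ⟨8835, 1, 4⟩))) (.node 2 (.node 1 (.one ⟨10362, 2, 6⟩) (.one ⟨16833, 1, 5⟩)) (.node 1 (.one ⟨14689, 2, 3⟩) (.one ⟨14269, 1, 4⟩)))))))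
def par8_14_6 : Arr Par :=
  (.node 32 (.node 16 (.node 8 (.node 4 (.node 2 (.node 1 (.one ⟨9353, 1, 3⟩) (.one ⟨2277, 2, 4⟩)) (.node 1 (.one ⟨2169, 2, 4⟩) (.one ⟨6692, 1, 4⟩))) (.node 2 (.node 1 (.one ⟨2691, 2, 3⟩) (.one ⟨3577, 2, 5⟩)) (.node 1 (.one ⟨10959, 0, 6⟩) (.one ⟨10319, 0, 1⟩)))) (.node 4 (.node 2 (.node 1 (.one ⟨15945, 0, 1⟩) (.one ⟨893, 1, 5⟩)) (.node 1 (.one ⟨12359, 1, 5⟩) (.one ⟨4396, 1, 4⟩))) (.node 2 (.node 1 (.one ⟨8560, 2, 6⟩) (.one ⟨14066, 2, 5⟩)) (.node 1 (.one ⟨11017, 2, 5⟩) (.one ⟨15380, 2, 6⟩))))) (.node 8 (.node 4 (.node 2 (.node 1 (.one ⟨15693, 1, 5⟩) (.one ⟨2967, 0, 2⟩)) (.node 1 (.one ⟨9236, 2, 4⟩) (.one ⟨98, 1, 5⟩))) (.node 2 (.node 1 (.one ⟨1222, 1, 5⟩) (.one ⟨8620, 2, 5⟩)) (.node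 1 (.one ⟨10473, 1, 5⟩) (.one ⟨14191, 1, 3⟩)))) (.node 4 (.node 2 (.node 1 (.one ⟨5289, 1, 4⟩) (.one ⟨17127, 1, 4⟩)) (.node 1 (.one ⟨320, 1, 4⟩) (.one ⟨10279, 0, 5⟩))) (.node 2 (.node 1 (.one ⟨2515, 0, 4⟩) (.one ⟨6382, 2, 5⟩)) (.node 1 (.one ⟨2312, 0, 5⟩) (.one ⟨16014, 2, 5⟩)))))) (.node 16 (.node 8 (.node 4 (.node 2 (.node 1 (.one ⟨6626, 1, 5⟩) (.one ⟨15596, 0, 5⟩)) (.node 1 (.one ⟨13697, 2, 3⟩) (.one ⟨2332, 2, 5⟩))) (.node 2 (.node 1 (.one ⟨7304, 1, 5⟩) (.one ⟨741, 2, 3⟩)) (.node 1 (.one ⟨10053, 0, 2⟩) (.one ⟨5071, 0, 7⟩)))) (.node 4 (.node 2 (.node 1 (.one ⟨2406, 2, 4⟩) (.one ⟨7306, 1, 2⟩)) (.node 1 (.one ⟨2908, 0, 6⟩) (.one ⟨1641, 1, 3⟩))) (.node 2 (.node 1 (.one ⟨5160, 0, 2⟩) (.one ⟨3676, 2, 4⟩)) (.node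 1 (.one ⟨99, 2, 4⟩) (.one ⟨12035, 1, 2⟩))))) (.node 8 (.node 4 (.node 2 (.node 1 (.one ⟨347, 2, 4⟩) (.one ⟨15816, 0, 2⟩)) (.node 1 (.one ⟨4274, 1, 2⟩) (.one ⟨9065, 2, 5⟩))) (.node 2 (.node 1 (.one ⟨8405, 1, 3⟩) (.one ⟨16680, 1, 5⟩)) (.node 1 (.one ⟨6623, 1, 5⟩) (.one ⟨1168, 2, 1⟩)))) (.node 4 (.node 2 (.node 1 (.one ⟨8235, 1, 6⟩) (.one ⟨14313, 1, 6⟩)) (.node 1 (.one ⟨37, 2, 2⟩) (.one ⟨2768, 1, 4⟩))) (.node 2 (.node 1 (.one ⟨779, 0, 3⟩) (.one ⟨16682, 1, 4⟩)) (.node 1 (.one ⟨12740, 1, 4⟩) (.one ⟨1204, 2, 2⟩)))))))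
def par8_14_7 : Arr Par :=
  (.node 32 (.node 16 (.node 8 (.node 4 (.node 2 (.node 1 (.one ⟨6443, 2, 2⟩) (.one ⟨3861, 1, 5⟩)) (.node 1 (.one ⟨607, 2, 1⟩) (.one ⟨3062, 0, 5⟩))) (.node 2 (.node 1 (.one ⟨6404, 2, 3⟩) (.one ⟨6387, 2, 1⟩)) (.node 1 (.one ⟨1364, 2, 3⟩) (.one ⟨3779, 2, 4⟩)))) (.node 4 (.node 2 (.node 1 (.one ⟨6721, 0, 4⟩) (.one ⟨2463, 2, 5⟩)) (.node 1 (.one ⟨2978, 2, 6⟩) (.one ⟨4234, 1, 4⟩))) (.node 2 (.node 1 (.one ⟨1212, 2, 5⟩) (.one ⟨4891, 2, 3⟩)) (.node 1 (.one ⟨6586, 1, 3⟩) (.one ⟨15020, 1, 5⟩))))) (.node 8 (.node 4 (.node 2 (.node 1 (.one ⟨15977, 1, 4⟩) (.one ⟨730, 1, 5⟩)) (.node 1 (.one ⟨10477, 0, 4⟩) (.one ⟨14299, 2, 3⟩))) (.node 2 (.node 1 (.one ⟨11822, 1, 4⟩) (.one ⟨5583, 1, 2⟩)) (.node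 1 (.one ⟨8444, 1, 6⟩) (.one ⟨4757, 1, 0⟩)))) (.node 4 (.node 2 (.node 1 (.one ⟨12596, 2, 2⟩) (.one ⟨5492, 2, 3⟩)) (.node 1 (.one ⟨9893, 1, 4⟩) (.one ⟨218, 2, 3⟩))) (.node 2 (.node 1 (.one ⟨1553, 2, 2⟩) (.one ⟨1772, 1, 5⟩)) (.node 1 (.one ⟨10739, 2, 3⟩) (.one ⟨6723, 0, 4⟩)))))) (.node 16 (.node 8 (.node 4 (.node 2 (.node 1 (.one ⟨16684, 1, 7⟩) (.one ⟨6880, 0, 7⟩)) (.node 1 (.one ⟨6755, 1, 6⟩) (.one ⟨14478, 1, 5⟩))) (.node 2 (.node 1 (.one ⟨15819, 2, 2⟩) (.one ⟨8359, 1, 5⟩)) (.node 1 (.one ⟨3817, 1, 5⟩) (.one ⟨3565, 1, 6⟩)))) (.node 4 (.node 2 (.node 1 (.one ⟨16472, 2, 3⟩) (.one ⟨13611, 0, 5⟩)) (.node 1 (.one ⟨7010, 1, 6⟩) (.one ⟨4693, 1, 0⟩))) (.node 2 (.node 1 (.one ⟨6423, 0, 5⟩) (.one ⟨1315, 0, 3⟩)) (.node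 1 (.one ⟨11172, 1, 6⟩) (.one ⟨17019, 1, 5⟩))))) (.node 8 (.node 4 (.node 2 (.node 1 (.one ⟨453, 1, 3⟩) (.one ⟨9085, 2, 3⟩)) (.node 1 (.one ⟨5436, 2, 5⟩) (.one ⟨5134, 2, 5⟩))) (.node 2 (.node 1 (.one ⟨8909, 2, 4⟩) (.one ⟨6924, 1, 3⟩)) (.node 1 (.one ⟨12562, 1, 5⟩) (.one ⟨8880, 1, 4⟩)))) (.node 4 (.node 2 (.node 1 (.one ⟨13690, 1, 6⟩) (.one ⟨8857, 1, 4⟩)) (.node 1 (.one ⟨15246, 2, 4⟩) (.one ⟨5265, 1, 6⟩))) (.node 2 (.node 1 (.one ⟨548, 2, 4⟩) (.one ⟨15939, 2, 6⟩)) (.node 1 (.one ⟨9778, 1, 6⟩) (.one ⟨1326, 0, 5⟩)))))))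
def par8_14_8 : Arr Par :=
  (.node 32 (.node 16 (.node 8 (.node 4 (.node 2 (.node 1 (.one ⟨12516, 2, 5⟩) (.one ⟨9509, 2, 3⟩)) (.node 1 (.one ⟨4402, 2, 4⟩) (.one ⟨688, 1, 6⟩))) (.node 2 (.node 1 (.one ⟨2316, 0, 5⟩) (.one ⟨8614, 0, 4⟩)) (.node 1 (.one ⟨11135, 1, 6⟩) (.one ⟨14778, 0, 3⟩)))) (.node 4 (.node 2 (.node 1 (.one ⟨14460, 1, 5⟩) (.one ⟨15676, 1, 5⟩)) (.node 1 (.one ⟨3772, 1, 7⟩) (.one ⟨14775, 0, 2⟩))) (.node 2 (.node 1 (.one ⟨544, 0, 4⟩) (.one ⟨889, 1, 5⟩)) (.node 1 (.one ⟨15272, 2, 3⟩) (.one ⟨2240, 1, 4⟩))))) (.node 8 (.node 4 (.node 2 (.node 1 (.one ⟨13629, 1, 4⟩) (.one ⟨9795, 2, 4⟩)) (.node 1 (.one ⟨10128, 0, 6⟩) (.one ⟨5558, 1, 4⟩))) (.node 2 (.node 1 (.one ⟨10316, 1, 4⟩) (.one ⟨8662, 2, 4⟩)) (.node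 1 (.one ⟨14307, 1, 4⟩) (.one ⟨7588, 2, 2⟩)))) (.node 4 (.node 2 (.node 1 (.one ⟨346, 1, 5⟩) (.one ⟨7400, 2, 5⟩)) (.node 1 (.one ⟨2500, 2, 5⟩) (.one ⟨4365, 1, 4⟩))) (.node 2 (.node 1 (.one ⟨15945, 2, 1⟩) (.one ⟨13097, 2, 5⟩)) (.node 1 (.one ⟨15820, 2, 4⟩) (.one ⟨16839, 2, 2⟩)))))) (.node 16 (.node 8 (.node 4 (.node 2 (.node 1 (.one ⟨211, 2, 5⟩) (.one ⟨14914, 2, 5⟩)) (.node 1 (.one ⟨4161, 2, 4⟩) (.one ⟨14169, 2, 5⟩))) (.node 2 (.node 1 (.one ⟨5458, 2, 4⟩) (.one ⟨2704, 1, 6⟩)) (.node 1 (.one ⟨8979, 1, 5⟩) (.one ⟨14389, 1, 5⟩)))) (.node 4 (.node 2 (.node 1 (.one ⟨15768, 1, 6⟩) (.one ⟨4141, 1, 5⟩)) (.node 1 (.one ⟨5473, 2, 5⟩) (.one ⟨3794, 1, 7⟩))) (.node 2 (.node 1 (.one ⟨2606, 1, 3⟩) (.one ⟨9320, 2, 1⟩)) (.node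 1 (.one ⟨1817, 2, 3⟩) (.one ⟨331, 1, 1⟩))))) (.node 8 (.node 4 (.node 2 (.node 1 (.one ⟨16505, 2, 5⟩) (.one ⟨135, 1, 3⟩)) (.node 1 (.one ⟨11962, 2, 6⟩) (.one ⟨1047, 1, 2⟩))) (.node 2 (.node 1 (.one ⟨5213, 1, 5⟩) (.one ⟨800, 1, 2⟩)) (.node 1 (.one ⟨7229, 2, 6⟩) (.one ⟨15454, 1, 3⟩)))) (.node 4 (.node 2 (.node 1 (.one ⟨7897, 1, 4⟩) (.one ⟨7686, 2, 4⟩)) (.node 1 (.one ⟨2432, 2, 3⟩) (.one ⟨7371, 2, 4⟩))) (.node 2 (.node 1 (.one ⟨5458, 1, 4⟩) (.one ⟨3185, 1, 4⟩)) (.node 1 (.one ⟨11948, 1, 3⟩) (.one ⟨14306, 2, 4⟩)))))))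
def par8_14_9 : Arr Par :=
  (.node 32 (.node 16 (.node 8 (.node 4 (.node 2 (.node 1 (.one ⟨16927, 1, 5⟩) (.one ⟨16930, 1, 2⟩)) (.node 1 (.one ⟨1053, 1, 4⟩) (.one ⟨7985, 0, 1⟩))) (.node 2 (.node 1 (.one ⟨8934, 2, 3⟩) (.one ⟨535, 1, 4⟩)) (.node 1 (.one ⟨16934, 1, 6⟩) (.one ⟨6511, 1, 6⟩)))) (.node 4 (.node 2 (.node 1 (.one ⟨2992, 2, 5⟩) (.one ⟨12386, 2, 5⟩)) (.node 1 (.one ⟨7651, 0, 6⟩) (.one ⟨8003, 0, 4⟩))) (.node 2 (.node 1 (.one ⟨4094, 0, 5⟩) (.one ⟨5340, 2, 3⟩)) (.node 1 (.one ⟨13340, 0, 5⟩) (.one ⟨10397, 0, 5⟩))))) (.node 8 (.node 4 (.node 2 (.node 1 (.one ⟨6357, 2, 6⟩) (.one ⟨16097, 2, 4⟩)) (.node 1 (.one ⟨12240, 2, 3⟩) (.one ⟨4838, 2, 5⟩))) (.node 2 (.node 1 (.one ⟨14974, 0, 3⟩) (.one ⟨8923, 1, 3⟩)) (.node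 1 (.one ⟨7546, 0, 3⟩) (.one ⟨16488, 1, 7⟩)))) (.node 4 (.node 2 (.node 1 (.one ⟨13086, 1, 7⟩) (.one ⟨4662, 1, 3⟩)) (.node 1 (.one ⟨8556, 1, 3⟩) (.one ⟨2890, 2, 6⟩))) (.node 2 (.node 1 (.one ⟨14869, 0, 5⟩) (.one ⟨2097, 2, 4⟩)) (.node 1 (.one ⟨14180, 1, 5⟩) (.one ⟨10479, 0, 3⟩)))))) (.node 16 (.node 8 (.node 4 (.node 2 (.node 1 (.one ⟨11099, 1, 2⟩) (.one ⟨3572, 1, 4⟩)) (.node 1 (.one ⟨8298, 1, 3⟩) (.one ⟨3620, 0, 3⟩))) (.node 2 (.node 1 (.one ⟨6733, 2, 6⟩) (.one ⟨3135, 1, 4⟩)) (.node 1 (.one ⟨3166, 2, 7⟩) (.one ⟨5109, 1, 6⟩)))) (.node 4 (.node 2 (.node 1 (.one ⟨13448, 1, 7⟩) (.one ⟨2605, 2, 5⟩)) (.node 1 (.one ⟨9941, 1, 7⟩) (.one ⟨15748, 0, 7⟩))) (.node 2 (.node 1 (.one ⟨15354, 2, 6⟩) (.one ⟨4793, 2, 4⟩)) (.node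 1 (.one ⟨12192, 1, 7⟩) (.one ⟨2258, 2, 2⟩))))) (.node 8 (.node 4 (.node 2 (.node 1 (.one ⟨826, 2, 6⟩) (.one ⟨14715, 2, 5⟩)) (.node 1 (.one ⟨2985, 1, 6⟩) (.one ⟨16848, 1, 6⟩))) (.node 2 (.node 1 (.one ⟨16378, 1, 4⟩) (.one ⟨13700, 1, 4⟩)) (.node 1 (.one ⟨14665, 2, 6⟩) (.one ⟨1488, 2, 2⟩)))) (.node 4 (.node 2 (.node 1 (.one ⟨2904, 1, 6⟩) (.one ⟨9477, 2, 2⟩)) (.node 1 (.one ⟨3116, 1, 2⟩) (.one ⟨410, 0, 5⟩))) (.node 2 (.node 1 (.one ⟨12027, 1, 5⟩) (.one ⟨9368, 2, 4⟩)) (.node 1 (.one ⟨8189, 2, 2⟩) (.one ⟨10977, 1, 5⟩)))))))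
def par8_14_10 : Arr Par :=
  (.node 32 (.node 16 (.node 8 (.node 4 (.node 2 (.node 1 (.one ⟨9247, 2, 2⟩) (.one ⟨11142, 1, 6⟩)) (.node 1 (.one ⟨1126, 2, 6⟩) (.one ⟨7102, 0, 6⟩))) (.node 2 (.node 1 (.one ⟨8866, 2, 2⟩) (.one ⟨2440, 0, 3⟩)) (.node 1 (.one ⟨12452, 1, 6⟩) (.one ⟨16195, 1, 7⟩)))) (.node 4 (.node 2 (.node 1 (.one ⟨7209, 0, 4⟩) (.one ⟨13733, 1, 5⟩)) (.node 1 (.one ⟨5712, 2, 5⟩) (.one ⟨7118, 2, 6⟩))) (.node 2 (.node 1 (.one ⟨6405, 2, 4⟩) (.one ⟨3293, 2, 6⟩)) (.node 1 (.one ⟨8272, 1, 4⟩) (.one ⟨5350, 1, 6⟩))))) (.node 8 (.node 4 (.node 2 (.node 1 (.one ⟨479, 2, 3⟩) (.one ⟨14906, 0, 4⟩)) (.node 1 (.one ⟨8399, 2, 5⟩) (.one ⟨5291, 1, 5⟩))) (.node 2 (.node 1 (.one ⟨13195, 0, 4⟩) (.one ⟨5894, 2, 6⟩)) (.node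 1 (.one ⟨11174, 0, 6⟩) (.one ⟨12480, 1, 1⟩)))) (.node 4 (.node 2 (.node 1 (.one ⟨96, 0, 5⟩) (.one ⟨8312, 0, 4⟩)) (.node 1 (.one ⟨12237, 1, 2⟩) (.one ⟨3690, 2, 6⟩))) (.node 2 (.node 1 (.one ⟨6951, 1, 6⟩) (.one ⟨12560, 0, 6⟩)) (.node 1 (.one ⟨3074, 0, 4⟩) (.one ⟨9151, 1, 2⟩)))))) (.node 16 (.node 8 (.node 4 (.node 2 (.node 1 (.one ⟨4016, 0, 5⟩) (.one ⟨1180, 1, 3⟩)) (.node 1 (.one ⟨10266, 2, 6⟩) (.one ⟨11951, 2, 6⟩))) (.node 2 (.node 1 (.one ⟨4837, 0, 6⟩) (.one ⟨15922, 2, 6⟩)) (.node 1 (.one ⟨13034, 0, 4⟩) (.one ⟨11926, 1, 4⟩)))) (.node 4 (.node 2 (.node 1 (.one ⟨13823, 1, 5⟩) (.one ⟨11565, 1, 5⟩)) (.node 1 (.one ⟨17043, 1, 4⟩) (.one ⟨7489, 1, 3⟩))) (.node 2 (.node 1 (.one ⟨11580, 0, 4⟩) (.one ⟨7917, 1, 4⟩)) (.node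 1 (.one ⟨16941, 2, 4⟩) (.one ⟨5087, 2, 2⟩))))) (.node 8 (.node 4 (.node 2 (.node 1 (.one ⟨9300, 1, 2⟩) (.one ⟨170, 0, 3⟩)) (.node 1 (.one ⟨13088, 2, 4⟩) (.one ⟨15802, 1, 5⟩))) (.node 2 (.node 1 (.one ⟨14014, 2, 4⟩) (.one ⟨15843, 1, 4⟩)) (.node 1 (.one ⟨11103, 1, 6⟩) (.one ⟨4597, 1, 2⟩)))) (.node 4 (.node 2 (.node 1 (.one ⟨10284, 2, 5⟩) (.one ⟨13837, 2, 5⟩)) (.node 1 (.one ⟨5805, 2, 2⟩) (.one ⟨9307, 2, 1⟩))) (.node 2 (.node 1 (.one ⟨551, 1, 6⟩) (.one ⟨5973, 2, 5⟩)) (.node 1 (.one ⟨4966, 0, 6⟩) (.one ⟨4238, 1, 5⟩)))))))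
def par8_14_11 : Arr Par :=
  (.node 32 (.node 16 (.node 8 (.node 4 (.node 2 (.node 1 (.one ⟨5125, 2, 2⟩) (.one ⟨8937, 1, 4⟩)) (.node 1 (.one ⟨16658, 2, 3⟩) (.one ⟨9071, 1, 4⟩))) (.node 2 (.node 1 (.one ⟨13817, 1, 3⟩) (.one ⟨8527, 2, 6⟩)) (.node 1 (.one ⟨332, 2, 6⟩) (.one ⟨14119, 2, 5⟩)))) (.node 4 (.node 2 (.node 1 (.one ⟨13896, 2, 5⟩) (.one ⟨10004, 2, 5⟩)) (.node 1 (.one ⟨1141, 1, 6⟩) (.one ⟨10164, 0, 4⟩))) (.node 2 (.node 1 (.one ⟨5851, 1, 5⟩) (.one ⟨13724, 2, 6⟩)) (.node 1 (.one ⟨5990, 0, 5⟩) (.one ⟨602, 2, 1⟩))))) (.node 8 (.node 4 (.node 2 (.node 1 (.one ⟨1663, 2, 2⟩) (.one ⟨7913, 1, 4⟩)) (.node 1 (.one ⟨3651, 1, 5⟩) (.one ⟨9384, 2, 2⟩))) (.node 2 (.node 1 (.one ⟨1811, 1, 2⟩) (.one ⟨1615, 2, 3⟩)) (.node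 1 (.one ⟨1555, 2, 3⟩) (.one ⟨10646, 2, 5⟩)))) (.node 4 (.node 2 (.node 1 (.one ⟨1584, 1, 1⟩) (.one ⟨5998, 2, 5⟩)) (.node 1 (.one ⟨17061, 2, 3⟩) (.one ⟨6092, 2, 5⟩))) (.node 2 (.node 1 (.one ⟨16923, 2, 5⟩) (.one ⟨10724, 2, 5⟩)) (.node 1 (.one ⟨6997, 0, 7⟩) (.one ⟨362, 1, 5⟩)))))) (.node 16 (.node 8 (.node 4 (.node 2 (.node 1 (.one ⟨4244, 0, 6⟩) (.one ⟨16243, 0, 6⟩)) (.node 1 (.one ⟨1124, 2, 1⟩) (.one ⟨1433, 1, 5⟩))) (.node 2 (.node 1 (.one ⟨3024, 1, 5⟩) (.one ⟨15549, 1, 2⟩)) (.node 1 (.one ⟨5477, 2, 4⟩) (.one ⟨2757, 0, 2⟩)))) (.node 4 (.node 2 (.node 1 (.one ⟨16683, 2, 4⟩) (.one ⟨5434, 1, 5⟩)) (.node 1 (.one ⟨16985, 2, 1⟩) (.one ⟨2755, 0, 3⟩))) (.node 2 (.node 1 (.one ⟨1554, 2, 1⟩) (.one ⟨11211, 1, 1⟩)) (.node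 1 (.one ⟨2783, 1, 5⟩) (.one ⟨1904, 2, 5⟩))))) (.node 8 (.node 4 (.node 2 (.node 1 (.one ⟨4187, 2, 5⟩) (.one ⟨6940, 2, 5⟩)) (.node 1 (.one ⟨9105, 2, 6⟩) (.one ⟨13404, 2, 7⟩))) (.node 2 (.node 1 (.one ⟨10928, 2, 7⟩) (.one ⟨16339, 2, 6⟩)) (.node 1 (.one ⟨14100, 2, 7⟩) (.one ⟨13334, 0, 5⟩)))) (.node 4 (.node 2 (.node 1 (.one ⟨1762, 2, 7⟩) (.one ⟨1732, 2, 4⟩)) (.node 1 (.one ⟨9789, 2, 3⟩) (.one ⟨9169, 2, 6⟩))) (.node 2 (.node 1 (.one ⟨4005, 1, 3⟩) (.one ⟨9995, 1, 3⟩)) (.node 1 (.one ⟨11991, 0, 2⟩) (.one ⟨3352, 1, 5⟩)))))))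
def par8_14_12 : Arr Par :=
  (.node 32 (.node 16 (.node 8 (.node 4 (.node 2 (.node 1 (.one ⟨15374, 0, 5⟩) (.one ⟨14754, 0, 4⟩)) (.node 1 (.one ⟨11631, 0, 5⟩) (.one ⟨17130, 0, 4⟩))) (.node 2 (.node 1 (.one ⟨10679, 0, 3⟩) (.one ⟨6720, 1, 5⟩)) (.node 1 (.one ⟨16629, 0, 5⟩) (.one ⟨4330, 1, 4⟩)))) (.node 4 (.node 2 (.node 1 (.one ⟨11509, 1, 7⟩) (.one ⟨5313, 0, 6⟩)) (.node 1 (.one ⟨14071, 1, 5⟩) (.one ⟨14107, 2, 4⟩))) (.node 2 (.node 1 (.one ⟨12118, 1, 3⟩) (.one ⟨9621, 2, 3⟩)) (.node 1 (.one ⟨16548, 1, 4⟩) (.one ⟨9296, 1, 6⟩))))) (.node 8 (.node 4 (.node 2 (.node 1 (.one ⟨11097, 1, 2⟩) (.one ⟨11042, 2, 6⟩)) (.node 1 (.one ⟨8815, 2, 4⟩) (.one ⟨2853, 0, 4⟩))) (.node 2 (.node 1 (.one ⟨11281, 2, 3⟩) (.one ⟨16781, 2,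 5⟩)) (.node 1 (.one ⟨3266, 2, 6⟩) (.one ⟨12409, 2, 2⟩)))) (.node 4 (.node 2 (.node 1 (.one ⟨1779, 0, 5⟩) (.one ⟨9515, 2, 2⟩)) (.node 1 (.one ⟨13718, 2, 4⟩) (.one ⟨649, 1, 2⟩))) (.node 2 (.node 1 (.one ⟨16192, 2, 2⟩) (.one ⟨10091, 2, 6⟩)) (.node 1 (.one ⟨14204, 2, 2⟩) (.one ⟨2831, 0, 4⟩)))))) (.node 16 (.node 8 (.node 4 (.node 2 (.node 1 (.one ⟨696, 0, 3⟩) (.one ⟨1053, 0, 4⟩)) (.node 1 (.one ⟨2836, 0, 5⟩) (.one ⟨4498, 1, 0⟩))) (.node 2 (.node 1 (.one ⟨8945, 2, 2⟩) (.one ⟨14688, 1, 4⟩)) (.node 1 (.one ⟨2835, 0, 5⟩) (.one ⟨8590, 1, 4⟩)))) (.node 4 (.node 2 (.node 1 (.one ⟨942, 1, 2⟩) (.one ⟨12363, 1, 6⟩)) (.node 1 (.one ⟨14627, 0, 4⟩) (.one ⟨14577, 2, 5⟩))) (.node 2 (.node 1 (.one ⟨358, 2, 4⟩) (.one ⟨17008, 1,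 6⟩)) (.node 1 (.one ⟨8591, 2, 4⟩) (.one ⟨7265, 2, 7⟩))))) (.node 8 (.node 4 (.node 2 (.node 1 (.one ⟨7624, 2, 3⟩) (.one ⟨13269, 1, 3⟩)) (.node 1 (.one ⟨2664, 0, 5⟩) (.one ⟨6125, 1, 5⟩))) (.node 2 (.node 1 (.one ⟨7447, 1, 7⟩) (.one ⟨15510, 2, 5⟩)) (.node 1 (.one ⟨6235, 0, 3⟩) (.one ⟨17081, 1, 7⟩)))) (.node 4 (.node 2 (.node 1 (.one ⟨12396, 2, 4⟩) (.one ⟨4679, 1, 3⟩)) (.node 1 (.one ⟨11262, 1, 6⟩) (.one ⟨7856, 1, 2⟩))) (.node 2 (.node 1 (.one ⟨16328, 2, 2⟩) (.one ⟨5632, 2, 4⟩)) (.node 1 (.one ⟨803, 1, 3⟩) (.one ⟨3542, 1, 4⟩)))))))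
def par8_14_13 : Arr Par :=
  (.node 32 (.node 16 (.node 8 (.node 4 (.node 2 (.node 1 (.one ⟨1810, 1, 2⟩) (.one ⟨9849, 1, 4⟩)) (.node 1 (.one ⟨11580, 1, 4⟩) (.one ⟨3527, 1, 4⟩))) (.node 2 (.node 1 (.one ⟨1806, 1, 5⟩) (.one ⟨9892, 1, 7⟩)) (.node 1 (.one ⟨11618, 1, 4⟩) (.one ⟨14069, 2, 5⟩)))) (.node 4 (.node 2 (.node 1 (.one ⟨12724, 0, 3⟩) (.one ⟨1257, 1, 1⟩)) (.node 1 (.one ⟨13616, 1, 4⟩) (.one ⟨2113, 2, 5⟩))) (.node 2 (.node 1 (.one ⟨3391, 2, 4⟩) (.one ⟨3211, 2, 5⟩)) (.node 1 (.one ⟨652, 2, 3⟩) (.one ⟨17121, 0, 5⟩))))) (.node 8 (.node 4 (.node 2 (.node 1 (.one ⟨4238, 0, 5⟩) (.one ⟨10328, 0, 4⟩)) (.node 1 (.one ⟨14829, 1, 4⟩) (.one ⟨2909, 1, 6⟩))) (.node 2 (.node 1 (.one ⟨14667, 0, 4⟩) (.one ⟨1179, 2, 3⟩)) (.node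 1 (.one ⟨4303, 1, 3⟩) (.one ⟨5938, 0, 3⟩)))) (.node 4 (.node 2 (.node 1 (.one ⟨9391, 1, 1⟩) (.one ⟨8727, 1, 3⟩)) (.node 1 (.one ⟨774, 2, 5⟩) (.one ⟨12172, 2, 3⟩))) (.node 2 (.node 1 (.one ⟨3519, 0, 7⟩) (.one ⟨7375, 1, 3⟩)) (.node 1 (.one ⟨7261, 0, 5⟩) (.one ⟨11359, 0, 1⟩)))))) (.node 16 (.node 8 (.node 4 (.node 2 (.node 1 (.one ⟨5499, 1, 3⟩) (.one ⟨14059, 1, 6⟩)) (.node 1 (.one ⟨13138, 1, 7⟩) (.one ⟨10179, 1, 3⟩))) (.node 2 (.node 1 (.one ⟨16042, 2, 5⟩) (.one ⟨10936, 2, 3⟩)) (.node 1 (.one ⟨9100, 1, 6⟩) (.one ⟨14058, 1, 3⟩)))) (.node 4 (.node 2 (.node 1 (.one ⟨9111, 1, 5⟩) (.one ⟨15403, 2, 4⟩)) (.node 1 (.one ⟨5755, 2, 5⟩) (.one ⟨4418, 1, 0⟩))) (.node 2 (.node 1 (.one ⟨5753, 2, 5⟩) (.one ⟨8904, 1, 4⟩)) (.node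 1 (.one ⟨13828, 1, 6⟩) (.one ⟨447, 1, 6⟩))))) (.node 8 (.node 4 (.node 2 (.node 1 (.one ⟨13947, 1, 6⟩) (.one ⟨6187, 2, 6⟩)) (.node 1 (.one ⟨1252, 2, 2⟩) (.one ⟨6169, 2, 5⟩))) (.node 2 (.node 1 (.one ⟨14368, 0, 5⟩) (.one ⟨13945, 1, 6⟩)) (.node 1 (.one ⟨823, 1, 2⟩) (.one ⟨14779, 2, 5⟩)))) (.node 4 (.node 2 (.node 1 (.one ⟨592, 1, 1⟩) (.one ⟨0, 1, 2⟩)) (.node 1 (.one ⟨6297, 2, 4⟩) (.one ⟨1122, 1, 5⟩))) (.node 2 (.node 1 (.one ⟨1121, 1, 2⟩) (.one ⟨15854, 2, 6⟩)) (.node 1 (.one ⟨7662, 0, 7⟩) (.one ⟨14599, 2, 1⟩)))))))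
def par8_14_14 : Arr Par :=
  (.node 32 (.node 16 (.node 8 (.node 4 (.node 2 (.node 1 (.one ⟨6532, 2, 3⟩) (.one ⟨2419, 1, 4⟩)) (.node 1 (.one ⟨9301, 2, 2⟩) (.one ⟨16559, 1, 2⟩))) (.node 2 (.node 1 (.one ⟨14623, 2, 3⟩) (.one ⟨9491, 2, 3⟩)) (.node 1 (.one ⟨15213, 1, 5⟩) (.one ⟨3820, 1, 7⟩)))) (.node 4 (.node 2 (.node 1 (.one ⟨12240, 1, 3⟩) (.one ⟨6295, 2, 4⟩)) (.node 1 (.one ⟨14369, 2, 4⟩) (.one ⟨3304, 2, 4⟩))) (.node 2 (.node 1 (.one ⟨13120, 1, 3⟩) (.one ⟨10983, 1, 3⟩)) (.node 1 (.one ⟨15526, 0, 3⟩) (.one ⟨5055, 1, 4⟩))))) (.node 8 (.node 4 (.node 2 (.node 1 (.one ⟨7132, 0, 4⟩) (.one ⟨3408, 1, 7⟩)) (.node 1 (.one ⟨8667, 0, 4⟩) (.one ⟨6722, 0, 5⟩))) (.node 2 (.node 1 (.one ⟨3866, 1, 2⟩) (.one ⟨16001, 1, 6⟩))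 (.node 1 (.one ⟨512, 1, 2⟩) (.one ⟨14782, 2, 5⟩)))) (.node 4 (.node 2 (.node 1 (.one ⟨4495, 0, 6⟩) (.one ⟨927, 2, 3⟩)) (.node 1 (.one ⟨3224, 2, 3⟩) (.one ⟨5489, 2, 6⟩))) (.node 2 (.node 1 (.one ⟨3854, 2, 3⟩) (.one ⟨16374, 2, 2⟩)) (.node 1 (.one ⟨14141, 1, 4⟩) (.one ⟨3883, 1, 4⟩)))))) (.node 16 (.node 8 (.node 4 (.node 2 (.node 1 (.one ⟨10809, 0, 7⟩) (.one ⟨5419, 1, 4⟩)) (.node 1 (.one ⟨17037, 2, 3⟩) (.one ⟨6813, 2, 6⟩))) (.node 2 (.node 1 (.one ⟨11633, 2, 3⟩) (.one ⟨9403, 2, 3⟩)) (.node 1 (.one ⟨14031, 0, 5⟩) (.one ⟨543, 2, 5⟩)))) (.node 4 (.node 2 (.node 1 (.one ⟨4423, 1, 2⟩) (.one ⟨285, 0, 7⟩)) (.node 1 (.one ⟨11089, 1, 6⟩) (.one ⟨15525, 2, 5⟩))) (.node 2 (.node 1 (.one ⟨2314, 2, 4⟩) (.one ⟨1986, 2, 4⟩))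 (.node 1 (.one ⟨14965, 2, 5⟩) (.one ⟨6126, 1, 5⟩))))) (.node 8 (.node 4 (.node 2 (.node 1 (.one ⟨13718, 1, 4⟩) (.one ⟨13556, 2, 5⟩)) (.node 1 (.one ⟨13649, 1, 3⟩) (.one ⟨9312, 2, 1⟩))) (.node 2 (.node 1 (.one ⟨16364, 0, 6⟩) (.one ⟨5940, 0, 3⟩)) (.node 1 (.one ⟨8849, 2, 4⟩) (.one ⟨3753, 1, 5⟩)))) (.node 4 (.node 2 (.node 1 (.one ⟨10260, 0, 6⟩) (.one ⟨11320, 0, 6⟩)) (.node 1 (.one ⟨8736, 0, 5⟩) (.one ⟨14105, 0, 5⟩))) (.node 2 (.node 1 (.one ⟨14229, 2, 5⟩) (.one ⟨5029, 0, 5⟩)) (.node 1 (.one ⟨15157, 0, 6⟩) (.one ⟨13504, 1, 3⟩)))))))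
def par8_14_15 : Arr Par :=
  (.node 32 (.node 16 (.node 8 (.node 4 (.node 2 (.node 1 (.one ⟨8238, 1, 5⟩) (.one ⟨3377, 2, 6⟩)) (.node 1 (.one ⟨9856, 1, 6⟩) (.one ⟨9991, 1, 5⟩))) (.node 2 (.node 1 (.one ⟨6629, 1, 6⟩) (.one ⟨8366, 1, 7⟩)) (.node 1 (.one ⟨13119, 1, 5⟩) (.one ⟨9368, 1, 4⟩)))) (.node 4 (.node 2 (.node 1 (.one ⟨15352, 2, 6⟩) (.one ⟨578, 1, 2⟩)) (.node 1 (.one ⟨4290, 0, 3⟩) (.one ⟨14230, 2, 5⟩))) (.node 2 (.node 1 (.one ⟨600, 1, 5⟩) (.one ⟨9315, 2, 1⟩)) (.node 1 (.one ⟨9370, 1, 2⟩) (.one ⟨9118, 1, 5⟩))))) (.node 8 (.node 4 (.node 2 (.node 1 (.one ⟨15590, 1, 3⟩) (.one ⟨8094, 1, 6⟩)) (.node 1 (.one ⟨6182, 2, 5⟩) (.one ⟨6179, 2, 6⟩))) (.node 2 (.node 1 (.one ⟨5447, 1, 5⟩) (.one ⟨14160, 0, 4⟩)) (.node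 1 (.one ⟨3648, 1, 6⟩) (.one ⟨7217, 0, 4⟩)))) (.node 4 (.node 2 (.node 1 (.one ⟨11122, 2, 5⟩) (.one ⟨262, 2, 4⟩)) (.node 1 (.one ⟨10146, 1, 6⟩) (.one ⟨17099, 2, 2⟩))) (.node 2 (.node 1 (.one ⟨14228, 2, 3⟩) (.one ⟨7220, 0, 6⟩)) (.node 1 (.one ⟨8629, 1, 5⟩) (.one ⟨5949, 2, 4⟩)))))) (.node 16 (.node 8 (.node 4 (.node 2 (.node 1 (.one ⟨12755, 1, 7⟩) (.one ⟨10605, 2, 4⟩)) (.node 1 (.one ⟨4804, 2, 5⟩) (.one ⟨16816, 2, 5⟩))) (.node 2 (.node 1 (.one ⟨3046, 1, 3⟩) (.one ⟨7971, 1, 6⟩)) (.node 1 (.one ⟨10763, 2, 5⟩) (.one ⟨11488, 0, 6⟩)))) (.node 4 (.node 2 (.node 1 (.one ⟨10011, 1, 7⟩) (.one ⟨3524, 2, 4⟩)) (.node 1 (.one ⟨8670, 2, 5⟩) (.one ⟨9985, 1, 7⟩))) (.node 2 (.node 1 (.one ⟨1485, 1, 6⟩) (.one ⟨11885, 1, 2⟩)) (.node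 1 (.one ⟨3622, 1, 6⟩) (.one ⟨17027, 1, 6⟩))))) (.node 8 (.node 4 (.node 2 (.node 1 (.one ⟨10505, 2, 4⟩) (.one ⟨8950, 1, 3⟩)) (.node 1 (.one ⟨15423, 1, 3⟩) (.one ⟨7356, 1, 2⟩))) (.node 2 (.node 1 (.one ⟨17038, 1, 5⟩) (.one ⟨15435, 1, 3⟩)) (.node 1 (.one ⟨8958, 1, 6⟩) (.one ⟨12342, 0, 6⟩)))) (.node 4 (.node 2 (.node 1 (.one ⟨10298, 1, 5⟩) (.one ⟨14610, 0, 4⟩)) (.node 1 (.one ⟨12111, 1, 5⟩) (.one ⟨3590, 1, 6⟩))) (.node 2 (.node 1 (.one ⟨3757, 1, 5⟩) (.one ⟨2526, 2, 4⟩)) (.node 1 (.one ⟨2036, 1, 5⟩) (.one ⟨16192, 1, 2⟩)))))))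
def par8_14 : Arr Par :=
  (.node 512 (.node 256 (.node 128 (.node 64 par8_14_0 par8_14_1) (.node 64 par8_14_2 par8_14_3)) (.node 128 (.node 64 par8_14_4 par8_14_5) (.node 64 par8_14_6 par8_14_7))) (.node 256 (.node 128 (.node 64 par8_14_8 par8_14_9) (.node 64 par8_14_10 par8_14_11)) (.node 128 (.node 64 par8_14_12 par8_14_13) (.node 64 par8_14_14 par8_14_15))))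
def par8_15_0 : Arr Par :=
  (.node 32 (.node 16 (.node 8 (.node 4 (.node 2 (.node 1 (.one ⟨15266, 0, 4⟩) (.one ⟨8945, 1, 2⟩)) (.node 1 (.one ⟨10232, 1, 5⟩) (.one ⟨3959, 2, 6⟩))) (.node 2 (.node 1 (.one ⟨3264, 0, 4⟩) (.one ⟨11281, 1, 3⟩)) (.node 1 (.one ⟨15626, 2, 5⟩) (.one ⟨5745, 2, 4⟩)))) (.node 4 (.node 2 (.node 1 (.one ⟨367, 2, 3⟩) (.one ⟨14389, 0, 5⟩)) (.node 1 (.one ⟨13930, 1, 5⟩) (.one ⟨15783, 0, 3⟩))) (.node 2 (.node 1 (.one ⟨11460, 2, 4⟩) (.one ⟨14364, 2, 4⟩)) (.node 1 (.one ⟨10476, 2, 4⟩) (.one ⟨4167, 0, 4⟩))))) (.node 8 (.node 4 (.node 2 (.node 1 (.one ⟨3257, 2, 6⟩) (.one ⟨13936, 2, 5⟩)) (.node 1 (.one ⟨15353, 2, 5⟩) (.one ⟨8867, 0, 7⟩))) (.node 2 (.node 1 (.one ⟨1326, 1, 5⟩) (.one ⟨16966, 1, 5⟩))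 (.node 1 (.one ⟨2744, 2, 4⟩) (.one ⟨11474, 2, 6⟩)))) (.node 4 (.node 2 (.node 1 (.one ⟨12686, 1, 7⟩) (.one ⟨14538, 2, 7⟩)) (.node 1 (.one ⟨14394, 2, 7⟩) (.one ⟨2004, 2, 3⟩))) (.node 2 (.node 1 (.one ⟨7452, 1, 6⟩) (.one ⟨6921, 2, 3⟩)) (.node 1 (.one ⟨6821, 2, 4⟩) (.one ⟨2179, 1, 5⟩)))))) (.node 16 (.node 8 (.node 4 (.node 2 (.node 1 (.one ⟨8178, 0, 4⟩) (.one ⟨11571, 2, 2⟩)) (.node 1 (.one ⟨6453, 2, 3⟩) (.one ⟨2942, 2, 5⟩))) (.node 2 (.node 1 (.one ⟨4455, 1, 2⟩) (.one ⟨6743, 1, 2⟩)) (.node 1 (.one ⟨4445, 2, 4⟩) (.one ⟨15471, 0, 7⟩)))) (.node 4 (.node 2 (.node 1 (.one ⟨5823, 2, 5⟩) (.one ⟨15211, 2, 1⟩)) (.node 1 (.one ⟨5826, 2, 5⟩) (.one ⟨272, 1, 3⟩))) (.node 2 (.node 1 (.one ⟨5828, 2, 5⟩) (.one ⟨5191, 0, 4⟩))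 (.node 1 (.one ⟨5829, 1, 5⟩) (.one ⟨4006, 1, 3⟩))))) (.node 8 (.node 4 (.node 2 (.node 1 (.one ⟨1336, 0, 1⟩) (.one ⟨7012, 0, 5⟩)) (.node 1 (.one ⟨4756, 2, 6⟩) (.one ⟨197, 2, 4⟩))) (.node 2 (.node 1 (.one ⟨10451, 1, 5⟩) (.one ⟨13706, 1, 4⟩)) (.node 1 (.one ⟨8905, 1, 7⟩) (.one ⟨16941, 1, 4⟩)))) (.node 4 (.node 2 (.node 1 (.one ⟨13994, 1, 5⟩) (.one ⟨13147, 1, 6⟩)) (.node 1 (.one ⟨9882, 1, 3⟩) (.one ⟨4717, 1, 0⟩))) (.node 2 (.node 1 (.one ⟨15534, 2, 6⟩) (.one ⟨1261, 1, 3⟩)) (.node 1 (.one ⟨11988, 2, 5⟩) (.one ⟨4847, 2, 2⟩)))))))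
def par8_15_1 : Arr Par :=
  (.node 32 (.node 16 (.node 8 (.node 4 (.node 2 (.node 1 (.one ⟨6386, 2, 4⟩) (.one ⟨4534, 2, 6⟩)) (.node 1 (.one ⟨6204, 2, 4⟩) (.one ⟨8762, 2, 6⟩))) (.node 2 (.node 1 (.one ⟨121, 2, 5⟩) (.one ⟨7535, 0, 5⟩)) (.node 1 (.one ⟨1781, 2, 5⟩) (.one ⟨6074, 0, 5⟩)))) (.node 4 (.node 2 (.node 1 (.one ⟨6194, 2, 5⟩) (.one ⟨12117, 1, 3⟩)) (.node 1 (.one ⟨12232, 1, 3⟩) (.one ⟨15231, 0, 2⟩))) (.node 2 (.node 1 (.one ⟨1190, 2, 6⟩) (.one ⟨6262, 2, 4⟩)) (.node 1 (.one ⟨3939, 1, 5⟩) (.one ⟨5209, 2, 4⟩))))) (.node 8 (.node 4 (.node 2 (.node 1 (.one ⟨5622, 1, 4⟩) (.one ⟨445, 2, 4⟩)) (.node 1 (.one ⟨13919, 2, 4⟩) (.one ⟨14580, 2, 3⟩))) (.node 2 (.node 1 (.one ⟨2633, 2, 7⟩) (.one ⟨16716, 2, 3⟩)) (.node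 1 (.one ⟨4985, 2, 3⟩) (.one ⟨5847, 2, 3⟩)))) (.node 4 (.node 2 (.node 1 (.one ⟨5935, 2, 4⟩) (.one ⟨7665, 2, 5⟩)) (.node 1 (.one ⟨8069, 2, 5⟩) (.one ⟨2182, 1, 2⟩))) (.node 2 (.node 1 (.one ⟨4095, 1, 3⟩) (.one ⟨11709, 2, 5⟩)) (.node 1 (.one ⟨10882, 1, 2⟩) (.one ⟨7664, 0, 7⟩)))))) (.node 16 (.node 8 (.node 4 (.node 2 (.node 1 (.one ⟨1687, 1, 4⟩) (.one ⟨520, 2, 5⟩)) (.node 1 (.one ⟨14151, 1, 4⟩) (.one ⟨13447, 1, 3⟩))) (.node 2 (.node 1 (.one ⟨6352, 1, 6⟩) (.one ⟨5382, 2, 3⟩)) (.node 1 (.one ⟨7984, 2, 5⟩) (.one ⟨2799, 1, 5⟩)))) (.node 4 (.node 2 (.node 1 (.one ⟨6628, 1, 5⟩) (.one ⟨13343, 1, 5⟩)) (.node 1 (.one ⟨16831, 1, 4⟩) (.one ⟨8233, 1, 6⟩))) (.node 2 (.node 1 (.one ⟨3896, 1, 5⟩) (.one ⟨13875, 1, 7⟩)) (.node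 1 (.one ⟨7937, 0, 5⟩) (.one ⟨11243, 2, 6⟩))))) (.node 8 (.node 4 (.node 2 (.node 1 (.one ⟨6535, 1, 6⟩) (.one ⟨3442, 0, 2⟩)) (.node 1 (.one ⟨6766, 1, 6⟩) (.one ⟨15346, 2, 4⟩))) (.node 2 (.node 1 (.one ⟨16878, 1, 4⟩) (.one ⟨1744, 2, 5⟩)) (.node 1 (.one ⟨16135, 1, 3⟩) (.one ⟨15707, 2, 5⟩)))) (.node 4 (.node 2 (.node 1 (.one ⟨13736, 0, 5⟩) (.one ⟨9357, 0, 5⟩)) (.node 1 (.one ⟨2377, 2, 6⟩) (.one ⟨8075, 2, 4⟩))) (.node 2 (.node 1 (.one ⟨15861, 1, 6⟩) (.one ⟨16259, 2, 2⟩)) (.node 1 (.one ⟨10640, 2, 5⟩) (.one ⟨4790, 2, 6⟩)))))))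
def par8_15_2 : Arr Par :=
  (.node 32 (.node 16 (.node 8 (.node 4 (.node 2 (.node 1 (.one ⟨8701, 1, 6⟩) (.one ⟨7277, 0, 6⟩)) (.node 1 (.one ⟨8607, 1, 5⟩) (.one ⟨14130, 0, 5⟩))) (.node 2 (.node 1 (.one ⟨16205, 2, 5⟩) (.one ⟨2479, 0, 5⟩)) (.node 1 (.one ⟨6397, 0, 7⟩) (.one ⟨6348, 2, 6⟩)))) (.node 4 (.node 2 (.node 1 (.one ⟨1973, 1, 3⟩) (.one ⟨7450, 0, 5⟩)) (.node 1 (.one ⟨10872, 0, 7⟩) (.one ⟨10424, 0, 5⟩))) (.node 2 (.node 1 (.one ⟨11240, 2, 3⟩) (.one ⟨13344, 1, 3⟩)) (.node 1 (.one ⟨6298, 0, 2⟩) (.one ⟨11533, 2, 5⟩))))) (.node 8 (.node 4 (.node 2 (.node 1 (.one ⟨8314, 1, 4⟩) (.one ⟨3327, 2, 4⟩)) (.node 1 (.one ⟨6542, 2, 5⟩) (.one ⟨2358, 2, 6⟩))) (.node 2 (.node 1 (.one ⟨7583, 2, 5⟩) (.one ⟨15396, 1, 3⟩)) (.node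 1 (.one ⟨2689, 1, 4⟩) (.one ⟨5369, 1, 2⟩)))) (.node 4 (.node 2 (.node 1 (.one ⟨10316, 2, 4⟩) (.one ⟨15982, 2, 6⟩)) (.node 1 (.one ⟨15001, 1, 5⟩) (.one ⟨14307, 2, 4⟩))) (.node 2 (.node 1 (.one ⟨5558, 2, 4⟩) (.one ⟨4280, 2, 5⟩)) (.node 1 (.one ⟨6954, 1, 5⟩) (.one ⟨3525, 1, 3⟩)))))) (.node 16 (.node 8 (.node 4 (.node 2 (.node 1 (.one ⟨15671, 1, 4⟩) (.one ⟨15225, 2, 3⟩)) (.node 1 (.one ⟨15177, 2, 2⟩) (.one ⟨10270, 1, 4⟩))) (.node 2 (.node 1 (.one ⟨6015, 1, 3⟩) (.one ⟨10472, 1, 4⟩)) (.node 1 (.one ⟨15192, 2, 2⟩) (.one ⟨13450, 2, 4⟩)))) (.node 4 (.node 2 (.node 1 (.one ⟨2948, 1, 3⟩) (.one ⟨8067, 2, 4⟩)) (.node 1 (.one ⟨11562, 2, 6⟩) (.one ⟨16871, 2, 5⟩))) (.node 2 (.node 1 (.one ⟨1448, 2, 6⟩) (.one ⟨4370, 1, 4⟩))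 (.node 1 (.one ⟨5081, 1, 5⟩) (.one ⟨2104, 2, 1⟩))))) (.node 8 (.node 4 (.node 2 (.node 1 (.one ⟨10188, 2, 3⟩) (.one ⟨1523, 0, 4⟩)) (.node 1 (.one ⟨14727, 1, 2⟩) (.one ⟨5452, 1, 5⟩))) (.node 2 (.node 1 (.one ⟨9492, 2, 1⟩) (.one ⟨8420, 0, 5⟩)) (.node 1 (.one ⟨15595, 0, 5⟩) (.one ⟨7987, 2, 1⟩)))) (.node 4 (.node 2 (.node 1 (.one ⟨2602, 2, 5⟩) (.one ⟨11362, 1, 5⟩)) (.node 1 (.one ⟨1541, 0, 4⟩) (.one ⟨12102, 0, 5⟩))) (.node 2 (.node 1 (.one ⟨15622, 1, 5⟩) (.one ⟨5520, 2, 1⟩)) (.node 1 (.one ⟨12779, 0, 6⟩) (.one ⟨10505, 1, 4⟩)))))))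
def par8_15_3 : Arr Par :=
  (.node 32 (.node 16 (.node 8 (.node 4 (.node 2 (.node 1 (.one ⟨3895, 2, 5⟩) (.one ⟨9973, 0, 3⟩)) (.node 1 (.one ⟨1524, 0, 1⟩) (.one ⟨994, 2, 5⟩))) (.node 2 (.node 1 (.one ⟨8408, 1, 2⟩) (.one ⟨330, 1, 2⟩)) (.node 1 (.one ⟨2565, 2, 2⟩) (.one ⟨6251, 1, 4⟩)))) (.node 4 (.node 2 (.node 1 (.one ⟨10684, 1, 4⟩) (.one ⟨8718, 2, 4⟩)) (.node 1 (.one ⟨14488, 1, 3⟩) (.one ⟨11368, 0, 1⟩))) (.node 2 (.node 1 (.one ⟨9900, 1, 3⟩) (.one ⟨898, 1, 3⟩)) (.node 1 (.one ⟨4733, 1, 0⟩) (.one ⟨5697, 2, 5⟩))))) (.node 8 (.node 4 (.node 2 (.node 1 (.one ⟨5695, 2, 5⟩) (.one ⟨2426, 1, 3⟩)) (.node 1 (.one ⟨5700, 2, 5⟩) (.one ⟨5699, 2, 1⟩))) (.node 2 (.node 1 (.one ⟨554, 1, 3⟩) (.one ⟨5696, 2, 1⟩)) (.node 1 (.one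 ⟨5193, 1, 6⟩) (.one ⟨16270, 2, 5⟩)))) (.node 4 (.node 2 (.node 1 (.one ⟨17019, 2, 5⟩) (.one ⟨8434, 2, 4⟩)) (.node 1 (.one ⟨7682, 2, 5⟩) (.one ⟨13198, 2, 4⟩))) (.node 2 (.node 1 (.one ⟨8691, 1, 5⟩) (.one ⟨3567, 2, 2⟩)) (.node 1 (.one ⟨10522, 1, 7⟩) (.one ⟨5267, 1, 6⟩)))))) (.node 16 (.node 8 (.node 4 (.node 2 (.node 1 (.one ⟨12017, 0, 7⟩) (.one ⟨15505, 1, 5⟩)) (.node 1 (.one ⟨1642, 1, 6⟩) (.one ⟨4787, 2, 4⟩))) (.node 2 (.node 1 (.one ⟨10536, 2, 5⟩) (.one ⟨4158, 1, 5⟩)) (.node 1 (.one ⟨16739, 1, 2⟩) (.one ⟨1529, 0, 4⟩)))) (.node 4 (.node 2 (.node 1 (.one ⟨7154, 2, 6⟩) (.one ⟨7854, 1, 4⟩)) (.node 1 (.one ⟨15834, 1, 4⟩) (.one ⟨15371, 2, 4⟩))) (.node 2 (.node 1 (.one ⟨15176, 2, 4⟩) (.one ⟨13970, 1, 3⟩)) (.node 1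 (.one ⟨5859, 1, 5⟩) (.one ⟨14440, 1, 2⟩))))) (.node 8 (.node 4 (.node 2 (.node 1 (.one ⟨14579, 2, 3⟩) (.one ⟨14586, 2, 4⟩)) (.node 1 (.one ⟨10763, 1, 5⟩) (.one ⟨10605, 1, 4⟩))) (.node 2 (.node 1 (.one ⟨9027, 0, 6⟩) (.one ⟨5949, 1, 4⟩)) (.node 1 (.one ⟨14368, 1, 5⟩) (.one ⟨9230, 1, 5⟩)))) (.node 4 (.node 2 (.node 1 (.one ⟨17195, 1, 5⟩) (.one ⟨16981, 2, 4⟩)) (.node 1 (.one ⟨11492, 2, 3⟩) (.one ⟨3634, 1, 1⟩))) (.node 2 (.node 1 (.one ⟨13193, 2, 4⟩) (.one ⟨7575, 0, 2⟩)) (.node 1 (.one ⟨13723, 2, 5⟩) (.one ⟨14711, 2, 5⟩)))))))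
def par8_15_4 : Arr Par :=
  (.node 32 (.node 16 (.node 8 (.node 4 (.node 2 (.node 1 (.one ⟨12025, 0, 4⟩) (.one ⟨1211, 1, 1⟩)) (.node 1 (.one ⟨13557, 0, 5⟩) (.one ⟨5853, 1, 2⟩))) (.node 2 (.node 1 (.one ⟨15317, 1, 5⟩) (.one ⟨9827, 1, 4⟩)) (.node 1 (.one ⟨3167, 1, 4⟩) (.one ⟨11255, 0, 5⟩)))) (.node 4 (.node 2 (.node 1 (.one ⟨7629, 1, 7⟩) (.one ⟨11261, 0, 5⟩)) (.node 1 (.one ⟨11260, 0, 4⟩) (.one ⟨108, 0, 1⟩))) (.node 2 (.node 1 (.one ⟨503, 0, 2⟩) (.one ⟨926, 0, 2⟩)) (.node 1 (.one ⟨739, 0, 2⟩) (.one ⟨15536, 0, 4⟩))))) (.node 8 (.node 4 (.node 2 (.node 1 (.one ⟨10546, 2, 5⟩) (.one ⟨11978, 2, 4⟩)) (.node 1 (.one ⟨7025, 1, 1⟩) (.one ⟨12132, 2, 5⟩))) (.node 2 (.node 1 (.one ⟨4108, 1, 6⟩) (.one ⟨3766, 2, 5⟩)) (.node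 1 (.one ⟨10158, 0, 5⟩) (.one ⟨11099, 2, 2⟩)))) (.node 4 (.node 2 (.node 1 (.one ⟨3736, 1, 5⟩) (.one ⟨11995, 0, 4⟩)) (.node 1 (.one ⟨4726, 0, 4⟩) (.one ⟨2503, 2, 3⟩))) (.node 2 (.node 1 (.one ⟨2341, 1, 3⟩) (.one ⟨2505, 2, 5⟩)) (.node 1 (.one ⟨11098, 2, 5⟩) (.one ⟨102, 0, 4⟩)))))) (.node 16 (.node 8 (.node 4 (.node 2 (.node 1 (.one ⟨14089, 1, 6⟩) (.one ⟨4911, 1, 5⟩)) (.node 1 (.one ⟨12950, 1, 5⟩) (.one ⟨7023, 2, 2⟩))) (.node 2 (.node 1 (.one ⟨6959, 2, 6⟩) (.one ⟨16969, 2, 1⟩)) (.node 1 (.one ⟨11284, 0, 4⟩) (.one ⟨2591, 1, 4⟩)))) (.node 4 (.node 2 (.node 1 (.one ⟨2484, 1, 5⟩) (.one ⟨10591, 1, 5⟩)) (.node 1 (.one ⟨10610, 1, 4⟩) (.one ⟨2515, 1, 4⟩))) (.node 2 (.node 1 (.one ⟨2564, 1, 1⟩) (.one ⟨10639, 1, 6⟩)) (.node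 1 (.one ⟨10560, 1, 6⟩) (.one ⟨1804, 1, 5⟩))))) (.node 8 (.node 4 (.node 2 (.node 1 (.one ⟨467, 2, 3⟩) (.one ⟨13948, 0, 2⟩)) (.node 1 (.one ⟨11385, 2, 5⟩) (.one ⟨1736, 2, 4⟩))) (.node 2 (.node 1 (.one ⟨5852, 1, 1⟩) (.one ⟨15401, 0, 2⟩)) (.node 1 (.one ⟨3634, 0, 1⟩) (.one ⟨16035, 2, 3⟩)))) (.node 4 (.node 2 (.node 1 (.one ⟨13872, 0, 5⟩) (.one ⟨964, 1, 5⟩)) (.node 1 (.one ⟨13567, 2, 4⟩) (.one ⟨437, 1, 3⟩))) (.node 2 (.node 1 (.one ⟨12278, 2, 4⟩) (.one ⟨16696, 2, 3⟩)) (.node 1 (.one ⟨8104, 1, 5⟩) (.one ⟨15127, 1, 3⟩)))))))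
def par8_15_5 : Arr Par :=
  (.node 32 (.node 16 (.node 8 (.node 4 (.node 2 (.node 1 (.one ⟨7028, 1, 6⟩) (.one ⟨7053, 1, 4⟩)) (.node 1 (.one ⟨15137, 1, 5⟩) (.one ⟨15102, 1, 3⟩))) (.node 2 (.node 1 (.one ⟨7055, 1, 3⟩) (.one ⟨2209, 2, 6⟩)) (.node 1 (.one ⟨15107, 1, 5⟩) (.one ⟨5696, 1, 1⟩)))) (.node 4 (.node 2 (.node 1 (.one ⟨13673, 1, 4⟩) (.one ⟨6844, 1, 4⟩)) (.node 1 (.one ⟨4769, 2, 6⟩) (.one ⟨8937, 2, 4⟩))) (.node 2 (.node 1 (.one ⟨10109, 2, 4⟩) (.one ⟨10540, 2, 4⟩)) (.node 1 (.one ⟨3631, 1, 1⟩) (.one ⟨13073, 2, 5⟩))))) (.node 8 (.node 4 (.node 2 (.node 1 (.one ⟨7048, 2, 4⟩) (.one ⟨12872, 2, 3⟩)) (.node 1 (.one ⟨6607, 2, 5⟩) (.one ⟨4215, 0, 4⟩))) (.node 2 (.node 1 (.one ⟨6805, 1, 5⟩) (.one ⟨2214, 2, 6⟩)) (.node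 1 (.one ⟨784, 1, 7⟩) (.one ⟨8199, 2, 3⟩)))) (.node 4 (.node 2 (.node 1 (.one ⟨3312, 0, 4⟩) (.one ⟨14383, 1, 5⟩)) (.node 1 (.one ⟨5786, 1, 4⟩) (.one ⟨10237, 1, 4⟩))) (.node 2 (.node 1 (.one ⟨2694, 1, 4⟩) (.one ⟨11802, 0, 4⟩)) (.node 1 (.one ⟨13980, 0, 5⟩) (.one ⟨8018, 0, 5⟩)))))) (.node 16 (.node 8 (.node 4 (.node 2 (.node 1 (.one ⟨7116, 0, 4⟩) (.one ⟨2959, 1, 5⟩)) (.node 1 (.one ⟨5734, 0, 4⟩) (.one ⟨14291, 1, 4⟩))) (.node 2 (.node 1 (.one ⟨11504, 2, 5⟩) (.one ⟨3279, 0, 4⟩)) (.node 1 (.one ⟨11507, 2, 5⟩) (.one ⟨10675, 1, 3⟩)))) (.node 4 (.node 2 (.node 1 (.one ⟨3097, 1, 5⟩) (.one ⟨15585, 2, 6⟩)) (.node 1 (.one ⟨14710, 0, 4⟩) (.one ⟨8295, 1, 5⟩))) (.node 2 (.node 1 (.one ⟨14138, 2, 4⟩) (.one ⟨9613, 2, 1⟩)) (.node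 1 (.one ⟨428, 1, 6⟩) (.one ⟨97, 1, 6⟩))))) (.node 8 (.node 4 (.node 2 (.node 1 (.one ⟨15819, 1, 2⟩) (.one ⟨15521, 1, 4⟩)) (.node 1 (.one ⟨5166, 1, 6⟩) (.one ⟨4152, 0, 4⟩))) (.node 2 (.node 1 (.one ⟨9765, 0, 5⟩) (.one ⟨8197, 1, 3⟩)) (.node 1 (.one ⟨10292, 0, 5⟩) (.one ⟨1982, 1, 7⟩)))) (.node 4 (.node 2 (.node 1 (.one ⟨6360, 2, 5⟩) (.one ⟨9143, 1, 5⟩)) (.node 1 (.one ⟨2983, 1, 5⟩) (.one ⟨2848, 1, 6⟩))) (.node 2 (.node 1 (.one ⟨10033, 1, 5⟩) (.one ⟨11043, 1, 7⟩)) (.node 1 (.one ⟨356, 1, 5⟩) (.one ⟨14655, 0, 4⟩)))))))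
def par8_15_6 : Arr Par :=
  (.node 32 (.node 16 (.node 8 (.node 4 (.node 2 (.node 1 (.one ⟨4079, 1, 3⟩) (.one ⟨13058, 0, 5⟩)) (.node 1 (.one ⟨6233, 2, 4⟩) (.one ⟨2854, 1, 3⟩))) (.node 2 (.node 1 (.one ⟨14822, 2, 6⟩) (.one ⟨8204, 2, 6⟩)) (.node 1 (.one ⟨12804, 0, 7⟩) (.one ⟨3422, 1, 4⟩)))) (.node 4 (.node 2 (.node 1 (.one ⟨14195, 1, 6⟩) (.one ⟨15371, 1, 4⟩)) (.node 1 (.one ⟨915, 1, 4⟩) (.one ⟨10269, 0, 6⟩))) (.node 2 (.node 1 (.one ⟨3729, 0, 1⟩) (.one ⟨10898, 1, 5⟩)) (.node 1 (.one ⟨15756, 2, 2⟩) (.one ⟨13394, 1, 6⟩))))) (.node 8 (.node 4 (.node 2 (.node 1 (.one ⟨1844, 0, 2⟩) (.one ⟨5362, 0, 5⟩)) (.node 1 (.one ⟨11042, 1, 6⟩) (.one ⟨1158, 2, 4⟩))) (.node 2 (.node 1 (.one ⟨15337, 0, 5⟩) (.one ⟨2850, 1, 6⟩))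 (.node 1 (.one ⟨7501, 0, 2⟩) (.one ⟨14220, 1, 5⟩)))) (.node 4 (.node 2 (.node 1 (.one ⟨8919, 2, 5⟩) (.one ⟨3949, 2, 5⟩)) (.node 1 (.one ⟨14215, 1, 5⟩) (.one ⟨6749, 2, 2⟩))) (.node 2 (.node 1 (.one ⟨349, 1, 4⟩) (.one ⟨853, 1, 4⟩)) (.node 1 (.one ⟨178, 2, 6⟩) (.one ⟨7766, 2, 4⟩)))))) (.node 16 (.node 8 (.node 4 (.node 2 (.node 1 (.one ⟨10424, 1, 5⟩) (.one ⟨691, 1, 5⟩)) (.node 1 (.one ⟨3703, 0, 6⟩) (.one ⟨4175, 1, 5⟩))) (.node 2 (.node 1 (.one ⟨5613, 2, 6⟩) (.one ⟨13695, 1, 4⟩)) (.node 1 (.one ⟨11868, 1, 2⟩) (.one ⟨14728, 2, 2⟩)))) (.node 4 (.node 2 (.node 1 (.one ⟨14702, 2, 4⟩) (.one ⟨10864, 1, 4⟩)) (.node 1 (.one ⟨7606, 2, 6⟩) (.one ⟨2822, 1, 4⟩))) (.node 2 (.node 1 (.one ⟨4531, 2, 1⟩) (.one ⟨2852, 1, 5⟩)) (.node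 1 (.one ⟨9529, 2, 5⟩) (.one ⟨3744, 1, 5⟩))))) (.node 8 (.node 4 (.node 2 (.node 1 (.one ⟨3749, 1, 2⟩) (.one ⟨3745, 1, 3⟩)) (.node 1 (.one ⟨1434, 0, 4⟩) (.one ⟨6485, 2, 2⟩))) (.node 2 (.node 1 (.one ⟨687, 1, 4⟩) (.one ⟨2865, 2, 7⟩)) (.node 1 (.one ⟨3428, 2, 5⟩) (.one ⟨786, 1, 5⟩)))) (.node 4 (.node 2 (.node 1 (.one ⟨16064, 1, 4⟩) (.one ⟨16068, 1, 6⟩)) (.node 1 (.one ⟨9162, 0, 4⟩) (.one ⟨15722, 2, 5⟩))) (.node 2 (.node 1 (.one ⟨16063, 1, 5⟩) (.one ⟨16067, 1, 5⟩)) (.node 1 (.one ⟨8, 1, 5⟩) (.one ⟨15594, 1, 5⟩)))))))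
def par8_15_7 : Arr Par :=
  (.node 32 (.node 16 (.node 8 (.node 4 (.node 2 (.node 1 (.one ⟨12021, 2, 6⟩) (.one ⟨13525, 1, 3⟩)) (.node 1 (.one ⟨10870, 1, 3⟩) (.one ⟨8763, 2, 5⟩))) (.node 2 (.node 1 (.one ⟨9989, 1, 6⟩) (.one ⟨10025, 2, 6⟩)) (.node 1 (.one ⟨4250, 2, 3⟩) (.one ⟨9293, 2, 7⟩)))) (.node 4 (.node 2 (.node 1 (.one ⟨9555, 2, 1⟩) (.one ⟨8611, 0, 5⟩)) (.node 1 (.one ⟨6765, 2, 4⟩) (.one ⟨16308, 1, 1⟩))) (.node 2 (.node 1 (.one ⟨4426, 1, 3⟩) (.one ⟨1454, 2, 6⟩)) (.node 1 (.one ⟨1285, 2, 5⟩) (.one ⟨13675, 2, 4⟩))))) (.node 8 (.node 4 (.node 2 (.node 1 (.one ⟨11349, 1, 5⟩) (.one ⟨2727, 1, 2⟩)) (.node 1 (.one ⟨9937, 2, 3⟩) (.one ⟨7345, 0, 5⟩))) (.node 2 (.node 1 (.one ⟨13522, 1, 5⟩) (.one ⟨2141, 2, 3⟩)) (.node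 1 (.one ⟨6061, 2, 4⟩) (.one ⟨1919, 2, 6⟩)))) (.node 4 (.node 2 (.node 1 (.one ⟨12999, 2, 5⟩) (.one ⟨15663, 2, 6⟩)) (.node 1 (.one ⟨6647, 2, 3⟩) (.one ⟨6892, 2, 5⟩))) (.node 2 (.node 1 (.one ⟨15955, 2, 4⟩) (.one ⟨1968, 1, 6⟩)) (.node 1 (.one ⟨766, 2, 5⟩) (.one ⟨14411, 1, 4⟩)))))) (.node 16 (.node 8 (.node 4 (.node 2 (.node 1 (.one ⟨15923, 0, 4⟩) (.one ⟨14844, 1, 5⟩)) (.node 1 (.one ⟨7209, 1, 4⟩) (.one ⟨13925, 2, 3⟩))) (.node 2 (.node 1 (.one ⟨7981, 0, 5⟩) (.one ⟨10837, 1, 2⟩)) (.node 1 (.one ⟨3182, 1, 4⟩) (.one ⟨9533, 0, 4⟩)))) (.node 4 (.node 2 (.node 1 (.one ⟨7212, 1, 5⟩) (.one ⟨9084, 1, 3⟩)) (.node 1 (.one ⟨6800, 1, 6⟩) (.one ⟨15203, 2, 4⟩))) (.node 2 (.node 1 (.one ⟨9873, 1, 6⟩) (.one ⟨11873, 1, 5⟩)) (.node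 1 (.one ⟨10387, 1, 5⟩) (.one ⟨15493, 1, 6⟩))))) (.node 8 (.node 4 (.node 2 (.node 1 (.one ⟨9509, 1, 3⟩) (.one ⟨1257, 2, 1⟩)) (.node 1 (.one ⟨5315, 1, 6⟩) (.one ⟨13549, 2, 5⟩))) (.node 2 (.node 1 (.one ⟨15950, 1, 4⟩) (.one ⟨5429, 2, 5⟩)) (.node 1 (.one ⟨7213, 1, 4⟩) (.one ⟨5568, 0, 5⟩)))) (.node 4 (.node 2 (.node 1 (.one ⟨7208, 1, 5⟩) (.one ⟨3465, 2, 5⟩)) (.node 1 (.one ⟨13630, 1, 4⟩) (.one ⟨16055, 0, 6⟩))) (.node 2 (.node 1 (.one ⟨3178, 1, 1⟩) (.one ⟨6499, 2, 5⟩)) (.node 1 (.one ⟨9180, 1, 1⟩) (.one ⟨10464, 2, 5⟩)))))))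
def par8_15_8 : Arr Par :=
  (.node 32 (.node 16 (.node 8 (.node 4 (.node 2 (.node 1 (.one ⟨10972, 1, 4⟩) (.one ⟨14267, 1, 3⟩)) (.node 1 (.one ⟨10740, 2, 5⟩) (.one ⟨10319, 2, 1⟩))) (.node 2 (.node 1 (.one ⟨919, 1, 4⟩) (.one ⟨7518, 1, 6⟩)) (.node 1 (.one ⟨10665, 2, 5⟩) (.one ⟨1008, 0, 5⟩)))) (.node 4 (.node 2 (.node 1 (.one ⟨1725, 2, 5⟩) (.one ⟨7786, 0, 5⟩)) (.node 1 (.one ⟨15394, 0, 4⟩) (.one ⟨15918, 0, 7⟩))) (.node 2 (.node 1 (.one ⟨15158, 2, 4⟩) (.one ⟨9744, 1, 4⟩)) (.node 1 (.one ⟨5178, 0, 6⟩) (.one ⟨324, 1, 5⟩))))) (.node 8 (.node 4 (.node 2 (.node 1 (.one ⟨15857, 0, 2⟩) (.one ⟨9204, 1, 5⟩)) (.node 1 (.one ⟨16111, 1, 5⟩) (.one ⟨2479, 1, 5⟩))) (.node 2 (.node 1 (.one ⟨3071, 2, 4⟩) (.one ⟨13065, 2, 6⟩)) (.node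 1 (.one ⟨16176, 1, 4⟩) (.one ⟨14249, 2, 5⟩)))) (.node 4 (.node 2 (.node 1 (.one ⟨12209, 1, 4⟩) (.one ⟨13717, 1, 7⟩)) (.node 1 (.one ⟨15599, 2, 3⟩) (.one ⟨8143, 1, 4⟩))) (.node 2 (.node 1 (.one ⟨11168, 1, 5⟩) (.one ⟨3525, 0, 3⟩)) (.node 1 (.one ⟨7246, 2, 6⟩) (.one ⟨12010, 1, 7⟩)))))) (.node 16 (.node 8 (.node 4 (.node 2 (.node 1 (.one ⟨5312, 1, 3⟩) (.one ⟨158, 1, 5⟩)) (.node 1 (.one ⟨11041, 1, 5⟩) (.one ⟨4049, 1, 1⟩))) (.node 2 (.node 1 (.one ⟨13520, 1, 6⟩) (.one ⟨11791, 2, 5⟩)) (.node 1 (.one ⟨3023, 1, 5⟩) (.one ⟨348, 0, 4⟩)))) (.node 4 (.node 2 (.node 1 (.one ⟨4547, 2, 2⟩) (.one ⟨15309, 0, 2⟩)) (.node 1 (.one ⟨14680, 2, 4⟩) (.one ⟨9080, 1, 5⟩))) (.node 2 (.node 1 (.one ⟨5364, 2, 4⟩) (.one ⟨15700, 2, 6⟩)) (.node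 1 (.one ⟨15602, 2, 6⟩) (.one ⟨7230, 1, 7⟩))))) (.node 8 (.node 4 (.node 2 (.node 1 (.one ⟨15441, 0, 5⟩) (.one ⟨13879, 1, 3⟩)) (.node 1 (.one ⟨6164, 1, 5⟩) (.one ⟨12268, 2, 3⟩))) (.node 2 (.node 1 (.one ⟨15658, 2, 5⟩) (.one ⟨3381, 1, 7⟩)) (.node 1 (.one ⟨11398, 1, 7⟩) (.one ⟨737, 1, 2⟩)))) (.node 4 (.node 2 (.node 1 (.one ⟨7733, 0, 7⟩) (.one ⟨14943, 2, 4⟩)) (.node 1 (.one ⟨7571, 0, 1⟩) (.one ⟨1735, 1, 6⟩))) (.node 2 (.node 1 (.one ⟨191, 1, 4⟩) (.one ⟨207, 0, 2⟩)) (.node 1 (.one ⟨496, 1, 2⟩) (.one ⟨4640, 2, 5⟩)))))))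
def par8_15_9 : Arr Par :=
  (.node 32 (.node 16 (.node 8 (.node 4 (.node 2 (.node 1 (.one ⟨1862, 1, 6⟩) (.one ⟨751, 2, 6⟩)) (.node 1 (.one ⟨4792, 2, 6⟩) (.one ⟨8397, 0, 5⟩))) (.node 2 (.node 1 (.one ⟨8754, 1, 6⟩) (.one ⟨15853, 2, 6⟩)) (.node 1 (.one ⟨8759, 0, 4⟩) (.one ⟨503, 1, 2⟩)))) (.node 4 (.node 2 (.node 1 (.one ⟨5243, 0, 3⟩) (.one ⟨4284, 1, 0⟩)) (.node 1 (.one ⟨13739, 1, 7⟩) (.one ⟨944, 1, 4⟩))) (.node 2 (.node 1 (.one ⟨2738, 0, 3⟩) (.one ⟨3623, 2, 3⟩)) (.node 1 (.one ⟨12069, 2, 3⟩) (.one ⟨14700, 0, 3⟩))))) (.node 8 (.node 4 (.node 2 (.node 1 (.one ⟨11326, 2, 5⟩) (.one ⟨13180, 2, 3⟩)) (.node 1 (.one ⟨8484, 0, 3⟩) (.one ⟨14334, 1, 3⟩))) (.node 2 (.node 1 (.one ⟨8788, 2, 7⟩) (.one ⟨4268, 0, 3⟩)) (.node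 1 (.one ⟨13696, 2, 4⟩) (.one ⟨17179, 1, 6⟩)))) (.node 4 (.node 2 (.node 1 (.one ⟨10055, 2, 4⟩) (.one ⟨16692, 0, 6⟩)) (.node 1 (.one ⟨4929, 2, 6⟩) (.one ⟨10497, 0, 4⟩))) (.node 2 (.node 1 (.one ⟨12300, 0, 4⟩) (.one ⟨8432, 0, 4⟩)) (.node 1 (.one ⟨7038, 0, 4⟩) (.one ⟨7660, 2, 5⟩)))))) (.node 16 (.node 8 (.node 4 (.node 2 (.node 1 (.one ⟨17003, 2, 7⟩) (.one ⟨8142, 2, 4⟩)) (.node 1 (.one ⟨15833, 1, 7⟩) (.one ⟨15993, 0, 3⟩))) (.node 2 (.node 1 (.one ⟨10307, 1, 2⟩) (.one ⟨15664, 1, 4⟩)) (.node 1 (.one ⟨15286, 1, 5⟩) (.one ⟨14490, 1, 4⟩)))) (.node 4 (.node 2 (.node 1 (.one ⟨8535, 1, 4⟩) (.one ⟨3601, 2, 3⟩)) (.node 1 (.one ⟨6251, 2, 4⟩) (.one ⟨10724, 1, 5⟩))) (.node 2 (.node 1 (.one ⟨4690, 1, 4⟩) (.one ⟨12635, 2, 4⟩))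 (.node 1 (.one ⟨13553, 1, 5⟩) (.one ⟨10650, 1, 6⟩))))) (.node 8 (.node 4 (.node 2 (.node 1 (.one ⟨12465, 0, 4⟩) (.one ⟨10291, 0, 5⟩)) (.node 1 (.one ⟨8330, 0, 5⟩) (.one ⟨15977, 0, 4⟩))) (.node 2 (.node 1 (.one ⟨732, 2, 3⟩) (.one ⟨2292, 2, 4⟩)) (.node 1 (.one ⟨10330, 2, 5⟩) (.one ⟨5200, 2, 4⟩)))) (.node 4 (.node 2 (.node 1 (.one ⟨16429, 0, 5⟩) (.one ⟨13331, 2, 2⟩)) (.node 1 (.one ⟨1653, 1, 3⟩) (.one ⟨1530, 2, 5⟩))) (.node 2 (.node 1 (.one ⟨12080, 1, 4⟩) (.one ⟨9326, 2, 2⟩)) (.node 1 (.one ⟨13232, 2, 2⟩) (.one ⟨9478, 2, 5⟩)))))))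
def par8_15_10 : Arr Par :=
  (.node 32 (.node 16 (.node 8 (.node 4 (.node 2 (.node 1 (.one ⟨2525, 0, 7⟩) (.one ⟨9251, 2, 5⟩)) (.node 1 (.one ⟨10962, 1, 5⟩) (.one ⟨9321, 2, 2⟩))) (.node 2 (.node 1 (.one ⟨3958, 1, 6⟩) (.one ⟨9369, 2, 6⟩)) (.node 1 (.one ⟨2757, 1, 2⟩) (.one ⟨4676, 1, 4⟩)))) (.node 4 (.node 2 (.node 1 (.one ⟨14119, 1, 5⟩) (.one ⟨10922, 2, 3⟩)) (.node 1 (.one ⟨5689, 2, 4⟩) (.one ⟨8549, 1, 5⟩))) (.node 2 (.node 1 (.one ⟨2790, 2, 4⟩) (.one ⟨6533, 1, 5⟩)) (.node 1 (.one ⟨2423, 0, 4⟩) (.one ⟨12838, 2, 6⟩))))) (.node 8 (.node 4 (.node 2 (.node 1 (.one ⟨15929, 0, 5⟩) (.one ⟨3234, 0, 4⟩)) (.node 1 (.one ⟨10192, 0, 5⟩) (.one ⟨346, 0, 5⟩))) (.node 2 (.node 1 (.one ⟨11472, 0, 5⟩) (.one ⟨8974, 2, 6⟩)) (.node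 1 (.one ⟨17122, 0, 6⟩) (.one ⟨17085, 1, 6⟩)))) (.node 4 (.node 2 (.node 1 (.one ⟨5651, 1, 6⟩) (.one ⟨2168, 2, 6⟩)) (.node 1 (.one ⟨16305, 2, 5⟩) (.one ⟨2348, 2, 6⟩))) (.node 2 (.node 1 (.one ⟨781, 0, 7⟩) (.one ⟨844, 2, 6⟩)) (.node 1 (.one ⟨16278, 2, 6⟩) (.one ⟨5874, 1, 6⟩)))))) (.node 16 (.node 8 (.node 4 (.node 2 (.node 1 (.one ⟨3589, 2, 4⟩) (.one ⟨9847, 1, 3⟩)) (.node 1 (.one ⟨16973, 2, 3⟩) (.one ⟨3349, 0, 2⟩))) (.node 2 (.node 1 (.one ⟨9829, 2, 6⟩) (.one ⟨9222, 1, 3⟩)) (.node 1 (.one ⟨14038, 1, 7⟩) (.one ⟨15209, 1, 5⟩)))) (.node 4 (.node 2 (.node 1 (.one ⟨7959, 1, 6⟩) (.one ⟨8398, 2, 5⟩)) (.node 1 (.one ⟨13038, 0, 4⟩) (.one ⟨9395, 1, 3⟩))) (.node 2 (.node 1 (.one ⟨12018, 2, 6⟩) (.one ⟨11957, 2, 5⟩)) (.node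 1 (.one ⟨8790, 0, 6⟩) (.one ⟨8053, 1, 2⟩))))) (.node 8 (.node 4 (.node 2 (.node 1 (.one ⟨4016, 1, 5⟩) (.one ⟨14237, 2, 5⟩)) (.node 1 (.one ⟨2368, 2, 6⟩) (.one ⟨3172, 1, 4⟩))) (.node 2 (.node 1 (.one ⟨14607, 2, 5⟩) (.one ⟨2660, 1, 5⟩)) (.node 1 (.one ⟨6331, 2, 4⟩) (.one ⟨9818, 2, 5⟩)))) (.node 4 (.node 2 (.node 1 (.one ⟨1998, 2, 3⟩) (.one ⟨7298, 2, 5⟩)) (.node 1 (.one ⟨15608, 2, 6⟩) (.one ⟨5423, 0, 3⟩))) (.node 2 (.node 1 (.one ⟨9926, 0, 4⟩) (.one ⟨7799, 2, 5⟩)) (.node 1 (.one ⟨5756, 0, 2⟩) (.one ⟨2077, 2, 4⟩)))))))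
def par8_15_11 : Arr Par :=
  (.node 32 (.node 16 (.node 8 (.node 4 (.node 2 (.node 1 (.one ⟨7047, 2, 3⟩) (.one ⟨2481, 0, 5⟩)) (.node 1 (.one ⟨16176, 0, 4⟩) (.one ⟨11799, 0, 4⟩))) (.node 2 (.node 1 (.one ⟨6672, 2, 5⟩) (.one ⟨308, 1, 6⟩)) (.node 1 (.one ⟨10027, 2, 5⟩) (.one ⟨9343, 2, 5⟩)))) (.node 4 (.node 2 (.node 1 (.one ⟨9104, 2, 5⟩) (.one ⟨11147, 1, 3⟩)) (.node 1 (.one ⟨9241, 2, 5⟩) (.one ⟨3198, 1, 3⟩))) (.node 2 (.node 1 (.one ⟨9086, 2, 3⟩) (.one ⟨9078, 2, 6⟩)) (.node 1 (.one ⟨9598, 2, 5⟩) (.one ⟨3875, 1, 5⟩))))) (.node 8 (.node 4 (.node 2 (.node 1 (.one ⟨6253, 2, 5⟩) (.one ⟨971, 1, 6⟩)) (.node 1 (.one ⟨6323, 1, 4⟩) (.one ⟨5465, 1, 6⟩))) (.node 2 (.node 1 (.one ⟨8410, 0, 4⟩) (.one ⟨10471, 2, 4⟩)) (.node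 1 (.one ⟨6736, 1, 5⟩) (.one ⟨3755, 2, 4⟩)))) (.node 4 (.node 2 (.node 1 (.one ⟨5707, 0, 6⟩) (.one ⟨14534, 2, 2⟩)) (.node 1 (.one ⟨14191, 2, 3⟩) (.one ⟨15811, 1, 6⟩))) (.node 2 (.node 1 (.one ⟨114, 0, 5⟩) (.one ⟨10460, 0, 4⟩)) (.node 1 (.one ⟨16215, 0, 6⟩) (.one ⟨15281, 1, 6⟩)))))) (.node 16 (.node 8 (.node 4 (.node 2 (.node 1 (.one ⟨12162, 0, 4⟩) (.one ⟨13180, 1, 3⟩)) (.node 1 (.one ⟨14173, 2, 6⟩) (.one ⟨4813, 1, 5⟩))) (.node 2 (.node 1 (.one ⟨14841, 2, 5⟩) (.one ⟨551, 2, 6⟩)) (.node 1 (.one ⟨2798, 2, 5⟩) (.one ⟨8585, 1, 3⟩)))) (.node 4 (.node 2 (.node 1 (.one ⟨5939, 1, 2⟩) (.one ⟨7023, 1, 2⟩)) (.node 1 (.one ⟨8022, 1, 7⟩) (.one ⟨3567, 1, 2⟩))) (.node 2 (.node 1 (.one ⟨2782, 1, 4⟩) (.one ⟨1344, 1, 3⟩)) (.node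 1 (.one ⟨4684, 1, 4⟩) (.one ⟨10175, 2, 4⟩))))) (.node 8 (.node 4 (.node 2 (.node 1 (.one ⟨3606, 0, 6⟩) (.one ⟨863, 2, 4⟩)) (.node 1 (.one ⟨2068, 2, 5⟩) (.one ⟨2381, 1, 3⟩))) (.node 2 (.node 1 (.one ⟨1579, 2, 5⟩) (.one ⟨534, 0, 7⟩)) (.node 1 (.one ⟨3602, 0, 4⟩) (.one ⟨6488, 2, 5⟩)))) (.node 4 (.node 2 (.node 1 (.one ⟨5002, 0, 3⟩) (.one ⟨866, 2, 4⟩)) (.node 1 (.one ⟨10378, 2, 6⟩) (.one ⟨4017, 1, 5⟩))) (.node 2 (.node 1 (.one ⟨5620, 2, 4⟩) (.one ⟨9958, 2, 5⟩)) (.node 1 (.one ⟨14769, 1, 3⟩) (.one ⟨15673, 2, 6⟩)))))))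
def par8_15_12 : Arr Par :=
  (.node 32 (.node 16 (.node 8 (.node 4 (.node 2 (.node 1 (.one ⟨5986, 2, 2⟩) (.one ⟨12971, 0, 3⟩)) (.node 1 (.one ⟨13840, 1, 4⟩) (.one ⟨1243, 1, 2⟩))) (.node 2 (.node 1 (.one ⟨9339, 2, 5⟩) (.one ⟨14976, 0, 3⟩)) (.node 1 (.one ⟨3531, 2, 5⟩) (.one ⟨4703, 2, 2⟩)))) (.node 4 (.node 2 (.node 1 (.one ⟨15128, 1, 6⟩) (.one ⟨1343, 1, 6⟩)) (.node 1 (.one ⟨16553, 2, 4⟩) (.one ⟨2864, 2, 5⟩))) (.node 2 (.node 1 (.one ⟨3592, 1, 4⟩) (.one ⟨1102, 2, 3⟩)) (.node 1 (.one ⟨15002, 2, 3⟩) (.one ⟨4284, 1, 4⟩))))) (.node 8 (.node 4 (.node 2 (.node 1 (.one ⟨14003, 0, 6⟩) (.one ⟨11108, 1, 3⟩)) (.node 1 (.one ⟨363, 1, 3⟩) (.one ⟨3206, 1, 3⟩))) (.node 2 (.node 1 (.one ⟨14398, 2, 6⟩) (.one ⟨2554, 2, 4⟩)) (.node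 1 (.one ⟨14238, 2, 5⟩) (.one ⟨9334, 2, 6⟩)))) (.node 4 (.node 2 (.node 1 (.one ⟨9851, 1, 2⟩) (.one ⟨10622, 1, 3⟩)) (.node 1 (.one ⟨5785, 2, 4⟩) (.one ⟨3806, 1, 3⟩))) (.node 2 (.node 1 (.one ⟨13782, 2, 2⟩) (.one ⟨3601, 1, 3⟩)) (.node 1 (.one ⟨5694, 2, 7⟩) (.one ⟨13400, 2, 6⟩)))))) (.node 16 (.node 8 (.node 4 (.node 2 (.node 1 (.one ⟨4472, 2, 6⟩) (.one ⟨7065, 2, 7⟩)) (.node 1 (.one ⟨14095, 2, 7⟩) (.one ⟨12272, 2, 6⟩))) (.node 2 (.node 1 (.one ⟨5483, 2, 2⟩) (.one ⟨6093, 2, 6⟩)) (.node 1 (.one ⟨17040, 1, 5⟩) (.one ⟨3416, 0, 5⟩)))) (.node 4 (.node 2 (.node 1 (.one ⟨3426, 2, 5⟩) (.one ⟨16375, 1, 4⟩)) (.node 1 (.one ⟨3156, 0, 5⟩) (.one ⟨5391, 0, 3⟩))) (.node 2 (.node 1 (.one ⟨345, 0, 4⟩) (.one ⟨1989, 0, 5⟩)) (.node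 1 (.one ⟨5291, 0, 5⟩) (.one ⟨11001, 2, 5⟩))))) (.node 8 (.node 4 (.node 2 (.node 1 (.one ⟨4099, 2, 3⟩) (.one ⟨11942, 2, 6⟩)) (.node 1 (.one ⟨3136, 2, 5⟩) (.one ⟨10530, 2, 5⟩))) (.node 2 (.node 1 (.one ⟨4931, 2, 5⟩) (.one ⟨13172, 2, 5⟩)) (.node 1 (.one ⟨2177, 2, 6⟩) (.one ⟨4737, 2, 5⟩)))) (.node 4 (.node 2 (.node 1 (.one ⟨11465, 1, 6⟩) (.one ⟨6151, 1, 2⟩)) (.node 1 (.one ⟨5089, 2, 4⟩) (.one ⟨9940, 2, 5⟩))) (.node 2 (.node 1 (.one ⟨12892, 2, 4⟩) (.one ⟨13236, 2, 4⟩)) (.node 1 (.one ⟨10565, 2, 4⟩) (.one ⟨4665, 2, 3⟩)))))))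
def par8_15_13 : Arr Par :=
  (.node 32 (.node 16 (.node 8 (.node 4 (.node 2 (.node 1 (.one ⟨12482, 0, 1⟩) (.one ⟨8028, 2, 6⟩)) (.node 1 (.one ⟨8131, 1, 6⟩) (.one ⟨12887, 2, 6⟩))) (.node 2 (.node 1 (.one ⟨15948, 1, 4⟩) (.one ⟨10341, 1, 7⟩)) (.node 1 (.one ⟨16401, 1, 4⟩) (.one ⟨16391, 0, 1⟩)))) (.node 4 (.node 2 (.node 1 (.one ⟨9608, 0, 5⟩) (.one ⟨8108, 0, 5⟩)) (.node 1 (.one ⟨2412, 0, 5⟩) (.one ⟨3220, 2, 3⟩))) (.node 2 (.node 1 (.one ⟨9119, 1, 6⟩) (.one ⟨5006, 1, 4⟩)) (.node 1 (.one ⟨15583, 2, 7⟩) (.one ⟨7605, 0, 4⟩))))) (.node 8 (.node 4 (.node 2 (.node 1 (.one ⟨6837, 1, 5⟩) (.one ⟨14885, 2, 7⟩)) (.node 1 (.one ⟨9611, 0, 4⟩) (.one ⟨16167, 1, 6⟩))) (.node 2 (.node 1 (.one ⟨7908, 1, 5⟩) (.one ⟨12702, 2, 5⟩))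 (.node 1 (.one ⟨12844, 1, 5⟩) (.one ⟨9121, 2, 5⟩)))) (.node 4 (.node 2 (.node 1 (.one ⟨10336, 1, 4⟩) (.one ⟨157, 1, 5⟩)) (.node 1 (.one ⟨501, 2, 6⟩) (.one ⟨10368, 1, 3⟩))) (.node 2 (.node 1 (.one ⟨9845, 0, 5⟩) (.one ⟨17191, 2, 6⟩)) (.node 1 (.one ⟨1648, 1, 3⟩) (.one ⟨2224, 2, 4⟩)))))) (.node 16 (.node 8 (.node 4 (.node 2 (.node 1 (.one ⟨10297, 2, 2⟩) (.one ⟨2278, 2, 4⟩)) (.node 1 (.one ⟨10348, 2, 5⟩) (.one ⟨9603, 2, 6⟩))) (.node 2 (.node 1 (.one ⟨1438, 2, 6⟩) (.one ⟨11747, 1, 3⟩)) (.node 1 (.one ⟨77, 2, 1⟩) (.one ⟨12519, 0, 5⟩)))) (.node 4 (.node 2 (.node 1 (.one ⟨2641, 1, 5⟩) (.one ⟨6980, 1, 5⟩)) (.node 1 (.one ⟨2257, 2, 5⟩) (.one ⟨6455, 1, 5⟩))) (.node 2 (.node 1 (.one ⟨10670, 2, 5⟩) (.one ⟨13631, 2, 5⟩))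 (.node 1 (.one ⟨2925, 1, 6⟩) (.one ⟨3246, 2, 4⟩))))) (.node 8 (.node 4 (.node 2 (.node 1 (.one ⟨3632, 1, 5⟩) (.one ⟨9413, 1, 6⟩)) (.node 1 (.one ⟨5854, 1, 4⟩) (.one ⟨13719, 2, 5⟩))) (.node 2 (.node 1 (.one ⟨2001, 1, 3⟩) (.one ⟨9767, 2, 6⟩)) (.node 1 (.one ⟨16667, 2, 5⟩) (.one ⟨2542, 1, 5⟩)))) (.node 4 (.node 2 (.node 1 (.one ⟨12058, 1, 3⟩) (.one ⟨9597, 2, 5⟩)) (.node 1 (.one ⟨11712, 1, 2⟩) (.one ⟨2588, 1, 3⟩))) (.node 2 (.node 1 (.one ⟨9242, 2, 5⟩) (.one ⟨987, 1, 3⟩)) (.node 1 (.one ⟨1312, 2, 5⟩) (.one ⟨16599, 1, 2⟩)))))))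
def par8_15_14 : Arr Par :=
  (.node 32 (.node 16 (.node 8 (.node 4 (.node 2 (.node 1 (.one ⟨15124, 0, 4⟩) (.one ⟨13452, 2, 4⟩)) (.node 1 (.one ⟨9938, 1, 4⟩) (.one ⟨1257, 0, 1⟩))) (.node 2 (.node 1 (.one ⟨3530, 1, 4⟩) (.one ⟨6775, 1, 5⟩)) (.node 1 (.one ⟨12853, 2, 5⟩) (.one ⟨4258, 1, 0⟩)))) (.node 4 (.node 2 (.node 1 (.one ⟨6373, 1, 3⟩) (.one ⟨2451, 0, 5⟩)) (.node 1 (.one ⟨13795, 0, 5⟩) (.one ⟨16239, 0, 5⟩))) (.node 2 (.node 1 (.one ⟨3610, 0, 5⟩) (.one ⟨7758, 2, 4⟩)) (.node 1 (.one ⟨6915, 1, 4⟩) (.one ⟨1108, 0, 4⟩))))) (.node 8 (.node 4 (.node 2 (.node 1 (.one ⟨3290, 1, 6⟩) (.one ⟨16301, 0, 6⟩)) (.node 1 (.one ⟨6649, 2, 3⟩) (.one ⟨6607, 1, 5⟩))) (.node 2 (.node 1 (.one ⟨14849, 0, 4⟩) (.one ⟨10819, 1, 6⟩)) (.node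 1 (.one ⟨14457, 1, 5⟩) (.one ⟨4158, 0, 5⟩)))) (.node 4 (.node 2 (.node 1 (.one ⟨8814, 1, 5⟩) (.one ⟨1256, 0, 5⟩)) (.node 1 (.one ⟨15868, 1, 2⟩) (.one ⟨1092, 1, 4⟩))) (.node 2 (.node 1 (.one ⟨15227, 2, 6⟩) (.one ⟨1004, 2, 3⟩)) (.node 1 (.one ⟨4406, 1, 7⟩) (.one ⟨12552, 0, 7⟩)))))) (.node 16 (.node 8 (.node 4 (.node 2 (.node 1 (.one ⟨13040, 1, 5⟩) (.one ⟨4617, 1, 5⟩)) (.node 1 (.one ⟨5727, 2, 4⟩) (.one ⟨11913, 1, 3⟩))) (.node 2 (.node 1 (.one ⟨12528, 0, 4⟩) (.one ⟨736, 2, 6⟩)) (.node 1 (.one ⟨17030, 2, 4⟩) (.one ⟨16263, 1, 1⟩)))) (.node 4 (.node 2 (.node 1 (.one ⟨9118, 0, 5⟩) (.one ⟨1114, 0, 5⟩)) (.node 1 (.one ⟨14662, 0, 4⟩) (.one ⟨9781, 1, 4⟩))) (.node 2 (.node 1 (.one ⟨16734, 1, 4⟩) (.one ⟨2827, 2, 5⟩)) (.node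 1 (.one ⟨2905, 1, 2⟩) (.one ⟨9354, 2, 4⟩))))) (.node 8 (.node 4 (.node 2 (.node 1 (.one ⟨13435, 2, 7⟩) (.one ⟨2302, 1, 4⟩)) (.node 1 (.one ⟨15163, 2, 3⟩) (.one ⟨10395, 2, 4⟩))) (.node 2 (.node 1 (.one ⟨5087, 1, 0⟩) (.one ⟨2337, 1, 4⟩)) (.node 1 (.one ⟨10372, 1, 6⟩) (.one ⟨11123, 1, 4⟩)))) (.node 4 (.node 2 (.node 1 (.one ⟨9444, 1, 4⟩) (.one ⟨10236, 2, 4⟩)) (.node 1 (.one ⟨1127, 2, 4⟩) (.one ⟨4333, 1, 3⟩))) (.node 2 (.node 1 (.one ⟨5227, 1, 5⟩) (.one ⟨16309, 2, 5⟩)) (.node 1 (.one ⟨8215, 2, 6⟩) (.one ⟨9925, 2, 5⟩)))))))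
def par8_15_15 : Arr Par :=
  (.node 32 (.node 16 (.node 8 (.node 4 (.node 2 (.node 1 (.one ⟨7319, 1, 5⟩) (.one ⟨4465, 1, 0⟩)) (.node 1 (.one ⟨9923, 2, 4⟩) (.one ⟨11761, 1, 5⟩))) (.node 2 (.node 1 (.one ⟨9921, 2, 5⟩) (.one ⟨14930, 1, 4⟩)) (.node 1 (.one ⟨3446, 2, 4⟩) (.one ⟨2472, 0, 6⟩)))) (.node 4 (.node 2 (.node 1 (.one ⟨1502, 0, 1⟩) (.one ⟨11270, 0, 4⟩)) (.node 1 (.one ⟨5157, 1, 2⟩) (.one ⟨16963, 1, 7⟩))) (.node 2 (.node 1 (.one ⟨12004, 0, 5⟩) (.one ⟨4733, 0, 5⟩)) (.node 1 (.one ⟨493, 2, 4⟩) (.one ⟨4992, 2, 4⟩))))) (.node 8 (.node 4 (.node 2 (.node 1 (.one ⟨16020, 1, 6⟩) (.one ⟨14596, 2, 5⟩)) (.node 1 (.one ⟨13121, 1, 5⟩) (.one ⟨15709, 1, 5⟩))) (.node 2 (.node 1 (.one ⟨9592, 2, 5⟩) (.one ⟨13376, 1, 6⟩))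 (.node 1 (.one ⟨8877, 2, 5⟩) (.one ⟨2079, 1, 5⟩)))) (.node 4 (.node 2 (.node 1 (.one ⟨12080, 0, 4⟩) (.one ⟨12738, 0, 4⟩)) (.node 1 (.one ⟨2084, 1, 5⟩) (.one ⟨2082, 1, 6⟩))) (.node 2 (.node 1 (.one ⟨28, 1, 5⟩) (.one ⟨787, 1, 5⟩)) (.node 1 (.one ⟨2085, 1, 6⟩) (.one ⟨15502, 1, 3⟩)))))) (.node 16 (.node 8 (.node 4 (.node 2 (.node 1 (.one ⟨5133, 2, 4⟩) (.one ⟨1497, 0, 1⟩)) (.node 1 (.one ⟨5482, 1, 5⟩) (.one ⟨4723, 0, 6⟩))) (.node 2 (.node 1 (.one ⟨3752, 2, 3⟩) (.one ⟨4716, 1, 6⟩)) (.node 1 (.one ⟨12831, 2, 4⟩) (.one ⟨6710, 1, 5⟩)))) (.node 4 (.node 2 (.node 1 (.one ⟨15128, 2, 6⟩) (.one ⟨7545, 2, 6⟩)) (.node 1 (.one ⟨3612, 1, 5⟩) (.one ⟨13229, 2, 5⟩))) (.node 2 (.node 1 (.one ⟨5764, 2, 5⟩) (.one ⟨5623, 1, 3⟩)) (.node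 1 (.one ⟨8478, 1, 5⟩) (.one ⟨3197, 1, 2⟩))))) (.node 8 (.node 4 (.node 2 (.node 1 (.one ⟨13831, 2, 6⟩) (.one ⟨12057, 0, 1⟩)) (.node 1 (.one ⟨9454, 2, 1⟩) (.one ⟨3303, 2, 5⟩))) (.node 2 (.node 1 (.one ⟨13122, 1, 3⟩) (.one ⟨12061, 0, 4⟩)) (.node 1 (.one ⟨265, 0, 1⟩) (.one ⟨12637, 2, 3⟩)))) (.node 4 (.node 2 (.node 1 (.one ⟨2855, 2, 4⟩) (.one ⟨6786, 2, 5⟩)) (.node 1 (.one ⟨16504, 2, 3⟩) (.one ⟨835, 1, 3⟩))) (.node 2 (.node 1 (.one ⟨15913, 2, 3⟩) (.one ⟨11663, 2, 3⟩)) (.node 1 (.one ⟨770, 1, 3⟩) (.one ⟨12575, 1, 4⟩)))))))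
def par8_15 : Arr Par :=
  (.node 512 (.node 256 (.node 128 (.node 64 par8_15_0 par8_15_1) (.node 64 par8_15_2 par8_15_3)) (.node 128 (.node 64 par8_15_4 par8_15_5) (.node 64 par8_15_6 par8_15_7))) (.node 256 (.node 128 (.node 64 par8_15_8 par8_15_9) (.node 64 par8_15_10 par8_15_11)) (.node 128 (.node 64 par8_15_12 par8_15_13) (.node 64 par8_15_14 par8_15_15))))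
def par8_16_0 : Arr Par :=
  (.node 32 (.node 16 (.node 8 (.node 4 (.node 2 (.node 1 (.one ⟨12074, 0, 2⟩) (.one ⟨14430, 2, 1⟩)) (.node 1 (.one ⟨12197, 1, 3⟩) (.one ⟨4644, 2, 5⟩))) (.node 2 (.node 1 (.one ⟨16961, 2, 3⟩) (.one ⟨13373, 1, 5⟩)) (.node 1 (.one ⟨12073, 0, 3⟩) (.one ⟨4386, 1, 0⟩)))) (.node 4 (.node 2 (.node 1 (.one ⟨9674, 2, 5⟩) (.one ⟨11764, 1, 5⟩)) (.node 1 (.one ⟨10685, 1, 4⟩) (.one ⟨3247, 1, 5⟩))) (.node 2 (.node 1 (.one ⟨4693, 1, 4⟩) (.one ⟨4336, 1, 0⟩)) (.node 1 (.one ⟨9676, 2, 5⟩) (.one ⟨2429, 1, 3⟩))))) (.node 8 (.node 4 (.node 2 (.node 1 (.one ⟨4964, 2, 5⟩) (.one ⟨8586, 0, 3⟩)) (.node 1 (.one ⟨3080, 0, 3⟩) (.one ⟨14138, 1, 4⟩))) (.node 2 (.node 1 (.one ⟨8731, 2, 3⟩) (.one ⟨2636, 1, 7⟩)) (.node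 1 (.one ⟨2480, 1, 4⟩) (.one ⟨6726, 1, 5⟩)))) (.node 4 (.node 2 (.node 1 (.one ⟨13205, 2, 4⟩) (.one ⟨7426, 2, 4⟩)) (.node 1 (.one ⟨6590, 1, 4⟩) (.one ⟨7037, 2, 3⟩))) (.node 2 (.node 1 (.one ⟨10764, 1, 4⟩) (.one ⟨10603, 1, 4⟩)) (.node 1 (.one ⟨2109, 1, 5⟩) (.one ⟨2258, 1, 2⟩)))))) (.node 16 (.node 8 (.node 4 (.node 2 (.node 1 (.one ⟨12949, 1, 4⟩) (.one ⟨10978, 2, 4⟩)) (.node 1 (.one ⟨2179, 2, 5⟩) (.one ⟨12668, 2, 6⟩))) (.node 2 (.node 1 (.one ⟨13070, 1, 6⟩) (.one ⟨2026, 2, 3⟩)) (.node 1 (.one ⟨11006, 2, 6⟩) (.one ⟨10168, 2, 4⟩)))) (.node 4 (.node 2 (.node 1 (.one ⟨13983, 1, 4⟩) (.one ⟨11968, 2, 5⟩)) (.node 1 (.one ⟨10874, 1, 5⟩) (.one ⟨519, 0, 3⟩))) (.node 2 (.node 1 (.one ⟨1619, 1, 4⟩) (.one ⟨8125, 2, 4⟩)) (.node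 1 (.one ⟨6686, 1, 4⟩) (.one ⟨16583, 2, 4⟩))))) (.node 8 (.node 4 (.node 2 (.node 1 (.one ⟨6207, 2, 4⟩) (.one ⟨13545, 0, 3⟩)) (.node 1 (.one ⟨11900, 2, 4⟩) (.one ⟨3584, 2, 4⟩))) (.node 2 (.node 1 (.one ⟨11519, 2, 5⟩) (.one ⟨14636, 2, 4⟩)) (.node 1 (.one ⟨8491, 2, 4⟩) (.one ⟨5067, 1, 3⟩)))) (.node 4 (.node 2 (.node 1 (.one ⟨10835, 1, 3⟩) (.one ⟨15198, 2, 6⟩)) (.node 1 (.one ⟨9650, 2, 2⟩) (.one ⟨7364, 1, 3⟩))) (.node 2 (.node 1 (.one ⟨199, 2, 3⟩) (.one ⟨10828, 2, 6⟩)) (.node 1 (.one ⟨14462, 2, 4⟩) (.one ⟨12731, 1, 6⟩)))))))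
def par8_16_1 : Arr Par :=
  (.node 32 (.node 16 (.node 8 (.node 4 (.node 2 (.node 1 (.one ⟨7571, 2, 1⟩) (.one ⟨1563, 1, 1⟩)) (.node 1 (.one ⟨1096, 0, 6⟩) (.one ⟨3248, 0, 5⟩))) (.node 2 (.node 1 (.one ⟨10337, 0, 4⟩) (.one ⟨7436, 1, 1⟩)) (.node 1 (.one ⟨12555, 1, 5⟩) (.one ⟨3636, 2, 3⟩)))) (.node 4 (.node 2 (.node 1 (.one ⟨12685, 1, 6⟩) (.one ⟨17033, 1, 6⟩)) (.node 1 (.one ⟨10653, 1, 7⟩) (.one ⟨8395, 1, 5⟩))) (.node 2 (.node 1 (.one ⟨16563, 2, 5⟩) (.one ⟨6516, 1, 4⟩)) (.node 1 (.one ⟨11950, 2, 6⟩) (.one ⟨13255, 2, 2⟩))))) (.node 8 (.node 4 (.node 2 (.node 1 (.one ⟨14366, 1, 3⟩) (.one ⟨3407, 2, 6⟩)) (.node 1 (.one ⟨6062, 1, 3⟩) (.one ⟨337, 2, 4⟩))) (.node 2 (.node 1 (.one ⟨12377, 2, 3⟩) (.one ⟨7463, 0, 7⟩)) (.node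 1 (.one ⟨14920, 0, 6⟩) (.one ⟨15760, 2, 3⟩)))) (.node 4 (.node 2 (.node 1 (.one ⟨8686, 0, 2⟩) (.one ⟨12954, 0, 4⟩)) (.node 1 (.one ⟨109, 0, 5⟩) (.one ⟨10271, 0, 3⟩))) (.node 2 (.node 1 (.one ⟨2706, 1, 5⟩) (.one ⟨10162, 2, 4⟩)) (.node 1 (.one ⟨13029, 2, 4⟩) (.one ⟨10369, 2, 4⟩)))))) (.node 16 (.node 8 (.node 4 (.node 2 (.node 1 (.one ⟨4146, 1, 7⟩) (.one ⟨13156, 1, 6⟩)) (.node 1 (.one ⟨10976, 1, 3⟩) (.one ⟨6460, 1, 3⟩))) (.node 2 (.node 1 (.one ⟨7600, 1, 5⟩) (.one ⟨16675, 1, 5⟩)) (.node 1 (.one ⟨15266, 1, 4⟩) (.one ⟨17109, 1, 5⟩)))) (.node 4 (.node 2 (.node 1 (.one ⟨10165, 2, 6⟩) (.one ⟨4668, 2, 5⟩)) (.node 1 (.one ⟨7425, 0, 2⟩) (.one ⟨15180, 0, 5⟩))) (.node 2 (.node 1 (.one ⟨6861, 2, 5⟩) (.one ⟨15798, 1, 6⟩))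 (.node 1 (.one ⟨6844, 2, 4⟩) (.one ⟨5331, 0, 5⟩))))) (.node 8 (.node 4 (.node 2 (.node 1 (.one ⟨12774, 1, 6⟩) (.one ⟨5182, 0, 4⟩)) (.node 1 (.one ⟨9376, 1, 2⟩) (.one ⟨16319, 1, 6⟩))) (.node 2 (.node 1 (.one ⟨12057, 1, 1⟩) (.one ⟨16477, 0, 5⟩)) (.node 1 (.one ⟨3013, 2, 4⟩) (.one ⟨7332, 1, 6⟩)))) (.node 4 (.node 2 (.node 1 (.one ⟨15283, 0, 2⟩) (.one ⟨8540, 1, 4⟩)) (.node 1 (.one ⟨7872, 2, 1⟩) (.one ⟨11180, 1, 2⟩))) (.node 2 (.node 1 (.one ⟨4131, 0, 1⟩) (.one ⟨8607, 0, 5⟩)) (.node 1 (.one ⟨10302, 2, 6⟩) (.one ⟨3647, 2, 5⟩)))))))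
def par8_16_2 : Arr Par :=
  (.node 32 (.node 16 (.node 8 (.node 4 (.node 2 (.node 1 (.one ⟨15743, 2, 5⟩) (.one ⟨3611, 0, 4⟩)) (.node 1 (.one ⟨8511, 2, 2⟩) (.one ⟨16402, 2, 4⟩))) (.node 2 (.node 1 (.one ⟨11936, 0, 3⟩) (.one ⟨12123, 1, 4⟩)) (.node 1 (.one ⟨16625, 0, 4⟩) (.one ⟨8721, 2, 5⟩)))) (.node 4 (.node 2 (.node 1 (.one ⟨4935, 2, 5⟩) (.one ⟨5768, 2, 5⟩)) (.node 1 (.one ⟨62, 1, 5⟩) (.one ⟨8682, 0, 5⟩))) (.node 2 (.node 1 (.one ⟨821, 2, 5⟩) (.one ⟨13761, 1, 5⟩)) (.node 1 (.one ⟨2010, 0, 5⟩) (.one ⟨16611, 1, 7⟩))))) (.node 8 (.node 4 (.node 2 (.node 1 (.one ⟨13532, 1, 6⟩) (.one ⟨15424, 0, 5⟩)) (.node 1 (.one ⟨6489, 1, 4⟩) (.one ⟨4096, 1, 2⟩))) (.node 2 (.node 1 (.one ⟨12130, 0, 1⟩) (.one ⟨357, 2, 4⟩)) (.node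 1 (.one ⟨10879, 1, 7⟩) (.one ⟨11170, 1, 4⟩)))) (.node 4 (.node 2 (.node 1 (.one ⟨12682, 1, 5⟩) (.one ⟨4825, 2, 7⟩)) (.node 1 (.one ⟨12730, 2, 3⟩) (.one ⟨8392, 1, 6⟩))) (.node 2 (.node 1 (.one ⟨6960, 1, 6⟩) (.one ⟨7669, 2, 3⟩)) (.node 1 (.one ⟨8032, 1, 7⟩) (.one ⟨13777, 2, 3⟩)))))) (.node 16 (.node 8 (.node 4 (.node 2 (.node 1 (.one ⟨6036, 1, 3⟩) (.one ⟨11107, 2, 3⟩)) (.node 1 (.one ⟨3066, 2, 5⟩) (.one ⟨5039, 1, 5⟩))) (.node 2 (.node 1 (.one ⟨11852, 1, 3⟩) (.one ⟨7936, 1, 6⟩)) (.node 1 (.one ⟨17045, 1, 5⟩) (.one ⟨14788, 0, 4⟩)))) (.node 4 (.node 2 (.node 1 (.one ⟨11658, 0, 5⟩) (.one ⟨15771, 1, 3⟩)) (.node 1 (.one ⟨12536, 2, 5⟩) (.one ⟨14374, 0, 4⟩))) (.node 2 (.node 1 (.one ⟨13207, 0, 5⟩) (.one ⟨10077, 1, 3⟩))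 (.node 1 (.one ⟨16127, 1, 7⟩) (.one ⟨12249, 0, 1⟩))))) (.node 8 (.node 4 (.node 2 (.node 1 (.one ⟨2695, 1, 2⟩) (.one ⟨7745, 2, 4⟩)) (.node 1 (.one ⟨306, 2, 3⟩) (.one ⟨12252, 1, 4⟩))) (.node 2 (.node 1 (.one ⟨321, 1, 5⟩) (.one ⟨15140, 1, 3⟩)) (.node 1 (.one ⟨11015, 2, 5⟩) (.one ⟨4150, 1, 5⟩)))) (.node 4 (.node 2 (.node 1 (.one ⟨6479, 1, 2⟩) (.one ⟨10795, 2, 3⟩)) (.node 1 (.one ⟨11029, 2, 3⟩) (.one ⟨8904, 0, 4⟩))) (.node 2 (.node 1 (.one ⟨15079, 2, 3⟩) (.one ⟨14842, 1, 5⟩)) (.node 1 (.one ⟨3284, 2, 4⟩) (.one ⟨15651, 1, 3⟩)))))))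
def par8_16_3 : Arr Par :=
  (.node 32 (.node 16 (.node 8 (.node 4 (.node 2 (.node 1 (.one ⟨15231, 1, 2⟩) (.one ⟨12944, 2, 4⟩)) (.node 1 (.one ⟨10207, 2, 6⟩) (.one ⟨9345, 1, 3⟩))) (.node 2 (.node 1 (.one ⟨9973, 1, 3⟩) (.one ⟨10547, 2, 4⟩)) (.node 1 (.one ⟨13228, 2, 4⟩) (.one ⟨6402, 0, 3⟩)))) (.node 4 (.node 2 (.node 1 (.one ⟨1124, 0, 1⟩) (.one ⟨14873, 0, 6⟩)) (.node 1 (.one ⟨8980, 1, 6⟩) (.one ⟨6843, 2, 4⟩))) (.node 2 (.node 1 (.one ⟨3788, 2, 4⟩) (.one ⟨12644, 0, 5⟩)) (.node 1 (.one ⟨15232, 1, 4⟩) (.one ⟨12522, 1, 7⟩))))) (.node 8 (.node 4 (.node 2 (.node 1 (.one ⟨9970, 1, 6⟩) (.one ⟨10926, 1, 5⟩)) (.node 1 (.one ⟨13111, 1, 5⟩) (.one ⟨4130, 1, 6⟩))) (.node 2 (.node 1 (.one ⟨409, 1, 5⟩) (.one ⟨3095, 1, 1⟩))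 (.node 1 (.one ⟨5314, 1, 6⟩) (.one ⟨331, 0, 1⟩)))) (.node 4 (.node 2 (.node 1 (.one ⟨16653, 0, 5⟩) (.one ⟨493, 1, 4⟩)) (.node 1 (.one ⟨6104, 1, 6⟩) (.one ⟨632, 0, 3⟩))) (.node 2 (.node 1 (.one ⟨16647, 0, 5⟩) (.one ⟨11515, 2, 4⟩)) (.node 1 (.one ⟨12624, 1, 6⟩) (.one ⟨9341, 0, 4⟩)))))) (.node 16 (.node 8 (.node 4 (.node 2 (.node 1 (.one ⟨1284, 2, 5⟩) (.one ⟨11442, 1, 5⟩)) (.node 1 (.one ⟨11443, 1, 2⟩) (.one ⟨2869, 2, 6⟩))) (.node 2 (.node 1 (.one ⟨916, 1, 4⟩) (.one ⟨8512, 2, 3⟩)) (.node 1 (.one ⟨6481, 2, 7⟩) (.one ⟨2119, 2, 4⟩)))) (.node 4 (.node 2 (.node 1 (.one ⟨4693, 0, 4⟩) (.one ⟨12108, 2, 6⟩)) (.node 1 (.one ⟨7577, 1, 6⟩) (.one ⟨4800, 2, 5⟩))) (.node 2 (.node 1 (.one ⟨13711, 2, 6⟩) (.one ⟨11467, 2, 2⟩))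 (.node 1 (.one ⟨8347, 2, 6⟩) (.one ⟨10346, 2, 4⟩))))) (.node 8 (.node 4 (.node 2 (.node 1 (.one ⟨3058, 0, 5⟩) (.one ⟨13985, 2, 3⟩)) (.node 1 (.one ⟨9974, 1, 2⟩) (.one ⟨939, 2, 3⟩))) (.node 2 (.node 1 (.one ⟨6367, 1, 2⟩) (.one ⟨6389, 2, 4⟩)) (.node 1 (.one ⟨2333, 2, 4⟩) (.one ⟨4655, 0, 3⟩)))) (.node 4 (.node 2 (.node 1 (.one ⟨14062, 0, 3⟩) (.one ⟨13604, 2, 6⟩)) (.node 1 (.one ⟨12768, 0, 6⟩) (.one ⟨9220, 0, 3⟩))) (.node 2 (.node 1 (.one ⟨11007, 1, 4⟩) (.one ⟨9117, 2, 5⟩)) (.node 1 (.one ⟨15675, 2, 4⟩) (.one ⟨10760, 2, 5⟩)))))))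
def par8_16_4 : Arr Par :=
  (.node 32 (.node 16 (.node 8 (.node 4 (.node 2 (.node 1 (.one ⟨350, 1, 4⟩) (.one ⟨9963, 2, 4⟩)) (.node 1 (.one ⟨11883, 2, 5⟩) (.one ⟨7513, 1, 5⟩))) (.node 2 (.node 1 (.one ⟨1394, 1, 3⟩) (.one ⟨3564, 0, 5⟩)) (.node 1 (.one ⟨6690, 1, 5⟩) (.one ⟨2318, 2, 4⟩)))) (.node 4 (.node 2 (.node 1 (.one ⟨15262, 2, 5⟩) (.one ⟨1030, 0, 6⟩)) (.node 1 (.one ⟨16965, 1, 7⟩) (.one ⟨275, 0, 6⟩))) (.node 2 (.node 1 (.one ⟨9824, 1, 5⟩) (.one ⟨9762, 2, 4⟩)) (.node 1 (.one ⟨6593, 2, 5⟩) (.one ⟨4361, 0, 5⟩))))) (.node 8 (.node 4 (.node 2 (.node 1 (.one ⟨14871, 1, 3⟩) (.one ⟨11548, 1, 4⟩)) (.node 1 (.one ⟨9103, 1, 2⟩) (.one ⟨892, 1, 6⟩))) (.node 2 (.node 1 (.one ⟨15818, 1, 5⟩) (.one ⟨12547, 1, 6⟩)) (.node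 1 (.one ⟨6536, 1, 3⟩) (.one ⟨16654, 1, 6⟩)))) (.node 4 (.node 2 (.node 1 (.one ⟨1119, 0, 1⟩) (.one ⟨14824, 0, 4⟩)) (.node 1 (.one ⟨7550, 1, 7⟩) (.one ⟨9992, 1, 4⟩))) (.node 2 (.node 1 (.one ⟨4708, 2, 3⟩) (.one ⟨1458, 1, 6⟩)) (.node 1 (.one ⟨4264, 1, 6⟩) (.one ⟨4081, 1, 4⟩)))))) (.node 16 (.node 8 (.node 4 (.node 2 (.node 1 (.one ⟨16616, 2, 5⟩) (.one ⟨13375, 2, 5⟩)) (.node 1 (.one ⟨9232, 0, 4⟩) (.one ⟨13006, 1, 4⟩))) (.node 2 (.node 1 (.one ⟨12525, 1, 5⟩) (.one ⟨9969, 1, 5⟩)) (.node 1 (.one ⟨11545, 1, 2⟩) (.one ⟨10682, 0, 3⟩)))) (.node 4 (.node 2 (.node 1 (.one ⟨15496, 2, 4⟩) (.one ⟨3413, 2, 5⟩)) (.node 1 (.one ⟨14311, 2, 3⟩) (.one ⟨1130, 0, 3⟩))) (.node 2 (.node 1 (.one ⟨1024, 2, 6⟩) (.one ⟨16394, 1, 5⟩)) (.node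 1 (.one ⟨16018, 1, 6⟩) (.one ⟨4131, 1, 1⟩))))) (.node 8 (.node 4 (.node 2 (.node 1 (.one ⟨13116, 2, 5⟩) (.one ⟨14925, 0, 4⟩)) (.node 1 (.one ⟨3591, 2, 5⟩) (.one ⟨3598, 2, 6⟩))) (.node 2 (.node 1 (.one ⟨13112, 2, 5⟩) (.one ⟨3735, 1, 5⟩)) (.node 1 (.one ⟨10894, 0, 5⟩) (.one ⟨2657, 2, 5⟩)))) (.node 4 (.node 2 (.node 1 (.one ⟨3374, 0, 2⟩) (.one ⟨1801, 2, 4⟩)) (.node 1 (.one ⟨16399, 2, 4⟩) (.one ⟨3872, 2, 5⟩))) (.node 2 (.node 1 (.one ⟨3947, 1, 5⟩) (.one ⟨4054, 2, 5⟩)) (.node 1 (.one ⟨7119, 1, 7⟩) (.one ⟨6054, 1, 6⟩)))))))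
def par8_16_5 : Arr Par :=
  (.node 32 (.node 16 (.node 8 (.node 4 (.node 2 (.node 1 (.one ⟨12535, 2, 3⟩) (.one ⟨403, 1, 3⟩)) (.node 1 (.one ⟨14563, 2, 5⟩) (.one ⟨145, 1, 6⟩))) (.node 2 (.node 1 (.one ⟨14916, 0, 4⟩) (.one ⟨7375, 0, 3⟩)) (.node 1 (.one ⟨6048, 1, 5⟩) (.one ⟨11274, 1, 1⟩)))) (.node 4 (.node 2 (.node 1 (.one ⟨5047, 1, 5⟩) (.one ⟨11248, 2, 5⟩)) (.node 1 (.one ⟨5087, 1, 2⟩) (.one ⟨1828, 2, 6⟩))) (.node 2 (.node 1 (.one ⟨5102, 1, 2⟩) (.one ⟨11270, 1, 4⟩)) (.node 1 (.one ⟨3127, 2, 6⟩) (.one ⟨10991, 2, 5⟩))))) (.node 8 (.node 4 (.node 2 (.node 1 (.one ⟨11312, 2, 3⟩) (.one ⟨3759, 1, 1⟩)) (.node 1 (.one ⟨6989, 2, 6⟩) (.one ⟨11369, 0, 5⟩))) (.node 2 (.node 1 (.one ⟨5238, 2, 4⟩) (.one ⟨16928, 2, 4⟩)) (.node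 1 (.one ⟨16809, 2, 4⟩) (.one ⟨86, 2, 6⟩)))) (.node 4 (.node 2 (.node 1 (.one ⟨1383, 2, 5⟩) (.one ⟨9565, 2, 1⟩)) (.node 1 (.one ⟨9285, 2, 1⟩) (.one ⟨3370, 2, 3⟩))) (.node 2 (.node 1 (.one ⟨17088, 0, 5⟩) (.one ⟨16985, 1, 1⟩)) (.node 1 (.one ⟨9699, 0, 3⟩) (.one ⟨16246, 1, 6⟩)))))) (.node 16 (.node 8 (.node 4 (.node 2 (.node 1 (.one ⟨1429, 1, 5⟩) (.one ⟨8330, 1, 5⟩)) (.node 1 (.one ⟨15845, 2, 3⟩) (.one ⟨9360, 2, 1⟩))) (.node 2 (.node 1 (.one ⟨903, 1, 7⟩) (.one ⟨8345, 1, 7⟩)) (.node 1 (.one ⟨11347, 2, 2⟩) (.one ⟨12738, 1, 4⟩)))) (.node 4 (.node 2 (.node 1 (.one ⟨6839, 1, 3⟩) (.one ⟨9038, 0, 4⟩)) (.node 1 (.one ⟨7030, 2, 4⟩) (.one ⟨7232, 2, 5⟩))) (.node 2 (.node 1 (.one ⟨7800, 2, 2⟩) (.one ⟨2691, 1, 3⟩)) (.node 1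 (.one ⟨13062, 2, 5⟩) (.one ⟨17131, 1, 6⟩))))) (.node 8 (.node 4 (.node 2 (.node 1 (.one ⟨888, 1, 4⟩) (.one ⟨16947, 0, 6⟩)) (.node 1 (.one ⟨15372, 1, 5⟩) (.one ⟨2156, 0, 3⟩))) (.node 2 (.node 1 (.one ⟨16755, 2, 4⟩) (.one ⟨16758, 2, 3⟩)) (.node 1 (.one ⟨3931, 1, 2⟩) (.one ⟨12524, 1, 6⟩)))) (.node 4 (.node 2 (.node 1 (.one ⟨4878, 0, 3⟩) (.one ⟨7017, 1, 6⟩)) (.node 1 (.one ⟨2811, 1, 6⟩) (.one ⟨3904, 1, 5⟩))) (.node 2 (.node 1 (.one ⟨13561, 2, 5⟩) (.one ⟨14662, 1, 4⟩)) (.node 1 (.one ⟨13571, 2, 5⟩) (.one ⟨12263, 2, 4⟩)))))))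
def par8_16_6 : Arr Par :=
  (.node 32 (.node 16 (.node 8 (.node 4 (.node 2 (.node 1 (.one ⟨6797, 2, 5⟩) (.one ⟨2455, 2, 6⟩)) (.node 1 (.one ⟨16565, 2, 4⟩) (.one ⟨3912, 1, 5⟩))) (.node 2 (.node 1 (.one ⟨12000, 1, 4⟩) (.one ⟨12011, 1, 5⟩)) (.node 1 (.one ⟨3910, 1, 5⟩) (.one ⟨8709, 0, 5⟩)))) (.node 4 (.node 2 (.node 1 (.one ⟨14988, 0, 5⟩) (.one ⟨14811, 1, 4⟩)) (.node 1 (.one ⟨14308, 1, 5⟩) (.one ⟨14412, 1, 4⟩))) (.node 2 (.node 1 (.one ⟨14659, 1, 5⟩) (.one ⟨16034, 0, 4⟩)) (.node 1 (.one ⟨13204, 2, 4⟩) (.one ⟨110, 1, 5⟩))))) (.node 8 (.node 4 (.node 2 (.node 1 (.one ⟨3903, 1, 6⟩) (.one ⟨13282, 2, 5⟩)) (.node 1 (.one ⟨17187, 2, 6⟩) (.one ⟨3680, 2, 5⟩))) (.node 2 (.node 1 (.one ⟨12519, 1, 5⟩) (.one ⟨4416, 1, 5⟩))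 (.node 1 (.one ⟨1978, 1, 6⟩) (.one ⟨2501, 2, 5⟩)))) (.node 4 (.node 2 (.node 1 (.one ⟨16636, 2, 5⟩) (.one ⟨2624, 1, 4⟩)) (.node 1 (.one ⟨7402, 2, 5⟩) (.one ⟨12220, 1, 2⟩))) (.node 2 (.node 1 (.one ⟨15064, 1, 2⟩) (.one ⟨920, 1, 5⟩)) (.node 1 (.one ⟨4685, 2, 3⟩) (.one ⟨9047, 1, 2⟩)))))) (.node 16 (.node 8 (.node 4 (.node 2 (.node 1 (.one ⟨13131, 2, 4⟩) (.one ⟨11226, 0, 2⟩)) (.node 1 (.one ⟨12879, 2, 4⟩) (.one ⟨5083, 2, 3⟩))) (.node 2 (.node 1 (.one ⟨567, 2, 6⟩) (.one ⟨4813, 2, 5⟩)) (.node 1 (.one ⟨102, 1, 4⟩) (.one ⟨12215, 1, 2⟩)))) (.node 4 (.node 2 (.node 1 (.one ⟨12043, 1, 2⟩) (.one ⟨4290, 1, 3⟩)) (.node 1 (.one ⟨3909, 1, 3⟩) (.one ⟨16730, 0, 2⟩))) (.node 2 (.node 1 (.one ⟨12550, 0, 2⟩) (.one ⟨15822, 0, 6⟩))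 (.node 1 (.one ⟨13354, 0, 2⟩) (.one ⟨4345, 2, 4⟩))))) (.node 8 (.node 4 (.node 2 (.node 1 (.one ⟨14182, 0, 4⟩) (.one ⟨8996, 2, 4⟩)) (.node 1 (.one ⟨2550, 0, 4⟩) (.one ⟨7420, 1, 4⟩))) (.node 2 (.node 1 (.one ⟨4553, 1, 6⟩) (.one ⟨2832, 1, 2⟩)) (.node 1 (.one ⟨15188, 2, 5⟩) (.one ⟨10465, 2, 5⟩)))) (.node 4 (.node 2 (.node 1 (.one ⟨11643, 2, 5⟩) (.one ⟨8665, 1, 4⟩)) (.node 1 (.one ⟨3119, 2, 2⟩) (.one ⟨5149, 0, 4⟩))) (.node 2 (.node 1 (.one ⟨281, 2, 6⟩) (.one ⟨10824, 2, 7⟩)) (.node 1 (.one ⟨13261, 2, 6⟩) (.one ⟨3479, 0, 3⟩)))))))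
def par8_16_7 : Arr Par :=
  (.node 32 (.node 16 (.node 8 (.node 4 (.node 2 (.node 1 (.one ⟨12843, 2, 6⟩) (.one ⟨6445, 2, 4⟩)) (.node 1 (.one ⟨4484, 0, 5⟩) (.one ⟨6946, 2, 4⟩))) (.node 2 (.node 1 (.one ⟨15976, 2, 5⟩) (.one ⟨918, 0, 5⟩)) (.node 1 (.one ⟨6240, 0, 5⟩) (.one ⟨12484, 1, 1⟩)))) (.node 4 (.node 2 (.node 1 (.one ⟨5080, 0, 4⟩) (.one ⟨115, 2, 2⟩)) (.node 1 (.one ⟨6393, 1, 6⟩) (.one ⟨1884, 0, 3⟩))) (.node 2 (.node 1 (.one ⟨6831, 1, 5⟩) (.one ⟨12814, 1, 5⟩)) (.node 1 (.one ⟨7018, 0, 4⟩) (.one ⟨4638, 2, 4⟩))))) (.node 8 (.node 4 (.node 2 (.node 1 (.one ⟨5124, 2, 5⟩) (.one ⟨10000, 0, 4⟩)) (.node 1 (.one ⟨3809, 2, 6⟩) (.one ⟨2211, 1, 2⟩))) (.node 2 (.node 1 (.one ⟨559, 2, 6⟩) (.one ⟨3083, 2, 4⟩)) (.node 1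 (.one ⟨3454, 2, 6⟩) (.one ⟨2991, 1, 2⟩)))) (.node 4 (.node 2 (.node 1 (.one ⟨13412, 1, 5⟩) (.one ⟨3702, 1, 6⟩)) (.node 1 (.one ⟨8137, 2, 5⟩) (.one ⟨11827, 2, 6⟩))) (.node 2 (.node 1 (.one ⟨7898, 2, 6⟩) (.one ⟨16779, 2, 5⟩)) (.node 1 (.one ⟨4919, 2, 4⟩) (.one ⟨13415, 0, 1⟩)))))) (.node 16 (.node 8 (.node 4 (.node 2 (.node 1 (.one ⟨5391, 1, 3⟩) (.one ⟨7096, 1, 4⟩)) (.node 1 (.one ⟨12792, 0, 6⟩) (.one ⟨16035, 1, 3⟩))) (.node 2 (.node 1 (.one ⟨14212, 2, 3⟩) (.one ⟨5587, 1, 3⟩)) (.node 1 (.one ⟨11197, 0, 5⟩) (.one ⟨5398, 1, 4⟩)))) (.node 4 (.node 2 (.node 1 (.one ⟨9507, 1, 3⟩) (.one ⟨4042, 2, 6⟩)) (.node 1 (.one ⟨1789, 1, 3⟩) (.one ⟨13196, 0, 1⟩))) (.node 2 (.node 1 (.one ⟨9902, 1, 5⟩) (.one ⟨13366, 1, 6⟩)) (.node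 1 (.one ⟨15630, 2, 3⟩) (.one ⟨1687, 2, 4⟩))))) (.node 8 (.node 4 (.node 2 (.node 1 (.one ⟨3694, 2, 5⟩) (.one ⟨6562, 1, 3⟩)) (.node 1 (.one ⟨13089, 0, 5⟩) (.one ⟨14631, 0, 7⟩))) (.node 2 (.node 1 (.one ⟨156, 0, 5⟩) (.one ⟨12566, 0, 6⟩)) (.node 1 (.one ⟨12353, 1, 5⟩) (.one ⟨12086, 2, 4⟩)))) (.node 4 (.node 2 (.node 1 (.one ⟨5388, 0, 6⟩) (.one ⟨11589, 2, 6⟩)) (.node 1 (.one ⟨3729, 2, 1⟩) (.one ⟨10710, 2, 6⟩))) (.node 2 (.node 1 (.one ⟨14016, 1, 5⟩) (.one ⟨3229, 1, 4⟩)) (.node 1 (.one ⟨5256, 0, 3⟩) (.one ⟨7285, 0, 5⟩)))))))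
def par8_16_8 : Arr Par :=
  (.node 32 (.node 16 (.node 8 (.node 4 (.node 2 (.node 1 (.one ⟨15282, 2, 4⟩) (.one ⟨2795, 1, 5⟩)) (.node 1 (.one ⟨15441, 1, 5⟩) (.one ⟨10606, 1, 4⟩))) (.node 2 (.node 1 (.one ⟨4781, 0, 4⟩) (.one ⟨14603, 1, 5⟩)) (.node 1 (.one ⟨11411, 2, 3⟩) (.one ⟨6492, 2, 2⟩)))) (.node 4 (.node 2 (.node 1 (.one ⟨10234, 2, 6⟩) (.one ⟨3972, 2, 6⟩)) (.node 1 (.one ⟨15844, 2, 6⟩) (.one ⟨11944, 1, 3⟩))) (.node 2 (.node 1 (.one ⟨8500, 1, 3⟩) (.one ⟨14458, 2, 3⟩)) (.node 1 (.one ⟨988, 2, 5⟩) (.one ⟨4823, 1, 5⟩))))) (.node 8 (.node 4 (.node 2 (.node 1 (.one ⟨5339, 0, 4⟩) (.one ⟨12275, 1, 5⟩)) (.node 1 (.one ⟨10246, 1, 6⟩) (.one ⟨4361, 1, 5⟩))) (.node 2 (.node 1 (.one ⟨2042, 1, 3⟩) (.one ⟨12948, 1, 5⟩))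 (.node 1 (.one ⟨12611, 2, 3⟩) (.one ⟨5986, 1, 2⟩)))) (.node 4 (.node 2 (.node 1 (.one ⟨4925, 2, 5⟩) (.one ⟨11970, 1, 5⟩)) (.node 1 (.one ⟨8335, 1, 5⟩) (.one ⟨11775, 1, 4⟩))) (.node 2 (.node 1 (.one ⟨5605, 2, 6⟩) (.one ⟨6239, 1, 5⟩)) (.node 1 (.one ⟨10626, 1, 2⟩) (.one ⟨14151, 2, 4⟩)))))) (.node 16 (.node 8 (.node 4 (.node 2 (.node 1 (.one ⟨8045, 1, 3⟩) (.one ⟨12934, 2, 6⟩)) (.node 1 (.one ⟨928, 1, 1⟩) (.one ⟨269, 1, 2⟩))) (.node 2 (.node 1 (.one ⟨8039, 1, 3⟩) (.one ⟨8856, 2, 4⟩)) (.node 1 (.one ⟨6219, 2, 5⟩) (.one ⟨11789, 1, 5⟩)))) (.node 4 (.node 2 (.node 1 (.one ⟨12121, 2, 4⟩) (.one ⟨11790, 1, 5⟩)) (.node 1 (.one ⟨16061, 0, 6⟩) (.one ⟨11527, 2, 5⟩))) (.node 2 (.node 1 (.one ⟨400, 1, 5⟩) (.one ⟨5167, 0, 3⟩))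 (.node 1 (.one ⟨15949, 0, 4⟩) (.one ⟨16502, 1, 5⟩))))) (.node 8 (.node 4 (.node 2 (.node 1 (.one ⟨6166, 0, 6⟩) (.one ⟨15792, 2, 3⟩)) (.node 1 (.one ⟨14511, 1, 5⟩) (.one ⟨13363, 2, 5⟩))) (.node 2 (.node 1 (.one ⟨731, 1, 2⟩) (.one ⟨5304, 1, 5⟩)) (.node 1 (.one ⟨5204, 1, 4⟩) (.one ⟨10611, 2, 4⟩)))) (.node 4 (.node 2 (.node 1 (.one ⟨10420, 0, 5⟩) (.one ⟨10613, 2, 4⟩)) (.node 1 (.one ⟨13018, 0, 5⟩) (.one ⟨13548, 0, 5⟩))) (.node 2 (.node 1 (.one ⟨2555, 1, 4⟩) (.one ⟨9290, 0, 4⟩)) (.node 1 (.one ⟨6332, 1, 2⟩) (.one ⟨1370, 1, 6⟩)))))))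
def par8_16_9 : Arr Par :=
  (.node 32 (.node 16 (.node 8 (.node 4 (.node 2 (.node 1 (.one ⟨12905, 0, 4⟩) (.one ⟨9012, 1, 2⟩)) (.node 1 (.one ⟨1018, 2, 3⟩) (.one ⟨13938, 2, 6⟩))) (.node 2 (.node 1 (.one ⟨13452, 1, 4⟩) (.one ⟨16834, 2, 6⟩)) (.node 1 (.one ⟨2956, 2, 4⟩) (.one ⟨8520, 2, 5⟩)))) (.node 4 (.node 2 (.node 1 (.one ⟨14617, 1, 3⟩) (.one ⟨4753, 1, 0⟩)) (.node 1 (.one ⟨15668, 1, 2⟩) (.one ⟨6452, 2, 5⟩))) (.node 2 (.node 1 (.one ⟨13566, 2, 5⟩) (.one ⟨10049, 1, 2⟩)) (.node 1 (.one ⟨9287, 0, 5⟩) (.one ⟨672, 1, 7⟩))))) (.node 8 (.node 4 (.node 2 (.node 1 (.one ⟨11521, 2, 4⟩) (.one ⟨9288, 0, 5⟩)) (.node 1 (.one ⟨664, 1, 4⟩) (.one ⟨506, 1, 7⟩))) (.node 2 (.node 1 (.one ⟨14880, 1, 6⟩) (.one ⟨14879, 1, 3⟩)) (.node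 1 (.one ⟨475, 1, 4⟩) (.one ⟨8710, 0, 5⟩)))) (.node 4 (.node 2 (.node 1 (.one ⟨15118, 2, 5⟩) (.one ⟨4512, 1, 0⟩)) (.node 1 (.one ⟨8914, 0, 3⟩) (.one ⟨4832, 1, 4⟩))) (.node 2 (.node 1 (.one ⟨12379, 2, 7⟩) (.one ⟨12313, 2, 4⟩)) (.node 1 (.one ⟨10132, 2, 7⟩) (.one ⟨5744, 1, 3⟩)))))) (.node 16 (.node 8 (.node 4 (.node 2 (.node 1 (.one ⟨9289, 0, 5⟩) (.one ⟨9889, 1, 4⟩)) (.node 1 (.one ⟨6059, 1, 4⟩) (.one ⟨10434, 0, 6⟩))) (.node 2 (.node 1 (.one ⟨1951, 0, 2⟩) (.one ⟨10231, 1, 3⟩)) (.node 1 (.one ⟨12817, 0, 6⟩) (.one ⟨16671, 2, 5⟩)))) (.node 4 (.node 2 (.node 1 (.one ⟨6031, 2, 6⟩) (.one ⟨14121, 2, 5⟩)) (.node 1 (.one ⟨8599, 2, 3⟩) (.one ⟨15710, 1, 6⟩))) (.node 2 (.node 1 (.one ⟨6871, 2, 4⟩) (.one ⟨14944, 2, 3⟩)) (.node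 1 (.one ⟨6641, 1, 6⟩) (.one ⟨8640, 1, 5⟩))))) (.node 8 (.node 4 (.node 2 (.node 1 (.one ⟨1266, 2, 5⟩) (.one ⟨16723, 1, 6⟩)) (.node 1 (.one ⟨11143, 2, 4⟩) (.one ⟨13839, 2, 4⟩))) (.node 2 (.node 1 (.one ⟨16687, 1, 2⟩) (.one ⟨8669, 1, 5⟩)) (.node 1 (.one ⟨8676, 1, 6⟩) (.one ⟨15396, 2, 3⟩)))) (.node 4 (.node 2 (.node 1 (.one ⟨13094, 2, 3⟩) (.one ⟨13305, 2, 5⟩)) (.node 1 (.one ⟨15120, 2, 3⟩) (.one ⟨711, 1, 4⟩))) (.node 2 (.node 1 (.one ⟨2513, 1, 6⟩) (.one ⟨13541, 2, 1⟩)) (.node 1 (.one ⟨14892, 2, 4⟩) (.one ⟨8531, 2, 5⟩)))))))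
def par8_16_10 : Arr Par :=
  (.node 32 (.node 16 (.node 8 (.node 4 (.node 2 (.node 1 (.one ⟨6180, 1, 6⟩) (.one ⟨15411, 0, 5⟩)) (.node 1 (.one ⟨10701, 0, 4⟩) (.one ⟨4689, 0, 5⟩))) (.node 2 (.node 1 (.one ⟨11537, 2, 6⟩) (.one ⟨878, 1, 2⟩)) (.node 1 (.one ⟨647, 1, 3⟩) (.one ⟨13511, 0, 1⟩)))) (.node 4 (.node 2 (.node 1 (.one ⟨8519, 2, 6⟩) (.one ⟨15654, 2, 5⟩)) (.node 1 (.one ⟨10938, 1, 4⟩) (.one ⟨15694, 1, 2⟩))) (.node 2 (.node 1 (.one ⟨15519, 1, 4⟩) (.one ⟨16711, 1, 2⟩)) (.node 1 (.one ⟨14627, 1, 4⟩) (.one ⟨2758, 1, 3⟩))))) (.node 8 (.node 4 (.node 2 (.node 1 (.one ⟨5762, 0, 4⟩) (.one ⟨9711, 0, 4⟩)) (.node 1 (.one ⟨8918, 0, 4⟩) (.one ⟨2621, 1, 3⟩))) (.node 2 (.node 1 (.one ⟨4385, 1, 3⟩) (.one ⟨13140, 0, 4⟩))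 (.node 1 (.one ⟨12541, 2, 5⟩) (.one ⟨14256, 1, 5⟩)))) (.node 4 (.node 2 (.node 1 (.one ⟨5332, 2, 6⟩) (.one ⟨12821, 0, 4⟩)) (.node 1 (.one ⟨1921, 1, 4⟩) (.one ⟨11832, 2, 4⟩))) (.node 2 (.node 1 (.one ⟨3479, 1, 3⟩) (.one ⟨11833, 2, 3⟩)) (.node 1 (.one ⟨13818, 1, 3⟩) (.one ⟨11972, 1, 5⟩)))))) (.node 16 (.node 8 (.node 4 (.node 2 (.node 1 (.one ⟨3146, 2, 7⟩) (.one ⟨3528, 1, 5⟩)) (.node 1 (.one ⟨13714, 2, 6⟩) (.one ⟨2697, 2, 3⟩))) (.node 2 (.node 1 (.one ⟨4243, 1, 4⟩) (.one ⟨13793, 1, 2⟩)) (.node 1 (.one ⟨11927, 1, 5⟩) (.one ⟨14878, 0, 5⟩)))) (.node 4 (.node 2 (.node 1 (.one ⟨6702, 1, 6⟩) (.one ⟨1374, 1, 1⟩)) (.node 1 (.one ⟨7063, 1, 5⟩) (.one ⟨13406, 1, 2⟩))) (.node 2 (.node 1 (.one ⟨1421, 2, 5⟩) (.one ⟨6621, 2,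 2⟩)) (.node 1 (.one ⟨576, 2, 5⟩) (.one ⟨4395, 1, 3⟩))))) (.node 8 (.node 4 (.node 2 (.node 1 (.one ⟨48, 2, 3⟩) (.one ⟨9704, 1, 4⟩)) (.node 1 (.one ⟨11190, 1, 5⟩) (.one ⟨11013, 0, 5⟩))) (.node 2 (.node 1 (.one ⟨3207, 1, 5⟩) (.one ⟨1468, 2, 5⟩)) (.node 1 (.one ⟨11700, 2, 5⟩) (.one ⟨6676, 1, 6⟩)))) (.node 4 (.node 2 (.node 1 (.one ⟨2207, 1, 1⟩) (.one ⟨2979, 2, 6⟩)) (.node 1 (.one ⟨15184, 2, 6⟩) (.one ⟨8027, 0, 4⟩))) (.node 2 (.node 1 (.one ⟨12542, 2, 4⟩) (.one ⟨15731, 2, 5⟩)) (.node 1 (.one ⟨4207, 2, 4⟩) (.one ⟨7087, 2, 4⟩)))))))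
def par8_16_11 : Arr Par :=
  (.node 32 (.node 16 (.node 8 (.node 4 (.node 2 (.node 1 (.one ⟨7032, 2, 4⟩) (.one ⟨8437, 0, 5⟩)) (.node 1 (.one ⟨11603, 2, 5⟩) (.one ⟨11692, 2, 3⟩))) (.node 2 (.node 1 (.one ⟨12334, 2, 3⟩) (.one ⟨6156, 1, 2⟩)) (.node 1 (.one ⟨7264, 2, 6⟩) (.one ⟨13361, 0, 3⟩)))) (.node 4 (.node 2 (.node 1 (.one ⟨8655, 1, 3⟩) (.one ⟨1279, 0, 5⟩)) (.node 1 (.one ⟨4723, 1, 0⟩) (.one ⟨13411, 0, 1⟩))) (.node 2 (.node 1 (.one ⟨1956, 0, 6⟩) (.one ⟨5297, 1, 3⟩)) (.node 1 (.one ⟨2035, 1, 2⟩) (.one ⟨1188, 0, 5⟩))))) (.node 8 (.node 4 (.node 2 (.node 1 (.one ⟨14194, 0, 4⟩) (.one ⟨2926, 2, 4⟩)) (.node 1 (.one ⟨5801, 1, 1⟩) (.one ⟨15368, 0, 4⟩))) (.node 2 (.node 1 (.one ⟨10875, 2, 5⟩) (.one ⟨15829, 0, 4⟩))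 (.node 1 (.one ⟨7249, 1, 5⟩) (.one ⟨14077, 2, 4⟩)))) (.node 4 (.node 2 (.node 1 (.one ⟨2579, 2, 5⟩) (.one ⟨12903, 1, 4⟩)) (.node 1 (.one ⟨1286, 0, 5⟩) (.one ⟨14788, 1, 4⟩))) (.node 2 (.node 1 (.one ⟨8646, 2, 5⟩) (.one ⟨12340, 0, 5⟩)) (.node 1 (.one ⟨8957, 2, 5⟩) (.one ⟨13200, 2, 6⟩)))))) (.node 16 (.node 8 (.node 4 (.node 2 (.node 1 (.one ⟨6493, 1, 5⟩) (.one ⟨11689, 2, 4⟩)) (.node 1 (.one ⟨12749, 2, 5⟩) (.one ⟨8386, 2, 5⟩))) (.node 2 (.node 1 (.one ⟨1280, 0, 5⟩) (.one ⟨2460, 1, 5⟩)) (.node 1 (.one ⟨6748, 1, 4⟩) (.one ⟨5173, 1, 3⟩)))) (.node 4 (.node 2 (.node 1 (.one ⟨3831, 1, 6⟩) (.one ⟨5278, 2, 4⟩)) (.node 1 (.one ⟨305, 2, 3⟩) (.one ⟨12840, 2, 5⟩))) (.node 2 (.node 1 (.one ⟨1727, 1, 2⟩) (.one ⟨16986, 2, 4⟩))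 (.node 1 (.one ⟨13701, 2, 3⟩) (.one ⟨16886, 2, 6⟩))))) (.node 8 (.node 4 (.node 2 (.node 1 (.one ⟨14905, 0, 5⟩) (.one ⟨4799, 1, 4⟩)) (.node 1 (.one ⟨1401, 0, 4⟩) (.one ⟨5341, 2, 4⟩))) (.node 2 (.node 1 (.one ⟨13000, 1, 2⟩) (.one ⟨1988, 1, 3⟩)) (.node 1 (.one ⟨948, 1, 3⟩) (.one ⟨8112, 1, 3⟩)))) (.node 4 (.node 2 (.node 1 (.one ⟨12444, 0, 5⟩) (.one ⟨14155, 1, 4⟩)) (.node 1 (.one ⟨3874, 2, 1⟩) (.one ⟨2056, 0, 6⟩))) (.node 2 (.node 1 (.one ⟨12325, 1, 3⟩) (.one ⟨4843, 1, 3⟩)) (.node 1 (.one ⟨1375, 0, 5⟩) (.one ⟨16961, 1, 3⟩)))))))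
def par8_16_12 : Arr Par :=
  (.node 23 (.node 11 (.node 5 (.node 2 (.node 1 (.one ⟨7101, 2, 5⟩) (.one ⟨10817, 2, 5⟩)) (.node 1 (.one ⟨13807, 2, 4⟩) (.node 1 (.one ⟨3605, 1, 3⟩) (.one ⟨10712, 1, 4⟩)))) (.node 3 (.node 1 (.one ⟨6638, 2, 6⟩) (.node 1 (.one ⟨743, 2, 5⟩) (.one ⟨5349, 1, 6⟩))) (.node 1 (.one ⟨13443, 0, 6⟩) (.node 1 (.one ⟨4076, 1, 2⟩) (.one ⟨13323, 2, 5⟩))))) (.node 6 (.node 3 (.node 1 (.one ⟨7437, 1, 2⟩) (.node 1 (.one ⟨10136, 0, 6⟩) (.one ⟨14144, 0, 2⟩))) (.node 1 (.one ⟨7018, 1, 4⟩) (.node 1 (.one ⟨9972, 2, 4⟩) (.one ⟨6209, 2, 4⟩)))) (.node 3 (.node 1 (.one ⟨7207, 0, 4⟩) (.node 1 (.one ⟨15844, 1, 6⟩) (.one ⟨8861, 2, 5⟩))) (.node 1 (.one ⟨13096, 2, 5⟩) (.node 1 (.one ⟨11792, 0, 6⟩) (.one ⟨1456,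 2, 4⟩)))))) (.node 12 (.node 6 (.node 3 (.node 1 (.one ⟨13191, 0, 4⟩) (.node 1 (.one ⟨11070, 2, 5⟩) (.one ⟨1404, 0, 1⟩))) (.node 1 (.one ⟨9629, 1, 6⟩) (.node 1 (.one ⟨15006, 2, 5⟩) (.one ⟨4921, 0, 4⟩)))) (.node 3 (.node 1 (.one ⟨3240, 2, 4⟩) (.node 1 (.one ⟨15561, 1, 5⟩) (.one ⟨13587, 0, 6⟩))) (.node 1 (.one ⟨16581, 1, 5⟩) (.node 1 (.one ⟨5024, 0, 5⟩) (.one ⟨5761, 0, 6⟩))))) (.node 6 (.node 3 (.node 1 (.one ⟨7981, 1, 5⟩) (.node 1 (.one ⟨15809, 2, 4⟩) (.one ⟨2957, 2, 5⟩))) (.node 1 (.one ⟨1387, 0, 6⟩) (.node 1 (.one ⟨13023, 0, 5⟩) (.one ⟨12972, 2, 4⟩)))) (.node 3 (.node 1 (.one ⟨7260, 2, 5⟩) (.node 1 (.one ⟨151, 2, 2⟩) (.one ⟨468, 1, 4⟩))) (.node 1 (.one ⟨4284, 2, 4⟩) (.node 1 (.one ⟨2245, 1, 3⟩) (.one ⟨1399,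 0, 5⟩)))))))
def par8_16 : Arr Par :=
  (.node 384 (.node 192 (.node 64 par8_16_0 (.node 64 par8_16_1 par8_16_2)) (.node 64 par8_16_3 (.node 64 par8_16_4 par8_16_5))) (.node 192 (.node 64 par8_16_6 (.node 64 par8_16_7 par8_16_8)) (.node 128 (.node 64 par8_16_9 par8_16_10) (.node 64 par8_16_11 par8_16_12))))
def par8 : Arr Par :=
  (.node 8192 (.node 4096 (.node 2048 (.node 1024 par8_0 par8_1) (.node 1024 par8_2 par8_3)) (.node 2048 (.node 1024 par8_4 par8_5) (.node 1024 par8_6 par8_7))) (.node 4096 (.node 2048 (.node 1024 par8_8 par8_9) (.node 1024 par8_10 par8_11)) (.node 2048 (.node 1024 par8_12 par8_13) (.node 1024 par8_14 (.node 1024 par8_15 par8_16)))))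

end CfsgLib.ThIndex62.Data
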