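import Cfsg.Agent.ThIndex62.Closure

/-! Orbit forest of node 9 on the points. -/

set_option autoImplicit false
set_option maxRecDepth 100000

namespace CfsgLib.ThIndex62.Data

open CfsgLib.ThModel83

def par9_0_0 : Arr Par :=
  (.node 32 (.node 16 (.node 8 (.node 4 (.node 2 (.node 1 (.one ⟨3256, 0, 6⟩) (.one ⟨16920, 0, 6⟩)) (.node 1 (.one ⟨15889, 0, 6⟩) (.one ⟨13171, 2, 7⟩))) (.node 2 (.node 1 (.one ⟨13942, 2, 5⟩) (.one ⟨14196, 2, 4⟩)) (.node 1 (.one ⟨16677, 2, 5⟩) (.one ⟨5416, 1, 0⟩)))) (.node 4 (.node 2 (.node 1 (.one ⟨4232, 1, 1⟩) (.one ⟨1658, 0, 4⟩)) (.node 1 (.one ⟨10986, 2, 5⟩) (.one ⟨8985, 2, 5⟩))) (.node 2 (.node 1 (.one ⟨4257, 0, 4⟩) (.one ⟨13840, 2, 6⟩)) (.node 1 (.one ⟨13578, 2, 7⟩) (.one ⟨9712,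 2, 7⟩))))) (.node 8 (.node 4 (.node 2 (.node 1 (.one ⟨2028, 2, 5⟩) (.one ⟨1619, 2, 6⟩)) (.node 1 (.one ⟨11030, 2, 5⟩) (.one ⟨1835, 0, 4⟩))) (.node 2 (.node 1 (.one ⟨16952, 2, 5⟩) (.one ⟨14755, 2, 2⟩)) (.node 1 (.one ⟨4328, 0, 4⟩) (.one ⟨3087, 2, 4⟩)))) (.node 4 (.node 2 (.node 1 (.one ⟨16607, 2, 4⟩) (.one ⟨6970, 2, 5⟩)) (.node 1 (.one ⟨3755, 0, 2⟩) (.one ⟨4299, 2, 5⟩))) (.node 2 (.node 1 (.one ⟨6609, 1, 4⟩) (.one ⟨6455, 2, 4⟩)) (.node 1 (.one ⟨16184, 2, 7⟩) (.one ⟨9021, 1, 4⟩)))))) (.node 16 (.node 8 (.node 4 (.node 2 (.node 1 (.one ⟨13121, 2, 4⟩) (.one ⟨17128, 2, 2⟩)) (.node 1 (.one ⟨5291, 2, 4⟩) (.one ⟨14740, 0, 6⟩))) (.node 2 (.node 1 (.one ⟨14492, 0, 6⟩) (.one ⟨3982, 0, 6⟩)) (.node 1 (.one ⟨6084, 2, 3⟩)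 (.one ⟨12893, 0, 3⟩)))) (.node 4 (.node 2 (.node 1 (.one ⟨3825, 2, 4⟩) (.one ⟨12921, 0, 4⟩)) (.node 1 (.one ⟨3026, 2, 4⟩) (.one ⟨14828, 2, 5⟩))) (.node 2 (.node 1 (.one ⟨2207, 1, 4⟩) (.one ⟨4906, 2, 5⟩)) (.node 1 (.one ⟨1393, 2, 4⟩) (.one ⟨15794, 2, 4⟩))))) (.node 8 (.node 4 (.node 2 (.node 1 (.one ⟨14202, 2, 5⟩) (.one ⟨11558, 0, 4⟩)) (.node 1 (.one ⟨4057, 1, 3⟩) (.one ⟨13154, 2, 5⟩))) (.node 2 (.node 1 (.one ⟨11659, 2, 5⟩) (.one ⟨8287, 1, 3⟩)) (.node 1 (.one ⟨15254, 2, 5⟩) (.one ⟨7363, 2, 4⟩)))) (.node 4 (.node 2 (.node 1 (.one ⟨3556, 2, 5⟩) (.one ⟨2177, 2, 5⟩)) (.node 1 (.one ⟨13533, 2, 5⟩) (.one ⟨7246, 0, 4⟩))) (.node 2 (.node 1 (.one ⟨7049, 1, 3⟩) (.one ⟨8994, 1, 2⟩)) (.node 1 (.one ⟨7254, 2, 7⟩) (.one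 ⟨4922, 1, 0⟩)))))))
def par9_0_1 : Arr Par :=
  (.node 32 (.node 16 (.node 8 (.node 4 (.node 2 (.node 1 (.one ⟨8303, 2, 5⟩) (.one ⟨5269, 1, 0⟩)) (.node 1 (.one ⟨5258, 1, 0⟩) (.one ⟨13903, 0, 2⟩))) (.node 2 (.node 1 (.one ⟨4956, 1, 0⟩) (.one ⟨7164, 2, 3⟩)) (.node 1 (.one ⟨16188, 0, 6⟩) (.one ⟨5003, 1, 0⟩)))) (.node 4 (.node 2 (.node 1 (.one ⟨14758, 0, 6⟩) (.one ⟨5013, 2, 4⟩)) (.node 1 (.one ⟨5134, 1, 0⟩) (.one ⟨8360, 2, 5⟩))) (.node 2 (.node 1 (.one ⟨3421, 0, 4⟩) (.one ⟨5123, 1, 0⟩)) (.node 1 (.one ⟨14094, 1, 3⟩) (.one ⟨5038, 1, 0⟩))))) (.node 8 (.node 4 (.node 2 (.node 1 (.one ⟨6855, 2, 1⟩) (.one ⟨4906, 1, 0⟩)) (.node 1 (.one ⟨5130, 1, 0⟩) (.one ⟨12068, 0, 6⟩))) (.node 2 (.node 1 (.one ⟨4984, 1, 0⟩) (.one ⟨10812,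 0, 2⟩)) (.node 1 (.one ⟨10300, 0, 6⟩) (.one ⟨5874, 0, 2⟩)))) (.node 4 (.node 2 (.node 1 (.one ⟨4920, 1, 0⟩) (.one ⟨5262, 0, 4⟩)) (.node 1 (.one ⟨10258, 2, 5⟩) (.one ⟨9309, 2, 5⟩))) (.node 2 (.node 1 (.one ⟨10039, 2, 4⟩) (.one ⟨15121, 0, 6⟩)) (.node 1 (.one ⟨1774, 0, 4⟩) (.one ⟨1702, 2, 6⟩)))))) (.node 16 (.node 8 (.node 4 (.node 2 (.node 1 (.one ⟨6991, 2, 4⟩) (.one ⟨1345, 2, 4⟩)) (.node 1 (.one ⟨7075, 2, 5⟩) (.one ⟨6632, 2, 6⟩))) (.node 2 (.node 1 (.one ⟨2163, 2, 6⟩) (.one ⟨6686, 2, 4⟩)) (.node 1 (.one ⟨4991, 1, 0⟩) (.one ⟨9403, 2, 5⟩)))) (.node 4 (.node 2 (.node 1 (.one ⟨17019, 2, 5⟩) (.one ⟨3623, 2, 5⟩)) (.node 1 (.one ⟨7120, 2, 5⟩) (.one ⟨5212, 2, 4⟩))) (.node 2 (.node 1 (.one ⟨4347, 2, 7⟩) (.one ⟨15690,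 0, 2⟩)) (.node 1 (.one ⟨16831, 0, 4⟩) (.one ⟨5046, 1, 0⟩))))) (.node 8 (.node 4 (.node 2 (.node 1 (.one ⟨11932, 0, 2⟩) (.one ⟨16373, 0, 6⟩)) (.node 1 (.one ⟨15051, 2, 4⟩) (.one ⟨4411, 2, 4⟩))) (.node 2 (.node 1 (.one ⟨9485, 2, 6⟩) (.one ⟨10195, 2, 5⟩)) (.node 1 (.one ⟨4716, 0, 5⟩) (.one ⟨3823, 1, 3⟩)))) (.node 4 (.node 2 (.node 1 (.one ⟨5924, 2, 4⟩) (.one ⟨950, 1, 1⟩)) (.node 1 (.one ⟨8964, 2, 2⟩) (.one ⟨5464, 0, 2⟩))) (.node 2 (.node 1 (.one ⟨5674, 2, 2⟩) (.one ⟨8259, 0, 6⟩)) (.node 1 (.one ⟨4431, 1, 3⟩) (.one ⟨4300, 0, 4⟩)))))))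
def par9_0_2 : Arr Par :=
  (.node 32 (.node 16 (.node 8 (.node 4 (.node 2 (.node 1 (.one ⟨4173, 2, 3⟩) (.one ⟨4862, 1, 0⟩)) (.node 1 (.one ⟨14192, 0, 6⟩) (.one ⟨4881, 0, 5⟩))) (.node 2 (.node 1 (.one ⟨9277, 2, 6⟩) (.one ⟨7689, 1, 5⟩)) (.node 1 (.one ⟨7530, 2, 7⟩) (.one ⟨6296, 2, 4⟩)))) (.node 4 (.node 2 (.node 1 (.one ⟨8354, 2, 4⟩) (.one ⟨14431, 2, 6⟩)) (.node 1 (.one ⟨4059, 2, 4⟩) (.one ⟨16319, 2, 4⟩))) (.node 2 (.node 1 (.one ⟨4562, 0, 6⟩) (.one ⟨6117, 2, 3⟩)) (.node 1 (.one ⟨8639, 1, 4⟩) (.one ⟨9745, 0, 4⟩))))) (.node 8 (.node 4 (.node 2 (.node 1 (.one ⟨8471, 1, 3⟩) (.one ⟨2546, 1, 4⟩)) (.node 1 (.one ⟨14194, 0, 5⟩) (.one ⟨6103, 2, 3⟩))) (.node 2 (.node 1 (.one ⟨5344, 1, 0⟩) (.one ⟨5196, 0, 3⟩)) (.node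 1 (.one ⟨6927, 2, 3⟩) (.one ⟨16095, 0, 4⟩)))) (.node 4 (.node 2 (.node 1 (.one ⟨3738, 0, 4⟩) (.one ⟨14980, 0, 5⟩)) (.node 1 (.one ⟨12579, 2, 4⟩) (.one ⟨8191, 1, 3⟩))) (.node 2 (.node 1 (.one ⟨2602, 2, 4⟩) (.one ⟨7686, 0, 5⟩)) (.node 1 (.one ⟨5185, 0, 5⟩) (.one ⟨11608, 0, 6⟩)))))) (.node 16 (.node 8 (.node 4 (.node 2 (.node 1 (.one ⟨4393, 2, 5⟩) (.one ⟨5844, 0, 2⟩)) (.node 1 (.one ⟨6431, 2, 4⟩) (.one ⟨15508, 2, 3⟩))) (.node 2 (.node 1 (.one ⟨15998, 0, 5⟩) (.one ⟨12833, 2, 6⟩)) (.node 1 (.one ⟨9177, 2, 3⟩) (.one ⟨5416, 0, 4⟩)))) (.node 4 (.node 2 (.node 1 (.one ⟨9767, 2, 4⟩) (.one ⟨1513, 0, 2⟩)) (.node 1 (.one ⟨5792, 0, 5⟩) (.one ⟨13877, 0, 4⟩))) (.node 2 (.node 1 (.one ⟨9648, 0, 5⟩) (.one ⟨17050, 2, 2⟩)) (.node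 1 (.one ⟨1614, 0, 3⟩) (.one ⟨16311, 2, 4⟩))))) (.node 8 (.node 4 (.node 2 (.node 1 (.one ⟨792, 2, 5⟩) (.one ⟨6752, 0, 5⟩)) (.node 1 (.one ⟨6559, 1, 3⟩) (.one ⟨1778, 2, 4⟩))) (.node 2 (.node 1 (.one ⟨11818, 2, 3⟩) (.one ⟨3367, 1, 3⟩)) (.node 1 (.one ⟨16458, 2, 3⟩) (.one ⟨15485, 0, 5⟩)))) (.node 4 (.node 2 (.node 1 (.one ⟨16794, 2, 5⟩) (.one ⟨11620, 2, 4⟩)) (.node 1 (.one ⟨9067, 2, 4⟩) (.one ⟨9935, 0, 3⟩))) (.node 2 (.node 1 (.one ⟨13771, 2, 4⟩) (.one ⟨11259, 2, 3⟩)) (.node 1 (.one ⟨16465, 2, 5⟩) (.one ⟨6891, 2, 4⟩)))))))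
def par9_0_3 : Arr Par :=
  (.node 32 (.node 16 (.node 8 (.node 4 (.node 2 (.node 1 (.one ⟨15551, 1, 3⟩) (.one ⟨14679, 2, 3⟩)) (.node 1 (.one ⟨14927, 1, 3⟩) (.one ⟨14083, 0, 5⟩))) (.node 2 (.node 1 (.one ⟨16907, 2, 4⟩) (.one ⟨9439, 2, 5⟩)) (.node 1 (.one ⟨3860, 2, 3⟩) (.one ⟨6348, 2, 5⟩)))) (.node 4 (.node 2 (.node 1 (.one ⟨10147, 0, 2⟩) (.one ⟨9400, 0, 3⟩)) (.node 1 (.one ⟨3652, 2, 3⟩) (.one ⟨4892, 0, 2⟩))) (.node 2 (.node 1 (.one ⟨16616, 1, 6⟩) (.one ⟨15423, 2, 5⟩)) (.node 1 (.one ⟨16500, 2, 5⟩) (.one ⟨6912, 0, 5⟩))))) (.node 8 (.node 4 (.node 2 (.node 1 (.one ⟨3697, 2, 7⟩) (.one ⟨12050, 1, 3⟩)) (.node 1 (.one ⟨15641, 2, 4⟩) (.one ⟨11083, 0, 6⟩))) (.node 2 (.node 1 (.one ⟨3022, 0, 6⟩) (.one ⟨6852, 0, 2⟩))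 (.node 1 (.one ⟨13436, 2, 4⟩) (.one ⟨14622, 0, 5⟩)))) (.node 4 (.node 2 (.node 1 (.one ⟨885, 2, 5⟩) (.one ⟨15275, 2, 2⟩)) (.node 1 (.one ⟨12203, 2, 5⟩) (.one ⟨4688, 2, 7⟩))) (.node 2 (.node 1 (.one ⟨8945, 0, 6⟩) (.one ⟨11815, 1, 3⟩)) (.node 1 (.one ⟨4508, 0, 2⟩) (.one ⟨13272, 2, 4⟩)))))) (.node 16 (.node 8 (.node 4 (.node 2 (.node 1 (.one ⟨2259, 2, 6⟩) (.one ⟨4389, 0, 5⟩)) (.node 1 (.one ⟨8722, 0, 5⟩) (.one ⟨12232, 0, 5⟩))) (.node 2 (.node 1 (.one ⟨5668, 2, 5⟩) (.one ⟨2321, 2, 4⟩)) (.node 1 (.one ⟨11079, 2, 3⟩) (.one ⟨12447, 1, 3⟩)))) (.node 4 (.node 2 (.node 1 (.one ⟨8007, 0, 4⟩) (.one ⟨11766, 0, 4⟩)) (.node 1 (.one ⟨17079, 0, 4⟩) (.one ⟨5510, 0, 3⟩))) (.node 2 (.node 1 (.one ⟨4912, 0, 3⟩) (.one ⟨2471, 2,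 3⟩)) (.node 1 (.one ⟨16030, 0, 3⟩) (.one ⟨7380, 0, 2⟩))))) (.node 8 (.node 4 (.node 2 (.node 1 (.one ⟨3767, 2, 4⟩) (.one ⟨1990, 0, 5⟩)) (.node 1 (.one ⟨9057, 1, 4⟩) (.one ⟨3141, 0, 4⟩))) (.node 2 (.node 1 (.one ⟨1434, 0, 3⟩) (.one ⟨14757, 0, 4⟩)) (.node 1 (.one ⟨3715, 0, 5⟩) (.one ⟨8166, 0, 5⟩)))) (.node 4 (.node 2 (.node 1 (.one ⟨6163, 0, 6⟩) (.one ⟨4635, 1, 6⟩)) (.node 1 (.one ⟨16625, 0, 2⟩) (.one ⟨2682, 2, 5⟩))) (.node 2 (.node 1 (.one ⟨8567, 2, 5⟩) (.one ⟨4379, 2, 5⟩)) (.node 1 (.one ⟨6987, 2, 5⟩) (.one ⟨2064, 0, 3⟩)))))))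
def par9_0_4 : Arr Par :=
  (.node 32 (.node 16 (.node 8 (.node 4 (.node 2 (.node 1 (.one ⟨1337, 2, 3⟩) (.one ⟨3766, 2, 7⟩)) (.node 1 (.one ⟨17115, 2, 5⟩) (.one ⟨6023, 2, 6⟩))) (.node 2 (.node 1 (.one ⟨17013, 2, 3⟩) (.one ⟨9341, 0, 3⟩)) (.node 1 (.one ⟨16009, 2, 4⟩) (.one ⟨16775, 2, 3⟩)))) (.node 4 (.node 2 (.node 1 (.one ⟨1796, 0, 6⟩) (.one ⟨6610, 2, 4⟩)) (.node 1 (.one ⟨12731, 2, 4⟩) (.one ⟨3825, 0, 4⟩))) (.node 2 (.node 1 (.one ⟨4250, 2, 5⟩) (.one ⟨7047, 2, 4⟩)) (.node 1 (.one ⟨12377, 2, 5⟩) (.one ⟨15080, 2, 5⟩))))) (.node 8 (.node 4 (.node 2 (.node 1 (.one ⟨15663, 1, 3⟩) (.one ⟨10433, 1, 4⟩)) (.node 1 (.one ⟨12263, 0, 4⟩) (.one ⟨15616, 1, 4⟩))) (.node 2 (.node 1 (.one ⟨1605, 2, 4⟩) (.one ⟨14092, 0, 2⟩))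 (.node 1 (.one ⟨2920, 0, 3⟩) (.one ⟨4982, 0, 3⟩)))) (.node 4 (.node 2 (.node 1 (.one ⟨2670, 0, 3⟩) (.one ⟨11279, 1, 3⟩)) (.node 1 (.one ⟨7584, 0, 3⟩) (.one ⟨14733, 2, 5⟩))) (.node 2 (.node 1 (.one ⟨14690, 1, 4⟩) (.one ⟨9010, 0, 4⟩)) (.node 1 (.one ⟨3661, 0, 4⟩) (.one ⟨12087, 1, 4⟩)))))) (.node 16 (.node 8 (.node 4 (.node 2 (.node 1 (.one ⟨5843, 2, 3⟩) (.one ⟨17130, 0, 4⟩)) (.node 1 (.one ⟨3096, 0, 2⟩) (.one ⟨4859, 0, 6⟩))) (.node 2 (.node 1 (.one ⟨15908, 0, 4⟩) (.one ⟨14191, 0, 4⟩)) (.node 1 (.one ⟨3093, 0, 6⟩) (.one ⟨4994, 0, 5⟩)))) (.node 4 (.node 2 (.node 1 (.one ⟨7048, 2, 7⟩) (.one ⟨12321, 0, 5⟩)) (.node 1 (.one ⟨13013, 0, 6⟩) (.one ⟨6074, 2, 2⟩))) (.node 2 (.node 1 (.one ⟨11859, 2, 4⟩) (.one ⟨9938, 2,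 3⟩)) (.node 1 (.one ⟨2898, 2, 4⟩) (.one ⟨17128, 0, 2⟩))))) (.node 8 (.node 4 (.node 2 (.node 1 (.one ⟨14193, 0, 4⟩) (.one ⟨9471, 0, 2⟩)) (.node 1 (.one ⟨7556, 1, 2⟩) (.one ⟨5914, 0, 4⟩))) (.node 2 (.node 1 (.one ⟨5263, 2, 2⟩) (.one ⟨11638, 1, 6⟩)) (.node 1 (.one ⟨8940, 2, 7⟩) (.one ⟨8252, 2, 5⟩)))) (.node 4 (.node 2 (.node 1 (.one ⟨6941, 0, 2⟩) (.one ⟨8233, 1, 2⟩)) (.node 1 (.one ⟨14255, 2, 3⟩) (.one ⟨1221, 2, 4⟩))) (.node 2 (.node 1 (.one ⟨7058, 1, 4⟩) (.one ⟨4087, 1, 4⟩)) (.node 1 (.one ⟨10362, 0, 4⟩) (.one ⟨14689, 0, 4⟩)))))))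
def par9_0_5 : Arr Par :=
  (.node 32 (.node 16 (.node 8 (.node 4 (.node 2 (.node 1 (.one ⟨918, 0, 2⟩) (.one ⟨14015, 2, 5⟩)) (.node 1 (.one ⟨10866, 2, 4⟩) (.one ⟨4909, 1, 0⟩))) (.node 2 (.node 1 (.one ⟨323, 0, 1⟩) (.one ⟨1478, 2, 5⟩)) (.node 1 (.one ⟨7019, 2, 4⟩) (.one ⟨11018, 2, 6⟩)))) (.node 4 (.node 2 (.node 1 (.one ⟨15938, 0, 3⟩) (.one ⟨5347, 1, 0⟩)) (.node 1 (.one ⟨12635, 0, 4⟩) (.one ⟨9015, 2, 7⟩))) (.node 2 (.node 1 (.one ⟨4760, 0, 2⟩) (.one ⟨6938, 1, 3⟩)) (.node 1 (.one ⟨1523, 2, 2⟩) (.one ⟨12200, 0, 5⟩))))) (.node 8 (.node 4 (.node 2 (.node 1 (.one ⟨3046, 2, 5⟩) (.one ⟨5192, 2, 3⟩)) (.node 1 (.one ⟨5481, 1, 0⟩) (.one ⟨16200, 0, 4⟩))) (.node 2 (.node 1 (.one ⟨2719, 2, 3⟩) (.one ⟨10539, 2, 3⟩)) (.node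 1 (.one ⟨6005, 2, 4⟩) (.one ⟨9258, 2, 2⟩)))) (.node 4 (.node 2 (.node 1 (.one ⟨12803, 0, 2⟩) (.one ⟨2130, 2, 5⟩)) (.node 1 (.one ⟨321, 0, 6⟩) (.one ⟨14065, 2, 6⟩))) (.node 2 (.node 1 (.one ⟨6657, 2, 4⟩) (.one ⟨915, 0, 4⟩)) (.node 1 (.one ⟨13820, 2, 5⟩) (.one ⟨10966, 2, 4⟩)))))) (.node 16 (.node 8 (.node 4 (.node 2 (.node 1 (.one ⟨1268, 2, 6⟩) (.one ⟨16628, 0, 5⟩)) (.node 1 (.one ⟨16185, 0, 3⟩) (.one ⟨6675, 2, 4⟩))) (.node 2 (.node 1 (.one ⟨4763, 1, 3⟩) (.one ⟨13307, 2, 5⟩)) (.node 1 (.one ⟨2409, 0, 5⟩) (.one ⟨3416, 0, 4⟩)))) (.node 4 (.node 2 (.node 1 (.one ⟨907, 2, 5⟩) (.one ⟨12221, 2, 5⟩)) (.node 1 (.one ⟨2499, 0, 3⟩) (.one ⟨2911, 1, 3⟩))) (.node 2 (.node 1 (.one ⟨3210, 2, 4⟩) (.one ⟨4295, 0, 4⟩)) (.node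 1 (.one ⟨5928, 0, 4⟩) (.one ⟨9360, 0, 2⟩))))) (.node 8 (.node 4 (.node 2 (.node 1 (.one ⟨15370, 0, 4⟩) (.one ⟨3346, 0, 4⟩)) (.node 1 (.one ⟨9619, 2, 5⟩) (.one ⟨17029, 2, 5⟩))) (.node 2 (.node 1 (.one ⟨1636, 2, 5⟩) (.one ⟨8934, 2, 5⟩)) (.node 1 (.one ⟨14196, 0, 4⟩) (.one ⟨10324, 0, 5⟩)))) (.node 4 (.node 2 (.node 1 (.one ⟨8935, 2, 2⟩) (.one ⟨5001, 0, 4⟩)) (.node 1 (.one ⟨8957, 2, 4⟩) (.one ⟨1429, 2, 3⟩))) (.node 2 (.node 1 (.one ⟨11098, 2, 3⟩) (.one ⟨16123, 2, 7⟩)) (.node 1 (.one ⟨3917, 2, 3⟩) (.one ⟨6020, 0, 4⟩)))))))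
def par9_0_6 : Arr Par :=
  (.node 32 (.node 16 (.node 8 (.node 4 (.node 2 (.node 1 (.one ⟨2525, 2, 4⟩) (.one ⟨5314, 2, 6⟩)) (.node 1 (.one ⟨7972, 0, 4⟩) (.one ⟨4965, 2, 4⟩))) (.node 2 (.node 1 (.one ⟨9209, 2, 5⟩) (.one ⟨1259, 2, 5⟩)) (.node 1 (.one ⟨8993, 2, 5⟩) (.one ⟨3540, 2, 5⟩)))) (.node 4 (.node 2 (.node 1 (.one ⟨7237, 2, 4⟩) (.one ⟨7014, 1, 2⟩)) (.node 1 (.one ⟨5200, 1, 0⟩) (.one ⟨6439, 1, 3⟩))) (.node 2 (.node 1 (.one ⟨17125, 2, 3⟩) (.one ⟨9017, 2, 3⟩)) (.node 1 (.one ⟨16118, 1, 2⟩) (.one ⟨16162, 1, 6⟩))))) (.node 8 (.node 4 (.node 2 (.node 1 (.one ⟨1393, 0, 4⟩) (.one ⟨8994, 2, 2⟩)) (.node 1 (.one ⟨2280, 0, 4⟩) (.one ⟨1601, 2, 5⟩))) (.node 2 (.node 1 (.one ⟨4607, 2, 3⟩) (.one ⟨5927, 1, 3⟩)) (.node 1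 (.one ⟨4488, 2, 4⟩) (.one ⟨2790, 0, 6⟩)))) (.node 4 (.node 2 (.node 1 (.one ⟨6274, 0, 5⟩) (.one ⟨6627, 0, 4⟩)) (.node 1 (.one ⟨6137, 2, 4⟩) (.one ⟨9465, 1, 2⟩))) (.node 2 (.node 1 (.one ⟨10613, 2, 4⟩) (.one ⟨6647, 1, 3⟩)) (.node 1 (.one ⟨12167, 2, 3⟩) (.one ⟨843, 1, 2⟩)))))) (.node 16 (.node 8 (.node 4 (.node 2 (.node 1 (.one ⟨13221, 2, 4⟩) (.one ⟨7215, 1, 3⟩)) (.node 1 (.one ⟨3303, 2, 7⟩) (.one ⟨10490, 2, 2⟩))) (.node 2 (.node 1 (.one ⟨12007, 0, 4⟩) (.one ⟨11091, 2, 2⟩)) (.node 1 (.one ⟨4721, 0, 2⟩) (.one ⟨3966, 0, 3⟩)))) (.node 4 (.node 2 (.node 1 (.one ⟨3703, 2, 3⟩) (.one ⟨15528, 2, 3⟩)) (.node 1 (.one ⟨597, 2, 5⟩) (.one ⟨5746, 2, 3⟩))) (.node 2 (.node 1 (.one ⟨15156, 2, 3⟩) (.one ⟨14806, 2, 4⟩)) (.node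 1 (.one ⟨14816, 0, 6⟩) (.one ⟨3796, 0, 4⟩))))) (.node 8 (.node 4 (.node 2 (.node 1 (.one ⟨1161, 2, 4⟩) (.one ⟨11490, 2, 3⟩)) (.node 1 (.one ⟨4906, 0, 5⟩) (.one ⟨4550, 0, 2⟩))) (.node 2 (.node 1 (.one ⟨15789, 0, 4⟩) (.one ⟨4069, 2, 6⟩)) (.node 1 (.one ⟨777, 2, 5⟩) (.one ⟨8849, 0, 4⟩)))) (.node 4 (.node 2 (.node 1 (.one ⟨5516, 0, 4⟩) (.one ⟨13321, 0, 4⟩)) (.node 1 (.one ⟨17076, 0, 3⟩) (.one ⟨7452, 2, 4⟩))) (.node 2 (.node 1 (.one ⟨6306, 2, 3⟩) (.one ⟨5311, 1, 0⟩)) (.node 1 (.one ⟨10387, 2, 3⟩) (.one ⟨15183, 0, 3⟩)))))))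
def par9_0_7 : Arr Par :=
  (.node 32 (.node 16 (.node 8 (.node 4 (.node 2 (.node 1 (.one ⟨10355, 2, 6⟩) (.one ⟨3620, 1, 6⟩)) (.node 1 (.one ⟨14531, 2, 3⟩) (.one ⟨14699, 2, 2⟩))) (.node 2 (.node 1 (.one ⟨7386, 0, 4⟩) (.one ⟨10622, 1, 3⟩)) (.node 1 (.one ⟨9612, 2, 3⟩) (.one ⟨927, 1, 2⟩)))) (.node 4 (.node 2 (.node 1 (.one ⟨7700, 0, 2⟩) (.one ⟨6786, 2, 4⟩)) (.node 1 (.one ⟨8430, 0, 5⟩) (.one ⟨14466, 2, 2⟩))) (.node 2 (.node 1 (.one ⟨10648, 2, 5⟩) (.one ⟨14181, 2, 3⟩)) (.node 1 (.one ⟨16485, 2, 5⟩) (.one ⟨6039, 2, 6⟩))))) (.node 8 (.node 4 (.node 2 (.node 1 (.one ⟨12774, 2, 4⟩) (.one ⟨8625, 2, 6⟩)) (.node 1 (.one ⟨14710, 0, 6⟩) (.one ⟨16055, 1, 3⟩))) (.node 2 (.node 1 (.one ⟨12759, 1, 3⟩) (.one ⟨16788, 2, 3⟩))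 (.node 1 (.one ⟨13175, 1, 3⟩) (.one ⟨4276, 0, 2⟩)))) (.node 4 (.node 2 (.node 1 (.one ⟨15723, 1, 2⟩) (.one ⟨1960, 2, 7⟩)) (.node 1 (.one ⟨11181, 2, 2⟩) (.one ⟨4771, 2, 4⟩))) (.node 2 (.node 1 (.one ⟨13064, 0, 2⟩) (.one ⟨13426, 2, 5⟩)) (.node 1 (.one ⟨9867, 2, 4⟩) (.one ⟨14327, 1, 3⟩)))))) (.node 16 (.node 8 (.node 4 (.node 2 (.node 1 (.one ⟨9283, 0, 1⟩) (.one ⟨12917, 0, 5⟩)) (.node 1 (.one ⟨15246, 2, 3⟩) (.one ⟨2836, 1, 2⟩))) (.node 2 (.node 1 (.one ⟨7193, 2, 6⟩) (.one ⟨15621, 2, 5⟩)) (.node 1 (.one ⟨15594, 2, 5⟩) (.one ⟨12784, 2, 3⟩)))) (.node 4 (.node 2 (.node 1 (.one ⟨16551, 2, 2⟩) (.one ⟨14138, 2, 3⟩)) (.node 1 (.one ⟨13647, 1, 3⟩) (.one ⟨16959, 2, 5⟩))) (.node 2 (.node 1 (.one ⟨11858, 0, 6⟩) (.one ⟨15109,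 2, 7⟩)) (.node 1 (.one ⟨13715, 2, 5⟩) (.one ⟨2834, 0, 4⟩))))) (.node 8 (.node 4 (.node 2 (.node 1 (.one ⟨8251, 0, 6⟩) (.one ⟨1577, 0, 3⟩)) (.node 1 (.one ⟨11362, 2, 4⟩) (.one ⟨15747, 0, 6⟩))) (.node 2 (.node 1 (.one ⟨6197, 2, 4⟩) (.one ⟨7566, 2, 4⟩)) (.node 1 (.one ⟨5168, 0, 2⟩) (.one ⟨13308, 0, 6⟩)))) (.node 4 (.node 2 (.node 1 (.one ⟨8710, 0, 3⟩) (.one ⟨9334, 2, 3⟩)) (.node 1 (.one ⟨3471, 2, 4⟩) (.one ⟨2430, 2, 5⟩))) (.node 2 (.node 1 (.one ⟨12372, 2, 6⟩) (.one ⟨10177, 2, 5⟩)) (.node 1 (.one ⟨541, 2, 5⟩) (.one ⟨8943, 2, 3⟩)))))))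
def par9_0_8 : Arr Par :=
  (.node 32 (.node 16 (.node 8 (.node 4 (.node 2 (.node 1 (.one ⟨16895, 2, 3⟩) (.one ⟨3712, 0, 6⟩)) (.node 1 (.one ⟨5293, 0, 3⟩) (.one ⟨1619, 0, 6⟩))) (.node 2 (.node 1 (.one ⟨8733, 2, 4⟩) (.one ⟨10548, 2, 6⟩)) (.node 1 (.one ⟨14823, 1, 3⟩) (.one ⟨10533, 2, 4⟩)))) (.node 4 (.node 2 (.node 1 (.one ⟨11622, 0, 4⟩) (.one ⟨3415, 0, 4⟩)) (.node 1 (.one ⟨15648, 0, 4⟩) (.one ⟨13915, 0, 3⟩))) (.node 2 (.node 1 (.one ⟨1119, 0, 2⟩) (.one ⟨14752, 0, 5⟩)) (.node 1 (.one ⟨15632, 1, 4⟩) (.one ⟨4222, 0, 4⟩))))) (.node 8 (.node 4 (.node 2 (.node 1 (.one ⟨778, 2, 5⟩) (.one ⟨10530, 1, 4⟩)) (.node 1 (.one ⟨5291, 0, 4⟩) (.one ⟨12183, 1, 4⟩))) (.node 2 (.node 1 (.one ⟨12379, 0, 4⟩) (.one ⟨4057, 2, 3⟩))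 (.node 1 (.one ⟨9370, 1, 3⟩) (.one ⟨14195, 0, 6⟩)))) (.node 4 (.node 2 (.node 1 (.one ⟨16980, 2, 4⟩) (.one ⟨1888, 0, 6⟩)) (.node 1 (.one ⟨15119, 2, 5⟩) (.one ⟨10790, 2, 5⟩))) (.node 2 (.node 1 (.one ⟨16620, 2, 5⟩) (.one ⟨4233, 2, 4⟩)) (.node 1 (.one ⟨7032, 2, 5⟩) (.one ⟨13543, 2, 4⟩)))))) (.node 16 (.node 8 (.node 4 (.node 2 (.node 1 (.one ⟨2214, 2, 3⟩) (.one ⟨13183, 2, 5⟩)) (.node 1 (.one ⟨1213, 2, 4⟩) (.one ⟨11464, 2, 4⟩))) (.node 2 (.node 1 (.one ⟨1197, 2, 3⟩) (.one ⟨14711, 2, 5⟩)) (.node 1 (.one ⟨5504, 2, 4⟩) (.one ⟨9190, 2, 5⟩)))) (.node 4 (.node 2 (.node 1 (.one ⟨10225, 2, 3⟩) (.one ⟨12968, 0, 5⟩)) (.node 1 (.one ⟨11679, 1, 3⟩) (.one ⟨14247, 2, 3⟩))) (.node 2 (.node 1 (.one ⟨2075, 2, 7⟩) (.one ⟨13735,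 2, 4⟩)) (.node 1 (.one ⟨4136, 2, 5⟩) (.one ⟨16364, 2, 4⟩))))) (.node 8 (.node 4 (.node 2 (.node 1 (.one ⟨10218, 1, 2⟩) (.one ⟨15091, 1, 6⟩)) (.node 1 (.one ⟨15134, 1, 6⟩) (.one ⟨16296, 0, 3⟩))) (.node 2 (.node 1 (.one ⟨14197, 0, 2⟩) (.one ⟨3088, 0, 5⟩)) (.node 1 (.one ⟨15826, 0, 4⟩) (.one ⟨8306, 0, 5⟩)))) (.node 4 (.node 2 (.node 1 (.one ⟨1568, 2, 3⟩) (.one ⟨13840, 0, 6⟩)) (.node 1 (.one ⟨1748, 2, 4⟩) (.one ⟨6636, 0, 3⟩))) (.node 2 (.node 1 (.one ⟨2797, 2, 7⟩) (.one ⟨12631, 2, 4⟩)) (.node 1 (.one ⟨5375, 2, 3⟩) (.one ⟨8138, 0, 4⟩)))))))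
def par9_0_9 : Arr Par :=
  (.node 32 (.node 16 (.node 8 (.node 4 (.node 2 (.node 1 (.one ⟨8384, 0, 6⟩) (.one ⟨10373, 1, 2⟩)) (.node 1 (.one ⟨5128, 1, 0⟩) (.one ⟨9203, 0, 6⟩))) (.node 2 (.node 1 (.one ⟨8871, 0, 6⟩) (.one ⟨5069, 1, 0⟩)) (.node 1 (.one ⟨5255, 1, 0⟩) (.one ⟨14972, 0, 5⟩)))) (.node 4 (.node 2 (.node 1 (.one ⟨12025, 0, 2⟩) (.one ⟨5254, 1, 0⟩)) (.node 1 (.one ⟨7797, 0, 6⟩) (.one ⟨5243, 1, 0⟩))) (.node 2 (.node 1 (.one ⟨13451, 1, 2⟩) (.one ⟨5402, 1, 0⟩)) (.node 1 (.one ⟨5012, 1, 0⟩) (.one ⟨4516, 2, 5⟩))))) (.node 8 (.node 4 (.node 2 (.node 1 (.one ⟨4880, 0, 6⟩) (.one ⟨3983, 0, 6⟩)) (.node 1 (.one ⟨4945, 1, 0⟩) (.one ⟨1541, 0, 6⟩))) (.node 2 (.node 1 (.one ⟨16587, 2, 4⟩) (.one ⟨2613, 2, 4⟩)) (.node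 1 (.one ⟨14911, 0, 6⟩) (.one ⟨15071, 2, 5⟩)))) (.node 4 (.node 2 (.node 1 (.one ⟨5182, 0, 2⟩) (.one ⟨5405, 1, 0⟩)) (.node 1 (.one ⟨6510, 1, 4⟩) (.one ⟨2250, 0, 6⟩))) (.node 2 (.node 1 (.one ⟨4893, 1, 0⟩) (.one ⟨5456, 1, 0⟩)) (.node 1 (.one ⟨15372, 0, 2⟩) (.one ⟨4994, 1, 0⟩)))))) (.node 16 (.node 8 (.node 4 (.node 2 (.node 1 (.one ⟨16862, 0, 2⟩) (.one ⟨15827, 0, 6⟩)) (.node 1 (.one ⟨1301, 0, 6⟩) (.one ⟨4965, 1, 0⟩))) (.node 2 (.node 1 (.one ⟨9684, 0, 4⟩) (.one ⟨16745, 1, 4⟩)) (.node 1 (.one ⟨15642, 1, 4⟩) (.one ⟨14728, 0, 4⟩)))) (.node 4 (.node 2 (.node 1 (.one ⟨10149, 2, 3⟩) (.one ⟨2665, 2, 3⟩)) (.node 1 (.one ⟨4281, 2, 2⟩) (.one ⟨8801, 2, 3⟩))) (.node 2 (.node 1 (.one ⟨13967, 1, 3⟩) (.one ⟨9458, 2, 4⟩)) (.node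 1 (.one ⟨5417, 2, 3⟩) (.one ⟨9073, 2, 4⟩))))) (.node 8 (.node 4 (.node 2 (.node 1 (.one ⟨5378, 1, 0⟩) (.one ⟨8473, 1, 2⟩)) (.node 1 (.one ⟨12555, 2, 4⟩) (.one ⟨2674, 2, 5⟩))) (.node 2 (.node 1 (.one ⟨10707, 2, 5⟩) (.one ⟨15144, 2, 4⟩)) (.node 1 (.one ⟨6975, 2, 4⟩) (.one ⟨15373, 0, 5⟩)))) (.node 4 (.node 2 (.node 1 (.one ⟨13574, 2, 7⟩) (.one ⟨15940, 2, 5⟩)) (.node 1 (.one ⟨14650, 2, 4⟩) (.one ⟨15137, 2, 5⟩))) (.node 2 (.node 1 (.one ⟨12129, 2, 4⟩) (.one ⟨16987, 2, 5⟩)) (.node 1 (.one ⟨16002, 0, 5⟩) (.one ⟨3993, 2, 3⟩)))))))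
def par9_0_10 : Arr Par :=
  (.node 32 (.node 16 (.node 8 (.node 4 (.node 2 (.node 1 (.one ⟨1548, 2, 4⟩) (.one ⟨9126, 0, 5⟩)) (.node 1 (.one ⟨3419, 0, 4⟩) (.one ⟨5453, 1, 0⟩))) (.node 2 (.node 1 (.one ⟨5828, 2, 4⟩) (.one ⟨1824, 0, 4⟩)) (.node 1 (.one ⟨7950, 2, 4⟩) (.one ⟨8481, 1, 6⟩)))) (.node 4 (.node 2 (.node 1 (.one ⟨9115, 2, 3⟩) (.one ⟨16189, 0, 2⟩)) (.node 1 (.one ⟨9084, 2, 6⟩) (.one ⟨16059, 0, 4⟩))) (.node 2 (.node 1 (.one ⟨7826, 0, 4⟩) (.one ⟨5287, 0, 4⟩)) (.node 1 (.one ⟨13560, 0, 3⟩) (.one ⟨889, 0, 2⟩))))) (.node 8 (.node 4 (.node 2 (.node 1 (.one ⟨7083, 2, 4⟩) (.one ⟨13893, 2, 4⟩)) (.node 1 (.one ⟨1417, 2, 4⟩) (.one ⟨2063, 2, 4⟩))) (.node 2 (.node 1 (.one ⟨14036, 2, 5⟩) (.one ⟨345, 0, 6⟩)) (.node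 1 (.one ⟨10810, 2, 5⟩) (.one ⟨15542, 0, 5⟩)))) (.node 4 (.node 2 (.node 1 (.one ⟨5235, 2, 4⟩) (.one ⟨392, 2, 5⟩)) (.node 1 (.one ⟨8218, 2, 5⟩) (.one ⟨11770, 0, 5⟩))) (.node 2 (.node 1 (.one ⟨5977, 2, 4⟩) (.one ⟨13278, 0, 4⟩)) (.node 1 (.one ⟨1189, 0, 3⟩) (.one ⟨4445, 2, 3⟩)))))) (.node 16 (.node 8 (.node 4 (.node 2 (.node 1 (.one ⟨2968, 2, 3⟩) (.one ⟨9480, 1, 4⟩)) (.node 1 (.one ⟨14648, 1, 3⟩) (.one ⟨2305, 0, 4⟩))) (.node 2 (.node 1 (.one ⟨1583, 0, 4⟩) (.one ⟨15058, 2, 5⟩)) (.node 1 (.one ⟨5186, 1, 4⟩) (.one ⟨16383, 1, 3⟩)))) (.node 4 (.node 2 (.node 1 (.one ⟨8901, 2, 5⟩) (.one ⟨13914, 2, 6⟩)) (.node 1 (.one ⟨14028, 2, 3⟩) (.one ⟨9020, 2, 2⟩))) (.node 2 (.node 1 (.one ⟨6509, 0, 2⟩) (.one ⟨324, 0, 2⟩)) (.node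 1 (.one ⟨13850, 2, 4⟩) (.one ⟨7054, 2, 4⟩))))) (.node 8 (.node 4 (.node 2 (.node 1 (.one ⟨1082, 2, 5⟩) (.one ⟨2117, 2, 6⟩)) (.node 1 (.one ⟨6591, 2, 4⟩) (.one ⟨14117, 2, 5⟩))) (.node 2 (.node 1 (.one ⟨10832, 2, 5⟩) (.one ⟨4000, 0, 3⟩)) (.node 1 (.one ⟨15413, 2, 6⟩) (.one ⟨1163, 0, 5⟩)))) (.node 4 (.node 2 (.node 1 (.one ⟨16638, 2, 5⟩) (.one ⟨17145, 2, 3⟩)) (.node 1 (.one ⟨14800, 0, 3⟩) (.one ⟨11936, 0, 5⟩))) (.node 2 (.node 1 (.one ⟨16965, 0, 5⟩) (.one ⟨12362, 2, 3⟩)) (.node 1 (.one ⟨15384, 2, 3⟩) (.one ⟨16772, 2, 5⟩)))))))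
def par9_0_11 : Arr Par :=
  (.node 32 (.node 16 (.node 8 (.node 4 (.node 2 (.node 1 (.one ⟨6401, 2, 4⟩) (.one ⟨1543, 1, 2⟩)) (.node 1 (.one ⟨4656, 0, 5⟩) (.one ⟨3499, 0, 5⟩))) (.node 2 (.node 1 (.one ⟨4397, 0, 6⟩) (.one ⟨15303, 1, 3⟩)) (.node 1 (.one ⟨9319, 2, 2⟩) (.one ⟨12044, 0, 2⟩)))) (.node 4 (.node 2 (.node 1 (.one ⟨10253, 1, 3⟩) (.one ⟨15607, 0, 4⟩)) (.node 1 (.one ⟨14230, 1, 2⟩) (.one ⟨1490, 0, 2⟩))) (.node 2 (.node 1 (.one ⟨6149, 0, 3⟩) (.one ⟨11510, 2, 4⟩)) (.node 1 (.one ⟨3833, 2, 4⟩) (.one ⟨14540, 0, 4⟩))))) (.node 8 (.node 4 (.node 2 (.node 1 (.one ⟨12907, 0, 5⟩) (.one ⟨11451, 0, 5⟩)) (.node 1 (.one ⟨13063, 1, 4⟩) (.one ⟨4212, 0, 2⟩))) (.node 2 (.node 1 (.one ⟨2715, 0, 2⟩) (.one ⟨2269, 2, 3⟩))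 (.node 1 (.one ⟨11981, 2, 4⟩) (.one ⟨13297, 2, 2⟩)))) (.node 4 (.node 2 (.node 1 (.one ⟨10031, 1, 3⟩) (.one ⟨4090, 2, 4⟩)) (.node 1 (.one ⟨1493, 2, 1⟩) (.one ⟨11199, 0, 3⟩))) (.node 2 (.node 1 (.one ⟨10671, 1, 3⟩) (.one ⟨14170, 2, 7⟩)) (.node 1 (.one ⟨11680, 2, 2⟩) (.one ⟨16654, 0, 2⟩)))))) (.node 16 (.node 8 (.node 4 (.node 2 (.node 1 (.one ⟨6271, 1, 3⟩) (.one ⟨14839, 2, 7⟩)) (.node 1 (.one ⟨13214, 1, 5⟩) (.one ⟨16254, 2, 4⟩))) (.node 2 (.node 1 (.one ⟨14248, 0, 4⟩) (.one ⟨9312, 0, 4⟩)) (.node 1 (.one ⟨15322, 0, 3⟩) (.one ⟨11430, 1, 2⟩)))) (.node 4 (.node 2 (.node 1 (.one ⟨8378, 2, 5⟩) (.one ⟨6762, 0, 2⟩)) (.node 1 (.one ⟨14063, 0, 3⟩) (.one ⟨4790, 2, 4⟩))) (.node 2 (.node 1 (.one ⟨4034, 0, 4⟩) (.one ⟨16210,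 0, 3⟩)) (.node 1 (.one ⟨16703, 2, 3⟩) (.one ⟨9098, 0, 5⟩))))) (.node 8 (.node 4 (.node 2 (.node 1 (.one ⟨13636, 2, 5⟩) (.one ⟨12662, 2, 3⟩)) (.node 1 (.one ⟨11693, 2, 7⟩) (.one ⟨14387, 0, 2⟩))) (.node 2 (.node 1 (.one ⟨9719, 0, 4⟩) (.one ⟨11346, 2, 7⟩)) (.node 1 (.one ⟨15151, 0, 5⟩) (.one ⟨7326, 2, 3⟩)))) (.node 4 (.node 2 (.node 1 (.one ⟨6084, 0, 3⟩) (.one ⟨9988, 1, 6⟩)) (.node 1 (.one ⟨2399, 2, 2⟩) (.one ⟨10697, 2, 4⟩))) (.node 2 (.node 1 (.one ⟨15925, 2, 3⟩) (.one ⟨8489, 2, 4⟩)) (.node 1 (.one ⟨2544, 2, 4⟩) (.one ⟨13895, 2, 4⟩)))))))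
def par9_0_12 : Arr Par :=
  (.node 32 (.node 16 (.node 8 (.node 4 (.node 2 (.node 1 (.one ⟨629, 2, 5⟩) (.one ⟨15830, 0, 3⟩)) (.node 1 (.one ⟨15739, 0, 4⟩) (.one ⟨14202, 0, 5⟩))) (.node 2 (.node 1 (.one ⟨15340, 2, 6⟩) (.one ⟨4345, 2, 4⟩)) (.node 1 (.one ⟨3106, 0, 4⟩) (.one ⟨2249, 0, 4⟩)))) (.node 4 (.node 2 (.node 1 (.one ⟨9414, 2, 4⟩) (.one ⟨1603, 2, 4⟩)) (.node 1 (.one ⟨3615, 2, 4⟩) (.one ⟨11583, 2, 5⟩))) (.node 2 (.node 1 (.one ⟨6821, 0, 3⟩) (.one ⟨12973, 2, 4⟩)) (.node 1 (.one ⟨8669, 2, 2⟩) (.one ⟨4127, 1, 3⟩))))) (.node 8 (.node 4 (.node 2 (.node 1 (.one ⟨2956, 2, 2⟩) (.one ⟨6601, 1, 4⟩)) (.node 1 (.one ⟨9055, 1, 3⟩) (.one ⟨8596, 0, 4⟩))) (.node 2 (.node 1 (.one ⟨3726, 0, 4⟩) (.one ⟨3094, 0, 4⟩)) (.node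 1 (.one ⟨1149, 2, 5⟩) (.one ⟨16948, 2, 5⟩)))) (.node 4 (.node 2 (.node 1 (.one ⟨11651, 2, 4⟩) (.one ⟨7270, 2, 5⟩)) (.node 1 (.one ⟨2247, 0, 3⟩) (.one ⟨17129, 0, 4⟩))) (.node 2 (.node 1 (.one ⟨8774, 0, 4⟩) (.one ⟨16020, 2, 3⟩)) (.node 1 (.one ⟨15841, 0, 4⟩) (.one ⟨10135, 0, 2⟩)))))) (.node 16 (.node 8 (.node 4 (.node 2 (.node 1 (.one ⟨10598, 2, 7⟩) (.one ⟨9127, 2, 5⟩)) (.node 1 (.one ⟨8599, 1, 3⟩) (.one ⟨2045, 0, 2⟩))) (.node 2 (.node 1 (.one ⟨16687, 2, 4⟩) (.one ⟨5320, 0, 5⟩)) (.node 1 (.one ⟨10371, 0, 2⟩) (.one ⟨5778, 2, 4⟩)))) (.node 4 (.node 2 (.node 1 (.one ⟨16439, 2, 4⟩) (.one ⟨6918, 2, 3⟩)) (.node 1 (.one ⟨15010, 0, 4⟩) (.one ⟨1919, 1, 3⟩))) (.node 2 (.node 1 (.one ⟨7014, 2, 2⟩) (.one ⟨17180, 2, 5⟩))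 (.node 1 (.one ⟨1997, 2, 3⟩) (.one ⟨14093, 2, 4⟩))))) (.node 8 (.node 4 (.node 2 (.node 1 (.one ⟨3785, 1, 4⟩) (.one ⟨7348, 1, 4⟩)) (.node 1 (.one ⟨2527, 1, 3⟩) (.one ⟨7049, 2, 3⟩))) (.node 2 (.node 1 (.one ⟨3718, 0, 6⟩) (.one ⟨14755, 0, 2⟩)) (.node 1 (.one ⟨3454, 0, 2⟩) (.one ⟨3420, 0, 2⟩)))) (.node 4 (.node 2 (.node 1 (.one ⟨12331, 2, 6⟩) (.one ⟨9625, 0, 1⟩)) (.node 1 (.one ⟨4165, 1, 2⟩) (.one ⟨11636, 0, 5⟩))) (.node 2 (.node 1 (.one ⟨1342, 0, 3⟩) (.one ⟨5138, 2, 4⟩)) (.node 1 (.one ⟨9388, 2, 3⟩) (.one ⟨6735, 1, 3⟩)))))))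
def par9_0_13 : Arr Par :=
  (.node 32 (.node 16 (.node 8 (.node 4 (.node 2 (.node 1 (.one ⟨10471, 2, 3⟩) (.one ⟨14981, 2, 4⟩)) (.node 1 (.one ⟨1802, 0, 1⟩) (.one ⟨2077, 2, 4⟩))) (.node 2 (.node 1 (.one ⟨2846, 2, 6⟩) (.one ⟨1552, 2, 3⟩)) (.node 1 (.one ⟨9175, 0, 3⟩) (.one ⟨1604, 2, 3⟩)))) (.node 4 (.node 2 (.node 1 (.one ⟨5396, 0, 4⟩) (.one ⟨8183, 2, 4⟩)) (.node 1 (.one ⟨4120, 2, 4⟩) (.one ⟨897, 1, 1⟩))) (.node 2 (.node 1 (.one ⟨3488, 0, 5⟩) (.one ⟨15575, 2, 6⟩)) (.node 1 (.one ⟨1691, 2, 3⟩) (.one ⟨16395, 0, 3⟩))))) (.node 8 (.node 4 (.node 2 (.node 1 (.one ⟨4883, 0, 2⟩) (.one ⟨10657, 1, 4⟩)) (.node 1 (.one ⟨6575, 0, 4⟩) (.one ⟨11911, 1, 3⟩))) (.node 2 (.node 1 (.one ⟨16689, 1, 4⟩) (.one ⟨15368, 0, 5⟩)) (.node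 1 (.one ⟨2138, 0, 3⟩) (.one ⟨11817, 0, 4⟩)))) (.node 4 (.node 2 (.node 1 (.one ⟨15824, 0, 4⟩) (.one ⟨9811, 2, 4⟩)) (.node 1 (.one ⟨17119, 0, 4⟩) (.one ⟨17042, 2, 4⟩))) (.node 2 (.node 1 (.one ⟨6868, 2, 3⟩) (.one ⟨2367, 1, 3⟩)) (.node 1 (.one ⟨9540, 2, 6⟩) (.one ⟨5527, 2, 4⟩)))))) (.node 16 (.node 8 (.node 4 (.node 2 (.node 1 (.one ⟨10686, 0, 4⟩) (.one ⟨9487, 2, 3⟩)) (.node 1 (.one ⟨11134, 0, 4⟩) (.one ⟨12980, 0, 4⟩))) (.node 2 (.node 1 (.one ⟨9266, 1, 2⟩) (.one ⟨5573, 2, 4⟩)) (.node 1 (.one ⟨4885, 0, 5⟩) (.one ⟨13933, 2, 7⟩)))) (.node 4 (.node 2 (.node 1 (.one ⟨13488, 2, 5⟩) (.one ⟨12346, 0, 4⟩)) (.node 1 (.one ⟨2073, 2, 3⟩) (.one ⟨12941, 0, 4⟩))) (.node 2 (.node 1 (.one ⟨1670, 2, 3⟩) (.one ⟨9699, 2, 3⟩)) (.node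 1 (.one ⟨15369, 0, 2⟩) (.one ⟨16658, 0, 3⟩))))) (.node 8 (.node 4 (.node 2 (.node 1 (.one ⟨4296, 0, 5⟩) (.one ⟨3883, 0, 6⟩)) (.node 1 (.one ⟨8600, 2, 5⟩) (.one ⟨10729, 2, 5⟩))) (.node 2 (.node 1 (.one ⟨15131, 2, 5⟩) (.one ⟨4349, 2, 4⟩)) (.node 1 (.one ⟨16627, 0, 4⟩) (.one ⟨1304, 2, 4⟩)))) (.node 4 (.node 2 (.node 1 (.one ⟨10859, 2, 6⟩) (.one ⟨916, 0, 1⟩)) (.node 1 (.one ⟨6583, 2, 4⟩) (.one ⟨10906, 2, 6⟩))) (.node 2 (.node 1 (.one ⟨1243, 2, 4⟩) (.one ⟨13983, 2, 5⟩)) (.node 1 (.one ⟨13812, 2, 4⟩) (.one ⟨1599, 2, 4⟩)))))))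
def par9_0_14 : Arr Par :=
  (.node 32 (.node 16 (.node 8 (.node 4 (.node 2 (.node 1 (.one ⟨5676, 0, 2⟩) (.one ⟨5208, 1, 0⟩)) (.node 1 (.one ⟨10295, 1, 3⟩) (.one ⟨8915, 2, 5⟩))) (.node 2 (.node 1 (.one ⟨11536, 2, 7⟩) (.one ⟨15038, 0, 5⟩)) (.node 1 (.one ⟨596, 2, 5⟩) (.one ⟨2769, 2, 4⟩)))) (.node 4 (.node 2 (.node 1 (.one ⟨10798, 2, 5⟩) (.one ⟨2637, 2, 5⟩)) (.node 1 (.one ⟨4218, 2, 5⟩) (.one ⟨12345, 2, 4⟩))) (.node 2 (.node 1 (.one ⟨3418, 0, 5⟩) (.one ⟨17049, 1, 4⟩)) (.node 1 (.one ⟨15095, 1, 3⟩) (.one ⟨12314, 1, 4⟩))))) (.node 8 (.node 4 (.node 2 (.node 1 (.one ⟨15163, 0, 4⟩) (.one ⟨12829, 2, 4⟩)) (.node 1 (.one ⟨16629, 0, 2⟩) (.one ⟨10874, 2, 3⟩))) (.node 2 (.node 1 (.one ⟨5155, 1, 0⟩) (.one ⟨7, 0, 1⟩)) (.node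 1 (.one ⟨102, 0, 1⟩) (.one ⟨917, 0, 2⟩)))) (.node 4 (.node 2 (.node 1 (.one ⟨893, 0, 6⟩) (.one ⟨1469, 2, 6⟩)) (.node 1 (.one ⟨10939, 2, 5⟩) (.one ⟨6134, 2, 3⟩))) (.node 2 (.node 1 (.one ⟨11851, 2, 4⟩) (.one ⟨16114, 0, 2⟩)) (.node 1 (.one ⟨12851, 2, 2⟩) (.one ⟨643, 1, 1⟩)))))) (.node 16 (.node 8 (.node 4 (.node 2 (.node 1 (.one ⟨12808, 2, 4⟩) (.one ⟨13724, 2, 4⟩)) (.node 1 (.one ⟨10404, 0, 4⟩) (.one ⟨9513, 0, 3⟩))) (.node 2 (.node 1 (.one ⟨16582, 2, 6⟩) (.one ⟨6710, 1, 6⟩)) (.node 1 (.one ⟨6753, 1, 6⟩) (.one ⟨269, 2, 5⟩)))) (.node 4 (.node 2 (.node 1 (.one ⟨11488, 0, 4⟩) (.one ⟨3251, 0, 4⟩)) (.node 1 (.one ⟨3507, 2, 2⟩) (.one ⟨9250, 0, 4⟩))) (.node 2 (.node 1 (.one ⟨16038, 2, 3⟩) (.one ⟨12181, 0, 2⟩)) (.node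 1 (.one ⟨11432, 0, 2⟩) (.one ⟨12653, 2, 3⟩))))) (.node 8 (.node 4 (.node 2 (.node 1 (.one ⟨12743, 2, 4⟩) (.one ⟨9901, 0, 5⟩)) (.node 1 (.one ⟨7553, 2, 3⟩) (.one ⟨15904, 2, 3⟩))) (.node 2 (.node 1 (.one ⟨11407, 1, 3⟩) (.one ⟨2487, 0, 5⟩)) (.node 1 (.one ⟨5165, 1, 0⟩) (.one ⟨16427, 2, 4⟩)))) (.node 4 (.node 2 (.node 1 (.one ⟨17196, 2, 2⟩) (.one ⟨11473, 0, 5⟩)) (.node 1 (.one ⟨12610, 0, 3⟩) (.one ⟨11020, 0, 3⟩))) (.node 2 (.node 1 (.one ⟨10214, 2, 2⟩) (.one ⟨12233, 2, 4⟩)) (.node 1 (.one ⟨16320, 0, 3⟩) (.one ⟨9373, 2, 2⟩)))))))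
def par9_0_15 : Arr Par :=
  (.node 32 (.node 16 (.node 8 (.node 4 (.node 2 (.node 1 (.one ⟨6557, 0, 5⟩) (.one ⟨9889, 0, 3⟩)) (.node 1 (.one ⟨13645, 2, 5⟩) (.one ⟨1120, 2, 2⟩))) (.node 2 (.node 1 (.one ⟨9905, 2, 6⟩) (.one ⟨7924, 2, 4⟩)) (.node 1 (.one ⟨11600, 2, 4⟩) (.one ⟨14828, 0, 5⟩)))) (.node 4 (.node 2 (.node 1 (.one ⟨12999, 1, 3⟩) (.one ⟨121, 1, 2⟩)) (.node 1 (.one ⟨14932, 2, 4⟩) (.one ⟨16542, 2, 3⟩))) (.node 2 (.node 1 (.one ⟨12262, 2, 4⟩) (.one ⟨11824, 2, 5⟩)) (.node 1 (.one ⟨7742, 1, 5⟩) (.one ⟨11762, 2, 3⟩))))) (.node 8 (.node 4 (.node 2 (.node 1 (.one ⟨7820, 1, 6⟩) (.one ⟨14211, 0, 2⟩)) (.node 1 (.one ⟨12703, 0, 6⟩) (.one ⟨14340, 0, 3⟩))) (.node 2 (.node 1 (.one ⟨12503, 2, 4⟩) (.one ⟨13162, 2, 4⟩))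 (.node 1 (.one ⟨11239, 2, 3⟩) (.one ⟨15539, 2, 4⟩)))) (.node 4 (.node 2 (.node 1 (.one ⟨2368, 2, 4⟩) (.one ⟨7595, 0, 6⟩)) (.node 1 (.one ⟨13334, 2, 2⟩) (.one ⟨15034, 2, 2⟩))) (.node 2 (.node 1 (.one ⟨11158, 2, 4⟩) (.one ⟨3643, 2, 4⟩)) (.node 1 (.one ⟨8395, 2, 4⟩) (.one ⟨4375, 1, 3⟩)))))) (.node 16 (.node 8 (.node 4 (.node 2 (.node 1 (.one ⟨9204, 1, 2⟩) (.one ⟨2955, 0, 4⟩)) (.node 1 (.one ⟨5142, 1, 0⟩) (.one ⟨3056, 0, 4⟩))) (.node 2 (.node 1 (.one ⟨15317, 2, 4⟩) (.one ⟨14362, 2, 3⟩)) (.node 1 (.one ⟨6887, 1, 3⟩) (.one ⟨15296, 2, 3⟩)))) (.node 4 (.node 2 (.node 1 (.one ⟨16677, 0, 5⟩) (.one ⟨16137, 2, 6⟩)) (.node 1 (.one ⟨14969, 2, 4⟩) (.one ⟨4981, 2, 6⟩))) (.node 2 (.node 1 (.one ⟨8050, 0, 2⟩) (.one ⟨14987, 1,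 3⟩)) (.node 1 (.one ⟨15316, 0, 3⟩) (.one ⟨11672, 1, 3⟩))))) (.node 8 (.node 4 (.node 2 (.node 1 (.one ⟨3798, 2, 4⟩) (.one ⟨12115, 2, 4⟩)) (.node 1 (.one ⟨1519, 0, 2⟩) (.one ⟨7321, 0, 4⟩))) (.node 2 (.node 1 (.one ⟨15606, 0, 3⟩) (.one ⟨11745, 0, 3⟩)) (.node 1 (.one ⟨16071, 2, 4⟩) (.one ⟨14367, 2, 4⟩)))) (.node 4 (.node 2 (.node 1 (.one ⟨15825, 0, 3⟩) (.one ⟨3087, 0, 4⟩)) (.node 1 (.one ⟨2253, 0, 4⟩) (.one ⟨17132, 0, 5⟩))) (.node 2 (.node 1 (.one ⟨2333, 0, 3⟩) (.one ⟨4079, 0, 5⟩)) (.node 1 (.one ⟨5774, 2, 3⟩) (.one ⟨17074, 2, 3⟩)))))))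
def par9_0 : Arr Par :=
  (.node 512 (.node 256 (.node 128 (.node 64 par9_0_0 par9_0_1) (.node 64 par9_0_2 par9_0_3)) (.node 128 (.node 64 par9_0_4 par9_0_5) (.node 64 par9_0_6 par9_0_7))) (.node 256 (.node 128 (.node 64 par9_0_8 par9_0_9) (.node 64 par9_0_10 par9_0_11)) (.node 128 (.node 64 par9_0_12 par9_0_13) (.node 64 par9_0_14 par9_0_15))))
def par9_1_0 : Arr Par :=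
  (.node 32 (.node 16 (.node 8 (.node 4 (.node 2 (.node 1 (.one ⟨5864, 2, 3⟩) (.one ⟨15208, 0, 3⟩)) (.node 1 (.one ⟨15971, 2, 4⟩) (.one ⟨1978, 2, 3⟩))) (.node 2 (.node 1 (.one ⟨2194, 1, 4⟩) (.one ⟨4232, 2, 1⟩)) (.node 1 (.one ⟨11702, 0, 4⟩) (.one ⟨17197, 0, 4⟩)))) (.node 4 (.node 2 (.node 1 (.one ⟨8233, 2, 2⟩) (.one ⟨1690, 0, 5⟩)) (.node 1 (.one ⟨1170, 0, 3⟩) (.one ⟨4297, 0, 2⟩))) (.node 2 (.node 1 (.one ⟨11886, 1, 6⟩) (.one ⟨13883, 2, 6⟩)) (.node 1 (.one ⟨12100, 0, 5⟩) (.one ⟨8996, 2, 3⟩))))) (.node 8 (.node 4 (.node 2 (.node 1 (.one ⟨13056, 0, 4⟩) (.one ⟨6095, 1, 3⟩)) (.node 1 (.one ⟨2251, 0, 3⟩) (.one ⟨17134, 0, 4⟩))) (.node 2 (.node 1 (.one ⟨16515, 2, 4⟩) (.one ⟨5301, 2, 3⟩)) (.node 1 (.one ⟨5292, 0, 6⟩)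 (.one ⟨11089, 0, 6⟩)))) (.node 4 (.node 2 (.node 1 (.one ⟨3713, 0, 5⟩) (.one ⟨1174, 2, 5⟩)) (.node 1 (.one ⟨9744, 2, 5⟩) (.one ⟨15222, 2, 5⟩))) (.node 2 (.node 1 (.one ⟨7221, 2, 5⟩) (.one ⟨12420, 2, 4⟩)) (.node 1 (.one ⟨16048, 2, 4⟩) (.one ⟨12617, 0, 5⟩)))))) (.node 16 (.node 8 (.node 4 (.node 2 (.node 1 (.one ⟨1065, 2, 5⟩) (.one ⟨14283, 2, 4⟩)) (.node 1 (.one ⟨5294, 0, 5⟩) (.one ⟨13556, 0, 4⟩))) (.node 2 (.node 1 (.one ⟨16897, 0, 3⟩) (.one ⟨7839, 0, 4⟩)) (.node 1 (.one ⟨6674, 2, 4⟩) (.one ⟨14754, 0, 3⟩)))) (.node 4 (.node 2 (.node 1 (.one ⟨9517, 2, 5⟩) (.one ⟨8941, 2, 4⟩)) (.node 1 (.one ⟨13129, 1, 4⟩) (.one ⟨11567, 2, 5⟩))) (.node 2 (.node 1 (.one ⟨9229, 2, 4⟩) (.one ⟨4110, 2, 5⟩)) (.node 1 (.one ⟨1787, 1,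 3⟩) (.one ⟨9339, 2, 6⟩))))) (.node 8 (.node 4 (.node 2 (.node 1 (.one ⟨13101, 2, 3⟩) (.one ⟨5904, 2, 5⟩)) (.node 1 (.one ⟨8654, 2, 4⟩) (.one ⟨1837, 0, 6⟩))) (.node 2 (.node 1 (.one ⟨13828, 2, 6⟩) (.one ⟨4945, 2, 5⟩)) (.node 1 (.one ⟨1595, 2, 5⟩) (.one ⟨13588, 2, 6⟩)))) (.node 4 (.node 2 (.node 1 (.one ⟨10423, 2, 5⟩) (.one ⟨8708, 2, 4⟩)) (.node 1 (.one ⟨5799, 2, 4⟩) (.one ⟨7803, 0, 6⟩))) (.node 2 (.node 1 (.one ⟨8869, 0, 6⟩) (.one ⟨724, 2, 3⟩)) (.node 1 (.one ⟨5010, 2, 3⟩) (.one ⟨5368, 0, 1⟩)))))))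
def par9_1_1 : Arr Par :=
  (.node 32 (.node 16 (.node 8 (.node 4 (.node 2 (.node 1 (.one ⟨11895, 2, 5⟩) (.one ⟨8461, 0, 4⟩)) (.node 1 (.one ⟨3797, 2, 4⟩) (.one ⟨9578, 2, 2⟩))) (.node 2 (.node 1 (.one ⟨10478, 2, 5⟩) (.one ⟨1029, 2, 2⟩)) (.node 1 (.one ⟨7377, 0, 2⟩) (.one ⟨5835, 0, 5⟩)))) (.node 4 (.node 2 (.node 1 (.one ⟨12950, 2, 5⟩) (.one ⟨5733, 2, 2⟩)) (.node 1 (.one ⟨17170, 0, 6⟩) (.one ⟨7253, 1, 2⟩))) (.node 2 (.node 1 (.one ⟨10934, 2, 4⟩) (.one ⟨5977, 0, 4⟩)) (.node 1 (.one ⟨4967, 2, 2⟩) (.one ⟨582, 1, 1⟩))))) (.node 8 (.node 4 (.node 2 (.node 1 (.one ⟨6494, 2, 2⟩) (.one ⟨5622, 1, 5⟩)) (.node 1 (.one ⟨2731, 2, 2⟩) (.one ⟨9353, 1, 2⟩))) (.node 2 (.node 1 (.one ⟨2638, 2, 4⟩) (.one ⟨329, 2, 1⟩)) (.node 1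 (.one ⟨16503, 0, 2⟩) (.one ⟨10635, 0, 4⟩)))) (.node 4 (.node 2 (.node 1 (.one ⟨3656, 0, 2⟩) (.one ⟨6158, 2, 4⟩)) (.node 1 (.one ⟨13009, 1, 4⟩) (.one ⟨14978, 0, 4⟩))) (.node 2 (.node 1 (.one ⟨1315, 1, 6⟩) (.one ⟨1942, 2, 4⟩)) (.node 1 (.one ⟨4974, 1, 2⟩) (.one ⟨12556, 2, 1⟩)))))) (.node 16 (.node 8 (.node 4 (.node 2 (.node 1 (.one ⟨17031, 2, 1⟩) (.one ⟨456, 2, 3⟩)) (.node 1 (.one ⟨14963, 1, 3⟩) (.one ⟨11467, 2, 1⟩))) (.node 2 (.node 1 (.one ⟨14407, 2, 1⟩) (.one ⟨4668, 2, 5⟩)) (.node 1 (.one ⟨7861, 2, 4⟩) (.one ⟨3631, 2, 1⟩)))) (.node 4 (.node 2 (.node 1 (.one ⟨8371, 2, 1⟩) (.one ⟨14915, 2, 5⟩)) (.node 1 (.one ⟨8370, 0, 5⟩) (.one ⟨2927, 2, 1⟩))) (.node 2 (.node 1 (.one ⟨5619, 2, 1⟩) (.one ⟨2363, 1, 6⟩)) (.node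 1 (.one ⟨507, 0, 6⟩) (.one ⟨4873, 0, 5⟩))))) (.node 8 (.node 4 (.node 2 (.node 1 (.one ⟨14738, 0, 4⟩) (.one ⟨6092, 2, 6⟩)) (.node 1 (.one ⟨4212, 2, 2⟩) (.one ⟨11765, 0, 2⟩))) (.node 2 (.node 1 (.one ⟨7604, 2, 3⟩) (.one ⟨3822, 2, 4⟩)) (.node 1 (.one ⟨6481, 2, 3⟩) (.one ⟨4576, 0, 6⟩)))) (.node 4 (.node 2 (.node 1 (.one ⟨4297, 2, 2⟩) (.one ⟨8203, 2, 6⟩)) (.node 1 (.one ⟨1658, 2, 4⟩) (.one ⟨4227, 2, 4⟩))) (.node 2 (.node 1 (.one ⟨6083, 2, 3⟩) (.one ⟨155, 2, 4⟩)) (.node 1 (.one ⟨8174, 2, 4⟩) (.one ⟨4572, 0, 3⟩)))))))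
def par9_1_2 : Arr Par :=
  (.node 32 (.node 16 (.node 8 (.node 4 (.node 2 (.node 1 (.one ⟨17048, 2, 4⟩) (.one ⟨8235, 0, 5⟩)) (.node 1 (.one ⟨9630, 0, 4⟩) (.one ⟨8552, 2, 4⟩))) (.node 2 (.node 1 (.one ⟨12683, 0, 4⟩) (.one ⟨774, 0, 5⟩)) (.node 1 (.one ⟨6754, 2, 5⟩) (.one ⟨8910, 0, 6⟩)))) (.node 4 (.node 2 (.node 1 (.one ⟨3277, 0, 3⟩) (.one ⟨7622, 0, 3⟩)) (.node 1 (.one ⟨1077, 0, 6⟩) (.one ⟨9659, 2, 4⟩))) (.node 2 (.node 1 (.one ⟨12488, 1, 3⟩) (.one ⟨10251, 1, 3⟩)) (.node 1 (.one ⟨4821, 0, 3⟩) (.one ⟨15781, 0, 6⟩))))) (.node 8 (.node 4 (.node 2 (.node 1 (.one ⟨4257, 2, 4⟩) (.one ⟨8549, 2, 6⟩)) (.node 1 (.one ⟨14346, 0, 2⟩) (.one ⟨7152, 2, 3⟩))) (.node 2 (.node 1 (.one ⟨4230, 2, 6⟩) (.one ⟨8517, 2, 3⟩)) (.node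 1 (.one ⟨119, 2, 4⟩) (.one ⟨8179, 2, 6⟩)))) (.node 4 (.node 2 (.node 1 (.one ⟨3454, 2, 2⟩) (.one ⟨6163, 2, 6⟩)) (.node 1 (.one ⟨5052, 1, 0⟩) (.one ⟨7605, 2, 4⟩))) (.node 2 (.node 1 (.one ⟨2863, 2, 4⟩) (.one ⟨16365, 0, 2⟩)) (.node 1 (.one ⟨5085, 2, 3⟩) (.one ⟨1017, 1, 5⟩)))))) (.node 16 (.node 8 (.node 4 (.node 2 (.node 1 (.one ⟨285, 0, 5⟩) (.one ⟨6258, 0, 2⟩)) (.node 1 (.one ⟨15452, 0, 4⟩) (.one ⟨15321, 2, 3⟩))) (.node 2 (.node 1 (.one ⟨8135, 0, 4⟩) (.one ⟨3553, 0, 2⟩)) (.node 1 (.one ⟨12700, 0, 4⟩) (.one ⟨7841, 2, 6⟩)))) (.node 4 (.node 2 (.node 1 (.one ⟨1871, 2, 3⟩) (.one ⟨4178, 0, 2⟩)) (.node 1 (.one ⟨13515, 0, 4⟩) (.one ⟨12560, 0, 3⟩))) (.node 2 (.node 1 (.one ⟨742, 2, 4⟩) (.one ⟨6074, 0, 2⟩)) (.node 1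 (.one ⟨14925, 0, 2⟩) (.one ⟨14092, 1, 2⟩))))) (.node 8 (.node 4 (.node 2 (.node 1 (.one ⟨50, 1, 4⟩) (.one ⟨16314, 2, 6⟩)) (.node 1 (.one ⟨5286, 1, 0⟩) (.one ⟨8756, 1, 3⟩))) (.node 2 (.node 1 (.one ⟨13453, 1, 3⟩) (.one ⟨12016, 2, 6⟩)) (.node 1 (.one ⟨14748, 2, 5⟩) (.one ⟨5179, 1, 0⟩)))) (.node 4 (.node 2 (.node 1 (.one ⟨5451, 1, 0⟩) (.one ⟨2716, 1, 3⟩)) (.node 1 (.one ⟨14389, 1, 4⟩) (.one ⟨5246, 1, 0⟩))) (.node 2 (.node 1 (.one ⟨14047, 2, 6⟩) (.one ⟨12853, 1, 3⟩)) (.node 1 (.one ⟨12808, 0, 4⟩) (.one ⟨2141, 1, 4⟩)))))))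
def par9_1_3 : Arr Par :=
  (.node 32 (.node 16 (.node 8 (.node 4 (.node 2 (.node 1 (.one ⟨9971, 2, 5⟩) (.one ⟨4544, 2, 4⟩)) (.node 1 (.one ⟨9266, 0, 2⟩) (.one ⟨10920, 2, 5⟩))) (.node 2 (.node 1 (.one ⟨12358, 2, 3⟩) (.one ⟨9539, 0, 3⟩)) (.node 1 (.one ⟨3873, 2, 4⟩) (.one ⟨3098, 2, 4⟩)))) (.node 4 (.node 2 (.node 1 (.one ⟨9463, 0, 5⟩) (.one ⟨5862, 0, 5⟩)) (.node 1 (.one ⟨5382, 1, 0⟩) (.one ⟨9213, 0, 4⟩))) (.node 2 (.node 1 (.one ⟨994, 2, 1⟩) (.one ⟨9434, 2, 1⟩)) (.node 1 (.one ⟨5920, 0, 5⟩) (.one ⟨3709, 2, 6⟩))))) (.node 8 (.node 4 (.node 2 (.node 1 (.one ⟨13467, 0, 6⟩) (.one ⟨7163, 2, 3⟩)) (.node 1 (.one ⟨200, 2, 3⟩) (.one ⟨15146, 0, 6⟩))) (.node 2 (.node 1 (.one ⟨2473, 2, 6⟩) (.one ⟨4518, 2, 5⟩)) (.node 1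 (.one ⟨8703, 2, 4⟩) (.one ⟨1592, 2, 4⟩)))) (.node 4 (.node 2 (.node 1 (.one ⟨7284, 2, 3⟩) (.one ⟨8740, 2, 6⟩)) (.node 1 (.one ⟨14913, 0, 6⟩) (.one ⟨8647, 2, 3⟩))) (.node 2 (.node 1 (.one ⟨4452, 2, 4⟩) (.one ⟨1332, 2, 5⟩)) (.node 1 (.one ⟨7099, 2, 5⟩) (.one ⟨4797, 2, 6⟩)))))) (.node 16 (.node 8 (.node 4 (.node 2 (.node 1 (.one ⟨4241, 2, 6⟩) (.one ⟨3420, 2, 2⟩)) (.node 1 (.one ⟨3184, 0, 4⟩) (.one ⟨5083, 2, 4⟩))) (.node 2 (.node 1 (.one ⟨3821, 2, 3⟩) (.one ⟨2865, 2, 3⟩)) (.node 1 (.one ⟨2459, 2, 4⟩) (.one ⟨14493, 0, 5⟩)))) (.node 4 (.node 2 (.node 1 (.one ⟨14742, 0, 6⟩) (.one ⟨4328, 2, 4⟩)) (.node 1 (.one ⟨4892, 2, 2⟩) (.one ⟨178, 2, 4⟩))) (.node 2 (.node 1 (.one ⟨3427, 2, 3⟩) (.one ⟨4228, 2, 3⟩)) (.node 1 (.one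 ⟨4814, 2, 3⟩) (.one ⟨14372, 0, 2⟩))))) (.node 8 (.node 4 (.node 2 (.node 1 (.one ⟨4448, 2, 5⟩) (.one ⟨14288, 2, 6⟩)) (.node 1 (.one ⟨3615, 1, 4⟩) (.one ⟨7279, 2, 4⟩))) (.node 2 (.node 1 (.one ⟨4943, 2, 5⟩) (.one ⟨12333, 0, 6⟩)) (.node 1 (.one ⟨11714, 0, 6⟩) (.one ⟨11398, 2, 5⟩)))) (.node 4 (.node 2 (.node 1 (.one ⟨16792, 2, 6⟩) (.one ⟨3283, 2, 6⟩)) (.node 1 (.one ⟨8707, 2, 3⟩) (.one ⟨14026, 0, 6⟩))) (.node 2 (.node 1 (.one ⟨16428, 2, 6⟩) (.one ⟨806, 2, 3⟩)) (.node 1 (.one ⟨8308, 2, 4⟩) (.one ⟨8884, 2, 2⟩)))))))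
def par9_1_4 : Arr Par :=
  (.node 32 (.node 16 (.node 8 (.node 4 (.node 2 (.node 1 (.one ⟨14829, 0, 4⟩) (.one ⟨4940, 1, 0⟩)) (.node 1 (.one ⟨745, 0, 3⟩) (.one ⟨7627, 2, 4⟩))) (.node 2 (.node 1 (.one ⟨7249, 2, 6⟩) (.one ⟨5097, 1, 0⟩)) (.node 1 (.one ⟨3583, 2, 6⟩) (.one ⟨12189, 0, 6⟩)))) (.node 4 (.node 2 (.node 1 (.one ⟨5164, 2, 5⟩) (.one ⟨3101, 1, 1⟩)) (.node 1 (.one ⟨15224, 0, 6⟩) (.one ⟨3341, 2, 6⟩))) (.node 2 (.node 1 (.one ⟨3608, 2, 6⟩) (.one ⟨4974, 1, 0⟩)) (.node 1 (.one ⟨5160, 1, 0⟩) (.one ⟨12147, 2, 5⟩))))) (.node 8 (.node 4 (.node 2 (.node 1 (.one ⟨9565, 2, 1⟩) (.one ⟨3731, 2, 3⟩)) (.node 1 (.one ⟨2660, 2, 6⟩) (.one ⟨12012, 2, 5⟩))) (.node 2 (.node 1 (.one ⟨6399, 0, 5⟩) (.one ⟨3875, 2, 5⟩)) (.node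 1 (.one ⟨1547, 0, 4⟩) (.one ⟨15732, 1, 2⟩)))) (.node 4 (.node 2 (.node 1 (.one ⟨9200, 0, 3⟩) (.one ⟨10031, 2, 3⟩)) (.node 1 (.one ⟨12369, 2, 5⟩) (.one ⟨624, 2, 1⟩))) (.node 2 (.node 1 (.one ⟨4054, 2, 4⟩) (.one ⟨16233, 0, 3⟩)) (.node 1 (.one ⟨16207, 0, 6⟩) (.one ⟨10905, 0, 6⟩)))))) (.node 16 (.node 8 (.node 4 (.node 2 (.node 1 (.one ⟨9038, 1, 2⟩) (.one ⟨2229, 2, 2⟩)) (.node 1 (.one ⟨14648, 0, 3⟩) (.one ⟨14429, 0, 5⟩))) (.node 2 (.node 1 (.one ⟨359, 2, 5⟩) (.one ⟨9069, 1, 2⟩)) (.node 1 (.one ⟨10365, 0, 3⟩) (.one ⟨5587, 2, 5⟩)))) (.node 4 (.node 2 (.node 1 (.one ⟨9530, 1, 2⟩) (.one ⟨9222, 0, 4⟩)) (.node 1 (.one ⟨2387, 2, 2⟩) (.one ⟨10375, 1, 5⟩))) (.node 2 (.node 1 (.one ⟨11398, 0, 5⟩) (.one ⟨13754, 2, 3⟩)) (.node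 1 (.one ⟨6262, 2, 3⟩) (.one ⟨14451, 2, 6⟩))))) (.node 8 (.node 4 (.node 2 (.node 1 (.one ⟨13562, 2, 3⟩) (.one ⟨6522, 0, 2⟩)) (.node 1 (.one ⟨10698, 0, 2⟩) (.one ⟨15651, 2, 3⟩))) (.node 2 (.node 1 (.one ⟨534, 0, 4⟩) (.one ⟨8636, 0, 4⟩)) (.node 1 (.one ⟨13068, 0, 2⟩) (.one ⟨12562, 0, 4⟩)))) (.node 4 (.node 2 (.node 1 (.one ⟨5458, 1, 0⟩) (.one ⟨13334, 0, 2⟩)) (.node 1 (.one ⟨8822, 0, 2⟩) (.one ⟨7840, 2, 3⟩))) (.node 2 (.node 1 (.one ⟨7076, 0, 3⟩) (.one ⟨9569, 0, 4⟩)) (.node 1 (.one ⟨5880, 0, 2⟩) (.one ⟨755, 2, 3⟩)))))))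
def par9_1_5 : Arr Par :=
  (.node 32 (.node 16 (.node 8 (.node 4 (.node 2 (.node 1 (.one ⟨8307, 2, 5⟩) (.one ⟨7159, 2, 3⟩)) (.node 1 (.one ⟨5007, 2, 4⟩) (.one ⟨16382, 2, 5⟩))) (.node 2 (.node 1 (.one ⟨9182, 2, 6⟩) (.one ⟨3627, 0, 6⟩)) (.node 1 (.one ⟨4065, 0, 6⟩) (.one ⟨7280, 2, 4⟩)))) (.node 4 (.node 2 (.node 1 (.one ⟨4944, 2, 4⟩) (.one ⟨13644, 0, 2⟩)) (.node 1 (.one ⟨8245, 2, 3⟩) (.one ⟨7197, 0, 6⟩))) (.node 2 (.node 1 (.one ⟨6592, 0, 6⟩) (.one ⟨16130, 2, 6⟩)) (.node 1 (.one ⟨10297, 1, 3⟩) (.one ⟨10371, 1, 2⟩))))) (.node 8 (.node 4 (.node 2 (.node 1 (.one ⟨8755, 1, 2⟩) (.one ⟨2585, 2, 6⟩)) (.node 1 (.one ⟨8262, 2, 6⟩) (.one ⟨7027, 0, 5⟩))) (.node 2 (.node 1 (.one ⟨16518, 1, 4⟩) (.one ⟨4873, 1, 0⟩)) (.node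 1 (.one ⟨4561, 2, 5⟩) (.one ⟨5843, 1, 3⟩)))) (.node 4 (.node 2 (.node 1 (.one ⟨12854, 1, 4⟩) (.one ⟨1110, 2, 3⟩)) (.node 1 (.one ⟨5814, 0, 5⟩) (.one ⟨13977, 0, 6⟩))) (.node 2 (.node 1 (.one ⟨5206, 1, 3⟩) (.one ⟨7480, 2, 6⟩)) (.node 1 (.one ⟨5390, 2, 6⟩) (.one ⟨13982, 2, 6⟩)))))) (.node 16 (.node 8 (.node 4 (.node 2 (.node 1 (.one ⟨13294, 2, 2⟩) (.one ⟨6940, 1, 2⟩)) (.node 1 (.one ⟨13782, 0, 6⟩) (.one ⟨11192, 2, 6⟩))) (.node 2 (.node 1 (.one ⟨15701, 2, 6⟩) (.one ⟨2815, 2, 4⟩)) (.node 1 (.one ⟨5419, 1, 0⟩) (.one ⟨10762, 1, 1⟩)))) (.node 4 (.node 2 (.node 1 (.one ⟨8831, 2, 4⟩) (.one ⟨16885, 2, 4⟩)) (.node 1 (.one ⟨9207, 2, 6⟩) (.one ⟨5384, 1, 0⟩))) (.node 2 (.node 1 (.one ⟨13957, 1, 3⟩) (.one ⟨11656, 2, 6⟩)) (.node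 1 (.one ⟨15525, 2, 6⟩) (.one ⟨2222, 2, 4⟩))))) (.node 8 (.node 4 (.node 2 (.node 1 (.one ⟨111, 2, 1⟩) (.one ⟨14044, 2, 3⟩)) (.node 1 (.one ⟨605, 1, 1⟩) (.one ⟨5965, 2, 2⟩))) (.node 2 (.node 1 (.one ⟨5210, 1, 0⟩) (.one ⟨13538, 0, 4⟩)) (.node 1 (.one ⟨6899, 0, 4⟩) (.one ⟨1733, 2, 4⟩)))) (.node 4 (.node 2 (.node 1 (.one ⟨1938, 2, 2⟩) (.one ⟨3381, 0, 6⟩)) (.node 1 (.one ⟨14542, 2, 3⟩) (.one ⟨14316, 1, 5⟩))) (.node 2 (.node 1 (.one ⟨6154, 2, 4⟩) (.one ⟨1394, 1, 2⟩)) (.node 1 (.one ⟨12382, 0, 4⟩) (.one ⟨5910, 2, 4⟩)))))))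
def par9_1_6 : Arr Par :=
  (.node 32 (.node 16 (.node 8 (.node 4 (.node 2 (.node 1 (.one ⟨8649, 2, 3⟩) (.one ⟨4843, 0, 6⟩)) (.node 1 (.one ⟨3934, 0, 6⟩) (.one ⟨7283, 2, 5⟩))) (.node 2 (.node 1 (.one ⟨8242, 2, 5⟩) (.one ⟨1184, 2, 6⟩)) (.node 1 (.one ⟨5028, 2, 6⟩) (.one ⟨7410, 0, 6⟩)))) (.node 4 (.node 2 (.node 1 (.one ⟨5633, 0, 6⟩) (.one ⟨3279, 2, 3⟩)) (.node 1 (.one ⟨4517, 2, 4⟩) (.one ⟨6790, 2, 6⟩))) (.node 2 (.node 1 (.one ⟨8061, 2, 5⟩) (.one ⟨277, 2, 3⟩)) (.node 1 (.one ⟨13137, 0, 2⟩) (.one ⟨374, 1, 5⟩))))) (.node 8 (.node 4 (.node 2 (.node 1 (.one ⟨16860, 0, 3⟩) (.one ⟨6939, 0, 2⟩)) (.node 1 (.one ⟨1939, 0, 2⟩) (.one ⟨319, 0, 5⟩))) (.node 2 (.node 1 (.one ⟨6669, 0, 5⟩) (.one ⟨17196, 0, 2⟩)) (.node 1 (.one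 ⟨12280, 0, 4⟩) (.one ⟨12077, 2, 6⟩)))) (.node 4 (.node 2 (.node 1 (.one ⟨13322, 2, 3⟩) (.one ⟨4532, 0, 2⟩)) (.node 1 (.one ⟨7687, 0, 2⟩) (.one ⟨15323, 2, 3⟩))) (.node 2 (.node 1 (.one ⟨14111, 0, 4⟩) (.one ⟨11260, 0, 2⟩)) (.node 1 (.one ⟨14295, 0, 4⟩) (.one ⟨13709, 2, 6⟩)))))) (.node 16 (.node 8 (.node 4 (.node 2 (.node 1 (.one ⟨9543, 2, 6⟩) (.one ⟨4551, 2, 4⟩)) (.node 1 (.one ⟨5336, 1, 0⟩) (.one ⟨15818, 2, 6⟩))) (.node 2 (.node 1 (.one ⟨8197, 0, 5⟩) (.one ⟨2818, 2, 4⟩)) (.node 1 (.one ⟨5177, 1, 0⟩) (.one ⟨16953, 2, 6⟩)))) (.node 4 (.node 2 (.node 1 (.one ⟨13303, 2, 6⟩) (.one ⟨5681, 1, 1⟩)) (.node 1 (.one ⟨3371, 0, 6⟩) (.one ⟨5933, 0, 4⟩))) (.node 2 (.node 1 (.one ⟨11231, 2, 6⟩) (.one ⟨2661, 1, 1⟩)) (.node 1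 (.one ⟨112, 0, 3⟩) (.one ⟨13570, 2, 4⟩))))) (.node 8 (.node 4 (.node 2 (.node 1 (.one ⟨16163, 2, 6⟩) (.one ⟨7160, 2, 5⟩)) (.node 1 (.one ⟨684, 2, 3⟩) (.one ⟨11759, 2, 4⟩))) (.node 2 (.node 1 (.one ⟨17172, 2, 6⟩) (.one ⟨5800, 2, 5⟩)) (.node 1 (.one ⟨3286, 2, 4⟩) (.one ⟨8244, 2, 4⟩)))) (.node 4 (.node 2 (.node 1 (.one ⟨9449, 2, 6⟩) (.one ⟨4946, 2, 5⟩)) (.node 1 (.one ⟨15181, 2, 6⟩) (.one ⟨8652, 2, 3⟩))) (.node 2 (.node 1 (.one ⟨16811, 0, 6⟩) (.one ⟨4447, 2, 5⟩)) (.node 1 (.one ⟨13797, 2, 5⟩) (.one ⟨10738, 0, 6⟩)))))))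
def par9_1_7 : Arr Par :=
  (.node 32 (.node 16 (.node 8 (.node 4 (.node 2 (.node 1 (.one ⟨2444, 2, 5⟩) (.one ⟨5908, 2, 5⟩)) (.node 1 (.one ⟨4451, 2, 3⟩) (.one ⟨16402, 0, 6⟩))) (.node 2 (.node 1 (.one ⟨6245, 2, 5⟩) (.one ⟨1591, 2, 4⟩)) (.node 1 (.one ⟨8239, 2, 4⟩) (.one ⟨16577, 0, 6⟩)))) (.node 4 (.node 2 (.node 1 (.one ⟨1427, 2, 6⟩) (.one ⟨5803, 2, 4⟩)) (.node 1 (.one ⟨4515, 2, 5⟩) (.one ⟨11131, 0, 6⟩))) (.node 2 (.node 1 (.one ⟨5703, 2, 6⟩) (.one ⟨161, 2, 3⟩)) (.node 1 (.one ⟨8304, 2, 4⟩) (.one ⟨6858, 2, 6⟩))))) (.node 8 (.node 4 (.node 2 (.node 1 (.one ⟨502, 2, 3⟩) (.one ⟨4986, 1, 0⟩)) (.node 1 (.one ⟨4979, 2, 1⟩) (.one ⟨7873, 2, 5⟩))) (.node 2 (.node 1 (.one ⟨15691, 1, 2⟩) (.one ⟨4877, 1, 0⟩)) (.node 1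 (.one ⟨1843, 2, 6⟩) (.one ⟨207, 0, 6⟩)))) (.node 4 (.node 2 (.node 1 (.one ⟨7729, 0, 4⟩) (.one ⟨16199, 2, 1⟩)) (.node 1 (.one ⟨13511, 2, 1⟩) (.one ⟨12736, 2, 4⟩))) (.node 2 (.node 1 (.one ⟨2143, 1, 3⟩) (.one ⟨15496, 2, 1⟩)) (.node 1 (.one ⟨10759, 2, 1⟩) (.one ⟨9250, 2, 4⟩)))))) (.node 16 (.node 8 (.node 4 (.node 2 (.node 1 (.one ⟨2575, 2, 6⟩) (.one ⟨9475, 2, 2⟩)) (.node 1 (.one ⟨2502, 2, 6⟩) (.one ⟨14499, 1, 3⟩))) (.node 2 (.node 1 (.one ⟨1128, 2, 2⟩) (.one ⟨10065, 1, 3⟩)) (.node 1 (.one ⟨1501, 2, 2⟩) (.one ⟨6653, 2, 3⟩)))) (.node 4 (.node 2 (.node 1 (.one ⟨10033, 2, 5⟩) (.one ⟨5699, 0, 1⟩)) (.node 1 (.one ⟨15101, 2, 4⟩) (.one ⟨9062, 2, 3⟩))) (.node 2 (.node 1 (.one ⟨12486, 0, 5⟩) (.one ⟨1317, 0, 3⟩)) (.node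 1 (.one ⟨5546, 1, 2⟩) (.one ⟨11359, 2, 1⟩))))) (.node 8 (.node 4 (.node 2 (.node 1 (.one ⟨11368, 2, 1⟩) (.one ⟨2540, 1, 3⟩)) (.node 1 (.one ⟨239, 2, 3⟩) (.one ⟨12139, 2, 1⟩))) (.node 2 (.node 1 (.one ⟨12128, 2, 1⟩) (.one ⟨361, 0, 6⟩)) (.node 1 (.one ⟨9631, 1, 2⟩) (.one ⟨5939, 2, 1⟩)))) (.node 4 (.node 2 (.node 1 (.one ⟨5943, 2, 1⟩) (.one ⟨14918, 2, 4⟩)) (.node 1 (.one ⟨7984, 0, 4⟩) (.one ⟨8503, 2, 1⟩))) (.node 2 (.node 1 (.one ⟨8499, 2, 1⟩) (.one ⟨15930, 2, 5⟩)) (.node 1 (.one ⟨15950, 2, 4⟩) (.one ⟨4431, 2, 3⟩)))))))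
def par9_1_8 : Arr Par :=
  (.node 32 (.node 16 (.node 8 (.node 4 (.node 2 (.node 1 (.one ⟨12019, 0, 5⟩) (.one ⟨1304, 0, 4⟩)) (.node 1 (.one ⟨2964, 2, 2⟩) (.one ⟨2050, 2, 3⟩))) (.node 2 (.node 1 (.one ⟨3971, 0, 3⟩) (.one ⟨3895, 2, 5⟩)) (.node 1 (.one ⟨1228, 0, 2⟩) (.one ⟨82, 0, 1⟩)))) (.node 4 (.node 2 (.node 1 (.one ⟨3125, 2, 3⟩) (.one ⟨5410, 2, 6⟩)) (.node 1 (.one ⟨10290, 0, 5⟩) (.one ⟨9269, 0, 3⟩))) (.node 2 (.node 1 (.one ⟨1542, 0, 3⟩) (.one ⟨10350, 0, 3⟩)) (.node 1 (.one ⟨1285, 2, 1⟩) (.one ⟨6509, 1, 2⟩))))) (.node 8 (.node 4 (.node 2 (.node 1 (.one ⟨8758, 1, 2⟩) (.one ⟨11266, 2, 5⟩)) (.node 1 (.one ⟨4972, 1, 0⟩) (.one ⟨8, 1, 2⟩))) (.node 2 (.node 1 (.one ⟨4771, 0, 4⟩) (.one ⟨13485, 2, 6⟩)) (.node 1 (.one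 ⟨5086, 1, 0⟩) (.one ⟨10974, 2, 6⟩)))) (.node 4 (.node 2 (.node 1 (.one ⟨10616, 2, 6⟩) (.one ⟨8731, 1, 4⟩)) (.node 1 (.one ⟨5845, 1, 3⟩) (.one ⟨5132, 1, 0⟩))) (.node 2 (.node 1 (.one ⟨4244, 1, 4⟩) (.one ⟨5204, 1, 4⟩)) (.node 1 (.one ⟨2718, 1, 2⟩) (.one ⟨367, 0, 3⟩)))))) (.node 16 (.node 8 (.node 4 (.node 2 (.node 1 (.one ⟨6226, 2, 2⟩) (.one ⟨3948, 0, 2⟩)) (.node 1 (.one ⟨11607, 0, 2⟩) (.one ⟨14942, 1, 4⟩))) (.node 2 (.node 1 (.one ⟨4781, 1, 4⟩) (.one ⟨13784, 2, 6⟩)) (.node 1 (.one ⟨10563, 0, 3⟩) (.one ⟨15010, 2, 4⟩)))) (.node 4 (.node 2 (.node 1 (.one ⟨3749, 2, 5⟩) (.one ⟨1697, 1, 2⟩)) (.node 1 (.one ⟨2324, 2, 3⟩) (.one ⟨15618, 2, 4⟩))) (.node 2 (.node 1 (.one ⟨4190, 2, 3⟩) (.one ⟨5010, 0, 3⟩)) (.node 1 (.one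 ⟨9910, 0, 1⟩) (.one ⟨5226, 2, 3⟩))))) (.node 8 (.node 4 (.node 2 (.node 1 (.one ⟨15980, 2, 7⟩) (.one ⟨10768, 0, 5⟩)) (.node 1 (.one ⟨16844, 0, 6⟩) (.one ⟨2154, 0, 3⟩))) (.node 2 (.node 1 (.one ⟨13272, 1, 4⟩) (.one ⟨7880, 0, 3⟩)) (.node 1 (.one ⟨4349, 1, 4⟩) (.one ⟨13453, 0, 3⟩)))) (.node 4 (.node 2 (.node 1 (.one ⟨8757, 0, 3⟩) (.one ⟨5726, 0, 3⟩)) (.node 1 (.one ⟨3952, 1, 3⟩) (.one ⟨16518, 0, 4⟩))) (.node 2 (.node 1 (.one ⟨4965, 0, 4⟩) (.one ⟨2199, 1, 4⟩)) (.node 1 (.one ⟨16062, 2, 3⟩) (.one ⟨9047, 0, 3⟩)))))))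
def par9_1_9 : Arr Par :=
  (.node 32 (.node 16 (.node 8 (.node 4 (.node 2 (.node 1 (.one ⟨3618, 2, 4⟩) (.one ⟨11269, 1, 4⟩)) (.node 1 (.one ⟨14916, 0, 6⟩) (.one ⟨2735, 1, 3⟩))) (.node 2 (.node 1 (.one ⟨2679, 2, 2⟩) (.one ⟨10297, 2, 3⟩)) (.node 1 (.one ⟨803, 0, 3⟩) (.one ⟨16668, 0, 3⟩)))) (.node 4 (.node 2 (.node 1 (.one ⟨6432, 2, 6⟩) (.one ⟨4220, 0, 3⟩)) (.node 1 (.one ⟨16655, 0, 2⟩) (.one ⟨15195, 0, 3⟩))) (.node 2 (.node 1 (.one ⟨13908, 2, 6⟩) (.one ⟨1102, 0, 3⟩)) (.node 1 (.one ⟨5733, 1, 2⟩) (.one ⟨16114, 1, 2⟩))))) (.node 8 (.node 4 (.node 2 (.node 1 (.one ⟨12620, 2, 5⟩) (.one ⟨3603, 0, 4⟩)) (.node 1 (.one ⟨4741, 1, 4⟩) (.one ⟨3065, 0, 5⟩))) (.node 2 (.node 1 (.one ⟨14918, 0, 4⟩) (.one ⟨1060, 0, 4⟩)) (.node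 1 (.one ⟨4538, 1, 5⟩) (.one ⟨14938, 2, 6⟩)))) (.node 4 (.node 2 (.node 1 (.one ⟨6855, 1, 1⟩) (.one ⟨6152, 2, 1⟩)) (.node 1 (.one ⟨7866, 2, 5⟩) (.one ⟨11614, 2, 6⟩))) (.node 2 (.node 1 (.one ⟨9643, 2, 4⟩) (.one ⟨12293, 0, 4⟩)) (.node 1 (.one ⟨9318, 0, 3⟩) (.one ⟨14362, 0, 3⟩)))))) (.node 16 (.node 8 (.node 4 (.node 2 (.node 1 (.one ⟨2457, 0, 4⟩) (.one ⟨1634, 1, 3⟩)) (.node 1 (.one ⟨2673, 0, 2⟩) (.one ⟨8965, 2, 5⟩))) (.node 2 (.node 1 (.one ⟨413, 2, 4⟩) (.one ⟨1633, 1, 4⟩)) (.node 1 (.one ⟨5502, 1, 0⟩) (.one ⟨5799, 0, 4⟩)))) (.node 4 (.node 2 (.node 1 (.one ⟨13489, 2, 5⟩) (.one ⟨16103, 2, 2⟩)) (.node 1 (.one ⟨2934, 0, 5⟩) (.one ⟨7192, 2, 4⟩))) (.node 2 (.node 1 (.one ⟨11718, 2, 4⟩) (.one ⟨13294, 1, 2⟩)) (.node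 1 (.one ⟨8479, 0, 2⟩) (.one ⟨6544, 1, 3⟩))))) (.node 8 (.node 4 (.node 2 (.node 1 (.one ⟨14245, 2, 3⟩) (.one ⟨8125, 2, 3⟩)) (.node 1 (.one ⟨8543, 2, 4⟩) (.one ⟨472, 2, 3⟩))) (.node 2 (.node 1 (.one ⟨6708, 1, 6⟩) (.one ⟨10010, 1, 6⟩)) (.node 1 (.one ⟨12458, 2, 4⟩) (.one ⟨14360, 0, 3⟩)))) (.node 4 (.node 2 (.node 1 (.one ⟨11425, 0, 2⟩) (.one ⟨7638, 2, 3⟩)) (.node 1 (.one ⟨8498, 2, 3⟩) (.one ⟨14569, 2, 3⟩))) (.node 2 (.node 1 (.one ⟨15206, 2, 4⟩) (.one ⟨4953, 0, 3⟩)) (.node 1 (.one ⟨8025, 0, 3⟩) (.one ⟨5545, 0, 2⟩)))))))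
def par9_1_10 : Arr Par :=
  (.node 32 (.node 16 (.node 8 (.node 4 (.node 2 (.node 1 (.one ⟨11262, 0, 3⟩) (.one ⟨9992, 0, 4⟩)) (.node 1 (.one ⟨13177, 2, 5⟩) (.one ⟨8535, 2, 6⟩))) (.node 2 (.node 1 (.one ⟨8338, 0, 3⟩) (.one ⟨8486, 0, 4⟩)) (.node 1 (.one ⟨15090, 0, 2⟩) (.one ⟨1617, 2, 5⟩)))) (.node 4 (.node 2 (.node 1 (.one ⟨13861, 0, 4⟩) (.one ⟨3673, 0, 4⟩)) (.node 1 (.one ⟨8072, 0, 4⟩) (.one ⟨9766, 2, 4⟩))) (.node 2 (.node 1 (.one ⟨16071, 0, 4⟩) (.one ⟨9413, 2, 5⟩)) (.node 1 (.one ⟨1585, 2, 6⟩) (.one ⟨14685, 2, 6⟩))))) (.node 8 (.node 4 (.node 2 (.node 1 (.one ⟨11105, 2, 5⟩) (.one ⟨2168, 0, 4⟩)) (.node 1 (.one ⟨13197, 1, 5⟩) (.one ⟨8627, 0, 4⟩))) (.node 2 (.node 1 (.one ⟨4829, 2, 5⟩) (.one ⟨11986, 0, 3⟩)) (.node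 1 (.one ⟨10031, 0, 3⟩) (.one ⟨423, 0, 4⟩)))) (.node 4 (.node 2 (.node 1 (.one ⟨4178, 2, 2⟩) (.one ⟨6517, 1, 3⟩)) (.node 1 (.one ⟨8530, 2, 4⟩) (.one ⟨6156, 2, 2⟩))) (.node 2 (.node 1 (.one ⟨1624, 2, 2⟩) (.one ⟨6511, 1, 4⟩)) (.node 1 (.one ⟨7255, 2, 4⟩) (.one ⟨13925, 2, 4⟩)))))) (.node 16 (.node 8 (.node 4 (.node 2 (.node 1 (.one ⟨4266, 1, 6⟩) (.one ⟨5328, 0, 1⟩)) (.node 1 (.one ⟨6146, 2, 6⟩) (.one ⟨10053, 2, 3⟩))) (.node 2 (.node 1 (.one ⟨1157, 2, 6⟩) (.one ⟨9912, 2, 6⟩)) (.node 1 (.one ⟨3385, 0, 5⟩) (.one ⟨16633, 2, 6⟩)))) (.node 4 (.node 2 (.node 1 (.one ⟨3940, 0, 3⟩) (.one ⟨16303, 0, 4⟩)) (.node 1 (.one ⟨4027, 1, 4⟩) (.one ⟨4383, 2, 6⟩))) (.node 2 (.node 1 (.one ⟨15339, 2, 4⟩) (.one ⟨15596, 0, 4⟩)) (.node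 1 (.one ⟨4353, 2, 6⟩) (.one ⟨5104, 1, 0⟩))))) (.node 8 (.node 4 (.node 2 (.node 1 (.one ⟨5295, 1, 0⟩) (.one ⟨14264, 0, 5⟩)) (.node 1 (.one ⟨8945, 2, 6⟩) (.one ⟨500, 2, 5⟩))) (.node 2 (.node 1 (.one ⟨7044, 2, 5⟩) (.one ⟨1621, 2, 5⟩)) (.node 1 (.one ⟨6967, 2, 6⟩) (.one ⟨95, 2, 7⟩)))) (.node 4 (.node 2 (.node 1 (.one ⟨3088, 2, 5⟩) (.one ⟨4300, 2, 4⟩)) (.node 1 (.one ⟨13692, 0, 3⟩) (.one ⟨1209, 0, 4⟩))) (.node 2 (.node 1 (.one ⟨1294, 1, 1⟩) (.one ⟨6648, 1, 3⟩)) (.node 1 (.one ⟨3015, 2, 3⟩) (.one ⟨5271, 1, 0⟩)))))))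
def par9_1_11 : Arr Par :=
  (.node 32 (.node 16 (.node 8 (.node 4 (.node 2 (.node 1 (.one ⟨11407, 2, 3⟩) (.one ⟨6443, 1, 3⟩)) (.node 1 (.one ⟨16700, 2, 7⟩) (.one ⟨7725, 0, 4⟩))) (.node 2 (.node 1 (.one ⟨6320, 2, 2⟩) (.one ⟨3137, 2, 3⟩)) (.node 1 (.one ⟨3871, 2, 1⟩) (.one ⟨10371, 2, 2⟩)))) (.node 4 (.node 2 (.node 1 (.one ⟨12615, 1, 3⟩) (.one ⟨12862, 2, 4⟩)) (.node 1 (.one ⟨13453, 2, 3⟩) (.one ⟨2717, 2, 3⟩))) (.node 2 (.node 1 (.one ⟨4517, 0, 4⟩) (.one ⟨10818, 0, 4⟩)) (.node 1 (.one ⟨5203, 2, 2⟩) (.one ⟨12597, 2, 2⟩))))) (.node 8 (.node 4 (.node 2 (.node 1 (.one ⟨120, 0, 5⟩) (.one ⟨4860, 0, 3⟩)) (.node 1 (.one ⟨3227, 2, 4⟩) (.one ⟨12799, 0, 6⟩))) (.node 2 (.node 1 (.one ⟨15306, 1, 3⟩) (.one ⟨12861, 0, 6⟩))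 (.node 1 (.one ⟨4459, 2, 5⟩) (.one ⟨9958, 2, 5⟩)))) (.node 4 (.node 2 (.node 1 (.one ⟨12999, 2, 3⟩) (.one ⟨6725, 2, 3⟩)) (.node 1 (.one ⟨15624, 0, 2⟩) (.one ⟨13648, 2, 5⟩))) (.node 2 (.node 1 (.one ⟨16438, 2, 3⟩) (.one ⟨12438, 0, 2⟩)) (.node 1 (.one ⟨3877, 2, 2⟩) (.one ⟨333, 2, 4⟩)))))) (.node 16 (.node 8 (.node 4 (.node 2 (.node 1 (.one ⟨1793, 2, 4⟩) (.one ⟨5312, 2, 6⟩)) (.node 1 (.one ⟨5443, 2, 4⟩) (.one ⟨6968, 0, 5⟩))) (.node 2 (.node 1 (.one ⟨7966, 0, 5⟩) (.one ⟨4895, 0, 4⟩)) (.node 1 (.one ⟨1982, 2, 5⟩) (.one ⟨15767, 0, 5⟩)))) (.node 4 (.node 2 (.node 1 (.one ⟨2704, 1, 4⟩) (.one ⟨4939, 1, 4⟩)) (.node 1 (.one ⟨7328, 0, 4⟩) (.one ⟨13974, 1, 4⟩))) (.node 2 (.node 1 (.one ⟨5563, 2, 4⟩) (.one ⟨1818, 0, 5⟩))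 (.node 1 (.one ⟨16020, 0, 3⟩) (.one ⟨8307, 0, 5⟩))))) (.node 8 (.node 4 (.node 2 (.node 1 (.one ⟨4937, 1, 0⟩) (.one ⟨8615, 2, 3⟩)) (.node 1 (.one ⟨868, 0, 3⟩) (.one ⟨16217, 0, 5⟩))) (.node 2 (.node 1 (.one ⟨3930, 0, 5⟩) (.one ⟨2697, 2, 5⟩)) (.node 1 (.one ⟨3233, 2, 3⟩) (.one ⟨5631, 2, 5⟩)))) (.node 4 (.node 2 (.node 1 (.one ⟨7799, 2, 4⟩) (.one ⟨14876, 2, 5⟩)) (.node 1 (.one ⟨16508, 2, 4⟩) (.one ⟨16691, 0, 2⟩))) (.node 2 (.node 1 (.one ⟨11131, 2, 6⟩) (.one ⟨3879, 2, 6⟩)) (.node 1 (.one ⟨1905, 2, 1⟩) (.one ⟨11914, 0, 5⟩)))))))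
def par9_1_12 : Arr Par :=
  (.node 32 (.node 16 (.node 8 (.node 4 (.node 2 (.node 1 (.one ⟨455, 0, 3⟩) (.one ⟨16223, 0, 3⟩)) (.node 1 (.one ⟨6473, 0, 4⟩) (.one ⟨10680, 2, 3⟩))) (.node 2 (.node 1 (.one ⟨14628, 2, 5⟩) (.one ⟨8659, 2, 4⟩)) (.node 1 (.one ⟨5000, 2, 4⟩) (.one ⟨4907, 0, 0⟩)))) (.node 4 (.node 2 (.node 1 (.one ⟨10688, 2, 2⟩) (.one ⟨7890, 1, 5⟩)) (.node 1 (.one ⟨5424, 1, 0⟩) (.one ⟨5361, 0, 2⟩))) (.node 2 (.node 1 (.one ⟨7571, 0, 1⟩) (.one ⟨2393, 2, 4⟩)) (.node 1 (.one ⟨2564, 0, 1⟩) (.one ⟨8865, 0, 3⟩))))) (.node 8 (.node 4 (.node 2 (.node 1 (.one ⟨7970, 2, 4⟩) (.one ⟨6957, 0, 3⟩)) (.node 1 (.one ⟨4501, 0, 5⟩) (.one ⟨3179, 2, 5⟩))) (.node 2 (.node 1 (.one ⟨8473, 0, 2⟩) (.one ⟨3861, 0, 6⟩)) (.node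 1 (.one ⟨10245, 2, 4⟩) (.one ⟨17076, 2, 3⟩)))) (.node 4 (.node 2 (.node 1 (.one ⟨12517, 0, 3⟩) (.one ⟨1615, 2, 3⟩)) (.node 1 (.one ⟨4332, 2, 4⟩) (.one ⟨636, 0, 5⟩))) (.node 2 (.node 1 (.one ⟨4168, 2, 5⟩) (.one ⟨17153, 2, 5⟩)) (.node 1 (.one ⟨14734, 2, 6⟩) (.one ⟨2936, 0, 5⟩)))))) (.node 16 (.node 8 (.node 4 (.node 2 (.node 1 (.one ⟨4608, 0, 3⟩) (.one ⟨10465, 2, 1⟩)) (.node 1 (.one ⟨16046, 0, 3⟩) (.one ⟨11019, 2, 2⟩))) (.node 2 (.node 1 (.one ⟨15139, 2, 4⟩) (.one ⟨14863, 0, 3⟩)) (.node 1 (.one ⟨16777, 0, 4⟩) (.one ⟨2050, 1, 3⟩)))) (.node 4 (.node 2 (.node 1 (.one ⟨15831, 2, 3⟩) (.one ⟨15837, 2, 3⟩)) (.node 1 (.one ⟨15835, 2, 5⟩) (.one ⟨6229, 0, 3⟩))) (.node 2 (.node 1 (.one ⟨9434, 1, 1⟩) (.one ⟨15836, 2, 5⟩))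 (.node 1 (.one ⟨15838, 2, 3⟩) (.one ⟨16035, 0, 5⟩))))) (.node 8 (.node 4 (.node 2 (.node 1 (.one ⟨2616, 2, 5⟩) (.one ⟨12484, 2, 1⟩)) (.node 1 (.one ⟨16534, 0, 4⟩) (.one ⟨15016, 2, 5⟩))) (.node 2 (.node 1 (.one ⟨15233, 2, 6⟩) (.one ⟨848, 1, 3⟩)) (.node 1 (.one ⟨7956, 1, 5⟩) (.one ⟨1461, 0, 6⟩)))) (.node 4 (.node 2 (.node 1 (.one ⟨2515, 0, 3⟩) (.one ⟨9987, 1, 2⟩)) (.node 1 (.one ⟨12993, 0, 6⟩) (.one ⟨10823, 2, 3⟩))) (.node 2 (.node 1 (.one ⟨1728, 2, 4⟩) (.one ⟨2323, 0, 6⟩)) (.node 1 (.one ⟨1843, 0, 6⟩) (.one ⟨11068, 1, 3⟩)))))))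
def par9_1_13 : Arr Par :=
  (.node 32 (.node 16 (.node 8 (.node 4 (.node 2 (.node 1 (.one ⟨12461, 0, 6⟩) (.one ⟨10129, 0, 5⟩)) (.node 1 (.one ⟨11604, 2, 3⟩) (.one ⟨13661, 0, 5⟩))) (.node 2 (.node 1 (.one ⟨3624, 2, 3⟩) (.one ⟨6090, 0, 6⟩)) (.node 1 (.one ⟨9701, 2, 4⟩) (.one ⟨13280, 0, 4⟩)))) (.node 4 (.node 2 (.node 1 (.one ⟨330, 2, 5⟩) (.one ⟨6391, 2, 5⟩)) (.node 1 (.one ⟨16984, 0, 4⟩) (.one ⟨16546, 0, 4⟩))) (.node 2 (.node 1 (.one ⟨10703, 2, 4⟩) (.one ⟨16346, 1, 2⟩)) (.node 1 (.one ⟨12593, 0, 6⟩) (.one ⟨15691, 2, 2⟩))))) (.node 8 (.node 4 (.node 2 (.node 1 (.one ⟨8402, 0, 1⟩) (.one ⟨7296, 0, 4⟩)) (.node 1 (.one ⟨11811, 2, 4⟩) (.one ⟨313, 2, 3⟩))) (.node 2 (.node 1 (.one ⟨5202, 0, 6⟩) (.one ⟨2754, 0, 5⟩))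 (.node 1 (.one ⟨13263, 1, 2⟩) (.one ⟨11093, 0, 5⟩)))) (.node 4 (.node 2 (.node 1 (.one ⟨5670, 0, 6⟩) (.one ⟨16499, 0, 3⟩)) (.node 1 (.one ⟨2871, 2, 3⟩) (.one ⟨8077, 0, 3⟩))) (.node 2 (.node 1 (.one ⟨12421, 2, 4⟩) (.one ⟨637, 0, 6⟩)) (.node 1 (.one ⟨15125, 0, 6⟩) (.one ⟨1845, 0, 4⟩)))))) (.node 16 (.node 8 (.node 4 (.node 2 (.node 1 (.one ⟨11057, 2, 5⟩) (.one ⟨10304, 2, 2⟩)) (.node 1 (.one ⟨1271, 2, 6⟩) (.one ⟨3570, 2, 6⟩))) (.node 2 (.node 1 (.one ⟨9829, 0, 2⟩) (.one ⟨1957, 0, 3⟩)) (.node 1 (.one ⟨5328, 2, 1⟩) (.one ⟨12695, 0, 5⟩)))) (.node 4 (.node 2 (.node 1 (.one ⟨3394, 0, 3⟩) (.one ⟨10252, 2, 4⟩)) (.node 1 (.one ⟨12049, 2, 2⟩) (.one ⟨3249, 2, 4⟩))) (.node 2 (.node 1 (.one ⟨4778, 0, 5⟩) (.one ⟨16695, 2,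 3⟩)) (.node 1 (.one ⟨15160, 2, 4⟩) (.one ⟨5461, 1, 0⟩))))) (.node 8 (.node 4 (.node 2 (.node 1 (.one ⟨4977, 1, 0⟩) (.one ⟨5341, 1, 0⟩)) (.node 1 (.one ⟨5084, 1, 0⟩) (.one ⟨1616, 2, 6⟩))) (.node 2 (.node 1 (.one ⟨11026, 2, 3⟩) (.one ⟨770, 2, 5⟩)) (.node 1 (.one ⟨10987, 2, 4⟩) (.one ⟨10255, 2, 5⟩)))) (.node 4 (.node 2 (.node 1 (.one ⟨15921, 2, 5⟩) (.one ⟨11491, 2, 5⟩)) (.node 1 (.one ⟨5072, 0, 4⟩) (.one ⟨11255, 2, 5⟩))) (.node 2 (.node 1 (.one ⟨17070, 2, 6⟩) (.one ⟨9186, 2, 1⟩)) (.node 1 (.one ⟨15909, 2, 5⟩) (.one ⟨7893, 1, 2⟩)))))))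
def par9_1_14 : Arr Par :=
  (.node 32 (.node 16 (.node 8 (.node 4 (.node 2 (.node 1 (.one ⟨13343, 0, 2⟩) (.one ⟨2987, 0, 5⟩)) (.node 1 (.one ⟨13592, 1, 4⟩) (.one ⟨16801, 0, 4⟩))) (.node 2 (.node 1 (.one ⟨6210, 1, 4⟩) (.one ⟨10851, 1, 4⟩)) (.node 1 (.one ⟨14150, 2, 4⟩) (.one ⟨6026, 2, 6⟩)))) (.node 4 (.node 2 (.node 1 (.one ⟨10536, 1, 4⟩) (.one ⟨2182, 0, 5⟩)) (.node 1 (.one ⟨8313, 1, 6⟩) (.one ⟨5505, 1, 6⟩))) (.node 2 (.node 1 (.one ⟨14620, 2, 2⟩) (.one ⟨15226, 1, 4⟩)) (.node 1 (.one ⟨12746, 2, 4⟩) (.one ⟨15551, 2, 3⟩))))) (.node 8 (.node 4 (.node 2 (.node 1 (.one ⟨9404, 0, 4⟩) (.one ⟨1208, 2, 1⟩)) (.node 1 (.one ⟨5483, 2, 1⟩) (.one ⟨14599, 1, 1⟩))) (.node 2 (.node 1 (.one ⟨6340, 1, 3⟩) (.one ⟨17007, 0, 4⟩))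 (.node 1 (.one ⟨14328, 0, 3⟩) (.one ⟨12123, 2, 3⟩)))) (.node 4 (.node 2 (.node 1 (.one ⟨1721, 0, 5⟩) (.one ⟨476, 1, 3⟩)) (.node 1 (.one ⟨5216, 0, 5⟩) (.one ⟨13150, 0, 5⟩))) (.node 2 (.node 1 (.one ⟨2169, 0, 5⟩) (.one ⟨9773, 0, 3⟩)) (.node 1 (.one ⟨12122, 2, 4⟩) (.one ⟨6329, 2, 2⟩)))))) (.node 16 (.node 8 (.node 4 (.node 2 (.node 1 (.one ⟨16606, 0, 2⟩) (.one ⟨12732, 2, 5⟩)) (.node 1 (.one ⟨8599, 2, 3⟩) (.one ⟨5482, 2, 2⟩))) (.node 2 (.node 1 (.one ⟨17020, 2, 2⟩) (.one ⟨6369, 1, 2⟩)) (.node 1 (.one ⟨9524, 0, 2⟩) (.one ⟨17118, 0, 4⟩)))) (.node 4 (.node 2 (.node 1 (.one ⟨5518, 2, 6⟩) (.one ⟨4918, 0, 4⟩)) (.node 1 (.one ⟨14249, 2, 4⟩) (.one ⟨5959, 2, 1⟩))) (.node 2 (.node 1 (.one ⟨14327, 0, 3⟩) (.one ⟨13431, 2,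 3⟩)) (.node 1 (.one ⟨9831, 2, 4⟩) (.one ⟨7941, 2, 4⟩))))) (.node 8 (.node 4 (.node 2 (.node 1 (.one ⟨4757, 0, 3⟩) (.one ⟨8186, 0, 4⟩)) (.node 1 (.one ⟨1603, 1, 4⟩) (.one ⟨15976, 2, 4⟩))) (.node 2 (.node 1 (.one ⟨5692, 2, 5⟩) (.one ⟨9735, 0, 3⟩)) (.node 1 (.one ⟨12262, 1, 4⟩) (.one ⟨2843, 0, 4⟩)))) (.node 4 (.node 2 (.node 1 (.one ⟨16272, 0, 4⟩) (.one ⟨10921, 0, 5⟩)) (.node 1 (.one ⟨8233, 0, 2⟩) (.one ⟨1280, 2, 5⟩))) (.node 2 (.node 1 (.one ⟨9317, 0, 4⟩) (.one ⟨2613, 1, 4⟩)) (.node 1 (.one ⟨356, 0, 4⟩) (.one ⟨2239, 1, 2⟩)))))))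
def par9_1_15 : Arr Par :=
  (.node 32 (.node 16 (.node 8 (.node 4 (.node 2 (.node 1 (.one ⟨4629, 2, 4⟩) (.one ⟨3624, 1, 3⟩)) (.node 1 (.one ⟨8106, 2, 4⟩) (.one ⟨3137, 1, 3⟩))) (.node 2 (.node 1 (.one ⟨15957, 0, 5⟩) (.one ⟨8231, 0, 5⟩)) (.node 1 (.one ⟨11632, 0, 4⟩) (.one ⟨14632, 2, 4⟩)))) (.node 4 (.node 2 (.node 1 (.one ⟨2431, 0, 3⟩) (.one ⟨16148, 2, 4⟩)) (.node 1 (.one ⟨5196, 1, 3⟩) (.one ⟨1985, 1, 4⟩))) (.node 2 (.node 1 (.one ⟨14636, 2, 6⟩) (.one ⟨5299, 1, 2⟩)) (.node 1 (.one ⟨13857, 0, 6⟩) (.one ⟨12657, 0, 4⟩))))) (.node 8 (.node 4 (.node 2 (.node 1 (.one ⟨637, 2, 6⟩) (.one ⟨15123, 2, 4⟩)) (.node 1 (.one ⟨11087, 2, 5⟩) (.one ⟨3849, 2, 6⟩))) (.node 2 (.node 1 (.one ⟨8078, 2, 6⟩) (.one ⟨2963, 1, 1⟩)) (.node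 1 (.one ⟨16498, 2, 3⟩) (.one ⟨13753, 2, 6⟩)))) (.node 4 (.node 2 (.node 1 (.one ⟨10955, 2, 4⟩) (.one ⟨13869, 1, 4⟩)) (.node 1 (.one ⟨5438, 0, 3⟩) (.one ⟨8170, 1, 4⟩))) (.node 2 (.node 1 (.one ⟨4904, 0, 5⟩) (.one ⟨10506, 1, 4⟩)) (.node 1 (.one ⟨6243, 1, 4⟩) (.one ⟨13019, 2, 3⟩)))))) (.node 16 (.node 8 (.node 4 (.node 2 (.node 1 (.one ⟨11495, 2, 5⟩) (.one ⟨16387, 1, 5⟩)) (.node 1 (.one ⟨9774, 1, 3⟩) (.one ⟨12230, 1, 3⟩))) (.node 2 (.node 1 (.one ⟨13651, 1, 5⟩) (.one ⟨10221, 0, 3⟩)) (.node 1 (.one ⟨8283, 1, 4⟩) (.one ⟨2881, 2, 2⟩)))) (.node 4 (.node 2 (.node 1 (.one ⟨4200, 0, 4⟩) (.one ⟨1173, 0, 4⟩)) (.node 1 (.one ⟨2919, 2, 5⟩) (.one ⟨12421, 0, 4⟩))) (.node 2 (.node 1 (.one ⟨9752, 0, 4⟩) (.one ⟨15801, 2, 4⟩))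 (.node 1 (.one ⟨16252, 1, 5⟩) (.one ⟨7508, 2, 4⟩))))) (.node 8 (.node 4 (.node 2 (.node 1 (.one ⟨9647, 1, 3⟩) (.one ⟨3909, 2, 5⟩)) (.node 1 (.one ⟨9379, 0, 1⟩) (.one ⟨16686, 2, 5⟩))) (.node 2 (.node 1 (.one ⟨4323, 2, 4⟩) (.one ⟨1558, 0, 1⟩)) (.node 1 (.one ⟨7307, 2, 7⟩) (.one ⟨1208, 1, 1⟩)))) (.node 4 (.node 2 (.node 1 (.one ⟨13642, 2, 5⟩) (.one ⟨13628, 2, 7⟩)) (.node 1 (.one ⟨15409, 2, 6⟩) (.one ⟨1191, 2, 7⟩))) (.node 2 (.node 1 (.one ⟨3308, 2, 6⟩) (.one ⟨9306, 1, 1⟩)) (.node 1 (.one ⟨830, 2, 4⟩) (.one ⟨16502, 2, 2⟩)))))))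
def par9_1 : Arr Par :=
  (.node 512 (.node 256 (.node 128 (.node 64 par9_1_0 par9_1_1) (.node 64 par9_1_2 par9_1_3)) (.node 128 (.node 64 par9_1_4 par9_1_5) (.node 64 par9_1_6 par9_1_7))) (.node 256 (.node 128 (.node 64 par9_1_8 par9_1_9) (.node 64 par9_1_10 par9_1_11)) (.node 128 (.node 64 par9_1_12 par9_1_13) (.node 64 par9_1_14 par9_1_15))))
def par9_2_0 : Arr Par :=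
  (.node 32 (.node 16 (.node 8 (.node 4 (.node 2 (.node 1 (.one ⟨34, 2, 5⟩) (.one ⟨13186, 2, 6⟩)) (.node 1 (.one ⟨6941, 1, 2⟩) (.one ⟨7488, 0, 4⟩))) (.node 2 (.node 1 (.one ⟨5976, 2, 4⟩) (.one ⟨17071, 2, 4⟩)) (.node 1 (.one ⟨10012, 1, 6⟩) (.one ⟨2159, 2, 3⟩)))) (.node 4 (.node 2 (.node 1 (.one ⟨9752, 2, 4⟩) (.one ⟨1894, 0, 2⟩)) (.node 1 (.one ⟨2061, 2, 3⟩) (.one ⟨12312, 0, 4⟩))) (.node 2 (.node 1 (.one ⟨2453, 1, 3⟩) (.one ⟨10174, 2, 2⟩)) (.node 1 (.one ⟨1620, 2, 5⟩) (.one ⟨8820, 1, 3⟩))))) (.node 8 (.node 4 (.node 2 (.node 1 (.one ⟨7980, 1, 2⟩) (.one ⟨2203, 1, 4⟩)) (.node 1 (.one ⟨2934, 2, 5⟩) (.one ⟨15029, 1, 5⟩))) (.node 2 (.node 1 (.one ⟨1855, 2, 4⟩) (.one ⟨3534, 2, 6⟩)) (.node 1 (.one ⟨13518, 2, 3⟩) (.one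 ⟨8479, 2, 2⟩)))) (.node 4 (.node 2 (.node 1 (.one ⟨9950, 2, 5⟩) (.one ⟨10011, 2, 2⟩)) (.node 1 (.one ⟨9164, 0, 6⟩) (.one ⟨7545, 2, 6⟩))) (.node 2 (.node 1 (.one ⟨11974, 2, 5⟩) (.one ⟨11079, 0, 3⟩)) (.node 1 (.one ⟨6846, 0, 6⟩) (.one ⟨9442, 2, 4⟩)))))) (.node 16 (.node 8 (.node 4 (.node 2 (.node 1 (.one ⟨6600, 1, 4⟩) (.one ⟨12467, 0, 4⟩)) (.node 1 (.one ⟨11328, 0, 6⟩) (.one ⟨278, 1, 4⟩))) (.node 2 (.node 1 (.one ⟨12360, 2, 4⟩) (.one ⟨10079, 2, 4⟩)) (.node 1 (.one ⟨1160, 2, 4⟩) (.one ⟨12181, 1, 2⟩)))) (.node 4 (.node 2 (.node 1 (.one ⟨3355, 0, 2⟩) (.one ⟨1436, 2, 5⟩)) (.node 1 (.one ⟨2564, 1, 1⟩) (.one ⟨5929, 2, 3⟩))) (.node 2 (.node 1 (.one ⟨11196, 2, 6⟩) (.one ⟨15614, 2, 5⟩)) (.node 1 (.one ⟨2557, 0, 4⟩) (.one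 ⟨9767, 1, 4⟩))))) (.node 8 (.node 4 (.node 2 (.node 1 (.one ⟨9575, 2, 4⟩) (.one ⟨13489, 0, 5⟩)) (.node 1 (.one ⟨10138, 0, 3⟩) (.one ⟨5080, 1, 0⟩))) (.node 2 (.node 1 (.one ⟨4233, 1, 4⟩) (.one ⟨8257, 0, 4⟩)) (.node 1 (.one ⟨6909, 0, 5⟩) (.one ⟨5055, 1, 0⟩)))) (.node 4 (.node 2 (.node 1 (.one ⟨4989, 1, 0⟩) (.one ⟨9719, 2, 4⟩)) (.node 1 (.one ⟨5709, 2, 5⟩) (.one ⟨1618, 2, 5⟩))) (.node 2 (.node 1 (.one ⟨13845, 2, 5⟩) (.one ⟨13937, 2, 6⟩)) (.node 1 (.one ⟨966, 2, 5⟩) (.one ⟨2463, 1, 3⟩)))))))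
def par9_2_1 : Arr Par :=
  (.node 32 (.node 16 (.node 8 (.node 4 (.node 2 (.node 1 (.one ⟨7060, 1, 2⟩) (.one ⟨12714, 0, 3⟩)) (.node 1 (.one ⟨15012, 2, 3⟩) (.one ⟨10011, 1, 2⟩))) (.node 2 (.node 1 (.one ⟨6965, 2, 5⟩) (.one ⟨14792, 0, 5⟩)) (.node 1 (.one ⟨859, 2, 5⟩) (.one ⟨10404, 2, 4⟩)))) (.node 4 (.node 2 (.node 1 (.one ⟨4032, 2, 4⟩) (.one ⟨8065, 2, 5⟩)) (.node 1 (.one ⟨16877, 0, 4⟩) (.one ⟨12981, 2, 4⟩))) (.node 2 (.node 1 (.one ⟨3104, 2, 4⟩) (.one ⟨7385, 2, 4⟩)) (.node 1 (.one ⟨16860, 2, 3⟩) (.one ⟨8767, 2, 6⟩))))) (.node 8 (.node 4 (.node 2 (.node 1 (.one ⟨11331, 0, 5⟩) (.one ⟨8780, 1, 6⟩)) (.node 1 (.one ⟨13113, 0, 4⟩) (.one ⟨5354, 2, 4⟩))) (.node 2 (.node 1 (.one ⟨8695, 2, 6⟩) (.one ⟨12037, 1, 6⟩)) (.node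 1 (.one ⟨11836, 0, 4⟩) (.one ⟨9311, 0, 2⟩)))) (.node 4 (.node 2 (.node 1 (.one ⟨15288, 0, 5⟩) (.one ⟨1520, 0, 2⟩)) (.node 1 (.one ⟨7288, 0, 2⟩) (.one ⟨5236, 2, 5⟩))) (.node 2 (.node 1 (.one ⟨68, 0, 1⟩) (.one ⟨13972, 1, 3⟩)) (.node 1 (.one ⟨9359, 0, 2⟩) (.one ⟨5458, 0, 2⟩)))))) (.node 16 (.node 8 (.node 4 (.node 2 (.node 1 (.one ⟨14473, 2, 4⟩) (.one ⟨5456, 0, 4⟩)) (.node 1 (.one ⟨7147, 2, 4⟩) (.one ⟨5462, 0, 6⟩))) (.node 2 (.node 1 (.one ⟨7339, 2, 4⟩) (.one ⟨5460, 0, 2⟩)) (.node 1 (.one ⟨14445, 2, 5⟩) (.one ⟨5025, 2, 4⟩)))) (.node 4 (.node 2 (.node 1 (.one ⟨13647, 2, 3⟩) (.one ⟨3123, 2, 2⟩)) (.node 1 (.one ⟨3963, 0, 2⟩) (.one ⟨6176, 1, 3⟩))) (.node 2 (.node 1 (.one ⟨5616, 2, 5⟩) (.one ⟨7289, 0, 6⟩)) (.node 1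 (.one ⟨8291, 2, 4⟩) (.one ⟨918, 2, 2⟩))))) (.node 8 (.node 4 (.node 2 (.node 1 (.one ⟨3028, 0, 5⟩) (.one ⟨5433, 0, 4⟩)) (.node 1 (.one ⟨17093, 0, 4⟩) (.one ⟨1368, 0, 5⟩))) (.node 2 (.node 1 (.one ⟨8060, 2, 5⟩) (.one ⟨16209, 0, 5⟩)) (.node 1 (.one ⟨10171, 2, 4⟩) (.one ⟨2168, 2, 4⟩)))) (.node 4 (.node 2 (.node 1 (.one ⟨6650, 1, 3⟩) (.one ⟨10082, 2, 4⟩)) (.node 1 (.one ⟨6674, 0, 4⟩) (.one ⟨16787, 1, 4⟩))) (.node 2 (.node 1 (.one ⟨11888, 1, 4⟩) (.one ⟨14139, 2, 4⟩)) (.node 1 (.one ⟨6161, 1, 4⟩) (.one ⟨16298, 1, 2⟩)))))))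
def par9_2_2 : Arr Par :=
  (.node 32 (.node 16 (.node 8 (.node 4 (.node 2 (.node 1 (.one ⟨16509, 1, 5⟩) (.one ⟨15332, 0, 4⟩)) (.node 1 (.one ⟨9809, 2, 5⟩) (.one ⟨7343, 0, 3⟩))) (.node 2 (.node 1 (.one ⟨7214, 0, 4⟩) (.one ⟨4855, 1, 5⟩)) (.node 1 (.one ⟨10032, 0, 4⟩) (.one ⟨6079, 0, 4⟩)))) (.node 4 (.node 2 (.node 1 (.one ⟨16756, 2, 6⟩) (.one ⟨8700, 2, 5⟩)) (.node 1 (.one ⟨5148, 1, 0⟩) (.one ⟨16809, 2, 6⟩))) (.node 2 (.node 1 (.one ⟨1227, 2, 5⟩) (.one ⟨9269, 2, 3⟩)) (.node 1 (.one ⟨8738, 2, 5⟩) (.one ⟨9807, 0, 5⟩))))) (.node 8 (.node 4 (.node 2 (.node 1 (.one ⟨16305, 0, 3⟩) (.one ⟨16587, 1, 4⟩)) (.node 1 (.one ⟨7665, 0, 3⟩) (.one ⟨16527, 2, 5⟩))) (.node 2 (.node 1 (.one ⟨14095, 0, 3⟩) (.one ⟨3801, 0, 2⟩)) (.node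 1 (.one ⟨8827, 2, 4⟩) (.one ⟨9338, 0, 3⟩)))) (.node 4 (.node 2 (.node 1 (.one ⟨600, 0, 3⟩) (.one ⟨16340, 2, 4⟩)) (.node 1 (.one ⟨12501, 2, 4⟩) (.one ⟨1338, 0, 3⟩))) (.node 2 (.node 1 (.one ⟨5707, 2, 5⟩) (.one ⟨11155, 2, 6⟩)) (.node 1 (.one ⟨15014, 2, 6⟩) (.one ⟨7874, 0, 3⟩)))))) (.node 16 (.node 8 (.node 4 (.node 2 (.node 1 (.one ⟨7543, 2, 2⟩) (.one ⟨502, 0, 3⟩)) (.node 1 (.one ⟨5244, 1, 5⟩) (.one ⟨12725, 0, 3⟩))) (.node 2 (.node 1 (.one ⟨4342, 1, 6⟩) (.one ⟨14914, 0, 6⟩)) (.node 1 (.one ⟨10483, 2, 2⟩) (.one ⟨4844, 0, 0⟩)))) (.node 4 (.node 2 (.node 1 (.one ⟨5214, 1, 0⟩) (.one ⟨1663, 1, 3⟩)) (.node 1 (.one ⟨6095, 2, 3⟩) (.one ⟨11437, 0, 4⟩))) (.node 2 (.node 1 (.one ⟨3119, 2, 3⟩) (.one ⟨3843, 2, 2⟩)) (.node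 1 (.one ⟨12046, 0, 3⟩) (.one ⟨2914, 2, 7⟩))))) (.node 8 (.node 4 (.node 2 (.node 1 (.one ⟨2836, 0, 2⟩) (.one ⟨4841, 1, 0⟩)) (.node 1 (.one ⟨7509, 2, 2⟩) (.one ⟨2661, 2, 1⟩))) (.node 2 (.node 1 (.one ⟨14327, 2, 3⟩) (.one ⟨9502, 2, 1⟩)) (.node 1 (.one ⟨1252, 0, 4⟩) (.one ⟨1704, 2, 4⟩)))) (.node 4 (.node 2 (.node 1 (.one ⟨10648, 0, 5⟩) (.one ⟨1164, 0, 4⟩)) (.node 1 (.one ⟨13772, 2, 3⟩) (.one ⟨1382, 1, 1⟩))) (.node 2 (.node 1 (.one ⟨7253, 0, 2⟩) (.one ⟨14982, 0, 5⟩)) (.node 1 (.one ⟨209, 0, 4⟩) (.one ⟨14040, 1, 1⟩)))))))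
def par9_2_3 : Arr Par :=
  (.node 32 (.node 16 (.node 8 (.node 4 (.node 2 (.node 1 (.one ⟨3430, 0, 3⟩) (.one ⟨6924, 2, 4⟩)) (.node 1 (.one ⟨12035, 1, 6⟩) (.one ⟨11560, 2, 4⟩))) (.node 2 (.node 1 (.one ⟨6086, 0, 3⟩) (.one ⟨3959, 2, 2⟩)) (.node 1 (.one ⟨10573, 2, 3⟩) (.one ⟨13367, 1, 2⟩)))) (.node 4 (.node 2 (.node 1 (.one ⟨4414, 2, 6⟩) (.one ⟨11971, 0, 3⟩)) (.node 1 (.one ⟨3922, 2, 5⟩) (.one ⟨2789, 1, 2⟩))) (.node 2 (.node 1 (.one ⟨13296, 2, 2⟩) (.one ⟨11973, 0, 3⟩)) (.node 1 (.one ⟨8061, 0, 5⟩) (.one ⟨4955, 0, 6⟩))))) (.node 8 (.node 4 (.node 2 (.node 1 (.one ⟨1973, 2, 4⟩) (.one ⟨577, 2, 3⟩)) (.node 1 (.one ⟨9305, 2, 3⟩) (.one ⟨9491, 2, 5⟩))) (.node 2 (.node 1 (.one ⟨1367, 2, 4⟩) (.one ⟨2047, 2, 3⟩)) (.node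 1 (.one ⟨10131, 2, 5⟩) (.one ⟨7098, 2, 5⟩)))) (.node 4 (.node 2 (.node 1 (.one ⟨2855, 2, 5⟩) (.one ⟨5641, 2, 5⟩)) (.node 1 (.one ⟨2442, 2, 5⟩) (.one ⟨14197, 1, 2⟩))) (.node 2 (.node 1 (.one ⟨9220, 0, 6⟩) (.one ⟨15372, 1, 2⟩)) (.node 1 (.one ⟨3232, 2, 5⟩) (.one ⟨13387, 2, 5⟩)))))) (.node 16 (.node 8 (.node 4 (.node 2 (.node 1 (.one ⟨266, 2, 5⟩) (.one ⟨15108, 2, 5⟩)) (.node 1 (.one ⟨10176, 0, 4⟩) (.one ⟨16779, 0, 6⟩))) (.node 2 (.node 1 (.one ⟨12073, 1, 6⟩) (.one ⟨17135, 0, 5⟩)) (.node 1 (.one ⟨2747, 2, 7⟩) (.one ⟨15607, 2, 4⟩)))) (.node 4 (.node 2 (.node 1 (.one ⟨5033, 2, 3⟩) (.one ⟨16055, 2, 3⟩)) (.node 1 (.one ⟨2659, 2, 3⟩) (.one ⟨4901, 2, 6⟩))) (.node 2 (.node 1 (.one ⟨15477, 2, 5⟩) (.one ⟨5473, 1, 0⟩)) (.node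 1 (.one ⟨15667, 2, 4⟩) (.one ⟨2365, 1, 3⟩))))) (.node 8 (.node 4 (.node 2 (.node 1 (.one ⟨3745, 0, 4⟩) (.one ⟨2158, 2, 5⟩)) (.node 1 (.one ⟨4271, 2, 3⟩) (.one ⟨4277, 2, 3⟩))) (.node 2 (.node 1 (.one ⟨2153, 2, 3⟩) (.one ⟨4278, 2, 4⟩)) (.node 1 (.one ⟨4687, 0, 2⟩) (.one ⟨1296, 2, 2⟩)))) (.node 4 (.node 2 (.node 1 (.one ⟨15735, 2, 4⟩) (.one ⟨7350, 1, 4⟩)) (.node 1 (.one ⟨9029, 0, 5⟩) (.one ⟨1826, 2, 4⟩))) (.node 2 (.node 1 (.one ⟨15840, 2, 2⟩) (.one ⟨15360, 2, 2⟩)) (.node 1 (.one ⟨5039, 2, 4⟩) (.one ⟨4044, 2, 6⟩)))))))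
def par9_2_4 : Arr Par :=
  (.node 32 (.node 16 (.node 8 (.node 4 (.node 2 (.node 1 (.one ⟨1215, 2, 5⟩) (.one ⟨14499, 2, 3⟩)) (.node 1 (.one ⟨4497, 0, 5⟩) (.one ⟨6689, 2, 3⟩))) (.node 2 (.node 1 (.one ⟨13868, 0, 3⟩) (.one ⟨12753, 2, 4⟩)) (.node 1 (.one ⟨11367, 2, 4⟩) (.one ⟨1647, 1, 4⟩)))) (.node 4 (.node 2 (.node 1 (.one ⟨3566, 0, 1⟩) (.one ⟨7927, 2, 4⟩)) (.node 1 (.one ⟨11393, 0, 5⟩) (.one ⟨12761, 0, 5⟩))) (.node 2 (.node 1 (.one ⟨10733, 1, 3⟩) (.one ⟨3846, 2, 4⟩)) (.node 1 (.one ⟨5521, 0, 5⟩) (.one ⟨5519, 0, 5⟩))))) (.node 8 (.node 4 (.node 2 (.node 1 (.one ⟨5620, 2, 6⟩) (.one ⟨1951, 0, 3⟩)) (.node 1 (.one ⟨16691, 1, 2⟩) (.one ⟨16571, 2, 5⟩))) (.node 2 (.node 1 (.one ⟨5361, 1, 2⟩) (.one ⟨2510, 2, 2⟩)) (.node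 1 (.one ⟨16118, 2, 2⟩) (.one ⟨9256, 2, 4⟩)))) (.node 4 (.node 2 (.node 1 (.one ⟨9373, 0, 2⟩) (.one ⟨9486, 0, 2⟩)) (.node 1 (.one ⟨13609, 0, 5⟩) (.one ⟨1532, 0, 2⟩))) (.node 2 (.node 1 (.one ⟨5528, 0, 4⟩) (.one ⟨5522, 0, 2⟩)) (.node 1 (.one ⟨1501, 0, 2⟩) (.one ⟨155, 0, 4⟩)))))) (.node 16 (.node 8 (.node 4 (.node 2 (.node 1 (.one ⟨11385, 2, 3⟩) (.one ⟨10882, 2, 3⟩)) (.node 1 (.one ⟨4793, 2, 4⟩) (.one ⟨8303, 0, 5⟩))) (.node 2 (.node 1 (.one ⟨6083, 0, 3⟩) (.one ⟨16272, 2, 4⟩)) (.node 1 (.one ⟨6379, 2, 3⟩) (.one ⟨692, 2, 6⟩)))) (.node 4 (.node 2 (.node 1 (.one ⟨15125, 2, 6⟩) (.one ⟨4525, 0, 5⟩)) (.node 1 (.one ⟨3492, 0, 5⟩) (.one ⟨4553, 0, 6⟩))) (.node 2 (.node 1 (.one ⟨416, 0, 5⟩) (.one ⟨4052, 1, 3⟩)) (.node 1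 (.one ⟨1565, 0, 5⟩) (.one ⟨12270, 2, 5⟩))))) (.node 8 (.node 4 (.node 2 (.node 1 (.one ⟨14207, 1, 3⟩) (.one ⟨9156, 2, 7⟩)) (.node 1 (.one ⟨15011, 2, 3⟩) (.one ⟨1449, 1, 2⟩))) (.node 2 (.node 1 (.one ⟨6207, 1, 2⟩) (.one ⟨6500, 0, 3⟩)) (.node 1 (.one ⟨956, 2, 3⟩) (.one ⟨9067, 0, 4⟩)))) (.node 4 (.node 2 (.node 1 (.one ⟨11421, 2, 4⟩) (.one ⟨9070, 0, 2⟩)) (.node 1 (.one ⟨2340, 2, 4⟩) (.one ⟨9068, 0, 5⟩))) (.node 2 (.node 1 (.one ⟨12946, 0, 4⟩) (.one ⟨9069, 0, 2⟩)) (.node 1 (.one ⟨14441, 2, 4⟩) (.one ⟨6385, 1, 2⟩)))))))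
def par9_2_5 : Arr Par :=
  (.node 32 (.node 16 (.node 8 (.node 4 (.node 2 (.node 1 (.one ⟨4184, 0, 3⟩) (.one ⟨2407, 2, 5⟩)) (.node 1 (.one ⟨12090, 0, 5⟩) (.one ⟨14463, 1, 2⟩))) (.node 2 (.node 1 (.one ⟨3523, 2, 3⟩) (.one ⟨14460, 1, 2⟩)) (.node 1 (.one ⟨7433, 0, 4⟩) (.one ⟨2137, 0, 3⟩)))) (.node 4 (.node 2 (.node 1 (.one ⟨14208, 2, 5⟩) (.one ⟨10295, 0, 3⟩)) (.node 1 (.one ⟨15936, 0, 3⟩) (.one ⟨3812, 2, 4⟩))) (.node 2 (.node 1 (.one ⟨16398, 0, 4⟩) (.one ⟨2679, 0, 2⟩)) (.node 1 (.one ⟨4214, 2, 4⟩) (.one ⟨12677, 2, 4⟩))))) (.node 8 (.node 4 (.node 2 (.node 1 (.one ⟨5943, 1, 1⟩) (.one ⟨6735, 2, 3⟩)) (.node 1 (.one ⟨4837, 1, 0⟩) (.one ⟨3897, 2, 1⟩))) (.node 2 (.node 1 (.one ⟨5672, 0, 4⟩) (.one ⟨10141, 0, 3⟩)) (.node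 1 (.one ⟨8906, 2, 4⟩) (.one ⟨9457, 2, 3⟩)))) (.node 4 (.node 2 (.node 1 (.one ⟨12334, 2, 6⟩) (.one ⟨1303, 2, 3⟩)) (.node 1 (.one ⟨4253, 2, 5⟩) (.one ⟨74, 2, 1⟩))) (.node 2 (.node 1 (.one ⟨4189, 2, 4⟩) (.one ⟨10688, 1, 2⟩)) (.node 1 (.one ⟨12268, 2, 5⟩) (.one ⟨10761, 0, 1⟩)))))) (.node 16 (.node 8 (.node 4 (.node 2 (.node 1 (.one ⟨10760, 0, 1⟩) (.one ⟨6856, 2, 3⟩)) (.node 1 (.one ⟨1900, 2, 6⟩) (.one ⟨10759, 0, 1⟩))) (.node 2 (.node 1 (.one ⟨10762, 0, 1⟩) (.one ⟨11139, 2, 6⟩)) (.node 1 (.one ⟨14149, 2, 3⟩) (.one ⟨8613, 0, 4⟩)))) (.node 4 (.node 2 (.node 1 (.one ⟨14880, 2, 4⟩) (.one ⟨8140, 0, 4⟩)) (.node 1 (.one ⟨4380, 0, 6⟩) (.one ⟨123, 0, 3⟩))) (.node 2 (.node 1 (.one ⟨12471, 2, 4⟩) (.one ⟨198, 2, 4⟩)) (.node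 1 (.one ⟨16609, 2, 5⟩) (.one ⟨14740, 2, 6⟩))))) (.node 8 (.node 4 (.node 2 (.node 1 (.one ⟨17055, 2, 7⟩) (.one ⟨17061, 2, 2⟩)) (.node 1 (.one ⟨14738, 2, 4⟩) (.one ⟨14742, 2, 6⟩))) (.node 2 (.node 1 (.one ⟨17057, 2, 4⟩) (.one ⟨17059, 2, 6⟩)) (.node 1 (.one ⟨14736, 2, 3⟩) (.one ⟨7426, 2, 4⟩)))) (.node 4 (.node 2 (.node 1 (.one ⟨4391, 0, 6⟩) (.one ⟨4524, 2, 4⟩)) (.node 1 (.one ⟨11092, 0, 6⟩) (.one ⟨12246, 2, 5⟩))) (.node 2 (.node 1 (.one ⟨11114, 2, 5⟩) (.one ⟨13306, 0, 6⟩)) (.node 1 (.one ⟨4888, 0, 4⟩) (.one ⟨1872, 2, 2⟩)))))))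
def par9_2_6 : Arr Par :=
  (.node 32 (.node 16 (.node 8 (.node 4 (.node 2 (.node 1 (.one ⟨9055, 2, 3⟩) (.one ⟨4185, 2, 4⟩)) (.node 1 (.one ⟨6857, 2, 1⟩) (.one ⟨8834, 2, 3⟩))) (.node 2 (.node 1 (.one ⟨1522, 2, 4⟩) (.one ⟨14919, 0, 4⟩)) (.node 1 (.one ⟨3896, 2, 3⟩) (.one ⟨5992, 2, 5⟩)))) (.node 4 (.node 2 (.node 1 (.one ⟨2495, 2, 3⟩) (.one ⟨16932, 2, 5⟩)) (.node 1 (.one ⟨12683, 2, 4⟩) (.one ⟨8460, 2, 4⟩))) (.node 2 (.node 1 (.one ⟨819, 0, 4⟩) (.one ⟨14567, 2, 4⟩)) (.node 1 (.one ⟨10775, 0, 5⟩) (.one ⟨2135, 0, 3⟩))))) (.node 8 (.node 4 (.node 2 (.node 1 (.one ⟨14927, 2, 3⟩) (.one ⟨6538, 2, 4⟩)) (.node 1 (.one ⟨3901, 2, 2⟩) (.one ⟨17098, 2, 5⟩))) (.node 2 (.node 1 (.one ⟨11261, 2, 6⟩) (.one ⟨8352, 1, 2⟩)) (.node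 1 (.one ⟨12303, 0, 3⟩) (.one ⟨755, 0, 3⟩)))) (.node 4 (.node 2 (.node 1 (.one ⟨4454, 0, 4⟩) (.one ⟨15510, 1, 3⟩)) (.node 1 (.one ⟨8310, 0, 2⟩) (.one ⟨4111, 2, 3⟩))) (.node 2 (.node 1 (.one ⟨4118, 2, 4⟩) (.one ⟨12498, 0, 2⟩)) (.node 1 (.one ⟨15765, 1, 5⟩) (.one ⟨6849, 0, 2⟩)))))) (.node 16 (.node 8 (.node 4 (.node 2 (.node 1 (.one ⟨1006, 0, 4⟩) (.one ⟨7929, 0, 3⟩)) (.node 1 (.one ⟨13713, 2, 5⟩) (.one ⟨3812, 1, 4⟩))) (.node 2 (.node 1 (.one ⟨2686, 0, 2⟩) (.one ⟨1875, 2, 4⟩)) (.node 1 (.one ⟨9836, 2, 4⟩) (.one ⟨16649, 1, 2⟩)))) (.node 4 (.node 2 (.node 1 (.one ⟨4009, 1, 4⟩) (.one ⟨615, 0, 5⟩)) (.node 1 (.one ⟨12476, 2, 4⟩) (.one ⟨12281, 2, 4⟩))) (.node 2 (.node 1 (.one ⟨9208, 2, 5⟩) (.one ⟨15013, 2, 4⟩)) (.node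 1 (.one ⟨16869, 2, 3⟩) (.one ⟨8137, 2, 5⟩))))) (.node 8 (.node 4 (.node 2 (.node 1 (.one ⟨769, 0, 4⟩) (.one ⟨12024, 2, 4⟩)) (.node 1 (.one ⟨1016, 0, 4⟩) (.one ⟨16855, 2, 3⟩))) (.node 2 (.node 1 (.one ⟨313, 0, 3⟩) (.one ⟨138, 0, 5⟩)) (.node 1 (.one ⟨7308, 2, 5⟩) (.one ⟨11600, 0, 4⟩)))) (.node 4 (.node 2 (.node 1 (.one ⟨7436, 2, 3⟩) (.one ⟨11663, 2, 5⟩)) (.node 1 (.one ⟨6329, 1, 2⟩) (.one ⟨4952, 1, 5⟩))) (.node 2 (.node 1 (.one ⟨1563, 2, 1⟩) (.one ⟨10515, 0, 5⟩)) (.node 1 (.one ⟨12245, 0, 3⟩) (.one ⟨14611, 1, 2⟩)))))))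
def par9_2_7 : Arr Par :=
  (.node 32 (.node 16 (.node 8 (.node 4 (.node 2 (.node 1 (.one ⟨7973, 2, 3⟩) (.one ⟨186, 2, 5⟩)) (.node 1 (.one ⟨15174, 1, 2⟩) (.one ⟨5783, 1, 2⟩))) (.node 2 (.node 1 (.one ⟨17083, 0, 3⟩) (.one ⟨15007, 2, 3⟩)) (.node 1 (.one ⟨16967, 2, 5⟩) (.one ⟨841, 0, 5⟩)))) (.node 4 (.node 2 (.node 1 (.one ⟨7633, 2, 6⟩) (.one ⟨13969, 2, 3⟩)) (.node 1 (.one ⟨4754, 2, 5⟩) (.one ⟨10894, 2, 6⟩))) (.node 2 (.node 1 (.one ⟨12827, 0, 5⟩) (.one ⟨1693, 0, 5⟩)) (.node 1 (.one ⟨4549, 2, 1⟩) (.one ⟨5245, 0, 1⟩))))) (.node 8 (.node 4 (.node 2 (.node 1 (.one ⟨3981, 1, 2⟩) (.one ⟨12969, 1, 4⟩)) (.node 1 (.one ⟨12042, 0, 3⟩) (.one ⟨4505, 0, 2⟩))) (.node 2 (.node 1 (.one ⟨9998, 2, 2⟩) (.one ⟨16141, 2, 3⟩)) (.node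 1 (.one ⟨9402, 1, 6⟩) (.one ⟨3171, 0, 4⟩)))) (.node 4 (.node 2 (.node 1 (.one ⟨5211, 2, 4⟩) (.one ⟨8884, 0, 2⟩)) (.node 1 (.one ⟨15508, 0, 3⟩) (.one ⟨13710, 0, 4⟩))) (.node 2 (.node 1 (.one ⟨7654, 0, 3⟩) (.one ⟨11676, 0, 3⟩)) (.node 1 (.one ⟨1726, 0, 4⟩) (.one ⟨12061, 1, 2⟩)))))) (.node 16 (.node 8 (.node 4 (.node 2 (.node 1 (.one ⟨12060, 1, 2⟩) (.one ⟨1219, 0, 6⟩)) (.node 1 (.one ⟨16981, 0, 5⟩) (.one ⟨7596, 2, 5⟩))) (.node 2 (.node 1 (.one ⟨14508, 2, 3⟩) (.one ⟨7658, 0, 3⟩)) (.node 1 (.one ⟨7620, 2, 4⟩) (.one ⟨6682, 2, 5⟩)))) (.node 4 (.node 2 (.node 1 (.one ⟨10545, 0, 4⟩) (.one ⟨13815, 2, 4⟩)) (.node 1 (.one ⟨10870, 2, 4⟩) (.one ⟨5729, 0, 2⟩))) (.node 2 (.node 1 (.one ⟨5733, 0, 2⟩) (.one ⟨14992, 2, 6⟩)) (.node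 1 (.one ⟨9990, 2, 5⟩) (.one ⟨10488, 1, 2⟩))))) (.node 8 (.node 4 (.node 2 (.node 1 (.one ⟨16722, 2, 3⟩) (.one ⟨12494, 2, 3⟩)) (.node 1 (.one ⟨16205, 0, 3⟩) (.one ⟨14198, 1, 3⟩))) (.node 2 (.node 1 (.one ⟨16683, 2, 5⟩) (.one ⟨12209, 2, 4⟩)) (.node 1 (.one ⟨9804, 2, 4⟩) (.one ⟨16002, 2, 5⟩)))) (.node 4 (.node 2 (.node 1 (.one ⟨13028, 0, 4⟩) (.one ⟨13665, 2, 4⟩)) (.node 1 (.one ⟨3085, 2, 5⟩) (.one ⟨8033, 2, 5⟩))) (.node 2 (.node 1 (.one ⟨12685, 2, 5⟩) (.one ⟨17088, 1, 3⟩)) (.node 1 (.one ⟨4197, 0, 5⟩) (.one ⟨6217, 2, 3⟩)))))))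
def par9_2_8 : Arr Par :=
  (.node 32 (.node 16 (.node 8 (.node 4 (.node 2 (.node 1 (.one ⟨3375, 0, 4⟩) (.one ⟨3101, 0, 1⟩)) (.node 1 (.one ⟨994, 0, 1⟩) (.one ⟨4865, 0, 2⟩))) (.node 2 (.node 1 (.one ⟨5063, 1, 0⟩) (.one ⟨4315, 0, 5⟩)) (.node 1 (.one ⟨5243, 0, 6⟩) (.one ⟨13939, 1, 3⟩)))) (.node 4 (.node 2 (.node 1 (.one ⟨5150, 1, 0⟩) (.one ⟨16328, 2, 4⟩)) (.node 1 (.one ⟨4504, 0, 3⟩) (.one ⟨9627, 0, 4⟩))) (.node 2 (.node 1 (.one ⟨2911, 2, 3⟩) (.one ⟨9379, 2, 1⟩)) (.node 1 (.one ⟨4545, 2, 1⟩) (.one ⟨6644, 2, 5⟩))))) (.node 8 (.node 4 (.node 2 (.node 1 (.one ⟨3960, 0, 3⟩) (.one ⟨2788, 0, 4⟩)) (.node 1 (.one ⟨6233, 1, 6⟩) (.one ⟨16940, 0, 5⟩))) (.node 2 (.node 1 (.one ⟨13436, 0, 4⟩) (.one ⟨15705, 2, 5⟩)) (.node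 1 (.one ⟨7955, 2, 4⟩) (.one ⟨15038, 2, 5⟩)))) (.node 4 (.node 2 (.node 1 (.one ⟨15009, 2, 3⟩) (.one ⟨13631, 2, 5⟩)) (.node 1 (.one ⟨9370, 0, 3⟩) (.one ⟨4151, 0, 3⟩))) (.node 2 (.node 1 (.one ⟨3042, 2, 4⟩) (.one ⟨12171, 0, 5⟩)) (.node 1 (.one ⟨625, 2, 3⟩) (.one ⟨2186, 1, 1⟩)))))) (.node 16 (.node 8 (.node 4 (.node 2 (.node 1 (.one ⟨9550, 2, 4⟩) (.one ⟨15488, 2, 4⟩)) (.node 1 (.one ⟨7411, 2, 5⟩) (.one ⟨1542, 2, 3⟩))) (.node 2 (.node 1 (.one ⟨9465, 2, 2⟩) (.one ⟨15486, 2, 4⟩)) (.node 1 (.one ⟨7432, 2, 5⟩) (.one ⟨11812, 0, 3⟩)))) (.node 4 (.node 2 (.node 1 (.one ⟨16872, 2, 5⟩) (.one ⟨12013, 0, 3⟩)) (.node 1 (.one ⟨2495, 0, 3⟩) (.one ⟨14067, 0, 3⟩))) (.node 2 (.node 1 (.one ⟨1794, 2, 5⟩) (.one ⟨14336, 0, 3⟩)) (.node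 1 (.one ⟨8331, 0, 3⟩) (.one ⟨14293, 0, 3⟩))))) (.node 8 (.node 4 (.node 2 (.node 1 (.one ⟨12193, 2, 4⟩) (.one ⟨11681, 2, 2⟩)) (.node 1 (.one ⟨1994, 2, 4⟩) (.one ⟨12044, 1, 2⟩))) (.node 2 (.node 1 (.one ⟨2233, 2, 5⟩) (.one ⟨12583, 1, 3⟩)) (.node 1 (.one ⟨4086, 1, 3⟩) (.one ⟨8254, 0, 6⟩)))) (.node 4 (.node 2 (.node 1 (.one ⟨4770, 1, 4⟩) (.one ⟨486, 0, 6⟩)) (.node 1 (.one ⟨7423, 2, 4⟩) (.one ⟨13835, 0, 2⟩))) (.node 2 (.node 1 (.one ⟨11088, 0, 6⟩) (.one ⟨9793, 2, 4⟩)) (.node 1 (.one ⟨7600, 2, 2⟩) (.one ⟨6422, 2, 7⟩)))))))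
def par9_2_9 : Arr Par :=
  (.node 32 (.node 16 (.node 8 (.node 4 (.node 2 (.node 1 (.one ⟨3059, 2, 4⟩) (.one ⟨14235, 2, 4⟩)) (.node 1 (.one ⟨8941, 0, 4⟩) (.one ⟨12761, 2, 5⟩))) (.node 2 (.node 1 (.one ⟨16305, 2, 3⟩) (.one ⟨5305, 2, 4⟩)) (.node 1 (.one ⟨7601, 2, 5⟩) (.one ⟨14581, 1, 6⟩)))) (.node 4 (.node 2 (.node 1 (.one ⟨7092, 0, 2⟩) (.one ⟨10084, 2, 5⟩)) (.node 1 (.one ⟨6986, 1, 3⟩) (.one ⟨13362, 2, 4⟩))) (.node 2 (.node 1 (.one ⟨10952, 0, 2⟩) (.one ⟨395, 2, 4⟩)) (.node 1 (.one ⟨14542, 0, 3⟩) (.one ⟨9763, 1, 6⟩))))) (.node 8 (.node 4 (.node 2 (.node 1 (.one ⟨6334, 0, 5⟩) (.one ⟨11631, 1, 6⟩)) (.node 1 (.one ⟨4075, 0, 5⟩) (.one ⟨8096, 0, 2⟩))) (.node 2 (.node 1 (.one ⟨1021, 1, 6⟩) (.one ⟨2036, 0, 5⟩)) (.node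 1 (.one ⟨3562, 1, 6⟩) (.one ⟨16290, 0, 4⟩)))) (.node 4 (.node 2 (.node 1 (.one ⟨14061, 0, 5⟩) (.one ⟨8661, 0, 5⟩)) (.node 1 (.one ⟨7105, 0, 4⟩) (.one ⟨13269, 2, 5⟩))) (.node 2 (.node 1 (.one ⟨6902, 2, 5⟩) (.one ⟨9287, 1, 1⟩)) (.node 1 (.one ⟨6401, 0, 4⟩) (.one ⟨14153, 2, 4⟩)))))) (.node 16 (.node 8 (.node 4 (.node 2 (.node 1 (.one ⟨5324, 1, 0⟩) (.one ⟨9880, 2, 5⟩)) (.node 1 (.one ⟨3901, 0, 2⟩) (.one ⟨2561, 0, 2⟩))) (.node 2 (.node 1 (.one ⟨2183, 2, 5⟩) (.one ⟨5263, 1, 0⟩)) (.node 1 (.one ⟨5719, 2, 4⟩) (.one ⟨10075, 1, 2⟩)))) (.node 4 (.node 2 (.node 1 (.one ⟨9261, 0, 1⟩) (.one ⟨1531, 0, 2⟩)) (.node 1 (.one ⟨6615, 2, 3⟩) (.one ⟨16088, 0, 4⟩))) (.node 2 (.node 1 (.one ⟨9374, 0, 2⟩) (.one ⟨1132, 0, 2⟩)) (.node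 1 (.one ⟨7985, 0, 2⟩) (.one ⟨6483, 0, 3⟩))))) (.node 8 (.node 4 (.node 2 (.node 1 (.one ⟨7035, 1, 2⟩) (.one ⟨10998, 0, 1⟩)) (.node 1 (.one ⟨181, 2, 4⟩) (.one ⟨7031, 1, 2⟩))) (.node 2 (.node 1 (.one ⟨5561, 2, 4⟩) (.one ⟨3359, 0, 5⟩)) (.node 1 (.one ⟨7265, 0, 3⟩) (.one ⟨14408, 1, 1⟩)))) (.node 4 (.node 2 (.node 1 (.one ⟨672, 2, 4⟩) (.one ⟨302, 2, 5⟩)) (.node 1 (.one ⟨144, 2, 4⟩) (.one ⟨8586, 0, 5⟩))) (.node 2 (.node 1 (.one ⟨15881, 0, 5⟩) (.one ⟨807, 2, 5⟩)) (.node 1 (.one ⟨643, 2, 1⟩) (.one ⟨6745, 0, 5⟩)))))))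
def par9_2_10 : Arr Par :=
  (.node 32 (.node 16 (.node 8 (.node 4 (.node 2 (.node 1 (.one ⟨6893, 0, 5⟩) (.one ⟨13805, 2, 4⟩)) (.node 1 (.one ⟨15594, 0, 5⟩) (.one ⟨2313, 0, 5⟩))) (.node 2 (.node 1 (.one ⟨8168, 2, 4⟩) (.one ⟨14922, 2, 4⟩)) (.node 1 (.one ⟨3036, 2, 4⟩) (.one ⟨15375, 0, 4⟩)))) (.node 4 (.node 2 (.node 1 (.one ⟨8247, 2, 6⟩) (.one ⟨1507, 1, 4⟩)) (.node 1 (.one ⟨15382, 0, 2⟩) (.one ⟨15379, 0, 5⟩))) (.node 2 (.node 1 (.one ⟨8167, 2, 1⟩) (.one ⟨4550, 1, 2⟩)) (.node 1 (.one ⟨15378, 0, 6⟩) (.one ⟨14756, 2, 3⟩))))) (.node 8 (.node 4 (.node 2 (.node 1 (.one ⟨12540, 0, 3⟩) (.one ⟨7196, 0, 6⟩)) (.node 1 (.one ⟨3096, 2, 2⟩) (.one ⟨342, 2, 5⟩))) (.node 2 (.node 1 (.one ⟨15763, 2, 3⟩) (.one ⟨3823, 2, 3⟩)) (.node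 1 (.one ⟨14205, 2, 5⟩) (.one ⟨2209, 1, 4⟩)))) (.node 4 (.node 2 (.node 1 (.one ⟨12157, 2, 4⟩) (.one ⟨15121, 2, 6⟩)) (.node 1 (.one ⟨9018, 1, 4⟩) (.one ⟨5962, 1, 1⟩))) (.node 2 (.node 1 (.one ⟨5106, 1, 2⟩) (.one ⟨5801, 1, 2⟩)) (.node 1 (.one ⟨5480, 1, 1⟩) (.one ⟨5676, 2, 2⟩)))))) (.node 16 (.node 8 (.node 4 (.node 2 (.node 1 (.one ⟨10720, 0, 5⟩) (.one ⟨15273, 2, 4⟩)) (.node 1 (.one ⟨15366, 0, 2⟩) (.one ⟨1294, 2, 1⟩))) (.node 2 (.node 1 (.one ⟨1417, 0, 4⟩) (.one ⟨11265, 2, 5⟩)) (.node 1 (.one ⟨7083, 0, 4⟩) (.one ⟨5388, 1, 0⟩)))) (.node 4 (.node 2 (.node 1 (.one ⟨4832, 0, 0⟩) (.one ⟨10311, 1, 1⟩)) (.node 1 (.one ⟨10671, 2, 3⟩) (.one ⟨3101, 2, 1⟩))) (.node 2 (.node 1 (.one ⟨11236, 2, 4⟩) (.one ⟨8893, 2, 2⟩)) (.node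 1 (.one ⟨16584, 2, 4⟩) (.one ⟨13695, 0, 2⟩))))) (.node 8 (.node 4 (.node 2 (.node 1 (.one ⟨11045, 0, 5⟩) (.one ⟨7975, 0, 4⟩)) (.node 1 (.one ⟨5106, 1, 0⟩) (.one ⟨5061, 1, 0⟩))) (.node 2 (.node 1 (.one ⟨5361, 1, 0⟩) (.one ⟨16480, 0, 4⟩)) (.node 1 (.one ⟨8586, 2, 5⟩) (.one ⟨10352, 2, 6⟩)))) (.node 4 (.node 2 (.node 1 (.one ⟨5871, 2, 5⟩) (.one ⟨5749, 2, 4⟩)) (.node 1 (.one ⟨12160, 0, 4⟩) (.one ⟨15357, 2, 6⟩))) (.node 2 (.node 1 (.one ⟨2806, 2, 4⟩) (.one ⟨2746, 2, 5⟩)) (.node 1 (.one ⟨15241, 2, 4⟩) (.one ⟨8320, 2, 3⟩)))))))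
def par9_2_11 : Arr Par :=
  (.node 32 (.node 16 (.node 8 (.node 4 (.node 2 (.node 1 (.one ⟨16221, 2, 5⟩) (.one ⟨10646, 2, 6⟩)) (.node 1 (.one ⟨13319, 0, 4⟩) (.one ⟨15685, 2, 2⟩))) (.node 2 (.node 1 (.one ⟨8089, 2, 2⟩) (.one ⟨7416, 0, 4⟩)) (.node 1 (.one ⟨10190, 2, 6⟩) (.one ⟨14492, 2, 6⟩)))) (.node 4 (.node 2 (.node 1 (.one ⟨14489, 2, 6⟩) (.one ⟨14490, 2, 6⟩)) (.node 1 (.one ⟨14491, 2, 5⟩) (.one ⟨14493, 2, 5⟩))) (.node 2 (.node 1 (.one ⟨14488, 2, 7⟩) (.one ⟨14487, 2, 3⟩)) (.node 1 (.one ⟨12099, 0, 6⟩) (.one ⟨4212, 1, 2⟩))))) (.node 8 (.node 4 (.node 2 (.node 1 (.one ⟨14802, 2, 3⟩) (.one ⟨2463, 2, 3⟩)) (.node 1 (.one ⟨4436, 2, 3⟩) (.one ⟨11077, 0, 3⟩))) (.node 2 (.node 1 (.one ⟨5283, 0, 4⟩) (.one ⟨2843, 1,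 4⟩)) (.node 1 (.one ⟨379, 2, 4⟩) (.one ⟨5686, 2, 3⟩)))) (.node 4 (.node 2 (.node 1 (.one ⟨7619, 0, 6⟩) (.one ⟨3187, 0, 6⟩)) (.node 1 (.one ⟨10736, 0, 6⟩) (.one ⟨5544, 0, 6⟩))) (.node 2 (.node 1 (.one ⟨12077, 0, 6⟩) (.one ⟨14685, 0, 6⟩)) (.node 1 (.one ⟨16278, 1, 3⟩) (.one ⟨6405, 1, 4⟩)))))) (.node 16 (.node 8 (.node 4 (.node 2 (.node 1 (.one ⟨4275, 0, 4⟩) (.one ⟨2842, 2, 3⟩)) (.node 1 (.one ⟨13041, 2, 3⟩) (.one ⟨13080, 2, 5⟩))) (.node 2 (.node 1 (.one ⟨2799, 2, 3⟩) (.one ⟨9616, 1, 1⟩)) (.node 1 (.one ⟨11914, 2, 5⟩) (.one ⟨9301, 2, 4⟩)))) (.node 4 (.node 2 (.node 1 (.one ⟨13558, 2, 4⟩) (.one ⟨5502, 2, 3⟩)) (.node 1 (.one ⟨1203, 2, 4⟩) (.one ⟨13610, 2, 5⟩))) (.node 2 (.node 1 (.one ⟨9382, 2, 5⟩) (.one ⟨1363,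 2, 6⟩)) (.node 1 (.one ⟨1804, 1, 2⟩) (.one ⟨13263, 0, 2⟩))))) (.node 8 (.node 4 (.node 2 (.node 1 (.one ⟨1666, 2, 6⟩) (.one ⟨3913, 0, 5⟩)) (.node 1 (.one ⟨4633, 2, 4⟩) (.one ⟨10384, 2, 5⟩))) (.node 2 (.node 1 (.one ⟨4746, 2, 3⟩) (.one ⟨13166, 2, 6⟩)) (.node 1 (.one ⟨735, 2, 3⟩) (.one ⟨13281, 2, 4⟩)))) (.node 4 (.node 2 (.node 1 (.one ⟨5512, 1, 0⟩) (.one ⟨3504, 0, 4⟩)) (.node 1 (.one ⟨1686, 0, 4⟩) (.one ⟨13131, 2, 3⟩))) (.node 2 (.node 1 (.one ⟨5865, 2, 3⟩) (.one ⟨3626, 0, 3⟩)) (.node 1 (.one ⟨16825, 2, 5⟩) (.one ⟨2329, 0, 3⟩)))))))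
def par9_2_12 : Arr Par :=
  (.node 32 (.node 16 (.node 8 (.node 4 (.node 2 (.node 1 (.one ⟨15615, 1, 5⟩) (.one ⟨5108, 0, 5⟩)) (.node 1 (.one ⟨919, 1, 3⟩) (.one ⟨5044, 2, 2⟩))) (.node 2 (.node 1 (.one ⟨1229, 2, 2⟩) (.one ⟨5252, 2, 3⟩)) (.node 1 (.one ⟨1827, 2, 3⟩) (.one ⟨16488, 2, 3⟩)))) (.node 4 (.node 2 (.node 1 (.one ⟨16503, 2, 2⟩) (.one ⟨12730, 0, 5⟩)) (.node 1 (.one ⟨7943, 0, 5⟩) (.one ⟨10061, 0, 4⟩))) (.node 2 (.node 1 (.one ⟨6779, 0, 4⟩) (.one ⟨7923, 0, 5⟩)) (.node 1 (.one ⟨4453, 2, 2⟩) (.one ⟨15199, 1, 1⟩))))) (.node 8 (.node 4 (.node 2 (.node 1 (.one ⟨5628, 0, 6⟩) (.one ⟨1446, 0, 1⟩)) (.node 1 (.one ⟨123, 2, 3⟩) (.one ⟨15356, 2, 6⟩))) (.node 2 (.node 1 (.one ⟨4785, 1, 1⟩) (.one ⟨1388, 0, 4⟩)) (.node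 1 (.one ⟨1959, 2, 5⟩) (.one ⟨4568, 2, 3⟩)))) (.node 4 (.node 2 (.node 1 (.one ⟨5060, 0, 6⟩) (.one ⟨13067, 1, 2⟩)) (.node 1 (.one ⟨6553, 2, 2⟩) (.one ⟨2149, 1, 3⟩))) (.node 2 (.node 1 (.one ⟨5327, 0, 6⟩) (.one ⟨13443, 2, 3⟩)) (.node 1 (.one ⟨3885, 0, 5⟩) (.one ⟨10635, 2, 4⟩)))))) (.node 16 (.node 8 (.node 4 (.node 2 (.node 1 (.one ⟨8771, 2, 4⟩) (.one ⟨15489, 2, 6⟩)) (.node 1 (.one ⟨4454, 2, 4⟩) (.one ⟨6314, 2, 4⟩))) (.node 2 (.node 1 (.one ⟨13413, 2, 5⟩) (.one ⟨3382, 2, 5⟩)) (.node 1 (.one ⟨16273, 2, 6⟩) (.one ⟨6773, 2, 4⟩)))) (.node 4 (.node 2 (.node 1 (.one ⟨8451, 0, 5⟩) (.one ⟨14942, 2, 4⟩)) (.node 1 (.one ⟨13962, 2, 5⟩) (.one ⟨16503, 1, 2⟩))) (.node 2 (.node 1 (.one ⟨4450, 2, 4⟩) (.one ⟨13614, 2, 6⟩)) (.node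 1 (.one ⟨11952, 2, 4⟩) (.one ⟨4984, 2, 3⟩))))) (.node 8 (.node 4 (.node 2 (.node 1 (.one ⟨7737, 1, 5⟩) (.one ⟨15026, 0, 2⟩)) (.node 1 (.one ⟨5011, 0, 6⟩) (.one ⟨11042, 0, 2⟩))) (.node 2 (.node 1 (.one ⟨8653, 0, 6⟩) (.one ⟨10771, 0, 5⟩)) (.node 1 (.one ⟨8241, 0, 4⟩) (.one ⟨5098, 0, 2⟩)))) (.node 4 (.node 2 (.node 1 (.one ⟨8046, 2, 3⟩) (.one ⟨2969, 0, 6⟩)) (.node 1 (.one ⟨3572, 1, 5⟩) (.one ⟨5213, 2, 4⟩))) (.node 2 (.node 1 (.one ⟨7988, 2, 3⟩) (.one ⟨14539, 0, 5⟩)) (.node 1 (.one ⟨7555, 2, 5⟩) (.one ⟨13735, 1, 4⟩)))))))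
def par9_2_13 : Arr Par :=
  (.node 32 (.node 16 (.node 8 (.node 4 (.node 2 (.node 1 (.one ⟨7409, 0, 4⟩) (.one ⟨84, 1, 1⟩)) (.node 1 (.one ⟨5411, 2, 2⟩) (.one ⟨6400, 0, 5⟩))) (.node 2 (.node 1 (.one ⟨15683, 0, 4⟩) (.one ⟨4658, 2, 5⟩)) (.node 1 (.one ⟨14625, 0, 2⟩) (.one ⟨15442, 0, 3⟩)))) (.node 4 (.node 2 (.node 1 (.one ⟨1121, 0, 4⟩) (.one ⟨8678, 2, 5⟩)) (.node 1 (.one ⟨10229, 0, 5⟩) (.one ⟨15448, 0, 6⟩))) (.node 2 (.node 1 (.one ⟨8029, 2, 4⟩) (.one ⟨7541, 0, 5⟩)) (.node 1 (.one ⟨8425, 2, 2⟩) (.one ⟨825, 1, 2⟩))))) (.node 8 (.node 4 (.node 2 (.node 1 (.one ⟨5920, 2, 5⟩) (.one ⟨7124, 2, 3⟩)) (.node 1 (.one ⟨16195, 1, 3⟩) (.one ⟨12331, 0, 6⟩))) (.node 2 (.node 1 (.one ⟨5780, 2, 5⟩) (.one ⟨7267, 2, 2⟩)) (.node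 1 (.one ⟨9346, 0, 5⟩) (.one ⟨1344, 2, 6⟩)))) (.node 4 (.node 2 (.node 1 (.one ⟨73, 2, 5⟩) (.one ⟨4309, 0, 6⟩)) (.node 1 (.one ⟨4310, 0, 4⟩) (.one ⟨1081, 2, 5⟩))) (.node 2 (.node 1 (.one ⟨1418, 2, 5⟩) (.one ⟨7026, 2, 5⟩)) (.node 1 (.one ⟨4303, 0, 5⟩) (.one ⟨13083, 1, 2⟩)))))) (.node 16 (.node 8 (.node 4 (.node 2 (.node 1 (.one ⟨11401, 2, 3⟩) (.one ⟨7904, 0, 2⟩)) (.node 1 (.one ⟨8510, 2, 6⟩) (.one ⟨9737, 0, 3⟩))) (.node 2 (.node 1 (.one ⟨5858, 2, 5⟩) (.one ⟨8180, 2, 6⟩)) (.node 1 (.one ⟨12438, 2, 2⟩) (.one ⟨231, 0, 4⟩)))) (.node 4 (.node 2 (.node 1 (.one ⟨3756, 0, 2⟩) (.one ⟨15739, 2, 4⟩)) (.node 1 (.one ⟨16807, 0, 4⟩) (.one ⟨12245, 2, 3⟩))) (.node 2 (.node 1 (.one ⟨6259, 0, 2⟩) (.one ⟨10515, 2, 5⟩)) (.node 1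 (.one ⟨8193, 2, 5⟩) (.one ⟨4931, 1, 0⟩))))) (.node 8 (.node 4 (.node 2 (.node 1 (.one ⟨15379, 2, 5⟩) (.one ⟨4531, 1, 6⟩)) (.node 1 (.one ⟨4530, 1, 3⟩) (.one ⟨4532, 1, 2⟩))) (.node 2 (.node 1 (.one ⟨8622, 2, 5⟩) (.one ⟨5078, 1, 0⟩)) (.node 1 (.one ⟨3235, 2, 4⟩) (.one ⟨1469, 0, 6⟩)))) (.node 4 (.node 2 (.node 1 (.one ⟨16117, 2, 4⟩) (.one ⟨10939, 0, 5⟩)) (.node 1 (.one ⟨5545, 2, 2⟩) (.one ⟨4181, 2, 3⟩))) (.node 2 (.node 1 (.one ⟨14251, 1, 6⟩) (.one ⟨11026, 0, 3⟩)) (.node 1 (.one ⟨1445, 2, 5⟩) (.one ⟨417, 0, 4⟩)))))))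
def par9_2_14 : Arr Par :=
  (.node 32 (.node 16 (.node 8 (.node 4 (.node 2 (.node 1 (.one ⟨3677, 2, 6⟩) (.one ⟨1929, 1, 6⟩)) (.node 1 (.one ⟨4007, 2, 4⟩) (.one ⟨10199, 2, 4⟩))) (.node 2 (.node 1 (.one ⟨2810, 1, 5⟩) (.one ⟨2574, 0, 2⟩)) (.node 1 (.one ⟨12670, 2, 4⟩) (.one ⟨2719, 0, 3⟩)))) (.node 4 (.node 2 (.node 1 (.one ⟨11527, 2, 3⟩) (.one ⟨2941, 0, 4⟩)) (.node 1 (.one ⟨9981, 2, 3⟩) (.one ⟨14256, 0, 3⟩))) (.node 2 (.node 1 (.one ⟨9292, 2, 1⟩) (.one ⟨14866, 0, 3⟩)) (.node 1 (.one ⟨11313, 2, 1⟩) (.one ⟨6043, 2, 3⟩))))) (.node 8 (.node 4 (.node 2 (.node 1 (.one ⟨1799, 0, 1⟩) (.one ⟨621, 2, 5⟩)) (.node 1 (.one ⟨3734, 0, 2⟩) (.one ⟨5331, 1, 0⟩))) (.node 2 (.node 1 (.one ⟨9910, 2, 1⟩) (.one ⟨3871, 0, 1⟩)) (.node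 1 (.one ⟨13731, 2, 2⟩) (.one ⟨12676, 0, 3⟩)))) (.node 4 (.node 2 (.node 1 (.one ⟨16862, 1, 2⟩) (.one ⟨2513, 0, 5⟩)) (.node 1 (.one ⟨2670, 2, 3⟩) (.one ⟨13529, 2, 5⟩))) (.node 2 (.node 1 (.one ⟨1680, 2, 6⟩) (.one ⟨13582, 2, 5⟩)) (.node 1 (.one ⟨15701, 0, 6⟩) (.one ⟨17156, 2, 4⟩)))))) (.node 16 (.node 8 (.node 4 (.node 2 (.node 1 (.one ⟨15963, 0, 3⟩) (.one ⟨16300, 1, 3⟩)) (.node 1 (.one ⟨10092, 2, 5⟩) (.one ⟨4315, 2, 5⟩))) (.node 2 (.node 1 (.one ⟨169, 1, 3⟩) (.one ⟨12820, 0, 2⟩)) (.node 1 (.one ⟨6988, 2, 5⟩) (.one ⟨13915, 2, 3⟩)))) (.node 4 (.node 2 (.node 1 (.one ⟨675, 2, 5⟩) (.one ⟨3171, 2, 4⟩)) (.node 1 (.one ⟨15503, 2, 5⟩) (.one ⟨15989, 2, 4⟩))) (.node 2 (.node 1 (.one ⟨3856, 2, 5⟩) (.one ⟨5426, 2, 3⟩))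 (.node 1 (.one ⟨15499, 1, 5⟩) (.one ⟨3640, 0, 4⟩))))) (.node 8 (.node 4 (.node 2 (.node 1 (.one ⟨2933, 1, 1⟩) (.one ⟨8315, 2, 5⟩)) (.node 1 (.one ⟨9378, 0, 4⟩) (.one ⟨4900, 1, 0⟩))) (.node 2 (.node 1 (.one ⟨14283, 0, 4⟩) (.one ⟨2927, 1, 1⟩)) (.node 1 (.one ⟨10617, 0, 2⟩) (.one ⟨15513, 2, 4⟩)))) (.node 4 (.node 2 (.node 1 (.one ⟨11662, 0, 4⟩) (.one ⟨10054, 0, 4⟩)) (.node 1 (.one ⟨9846, 2, 4⟩) (.one ⟨386, 2, 5⟩))) (.node 2 (.node 1 (.one ⟨16795, 2, 5⟩) (.one ⟨12527, 2, 5⟩)) (.node 1 (.one ⟨7179, 2, 5⟩) (.one ⟨4895, 1, 0⟩)))))))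
def par9_2_15 : Arr Par :=
  (.node 32 (.node 16 (.node 8 (.node 4 (.node 2 (.node 1 (.one ⟨9730, 0, 4⟩) (.one ⟨14988, 0, 5⟩)) (.node 1 (.one ⟨2423, 2, 5⟩) (.one ⟨5660, 2, 5⟩))) (.node 2 (.node 1 (.one ⟨1630, 0, 4⟩) (.one ⟨6393, 2, 6⟩)) (.node 1 (.one ⟨8913, 2, 5⟩) (.one ⟨12060, 0, 2⟩)))) (.node 4 (.node 2 (.node 1 (.one ⟨5485, 1, 1⟩) (.one ⟨10009, 2, 6⟩)) (.node 1 (.one ⟨12464, 0, 4⟩) (.one ⟨14029, 1, 6⟩))) (.node 2 (.node 1 (.one ⟨2547, 1, 4⟩) (.one ⟨13088, 2, 5⟩)) (.node 1 (.one ⟨4616, 2, 5⟩) (.one ⟨5510, 2, 3⟩))))) (.node 8 (.node 4 (.node 2 (.node 1 (.one ⟨567, 1, 6⟩) (.one ⟨5016, 2, 4⟩)) (.node 1 (.one ⟨13770, 2, 3⟩) (.one ⟨788, 2, 5⟩))) (.node 2 (.node 1 (.one ⟨13295, 1, 4⟩) (.one ⟨2476, 2, 6⟩)) (.node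 1 (.one ⟨17157, 2, 4⟩) (.one ⟨17197, 2, 4⟩)))) (.node 4 (.node 2 (.node 1 (.one ⟨14403, 0, 4⟩) (.one ⟨17159, 2, 6⟩)) (.node 1 (.one ⟨8864, 0, 4⟩) (.one ⟨578, 2, 1⟩))) (.node 2 (.node 1 (.one ⟨1112, 2, 3⟩) (.one ⟨1320, 2, 3⟩)) (.node 1 (.one ⟨12196, 0, 5⟩) (.one ⟨16319, 0, 4⟩)))))) (.node 16 (.node 8 (.node 4 (.node 2 (.node 1 (.one ⟨342, 0, 5⟩) (.one ⟨3823, 0, 3⟩)) (.node 1 (.one ⟨3199, 2, 3⟩) (.one ⟨2112, 2, 3⟩))) (.node 2 (.node 1 (.one ⟨15763, 0, 3⟩) (.one ⟨14205, 0, 5⟩)) (.node 1 (.one ⟨4059, 0, 4⟩) (.one ⟨11795, 0, 5⟩)))) (.node 4 (.node 2 (.node 1 (.one ⟨2887, 0, 4⟩) (.one ⟨1293, 1, 1⟩)) (.node 1 (.one ⟨8533, 0, 5⟩) (.one ⟨3515, 2, 2⟩))) (.node 2 (.node 1 (.one ⟨16912, 2, 5⟩) (.one ⟨14546, 2, 5⟩)) (.node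 1 (.one ⟨9528, 0, 1⟩) (.one ⟨10816, 0, 3⟩))))) (.node 8 (.node 4 (.node 2 (.node 1 (.one ⟨9245, 0, 3⟩) (.one ⟨8069, 2, 3⟩)) (.node 1 (.one ⟨10593, 0, 3⟩) (.one ⟨15560, 2, 3⟩))) (.node 2 (.node 1 (.one ⟨6035, 0, 3⟩) (.one ⟨7405, 0, 5⟩)) (.node 1 (.one ⟨6306, 0, 3⟩) (.one ⟨5513, 0, 3⟩)))) (.node 4 (.node 2 (.node 1 (.one ⟨14024, 0, 4⟩) (.one ⟨9865, 1, 4⟩)) (.node 1 (.one ⟨6566, 2, 5⟩) (.one ⟨2355, 2, 3⟩))) (.node 2 (.node 1 (.one ⟨16896, 0, 6⟩) (.one ⟨6809, 2, 2⟩)) (.node 1 (.one ⟨14250, 0, 3⟩) (.one ⟨15066, 0, 6⟩)))))))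
def par9_2 : Arr Par :=
  (.node 512 (.node 256 (.node 128 (.node 64 par9_2_0 par9_2_1) (.node 64 par9_2_2 par9_2_3)) (.node 128 (.node 64 par9_2_4 par9_2_5) (.node 64 par9_2_6 par9_2_7))) (.node 256 (.node 128 (.node 64 par9_2_8 par9_2_9) (.node 64 par9_2_10 par9_2_11)) (.node 128 (.node 64 par9_2_12 par9_2_13) (.node 64 par9_2_14 par9_2_15))))
def par9_3_0 : Arr Par :=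
  (.node 32 (.node 16 (.node 8 (.node 4 (.node 2 (.node 1 (.one ⟨6595, 2, 3⟩) (.one ⟨8967, 2, 6⟩)) (.node 1 (.one ⟨4391, 2, 6⟩) (.one ⟨636, 2, 5⟩))) (.node 2 (.node 1 (.one ⟨6995, 2, 3⟩) (.one ⟨3234, 0, 6⟩)) (.node 1 (.one ⟨3232, 0, 5⟩) (.one ⟨13556, 2, 4⟩)))) (.node 4 (.node 2 (.node 1 (.one ⟨6812, 2, 3⟩) (.one ⟨9704, 2, 3⟩)) (.node 1 (.one ⟨396, 0, 4⟩) (.one ⟨14947, 2, 3⟩))) (.node 2 (.node 1 (.one ⟨10391, 0, 4⟩) (.one ⟨10406, 0, 4⟩)) (.node 1 (.one ⟨12981, 0, 4⟩) (.one ⟨5984, 0, 3⟩))))) (.node 8 (.node 4 (.node 2 (.node 1 (.one ⟨5988, 0, 4⟩) (.one ⟨11672, 2, 3⟩)) (.node 1 (.one ⟨11598, 2, 2⟩) (.one ⟨4732, 2, 6⟩))) (.node 2 (.node 1 (.one ⟨5986, 0, 6⟩) (.one ⟨12308, 2, 5⟩)) (.node 1 (.one ⟨2324, 1, 3⟩) (.one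 ⟨4049, 0, 1⟩)))) (.node 4 (.node 2 (.node 1 (.one ⟨5359, 0, 1⟩) (.one ⟨14151, 2, 4⟩)) (.node 1 (.one ⟨13763, 0, 3⟩) (.one ⟨15985, 1, 5⟩))) (.node 2 (.node 1 (.one ⟨2397, 2, 3⟩) (.one ⟨5418, 1, 0⟩)) (.node 1 (.one ⟨3123, 0, 2⟩) (.one ⟨14668, 0, 6⟩)))))) (.node 16 (.node 8 (.node 4 (.node 2 (.node 1 (.one ⟨8419, 2, 3⟩) (.one ⟨9107, 0, 6⟩)) (.node 1 (.one ⟨6914, 2, 3⟩) (.one ⟨505, 2, 4⟩))) (.node 2 (.node 1 (.one ⟨2539, 2, 3⟩) (.one ⟨2350, 0, 6⟩)) (.node 1 (.one ⟨3952, 2, 3⟩) (.one ⟨13825, 2, 4⟩)))) (.node 4 (.node 2 (.node 1 (.one ⟨5475, 1, 0⟩) (.one ⟨14322, 2, 5⟩)) (.node 1 (.one ⟨1970, 0, 5⟩) (.one ⟨16220, 2, 3⟩))) (.node 2 (.node 1 (.one ⟨1745, 0, 4⟩) (.one ⟨13182, 0, 5⟩)) (.node 1 (.one ⟨2375, 2, 4⟩) (.one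 ⟨2235, 1, 2⟩))))) (.node 8 (.node 4 (.node 2 (.node 1 (.one ⟨2596, 2, 3⟩) (.one ⟨10938, 0, 5⟩)) (.node 1 (.one ⟨2965, 0, 2⟩) (.one ⟨4545, 0, 1⟩))) (.node 2 (.node 1 (.one ⟨12845, 0, 4⟩) (.one ⟨10411, 2, 2⟩)) (.node 1 (.one ⟨834, 0, 2⟩) (.one ⟨11281, 2, 3⟩)))) (.node 4 (.node 2 (.node 1 (.one ⟨1626, 2, 6⟩) (.one ⟨15450, 2, 5⟩)) (.node 1 (.one ⟨3220, 0, 4⟩) (.one ⟨7471, 1, 2⟩))) (.node 2 (.node 1 (.one ⟨5378, 1, 6⟩) (.one ⟨3675, 0, 3⟩)) (.node 1 (.one ⟨16798, 1, 4⟩) (.one ⟨2422, 2, 4⟩)))))))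
def par9_3_1 : Arr Par :=
  (.node 32 (.node 16 (.node 8 (.node 4 (.node 2 (.node 1 (.one ⟨5829, 0, 4⟩) (.one ⟨11680, 0, 2⟩)) (.node 1 (.one ⟨12380, 1, 2⟩) (.one ⟨3203, 1, 3⟩))) (.node 2 (.node 1 (.one ⟨1509, 0, 4⟩) (.one ⟨15663, 0, 3⟩)) (.node 1 (.one ⟨12214, 2, 4⟩) (.one ⟨5183, 2, 6⟩)))) (.node 4 (.node 2 (.node 1 (.one ⟨15746, 2, 4⟩) (.one ⟨8238, 2, 7⟩)) (.node 1 (.one ⟨3475, 0, 4⟩) (.one ⟨15437, 2, 3⟩))) (.node 2 (.node 1 (.one ⟨420, 2, 5⟩) (.one ⟨10500, 2, 4⟩)) (.node 1 (.one ⟨6628, 2, 6⟩) (.one ⟨9681, 0, 6⟩))))) (.node 8 (.node 4 (.node 2 (.node 1 (.one ⟨2162, 0, 5⟩) (.one ⟨15427, 1, 4⟩)) (.node 1 (.one ⟨8216, 2, 4⟩) (.one ⟨6071, 2, 4⟩))) (.node 2 (.node 1 (.one ⟨10139, 0, 3⟩) (.one ⟨954, 1, 4⟩)) (.node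 1 (.one ⟨17188, 0, 3⟩) (.one ⟨10444, 0, 5⟩)))) (.node 4 (.node 2 (.node 1 (.one ⟨12610, 2, 3⟩) (.one ⟨6759, 0, 5⟩)) (.node 1 (.one ⟨4777, 2, 5⟩) (.one ⟨5879, 2, 7⟩))) (.node 2 (.node 1 (.one ⟨9867, 0, 4⟩) (.one ⟨13760, 2, 7⟩)) (.node 1 (.one ⟨13209, 2, 6⟩) (.one ⟨14135, 0, 2⟩)))))) (.node 16 (.node 8 (.node 4 (.node 2 (.node 1 (.one ⟨2509, 2, 6⟩) (.one ⟨11732, 0, 4⟩)) (.node 1 (.one ⟨8496, 2, 4⟩) (.one ⟨12897, 0, 3⟩))) (.node 2 (.node 1 (.one ⟨15714, 0, 2⟩) (.one ⟨14661, 0, 3⟩)) (.node 1 (.one ⟨6770, 2, 5⟩) (.one ⟨3256, 2, 6⟩)))) (.node 4 (.node 2 (.node 1 (.one ⟨4579, 2, 3⟩) (.one ⟨3262, 2, 5⟩)) (.node 1 (.one ⟨4578, 2, 3⟩) (.one ⟨11146, 0, 4⟩))) (.node 2 (.node 1 (.one ⟨4790, 0, 4⟩) (.one ⟨4575, 2, 7⟩)) (.node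 1 (.one ⟨3260, 2, 5⟩) (.one ⟨14306, 2, 1⟩))))) (.node 8 (.node 4 (.node 2 (.node 1 (.one ⟨16330, 2, 3⟩) (.one ⟨5343, 0, 5⟩)) (.node 1 (.one ⟨11133, 2, 5⟩) (.one ⟨6576, 0, 5⟩))) (.node 2 (.node 1 (.one ⟨5261, 2, 4⟩) (.one ⟨16389, 0, 5⟩)) (.node 1 (.one ⟨5633, 2, 6⟩) (.one ⟨8384, 2, 6⟩)))) (.node 4 (.node 2 (.node 1 (.one ⟨81, 1, 1⟩) (.one ⟨8872, 2, 4⟩)) (.node 1 (.one ⟨1605, 0, 4⟩) (.one ⟨2421, 2, 7⟩))) (.node 2 (.node 1 (.one ⟨12603, 2, 5⟩) (.one ⟨1714, 2, 7⟩)) (.node 1 (.one ⟨13137, 2, 2⟩) (.one ⟨2664, 0, 2⟩)))))))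
def par9_3_2 : Arr Par :=
  (.node 32 (.node 16 (.node 8 (.node 4 (.node 2 (.node 1 (.one ⟨400, 2, 5⟩) (.one ⟨2901, 2, 3⟩)) (.node 1 (.one ⟨7520, 0, 4⟩) (.one ⟨5677, 1, 2⟩))) (.node 2 (.node 1 (.one ⟨10542, 2, 2⟩) (.one ⟨11466, 2, 5⟩)) (.node 1 (.one ⟨10910, 2, 5⟩) (.one ⟨387, 2, 5⟩)))) (.node 4 (.node 2 (.node 1 (.one ⟨5214, 2, 5⟩) (.one ⟨15342, 2, 4⟩)) (.node 1 (.one ⟨10622, 0, 3⟩) (.one ⟨6142, 2, 5⟩))) (.node 2 (.node 1 (.one ⟨9029, 2, 5⟩) (.one ⟨11728, 0, 3⟩)) (.node 1 (.one ⟨11769, 2, 4⟩) (.one ⟨11915, 0, 6⟩))))) (.node 8 (.node 4 (.node 2 (.node 1 (.one ⟨5988, 2, 4⟩) (.one ⟨4482, 2, 2⟩)) (.node 1 (.one ⟨6721, 0, 4⟩) (.one ⟨4247, 0, 5⟩))) (.node 2 (.node 1 (.one ⟨12518, 0, 3⟩) (.one ⟨7364, 0, 3⟩)) (.node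 1 (.one ⟨13796, 2, 7⟩) (.one ⟨2099, 0, 1⟩)))) (.node 4 (.node 2 (.node 1 (.one ⟨994, 1, 1⟩) (.one ⟨65, 1, 1⟩)) (.node 1 (.one ⟨14597, 2, 4⟩) (.one ⟨16722, 0, 3⟩))) (.node 2 (.node 1 (.one ⟨12663, 2, 5⟩) (.one ⟨7786, 2, 5⟩)) (.node 1 (.one ⟨11942, 2, 5⟩) (.one ⟨2697, 0, 5⟩)))))) (.node 16 (.node 8 (.node 4 (.node 2 (.node 1 (.one ⟨14815, 2, 4⟩) (.one ⟨3096, 1, 2⟩)) (.node 1 (.one ⟨5663, 2, 5⟩) (.one ⟨2701, 0, 3⟩))) (.node 2 (.node 1 (.one ⟨14975, 2, 5⟩) (.one ⟨2699, 0, 6⟩)) (.node 1 (.one ⟨13621, 0, 5⟩) (.one ⟨5317, 0, 6⟩)))) (.node 4 (.node 2 (.node 1 (.one ⟨9460, 2, 4⟩) (.one ⟨987, 2, 3⟩)) (.node 1 (.one ⟨6231, 0, 4⟩) (.one ⟨11714, 2, 6⟩))) (.node 2 (.node 1 (.one ⟨12060, 2, 2⟩) (.one ⟨5439, 0, 6⟩)) (.node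 1 (.one ⟨3687, 2, 5⟩) (.one ⟨1434, 2, 3⟩))))) (.node 8 (.node 4 (.node 2 (.node 1 (.one ⟨5348, 2, 5⟩) (.one ⟨9599, 2, 3⟩)) (.node 1 (.one ⟨13398, 2, 3⟩) (.one ⟨9337, 2, 3⟩))) (.node 2 (.node 1 (.one ⟨13459, 2, 5⟩) (.one ⟨16456, 1, 5⟩)) (.node 1 (.one ⟨5414, 2, 6⟩) (.one ⟨4119, 0, 5⟩)))) (.node 4 (.node 2 (.node 1 (.one ⟨10730, 2, 5⟩) (.one ⟨15508, 1, 3⟩)) (.node 1 (.one ⟨15146, 2, 6⟩) (.one ⟨17067, 0, 5⟩))) (.node 2 (.node 1 (.one ⟨7238, 2, 4⟩) (.one ⟨14600, 2, 1⟩)) (.node 1 (.one ⟨149, 2, 4⟩) (.one ⟨4325, 0, 4⟩)))))))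
def par9_3_3 : Arr Par :=
  (.node 32 (.node 16 (.node 8 (.node 4 (.node 2 (.node 1 (.one ⟨6288, 2, 4⟩) (.one ⟨16207, 2, 6⟩)) (.node 1 (.one ⟨14440, 0, 4⟩) (.one ⟨5354, 0, 4⟩))) (.node 2 (.node 1 (.one ⟨14529, 0, 5⟩) (.one ⟨4124, 0, 5⟩)) (.node 1 (.one ⟨923, 2, 4⟩) (.one ⟨15857, 2, 3⟩)))) (.node 4 (.node 2 (.node 1 (.one ⟨12013, 2, 3⟩) (.one ⟨10645, 2, 3⟩)) (.node 1 (.one ⟨14225, 2, 6⟩) (.one ⟨16082, 0, 4⟩))) (.node 2 (.node 1 (.one ⟨13396, 2, 3⟩) (.one ⟨4570, 0, 2⟩)) (.node 1 (.one ⟨14777, 2, 2⟩) (.one ⟨14091, 0, 2⟩))))) (.node 8 (.node 4 (.node 2 (.node 1 (.one ⟨5962, 0, 1⟩) (.one ⟨9387, 0, 3⟩)) (.node 1 (.one ⟨1596, 1, 5⟩) (.one ⟨10372, 0, 5⟩))) (.node 2 (.node 1 (.one ⟨2335, 0, 5⟩) (.one ⟨5243, 2, 6⟩))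 (.node 1 (.one ⟨6507, 0, 3⟩) (.one ⟨5409, 1, 0⟩)))) (.node 4 (.node 2 (.node 1 (.one ⟨10194, 1, 4⟩) (.one ⟨5268, 2, 4⟩)) (.node 1 (.one ⟨4557, 0, 5⟩) (.one ⟨1550, 2, 2⟩))) (.node 2 (.node 1 (.one ⟨5189, 2, 2⟩) (.one ⟨14551, 2, 5⟩)) (.node 1 (.one ⟨4935, 0, 3⟩) (.one ⟨7761, 1, 4⟩)))))) (.node 16 (.node 8 (.node 4 (.node 2 (.node 1 (.one ⟨11873, 2, 5⟩) (.one ⟨6772, 1, 5⟩)) (.node 1 (.one ⟨8690, 2, 5⟩) (.one ⟨4543, 1, 4⟩))) (.node 2 (.node 1 (.one ⟨6751, 1, 6⟩) (.one ⟨1581, 1, 4⟩)) (.node 1 (.one ⟨9873, 2, 5⟩) (.one ⟨9297, 2, 6⟩)))) (.node 4 (.node 2 (.node 1 (.one ⟨5128, 2, 5⟩) (.one ⟨5118, 2, 5⟩)) (.node 1 (.one ⟨9193, 2, 3⟩) (.one ⟨13227, 2, 5⟩))) (.node 2 (.node 1 (.one ⟨1565, 2, 5⟩) (.one ⟨1359, 2, 3⟩)) (.node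 1 (.one ⟨12224, 0, 6⟩) (.one ⟨6798, 0, 2⟩))))) (.node 8 (.node 4 (.node 2 (.node 1 (.one ⟨12630, 2, 4⟩) (.one ⟨5519, 2, 5⟩)) (.node 1 (.one ⟨2614, 2, 4⟩) (.one ⟨10789, 2, 4⟩))) (.node 2 (.node 1 (.one ⟨5921, 0, 5⟩) (.one ⟨4763, 2, 3⟩)) (.node 1 (.one ⟨6129, 1, 1⟩) (.one ⟨746, 0, 4⟩)))) (.node 4 (.node 2 (.node 1 (.one ⟨10003, 2, 4⟩) (.one ⟨3794, 0, 4⟩)) (.node 1 (.one ⟨3054, 0, 2⟩) (.one ⟨1517, 0, 4⟩))) (.node 2 (.node 1 (.one ⟨4639, 0, 4⟩) (.one ⟨3834, 0, 2⟩)) (.node 1 (.one ⟨3060, 0, 4⟩) (.one ⟨12790, 0, 5⟩)))))))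
def par9_3_4 : Arr Par :=
  (.node 32 (.node 16 (.node 8 (.node 4 (.node 2 (.node 1 (.one ⟨14556, 0, 6⟩) (.one ⟨9035, 0, 4⟩)) (.node 1 (.one ⟨9138, 2, 4⟩) (.one ⟨1054, 0, 5⟩))) (.node 2 (.node 1 (.one ⟨7993, 2, 5⟩) (.one ⟨11701, 2, 4⟩)) (.node 1 (.one ⟨11678, 2, 4⟩) (.one ⟨5185, 2, 5⟩)))) (.node 4 (.node 2 (.node 1 (.one ⟨7011, 2, 7⟩) (.one ⟨16893, 0, 4⟩)) (.node 1 (.one ⟨15811, 2, 5⟩) (.one ⟨13028, 2, 4⟩))) (.node 2 (.node 1 (.one ⟨4186, 0, 6⟩) (.one ⟨171, 2, 5⟩)) (.node 1 (.one ⟨16019, 0, 4⟩) (.one ⟨16111, 2, 5⟩))))) (.node 8 (.node 4 (.node 2 (.node 1 (.one ⟨5550, 2, 2⟩) (.one ⟨6448, 0, 6⟩)) (.node 1 (.one ⟨13070, 2, 3⟩) (.one ⟨5515, 1, 4⟩))) (.node 2 (.node 1 (.one ⟨13820, 0, 5⟩) (.one ⟨1268, 0, 6⟩)) (.node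 1 (.one ⟨10966, 0, 4⟩) (.one ⟨10525, 2, 6⟩)))) (.node 4 (.node 2 (.node 1 (.one ⟨10919, 2, 5⟩) (.one ⟨5682, 2, 1⟩)) (.node 1 (.one ⟨7414, 2, 6⟩) (.one ⟨16867, 1, 1⟩))) (.node 2 (.node 1 (.one ⟨1837, 2, 6⟩) (.one ⟨3438, 1, 5⟩)) (.node 1 (.one ⟨4023, 0, 6⟩) (.one ⟨5000, 0, 4⟩)))))) (.node 16 (.node 8 (.node 4 (.node 2 (.node 1 (.one ⟨7923, 2, 5⟩) (.one ⟨3172, 2, 3⟩)) (.node 1 (.one ⟨457, 0, 5⟩) (.one ⟨10555, 0, 4⟩))) (.node 2 (.node 1 (.one ⟨2267, 0, 3⟩) (.one ⟨5397, 0, 5⟩)) (.node 1 (.one ⟨13133, 0, 4⟩) (.one ⟨11584, 1, 2⟩)))) (.node 4 (.node 2 (.node 1 (.one ⟨4923, 2, 7⟩) (.one ⟨16649, 0, 2⟩)) (.node 1 (.one ⟨13023, 2, 6⟩) (.one ⟨527, 2, 5⟩))) (.node 2 (.node 1 (.one ⟨11927, 0, 2⟩) (.one ⟨9541, 2, 1⟩)) (.node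 1 (.one ⟨1234, 0, 4⟩) (.one ⟨12696, 0, 3⟩))))) (.node 8 (.node 4 (.node 2 (.node 1 (.one ⟨12493, 0, 4⟩) (.one ⟨4483, 2, 4⟩)) (.node 1 (.one ⟨3313, 0, 6⟩) (.one ⟨3530, 2, 4⟩))) (.node 2 (.node 1 (.one ⟨11973, 2, 3⟩) (.one ⟨6770, 0, 5⟩)) (.node 1 (.one ⟨6462, 0, 4⟩) (.one ⟨15378, 2, 6⟩)))) (.node 4 (.node 2 (.node 1 (.one ⟨16540, 0, 5⟩) (.one ⟨9996, 1, 4⟩)) (.node 1 (.one ⟨5760, 0, 5⟩) (.one ⟨1578, 2, 4⟩))) (.node 2 (.node 1 (.one ⟨3995, 0, 5⟩) (.one ⟨15203, 2, 1⟩)) (.node 1 (.one ⟨10852, 2, 6⟩) (.one ⟨9645, 0, 5⟩)))))))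
def par9_3_5 : Arr Par :=
  (.node 32 (.node 16 (.node 8 (.node 4 (.node 2 (.node 1 (.one ⟨13252, 1, 3⟩) (.one ⟨868, 2, 3⟩)) (.node 1 (.one ⟨12825, 1, 2⟩) (.one ⟨2372, 2, 4⟩))) (.node 2 (.node 1 (.one ⟨989, 0, 5⟩) (.one ⟨9014, 2, 4⟩)) (.node 1 (.one ⟨13494, 2, 6⟩) (.one ⟨11084, 2, 6⟩)))) (.node 4 (.node 2 (.node 1 (.one ⟨1013, 1, 4⟩) (.one ⟨13633, 2, 4⟩)) (.node 1 (.one ⟨7059, 1, 4⟩) (.one ⟨11601, 2, 4⟩))) (.node 2 (.node 1 (.one ⟨13301, 2, 4⟩) (.one ⟨2196, 1, 4⟩)) (.node 1 (.one ⟨11333, 0, 4⟩) (.one ⟨15841, 2, 4⟩))))) (.node 8 (.node 4 (.node 2 (.node 1 (.one ⟨15601, 2, 6⟩) (.one ⟨3344, 2, 3⟩)) (.node 1 (.one ⟨3737, 2, 3⟩) (.one ⟨1249, 2, 3⟩))) (.node 2 (.node 1 (.one ⟨5487, 2, 6⟩) (.one ⟨16911, 2, 3⟩)) (.node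 1 (.one ⟨14231, 2, 4⟩) (.one ⟨10524, 2, 3⟩)))) (.node 4 (.node 2 (.node 1 (.one ⟨2322, 1, 3⟩) (.one ⟨10622, 2, 3⟩)) (.node 1 (.one ⟨16378, 0, 4⟩) (.one ⟨12309, 2, 3⟩))) (.node 2 (.node 1 (.one ⟨2568, 1, 1⟩) (.one ⟨13012, 1, 3⟩)) (.node 1 (.one ⟨13477, 1, 6⟩) (.one ⟨1598, 0, 4⟩)))))) (.node 16 (.node 8 (.node 4 (.node 2 (.node 1 (.one ⟨5009, 0, 2⟩) (.one ⟨14875, 1, 3⟩)) (.node 1 (.one ⟨5806, 0, 4⟩) (.one ⟨2723, 0, 2⟩))) (.node 2 (.node 1 (.one ⟨14199, 1, 5⟩) (.one ⟨8815, 0, 2⟩)) (.node 1 (.one ⟨6453, 0, 2⟩) (.one ⟨17037, 2, 6⟩)))) (.node 4 (.node 2 (.node 1 (.one ⟨9001, 2, 4⟩) (.one ⟨1408, 0, 4⟩)) (.node 1 (.one ⟨17011, 2, 5⟩) (.one ⟨7672, 0, 4⟩))) (.node 2 (.node 1 (.one ⟨16078, 0, 4⟩) (.one ⟨10199, 0, 4⟩))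 (.node 1 (.one ⟨442, 0, 4⟩) (.one ⟨14873, 0, 5⟩))))) (.node 8 (.node 4 (.node 2 (.node 1 (.one ⟨15205, 1, 6⟩) (.one ⟨2695, 1, 5⟩)) (.node 1 (.one ⟨11531, 2, 6⟩) (.one ⟨14351, 1, 6⟩))) (.node 2 (.node 1 (.one ⟨14216, 2, 4⟩) (.one ⟨10421, 1, 5⟩)) (.node 1 (.one ⟨14128, 2, 6⟩) (.one ⟨3619, 0, 6⟩)))) (.node 4 (.node 2 (.node 1 (.one ⟨8736, 0, 6⟩) (.one ⟨14970, 2, 5⟩)) (.node 1 (.one ⟨6816, 2, 4⟩) (.one ⟨10090, 2, 5⟩))) (.node 2 (.node 1 (.one ⟨15987, 0, 2⟩) (.one ⟨16365, 2, 2⟩)) (.node 1 (.one ⟨9372, 1, 1⟩) (.one ⟨9518, 2, 5⟩)))))))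
def par9_3_6 : Arr Par :=
  (.node 32 (.node 16 (.node 8 (.node 4 (.node 2 (.node 1 (.one ⟨11227, 1, 5⟩) (.one ⟨2561, 1, 2⟩)) (.node 1 (.one ⟨16963, 2, 5⟩) (.one ⟨5868, 0, 4⟩))) (.node 2 (.node 1 (.one ⟨11690, 0, 4⟩) (.one ⟨16971, 2, 6⟩)) (.node 1 (.one ⟨6004, 0, 4⟩) (.one ⟨3247, 0, 4⟩)))) (.node 4 (.node 2 (.node 1 (.one ⟨13673, 1, 4⟩) (.one ⟨8795, 2, 6⟩)) (.node 1 (.one ⟨13558, 0, 4⟩) (.one ⟨16471, 2, 6⟩))) (.node 2 (.node 1 (.one ⟨14509, 2, 6⟩) (.one ⟨10940, 0, 3⟩)) (.node 1 (.one ⟨11764, 0, 4⟩) (.one ⟨9931, 0, 3⟩))))) (.node 8 (.node 4 (.node 2 (.node 1 (.one ⟨11099, 2, 5⟩) (.one ⟨5667, 2, 5⟩)) (.node 1 (.one ⟨1255, 1, 6⟩) (.one ⟨1803, 1, 3⟩))) (.node 2 (.node 1 (.one ⟨1758, 0, 3⟩) (.one ⟨17048, 1, 4⟩))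 (.node 1 (.one ⟨16668, 2, 3⟩) (.one ⟨12600, 2, 5⟩)))) (.node 4 (.node 2 (.node 1 (.one ⟨1554, 1, 1⟩) (.one ⟨2452, 2, 7⟩)) (.node 1 (.one ⟨11630, 2, 4⟩) (.one ⟨7791, 2, 4⟩))) (.node 2 (.node 1 (.one ⟨14423, 2, 7⟩) (.one ⟨15195, 2, 3⟩)) (.node 1 (.one ⟨8390, 2, 5⟩) (.one ⟨2895, 0, 3⟩)))))) (.node 16 (.node 8 (.node 4 (.node 2 (.node 1 (.one ⟨1855, 0, 4⟩) (.one ⟨11330, 0, 5⟩)) (.node 1 (.one ⟨2787, 2, 6⟩) (.one ⟨2515, 2, 3⟩))) (.node 2 (.node 1 (.one ⟨7007, 0, 4⟩) (.one ⟨14344, 0, 4⟩)) (.node 1 (.one ⟨15204, 0, 4⟩) (.one ⟨13406, 2, 4⟩)))) (.node 4 (.node 2 (.node 1 (.one ⟨3721, 1, 4⟩) (.one ⟨8713, 2, 5⟩)) (.node 1 (.one ⟨10580, 1, 6⟩) (.one ⟨11963, 1, 4⟩))) (.node 2 (.node 1 (.one ⟨14394, 2, 4⟩) (.one ⟨14349,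 0, 6⟩)) (.node 1 (.one ⟨14306, 1, 1⟩) (.one ⟨2334, 0, 3⟩))))) (.node 8 (.node 4 (.node 2 (.node 1 (.one ⟨13967, 0, 3⟩) (.one ⟨13877, 1, 4⟩)) (.node 1 (.one ⟨4890, 2, 3⟩) (.one ⟨1336, 2, 1⟩))) (.node 2 (.node 1 (.one ⟨169, 2, 3⟩) (.one ⟨15212, 0, 3⟩)) (.node 1 (.one ⟨2738, 0, 1⟩) (.one ⟨8871, 2, 6⟩)))) (.node 4 (.node 2 (.node 1 (.one ⟨8383, 2, 6⟩) (.one ⟨7796, 2, 5⟩)) (.node 1 (.one ⟨8113, 2, 6⟩) (.one ⟨9195, 1, 1⟩))) (.node 2 (.node 1 (.one ⟨11387, 2, 2⟩) (.one ⟨10313, 2, 7⟩)) (.node 1 (.one ⟨9605, 2, 7⟩) (.one ⟨11090, 2, 5⟩)))))))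
def par9_3_7 : Arr Par :=
  (.node 32 (.node 16 (.node 8 (.node 4 (.node 2 (.node 1 (.one ⟨13305, 2, 5⟩) (.one ⟨4395, 2, 3⟩)) (.node 1 (.one ⟨1008, 2, 5⟩) (.one ⟨3734, 1, 2⟩))) (.node 2 (.node 1 (.one ⟨4891, 2, 4⟩) (.one ⟨11809, 2, 6⟩)) (.node 1 (.one ⟨9898, 0, 3⟩) (.one ⟨1063, 0, 4⟩)))) (.node 4 (.node 2 (.node 1 (.one ⟨823, 0, 3⟩) (.one ⟨11185, 1, 5⟩)) (.node 1 (.one ⟨5984, 1, 3⟩) (.one ⟨12026, 2, 2⟩))) (.node 2 (.node 1 (.one ⟨821, 0, 3⟩) (.one ⟨6242, 1, 2⟩)) (.node 1 (.one ⟨5387, 2, 5⟩) (.one ⟨1996, 2, 7⟩))))) (.node 8 (.node 4 (.node 2 (.node 1 (.one ⟨9445, 2, 5⟩) (.one ⟨4048, 1, 1⟩)) (.node 1 (.one ⟨13309, 2, 6⟩) (.one ⟨10100, 2, 4⟩))) (.node 2 (.node 1 (.one ⟨272, 2, 4⟩) (.one ⟨460, 0, 6⟩)) (.node 1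 (.one ⟨9371, 1, 1⟩) (.one ⟨2135, 2, 3⟩)))) (.node 4 (.node 2 (.node 1 (.one ⟨5716, 2, 5⟩) (.one ⟨6057, 2, 6⟩)) (.node 1 (.one ⟨5699, 1, 1⟩) (.one ⟨2328, 2, 3⟩))) (.node 2 (.node 1 (.one ⟨6483, 2, 3⟩) (.one ⟨6386, 2, 3⟩)) (.node 1 (.one ⟨832, 0, 4⟩) (.one ⟨12333, 2, 6⟩)))))) (.node 16 (.node 8 (.node 4 (.node 2 (.node 1 (.one ⟨8199, 0, 6⟩) (.one ⟨11368, 1, 1⟩)) (.node 1 (.one ⟨3758, 2, 6⟩) (.one ⟨12195, 2, 3⟩))) (.node 2 (.node 1 (.one ⟨231, 2, 4⟩) (.one ⟨10358, 2, 6⟩)) (.node 1 (.one ⟨9710, 0, 3⟩) (.one ⟨7806, 1, 3⟩)))) (.node 4 (.node 2 (.node 1 (.one ⟨5137, 0, 5⟩) (.one ⟨12795, 2, 4⟩)) (.node 1 (.one ⟨12750, 0, 5⟩) (.one ⟨3680, 2, 4⟩))) (.node 2 (.node 1 (.one ⟨6486, 2, 5⟩) (.one ⟨2737, 0, 5⟩)) (.node 1 (.one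 ⟨5468, 1, 0⟩) (.one ⟨5471, 1, 0⟩))))) (.node 8 (.node 4 (.node 2 (.node 1 (.one ⟨13868, 2, 3⟩) (.one ⟨6848, 0, 4⟩)) (.node 1 (.one ⟨4468, 2, 5⟩) (.one ⟨13060, 0, 4⟩))) (.node 2 (.node 1 (.one ⟨15744, 0, 4⟩) (.one ⟨942, 2, 3⟩)) (.node 1 (.one ⟨11129, 0, 5⟩) (.one ⟨5874, 2, 2⟩)))) (.node 4 (.node 2 (.node 1 (.one ⟨5889, 0, 4⟩) (.one ⟨12770, 0, 5⟩)) (.node 1 (.one ⟨6919, 0, 4⟩) (.one ⟨5885, 0, 2⟩))) (.node 2 (.node 1 (.one ⟨11824, 0, 5⟩) (.one ⟨6895, 0, 5⟩)) (.node 1 (.one ⟨12733, 0, 5⟩) (.one ⟨8306, 2, 5⟩)))))))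
def par9_3_8 : Arr Par :=
  (.node 32 (.node 16 (.node 8 (.node 4 (.node 2 (.node 1 (.one ⟨15297, 2, 3⟩) (.one ⟨5476, 1, 0⟩)) (.node 1 (.one ⟨7010, 2, 2⟩) (.one ⟨5265, 2, 6⟩))) (.node 2 (.node 1 (.one ⟨10794, 2, 3⟩) (.one ⟨12985, 2, 5⟩)) (.node 1 (.one ⟨7851, 0, 5⟩) (.one ⟨13082, 2, 5⟩)))) (.node 4 (.node 2 (.node 1 (.one ⟨12910, 0, 5⟩) (.one ⟨8318, 2, 5⟩)) (.node 1 (.one ⟨1689, 0, 4⟩) (.one ⟨10295, 2, 3⟩))) (.node 2 (.node 1 (.one ⟨5361, 2, 2⟩) (.one ⟨6622, 2, 6⟩)) (.node 1 (.one ⟨15937, 2, 5⟩) (.one ⟨5360, 2, 3⟩))))) (.node 8 (.node 4 (.node 2 (.node 1 (.one ⟨10023, 0, 4⟩) (.one ⟨11911, 2, 3⟩)) (.node 1 (.one ⟨8305, 2, 2⟩) (.one ⟨6081, 2, 3⟩))) (.node 2 (.node 1 (.one ⟨14991, 0, 4⟩) (.one ⟨15626, 2, 4⟩))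 (.node 1 (.one ⟨3112, 2, 1⟩) (.one ⟨13949, 1, 6⟩)))) (.node 4 (.node 2 (.node 1 (.one ⟨8359, 2, 5⟩) (.one ⟨12750, 2, 5⟩)) (.node 1 (.one ⟨4108, 2, 4⟩) (.one ⟨571, 2, 4⟩))) (.node 2 (.node 1 (.one ⟨11393, 2, 5⟩) (.one ⟨9403, 0, 5⟩)) (.node 1 (.one ⟨15591, 2, 4⟩) (.one ⟨16754, 1, 3⟩)))))) (.node 16 (.node 8 (.node 4 (.node 2 (.node 1 (.one ⟨188, 2, 5⟩) (.one ⟨767, 2, 5⟩)) (.node 1 (.one ⟨878, 2, 3⟩) (.one ⟨293, 2, 5⟩))) (.node 2 (.node 1 (.one ⟨11128, 0, 5⟩) (.one ⟨981, 2, 5⟩)) (.node 1 (.one ⟨2621, 0, 5⟩) (.one ⟨468, 2, 4⟩)))) (.node 4 (.node 2 (.node 1 (.one ⟨11681, 0, 2⟩) (.one ⟨12479, 0, 4⟩)) (.node 1 (.one ⟨8310, 2, 2⟩) (.one ⟨8272, 2, 5⟩))) (.node 2 (.node 1 (.one ⟨12361, 2, 5⟩) (.one ⟨4327, 1, 3⟩)) (.node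 1 (.one ⟨1659, 2, 4⟩) (.one ⟨5014, 1, 0⟩))))) (.node 8 (.node 4 (.node 2 (.node 1 (.one ⟨12656, 0, 2⟩) (.one ⟨11094, 2, 5⟩)) (.node 1 (.one ⟨5102, 2, 6⟩) (.one ⟨8253, 2, 5⟩))) (.node 2 (.node 1 (.one ⟨13837, 2, 6⟩) (.one ⟨12500, 2, 2⟩)) (.node 1 (.one ⟨486, 2, 6⟩) (.one ⟨5792, 2, 5⟩)))) (.node 4 (.node 2 (.node 1 (.one ⟨4526, 2, 3⟩) (.one ⟨4992, 2, 5⟩)) (.node 1 (.one ⟨74, 1, 1⟩) (.one ⟨1641, 0, 3⟩))) (.node 2 (.node 1 (.one ⟨5497, 2, 5⟩) (.one ⟨3734, 2, 2⟩)) (.node 1 (.one ⟨6271, 2, 3⟩) (.one ⟨8164, 1, 5⟩)))))))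
def par9_3_9 : Arr Par :=
  (.node 32 (.node 16 (.node 8 (.node 4 (.node 2 (.node 1 (.one ⟨584, 2, 3⟩) (.one ⟨9330, 2, 3⟩)) (.node 1 (.one ⟨1425, 2, 3⟩) (.one ⟨2068, 2, 5⟩))) (.node 2 (.node 1 (.one ⟨13083, 0, 2⟩) (.one ⟨1969, 2, 5⟩)) (.node 1 (.one ⟨10122, 2, 6⟩) (.one ⟨5928, 2, 4⟩)))) (.node 4 (.node 2 (.node 1 (.one ⟨3874, 1, 1⟩) (.one ⟨8738, 0, 5⟩)) (.node 1 (.one ⟨4506, 1, 6⟩) (.one ⟨15663, 2, 3⟩))) (.node 2 (.node 1 (.one ⟨6034, 2, 5⟩) (.one ⟨10065, 2, 3⟩)) (.node 1 (.one ⟨3609, 2, 6⟩) (.one ⟨13142, 2, 4⟩))))) (.node 8 (.node 4 (.node 2 (.node 1 (.one ⟨8994, 0, 2⟩) (.one ⟨11629, 2, 5⟩)) (.node 1 (.one ⟨1601, 0, 5⟩) (.one ⟨8118, 2, 6⟩))) (.node 2 (.node 1 (.one ⟨9302, 1, 1⟩) (.one ⟨8389, 2, 6⟩)) (.node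 1 (.one ⟨9389, 1, 1⟩) (.one ⟨3957, 2, 5⟩)))) (.node 4 (.node 2 (.node 1 (.one ⟨8886, 0, 6⟩) (.one ⟨11109, 2, 3⟩)) (.node 1 (.one ⟨10767, 0, 3⟩) (.one ⟨1724, 0, 2⟩))) (.node 2 (.node 1 (.one ⟨5355, 0, 5⟩) (.one ⟨16794, 0, 5⟩)) (.node 1 (.one ⟨4005, 2, 6⟩) (.one ⟨12483, 2, 4⟩)))))) (.node 16 (.node 8 (.node 4 (.node 2 (.node 1 (.one ⟨5695, 2, 3⟩) (.one ⟨1130, 2, 6⟩)) (.node 1 (.one ⟨16329, 2, 6⟩) (.one ⟨1607, 2, 4⟩))) (.node 2 (.node 1 (.one ⟨6571, 0, 3⟩) (.one ⟨12549, 2, 5⟩)) (.node 1 (.one ⟨9926, 1, 6⟩) (.one ⟨1987, 0, 4⟩)))) (.node 4 (.node 2 (.node 1 (.one ⟨16522, 0, 5⟩) (.one ⟨16772, 0, 5⟩)) (.node 1 (.one ⟨5921, 2, 5⟩) (.one ⟨13810, 2, 3⟩))) (.node 2 (.node 1 (.one ⟨6872, 0, 5⟩) (.one ⟨5834, 2, 4⟩)) (.node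 1 (.one ⟨1517, 2, 4⟩) (.one ⟨10250, 0, 4⟩))))) (.node 8 (.node 4 (.node 2 (.node 1 (.one ⟨1203, 0, 4⟩) (.one ⟨8978, 2, 6⟩)) (.node 1 (.one ⟨3763, 1, 4⟩) (.one ⟨4430, 0, 4⟩))) (.node 2 (.node 1 (.one ⟨12359, 2, 5⟩) (.one ⟨3759, 1, 2⟩)) (.node 1 (.one ⟨15066, 2, 6⟩) (.one ⟨10812, 1, 2⟩)))) (.node 4 (.node 2 (.node 1 (.one ⟨16242, 2, 5⟩) (.one ⟨16395, 2, 3⟩)) (.node 1 (.one ⟨2783, 0, 5⟩) (.one ⟨10845, 2, 5⟩))) (.node 2 (.node 1 (.one ⟨4097, 2, 4⟩) (.one ⟨612, 0, 5⟩)) (.node 1 (.one ⟨10978, 2, 5⟩) (.one ⟨16808, 2, 6⟩)))))))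
def par9_3_10 : Arr Par :=
  (.node 32 (.node 16 (.node 8 (.node 4 (.node 2 (.node 1 (.one ⟨12145, 2, 5⟩) (.one ⟨12306, 2, 4⟩)) (.node 1 (.one ⟨16478, 2, 4⟩) (.one ⟨8123, 0, 4⟩))) (.node 2 (.node 1 (.one ⟨7765, 2, 2⟩) (.one ⟨7867, 2, 6⟩)) (.node 1 (.one ⟨5131, 2, 5⟩) (.one ⟨13855, 1, 4⟩)))) (.node 4 (.node 2 (.node 1 (.one ⟨11434, 0, 4⟩) (.one ⟨10048, 1, 3⟩)) (.node 1 (.one ⟨16264, 2, 2⟩) (.one ⟨15509, 2, 5⟩))) (.node 2 (.node 1 (.one ⟨16482, 2, 4⟩) (.one ⟨8698, 1, 5⟩)) (.node 1 (.one ⟨13380, 2, 3⟩) (.one ⟨4863, 0, 4⟩))))) (.node 8 (.node 4 (.node 2 (.node 1 (.one ⟨8989, 0, 3⟩) (.one ⟨1806, 0, 2⟩)) (.node 1 (.one ⟨6416, 0, 5⟩) (.one ⟨2591, 2, 2⟩))) (.node 2 (.node 1 (.one ⟨13386, 2, 5⟩) (.one ⟨6314, 0, 4⟩))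 (.node 1 (.one ⟨624, 0, 1⟩) (.one ⟨13067, 2, 2⟩)))) (.node 4 (.node 2 (.node 1 (.one ⟨16651, 2, 3⟩) (.one ⟨4175, 2, 2⟩)) (.node 1 (.one ⟨8338, 2, 3⟩) (.one ⟨14036, 0, 5⟩))) (.node 2 (.node 1 (.one ⟨2063, 0, 4⟩) (.one ⟨10810, 0, 5⟩)) (.node 1 (.one ⟨4612, 1, 6⟩) (.one ⟨9639, 0, 5⟩)))))) (.node 16 (.node 8 (.node 4 (.node 2 (.node 1 (.one ⟨328, 1, 4⟩) (.one ⟨5603, 2, 3⟩)) (.node 1 (.one ⟨7816, 0, 5⟩) (.one ⟨7251, 0, 6⟩))) (.node 2 (.node 1 (.one ⟨13976, 2, 4⟩) (.one ⟨11288, 2, 4⟩)) (.node 1 (.one ⟨13237, 0, 4⟩) (.one ⟨6354, 2, 6⟩)))) (.node 4 (.node 2 (.node 1 (.one ⟨3502, 0, 2⟩) (.one ⟨7662, 2, 5⟩)) (.node 1 (.one ⟨10643, 0, 5⟩) (.one ⟨6351, 2, 1⟩))) (.node 2 (.node 1 (.one ⟨1285, 1, 1⟩) (.one ⟨3491, 0, 4⟩))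 (.node 1 (.one ⟨10807, 0, 5⟩) (.one ⟨1776, 1, 1⟩))))) (.node 8 (.node 4 (.node 2 (.node 1 (.one ⟨15375, 2, 4⟩) (.one ⟨1780, 1, 6⟩)) (.node 1 (.one ⟨16311, 0, 4⟩) (.one ⟨8320, 0, 3⟩))) (.node 2 (.node 1 (.one ⟨10252, 0, 4⟩) (.one ⟨1775, 1, 6⟩)) (.node 1 (.one ⟨3231, 2, 6⟩) (.one ⟨4151, 2, 3⟩)))) (.node 4 (.node 2 (.node 1 (.one ⟨6843, 2, 3⟩) (.one ⟨9626, 0, 6⟩)) (.node 1 (.one ⟨16468, 2, 5⟩) (.one ⟨15576, 2, 4⟩))) (.node 2 (.node 1 (.one ⟨11734, 2, 4⟩) (.one ⟨8766, 2, 4⟩)) (.node 1 (.one ⟨9399, 0, 5⟩) (.one ⟨11999, 2, 4⟩)))))))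
def par9_3_11 : Arr Par :=
  (.node 32 (.node 16 (.node 8 (.node 4 (.node 2 (.node 1 (.one ⟨9565, 1, 1⟩) (.one ⟨4200, 1, 4⟩)) (.node 1 (.one ⟨9629, 0, 4⟩) (.one ⟨12002, 2, 6⟩))) (.node 2 (.node 1 (.one ⟨3496, 0, 5⟩) (.one ⟨7387, 0, 5⟩)) (.node 1 (.one ⟨11505, 0, 5⟩) (.one ⟨9946, 1, 4⟩)))) (.node 4 (.node 2 (.node 1 (.one ⟨12541, 0, 6⟩) (.one ⟨11364, 0, 3⟩)) (.node 1 (.one ⟨15103, 2, 5⟩) (.one ⟨9858, 2, 4⟩))) (.node 2 (.node 1 (.one ⟨16465, 0, 5⟩) (.one ⟨14120, 0, 5⟩)) (.node 1 (.one ⟨1878, 1, 3⟩) (.one ⟨8759, 2, 5⟩))))) (.node 8 (.node 4 (.node 2 (.node 1 (.one ⟨7406, 0, 5⟩) (.one ⟨16871, 2, 3⟩)) (.node 1 (.one ⟨14000, 0, 3⟩) (.one ⟨5181, 1, 0⟩))) (.node 2 (.node 1 (.one ⟨1312, 0, 3⟩) (.one ⟨7553, 0, 3⟩)) (.node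 1 (.one ⟨11532, 0, 3⟩) (.one ⟨3752, 0, 3⟩)))) (.node 4 (.node 2 (.node 1 (.one ⟨811, 0, 4⟩) (.one ⟨1802, 2, 1⟩)) (.node 1 (.one ⟨15908, 2, 4⟩) (.one ⟨2229, 0, 2⟩))) (.node 2 (.node 1 (.one ⟨739, 2, 5⟩) (.one ⟨17086, 0, 4⟩)) (.node 1 (.one ⟨14823, 2, 3⟩) (.one ⟨14923, 0, 3⟩)))))) (.node 16 (.node 8 (.node 4 (.node 2 (.node 1 (.one ⟨8344, 2, 6⟩) (.one ⟨9692, 2, 3⟩)) (.node 1 (.one ⟨12212, 2, 5⟩) (.one ⟨16006, 2, 5⟩))) (.node 2 (.node 1 (.one ⟨422, 1, 3⟩) (.one ⟨4208, 1, 4⟩)) (.node 1 (.one ⟨13987, 0, 6⟩) (.one ⟨8651, 0, 5⟩)))) (.node 4 (.node 2 (.node 1 (.one ⟨7166, 0, 4⟩) (.one ⟨4512, 0, 4⟩)) (.node 1 (.one ⟨1593, 0, 4⟩) (.one ⟨10277, 2, 4⟩))) (.node 2 (.node 1 (.one ⟨12525, 0, 2⟩) (.one ⟨15360, 0, 2⟩)) (.node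 1 (.one ⟨13179, 1, 3⟩) (.one ⟨6458, 1, 2⟩))))) (.node 8 (.node 4 (.node 2 (.node 1 (.one ⟨490, 0, 4⟩) (.one ⟨16371, 0, 3⟩)) (.node 1 (.one ⟨2018, 0, 4⟩) (.one ⟨7673, 2, 4⟩))) (.node 2 (.node 1 (.one ⟨16335, 0, 4⟩) (.one ⟨1662, 0, 4⟩)) (.node 1 (.one ⟨16231, 0, 6⟩) (.one ⟨2369, 2, 6⟩)))) (.node 4 (.node 2 (.node 1 (.one ⟨16582, 0, 6⟩) (.one ⟨7230, 1, 3⟩)) (.node 1 (.one ⟨611, 0, 1⟩) (.one ⟨8488, 2, 6⟩))) (.node 2 (.node 1 (.one ⟨931, 1, 4⟩) (.one ⟨1321, 0, 5⟩)) (.node 1 (.one ⟨10365, 1, 3⟩) (.one ⟨4222, 2, 4⟩)))))))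
def par9_3_12 : Arr Par :=
  (.node 32 (.node 16 (.node 8 (.node 4 (.node 2 (.node 1 (.one ⟨12263, 2, 4⟩) (.one ⟨4426, 0, 4⟩)) (.node 1 (.one ⟨4519, 0, 3⟩) (.one ⟨63, 2, 1⟩))) (.node 2 (.node 1 (.one ⟨11552, 0, 3⟩) (.one ⟨1394, 2, 2⟩)) (.node 1 (.one ⟨9236, 2, 3⟩) (.one ⟨9122, 2, 5⟩)))) (.node 4 (.node 2 (.node 1 (.one ⟨10578, 0, 5⟩) (.one ⟨13637, 2, 5⟩)) (.node 1 (.one ⟨14660, 0, 3⟩) (.one ⟨14030, 2, 5⟩))) (.node 2 (.node 1 (.one ⟨13423, 2, 4⟩) (.one ⟨17031, 0, 1⟩)) (.node 1 (.one ⟨16485, 0, 5⟩) (.one ⟨7461, 2, 3⟩))))) (.node 8 (.node 4 (.node 2 (.node 1 (.one ⟨8716, 2, 4⟩) (.one ⟨14875, 0, 3⟩)) (.node 1 (.one ⟨10377, 2, 2⟩) (.one ⟨3862, 2, 6⟩))) (.node 2 (.node 1 (.one ⟨5550, 1, 2⟩) (.one ⟨15256, 2, 5⟩))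 (.node 1 (.one ⟨16614, 2, 5⟩) (.one ⟨3035, 0, 2⟩)))) (.node 4 (.node 2 (.node 1 (.one ⟨4953, 1, 3⟩) (.one ⟨16052, 2, 3⟩)) (.node 1 (.one ⟨8025, 1, 3⟩) (.one ⟨11425, 1, 2⟩))) (.node 2 (.node 1 (.one ⟨1806, 2, 2⟩) (.one ⟨6887, 2, 3⟩)) (.node 1 (.one ⟨7025, 2, 1⟩) (.one ⟨5317, 1, 0⟩)))))) (.node 16 (.node 8 (.node 4 (.node 2 (.node 1 (.one ⟨9886, 2, 1⟩) (.one ⟨15734, 1, 3⟩)) (.node 1 (.one ⟨5363, 1, 0⟩) (.one ⟨1507, 0, 4⟩))) (.node 2 (.node 1 (.one ⟨10629, 2, 5⟩) (.one ⟨5483, 0, 1⟩)) (.node 1 (.one ⟨14156, 2, 6⟩) (.one ⟨9208, 0, 5⟩)))) (.node 4 (.node 2 (.node 1 (.one ⟨7413, 0, 6⟩) (.one ⟨1515, 2, 4⟩)) (.node 1 (.one ⟨12663, 0, 5⟩) (.one ⟨6965, 0, 5⟩))) (.node 2 (.node 1 (.one ⟨12265, 2, 5⟩) (.one ⟨13423, 0, 4⟩))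 (.node 1 (.one ⟨8029, 0, 4⟩) (.one ⟨2669, 0, 3⟩))))) (.node 8 (.node 4 (.node 2 (.node 1 (.one ⟨6439, 0, 3⟩) (.one ⟨16661, 2, 3⟩)) (.node 1 (.one ⟨4978, 0, 4⟩) (.one ⟨14699, 1, 2⟩))) (.node 2 (.node 1 (.one ⟨3606, 2, 2⟩) (.one ⟨5344, 0, 5⟩)) (.node 1 (.one ⟨16422, 1, 4⟩) (.one ⟨7941, 0, 4⟩)))) (.node 4 (.node 2 (.node 1 (.one ⟨2960, 0, 2⟩) (.one ⟨5027, 1, 0⟩)) (.node 1 (.one ⟨10407, 2, 2⟩) (.one ⟨6046, 2, 7⟩))) (.node 2 (.node 1 (.one ⟨14555, 2, 4⟩) (.one ⟨3874, 0, 1⟩)) (.node 1 (.one ⟨887, 2, 5⟩) (.one ⟨5507, 2, 6⟩)))))))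
def par9_3_13 : Arr Par :=
  (.node 32 (.node 16 (.node 8 (.node 4 (.node 2 (.node 1 (.one ⟨11158, 0, 4⟩) (.one ⟨789, 2, 5⟩)) (.node 1 (.one ⟨2160, 2, 6⟩) (.one ⟨15966, 1, 4⟩))) (.node 2 (.node 1 (.one ⟨10936, 2, 4⟩) (.one ⟨12320, 2, 4⟩)) (.node 1 (.one ⟨12131, 2, 5⟩) (.one ⟨16862, 2, 2⟩)))) (.node 4 (.node 2 (.node 1 (.one ⟨13515, 2, 4⟩) (.one ⟨17179, 1, 4⟩)) (.node 1 (.one ⟨3464, 2, 5⟩) (.one ⟨11741, 2, 7⟩))) (.node 2 (.node 1 (.one ⟨15868, 2, 4⟩) (.one ⟨1939, 2, 2⟩)) (.node 1 (.one ⟨5880, 2, 2⟩) (.one ⟨2233, 0, 5⟩))))) (.node 8 (.node 4 (.node 2 (.node 1 (.one ⟨8331, 2, 3⟩) (.one ⟨11425, 2, 2⟩)) (.node 1 (.one ⟨15976, 0, 4⟩) (.one ⟨8851, 2, 3⟩))) (.node 2 (.node 1 (.one ⟨2931, 2, 3⟩) (.one ⟨6425, 0, 4⟩))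 (.node 1 (.one ⟨10754, 2, 4⟩) (.one ⟨2173, 2, 5⟩)))) (.node 4 (.node 2 (.node 1 (.one ⟨10115, 1, 4⟩) (.one ⟨701, 2, 4⟩)) (.node 1 (.one ⟨13389, 0, 4⟩) (.one ⟨12332, 2, 4⟩))) (.node 2 (.node 1 (.one ⟨10414, 2, 6⟩) (.one ⟨12134, 2, 4⟩)) (.node 1 (.one ⟨10702, 2, 5⟩) (.one ⟨12767, 2, 4⟩)))))) (.node 16 (.node 8 (.node 4 (.node 2 (.node 1 (.one ⟨8096, 2, 2⟩) (.one ⟨14186, 1, 6⟩)) (.node 1 (.one ⟨8374, 0, 2⟩) (.one ⟨15086, 2, 2⟩))) (.node 2 (.node 1 (.one ⟨1392, 0, 2⟩) (.one ⟨14111, 2, 4⟩)) (.node 1 (.one ⟨2807, 2, 5⟩) (.one ⟨1935, 2, 4⟩)))) (.node 4 (.node 2 (.node 1 (.one ⟨6715, 2, 4⟩) (.one ⟨799, 0, 3⟩)) (.node 1 (.one ⟨1829, 2, 4⟩) (.one ⟨7994, 0, 6⟩))) (.node 2 (.node 1 (.one ⟨8371, 0, 1⟩) (.one ⟨13953, 2,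 6⟩)) (.node 1 (.one ⟨10933, 2, 3⟩) (.one ⟨16182, 1, 4⟩))))) (.node 8 (.node 4 (.node 2 (.node 1 (.one ⟨16800, 0, 2⟩) (.one ⟨4648, 1, 4⟩)) (.node 1 (.one ⟨7329, 0, 4⟩) (.one ⟨3799, 1, 4⟩))) (.node 2 (.node 1 (.one ⟨12401, 0, 5⟩) (.one ⟨9865, 2, 4⟩)) (.node 1 (.one ⟨1816, 0, 4⟩) (.one ⟨5951, 2, 1⟩)))) (.node 4 (.node 2 (.node 1 (.one ⟨2960, 2, 2⟩) (.one ⟨10545, 2, 4⟩)) (.node 1 (.one ⟨1511, 0, 4⟩) (.one ⟨5788, 2, 1⟩))) (.node 2 (.node 1 (.one ⟨2751, 2, 4⟩) (.one ⟨12415, 0, 4⟩)) (.node 1 (.one ⟨13699, 1, 2⟩) (.one ⟨17086, 2, 4⟩)))))))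
def par9_3_14 : Arr Par :=
  (.node 32 (.node 16 (.node 8 (.node 4 (.node 2 (.node 1 (.one ⟨12424, 1, 4⟩) (.one ⟨289, 1, 5⟩)) (.node 1 (.one ⟨4912, 1, 3⟩) (.one ⟨4378, 1, 2⟩))) (.node 2 (.node 1 (.one ⟨3242, 1, 5⟩) (.one ⟨13002, 1, 5⟩)) (.node 1 (.one ⟨9352, 1, 3⟩) (.one ⟨16277, 0, 2⟩)))) (.node 4 (.node 2 (.node 1 (.one ⟨12394, 0, 5⟩) (.one ⟨3625, 2, 5⟩)) (.node 1 (.one ⟨439, 2, 5⟩) (.one ⟨10856, 2, 4⟩))) (.node 2 (.node 1 (.one ⟨5247, 0, 5⟩) (.one ⟨9356, 1, 1⟩)) (.node 1 (.one ⟨16589, 2, 5⟩) (.one ⟨15542, 2, 5⟩))))) (.node 8 (.node 4 (.node 2 (.node 1 (.one ⟨10944, 2, 4⟩) (.one ⟨514, 1, 4⟩)) (.node 1 (.one ⟨15055, 2, 4⟩) (.one ⟨1571, 0, 5⟩))) (.node 2 (.node 1 (.one ⟨2428, 2, 6⟩) (.one ⟨11646, 0, 4⟩)) (.node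 1 (.one ⟨6235, 2, 6⟩) (.one ⟨10812, 2, 2⟩)))) (.node 4 (.node 2 (.node 1 (.one ⟨14925, 2, 2⟩) (.one ⟨5783, 2, 2⟩)) (.node 1 (.one ⟨13567, 0, 4⟩) (.one ⟨12683, 1, 4⟩))) (.node 2 (.node 1 (.one ⟨9686, 0, 5⟩) (.one ⟨11179, 2, 4⟩)) (.node 1 (.one ⟨14700, 2, 4⟩) (.one ⟨12537, 0, 4⟩)))))) (.node 16 (.node 8 (.node 4 (.node 2 (.node 1 (.one ⟨10354, 0, 2⟩) (.one ⟨2962, 2, 3⟩)) (.node 1 (.one ⟨10524, 0, 3⟩) (.one ⟨15759, 2, 5⟩))) (.node 2 (.node 1 (.one ⟨2949, 2, 3⟩) (.one ⟨16671, 2, 5⟩)) (.node 1 (.one ⟨980, 2, 5⟩) (.one ⟨6853, 0, 3⟩)))) (.node 4 (.node 2 (.node 1 (.one ⟨2754, 2, 5⟩) (.one ⟨11957, 0, 3⟩)) (.node 1 (.one ⟨2057, 2, 3⟩) (.one ⟨9916, 0, 4⟩))) (.node 2 (.node 1 (.one ⟨4173, 0, 3⟩) (.one ⟨13169, 2, 3⟩))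 (.node 1 (.one ⟨2924, 2, 3⟩) (.one ⟨6896, 0, 5⟩))))) (.node 8 (.node 4 (.node 2 (.node 1 (.one ⟨3353, 0, 2⟩) (.one ⟨5372, 1, 2⟩)) (.node 1 (.one ⟨7948, 0, 5⟩) (.one ⟨5969, 2, 4⟩))) (.node 2 (.node 1 (.one ⟨3364, 0, 4⟩) (.one ⟨4120, 0, 4⟩)) (.node 1 (.one ⟨7920, 0, 5⟩) (.one ⟨11491, 0, 5⟩)))) (.node 4 (.node 2 (.node 1 (.one ⟨1337, 0, 3⟩) (.one ⟨9972, 2, 6⟩)) (.node 1 (.one ⟨16436, 2, 5⟩) (.one ⟨1437, 0, 3⟩))) (.node 2 (.node 1 (.one ⟨11472, 0, 3⟩) (.one ⟨608, 0, 3⟩)) (.node 1 (.one ⟨8830, 2, 4⟩) (.one ⟨2841, 1, 3⟩)))))))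
def par9_3_15 : Arr Par :=
  (.node 32 (.node 16 (.node 8 (.node 4 (.node 2 (.node 1 (.one ⟨13391, 2, 3⟩) (.one ⟨3250, 2, 4⟩)) (.node 1 (.one ⟨7976, 2, 3⟩) (.one ⟨13553, 2, 7⟩))) (.node 2 (.node 1 (.one ⟨11387, 1, 2⟩) (.one ⟨16275, 0, 6⟩)) (.node 1 (.one ⟨10363, 1, 2⟩) (.one ⟨14898, 1, 4⟩)))) (.node 4 (.node 2 (.node 1 (.one ⟨6911, 2, 4⟩) (.one ⟨4123, 0, 5⟩)) (.node 1 (.one ⟨16031, 2, 6⟩) (.one ⟨1020, 2, 4⟩))) (.node 2 (.node 1 (.one ⟨6461, 2, 5⟩) (.one ⟨12790, 2, 5⟩)) (.node 1 (.one ⟨17166, 2, 5⟩) (.one ⟨5722, 2, 5⟩))))) (.node 8 (.node 4 (.node 2 (.node 1 (.one ⟨5360, 1, 0⟩) (.one ⟨4966, 0, 0⟩)) (.node 1 (.one ⟨2395, 2, 2⟩) (.one ⟨14485, 2, 1⟩))) (.node 2 (.node 1 (.one ⟨5482, 0, 2⟩) (.one ⟨3897, 0, 1⟩))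 (.node 1 (.one ⟨14614, 1, 3⟩) (.one ⟨6417, 1, 6⟩)))) (.node 4 (.node 2 (.node 1 (.one ⟨4664, 0, 6⟩) (.one ⟨1087, 0, 2⟩)) (.node 1 (.one ⟨7734, 1, 5⟩) (.one ⟨6103, 0, 3⟩))) (.node 2 (.node 1 (.one ⟨15943, 0, 6⟩) (.one ⟨14895, 0, 6⟩)) (.node 1 (.one ⟨10485, 2, 2⟩) (.one ⟨12202, 2, 4⟩)))))) (.node 16 (.node 8 (.node 4 (.node 2 (.node 1 (.one ⟨4045, 0, 6⟩) (.one ⟨8250, 2, 5⟩)) (.node 1 (.one ⟨2577, 0, 5⟩) (.one ⟨13634, 2, 4⟩))) (.node 2 (.node 1 (.one ⟨624, 1, 1⟩) (.one ⟨3886, 0, 5⟩)) (.node 1 (.one ⟨12261, 2, 4⟩) (.one ⟨100, 2, 7⟩)))) (.node 4 (.node 2 (.node 1 (.one ⟨1369, 0, 4⟩) (.one ⟨6347, 2, 5⟩)) (.node 1 (.one ⟨14533, 2, 4⟩) (.one ⟨7668, 2, 4⟩))) (.node 2 (.node 1 (.one ⟨16124, 2, 5⟩) (.one ⟨81, 0, 1⟩))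 (.node 1 (.one ⟨12371, 2, 3⟩) (.one ⟨3559, 0, 4⟩))))) (.node 8 (.node 4 (.node 2 (.node 1 (.one ⟨4110, 0, 5⟩) (.one ⟨4335, 0, 5⟩)) (.node 1 (.one ⟨14998, 2, 4⟩) (.one ⟨2693, 0, 5⟩))) (.node 2 (.node 1 (.one ⟨1975, 0, 5⟩) (.one ⟨1156, 0, 5⟩)) (.node 1 (.one ⟨2312, 0, 2⟩) (.one ⟨8498, 0, 3⟩)))) (.node 4 (.node 2 (.node 1 (.one ⟨3866, 2, 4⟩) (.one ⟨3908, 2, 5⟩)) (.node 1 (.one ⟨15442, 2, 3⟩) (.one ⟨2448, 2, 4⟩))) (.node 2 (.node 1 (.one ⟨16673, 0, 5⟩) (.one ⟨16719, 2, 4⟩)) (.node 1 (.one ⟨8530, 0, 4⟩) (.one ⟨2464, 1, 5⟩)))))))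
def par9_3 : Arr Par :=
  (.node 512 (.node 256 (.node 128 (.node 64 par9_3_0 par9_3_1) (.node 64 par9_3_2 par9_3_3)) (.node 128 (.node 64 par9_3_4 par9_3_5) (.node 64 par9_3_6 par9_3_7))) (.node 256 (.node 128 (.node 64 par9_3_8 par9_3_9) (.node 64 par9_3_10 par9_3_11)) (.node 128 (.node 64 par9_3_12 par9_3_13) (.node 64 par9_3_14 par9_3_15))))
def par9_4_0 : Arr Par :=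
  (.node 32 (.node 16 (.node 8 (.node 4 (.node 2 (.node 1 (.one ⟨16937, 2, 2⟩) (.one ⟨1645, 0, 3⟩)) (.node 1 (.one ⟨4524, 0, 4⟩) (.one ⟨12494, 0, 3⟩))) (.node 2 (.node 1 (.one ⟨9628, 0, 4⟩) (.one ⟨3361, 2, 4⟩)) (.node 1 (.one ⟨7484, 2, 4⟩) (.one ⟨2112, 0, 3⟩)))) (.node 4 (.node 2 (.node 1 (.one ⟨9845, 2, 5⟩) (.one ⟨7086, 0, 2⟩)) (.node 1 (.one ⟨8363, 0, 3⟩) (.one ⟨15690, 1, 2⟩))) (.node 2 (.node 1 (.one ⟨13810, 0, 3⟩) (.one ⟨7153, 1, 3⟩)) (.node 1 (.one ⟨10820, 0, 4⟩) (.one ⟨3123, 1, 2⟩))))) (.node 8 (.node 4 (.node 2 (.node 1 (.one ⟨16602, 2, 4⟩) (.one ⟨8265, 0, 4⟩)) (.node 1 (.one ⟨13863, 0, 4⟩) (.one ⟨1073, 0, 6⟩))) (.node 2 (.node 1 (.one ⟨12505, 0, 4⟩) (.one ⟨16570, 2, 6⟩)) (.node 1 (.one ⟨1139, 2, 3⟩)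 (.one ⟨4488, 0, 4⟩)))) (.node 4 (.node 2 (.node 1 (.one ⟨2767, 0, 3⟩) (.one ⟨12977, 2, 3⟩)) (.node 1 (.one ⟨7333, 2, 6⟩) (.one ⟨1858, 0, 4⟩))) (.node 2 (.node 1 (.one ⟨5146, 0, 4⟩) (.one ⟨3217, 2, 3⟩)) (.node 1 (.one ⟨16604, 2, 3⟩) (.one ⟨15987, 1, 2⟩)))))) (.node 16 (.node 8 (.node 4 (.node 2 (.node 1 (.one ⟨1883, 1, 4⟩) (.one ⟨255, 0, 4⟩)) (.node 1 (.one ⟨13916, 2, 4⟩) (.one ⟨6457, 0, 5⟩))) (.node 2 (.node 1 (.one ⟨7362, 0, 4⟩) (.one ⟨9770, 2, 6⟩)) (.node 1 (.one ⟨4002, 1, 4⟩) (.one ⟨12394, 2, 5⟩)))) (.node 4 (.node 2 (.node 1 (.one ⟨7945, 2, 4⟩) (.one ⟨3004, 0, 6⟩)) (.node 1 (.one ⟨7919, 2, 6⟩) (.one ⟨3027, 0, 6⟩))) (.node 2 (.node 1 (.one ⟨712, 2, 4⟩) (.one ⟨2992, 0, 2⟩)) (.node 1 (.one ⟨1165, 2, 4⟩) (.one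 ⟨15731, 1, 5⟩))))) (.node 8 (.node 4 (.node 2 (.node 1 (.one ⟨15467, 0, 4⟩) (.one ⟨16720, 0, 4⟩)) (.node 1 (.one ⟨1919, 0, 3⟩) (.one ⟨8689, 0, 4⟩))) (.node 2 (.node 1 (.one ⟨9961, 0, 5⟩) (.one ⟨3569, 1, 5⟩)) (.node 1 (.one ⟨7435, 0, 3⟩) (.one ⟨16762, 1, 2⟩)))) (.node 4 (.node 2 (.node 1 (.one ⟨13486, 0, 4⟩) (.one ⟨12135, 2, 5⟩)) (.node 1 (.one ⟨4687, 2, 2⟩) (.one ⟨4048, 2, 1⟩))) (.node 2 (.node 1 (.one ⟨7973, 0, 3⟩) (.one ⟨9890, 1, 2⟩)) (.node 1 (.one ⟨14246, 0, 6⟩) (.one ⟨6983, 2, 6⟩)))))))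
def par9_4_1 : Arr Par :=
  (.node 32 (.node 16 (.node 8 (.node 4 (.node 2 (.node 1 (.one ⟨697, 2, 4⟩) (.one ⟨5870, 1, 2⟩)) (.node 1 (.one ⟨2047, 0, 3⟩) (.one ⟨10034, 2, 5⟩))) (.node 2 (.node 1 (.one ⟨9141, 1, 1⟩) (.one ⟨1226, 0, 1⟩)) (.node 1 (.one ⟨14712, 2, 4⟩) (.one ⟨7110, 0, 3⟩)))) (.node 4 (.node 2 (.node 1 (.one ⟨16771, 2, 4⟩) (.one ⟨8436, 2, 6⟩)) (.node 1 (.one ⟨7364, 2, 3⟩) (.one ⟨16798, 0, 4⟩))) (.node 2 (.node 1 (.one ⟨4290, 1, 6⟩) (.one ⟨14469, 1, 2⟩)) (.node 1 (.one ⟨8505, 0, 1⟩) (.one ⟨601, 0, 1⟩))))) (.node 8 (.node 4 (.node 2 (.node 1 (.one ⟨14235, 0, 4⟩) (.one ⟨5713, 2, 7⟩)) (.node 1 (.one ⟨6067, 1, 1⟩) (.one ⟨9551, 0, 4⟩))) (.node 2 (.node 1 (.one ⟨15849, 2, 6⟩) (.one ⟨1453, 0, 2⟩)) (.node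 1 (.one ⟨13519, 2, 7⟩) (.one ⟨913, 2, 5⟩)))) (.node 4 (.node 2 (.node 1 (.one ⟨10236, 2, 2⟩) (.one ⟨1094, 2, 3⟩)) (.node 1 (.one ⟨10229, 2, 5⟩) (.one ⟨8884, 1, 2⟩))) (.node 2 (.node 1 (.one ⟨3760, 0, 5⟩) (.one ⟨10592, 0, 3⟩)) (.node 1 (.one ⟨11351, 0, 2⟩) (.one ⟨2666, 2, 4⟩)))))) (.node 16 (.node 8 (.node 4 (.node 2 (.node 1 (.one ⟨12960, 0, 5⟩) (.one ⟨3526, 2, 4⟩)) (.node 1 (.one ⟨8667, 1, 6⟩) (.one ⟨11767, 2, 4⟩))) (.node 2 (.node 1 (.one ⟨11710, 2, 6⟩) (.one ⟨2282, 0, 4⟩)) (.node 1 (.one ⟨10328, 2, 5⟩) (.one ⟨5822, 1, 4⟩)))) (.node 4 (.node 2 (.node 1 (.one ⟨11580, 1, 3⟩) (.one ⟨3025, 0, 5⟩)) (.node 1 (.one ⟨184, 0, 6⟩) (.one ⟨10032, 2, 4⟩))) (.node 2 (.node 1 (.one ⟨2217, 2, 4⟩) (.one ⟨11303, 1, 4⟩)) (.node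 1 (.one ⟨8858, 1, 4⟩) (.one ⟨14165, 2, 5⟩))))) (.node 8 (.node 4 (.node 2 (.node 1 (.one ⟨213, 1, 3⟩) (.one ⟨17168, 0, 6⟩)) (.node 1 (.one ⟨8350, 2, 5⟩) (.one ⟨8070, 2, 3⟩))) (.node 2 (.node 1 (.one ⟨9261, 1, 1⟩) (.one ⟨2121, 2, 6⟩)) (.node 1 (.one ⟨14538, 2, 3⟩) (.one ⟨11488, 2, 4⟩)))) (.node 4 (.node 2 (.node 1 (.one ⟨4052, 2, 3⟩) (.one ⟨13076, 2, 5⟩)) (.node 1 (.one ⟨467, 2, 4⟩) (.one ⟨12862, 0, 4⟩))) (.node 2 (.node 1 (.one ⟨11242, 2, 2⟩) (.one ⟨9892, 1, 2⟩)) (.node 1 (.one ⟨12956, 2, 3⟩) (.one ⟨8648, 0, 4⟩)))))))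
def par9_4_2 : Arr Par :=
  (.node 32 (.node 16 (.node 8 (.node 4 (.node 2 (.node 1 (.one ⟨7161, 0, 2⟩) (.one ⟨8243, 0, 3⟩)) (.node 1 (.one ⟨16267, 1, 5⟩) (.one ⟨12230, 2, 3⟩))) (.node 2 (.node 1 (.one ⟨1229, 0, 2⟩) (.one ⟨10516, 1, 5⟩)) (.node 1 (.one ⟨3266, 0, 5⟩) (.one ⟨16622, 2, 4⟩)))) (.node 4 (.node 2 (.node 1 (.one ⟨4997, 1, 0⟩) (.one ⟨7287, 1, 3⟩)) (.node 1 (.one ⟨4669, 0, 6⟩) (.one ⟨7990, 1, 6⟩))) (.node 2 (.node 1 (.one ⟨4259, 2, 5⟩) (.one ⟨2741, 1, 5⟩)) (.node 1 (.one ⟨15945, 0, 3⟩) (.one ⟨6204, 1, 2⟩))))) (.node 8 (.node 4 (.node 2 (.node 1 (.one ⟨9176, 0, 3⟩) (.one ⟨12241, 2, 5⟩)) (.node 1 (.one ⟨12380, 0, 2⟩) (.one ⟨67, 0, 3⟩))) (.node 2 (.node 1 (.one ⟨9443, 0, 3⟩) (.one ⟨16415, 1, 4⟩)) (.node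 1 (.one ⟨2847, 2, 5⟩) (.one ⟨14808, 0, 4⟩)))) (.node 4 (.node 2 (.node 1 (.one ⟨13996, 1, 4⟩) (.one ⟨8503, 0, 1⟩)) (.node 1 (.one ⟨490, 2, 4⟩) (.one ⟨1660, 2, 5⟩))) (.node 2 (.node 1 (.one ⟨16263, 2, 4⟩) (.one ⟨2514, 0, 4⟩)) (.node 1 (.one ⟨2218, 2, 4⟩) (.one ⟨3838, 2, 4⟩)))))) (.node 16 (.node 8 (.node 4 (.node 2 (.node 1 (.one ⟨9369, 2, 6⟩) (.one ⟨12258, 2, 3⟩)) (.node 1 (.one ⟨12408, 0, 3⟩) (.one ⟨674, 2, 4⟩))) (.node 2 (.node 1 (.one ⟨11838, 2, 6⟩) (.one ⟨10330, 0, 4⟩)) (.node 1 (.one ⟨15337, 0, 5⟩) (.one ⟨895, 2, 5⟩)))) (.node 4 (.node 2 (.node 1 (.one ⟨14786, 0, 4⟩) (.one ⟨1053, 0, 5⟩)) (.node 1 (.one ⟨8915, 0, 5⟩) (.one ⟨168, 2, 5⟩))) (.node 2 (.node 1 (.one ⟨972, 2, 5⟩) (.one ⟨749, 2, 4⟩)) (.node 1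 (.one ⟨1367, 0, 4⟩) (.one ⟨4378, 2, 2⟩))))) (.node 8 (.node 4 (.node 2 (.node 1 (.one ⟨13705, 1, 6⟩) (.one ⟨1164, 2, 4⟩)) (.node 1 (.one ⟨4386, 2, 2⟩) (.one ⟨8612, 2, 3⟩))) (.node 2 (.node 1 (.one ⟨129, 1, 1⟩) (.one ⟨15173, 0, 2⟩)) (.node 1 (.one ⟨9773, 1, 3⟩) (.one ⟨10637, 0, 3⟩)))) (.node 4 (.node 2 (.node 1 (.one ⟨7320, 0, 4⟩) (.one ⟨2739, 1, 1⟩)) (.node 1 (.one ⟨11991, 1, 6⟩) (.one ⟨505, 0, 4⟩))) (.node 2 (.node 1 (.one ⟨14947, 0, 3⟩) (.one ⟨16097, 0, 4⟩)) (.node 1 (.one ⟨4827, 0, 3⟩) (.one ⟨6149, 1, 3⟩)))))))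
def par9_4_3 : Arr Par :=
  (.node 32 (.node 16 (.node 8 (.node 4 (.node 2 (.node 1 (.one ⟨969, 0, 3⟩) (.one ⟨7959, 0, 3⟩)) (.node 1 (.one ⟨10702, 0, 5⟩) (.one ⟨3626, 2, 3⟩))) (.node 2 (.node 1 (.one ⟨8952, 2, 3⟩) (.one ⟨4854, 0, 3⟩)) (.node 1 (.one ⟨821, 2, 3⟩) (.one ⟨12303, 2, 3⟩)))) (.node 4 (.node 2 (.node 1 (.one ⟨13798, 0, 4⟩) (.one ⟨2216, 1, 1⟩)) (.node 1 (.one ⟨15382, 2, 2⟩) (.one ⟨5072, 2, 4⟩))) (.node 2 (.node 1 (.one ⟨13792, 0, 3⟩) (.one ⟨13793, 0, 6⟩)) (.node 1 (.one ⟨13797, 0, 5⟩) (.one ⟨5165, 0, 4⟩))))) (.node 8 (.node 4 (.node 2 (.node 1 (.one ⟨1589, 2, 4⟩) (.one ⟨69, 2, 4⟩)) (.node 1 (.one ⟨1343, 2, 4⟩) (.one ⟨1244, 2, 5⟩))) (.node 2 (.node 1 (.one ⟨1467, 2, 4⟩) (.one ⟨1681, 2, 5⟩)) (.node 1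 (.one ⟨1634, 2, 3⟩) (.one ⟨5939, 0, 1⟩)))) (.node 4 (.node 2 (.node 1 (.one ⟨3508, 2, 4⟩) (.one ⟨11618, 2, 4⟩)) (.node 1 (.one ⟨877, 2, 4⟩) (.one ⟨13422, 0, 4⟩))) (.node 2 (.node 1 (.one ⟨3493, 2, 5⟩) (.one ⟨11504, 2, 4⟩)) (.node 1 (.one ⟨5419, 2, 3⟩) (.one ⟨7081, 2, 3⟩)))))) (.node 16 (.node 8 (.node 4 (.node 2 (.node 1 (.one ⟨2628, 0, 4⟩) (.one ⟨4701, 0, 3⟩)) (.node 1 (.one ⟨2901, 0, 3⟩) (.one ⟨16409, 0, 3⟩))) (.node 2 (.node 1 (.one ⟨14262, 0, 6⟩) (.one ⟨16775, 0, 3⟩)) (.node 1 (.one ⟨14864, 0, 4⟩) (.one ⟨13601, 0, 2⟩)))) (.node 4 (.node 2 (.node 1 (.one ⟨15201, 2, 3⟩) (.one ⟨6064, 2, 5⟩)) (.node 1 (.one ⟨3377, 2, 5⟩) (.one ⟨16206, 2, 4⟩))) (.node 2 (.node 1 (.one ⟨11250, 0, 3⟩) (.one ⟨10267, 1, 6⟩)) (.node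 1 (.one ⟨8502, 2, 3⟩) (.one ⟨4731, 0, 4⟩))))) (.node 8 (.node 4 (.node 2 (.node 1 (.one ⟨8589, 2, 6⟩) (.one ⟨4602, 2, 4⟩)) (.node 1 (.one ⟨14790, 2, 6⟩) (.one ⟨15921, 0, 5⟩))) (.node 2 (.node 1 (.one ⟨11580, 2, 3⟩) (.one ⟨12832, 0, 5⟩)) (.node 1 (.one ⟨1980, 0, 5⟩) (.one ⟨15133, 2, 4⟩)))) (.node 4 (.node 2 (.node 1 (.one ⟨14901, 0, 3⟩) (.one ⟨14679, 0, 3⟩)) (.node 1 (.one ⟨12741, 0, 6⟩) (.one ⟨17030, 2, 6⟩))) (.node 2 (.node 1 (.one ⟨9024, 2, 3⟩) (.one ⟨6415, 1, 3⟩)) (.node 1 (.one ⟨7862, 0, 6⟩) (.one ⟨12515, 2, 6⟩)))))))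
def par9_4_4 : Arr Par :=
  (.node 32 (.node 16 (.node 8 (.node 4 (.node 2 (.node 1 (.one ⟨11120, 2, 3⟩) (.one ⟨11025, 0, 5⟩)) (.node 1 (.one ⟨11841, 0, 3⟩) (.one ⟨10699, 0, 5⟩))) (.node 2 (.node 1 (.one ⟨13476, 0, 5⟩) (.one ⟨8428, 2, 6⟩)) (.node 1 (.one ⟨11225, 0, 2⟩) (.one ⟨12254, 0, 5⟩)))) (.node 4 (.node 2 (.node 1 (.one ⟨8359, 0, 5⟩) (.one ⟨3687, 0, 5⟩)) (.node 1 (.one ⟨15970, 0, 5⟩) (.one ⟨14358, 0, 5⟩))) (.node 2 (.node 1 (.one ⟨2316, 0, 4⟩) (.one ⟨12807, 1, 4⟩)) (.node 1 (.one ⟨3234, 2, 6⟩) (.one ⟨1613, 0, 4⟩))))) (.node 8 (.node 4 (.node 2 (.node 1 (.one ⟨1826, 0, 4⟩) (.one ⟨16346, 2, 2⟩)) (.node 1 (.one ⟨5768, 1, 5⟩) (.one ⟨9793, 0, 4⟩))) (.node 2 (.node 1 (.one ⟨9421, 0, 4⟩) (.one ⟨9452, 1, 5⟩))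 (.node 1 (.one ⟨11369, 1, 5⟩) (.one ⟨5460, 1, 2⟩)))) (.node 4 (.node 2 (.node 1 (.one ⟨3694, 2, 5⟩) (.one ⟨7262, 0, 4⟩)) (.node 1 (.one ⟨1442, 1, 1⟩) (.one ⟨192, 2, 4⟩))) (.node 2 (.node 1 (.one ⟨12196, 2, 5⟩) (.one ⟨8541, 1, 2⟩)) (.node 1 (.one ⟨6875, 0, 5⟩) (.one ⟨9380, 0, 5⟩)))))) (.node 16 (.node 8 (.node 4 (.node 2 (.node 1 (.one ⟨9973, 2, 3⟩) (.one ⟨3910, 2, 6⟩)) (.node 1 (.one ⟨9195, 0, 1⟩) (.one ⟨13520, 2, 6⟩))) (.node 2 (.node 1 (.one ⟨15737, 2, 4⟩) (.one ⟨6473, 2, 4⟩)) (.node 1 (.one ⟨2850, 2, 5⟩) (.one ⟨4079, 2, 5⟩)))) (.node 4 (.node 2 (.node 1 (.one ⟨3817, 2, 5⟩) (.one ⟨15785, 2, 4⟩)) (.node 1 (.one ⟨16304, 2, 4⟩) (.one ⟨2400, 1, 2⟩))) (.node 2 (.node 1 (.one ⟨14403, 2, 4⟩) (.one ⟨2580, 2, 5⟩))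 (.node 1 (.one ⟨1156, 2, 5⟩) (.one ⟨8285, 2, 5⟩))))) (.node 8 (.node 4 (.node 2 (.node 1 (.one ⟨948, 0, 4⟩) (.one ⟨16901, 0, 4⟩)) (.node 1 (.one ⟨12873, 0, 4⟩) (.one ⟨15819, 2, 5⟩))) (.node 2 (.node 1 (.one ⟨7500, 2, 4⟩) (.one ⟨12859, 0, 6⟩)) (.node 1 (.one ⟨3948, 2, 2⟩) (.one ⟨2202, 2, 5⟩)))) (.node 4 (.node 2 (.node 1 (.one ⟨13106, 2, 5⟩) (.one ⟨9642, 2, 5⟩)) (.node 1 (.one ⟨14182, 1, 4⟩) (.one ⟨9457, 1, 3⟩))) (.node 2 (.node 1 (.one ⟨4991, 2, 5⟩) (.one ⟨2562, 2, 2⟩)) (.node 1 (.one ⟨12865, 2, 5⟩) (.one ⟨13968, 2, 6⟩)))))))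
def par9_4_5 : Arr Par :=
  (.node 32 (.node 16 (.node 8 (.node 4 (.node 2 (.node 1 (.one ⟨10307, 1, 2⟩) (.one ⟨2563, 2, 3⟩)) (.node 1 (.one ⟨1694, 0, 5⟩) (.one ⟨3367, 2, 3⟩))) (.node 2 (.node 1 (.one ⟨7536, 2, 6⟩) (.one ⟨14960, 2, 3⟩)) (.node 1 (.one ⟨10891, 2, 2⟩) (.one ⟨5152, 0, 4⟩)))) (.node 4 (.node 2 (.node 1 (.one ⟨12159, 2, 6⟩) (.one ⟨2930, 2, 4⟩)) (.node 1 (.one ⟨2998, 2, 3⟩) (.one ⟨1836, 2, 2⟩))) (.node 2 (.node 1 (.one ⟨8799, 0, 4⟩) (.one ⟨13514, 2, 3⟩)) (.node 1 (.one ⟨8819, 1, 3⟩) (.one ⟨9568, 1, 2⟩))))) (.node 8 (.node 4 (.node 2 (.node 1 (.one ⟨12399, 0, 2⟩) (.one ⟨2985, 0, 5⟩)) (.node 1 (.one ⟨13896, 2, 2⟩) (.one ⟨12427, 1, 4⟩))) (.node 2 (.node 1 (.one ⟨15768, 0, 2⟩) (.one ⟨7327, 0, 5⟩)) (.node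 1 (.one ⟨11103, 1, 4⟩) (.one ⟨3736, 0, 4⟩)))) (.node 4 (.node 2 (.node 1 (.one ⟨16524, 0, 5⟩) (.one ⟨5754, 2, 4⟩)) (.node 1 (.one ⟨15012, 0, 3⟩) (.one ⟨13813, 2, 2⟩))) (.node 2 (.node 1 (.one ⟨4512, 1, 4⟩) (.one ⟨9149, 2, 2⟩)) (.node 1 (.one ⟨15604, 0, 3⟩) (.one ⟨12852, 0, 4⟩)))))) (.node 16 (.node 8 (.node 4 (.node 2 (.node 1 (.one ⟨8732, 0, 4⟩) (.one ⟨14445, 0, 5⟩)) (.node 1 (.one ⟨10035, 1, 3⟩) (.one ⟨13451, 0, 2⟩))) (.node 2 (.node 1 (.one ⟨8756, 0, 3⟩) (.one ⟨14040, 0, 1⟩)) (.node 1 (.one ⟨1551, 0, 3⟩) (.one ⟨4142, 2, 5⟩)))) (.node 4 (.node 2 (.node 1 (.one ⟨15106, 2, 5⟩) (.one ⟨5497, 0, 5⟩)) (.node 1 (.one ⟨9127, 0, 5⟩) (.one ⟨4200, 2, 4⟩))) (.node 2 (.node 1 (.one ⟨7133, 0, 5⟩) (.one ⟨17009, 2, 3⟩))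 (.node 1 (.one ⟨13562, 1, 3⟩) (.one ⟨2790, 2, 6⟩))))) (.node 8 (.node 4 (.node 2 (.node 1 (.one ⟨11615, 0, 4⟩) (.one ⟨3257, 0, 4⟩)) (.node 1 (.one ⟨12877, 1, 5⟩) (.one ⟨6517, 2, 3⟩))) (.node 2 (.node 1 (.one ⟨2287, 1, 4⟩) (.one ⟨12082, 2, 4⟩)) (.node 1 (.one ⟨16451, 0, 5⟩) (.one ⟨7826, 2, 4⟩)))) (.node 4 (.node 2 (.node 1 (.one ⟨8606, 1, 5⟩) (.one ⟨7825, 2, 6⟩)) (.node 1 (.one ⟨7827, 2, 5⟩) (.one ⟨7829, 2, 6⟩))) (.node 2 (.node 1 (.one ⟨13686, 1, 4⟩) (.one ⟨11190, 1, 5⟩)) (.node 1 (.one ⟨7222, 1, 5⟩) (.one ⟨6666, 2, 2⟩)))))))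
def par9_4_6 : Arr Par :=
  (.node 32 (.node 16 (.node 8 (.node 4 (.node 2 (.node 1 (.one ⟨5808, 1, 5⟩) (.one ⟨10173, 1, 3⟩)) (.node 1 (.one ⟨148, 0, 1⟩) (.one ⟨13792, 1, 3⟩))) (.node 2 (.node 1 (.one ⟨4953, 1, 0⟩) (.one ⟨319, 2, 5⟩)) (.node 1 (.one ⟨7077, 2, 5⟩) (.one ⟨10006, 1, 3⟩)))) (.node 4 (.node 2 (.node 1 (.one ⟨14207, 2, 3⟩) (.one ⟨7838, 1, 4⟩)) (.node 1 (.one ⟨5258, 2, 3⟩) (.one ⟨15356, 0, 6⟩))) (.node 2 (.node 1 (.one ⟨11482, 2, 3⟩) (.one ⟨16273, 0, 6⟩)) (.node 1 (.one ⟨7780, 2, 3⟩) (.one ⟨7488, 2, 4⟩))))) (.node 8 (.node 4 (.node 2 (.node 1 (.one ⟨14727, 0, 4⟩) (.one ⟨5970, 2, 4⟩)) (.node 1 (.one ⟨1940, 0, 4⟩) (.one ⟨16942, 0, 3⟩))) (.node 2 (.node 1 (.one ⟨10052, 1, 5⟩) (.one ⟨2813, 2, 4⟩)) (.node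 1 (.one ⟨2601, 2, 4⟩) (.one ⟨11280, 2, 4⟩)))) (.node 4 (.node 2 (.node 1 (.one ⟨7540, 0, 2⟩) (.one ⟨6713, 2, 1⟩)) (.node 1 (.one ⟨330, 0, 5⟩) (.one ⟨3863, 2, 3⟩))) (.node 2 (.node 1 (.one ⟨329, 1, 1⟩) (.one ⟨3987, 0, 6⟩)) (.node 1 (.one ⟨9672, 1, 3⟩) (.one ⟨16418, 1, 4⟩)))))) (.node 16 (.node 8 (.node 4 (.node 2 (.node 1 (.one ⟨12530, 1, 3⟩) (.one ⟨6521, 0, 1⟩)) (.node 1 (.one ⟨13774, 1, 4⟩) (.one ⟨15821, 2, 4⟩))) (.node 2 (.node 1 (.one ⟨50, 0, 4⟩) (.one ⟨14094, 0, 3⟩)) (.node 1 (.one ⟨10150, 0, 4⟩) (.one ⟨10241, 0, 2⟩)))) (.node 4 (.node 2 (.node 1 (.one ⟨1477, 0, 5⟩) (.one ⟨5533, 2, 6⟩)) (.node 1 (.one ⟨207, 2, 6⟩) (.one ⟨1122, 2, 4⟩))) (.node 2 (.node 1 (.one ⟨7965, 0, 3⟩) (.one ⟨5261, 1, 4⟩)) (.node 1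 (.one ⟨4864, 0, 2⟩) (.one ⟨2997, 1, 2⟩))))) (.node 8 (.node 4 (.node 2 (.node 1 (.one ⟨2992, 1, 2⟩) (.one ⟨11596, 2, 4⟩)) (.node 1 (.one ⟨10594, 1, 2⟩) (.one ⟨4518, 0, 5⟩))) (.node 2 (.node 1 (.one ⟨2995, 1, 1⟩) (.one ⟨2701, 2, 3⟩)) (.node 1 (.one ⟨3643, 0, 4⟩) (.one ⟨13928, 0, 4⟩)))) (.node 4 (.node 2 (.node 1 (.one ⟨16915, 0, 4⟩) (.one ⟨16770, 1, 3⟩)) (.node 1 (.one ⟨15708, 0, 4⟩) (.one ⟨7001, 2, 3⟩))) (.node 2 (.node 1 (.one ⟨439, 0, 5⟩) (.one ⟨4155, 2, 2⟩)) (.node 1 (.one ⟨12430, 2, 2⟩) (.one ⟨13714, 0, 3⟩)))))))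
def par9_4_7 : Arr Par :=
  (.node 32 (.node 16 (.node 8 (.node 4 (.node 2 (.node 1 (.one ⟨10409, 2, 3⟩) (.one ⟨5407, 1, 0⟩)) (.node 1 (.one ⟨14300, 2, 4⟩) (.one ⟨6215, 2, 4⟩))) (.node 2 (.node 1 (.one ⟨13849, 0, 5⟩) (.one ⟨5322, 1, 0⟩)) (.node 1 (.one ⟨2963, 0, 1⟩) (.one ⟨14365, 0, 3⟩)))) (.node 4 (.node 2 (.node 1 (.one ⟨16929, 0, 5⟩) (.one ⟨10771, 2, 5⟩)) (.node 1 (.one ⟨13006, 2, 3⟩) (.one ⟨15741, 2, 4⟩))) (.node 2 (.node 1 (.one ⟨15469, 2, 4⟩) (.one ⟨4321, 2, 4⟩)) (.node 1 (.one ⟨3066, 2, 6⟩) (.one ⟨77, 1, 1⟩))))) (.node 8 (.node 4 (.node 2 (.node 1 (.one ⟨2528, 0, 3⟩) (.one ⟨8629, 0, 4⟩)) (.node 1 (.one ⟨6400, 2, 5⟩) (.one ⟨15096, 0, 5⟩))) (.node 2 (.node 1 (.one ⟨8474, 0, 3⟩) (.one ⟨2467, 0, 5⟩)) (.node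 1 (.one ⟨457, 2, 5⟩) (.one ⟨12928, 2, 3⟩)))) (.node 4 (.node 2 (.node 1 (.one ⟨9425, 1, 2⟩) (.one ⟨4659, 0, 5⟩)) (.node 1 (.one ⟨5903, 2, 1⟩) (.one ⟨16642, 0, 5⟩))) (.node 2 (.node 1 (.one ⟨3054, 1, 2⟩) (.one ⟨4711, 0, 5⟩)) (.node 1 (.one ⟨1202, 2, 1⟩) (.one ⟨10581, 2, 6⟩)))))) (.node 16 (.node 8 (.node 4 (.node 2 (.node 1 (.one ⟨16327, 2, 5⟩) (.one ⟨13061, 2, 5⟩)) (.node 1 (.one ⟨15086, 0, 2⟩) (.one ⟨7377, 2, 2⟩))) (.node 2 (.node 1 (.one ⟨398, 0, 3⟩) (.one ⟨17048, 0, 4⟩)) (.node 1 (.one ⟨1811, 2, 6⟩) (.one ⟨9985, 2, 4⟩)))) (.node 4 (.node 2 (.node 1 (.one ⟨11404, 0, 5⟩) (.one ⟨14958, 2, 4⟩)) (.node 1 (.one ⟨16457, 0, 5⟩) (.one ⟨925, 2, 3⟩))) (.node 2 (.node 1 (.one ⟨7881, 0, 5⟩) (.one ⟨6652, 2, 6⟩)) (.node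 1 (.one ⟨7491, 2, 6⟩) (.one ⟨15827, 2, 6⟩))))) (.node 8 (.node 4 (.node 2 (.node 1 (.one ⟨7547, 2, 4⟩) (.one ⟨7380, 2, 2⟩)) (.node 1 (.one ⟨16030, 2, 3⟩) (.one ⟨10982, 2, 5⟩))) (.node 2 (.node 1 (.one ⟨4099, 2, 4⟩) (.one ⟨4147, 2, 5⟩)) (.node 1 (.one ⟨10886, 2, 6⟩) (.one ⟨6899, 2, 4⟩)))) (.node 4 (.node 2 (.node 1 (.one ⟨14869, 0, 5⟩) (.one ⟨1455, 0, 5⟩)) (.node 1 (.one ⟨14851, 0, 3⟩) (.one ⟨4713, 2, 4⟩))) (.node 2 (.node 1 (.one ⟨3801, 2, 2⟩) (.one ⟨4655, 2, 4⟩)) (.node 1 (.one ⟨3809, 2, 4⟩) (.one ⟨6762, 2, 2⟩)))))))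
def par9_4_8 : Arr Par :=
  (.node 32 (.node 16 (.node 8 (.node 4 (.node 2 (.node 1 (.one ⟨10493, 2, 2⟩) (.one ⟨15272, 2, 3⟩)) (.node 1 (.one ⟨6974, 0, 5⟩) (.one ⟨15844, 1, 6⟩))) (.node 2 (.node 1 (.one ⟨2130, 0, 5⟩) (.one ⟨6648, 2, 3⟩)) (.node 1 (.one ⟨6657, 0, 4⟩) (.one ⟨3639, 2, 6⟩)))) (.node 4 (.node 2 (.node 1 (.one ⟨3629, 0, 4⟩) (.one ⟨16639, 2, 3⟩)) (.node 1 (.one ⟨5214, 0, 5⟩) (.one ⟨10739, 1, 3⟩))) (.node 2 (.node 1 (.one ⟨335, 2, 6⟩) (.one ⟨11081, 2, 3⟩)) (.node 1 (.one ⟨14681, 2, 4⟩) (.one ⟨14728, 2, 4⟩))))) (.node 8 (.node 4 (.node 2 (.node 1 (.one ⟨8999, 0, 4⟩) (.one ⟨6639, 2, 5⟩)) (.node 1 (.one ⟨14363, 0, 3⟩) (.one ⟨582, 2, 1⟩))) (.node 2 (.node 1 (.one ⟨9533, 2, 5⟩) (.one ⟨9358, 2, 3⟩)) (.node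 1 (.one ⟨1398, 2, 5⟩) (.one ⟨13281, 1, 4⟩)))) (.node 4 (.node 2 (.node 1 (.one ⟨11903, 0, 4⟩) (.one ⟨471, 2, 3⟩)) (.node 1 (.one ⟨9216, 0, 4⟩) (.one ⟨16585, 0, 5⟩))) (.node 2 (.node 1 (.one ⟨6067, 0, 1⟩) (.one ⟨5121, 2, 4⟩)) (.node 1 (.one ⟨13220, 2, 4⟩) (.one ⟨5973, 0, 3⟩)))))) (.node 16 (.node 8 (.node 4 (.node 2 (.node 1 (.one ⟨11019, 0, 2⟩) (.one ⟨13421, 2, 3⟩)) (.node 1 (.one ⟨2968, 0, 3⟩) (.one ⟨11284, 2, 5⟩))) (.node 2 (.node 1 (.one ⟨3632, 2, 3⟩) (.one ⟨5935, 2, 4⟩)) (.node 1 (.one ⟨14649, 0, 3⟩) (.one ⟨5909, 2, 3⟩)))) (.node 4 (.node 2 (.node 1 (.one ⟨3311, 0, 3⟩) (.one ⟨14636, 0, 6⟩)) (.node 1 (.one ⟨14585, 0, 3⟩) (.one ⟨15123, 0, 4⟩))) (.node 2 (.node 1 (.one ⟨2090, 2, 2⟩) (.one ⟨10363, 2, 2⟩)) (.node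 1 (.one ⟨13748, 2, 4⟩) (.one ⟨12614, 0, 3⟩))))) (.node 8 (.node 4 (.node 2 (.node 1 (.one ⟨13928, 2, 4⟩) (.one ⟨1238, 0, 5⟩)) (.node 1 (.one ⟨13576, 2, 4⟩) (.one ⟨11264, 2, 4⟩))) (.node 2 (.node 1 (.one ⟨15898, 0, 3⟩) (.one ⟨15962, 2, 4⟩)) (.node 1 (.one ⟨6768, 0, 5⟩) (.one ⟨12840, 2, 2⟩)))) (.node 4 (.node 2 (.node 1 (.one ⟨3962, 2, 5⟩) (.one ⟨15879, 1, 5⟩)) (.node 1 (.one ⟨8842, 0, 2⟩) (.one ⟨6807, 2, 5⟩))) (.node 2 (.node 1 (.one ⟨14402, 2, 4⟩) (.one ⟨7140, 2, 5⟩)) (.node 1 (.one ⟨13675, 2, 4⟩) (.one ⟨14653, 2, 4⟩)))))))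
def par9_4_9 : Arr Par :=
  (.node 32 (.node 16 (.node 8 (.node 4 (.node 2 (.node 1 (.one ⟨10904, 2, 5⟩) (.one ⟨16691, 2, 2⟩)) (.node 1 (.one ⟨13084, 2, 5⟩) (.one ⟨12516, 0, 4⟩))) (.node 2 (.node 1 (.one ⟨167, 0, 5⟩) (.one ⟨3772, 2, 5⟩)) (.node 1 (.one ⟨7920, 2, 5⟩) (.one ⟨9982, 2, 4⟩)))) (.node 4 (.node 2 (.node 1 (.one ⟨4105, 0, 3⟩) (.one ⟨5951, 0, 1⟩)) (.node 1 (.one ⟨16310, 2, 4⟩) (.one ⟨5899, 0, 2⟩))) (.node 2 (.node 1 (.one ⟨4737, 2, 2⟩) (.one ⟨3194, 0, 5⟩)) (.node 1 (.one ⟨5278, 2, 4⟩) (.one ⟨9625, 1, 1⟩))))) (.node 8 (.node 4 (.node 2 (.node 1 (.one ⟨3774, 2, 6⟩) (.one ⟨14530, 2, 4⟩)) (.node 1 (.one ⟨748, 0, 5⟩) (.one ⟨16852, 0, 5⟩))) (.node 2 (.node 1 (.one ⟨2547, 2, 4⟩) (.one ⟨16160, 2, 5⟩)) (.node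 1 (.one ⟨13738, 2, 4⟩) (.one ⟨15198, 2, 7⟩)))) (.node 4 (.node 2 (.node 1 (.one ⟨13804, 0, 5⟩) (.one ⟨5462, 2, 6⟩)) (.node 1 (.one ⟨5729, 2, 2⟩) (.one ⟨8925, 0, 4⟩))) (.node 2 (.node 1 (.one ⟨14108, 0, 6⟩) (.one ⟨4972, 2, 2⟩)) (.node 1 (.one ⟨4099, 0, 4⟩) (.one ⟨13174, 0, 4⟩)))))) (.node 16 (.node 8 (.node 4 (.node 2 (.node 1 (.one ⟨9679, 0, 5⟩) (.one ⟨9388, 0, 3⟩)) (.node 1 (.one ⟨10544, 2, 2⟩) (.one ⟨5138, 0, 4⟩))) (.node 2 (.node 1 (.one ⟨8666, 2, 2⟩) (.one ⟨17045, 2, 4⟩)) (.node 1 (.one ⟨5061, 0, 6⟩) (.one ⟨3141, 2, 4⟩)))) (.node 4 (.node 2 (.node 1 (.one ⟨1263, 0, 3⟩) (.one ⟨14284, 1, 3⟩)) (.node 1 (.one ⟨11231, 0, 6⟩) (.one ⟨13772, 1, 3⟩))) (.node 2 (.node 1 (.one ⟨5715, 2, 4⟩) (.one ⟨14323, 2, 4⟩)) (.node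 1 (.one ⟨9787, 2, 6⟩) (.one ⟨10300, 2, 6⟩))))) (.node 8 (.node 4 (.node 2 (.node 1 (.one ⟨4432, 2, 3⟩) (.one ⟨12554, 0, 1⟩)) (.node 1 (.one ⟨11917, 2, 4⟩) (.one ⟨3756, 1, 2⟩))) (.node 2 (.node 1 (.one ⟨8687, 0, 3⟩) (.one ⟨16568, 0, 3⟩)) (.node 1 (.one ⟨5696, 1, 1⟩) (.one ⟨14083, 2, 5⟩)))) (.node 4 (.node 2 (.node 1 (.one ⟨2663, 0, 3⟩) (.one ⟨4249, 0, 2⟩)) (.node 1 (.one ⟨3510, 0, 2⟩) (.one ⟨7976, 1, 3⟩))) (.node 2 (.node 1 (.one ⟨12607, 2, 5⟩) (.one ⟨2141, 0, 4⟩)) (.node 1 (.one ⟨3131, 2, 3⟩) (.one ⟨1519, 2, 2⟩)))))))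
def par9_4_10 : Arr Par :=
  (.node 32 (.node 16 (.node 8 (.node 4 (.node 2 (.node 1 (.one ⟨9262, 2, 2⟩) (.one ⟨581, 2, 1⟩)) (.node 1 (.one ⟨9481, 2, 2⟩) (.one ⟨14656, 2, 6⟩))) (.node 2 (.node 1 (.one ⟨6635, 2, 6⟩) (.one ⟨2643, 1, 3⟩)) (.node 1 (.one ⟨6577, 2, 6⟩) (.one ⟨6879, 0, 5⟩)))) (.node 4 (.node 2 (.node 1 (.one ⟨117, 0, 6⟩) (.one ⟨4180, 2, 7⟩)) (.node 1 (.one ⟨12081, 2, 2⟩) (.one ⟨15545, 2, 3⟩))) (.node 2 (.node 1 (.one ⟨7438, 2, 5⟩) (.one ⟨8308, 0, 4⟩)) (.node 1 (.one ⟨5131, 0, 5⟩) (.one ⟨15003, 2, 4⟩))))) (.node 8 (.node 4 (.node 2 (.node 1 (.one ⟨7163, 0, 3⟩) (.one ⟨13421, 0, 3⟩)) (.node 1 (.one ⟨11611, 2, 4⟩) (.one ⟨16893, 2, 4⟩))) (.node 2 (.node 1 (.one ⟨4289, 2, 4⟩) (.one ⟨7141, 0, 2⟩)) (.node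 1 (.one ⟨10726, 2, 5⟩) (.one ⟨15306, 2, 3⟩)))) (.node 4 (.node 2 (.node 1 (.one ⟨16397, 0, 1⟩) (.one ⟨8472, 2, 7⟩)) (.node 1 (.one ⟨13655, 0, 3⟩) (.one ⟨12590, 1, 2⟩))) (.node 2 (.node 1 (.one ⟨203, 0, 3⟩) (.one ⟨2533, 2, 4⟩)) (.node 1 (.one ⟨4375, 0, 3⟩) (.one ⟨9471, 2, 2⟩)))))) (.node 16 (.node 8 (.node 4 (.node 2 (.node 1 (.one ⟨10335, 1, 3⟩) (.one ⟨9254, 2, 2⟩)) (.node 1 (.one ⟨14042, 1, 3⟩) (.one ⟨8810, 1, 3⟩))) (.node 2 (.node 1 (.one ⟨15634, 0, 4⟩) (.one ⟨5034, 1, 3⟩)) (.node 1 (.one ⟨9361, 2, 2⟩) (.one ⟨1010, 0, 3⟩)))) (.node 4 (.node 2 (.node 1 (.one ⟨10087, 2, 4⟩) (.one ⟨14759, 2, 4⟩)) (.node 1 (.one ⟨9942, 0, 4⟩) (.one ⟨2197, 2, 3⟩))) (.node 2 (.node 1 (.one ⟨1804, 0, 2⟩) (.one ⟨4730, 1, 3⟩)) (.node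 1 (.one ⟨9678, 1, 6⟩) (.one ⟨1406, 0, 5⟩))))) (.node 8 (.node 4 (.node 2 (.node 1 (.one ⟨5031, 1, 0⟩) (.one ⟨5352, 1, 0⟩)) (.node 1 (.one ⟨9592, 0, 5⟩) (.one ⟨1314, 0, 4⟩))) (.node 2 (.node 1 (.one ⟨3477, 2, 5⟩) (.one ⟨7193, 0, 6⟩)) (.node 1 (.one ⟨12928, 1, 3⟩) (.one ⟨7414, 0, 6⟩)))) (.node 4 (.node 2 (.node 1 (.one ⟨13084, 0, 5⟩) (.one ⟨2659, 1, 3⟩)) (.node 1 (.one ⟨8226, 0, 5⟩) (.one ⟨13750, 1, 3⟩))) (.node 2 (.node 1 (.one ⟨13090, 2, 6⟩) (.one ⟨3082, 0, 5⟩)) (.node 1 (.one ⟨16828, 0, 5⟩) (.one ⟨16715, 2, 5⟩)))))))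
def par9_4_11 : Arr Par :=
  (.node 32 (.node 16 (.node 8 (.node 4 (.node 2 (.node 1 (.one ⟨379, 0, 4⟩) (.one ⟨5912, 0, 4⟩)) (.node 1 (.one ⟨11896, 0, 3⟩) (.one ⟨3217, 0, 3⟩))) (.node 2 (.node 1 (.one ⟨17121, 0, 4⟩) (.one ⟨8379, 1, 6⟩)) (.node 1 (.one ⟨7361, 0, 6⟩) (.one ⟨7285, 0, 4⟩)))) (.node 4 (.node 2 (.node 1 (.one ⟨8305, 0, 2⟩) (.one ⟨161, 0, 3⟩)) (.node 1 (.one ⟨4948, 0, 4⟩) (.one ⟨6972, 0, 5⟩))) (.node 2 (.node 1 (.one ⟨12897, 2, 3⟩) (.one ⟨6560, 1, 5⟩)) (.node 1 (.one ⟨5189, 0, 2⟩) (.one ⟨1831, 0, 4⟩))))) (.node 8 (.node 4 (.node 2 (.node 1 (.one ⟨3056, 2, 4⟩) (.one ⟨707, 0, 6⟩)) (.node 1 (.one ⟨1824, 2, 4⟩) (.one ⟨13180, 2, 3⟩))) (.node 2 (.node 1 (.one ⟨6564, 2, 5⟩) (.one ⟨5590, 0, 2⟩)) (.node 1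 (.one ⟨7171, 2, 5⟩) (.one ⟨14063, 2, 3⟩)))) (.node 4 (.node 2 (.node 1 (.one ⟨7552, 2, 4⟩) (.one ⟨10593, 2, 3⟩)) (.node 1 (.one ⟨12336, 0, 4⟩) (.one ⟨6304, 2, 2⟩))) (.node 2 (.node 1 (.one ⟨14649, 2, 3⟩) (.one ⟨53, 2, 4⟩)) (.node 1 (.one ⟨5065, 0, 5⟩) (.one ⟨9098, 2, 5⟩)))))) (.node 16 (.node 8 (.node 4 (.node 2 (.node 1 (.one ⟨2064, 2, 3⟩) (.one ⟨17129, 2, 4⟩)) (.node 1 (.one ⟨10191, 2, 5⟩) (.one ⟨16954, 2, 7⟩))) (.node 2 (.node 1 (.one ⟨9714, 2, 6⟩) (.one ⟨14053, 1, 3⟩)) (.node 1 (.one ⟨7300, 0, 4⟩) (.one ⟨15485, 2, 5⟩)))) (.node 4 (.node 2 (.node 1 (.one ⟨7961, 2, 4⟩) (.one ⟨16486, 0, 5⟩)) (.node 1 (.one ⟨2453, 0, 3⟩) (.one ⟨2626, 2, 5⟩))) (.node 2 (.node 1 (.one ⟨12669, 2, 4⟩) (.one ⟨12962, 2, 5⟩)) (.node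 1 (.one ⟨1626, 0, 6⟩) (.one ⟨11673, 0, 4⟩))))) (.node 8 (.node 4 (.node 2 (.node 1 (.one ⟨7707, 0, 1⟩) (.one ⟨5800, 0, 5⟩)) (.node 1 (.one ⟨9492, 0, 4⟩) (.one ⟨5478, 1, 0⟩))) (.node 2 (.node 1 (.one ⟨4849, 1, 6⟩) (.one ⟨4854, 1, 3⟩)) (.node 1 (.one ⟨4848, 1, 2⟩) (.one ⟨9573, 0, 4⟩)))) (.node 4 (.node 2 (.node 1 (.one ⟨3813, 0, 5⟩) (.one ⟨8475, 0, 5⟩)) (.node 1 (.one ⟨15320, 2, 6⟩) (.one ⟨10108, 2, 5⟩))) (.node 2 (.node 1 (.one ⟨7700, 1, 2⟩) (.one ⟨3970, 2, 4⟩)) (.node 1 (.one ⟨8158, 2, 4⟩) (.one ⟨3119, 0, 3⟩)))))))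
def par9_4_12 : Arr Par :=
  (.node 32 (.node 16 (.node 8 (.node 4 (.node 2 (.node 1 (.one ⟨2186, 2, 1⟩) (.one ⟨5485, 0, 1⟩)) (.node 1 (.one ⟨5726, 2, 3⟩) (.one ⟨2562, 0, 2⟩))) (.node 2 (.node 1 (.one ⟨10691, 2, 3⟩) (.one ⟨4053, 0, 2⟩)) (.node 1 (.one ⟨12207, 0, 4⟩) (.one ⟨10121, 0, 5⟩)))) (.node 4 (.node 2 (.node 1 (.one ⟨12344, 2, 5⟩) (.one ⟨2547, 0, 4⟩)) (.node 1 (.one ⟨2471, 1, 3⟩) (.one ⟨14727, 2, 4⟩))) (.node 2 (.node 1 (.one ⟨8932, 2, 5⟩) (.one ⟨15639, 0, 5⟩)) (.node 1 (.one ⟨1812, 1, 3⟩) (.one ⟨4482, 0, 2⟩))))) (.node 8 (.node 4 (.node 2 (.node 1 (.one ⟨6820, 2, 5⟩) (.one ⟨4483, 0, 4⟩)) (.node 1 (.one ⟨6865, 2, 6⟩) (.one ⟨4484, 0, 1⟩))) (.node 2 (.node 1 (.one ⟨14172, 2, 2⟩) (.one ⟨4481, 0, 4⟩)) (.node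 1 (.one ⟨13615, 2, 4⟩) (.one ⟨10457, 0, 6⟩)))) (.node 4 (.node 2 (.node 1 (.one ⟨332, 1, 3⟩) (.one ⟨15326, 2, 5⟩)) (.node 1 (.one ⟨13234, 0, 2⟩) (.one ⟨4723, 0, 3⟩))) (.node 2 (.node 1 (.one ⟨1489, 1, 1⟩) (.one ⟨12207, 2, 4⟩)) (.node 1 (.one ⟨847, 0, 4⟩) (.one ⟨13692, 2, 3⟩)))))) (.node 16 (.node 8 (.node 4 (.node 2 (.node 1 (.one ⟨13562, 0, 3⟩) (.one ⟨13734, 0, 6⟩)) (.node 1 (.one ⟨2070, 0, 4⟩) (.one ⟨5323, 0, 4⟩))) (.node 2 (.node 1 (.one ⟨16951, 0, 5⟩) (.one ⟨5606, 2, 5⟩)) (.node 1 (.one ⟨5688, 2, 6⟩) (.one ⟨8222, 2, 4⟩)))) (.node 4 (.node 2 (.node 1 (.one ⟨281, 0, 4⟩) (.one ⟨2387, 0, 2⟩)) (.node 1 (.one ⟨11690, 2, 4⟩) (.one ⟨16340, 0, 4⟩))) (.node 2 (.node 1 (.one ⟨13262, 0, 4⟩) (.one ⟨716, 2, 4⟩)) (.node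 1 (.one ⟨6300, 2, 6⟩) (.one ⟨11189, 0, 3⟩))))) (.node 8 (.node 4 (.node 2 (.node 1 (.one ⟨14014, 1, 2⟩) (.one ⟨12162, 0, 3⟩)) (.node 1 (.one ⟨11850, 2, 6⟩) (.one ⟨2976, 0, 4⟩))) (.node 2 (.node 1 (.one ⟨13020, 0, 3⟩) (.one ⟨4446, 2, 4⟩)) (.node 1 (.one ⟨10182, 0, 3⟩) (.one ⟨10638, 2, 5⟩)))) (.node 4 (.node 2 (.node 1 (.one ⟨14573, 2, 2⟩) (.one ⟨2859, 2, 3⟩)) (.node 1 (.one ⟨6774, 2, 4⟩) (.one ⟨12099, 2, 6⟩))) (.node 2 (.node 1 (.one ⟨4155, 0, 2⟩) (.one ⟨3457, 0, 3⟩)) (.node 1 (.one ⟨8500, 2, 3⟩) (.one ⟨12464, 2, 4⟩)))))))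
def par9_4_13 : Arr Par :=
  (.node 32 (.node 16 (.node 8 (.node 4 (.node 2 (.node 1 (.one ⟨9930, 2, 3⟩) (.one ⟨12469, 2, 5⟩)) (.node 1 (.one ⟨9932, 2, 3⟩) (.one ⟨4916, 0, 4⟩))) (.node 2 (.node 1 (.one ⟨12470, 2, 5⟩) (.one ⟨9928, 2, 3⟩)) (.node 1 (.one ⟨12463, 2, 3⟩) (.one ⟨6625, 0, 2⟩)))) (.node 4 (.node 2 (.node 1 (.one ⟨12234, 0, 2⟩) (.one ⟨12020, 1, 6⟩)) (.node 1 (.one ⟨7174, 2, 5⟩) (.one ⟨9133, 0, 3⟩))) (.node 2 (.node 1 (.one ⟨4757, 2, 3⟩) (.one ⟨6395, 1, 6⟩)) (.node 1 (.one ⟨16980, 0, 4⟩) (.one ⟨8731, 0, 4⟩))))) (.node 8 (.node 4 (.node 2 (.node 1 (.one ⟨4964, 0, 3⟩) (.one ⟨16515, 0, 4⟩)) (.node 1 (.one ⟨12854, 0, 4⟩) (.one ⟨13891, 0, 5⟩))) (.node 2 (.node 1 (.one ⟨9308, 0, 3⟩) (.one ⟨14019, 1, 4⟩))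 (.node 1 (.one ⟨2032, 0, 4⟩) (.one ⟨10550, 1, 2⟩)))) (.node 4 (.node 2 (.node 1 (.one ⟨2522, 0, 4⟩) (.one ⟨2965, 1, 2⟩)) (.node 1 (.one ⟨16254, 0, 4⟩) (.one ⟨10721, 2, 5⟩))) (.node 2 (.node 1 (.one ⟨2630, 2, 6⟩) (.one ⟨2622, 2, 3⟩)) (.node 1 (.one ⟨2091, 0, 4⟩) (.one ⟨4397, 2, 6⟩)))))) (.node 16 (.node 8 (.node 4 (.node 2 (.node 1 (.one ⟨4238, 1, 4⟩) (.one ⟨9026, 2, 4⟩)) (.node 1 (.one ⟨6702, 2, 4⟩) (.one ⟨1799, 1, 1⟩))) (.node 2 (.node 1 (.one ⟨4513, 1, 2⟩) (.one ⟨16317, 0, 3⟩)) (.node 1 (.one ⟨8842, 1, 2⟩) (.one ⟨5680, 0, 1⟩)))) (.node 4 (.node 2 (.node 1 (.one ⟨5165, 2, 4⟩) (.one ⟨2357, 2, 4⟩)) (.node 1 (.one ⟨12277, 2, 6⟩) (.one ⟨5471, 2, 6⟩))) (.node 2 (.node 1 (.one ⟨5681, 0, 1⟩) (.one ⟨12160, 2, 4⟩))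 (.node 1 (.one ⟨5682, 0, 1⟩) (.one ⟨4365, 2, 5⟩))))) (.node 8 (.node 4 (.node 2 (.node 1 (.one ⟨16426, 2, 6⟩) (.one ⟨13635, 2, 6⟩)) (.node 1 (.one ⟨10189, 0, 3⟩) (.one ⟨5109, 1, 0⟩))) (.node 2 (.node 1 (.one ⟨5567, 0, 3⟩) (.one ⟨12172, 0, 5⟩)) (.node 1 (.one ⟨10208, 1, 2⟩) (.one ⟨10776, 2, 4⟩)))) (.node 4 (.node 2 (.node 1 (.one ⟨12949, 1, 2⟩) (.one ⟨11653, 0, 4⟩)) (.node 1 (.one ⟨12510, 0, 4⟩) (.one ⟨16247, 0, 4⟩))) (.node 2 (.node 1 (.one ⟨10768, 2, 5⟩) (.one ⟨2525, 0, 4⟩)) (.node 1 (.one ⟨2700, 2, 2⟩) (.one ⟨16721, 0, 4⟩)))))))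
def par9_4_14 : Arr Par :=
  (.node 32 (.node 16 (.node 8 (.node 4 (.node 2 (.node 1 (.one ⟨12768, 0, 4⟩) (.one ⟨7778, 2, 4⟩)) (.node 1 (.one ⟨8289, 0, 4⟩) (.one ⟨1815, 2, 4⟩))) (.node 2 (.node 1 (.one ⟨16799, 2, 4⟩) (.one ⟨2989, 2, 4⟩)) (.node 1 (.one ⟨15770, 2, 5⟩) (.one ⟨13568, 2, 5⟩)))) (.node 4 (.node 2 (.node 1 (.one ⟨14756, 1, 3⟩) (.one ⟨8311, 2, 3⟩)) (.node 1 (.one ⟨16425, 2, 4⟩) (.one ⟨536, 2, 5⟩))) (.node 2 (.node 1 (.one ⟨7919, 0, 6⟩) (.one ⟨14818, 2, 4⟩)) (.node 1 (.one ⟨6787, 2, 5⟩) (.one ⟨5161, 2, 3⟩))))) (.node 8 (.node 4 (.node 2 (.node 1 (.one ⟨15611, 2, 5⟩) (.one ⟨2225, 0, 1⟩)) (.node 1 (.one ⟨2718, 0, 2⟩) (.one ⟨6416, 2, 5⟩))) (.node 2 (.node 1 (.one ⟨14093, 0, 4⟩) (.one ⟨61, 0, 3⟩)) (.node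 1 (.one ⟨2183, 0, 5⟩) (.one ⟨3863, 0, 3⟩)))) (.node 4 (.node 2 (.node 1 (.one ⟨4111, 0, 3⟩) (.one ⟨13163, 2, 3⟩)) (.node 1 (.one ⟨11656, 0, 6⟩) (.one ⟨191, 0, 5⟩))) (.node 2 (.node 1 (.one ⟨2490, 0, 3⟩) (.one ⟨10537, 2, 4⟩)) (.node 1 (.one ⟨5740, 1, 3⟩) (.one ⟨6783, 2, 6⟩)))))) (.node 16 (.node 8 (.node 4 (.node 2 (.node 1 (.one ⟨520, 2, 5⟩) (.one ⟨2294, 2, 3⟩)) (.node 1 (.one ⟨7453, 2, 5⟩) (.one ⟨17181, 2, 4⟩))) (.node 2 (.node 1 (.one ⟨286, 0, 5⟩) (.one ⟨11830, 2, 5⟩)) (.node 1 (.one ⟨16642, 2, 5⟩) (.one ⟨9652, 0, 2⟩)))) (.node 4 (.node 2 (.node 1 (.one ⟨4624, 2, 5⟩) (.one ⟨6488, 0, 2⟩)) (.node 1 (.one ⟨14620, 0, 2⟩) (.one ⟨11635, 1, 6⟩))) (.node 2 (.node 1 (.one ⟨6460, 0, 5⟩) (.one ⟨2688, 1, 6⟩)) (.node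 1 (.one ⟨9716, 0, 5⟩) (.one ⟨14336, 2, 3⟩))))) (.node 8 (.node 4 (.node 2 (.node 1 (.one ⟨419, 0, 3⟩) (.one ⟨4940, 0, 4⟩)) (.node 1 (.one ⟨3344, 0, 3⟩) (.one ⟨15845, 0, 6⟩))) (.node 2 (.node 1 (.one ⟨10998, 2, 1⟩) (.one ⟨16895, 0, 3⟩)) (.node 1 (.one ⟨10762, 2, 1⟩) (.one ⟨5945, 2, 1⟩)))) (.node 4 (.node 2 (.node 1 (.one ⟨3777, 2, 5⟩) (.one ⟨5575, 0, 3⟩)) (.node 1 (.one ⟨11107, 0, 6⟩) (.one ⟨16416, 0, 4⟩))) (.node 2 (.node 1 (.one ⟨7413, 2, 6⟩) (.one ⟨1040, 1, 5⟩)) (.node 1 (.one ⟨14771, 2, 6⟩) (.one ⟨13664, 2, 5⟩)))))))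
def par9_4_15 : Arr Par :=
  (.node 32 (.node 16 (.node 8 (.node 4 (.node 2 (.node 1 (.one ⟨7691, 2, 2⟩) (.one ⟨16349, 2, 4⟩)) (.node 1 (.one ⟨6512, 2, 5⟩) (.one ⟨11925, 0, 2⟩))) (.node 2 (.node 1 (.one ⟨16239, 2, 5⟩) (.one ⟨8032, 2, 5⟩)) (.node 1 (.one ⟨16352, 0, 4⟩) (.one ⟨3668, 1, 2⟩)))) (.node 4 (.node 2 (.node 1 (.one ⟨6249, 0, 4⟩) (.one ⟨712, 0, 4⟩)) (.node 1 (.one ⟨15993, 0, 5⟩) (.one ⟨9142, 1, 2⟩))) (.node 2 (.node 1 (.one ⟨16504, 2, 4⟩) (.one ⟨16006, 0, 5⟩)) (.node 1 (.one ⟨13955, 2, 4⟩) (.one ⟨10041, 2, 5⟩))))) (.node 8 (.node 4 (.node 2 (.node 1 (.one ⟨4416, 0, 3⟩) (.one ⟨1513, 1, 2⟩)) (.node 1 (.one ⟨7037, 2, 6⟩) (.one ⟨13544, 0, 5⟩))) (.node 2 (.node 1 (.one ⟨12092, 2, 2⟩) (.one ⟨9996, 0, 4⟩))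 (.node 1 (.one ⟨17072, 2, 5⟩) (.one ⟨8705, 0, 4⟩)))) (.node 4 (.node 2 (.node 1 (.one ⟨11029, 0, 2⟩) (.one ⟨10382, 1, 5⟩)) (.node 1 (.one ⟨11250, 2, 3⟩) (.one ⟨11252, 2, 3⟩))) (.node 2 (.node 1 (.one ⟨806, 0, 3⟩) (.one ⟨16900, 0, 2⟩)) (.node 1 (.one ⟨3281, 0, 4⟩) (.one ⟨11084, 0, 6⟩)))))) (.node 16 (.node 8 (.node 4 (.node 2 (.node 1 (.one ⟨183, 0, 6⟩) (.one ⟨9260, 2, 3⟩)) (.node 1 (.one ⟨2373, 2, 3⟩) (.one ⟨13632, 2, 3⟩))) (.node 2 (.node 1 (.one ⟨9297, 0, 6⟩) (.one ⟨4793, 1, 4⟩)) (.node 1 (.one ⟨14412, 2, 6⟩) (.one ⟨8886, 2, 6⟩)))) (.node 4 (.node 2 (.node 1 (.one ⟨1685, 2, 4⟩) (.one ⟨16617, 0, 6⟩)) (.node 1 (.one ⟨1558, 2, 1⟩) (.one ⟨15749, 1, 4⟩))) (.node 2 (.node 1 (.one ⟨4764, 1, 4⟩) (.one ⟨12837, 2,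 4⟩)) (.node 1 (.one ⟨14410, 2, 5⟩) (.one ⟨4442, 2, 4⟩))))) (.node 8 (.node 4 (.node 2 (.node 1 (.one ⟨9949, 0, 5⟩) (.one ⟨8815, 2, 2⟩)) (.node 1 (.one ⟨7465, 0, 1⟩) (.one ⟨8361, 2, 2⟩))) (.node 2 (.node 1 (.one ⟨1012, 2, 4⟩) (.one ⟨5270, 2, 2⟩)) (.node 1 (.one ⟨6972, 2, 5⟩) (.one ⟨60, 2, 4⟩)))) (.node 4 (.node 2 (.node 1 (.one ⟨10647, 0, 4⟩) (.one ⟨8707, 0, 3⟩)) (.node 1 (.one ⟨5846, 2, 7⟩) (.one ⟨4963, 2, 2⟩))) (.node 2 (.node 1 (.one ⟨4564, 0, 4⟩) (.one ⟨4921, 2, 4⟩)) (.node 1 (.one ⟨8732, 2, 4⟩) (.one ⟨15649, 2, 4⟩)))))))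
def par9_4 : Arr Par :=
  (.node 512 (.node 256 (.node 128 (.node 64 par9_4_0 par9_4_1) (.node 64 par9_4_2 par9_4_3)) (.node 128 (.node 64 par9_4_4 par9_4_5) (.node 64 par9_4_6 par9_4_7))) (.node 256 (.node 128 (.node 64 par9_4_8 par9_4_9) (.node 64 par9_4_10 par9_4_11)) (.node 128 (.node 64 par9_4_12 par9_4_13) (.node 64 par9_4_14 par9_4_15))))
def par9_5_0 : Arr Par :=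
  (.node 32 (.node 16 (.node 8 (.node 4 (.node 2 (.node 1 (.one ⟨5609, 2, 5⟩) (.one ⟨7888, 0, 3⟩)) (.node 1 (.one ⟨312, 1, 3⟩) (.one ⟨11317, 2, 4⟩))) (.node 2 (.node 1 (.one ⟨236, 0, 4⟩) (.one ⟨6940, 0, 2⟩)) (.node 1 (.one ⟨4717, 2, 5⟩) (.one ⟨12097, 2, 4⟩)))) (.node 4 (.node 2 (.node 1 (.one ⟨4288, 2, 4⟩) (.one ⟨16482, 0, 4⟩)) (.node 1 (.one ⟨10952, 2, 2⟩) (.one ⟨13115, 0, 4⟩))) (.node 2 (.node 1 (.one ⟨9998, 0, 2⟩) (.one ⟨1721, 2, 5⟩)) (.node 1 (.one ⟨9914, 2, 6⟩) (.one ⟨15648, 2, 4⟩))))) (.node 8 (.node 4 (.node 2 (.node 1 (.one ⟨9978, 0, 2⟩) (.one ⟨6137, 0, 4⟩)) (.node 1 (.one ⟨6885, 2, 3⟩) (.one ⟨7883, 2, 6⟩))) (.node 2 (.node 1 (.one ⟨1791, 1, 6⟩) (.one ⟨10924, 0, 5⟩)) (.node 1 (.one ⟨16348, 2, 5⟩) (.one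 ⟨14211, 1, 2⟩)))) (.node 4 (.node 2 (.node 1 (.one ⟨15851, 0, 6⟩) (.one ⟨9105, 0, 6⟩)) (.node 1 (.one ⟨10917, 2, 3⟩) (.one ⟨7489, 0, 4⟩))) (.node 2 (.node 1 (.one ⟨5454, 2, 4⟩) (.one ⟨11704, 0, 6⟩)) (.node 1 (.one ⟨6666, 1, 2⟩) (.one ⟨7094, 2, 3⟩)))))) (.node 16 (.node 8 (.node 4 (.node 2 (.node 1 (.one ⟨715, 2, 3⟩) (.one ⟨15685, 0, 2⟩)) (.node 1 (.one ⟨5750, 2, 3⟩) (.one ⟨7022, 2, 3⟩))) (.node 2 (.node 1 (.one ⟨2669, 2, 3⟩) (.one ⟨2886, 2, 3⟩)) (.node 1 (.one ⟨6469, 2, 2⟩) (.one ⟨1267, 2, 5⟩)))) (.node 4 (.node 2 (.node 1 (.one ⟨1477, 2, 5⟩) (.one ⟨7476, 1, 2⟩)) (.node 1 (.one ⟨64, 2, 6⟩) (.one ⟨6984, 2, 5⟩))) (.node 2 (.node 1 (.one ⟨7007, 2, 4⟩) (.one ⟨7006, 2, 3⟩)) (.node 1 (.one ⟨6964, 2, 6⟩) (.one ⟨2260,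 2, 5⟩))))) (.node 8 (.node 4 (.node 2 (.node 1 (.one ⟨1558, 1, 1⟩) (.one ⟨10463, 2, 7⟩)) (.node 1 (.one ⟨1779, 0, 6⟩) (.one ⟨7208, 2, 7⟩))) (.node 2 (.node 1 (.one ⟨14840, 2, 5⟩) (.one ⟨15414, 2, 4⟩)) (.node 1 (.one ⟨9379, 1, 1⟩) (.one ⟨1766, 2, 6⟩)))) (.node 4 (.node 2 (.node 1 (.one ⟨1266, 2, 5⟩) (.one ⟨4461, 0, 4⟩)) (.node 1 (.one ⟨1841, 2, 2⟩) (.one ⟨6910, 2, 2⟩))) (.node 2 (.node 1 (.one ⟨6973, 2, 5⟩) (.one ⟨6633, 2, 2⟩)) (.node 1 (.one ⟨2099, 1, 1⟩) (.one ⟨12520, 0, 5⟩)))))))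
def par9_5_1 : Arr Par :=
  (.node 32 (.node 16 (.node 8 (.node 4 (.node 2 (.node 1 (.one ⟨17101, 2, 4⟩) (.one ⟨14005, 0, 4⟩)) (.node 1 (.one ⟨1978, 0, 3⟩) (.one ⟨12003, 0, 3⟩))) (.node 2 (.node 1 (.one ⟨9431, 2, 3⟩) (.one ⟨585, 2, 1⟩)) (.node 1 (.one ⟨958, 1, 4⟩) (.one ⟨7771, 2, 7⟩)))) (.node 4 (.node 2 (.node 1 (.one ⟨6207, 2, 2⟩) (.one ⟨6209, 2, 3⟩)) (.node 1 (.one ⟨7773, 2, 6⟩) (.one ⟨11632, 1, 4⟩))) (.node 2 (.node 1 (.one ⟨11680, 1, 2⟩) (.one ⟨15501, 0, 4⟩)) (.node 1 (.one ⟨7774, 2, 4⟩) (.one ⟨10093, 2, 4⟩))))) (.node 8 (.node 4 (.node 2 (.node 1 (.one ⟨17109, 2, 4⟩) (.one ⟨6614, 1, 4⟩)) (.node 1 (.one ⟨16965, 2, 5⟩) (.one ⟨3112, 1, 1⟩))) (.node 2 (.node 1 (.one ⟨6081, 1, 3⟩) (.one ⟨5360, 1, 3⟩)) (.node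 1 (.one ⟨8305, 1, 2⟩) (.one ⟨7160, 0, 5⟩)))) (.node 4 (.node 2 (.node 1 (.one ⟨6510, 2, 4⟩) (.one ⟨15926, 0, 4⟩)) (.node 1 (.one ⟨8758, 2, 2⟩) (.one ⟨10374, 2, 3⟩))) (.node 2 (.node 1 (.one ⟨11604, 1, 3⟩) (.one ⟨13452, 2, 3⟩)) (.node 1 (.one ⟨16534, 2, 4⟩) (.one ⟨2142, 0, 3⟩)))))) (.node 16 (.node 8 (.node 4 (.node 2 (.node 1 (.one ⟨620, 0, 4⟩) (.one ⟨5780, 0, 5⟩)) (.node 1 (.one ⟨6008, 0, 5⟩) (.one ⟨1772, 0, 5⟩))) (.node 2 (.node 1 (.one ⟨1950, 0, 5⟩) (.one ⟨16080, 2, 5⟩)) (.node 1 (.one ⟨14562, 2, 3⟩) (.one ⟨14457, 0, 5⟩)))) (.node 4 (.node 2 (.node 1 (.one ⟨16753, 2, 5⟩) (.one ⟨8097, 0, 5⟩)) (.node 1 (.one ⟨10233, 0, 2⟩) (.one ⟨667, 1, 6⟩))) (.node 2 (.node 1 (.one ⟨4362, 1, 6⟩) (.one ⟨10716, 1, 6⟩)) (.node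 1 (.one ⟨12246, 0, 5⟩) (.one ⟨6147, 2, 4⟩))))) (.node 8 (.node 4 (.node 2 (.node 1 (.one ⟨15494, 2, 6⟩) (.one ⟨2994, 2, 5⟩)) (.node 1 (.one ⟨10446, 2, 5⟩) (.one ⟨9973, 0, 3⟩))) (.node 2 (.node 1 (.one ⟨3221, 2, 4⟩) (.one ⟨15001, 2, 3⟩)) (.node 1 (.one ⟨6317, 2, 6⟩) (.one ⟨2140, 0, 2⟩)))) (.node 4 (.node 2 (.node 1 (.one ⟨1005, 0, 4⟩) (.one ⟨15874, 0, 4⟩)) (.node 1 (.one ⟨12354, 2, 5⟩) (.one ⟨9642, 0, 5⟩))) (.node 2 (.node 1 (.one ⟨10242, 0, 4⟩) (.one ⟨5102, 1, 0⟩)) (.node 1 (.one ⟨7774, 0, 4⟩) (.one ⟨1388, 1, 4⟩)))))))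
def par9_5_2 : Arr Par :=
  (.node 32 (.node 16 (.node 8 (.node 4 (.node 2 (.node 1 (.one ⟨1114, 0, 5⟩) (.one ⟨4286, 0, 4⟩)) (.node 1 (.one ⟨6360, 2, 5⟩) (.one ⟨5563, 0, 4⟩))) (.node 2 (.node 1 (.one ⟨9561, 2, 2⟩) (.one ⟨4816, 2, 5⟩)) (.node 1 (.one ⟨8304, 0, 4⟩) (.one ⟨2763, 2, 6⟩)))) (.node 4 (.node 2 (.node 1 (.one ⟨13688, 2, 6⟩) (.one ⟨16396, 0, 4⟩)) (.node 1 (.one ⟨8847, 0, 2⟩) (.one ⟨6262, 0, 3⟩))) (.node 2 (.node 1 (.one ⟨15614, 0, 5⟩) (.one ⟨1656, 1, 3⟩)) (.node 1 (.one ⟨11815, 0, 3⟩) (.one ⟨1281, 2, 1⟩))))) (.node 8 (.node 4 (.node 2 (.node 1 (.one ⟨4610, 0, 6⟩) (.one ⟨7172, 2, 5⟩)) (.node 1 (.one ⟨9920, 2, 5⟩) (.one ⟨14865, 0, 3⟩))) (.node 2 (.node 1 (.one ⟨7587, 2, 3⟩) (.one ⟨8709, 1, 4⟩)) (.node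 1 (.one ⟨1904, 2, 1⟩) (.one ⟨7287, 2, 3⟩)))) (.node 4 (.node 2 (.node 1 (.one ⟨7574, 2, 5⟩) (.one ⟨14821, 0, 4⟩)) (.node 1 (.one ⟨2950, 0, 5⟩) (.one ⟨1840, 2, 6⟩))) (.node 2 (.node 1 (.one ⟨899, 2, 6⟩) (.one ⟨1896, 2, 4⟩)) (.node 1 (.one ⟨1526, 2, 3⟩) (.one ⟨13080, 0, 5⟩)))))) (.node 16 (.node 8 (.node 4 (.node 2 (.node 1 (.one ⟨8079, 1, 2⟩) (.one ⟨7788, 2, 6⟩)) (.node 1 (.one ⟨16161, 0, 5⟩) (.one ⟨2322, 0, 3⟩))) (.node 2 (.node 1 (.one ⟨14051, 1, 3⟩) (.one ⟨13744, 2, 6⟩)) (.node 1 (.one ⟨5472, 2, 3⟩) (.one ⟨9085, 2, 3⟩)))) (.node 4 (.node 2 (.node 1 (.one ⟨10168, 0, 6⟩) (.one ⟨8975, 2, 4⟩)) (.node 1 (.one ⟨10174, 0, 2⟩) (.one ⟨10173, 0, 3⟩))) (.node 2 (.node 1 (.one ⟨2134, 2, 5⟩) (.one ⟨10167, 0, 2⟩)) (.node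 1 (.one ⟨10171, 0, 4⟩) (.one ⟨11769, 1, 4⟩))))) (.node 8 (.node 4 (.node 2 (.node 1 (.one ⟨10017, 2, 4⟩) (.one ⟨6808, 0, 2⟩)) (.node 1 (.one ⟨10020, 2, 6⟩) (.one ⟨7735, 0, 1⟩))) (.node 2 (.node 1 (.one ⟨10019, 2, 3⟩) (.one ⟨10022, 2, 2⟩)) (.node 1 (.one ⟨10018, 2, 4⟩) (.one ⟨11432, 2, 2⟩)))) (.node 4 (.node 2 (.node 1 (.one ⟨13396, 0, 3⟩) (.one ⟨14068, 0, 3⟩)) (.node 1 (.one ⟨8066, 2, 6⟩) (.one ⟨8851, 0, 3⟩))) (.node 2 (.node 1 (.one ⟨3701, 0, 3⟩) (.one ⟨7587, 0, 3⟩)) (.node 1 (.one ⟨714, 0, 3⟩) (.one ⟨14513, 1, 4⟩)))))))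
def par9_5_3 : Arr Par :=
  (.node 32 (.node 16 (.node 8 (.node 4 (.node 2 (.node 1 (.one ⟨1981, 0, 5⟩) (.one ⟨14234, 2, 4⟩)) (.node 1 (.one ⟨8360, 0, 5⟩) (.one ⟨13281, 0, 4⟩))) (.node 2 (.node 1 (.one ⟨9256, 0, 4⟩) (.one ⟨9428, 2, 5⟩)) (.node 1 (.one ⟨6939, 1, 2⟩) (.one ⟨10351, 0, 4⟩)))) (.node 4 (.node 2 (.node 1 (.one ⟨12332, 0, 4⟩) (.one ⟨15789, 2, 4⟩)) (.node 1 (.one ⟨7192, 0, 4⟩) (.one ⟨13176, 2, 3⟩))) (.node 2 (.node 1 (.one ⟨7173, 2, 3⟩) (.one ⟨8196, 2, 5⟩)) (.node 1 (.one ⟨10513, 2, 5⟩) (.one ⟨10887, 2, 5⟩))))) (.node 8 (.node 4 (.node 2 (.node 1 (.one ⟨5126, 1, 0⟩) (.one ⟨13777, 2, 6⟩)) (.node 1 (.one ⟨13504, 0, 2⟩) (.one ⟨3373, 2, 2⟩))) (.node 2 (.node 1 (.one ⟨16029, 2, 3⟩) (.one ⟨16462, 0, 5⟩))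 (.node 1 (.one ⟨13033, 2, 3⟩) (.one ⟨12044, 2, 2⟩)))) (.node 4 (.node 2 (.node 1 (.one ⟨8572, 0, 4⟩) (.one ⟨12042, 2, 3⟩)) (.node 1 (.one ⟨12045, 2, 3⟩) (.one ⟨12046, 2, 3⟩))) (.node 2 (.node 1 (.one ⟨12041, 2, 5⟩) (.one ⟨12040, 2, 4⟩)) (.node 1 (.one ⟨12043, 2, 3⟩) (.one ⟨2769, 0, 4⟩)))))) (.node 16 (.node 8 (.node 4 (.node 2 (.node 1 (.one ⟨4490, 0, 4⟩) (.one ⟨10611, 0, 3⟩)) (.node 1 (.one ⟨12651, 0, 4⟩) (.one ⟨7628, 2, 3⟩))) (.node 2 (.node 1 (.one ⟨10609, 2, 4⟩) (.one ⟨11896, 2, 3⟩)) (.node 1 (.one ⟨9699, 1, 3⟩) (.one ⟨5603, 0, 3⟩)))) (.node 4 (.node 2 (.node 1 (.one ⟨888, 2, 7⟩) (.one ⟨15333, 0, 4⟩)) (.node 1 (.one ⟨16190, 2, 3⟩) (.one ⟨9377, 0, 4⟩))) (.node 2 (.node 1 (.one ⟨7373, 2, 5⟩) (.one ⟨11901,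 2, 2⟩)) (.node 1 (.one ⟨12636, 2, 4⟩) (.one ⟨5376, 1, 0⟩))))) (.node 8 (.node 4 (.node 2 (.node 1 (.one ⟨3095, 0, 2⟩) (.one ⟨4549, 0, 1⟩)) (.node 1 (.one ⟨3877, 0, 2⟩) (.one ⟨15583, 0, 6⟩))) (.node 2 (.node 1 (.one ⟨6937, 1, 5⟩) (.one ⟨16366, 0, 4⟩)) (.node 1 (.one ⟨16958, 0, 4⟩) (.one ⟨14372, 2, 2⟩)))) (.node 4 (.node 2 (.node 1 (.one ⟨4860, 1, 0⟩) (.one ⟨5776, 2, 7⟩)) (.node 1 (.one ⟨15410, 2, 4⟩) (.one ⟨2794, 2, 5⟩))) (.node 2 (.node 1 (.one ⟨9502, 1, 1⟩) (.one ⟨11238, 2, 3⟩)) (.node 1 (.one ⟨837, 2, 4⟩) (.one ⟨15034, 0, 2⟩)))))))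
def par9_5_4 : Arr Par :=
  (.node 32 (.node 16 (.node 8 (.node 4 (.node 2 (.node 1 (.one ⟨13943, 1, 6⟩) (.one ⟨10192, 0, 5⟩)) (.node 1 (.one ⟨7502, 0, 5⟩) (.one ⟨6659, 0, 6⟩))) (.node 2 (.node 1 (.one ⟨10458, 0, 6⟩) (.one ⟨625, 0, 3⟩)) (.node 1 (.one ⟨7893, 2, 2⟩) (.one ⟨14955, 2, 2⟩)))) (.node 4 (.node 2 (.node 1 (.one ⟨68, 1, 1⟩) (.one ⟨1790, 0, 2⟩)) (.node 1 (.one ⟨7042, 2, 3⟩) (.one ⟨1521, 1, 4⟩))) (.node 2 (.node 1 (.one ⟨9844, 2, 6⟩) (.one ⟨1080, 2, 6⟩)) (.node 1 (.one ⟨10026, 2, 5⟩) (.one ⟨16127, 2, 5⟩))))) (.node 8 (.node 4 (.node 2 (.node 1 (.one ⟨16003, 0, 6⟩) (.one ⟨14377, 0, 4⟩)) (.node 1 (.one ⟨13098, 2, 5⟩) (.one ⟨2862, 2, 5⟩))) (.node 2 (.node 1 (.one ⟨8616, 2, 3⟩) (.one ⟨2307, 0, 4⟩)) (.node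 1 (.one ⟨5643, 2, 5⟩) (.one ⟨13737, 0, 5⟩)))) (.node 4 (.node 2 (.node 1 (.one ⟨8784, 0, 6⟩) (.one ⟨11287, 2, 5⟩)) (.node 1 (.one ⟨3885, 2, 5⟩) (.one ⟨7598, 2, 3⟩))) (.node 2 (.node 1 (.one ⟨13201, 0, 5⟩) (.one ⟨14510, 2, 6⟩)) (.node 1 (.one ⟨5865, 0, 3⟩) (.one ⟨15785, 0, 4⟩)))))) (.node 16 (.node 8 (.node 4 (.node 2 (.node 1 (.one ⟨11032, 0, 6⟩) (.one ⟨3995, 2, 5⟩)) (.node 1 (.one ⟨6759, 2, 5⟩) (.one ⟨9493, 2, 1⟩))) (.node 2 (.node 1 (.one ⟨5974, 0, 4⟩) (.one ⟨6915, 2, 5⟩)) (.node 1 (.one ⟨4489, 2, 5⟩) (.one ⟨15849, 0, 6⟩)))) (.node 4 (.node 2 (.node 1 (.one ⟨4729, 2, 3⟩) (.one ⟨14611, 2, 2⟩)) (.node 1 (.one ⟨13555, 2, 4⟩) (.one ⟨5384, 1, 2⟩))) (.node 2 (.node 1 (.one ⟨8460, 1, 4⟩) (.one ⟨11710, 0, 6⟩)) (.node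 1 (.one ⟨12619, 2, 3⟩) (.one ⟨1912, 2, 6⟩))))) (.node 8 (.node 4 (.node 2 (.node 1 (.one ⟨11944, 2, 3⟩) (.one ⟨11123, 2, 3⟩)) (.node 1 (.one ⟨11930, 1, 2⟩) (.one ⟨12664, 2, 6⟩))) (.node 2 (.node 1 (.one ⟨2823, 2, 4⟩) (.one ⟨3580, 2, 6⟩)) (.node 1 (.one ⟨9445, 0, 5⟩) (.one ⟨6852, 1, 2⟩)))) (.node 4 (.node 2 (.node 1 (.one ⟨23, 2, 5⟩) (.one ⟨3596, 0, 3⟩)) (.node 1 (.one ⟨11833, 2, 4⟩) (.one ⟨13729, 0, 5⟩))) (.node 2 (.node 1 (.one ⟨5158, 1, 0⟩) (.one ⟨17073, 2, 6⟩)) (.node 1 (.one ⟨5706, 1, 2⟩) (.one ⟨6536, 2, 5⟩)))))))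
def par9_5_5 : Arr Par :=
  (.node 32 (.node 16 (.node 8 (.node 4 (.node 2 (.node 1 (.one ⟨4773, 0, 4⟩) (.one ⟨6470, 2, 3⟩)) (.node 1 (.one ⟨4587, 2, 4⟩) (.one ⟨10188, 0, 3⟩))) (.node 2 (.node 1 (.one ⟨1326, 2, 4⟩) (.one ⟨9104, 2, 6⟩)) (.node 1 (.one ⟨11649, 0, 4⟩) (.one ⟨9341, 2, 3⟩)))) (.node 4 (.node 2 (.node 1 (.one ⟨11405, 1, 5⟩) (.one ⟨1330, 2, 3⟩)) (.node 1 (.one ⟨9168, 2, 3⟩) (.one ⟨5249, 2, 5⟩))) (.node 2 (.node 1 (.one ⟨13231, 2, 5⟩) (.one ⟨13267, 2, 6⟩)) (.node 1 (.one ⟨5280, 2, 3⟩) (.one ⟨16892, 2, 3⟩))))) (.node 8 (.node 4 (.node 2 (.node 1 (.one ⟨14601, 0, 3⟩) (.one ⟨5308, 2, 4⟩)) (.node 1 (.one ⟨14600, 0, 1⟩) (.one ⟨12545, 2, 6⟩))) (.node 2 (.node 1 (.one ⟨14599, 0, 1⟩) (.one ⟨8160, 2, 6⟩)) (.node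 1 (.one ⟨14602, 0, 5⟩) (.one ⟨12844, 0, 2⟩)))) (.node 4 (.node 2 (.node 1 (.one ⟨6257, 1, 1⟩) (.one ⟨15390, 2, 3⟩)) (.node 1 (.one ⟨8452, 2, 2⟩) (.one ⟨3911, 2, 3⟩))) (.node 2 (.node 1 (.one ⟨9586, 2, 2⟩) (.one ⟨952, 2, 3⟩)) (.node 1 (.one ⟨11987, 2, 5⟩) (.one ⟨14165, 0, 5⟩)))))) (.node 16 (.node 8 (.node 4 (.node 2 (.node 1 (.one ⟨8079, 2, 2⟩) (.one ⟨8080, 2, 6⟩)) (.node 1 (.one ⟨8084, 2, 6⟩) (.one ⟨13900, 0, 5⟩))) (.node 2 (.node 1 (.one ⟨1486, 0, 5⟩) (.one ⟨17150, 0, 5⟩)) (.node 1 (.one ⟨15367, 1, 3⟩) (.one ⟨9692, 0, 3⟩)))) (.node 4 (.node 2 (.node 1 (.one ⟨4914, 1, 0⟩) (.one ⟨2391, 2, 4⟩)) (.node 1 (.one ⟨2661, 0, 1⟩) (.one ⟨5169, 1, 0⟩))) (.node 2 (.node 1 (.one ⟨16295, 1, 3⟩) (.one ⟨5307, 1, 0⟩)) (.node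 1 (.one ⟨14481, 2, 2⟩) (.one ⟨2487, 2, 5⟩))))) (.node 8 (.node 4 (.node 2 (.node 1 (.one ⟨10454, 0, 5⟩) (.one ⟨11939, 2, 4⟩)) (.node 1 (.one ⟨12775, 2, 4⟩) (.one ⟨17099, 0, 1⟩))) (.node 2 (.node 1 (.one ⟨12279, 0, 5⟩) (.one ⟨3867, 0, 3⟩)) (.node 1 (.one ⟨15481, 2, 5⟩) (.one ⟨3417, 2, 4⟩)))) (.node 4 (.node 2 (.node 1 (.one ⟨16226, 2, 4⟩) (.one ⟨9804, 0, 4⟩)) (.node 1 (.one ⟨14107, 0, 6⟩) (.one ⟨7327, 2, 5⟩))) (.node 2 (.node 1 (.one ⟨12399, 2, 2⟩) (.one ⟨2985, 2, 5⟩)) (.node 1 (.one ⟨15768, 2, 2⟩) (.one ⟨3094, 2, 4⟩)))))))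
def par9_5_6 : Arr Par :=
  (.node 32 (.node 16 (.node 8 (.node 4 (.node 2 (.node 1 (.one ⟨14754, 2, 3⟩) (.one ⟨3146, 0, 5⟩)) (.node 1 (.one ⟨915, 2, 4⟩) (.one ⟨9495, 0, 5⟩))) (.node 2 (.node 1 (.one ⟨11860, 2, 6⟩) (.one ⟨12661, 2, 3⟩)) (.node 1 (.one ⟨5674, 1, 2⟩) (.one ⟨2834, 2, 4⟩)))) (.node 4 (.node 2 (.node 1 (.one ⟨6662, 2, 4⟩) (.one ⟨14463, 2, 2⟩)) (.node 1 (.one ⟨10386, 2, 4⟩) (.one ⟨10874, 0, 3⟩))) (.node 2 (.node 1 (.one ⟨15278, 2, 3⟩) (.one ⟨5777, 2, 3⟩)) (.node 1 (.one ⟨15267, 0, 5⟩) (.one ⟨12785, 0, 4⟩))))) (.node 8 (.node 4 (.node 2 (.node 1 (.one ⟨1798, 2, 5⟩) (.one ⟨6917, 0, 4⟩)) (.node 1 (.one ⟨12554, 2, 1⟩) (.one ⟨10920, 0, 5⟩))) (.node 2 (.node 1 (.one ⟨12217, 2, 4⟩) (.one ⟨8637, 0, 4⟩))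 (.node 1 (.one ⟨3547, 0, 4⟩) (.one ⟨16324, 2, 3⟩)))) (.node 4 (.node 2 (.node 1 (.one ⟨822, 2, 3⟩) (.one ⟨7039, 2, 6⟩)) (.node 1 (.one ⟨13255, 2, 6⟩) (.one ⟨5823, 2, 5⟩))) (.node 2 (.node 1 (.one ⟨12553, 2, 4⟩) (.one ⟨16827, 2, 5⟩)) (.node 1 (.one ⟨2883, 2, 6⟩) (.one ⟨8769, 2, 6⟩)))))) (.node 16 (.node 8 (.node 4 (.node 2 (.node 1 (.one ⟨15549, 2, 4⟩) (.one ⟨7917, 2, 6⟩)) (.node 1 (.one ⟨13703, 2, 4⟩) (.one ⟨13288, 2, 6⟩))) (.node 2 (.node 1 (.one ⟨3684, 0, 4⟩) (.one ⟨12281, 0, 4⟩)) (.node 1 (.one ⟨1720, 2, 6⟩) (.one ⟨5283, 2, 4⟩)))) (.node 4 (.node 2 (.node 1 (.one ⟨1974, 0, 5⟩) (.one ⟨9294, 0, 1⟩)) (.node 1 (.one ⟨1281, 0, 1⟩) (.one ⟨2062, 0, 6⟩))) (.node 2 (.node 1 (.one ⟨11467, 1, 1⟩) (.one ⟨5714, 2, 5⟩))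 (.node 1 (.one ⟨9565, 0, 1⟩) (.one ⟨14294, 2, 3⟩))))) (.node 8 (.node 4 (.node 2 (.node 1 (.one ⟨11021, 1, 4⟩) (.one ⟨5117, 1, 0⟩)) (.node 1 (.one ⟨7595, 2, 6⟩) (.one ⟨6534, 2, 6⟩))) (.node 2 (.node 1 (.one ⟨3263, 2, 5⟩) (.one ⟨10774, 2, 6⟩)) (.node 1 (.one ⟨15265, 2, 5⟩) (.one ⟨9936, 0, 3⟩)))) (.node 4 (.node 2 (.node 1 (.one ⟨6144, 0, 5⟩) (.one ⟨6568, 2, 3⟩)) (.node 1 (.one ⟨6572, 2, 2⟩) (.one ⟨9672, 0, 3⟩))) (.node 2 (.node 1 (.one ⟨6569, 2, 5⟩) (.one ⟨6571, 2, 3⟩)) (.node 1 (.one ⟨13998, 0, 5⟩) (.one ⟨5491, 2, 2⟩)))))))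
def par9_5_7 : Arr Par :=
  (.node 32 (.node 16 (.node 8 (.node 4 (.node 2 (.node 1 (.one ⟨16551, 1, 2⟩) (.one ⟨6392, 0, 6⟩)) (.node 1 (.one ⟨2887, 2, 4⟩) (.one ⟨10788, 0, 6⟩))) (.node 2 (.node 1 (.one ⟨13590, 0, 6⟩) (.one ⟨3372, 1, 3⟩)) (.node 1 (.one ⟨8365, 0, 5⟩) (.one ⟨4051, 0, 2⟩)))) (.node 4 (.node 2 (.node 1 (.one ⟨6697, 2, 4⟩) (.one ⟨10260, 2, 5⟩)) (.node 1 (.one ⟨443, 2, 5⟩) (.one ⟨4016, 0, 3⟩))) (.node 2 (.node 1 (.one ⟨12248, 2, 2⟩) (.one ⟨1425, 0, 3⟩)) (.node 1 (.one ⟨9334, 0, 3⟩) (.one ⟨11411, 2, 7⟩))))) (.node 8 (.node 4 (.node 2 (.node 1 (.one ⟨5260, 1, 0⟩) (.one ⟨16696, 2, 4⟩)) (.node 1 (.one ⟨13781, 1, 3⟩) (.one ⟨4278, 0, 4⟩))) (.node 2 (.node 1 (.one ⟨16353, 2, 2⟩) (.one ⟨15344, 0, 4⟩)) (.node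 1 (.one ⟨9195, 2, 1⟩) (.one ⟨10644, 0, 4⟩)))) (.node 4 (.node 2 (.node 1 (.one ⟨12783, 2, 5⟩) (.one ⟨14971, 0, 6⟩)) (.node 1 (.one ⟨12648, 2, 5⟩) (.one ⟨7545, 0, 6⟩))) (.node 2 (.node 1 (.one ⟨14529, 2, 5⟩) (.one ⟨1864, 0, 6⟩)) (.node 1 (.one ⟨14602, 2, 5⟩) (.one ⟨4705, 0, 4⟩)))))) (.node 16 (.node 8 (.node 4 (.node 2 (.node 1 (.one ⟨16835, 2, 7⟩) (.one ⟨12009, 2, 5⟩)) (.node 1 (.one ⟨14004, 2, 6⟩) (.one ⟨15271, 0, 2⟩))) (.node 2 (.node 1 (.one ⟨15268, 0, 3⟩) (.one ⟨13367, 0, 2⟩)) (.node 1 (.one ⟨13366, 0, 4⟩) (.one ⟨15416, 2, 5⟩)))) (.node 4 (.node 2 (.node 1 (.one ⟨12649, 2, 4⟩) (.one ⟨7670, 0, 4⟩)) (.node 1 (.one ⟨5422, 2, 4⟩) (.one ⟨16161, 2, 5⟩))) (.node 2 (.node 1 (.one ⟨10610, 2, 4⟩) (.one ⟨8134, 2,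 3⟩)) (.node 1 (.one ⟨648, 2, 4⟩) (.one ⟨10330, 2, 4⟩))))) (.node 8 (.node 4 (.node 2 (.node 1 (.one ⟨2287, 2, 4⟩) (.one ⟨16215, 0, 4⟩)) (.node 1 (.one ⟨14704, 0, 4⟩) (.one ⟨5029, 1, 0⟩))) (.node 2 (.node 1 (.one ⟨4631, 2, 5⟩) (.one ⟨5158, 2, 3⟩)) (.node 1 (.one ⟨6174, 0, 4⟩) (.one ⟨9543, 0, 6⟩)))) (.node 4 (.node 2 (.node 1 (.one ⟨7799, 0, 4⟩) (.one ⟨1736, 0, 4⟩)) (.node 1 (.one ⟨9839, 2, 4⟩) (.one ⟨5381, 2, 4⟩))) (.node 2 (.node 1 (.one ⟨8949, 2, 5⟩) (.one ⟨12640, 0, 3⟩)) (.node 1 (.one ⟨901, 2, 6⟩) (.one ⟨12458, 0, 4⟩)))))))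
def par9_5_8 : Arr Par :=
  (.node 32 (.node 16 (.node 8 (.node 4 (.node 2 (.node 1 (.one ⟨11489, 0, 3⟩) (.one ⟨14429, 2, 5⟩)) (.node 1 (.one ⟨2614, 1, 4⟩) (.one ⟨9691, 2, 4⟩))) (.node 2 (.node 1 (.one ⟨2224, 0, 3⟩) (.one ⟨554, 0, 4⟩)) (.node 1 (.one ⟨12919, 1, 3⟩) (.one ⟨15137, 0, 5⟩)))) (.node 4 (.node 2 (.node 1 (.one ⟨1737, 2, 5⟩) (.one ⟨7838, 2, 4⟩)) (.node 1 (.one ⟨7285, 2, 4⟩) (.one ⟨11205, 2, 4⟩))) (.node 2 (.node 1 (.one ⟨11632, 2, 4⟩) (.one ⟨13961, 2, 5⟩)) (.node 1 (.one ⟨8449, 0, 5⟩) (.one ⟨6464, 0, 3⟩))))) (.node 8 (.node 4 (.node 2 (.node 1 (.one ⟨4322, 2, 4⟩) (.one ⟨3287, 0, 1⟩)) (.node 1 (.one ⟨11042, 2, 2⟩) (.one ⟨5046, 2, 2⟩))) (.node 2 (.node 1 (.one ⟨5992, 0, 5⟩) (.one ⟨10970, 1, 4⟩)) (.node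 1 (.one ⟨15544, 1, 6⟩) (.one ⟨10561, 2, 3⟩)))) (.node 4 (.node 2 (.node 1 (.one ⟨4660, 2, 4⟩) (.one ⟨10552, 2, 3⟩)) (.node 1 (.one ⟨1358, 0, 4⟩) (.one ⟨16005, 2, 4⟩))) (.node 2 (.node 1 (.one ⟨7281, 2, 4⟩) (.one ⟨69, 0, 4⟩)) (.node 1 (.one ⟨7305, 2, 6⟩) (.one ⟨2613, 0, 4⟩)))))) (.node 16 (.node 8 (.node 4 (.node 2 (.node 1 (.one ⟨7575, 1, 6⟩) (.one ⟨955, 2, 4⟩)) (.node 1 (.one ⟨17116, 2, 3⟩) (.one ⟨16587, 0, 4⟩))) (.node 2 (.node 1 (.one ⟨4103, 2, 4⟩) (.one ⟨16984, 2, 4⟩)) (.node 1 (.one ⟨1975, 2, 5⟩) (.one ⟨589, 0, 1⟩)))) (.node 4 (.node 2 (.node 1 (.one ⟨2895, 1, 3⟩) (.one ⟨5837, 2, 6⟩)) (.node 1 (.one ⟨9146, 0, 1⟩) (.one ⟨15582, 2, 6⟩))) (.node 2 (.node 1 (.one ⟨9433, 0, 1⟩) (.one ⟨1382, 0, 1⟩)) (.node 1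 (.one ⟨15204, 1, 4⟩) (.one ⟨3883, 2, 6⟩))))) (.node 8 (.node 4 (.node 2 (.node 1 (.one ⟨4960, 1, 0⟩) (.one ⟨5203, 1, 0⟩)) (.node 1 (.one ⟨5281, 1, 0⟩) (.one ⟨6531, 2, 5⟩))) (.node 2 (.node 1 (.one ⟨10720, 2, 5⟩) (.one ⟨10970, 0, 4⟩)) (.node 1 (.one ⟨15366, 2, 2⟩) (.one ⟨16831, 2, 4⟩)))) (.node 4 (.node 2 (.node 1 (.one ⟨10726, 0, 5⟩) (.one ⟨4617, 2, 4⟩)) (.node 1 (.one ⟨14006, 2, 7⟩) (.one ⟨7430, 2, 6⟩))) (.node 2 (.node 1 (.one ⟨12522, 2, 4⟩) (.one ⟨10921, 2, 5⟩)) (.node 1 (.one ⟨5543, 0, 5⟩) (.one ⟨12026, 0, 2⟩)))))))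
def par9_5_9 : Arr Par :=
  (.node 32 (.node 16 (.node 8 (.node 4 (.node 2 (.node 1 (.one ⟨5066, 1, 0⟩) (.one ⟨11387, 0, 2⟩)) (.node 1 (.one ⟨16295, 0, 3⟩) (.one ⟨5327, 1, 0⟩))) (.node 2 (.node 1 (.one ⟨8457, 0, 3⟩) (.one ⟨4891, 0, 4⟩)) (.node 1 (.one ⟨5796, 0, 3⟩) (.one ⟨318, 0, 5⟩)))) (.node 4 (.node 2 (.node 1 (.one ⟨6779, 2, 4⟩) (.one ⟨15053, 2, 5⟩)) (.node 1 (.one ⟨2386, 0, 1⟩) (.one ⟨8397, 2, 4⟩))) (.node 2 (.node 1 (.one ⟨11828, 2, 5⟩) (.one ⟨11221, 0, 4⟩)) (.node 1 (.one ⟨16632, 2, 6⟩) (.one ⟨5516, 2, 4⟩))))) (.node 8 (.node 4 (.node 2 (.node 1 (.one ⟨459, 2, 3⟩) (.one ⟨14262, 2, 6⟩)) (.node 1 (.one ⟨16322, 0, 4⟩) (.one ⟨6735, 0, 3⟩))) (.node 2 (.node 1 (.one ⟨16983, 2, 4⟩) (.one ⟨4823, 2, 4⟩)) (.node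 1 (.one ⟨2583, 2, 6⟩) (.one ⟨1218, 2, 3⟩)))) (.node 4 (.node 2 (.node 1 (.one ⟨8894, 2, 4⟩) (.one ⟨16973, 2, 4⟩)) (.node 1 (.one ⟨4162, 0, 4⟩) (.one ⟨16153, 0, 4⟩))) (.node 2 (.node 1 (.one ⟨8900, 2, 6⟩) (.one ⟨16943, 2, 5⟩)) (.node 1 (.one ⟨10411, 1, 2⟩) (.one ⟨10314, 0, 5⟩)))))) (.node 16 (.node 8 (.node 4 (.node 2 (.node 1 (.one ⟨15596, 2, 4⟩) (.one ⟨10311, 0, 1⟩)) (.node 1 (.one ⟨6134, 0, 3⟩) (.one ⟨2113, 2, 4⟩))) (.node 2 (.node 1 (.one ⟨15522, 2, 4⟩) (.one ⟨10312, 0, 1⟩)) (.node 1 (.one ⟨3391, 2, 6⟩) (.one ⟨16181, 1, 4⟩)))) (.node 4 (.node 2 (.node 1 (.one ⟨12273, 2, 6⟩) (.one ⟨7833, 2, 4⟩)) (.node 1 (.one ⟨731, 0, 4⟩) (.one ⟨13561, 2, 6⟩))) (.node 2 (.node 1 (.one ⟨13004, 0, 2⟩) (.one ⟨16770, 0, 3⟩))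 (.node 1 (.one ⟨8462, 2, 4⟩) (.one ⟨9482, 0, 2⟩))))) (.node 8 (.node 4 (.node 2 (.node 1 (.one ⟨9363, 2, 4⟩) (.one ⟨8866, 2, 6⟩)) (.node 1 (.one ⟨1128, 0, 2⟩) (.one ⟨9319, 0, 2⟩))) (.node 2 (.node 1 (.one ⟨11329, 0, 5⟩) (.one ⟨3369, 2, 3⟩)) (.node 1 (.one ⟨1528, 0, 2⟩) (.one ⟨9984, 1, 6⟩)))) (.node 4 (.node 2 (.node 1 (.one ⟨5479, 1, 4⟩) (.one ⟨15305, 1, 4⟩)) (.node 1 (.one ⟨2498, 2, 3⟩) (.one ⟨13302, 1, 6⟩))) (.node 2 (.node 1 (.one ⟨5658, 0, 5⟩) (.one ⟨13648, 0, 5⟩)) (.node 1 (.one ⟨11441, 2, 4⟩) (.one ⟨6667, 2, 3⟩)))))))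
def par9_5_10 : Arr Par :=
  (.node 32 (.node 16 (.node 8 (.node 4 (.node 2 (.node 1 (.one ⟨4284, 2, 4⟩) (.one ⟨17193, 2, 5⟩)) (.node 1 (.one ⟨9711, 2, 2⟩) (.one ⟨9038, 2, 2⟩))) (.node 2 (.node 1 (.one ⟨15293, 0, 5⟩) (.one ⟨14698, 2, 4⟩)) (.node 1 (.one ⟨6431, 0, 4⟩) (.one ⟨13560, 2, 3⟩)))) (.node 4 (.node 2 (.node 1 (.one ⟨4762, 0, 4⟩) (.one ⟨14965, 2, 5⟩)) (.node 1 (.one ⟨8194, 2, 5⟩) (.one ⟨7880, 2, 3⟩))) (.node 2 (.node 1 (.one ⟨6675, 0, 4⟩) (.one ⟨2654, 2, 5⟩)) (.node 1 (.one ⟨12802, 2, 2⟩) (.one ⟨16356, 0, 6⟩))))) (.node 8 (.node 4 (.node 2 (.node 1 (.one ⟨10736, 2, 6⟩) (.one ⟨9829, 2, 2⟩)) (.node 1 (.one ⟨13973, 1, 3⟩) (.one ⟨9212, 2, 4⟩))) (.node 2 (.node 1 (.one ⟨2587, 2, 4⟩) (.one ⟨6235, 0, 6⟩)) (.node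 1 (.one ⟨2554, 0, 6⟩) (.one ⟨10759, 1, 1⟩)))) (.node 4 (.node 2 (.node 1 (.one ⟨10383, 1, 6⟩) (.one ⟨11925, 2, 2⟩)) (.node 1 (.one ⟨3035, 2, 2⟩) (.one ⟨8296, 2, 7⟩))) (.node 2 (.node 1 (.one ⟨4846, 0, 0⟩) (.one ⟨14396, 2, 4⟩)) (.node 1 (.one ⟨13134, 0, 4⟩) (.one ⟨10345, 2, 4⟩)))))) (.node 16 (.node 8 (.node 4 (.node 2 (.node 1 (.one ⟨12024, 0, 4⟩) (.one ⟨11473, 2, 5⟩)) (.node 1 (.one ⟨3865, 2, 4⟩) (.one ⟨1817, 2, 4⟩))) (.node 2 (.node 1 (.one ⟨13345, 2, 2⟩) (.one ⟨2983, 2, 4⟩)) (.node 1 (.one ⟨12400, 2, 4⟩) (.one ⟨2716, 0, 3⟩)))) (.node 4 (.node 2 (.node 1 (.one ⟨6508, 0, 4⟩) (.one ⟨2728, 0, 1⟩)) (.node 1 (.one ⟨5297, 2, 3⟩) (.one ⟨5843, 0, 3⟩))) (.node 2 (.node 1 (.one ⟨5012, 1, 5⟩) (.one ⟨9707, 1, 4⟩)) (.node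 1 (.one ⟨1199, 0, 3⟩) (.one ⟨10323, 1, 6⟩))))) (.node 8 (.node 4 (.node 2 (.node 1 (.one ⟨12420, 0, 4⟩) (.one ⟨2318, 1, 6⟩)) (.node 1 (.one ⟨1988, 1, 6⟩) (.one ⟨12320, 0, 4⟩))) (.node 2 (.node 1 (.one ⟨4388, 0, 5⟩) (.one ⟨9653, 0, 5⟩)) (.node 1 (.one ⟨14744, 2, 4⟩) (.one ⟨9123, 2, 4⟩)))) (.node 4 (.node 2 (.node 1 (.one ⟨10661, 1, 4⟩) (.one ⟨14826, 2, 5⟩)) (.node 1 (.one ⟨1424, 2, 4⟩) (.one ⟨8947, 2, 4⟩))) (.node 2 (.node 1 (.one ⟨693, 1, 4⟩) (.one ⟨14977, 2, 5⟩)) (.node 1 (.one ⟨8108, 0, 3⟩) (.one ⟨10270, 2, 4⟩)))))))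
def par9_5_11 : Arr Par :=
  (.node 32 (.node 16 (.node 8 (.node 4 (.node 2 (.node 1 (.one ⟨11940, 2, 6⟩) (.one ⟨559, 0, 5⟩)) (.node 1 (.one ⟨11378, 0, 3⟩) (.one ⟨2446, 2, 6⟩))) (.node 2 (.node 1 (.one ⟨7598, 0, 3⟩) (.one ⟨10005, 0, 3⟩)) (.node 1 (.one ⟨3451, 0, 6⟩) (.one ⟨8623, 2, 4⟩)))) (.node 4 (.node 2 (.node 1 (.one ⟨9325, 2, 6⟩) (.one ⟨16708, 2, 6⟩)) (.node 1 (.one ⟨203, 2, 3⟩) (.one ⟨15315, 2, 4⟩))) (.node 2 (.node 1 (.one ⟨14954, 1, 6⟩) (.one ⟨7232, 2, 5⟩)) (.node 1 (.one ⟨12558, 2, 4⟩) (.one ⟨10134, 2, 3⟩))))) (.node 8 (.node 4 (.node 2 (.node 1 (.one ⟨14749, 2, 4⟩) (.one ⟨4344, 1, 4⟩)) (.node 1 (.one ⟨15105, 2, 4⟩) (.one ⟨4681, 1, 2⟩))) (.node 2 (.node 1 (.one ⟨6521, 1, 1⟩) (.one ⟨3280, 1, 2⟩)) (.node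 1 (.one ⟨1779, 2, 6⟩) (.one ⟨15837, 1, 3⟩)))) (.node 4 (.node 2 (.node 1 (.one ⟨14149, 0, 3⟩) (.one ⟨12585, 2, 6⟩)) (.node 1 (.one ⟨13093, 2, 5⟩) (.one ⟨7789, 2, 5⟩))) (.node 2 (.node 1 (.one ⟨8792, 2, 2⟩) (.one ⟨9406, 0, 4⟩)) (.node 1 (.one ⟨2625, 2, 5⟩) (.one ⟨5182, 2, 2⟩)))))) (.node 16 (.node 8 (.node 4 (.node 2 (.node 1 (.one ⟨10392, 2, 4⟩) (.one ⟨3468, 2, 7⟩)) (.node 1 (.one ⟨12434, 2, 4⟩) (.one ⟨2997, 2, 2⟩))) (.node 2 (.node 1 (.one ⟨11735, 2, 4⟩) (.one ⟨1253, 0, 4⟩)) (.node 1 (.one ⟨9569, 2, 4⟩) (.one ⟨10443, 2, 4⟩)))) (.node 4 (.node 2 (.node 1 (.one ⟨9892, 2, 2⟩) (.one ⟨2140, 2, 2⟩)) (.node 1 (.one ⟨13866, 0, 3⟩) (.one ⟨9956, 2, 5⟩))) (.node 2 (.node 1 (.one ⟨10564, 2, 3⟩) (.one ⟨2331, 2, 3⟩)) (.node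 1 (.one ⟨12554, 1, 1⟩) (.one ⟨4109, 0, 4⟩))))) (.node 8 (.node 4 (.node 2 (.node 1 (.one ⟨7095, 2, 6⟩) (.one ⟨11067, 2, 3⟩)) (.node 1 (.one ⟨7025, 1, 1⟩) (.one ⟨2601, 0, 4⟩))) (.node 2 (.node 1 (.one ⟨14399, 0, 4⟩) (.one ⟨13681, 1, 4⟩)) (.node 1 (.one ⟨11953, 2, 4⟩) (.one ⟨12541, 2, 6⟩)))) (.node 4 (.node 2 (.node 1 (.one ⟨15496, 1, 1⟩) (.one ⟨11249, 1, 5⟩)) (.node 1 (.one ⟨14318, 1, 5⟩) (.one ⟨7393, 2, 4⟩))) (.node 2 (.node 1 (.one ⟨1833, 2, 4⟩) (.one ⟨1712, 2, 1⟩)) (.node 1 (.one ⟨7410, 2, 6⟩) (.one ⟨9853, 2, 3⟩)))))))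
def par9_5_12 : Arr Par :=
  (.node 32 (.node 16 (.node 8 (.node 4 (.node 2 (.node 1 (.one ⟨6066, 1, 6⟩) (.one ⟨10710, 1, 3⟩)) (.node 1 (.one ⟨9850, 2, 3⟩) (.one ⟨14266, 1, 3⟩))) (.node 2 (.node 1 (.one ⟨11366, 0, 4⟩) (.one ⟨9851, 2, 6⟩)) (.node 1 (.one ⟨14927, 0, 3⟩) (.one ⟨8112, 2, 5⟩)))) (.node 4 (.node 2 (.node 1 (.one ⟨1365, 1, 1⟩) (.one ⟨15445, 2, 7⟩)) (.node 1 (.one ⟨8878, 2, 4⟩) (.one ⟨9310, 1, 1⟩))) (.node 2 (.node 1 (.one ⟨12606, 2, 4⟩) (.one ⟨11624, 2, 6⟩)) (.node 1 (.one ⟨1327, 2, 7⟩) (.one ⟨4865, 1, 0⟩))))) (.node 8 (.node 4 (.node 2 (.node 1 (.one ⟨16517, 0, 4⟩) (.one ⟨14475, 0, 5⟩)) (.node 1 (.one ⟨8733, 0, 4⟩) (.one ⟨10248, 1, 3⟩))) (.node 2 (.node 1 (.one ⟨13454, 0, 4⟩) (.one ⟨10235, 0, 2⟩))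 (.node 1 (.one ⟨5206, 0, 3⟩) (.one ⟨1342, 2, 3⟩)))) (.node 4 (.node 2 (.node 1 (.one ⟨608, 2, 3⟩) (.one ⟨9873, 0, 5⟩)) (.node 1 (.one ⟨1426, 2, 3⟩) (.one ⟨17051, 2, 5⟩))) (.node 2 (.node 1 (.one ⟨17018, 2, 5⟩) (.one ⟨17036, 2, 5⟩)) (.node 1 (.one ⟨17068, 2, 6⟩) (.one ⟨17053, 2, 3⟩)))))) (.node 16 (.node 8 (.node 4 (.node 2 (.node 1 (.one ⟨11853, 2, 4⟩) (.one ⟨16635, 2, 4⟩)) (.node 1 (.one ⟨11238, 0, 3⟩) (.one ⟨6784, 2, 5⟩))) (.node 2 (.node 1 (.one ⟨8525, 0, 3⟩) (.one ⟨7572, 2, 7⟩)) (.node 1 (.one ⟨214, 2, 5⟩) (.one ⟨15670, 1, 2⟩)))) (.node 4 (.node 2 (.node 1 (.one ⟨12574, 2, 3⟩) (.one ⟨16264, 0, 2⟩)) (.node 1 (.one ⟨13196, 0, 1⟩) (.one ⟨12573, 2, 4⟩))) (.node 2 (.node 1 (.one ⟨12570, 2, 4⟩) (.one ⟨10447,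 0, 3⟩)) (.node 1 (.one ⟨12571, 2, 2⟩) (.one ⟨15397, 2, 3⟩))))) (.node 8 (.node 4 (.node 2 (.node 1 (.one ⟨16573, 2, 5⟩) (.one ⟨16937, 0, 2⟩)) (.node 1 (.one ⟨2629, 2, 5⟩) (.one ⟨5020, 1, 0⟩))) (.node 2 (.node 1 (.one ⟨14325, 2, 3⟩) (.one ⟨3453, 2, 3⟩)) (.node 1 (.one ⟨1140, 0, 4⟩) (.one ⟨5190, 1, 0⟩)))) (.node 4 (.node 2 (.node 1 (.one ⟨13814, 1, 3⟩) (.one ⟨5072, 1, 0⟩)) (.node 1 (.one ⟨6633, 1, 2⟩) (.one ⟨6454, 2, 5⟩))) (.node 2 (.node 1 (.one ⟨10769, 2, 5⟩) (.one ⟨15359, 2, 6⟩)) (.node 1 (.one ⟨3268, 2, 6⟩) (.one ⟨4833, 0, 0⟩)))))))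
def par9_5_13 : Arr Par :=
  (.node 32 (.node 16 (.node 8 (.node 4 (.node 2 (.node 1 (.one ⟨13139, 2, 6⟩) (.one ⟨1431, 2, 7⟩)) (.node 1 (.one ⟨12601, 2, 4⟩) (.one ⟨14807, 2, 7⟩))) (.node 2 (.node 1 (.one ⟨7794, 2, 5⟩) (.one ⟨15461, 2, 3⟩)) (.node 1 (.one ⟨8115, 2, 5⟩) (.one ⟨5391, 1, 0⟩)))) (.node 4 (.node 2 (.node 1 (.one ⟨10296, 1, 6⟩) (.one ⟨2915, 2, 4⟩)) (.node 1 (.one ⟨4842, 0, 0⟩) (.one ⟨7800, 2, 4⟩))) (.node 2 (.node 1 (.one ⟨3543, 0, 4⟩) (.one ⟨9302, 2, 1⟩)) (.node 1 (.one ⟨4627, 2, 2⟩) (.one ⟨12686, 0, 4⟩))))) (.node 8 (.node 4 (.node 2 (.node 1 (.one ⟨6815, 0, 6⟩) (.one ⟨16300, 2, 3⟩)) (.node 1 (.one ⟨2798, 0, 3⟩) (.one ⟨2431, 2, 3⟩))) (.node 2 (.node 1 (.one ⟨13156, 0, 5⟩) (.one ⟨17196, 1, 2⟩)) (.node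 1 (.one ⟨213, 2, 3⟩) (.one ⟨14198, 2, 3⟩)))) (.node 4 (.node 2 (.node 1 (.one ⟨320, 2, 3⟩) (.one ⟨5293, 2, 3⟩)) (.node 1 (.one ⟨17130, 2, 4⟩) (.one ⟨1561, 0, 5⟩))) (.node 2 (.node 1 (.one ⟨2438, 2, 4⟩) (.one ⟨4720, 2, 4⟩)) (.node 1 (.one ⟨16707, 2, 5⟩) (.one ⟨11557, 2, 7⟩)))))) (.node 16 (.node 8 (.node 4 (.node 2 (.node 1 (.one ⟨324, 1, 2⟩) (.one ⟨7074, 2, 4⟩)) (.node 1 (.one ⟨1030, 2, 5⟩) (.one ⟨789, 0, 5⟩))) (.node 2 (.node 1 (.one ⟨8062, 1, 3⟩) (.one ⟨14112, 2, 2⟩)) (.node 1 (.one ⟨773, 0, 5⟩) (.one ⟨14092, 2, 2⟩)))) (.node 4 (.node 2 (.node 1 (.one ⟨12924, 2, 4⟩) (.one ⟨14570, 0, 4⟩)) (.node 1 (.one ⟨16518, 2, 4⟩) (.one ⟨2500, 0, 4⟩))) (.node 2 (.node 1 (.one ⟨61, 2, 3⟩) (.one ⟨4964, 2, 3⟩)) (.node 1 (.one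 ⟨12681, 0, 4⟩) (.one ⟨13294, 0, 2⟩))))) (.node 8 (.node 4 (.node 2 (.node 1 (.one ⟨4358, 0, 3⟩) (.one ⟨10556, 2, 4⟩)) (.node 1 (.one ⟨1738, 2, 4⟩) (.one ⟨5, 0, 5⟩))) (.node 2 (.node 1 (.one ⟨3803, 2, 3⟩) (.one ⟨12054, 0, 3⟩)) (.node 1 (.one ⟨9606, 2, 4⟩) (.one ⟨5978, 0, 5⟩)))) (.node 4 (.node 2 (.node 1 (.one ⟨16082, 2, 4⟩) (.one ⟨16084, 2, 3⟩)) (.node 1 (.one ⟨1462, 0, 5⟩) (.one ⟨5609, 0, 5⟩))) (.node 2 (.node 1 (.one ⟨16894, 0, 5⟩) (.one ⟨13362, 0, 4⟩)) (.node 1 (.one ⟨1934, 0, 5⟩) (.one ⟨6274, 2, 5⟩)))))))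
def par9_5_14 : Arr Par :=
  (.node 32 (.node 16 (.node 8 (.node 4 (.node 2 (.node 1 (.one ⟨10193, 0, 4⟩) (.one ⟨1474, 0, 4⟩)) (.node 1 (.one ⟨5277, 2, 5⟩) (.one ⟨16204, 1, 2⟩))) (.node 2 (.node 1 (.one ⟨4780, 2, 3⟩) (.one ⟨5793, 2, 6⟩)) (.node 1 (.one ⟨13683, 2, 5⟩) (.one ⟨2024, 2, 5⟩)))) (.node 4 (.node 2 (.node 1 (.one ⟨6863, 2, 5⟩) (.one ⟨16309, 0, 4⟩)) (.node 1 (.one ⟨4444, 2, 5⟩) (.one ⟨11177, 0, 3⟩))) (.node 2 (.node 1 (.one ⟨7945, 0, 4⟩) (.one ⟨3913, 2, 5⟩)) (.node 1 (.one ⟨8897, 2, 5⟩) (.one ⟨7769, 2, 4⟩))))) (.node 8 (.node 4 (.node 2 (.node 1 (.one ⟨7767, 2, 4⟩) (.one ⟨8848, 1, 2⟩)) (.node 1 (.one ⟨7768, 2, 4⟩) (.one ⟨9711, 1, 2⟩))) (.node 2 (.node 1 (.one ⟨6214, 2, 5⟩) (.one ⟨6211, 2, 5⟩)) (.node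 1 (.one ⟨6213, 2, 6⟩) (.one ⟨12168, 0, 5⟩)))) (.node 4 (.node 2 (.node 1 (.one ⟨10574, 2, 6⟩) (.one ⟨2494, 2, 4⟩)) (.node 1 (.one ⟨14523, 1, 6⟩) (.one ⟨9266, 2, 2⟩))) (.node 2 (.node 1 (.one ⟨2558, 2, 6⟩) (.one ⟨10634, 2, 4⟩)) (.node 1 (.one ⟨1224, 2, 6⟩) (.one ⟨14968, 2, 5⟩)))))) (.node 16 (.node 8 (.node 4 (.node 2 (.node 1 (.one ⟨9327, 2, 4⟩) (.one ⟨14510, 0, 6⟩)) (.node 1 (.one ⟨15036, 2, 4⟩) (.one ⟨10660, 1, 4⟩))) (.node 2 (.node 1 (.one ⟨996, 0, 5⟩) (.one ⟨14799, 2, 4⟩)) (.node 1 (.one ⟨10112, 2, 4⟩) (.one ⟨1497, 0, 2⟩)))) (.node 4 (.node 2 (.node 1 (.one ⟨9320, 0, 2⟩) (.one ⟨13191, 2, 5⟩)) (.node 1 (.one ⟨1527, 0, 2⟩) (.one ⟨6615, 1, 3⟩))) (.node 2 (.node 1 (.one ⟨5834, 0, 4⟩) (.one ⟨4987, 1, 5⟩)) (.node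 1 (.one ⟨13961, 0, 5⟩) (.one ⟨6345, 2, 6⟩))))) (.node 8 (.node 4 (.node 2 (.node 1 (.one ⟨17017, 2, 4⟩) (.one ⟨6399, 2, 5⟩)) (.node 1 (.one ⟨9587, 0, 5⟩) (.one ⟨5368, 1, 0⟩))) (.node 2 (.node 1 (.one ⟨9530, 0, 2⟩) (.one ⟨4596, 2, 5⟩)) (.node 1 (.one ⟨1115, 0, 5⟩) (.one ⟨17122, 0, 3⟩)))) (.node 4 (.node 2 (.node 1 (.one ⟨5409, 2, 6⟩) (.one ⟨7319, 0, 4⟩)) (.node 1 (.one ⟨3007, 1, 1⟩) (.one ⟨454, 0, 4⟩))) (.node 2 (.node 1 (.one ⟨6389, 2, 3⟩) (.one ⟨700, 1, 6⟩)) (.node 1 (.one ⟨6656, 0, 3⟩) (.one ⟨11525, 1, 3⟩)))))))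
def par9_5_15 : Arr Par :=
  (.node 32 (.node 16 (.node 8 (.node 4 (.node 2 (.node 1 (.one ⟨16563, 1, 5⟩) (.one ⟨5801, 0, 2⟩)) (.node 1 (.one ⟨7165, 0, 4⟩) (.one ⟨8361, 0, 2⟩))) (.node 2 (.node 1 (.one ⟨8730, 0, 2⟩) (.one ⟨12935, 2, 2⟩)) (.node 1 (.one ⟨1550, 0, 2⟩) (.one ⟨10358, 0, 6⟩)))) (.node 4 (.node 2 (.node 1 (.one ⟨10970, 2, 4⟩) (.one ⟨16160, 0, 5⟩)) (.node 1 (.one ⟨13222, 0, 5⟩) (.one ⟨14054, 2, 6⟩))) (.node 2 (.node 1 (.one ⟨11828, 0, 5⟩) (.one ⟨11182, 0, 5⟩)) (.node 1 (.one ⟨14352, 0, 2⟩) (.one ⟨9983, 1, 2⟩))))) (.node 8 (.node 4 (.node 2 (.node 1 (.one ⟨15158, 2, 3⟩) (.one ⟨474, 2, 3⟩)) (.node 1 (.one ⟨12300, 0, 6⟩) (.one ⟨4193, 0, 5⟩))) (.node 2 (.node 1 (.one ⟨7908, 0, 2⟩) (.one ⟨3992, 2, 3⟩))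 (.node 1 (.one ⟨15624, 2, 2⟩) (.one ⟨6941, 2, 2⟩)))) (.node 4 (.node 2 (.node 1 (.one ⟨9080, 0, 6⟩) (.one ⟨15072, 0, 5⟩)) (.node 1 (.one ⟨12798, 2, 5⟩) (.one ⟨7888, 2, 3⟩))) (.node 2 (.node 1 (.one ⟨1549, 0, 4⟩) (.one ⟨12091, 0, 5⟩)) (.node 1 (.one ⟨13631, 0, 5⟩) (.one ⟨15338, 0, 4⟩)))))) (.node 16 (.node 8 (.node 4 (.node 2 (.node 1 (.one ⟨364, 0, 5⟩) (.one ⟨12969, 0, 4⟩)) (.node 1 (.one ⟨8146, 0, 4⟩) (.one ⟨17067, 2, 5⟩))) (.node 2 (.node 1 (.one ⟨7948, 2, 5⟩) (.one ⟨7556, 2, 2⟩)) (.node 1 (.one ⟨6137, 1, 4⟩) (.one ⟨16630, 1, 3⟩)))) (.node 4 (.node 2 (.node 1 (.one ⟨4311, 0, 2⟩) (.one ⟨16721, 2, 4⟩)) (.node 1 (.one ⟨7755, 2, 5⟩) (.one ⟨3864, 2, 4⟩))) (.node 2 (.node 1 (.one ⟨12868, 2, 5⟩) (.one ⟨9803, 2,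 4⟩)) (.node 1 (.one ⟨4279, 0, 4⟩) (.one ⟨5280, 1, 0⟩))))) (.node 8 (.node 4 (.node 2 (.node 1 (.one ⟨2352, 1, 4⟩) (.one ⟨5278, 1, 0⟩)) (.node 1 (.one ⟨13748, 0, 4⟩) (.one ⟨6448, 2, 6⟩))) (.node 2 (.node 1 (.one ⟨15270, 2, 6⟩) (.one ⟨10723, 2, 5⟩)) (.node 1 (.one ⟨14620, 1, 2⟩) (.one ⟨6509, 2, 2⟩)))) (.node 4 (.node 2 (.node 1 (.one ⟨15206, 0, 4⟩) (.one ⟨7780, 1, 3⟩)) (.node 1 (.one ⟨2716, 2, 3⟩) (.one ⟨7977, 0, 4⟩))) (.node 2 (.node 1 (.one ⟨8757, 2, 3⟩) (.one ⟨5206, 2, 3⟩)) (.node 1 (.one ⟨5730, 2, 4⟩) (.one ⟨345, 2, 6⟩)))))))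
def par9_5 : Arr Par :=
  (.node 512 (.node 256 (.node 128 (.node 64 par9_5_0 par9_5_1) (.node 64 par9_5_2 par9_5_3)) (.node 128 (.node 64 par9_5_4 par9_5_5) (.node 64 par9_5_6 par9_5_7))) (.node 256 (.node 128 (.node 64 par9_5_8 par9_5_9) (.node 64 par9_5_10 par9_5_11)) (.node 128 (.node 64 par9_5_12 par9_5_13) (.node 64 par9_5_14 par9_5_15))))
def par9_6_0 : Arr Par :=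
  (.node 32 (.node 16 (.node 8 (.node 4 (.node 2 (.node 1 (.one ⟨14757, 2, 4⟩) (.one ⟨16185, 2, 3⟩)) (.node 1 (.one ⟨5294, 2, 5⟩) (.one ⟨1360, 0, 3⟩))) (.node 2 (.node 1 (.one ⟨4762, 2, 4⟩) (.one ⟨15275, 1, 2⟩)) (.node 1 (.one ⟨15512, 2, 5⟩) (.one ⟨6447, 1, 3⟩)))) (.node 4 (.node 2 (.node 1 (.one ⟨5114, 1, 0⟩) (.one ⟨5869, 0, 4⟩)) (.node 1 (.one ⟨11410, 0, 3⟩) (.one ⟨13971, 1, 6⟩))) (.node 2 (.node 1 (.one ⟨5680, 1, 1⟩) (.one ⟨8927, 2, 4⟩)) (.node 1 (.one ⟨9930, 0, 3⟩) (.one ⟨1193, 0, 3⟩))))) (.node 8 (.node 4 (.node 2 (.node 1 (.one ⟨3172, 0, 3⟩) (.one ⟨1329, 0, 3⟩)) (.node 1 (.one ⟨8819, 2, 3⟩) (.one ⟨11197, 0, 5⟩))) (.node 2 (.node 1 (.one ⟨9447, 0, 3⟩) (.one ⟨1761, 2, 7⟩)) (.node 1 (.one ⟨7696, 1, 2⟩) (.one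 ⟨5513, 2, 3⟩)))) (.node 4 (.node 2 (.node 1 (.one ⟨217, 2, 3⟩) (.one ⟨4608, 2, 3⟩)) (.node 1 (.one ⟨2722, 2, 3⟩) (.one ⟨10743, 2, 3⟩))) (.node 2 (.node 1 (.one ⟨12623, 2, 4⟩) (.one ⟨9615, 2, 3⟩)) (.node 1 (.one ⟨11407, 0, 3⟩) (.one ⟨9641, 0, 5⟩)))))) (.node 16 (.node 8 (.node 4 (.node 2 (.node 1 (.one ⟨14354, 1, 2⟩) (.one ⟨1681, 0, 5⟩)) (.node 1 (.one ⟨4464, 1, 5⟩) (.one ⟨1664, 1, 4⟩))) (.node 2 (.node 1 (.one ⟨4749, 1, 5⟩) (.one ⟨16074, 1, 5⟩)) (.node 1 (.one ⟨3004, 2, 6⟩) (.one ⟨5150, 2, 3⟩)))) (.node 4 (.node 2 (.node 1 (.one ⟨11274, 0, 4⟩) (.one ⟨13419, 2, 5⟩)) (.node 1 (.one ⟨3108, 2, 4⟩) (.one ⟨3302, 0, 6⟩))) (.node 2 (.node 1 (.one ⟨12584, 2, 4⟩) (.one ⟨9392, 2, 3⟩)) (.node 1 (.one ⟨4036, 2, 3⟩) (.one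 ⟨5950, 2, 7⟩))))) (.node 8 (.node 4 (.node 2 (.node 1 (.one ⟨4795, 1, 4⟩) (.one ⟨3976, 0, 6⟩)) (.node 1 (.one ⟨6760, 0, 2⟩) (.one ⟨9318, 2, 3⟩))) (.node 2 (.node 1 (.one ⟨2490, 2, 3⟩) (.one ⟨560, 1, 3⟩)) (.node 1 (.one ⟨10764, 2, 6⟩) (.one ⟨6542, 2, 4⟩)))) (.node 4 (.node 2 (.node 1 (.one ⟨11016, 2, 6⟩) (.one ⟨15157, 2, 6⟩)) (.node 1 (.one ⟨2105, 0, 5⟩) (.one ⟨3327, 2, 6⟩))) (.node 2 (.node 1 (.one ⟨2103, 0, 1⟩) (.one ⟨10786, 2, 4⟩)) (.node 1 (.one ⟨2104, 0, 1⟩) (.one ⟨5945, 1, 1⟩)))))))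
def par9_6_1 : Arr Par :=
  (.node 32 (.node 16 (.node 8 (.node 4 (.node 2 (.node 1 (.one ⟨12375, 2, 4⟩) (.one ⟨3542, 2, 2⟩)) (.node 1 (.one ⟨12574, 0, 3⟩) (.one ⟨15986, 2, 4⟩))) (.node 2 (.node 1 (.one ⟨6290, 2, 4⟩) (.one ⟨14200, 2, 5⟩)) (.node 1 (.one ⟨8133, 2, 4⟩) (.one ⟨9535, 2, 3⟩)))) (.node 4 (.node 2 (.node 1 (.one ⟨15077, 2, 5⟩) (.one ⟨1543, 2, 2⟩)) (.node 1 (.one ⟨7020, 2, 4⟩) (.one ⟨9213, 2, 4⟩))) (.node 2 (.node 1 (.one ⟨15032, 2, 4⟩) (.one ⟨12190, 0, 4⟩)) (.node 1 (.one ⟨6962, 2, 4⟩) (.one ⟨3924, 2, 4⟩))))) (.node 8 (.node 4 (.node 2 (.node 1 (.one ⟨11746, 0, 5⟩) (.one ⟨3980, 0, 6⟩)) (.node 1 (.one ⟨10312, 1, 1⟩) (.one ⟨7490, 2, 5⟩))) (.node 2 (.node 1 (.one ⟨10631, 0, 4⟩) (.one ⟨12496, 1, 2⟩))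 (.node 1 (.one ⟨8603, 2, 3⟩) (.one ⟨4763, 0, 3⟩)))) (.node 4 (.node 2 (.node 1 (.one ⟨5393, 2, 5⟩) (.one ⟨4616, 0, 5⟩)) (.node 1 (.one ⟨2241, 2, 5⟩) (.one ⟨16299, 0, 5⟩))) (.node 2 (.node 1 (.one ⟨1611, 0, 4⟩) (.one ⟨13324, 2, 5⟩)) (.node 1 (.one ⟨1539, 2, 4⟩) (.one ⟨835, 0, 5⟩)))))) (.node 16 (.node 8 (.node 4 (.node 2 (.node 1 (.one ⟨10426, 1, 2⟩) (.one ⟨5384, 2, 2⟩)) (.node 1 (.one ⟨329, 0, 1⟩) (.one ⟨250, 0, 3⟩))) (.node 2 (.node 1 (.one ⟨353, 0, 6⟩) (.one ⟨818, 0, 4⟩)) (.node 1 (.one ⟨914, 0, 3⟩) (.one ⟨12986, 0, 4⟩)))) (.node 4 (.node 2 (.node 1 (.one ⟨5591, 2, 5⟩) (.one ⟨14060, 0, 3⟩)) (.node 1 (.one ⟨4819, 0, 4⟩) (.one ⟨9688, 0, 4⟩))) (.node 2 (.node 1 (.one ⟨8659, 0, 4⟩) (.one ⟨8791, 2, 2⟩)) (.node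 1 (.one ⟨66, 1, 1⟩) (.one ⟨5464, 2, 2⟩))))) (.node 8 (.node 4 (.node 2 (.node 1 (.one ⟨10677, 2, 7⟩) (.one ⟨5339, 1, 0⟩)) (.node 1 (.one ⟨14407, 1, 1⟩) (.one ⟨1554, 2, 1⟩))) (.node 2 (.node 1 (.one ⟨5463, 0, 3⟩) (.one ⟨10727, 2, 4⟩)) (.node 1 (.one ⟨16118, 0, 2⟩) (.one ⟨7219, 2, 3⟩)))) (.node 4 (.node 2 (.node 1 (.one ⟨16785, 2, 6⟩) (.one ⟨1060, 2, 4⟩)) (.node 1 (.one ⟨12498, 2, 2⟩) (.one ⟨8730, 2, 2⟩))) (.node 2 (.node 1 (.one ⟨15301, 2, 2⟩) (.one ⟨10050, 1, 6⟩)) (.node 1 (.one ⟨9211, 2, 4⟩) (.one ⟨10838, 1, 2⟩)))))))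
def par9_6_2 : Arr Par :=
  (.node 32 (.node 16 (.node 8 (.node 4 (.node 2 (.node 1 (.one ⟨12489, 2, 4⟩) (.one ⟨1165, 0, 4⟩)) (.node 1 (.one ⟨13910, 0, 4⟩) (.one ⟨7330, 2, 4⟩))) (.node 2 (.node 1 (.one ⟨2987, 2, 5⟩) (.one ⟨13343, 2, 2⟩)) (.node 1 (.one ⟨16801, 2, 4⟩) (.one ⟨6254, 1, 2⟩)))) (.node 4 (.node 2 (.node 1 (.one ⟨5576, 2, 5⟩) (.one ⟨8572, 2, 4⟩)) (.node 1 (.one ⟨5339, 0, 4⟩) (.one ⟨15807, 2, 5⟩))) (.node 2 (.node 1 (.one ⟨9516, 0, 4⟩) (.one ⟨479, 0, 4⟩)) (.node 1 (.one ⟨15073, 2, 4⟩) (.one ⟨2499, 2, 3⟩))))) (.node 8 (.node 4 (.node 2 (.node 1 (.one ⟨7647, 2, 3⟩) (.one ⟨3891, 2, 3⟩)) (.node 1 (.one ⟨6035, 2, 3⟩) (.one ⟨16762, 2, 2⟩))) (.node 2 (.node 1 (.one ⟨11423, 2, 4⟩) (.one ⟨14778, 2, 4⟩)) (.node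 1 (.one ⟨13599, 2, 3⟩) (.one ⟨5115, 2, 3⟩)))) (.node 4 (.node 2 (.node 1 (.one ⟨2371, 0, 3⟩) (.one ⟨13709, 0, 6⟩)) (.node 1 (.one ⟨11750, 2, 3⟩) (.one ⟨8883, 0, 4⟩))) (.node 2 (.node 1 (.one ⟨6532, 0, 5⟩) (.one ⟨13319, 2, 4⟩)) (.node 1 (.one ⟨12797, 0, 4⟩) (.one ⟨14641, 2, 4⟩)))))) (.node 16 (.node 8 (.node 4 (.node 2 (.node 1 (.one ⟨6520, 0, 1⟩) (.one ⟨14758, 2, 6⟩)) (.node 1 (.one ⟨13903, 1, 2⟩) (.one ⟨2180, 2, 5⟩))) (.node 2 (.node 1 (.one ⟨1679, 2, 7⟩) (.one ⟨1676, 1, 5⟩)) (.node 1 (.one ⟨756, 2, 5⟩) (.one ⟨5984, 2, 3⟩)))) (.node 4 (.node 2 (.node 1 (.one ⟨3838, 0, 4⟩) (.one ⟨11781, 2, 2⟩)) (.node 1 (.one ⟨14558, 0, 3⟩) (.one ⟨4568, 0, 3⟩))) (.node 2 (.node 1 (.one ⟨15114, 0, 2⟩) (.one ⟨15436, 0, 5⟩)) (.node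 1 (.one ⟨13792, 2, 3⟩) (.one ⟨17091, 2, 4⟩))))) (.node 8 (.node 4 (.node 2 (.node 1 (.one ⟨9356, 2, 1⟩) (.one ⟨12459, 2, 6⟩)) (.node 1 (.one ⟨14765, 2, 7⟩) (.one ⟨15959, 2, 4⟩))) (.node 2 (.node 1 (.one ⟨11274, 2, 4⟩) (.one ⟨13025, 2, 5⟩)) (.node 1 (.one ⟨12403, 0, 4⟩) (.one ⟨7757, 2, 6⟩)))) (.node 4 (.node 2 (.node 1 (.one ⟨10155, 2, 6⟩) (.one ⟨1554, 0, 1⟩)) (.node 1 (.one ⟨3904, 2, 5⟩) (.one ⟨13418, 2, 4⟩))) (.node 2 (.node 1 (.one ⟨7306, 2, 6⟩) (.one ⟨2852, 2, 6⟩)) (.node 1 (.one ⟨16758, 2, 4⟩) (.one ⟨6703, 0, 4⟩)))))))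
def par9_6_3 : Arr Par :=
  (.node 32 (.node 16 (.node 8 (.node 4 (.node 2 (.node 1 (.one ⟨16117, 0, 4⟩) (.one ⟨13030, 2, 6⟩)) (.node 1 (.one ⟨12925, 2, 7⟩) (.one ⟨1277, 0, 4⟩))) (.node 2 (.node 1 (.one ⟨13067, 0, 2⟩) (.one ⟨143, 2, 5⟩)) (.node 1 (.one ⟨13045, 0, 4⟩) (.one ⟨11561, 2, 6⟩)))) (.node 4 (.node 2 (.node 1 (.one ⟨11214, 2, 5⟩) (.one ⟨3376, 2, 5⟩)) (.node 1 (.one ⟨3220, 2, 4⟩) (.one ⟨8489, 0, 4⟩))) (.node 2 (.node 1 (.one ⟨7546, 2, 4⟩) (.one ⟨15492, 2, 5⟩)) (.node 1 (.one ⟨15583, 2, 6⟩) (.one ⟨4882, 1, 0⟩))))) (.node 8 (.node 4 (.node 2 (.node 1 (.one ⟨15824, 2, 4⟩) (.one ⟨13235, 2, 3⟩)) (.node 1 (.one ⟨11255, 0, 5⟩) (.one ⟨5052, 2, 7⟩))) (.node 2 (.node 1 (.one ⟨5573, 0, 4⟩) (.one ⟨3354, 2, 7⟩))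 (.node 1 (.one ⟨7302, 0, 2⟩) (.one ⟨4673, 0, 3⟩)))) (.node 4 (.node 2 (.node 1 (.one ⟨12467, 2, 4⟩) (.one ⟨9931, 2, 3⟩)) (.node 1 (.one ⟨12466, 2, 4⟩) (.one ⟨12465, 2, 6⟩))) (.node 2 (.node 1 (.one ⟨13747, 1, 3⟩) (.one ⟨12468, 2, 6⟩)) (.node 1 (.one ⟨14931, 0, 4⟩) (.one ⟨10767, 1, 3⟩)))))) (.node 16 (.node 8 (.node 4 (.node 2 (.node 1 (.one ⟨5090, 1, 0⟩) (.one ⟨2285, 1, 1⟩)) (.node 1 (.one ⟨6382, 2, 4⟩) (.one ⟨4850, 0, 0⟩))) (.node 2 (.node 1 (.one ⟨8778, 2, 7⟩) (.one ⟨12175, 0, 3⟩)) (.node 1 (.one ⟨11127, 2, 4⟩) (.one ⟨4644, 0, 4⟩)))) (.node 4 (.node 2 (.node 1 (.one ⟨17095, 2, 4⟩) (.one ⟨9010, 2, 4⟩)) (.node 1 (.one ⟨9887, 0, 4⟩) (.one ⟨9353, 2, 2⟩))) (.node 2 (.node 1 (.one ⟨1325, 2, 4⟩) (.one ⟨12894, 0,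 3⟩)) (.node 1 (.one ⟨87, 2, 3⟩) (.one ⟨1500, 2, 4⟩))))) (.node 8 (.node 4 (.node 2 (.node 1 (.one ⟨11796, 0, 5⟩) (.one ⟨581, 0, 1⟩)) (.node 1 (.one ⟨9475, 0, 2⟩) (.one ⟨9254, 0, 2⟩))) (.node 2 (.node 1 (.one ⟨1523, 0, 2⟩) (.one ⟨12935, 1, 2⟩)) (.node 1 (.one ⟨2853, 2, 6⟩) (.one ⟨13262, 2, 4⟩)))) (.node 4 (.node 2 (.node 1 (.one ⟨4365, 0, 5⟩) (.one ⟨14208, 0, 5⟩)) (.node 1 (.one ⟨1220, 2, 4⟩) (.one ⟨11057, 0, 5⟩))) (.node 2 (.node 1 (.one ⟨6405, 2, 4⟩) (.one ⟨2045, 1, 2⟩)) (.node 1 (.one ⟨6397, 2, 3⟩) (.one ⟨13102, 2, 4⟩)))))))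
def par9_6_4 : Arr Par :=
  (.node 32 (.node 16 (.node 8 (.node 4 (.node 2 (.node 1 (.one ⟨16560, 0, 4⟩) (.one ⟨15323, 0, 3⟩)) (.node 1 (.one ⟨16133, 2, 7⟩) (.one ⟨2440, 2, 4⟩))) (.node 2 (.node 1 (.one ⟨16625, 1, 2⟩) (.one ⟨320, 1, 3⟩)) (.node 1 (.one ⟨7102, 2, 5⟩) (.one ⟨17087, 2, 4⟩)))) (.node 4 (.node 2 (.node 1 (.one ⟨15814, 2, 4⟩) (.one ⟨9511, 0, 4⟩)) (.node 1 (.one ⟨3406, 2, 5⟩) (.one ⟨8145, 2, 4⟩))) (.node 2 (.node 1 (.one ⟨8613, 2, 4⟩) (.one ⟨11154, 2, 5⟩)) (.node 1 (.one ⟨4879, 1, 3⟩) (.one ⟨6385, 0, 2⟩))))) (.node 8 (.node 4 (.node 2 (.node 1 (.one ⟨14986, 0, 4⟩) (.one ⟨12523, 0, 5⟩)) (.node 1 (.one ⟨8972, 2, 6⟩) (.one ⟨11523, 0, 4⟩))) (.node 2 (.node 1 (.one ⟨3510, 1, 2⟩) (.one ⟨1053, 2, 5⟩)) (.node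 1 (.one ⟨12461, 2, 6⟩) (.one ⟨1309, 0, 4⟩)))) (.node 4 (.node 2 (.node 1 (.one ⟨16027, 2, 5⟩) (.one ⟨5073, 0, 3⟩)) (.node 1 (.one ⟨14535, 2, 4⟩) (.one ⟨10953, 2, 6⟩))) (.node 2 (.node 1 (.one ⟨13755, 2, 5⟩) (.one ⟨12239, 0, 5⟩)) (.node 1 (.one ⟨9433, 1, 1⟩) (.one ⟨2367, 0, 3⟩)))))) (.node 16 (.node 8 (.node 4 (.node 2 (.node 1 (.one ⟨15629, 0, 5⟩) (.one ⟨6917, 2, 4⟩)) (.node 1 (.one ⟨13737, 2, 5⟩) (.one ⟨516, 2, 5⟩))) (.node 2 (.node 1 (.one ⟨11021, 2, 4⟩) (.one ⟨10129, 2, 5⟩)) (.node 1 (.one ⟨2843, 2, 4⟩) (.one ⟨4249, 1, 2⟩)))) (.node 4 (.node 2 (.node 1 (.one ⟨15275, 0, 2⟩) (.one ⟨14463, 0, 2⟩)) (.node 1 (.one ⟨9469, 2, 4⟩) (.one ⟨10493, 0, 2⟩))) (.node 2 (.node 1 (.one ⟨4587, 0, 4⟩) (.one ⟨3618, 0, 4⟩))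 (.node 1 (.one ⟨13661, 2, 5⟩) (.one ⟨16654, 1, 2⟩))))) (.node 8 (.node 4 (.node 2 (.node 1 (.one ⟨15909, 0, 5⟩) (.one ⟨7387, 2, 5⟩)) (.node 1 (.one ⟨14889, 2, 5⟩) (.one ⟨3070, 0, 4⟩))) (.node 2 (.node 1 (.one ⟨6712, 1, 5⟩) (.one ⟨1387, 2, 1⟩)) (.node 1 (.one ⟨16594, 0, 4⟩) (.one ⟨12054, 2, 3⟩)))) (.node 4 (.node 2 (.node 1 (.one ⟨10006, 2, 3⟩) (.one ⟨6935, 2, 4⟩)) (.node 1 (.one ⟨1776, 0, 1⟩) (.one ⟨16560, 2, 4⟩))) (.node 2 (.node 1 (.one ⟨15182, 2, 4⟩) (.one ⟨5000, 1, 4⟩)) (.node 1 (.one ⟨3233, 1, 3⟩) (.one ⟨9041, 0, 4⟩)))))))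
def par9_6_5 : Arr Par :=
  (.node 32 (.node 16 (.node 8 (.node 4 (.node 2 (.node 1 (.one ⟨1524, 0, 2⟩) (.one ⟨3573, 2, 4⟩)) (.node 1 (.one ⟨3906, 2, 7⟩) (.one ⟨3642, 1, 2⟩))) (.node 2 (.node 1 (.one ⟨1123, 0, 2⟩) (.one ⟨590, 0, 1⟩)) (.node 1 (.one ⟨9031, 0, 2⟩) (.one ⟨16932, 0, 5⟩)))) (.node 4 (.node 2 (.node 1 (.one ⟨14674, 0, 3⟩) (.one ⟨15684, 0, 3⟩)) (.node 1 (.one ⟨11718, 1, 4⟩) (.one ⟨7594, 2, 4⟩))) (.node 2 (.node 1 (.one ⟨9467, 0, 6⟩) (.one ⟨12641, 0, 4⟩)) (.node 1 (.one ⟨6015, 2, 6⟩) (.one ⟨5008, 0, 6⟩))))) (.node 8 (.node 4 (.node 2 (.node 1 (.one ⟨11223, 2, 4⟩) (.one ⟨11225, 2, 2⟩)) (.node 1 (.one ⟨15497, 1, 5⟩) (.one ⟨8246, 0, 2⟩))) (.node 2 (.node 1 (.one ⟨11230, 2, 3⟩) (.one ⟨16414, 0, 2⟩)) (.node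 1 (.one ⟨7162, 0, 4⟩) (.one ⟨922, 2, 6⟩)))) (.node 4 (.node 2 (.node 1 (.one ⟨9302, 0, 1⟩) (.one ⟨11370, 1, 5⟩)) (.node 1 (.one ⟨16122, 2, 5⟩) (.one ⟨602, 0, 5⟩))) (.node 2 (.node 1 (.one ⟨8492, 2, 7⟩) (.one ⟨11151, 2, 6⟩)) (.node 1 (.one ⟨9389, 0, 1⟩) (.one ⟨7119, 2, 4⟩)))))) (.node 16 (.node 8 (.node 4 (.node 2 (.node 1 (.one ⟨4928, 0, 4⟩) (.one ⟨4249, 2, 2⟩)) (.node 1 (.one ⟨10060, 0, 4⟩) (.one ⟨12019, 2, 5⟩))) (.node 2 (.node 1 (.one ⟨11751, 1, 2⟩) (.one ⟨14258, 0, 4⟩)) (.node 1 (.one ⟨10025, 2, 5⟩) (.one ⟨7070, 2, 4⟩)))) (.node 4 (.node 2 (.node 1 (.one ⟨8891, 2, 4⟩) (.one ⟨4318, 2, 4⟩)) (.node 1 (.one ⟨6671, 1, 4⟩) (.one ⟨7161, 1, 2⟩))) (.node 2 (.node 1 (.one ⟨8518, 1, 3⟩) (.one ⟨2225, 1, 1⟩)) (.node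 1 (.one ⟨3664, 1, 3⟩) (.one ⟨11762, 1, 3⟩))))) (.node 8 (.node 4 (.node 2 (.node 1 (.one ⟨11504, 0, 4⟩) (.one ⟨6313, 2, 3⟩)) (.node 1 (.one ⟨975, 0, 4⟩) (.one ⟨3602, 2, 3⟩))) (.node 2 (.node 1 (.one ⟨12978, 0, 4⟩) (.one ⟨11765, 1, 2⟩)) (.node 1 (.one ⟨4036, 0, 3⟩) (.one ⟨6739, 2, 4⟩)))) (.node 4 (.node 2 (.node 1 (.one ⟨5162, 1, 0⟩) (.one ⟨4857, 0, 0⟩)) (.node 1 (.one ⟨2104, 1, 1⟩) (.one ⟨1369, 2, 4⟩))) (.node 2 (.node 1 (.one ⟨1757, 0, 3⟩) (.one ⟨4219, 1, 5⟩)) (.node 1 (.one ⟨16695, 0, 3⟩) (.one ⟨7740, 1, 5⟩)))))))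
def par9_6_6 : Arr Par :=
  (.node 32 (.node 16 (.node 8 (.node 4 (.node 2 (.node 1 (.one ⟨3063, 0, 4⟩) (.one ⟨6192, 2, 5⟩)) (.node 1 (.one ⟨4828, 2, 4⟩) (.one ⟨2951, 0, 4⟩))) (.node 2 (.node 1 (.one ⟨4118, 0, 4⟩) (.one ⟨5346, 0, 5⟩)) (.node 1 (.one ⟨5093, 2, 5⟩) (.one ⟨1352, 2, 5⟩)))) (.node 4 (.node 2 (.node 1 (.one ⟨6542, 0, 4⟩) (.one ⟨1485, 2, 4⟩)) (.node 1 (.one ⟨13756, 2, 3⟩) (.one ⟨1408, 2, 4⟩))) (.node 2 (.node 1 (.one ⟨6536, 0, 5⟩) (.one ⟨1461, 2, 6⟩)) (.node 1 (.one ⟨13750, 2, 3⟩) (.one ⟨3692, 1, 6⟩))))) (.node 8 (.node 4 (.node 2 (.node 1 (.one ⟨7600, 0, 2⟩) (.one ⟨6565, 0, 5⟩)) (.node 1 (.one ⟨12405, 0, 5⟩) (.one ⟨2037, 0, 2⟩))) (.node 2 (.node 1 (.one ⟨8888, 2, 4⟩) (.one ⟨14456, 0, 5⟩)) (.node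 1 (.one ⟨4074, 0, 5⟩) (.one ⟨1888, 2, 6⟩)))) (.node 4 (.node 2 (.node 1 (.one ⟨11613, 2, 6⟩) (.one ⟨4784, 0, 1⟩)) (.node 1 (.one ⟨13011, 2, 4⟩) (.one ⟨13999, 0, 5⟩))) (.node 2 (.node 1 (.one ⟨7431, 0, 4⟩) (.one ⟨4487, 0, 4⟩)) (.node 1 (.one ⟨12729, 0, 4⟩) (.one ⟨16800, 1, 2⟩)))))) (.node 16 (.node 8 (.node 4 (.node 2 (.node 1 (.one ⟨5020, 0, 4⟩) (.one ⟨10912, 2, 3⟩)) (.node 1 (.one ⟨5972, 1, 6⟩) (.one ⟨15301, 0, 2⟩))) (.node 2 (.node 1 (.one ⟨10703, 0, 4⟩) (.one ⟨13955, 0, 4⟩)) (.node 1 (.one ⟨10929, 0, 4⟩) (.one ⟨7263, 2, 4⟩)))) (.node 4 (.node 2 (.node 1 (.one ⟨13867, 1, 2⟩) (.one ⟨2606, 2, 4⟩)) (.node 1 (.one ⟨11544, 0, 5⟩) (.one ⟨11432, 1, 2⟩))) (.node 2 (.node 1 (.one ⟨897, 2, 1⟩) (.one ⟨1772, 2, 5⟩))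 (.node 1 (.one ⟨8409, 1, 4⟩) (.one ⟨14498, 2, 3⟩))))) (.node 8 (.node 4 (.node 2 (.node 1 (.one ⟨16311, 1, 4⟩) (.one ⟨4624, 0, 5⟩)) (.node 1 (.one ⟨8941, 1, 4⟩) (.one ⟨730, 2, 2⟩))) (.node 2 (.node 1 (.one ⟨9632, 0, 4⟩) (.one ⟨4768, 2, 4⟩)) (.node 1 (.one ⟨15866, 0, 4⟩) (.one ⟨6485, 0, 3⟩)))) (.node 4 (.node 2 (.node 1 (.one ⟨4516, 0, 5⟩) (.one ⟨6748, 0, 3⟩)) (.node 1 (.one ⟨3531, 2, 3⟩) (.one ⟨10780, 2, 2⟩))) (.node 2 (.node 1 (.one ⟨3820, 0, 3⟩) (.one ⟨4096, 2, 3⟩)) (.node 1 (.one ⟨5080, 0, 3⟩) (.one ⟨3394, 1, 3⟩)))))))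
def par9_6_7 : Arr Par :=
  (.node 32 (.node 16 (.node 8 (.node 4 (.node 2 (.node 1 (.one ⟨11982, 2, 5⟩) (.one ⟨4487, 2, 4⟩)) (.node 1 (.one ⟨10588, 1, 4⟩) (.one ⟨121, 2, 2⟩))) (.node 2 (.node 1 (.one ⟨1777, 2, 4⟩) (.one ⟨3221, 0, 4⟩)) (.node 1 (.one ⟨10172, 2, 6⟩) (.one ⟨12607, 0, 5⟩)))) (.node 4 (.node 2 (.node 1 (.one ⟨4640, 0, 3⟩) (.one ⟨3632, 0, 3⟩)) (.node 1 (.one ⟨7237, 1, 4⟩) (.one ⟨16388, 2, 3⟩))) (.node 2 (.node 1 (.one ⟨12437, 2, 6⟩) (.one ⟨2921, 0, 5⟩)) (.node 1 (.one ⟨10936, 0, 4⟩) (.one ⟨6703, 2, 4⟩))))) (.node 8 (.node 4 (.node 2 (.node 1 (.one ⟨456, 0, 3⟩) (.one ⟨6842, 0, 3⟩)) (.node 1 (.one ⟨8943, 0, 3⟩) (.one ⟨15929, 0, 3⟩))) (.node 2 (.node 1 (.one ⟨3012, 1, 5⟩) (.one ⟨10007, 2, 2⟩)) (.node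 1 (.one ⟨12724, 0, 3⟩) (.one ⟨2833, 0, 2⟩)))) (.node 4 (.node 2 (.node 1 (.one ⟨1085, 0, 4⟩) (.one ⟨10162, 2, 7⟩)) (.node 1 (.one ⟨532, 2, 5⟩) (.one ⟨6757, 0, 4⟩))) (.node 2 (.node 1 (.one ⟨5677, 0, 2⟩) (.one ⟨6761, 0, 2⟩)) (.node 1 (.one ⟨4904, 2, 5⟩) (.one ⟨6358, 0, 3⟩)))))) (.node 16 (.node 8 (.node 4 (.node 2 (.node 1 (.one ⟨12821, 1, 2⟩) (.one ⟨9560, 2, 1⟩)) (.node 1 (.one ⟨6853, 1, 3⟩) (.one ⟨14268, 1, 3⟩))) (.node 2 (.node 1 (.one ⟨11129, 2, 5⟩) (.one ⟨5314, 0, 6⟩)) (.node 1 (.one ⟨3060, 2, 4⟩) (.one ⟨16016, 2, 7⟩)))) (.node 4 (.node 2 (.node 1 (.one ⟨4401, 0, 5⟩) (.one ⟨15130, 1, 1⟩)) (.node 1 (.one ⟨11520, 1, 2⟩) (.one ⟨6645, 2, 5⟩))) (.node 2 (.node 1 (.one ⟨1939, 1, 2⟩) (.one ⟨6932, 2, 3⟩)) (.node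 1 (.one ⟨762, 2, 3⟩) (.one ⟨13570, 0, 4⟩))))) (.node 8 (.node 4 (.node 2 (.node 1 (.one ⟨10224, 0, 3⟩) (.one ⟨16024, 0, 3⟩)) (.node 1 (.one ⟨15611, 0, 5⟩) (.one ⟨3833, 1, 4⟩))) (.node 2 (.node 1 (.one ⟨7047, 1, 4⟩) (.one ⟨13724, 1, 4⟩)) (.node 1 (.one ⟨15021, 2, 4⟩) (.one ⟨10709, 1, 2⟩)))) (.node 4 (.node 2 (.node 1 (.one ⟨10490, 0, 2⟩) (.one ⟨9985, 0, 4⟩)) (.node 1 (.one ⟨5546, 0, 2⟩) (.one ⟨15272, 0, 3⟩))) (.node 2 (.node 1 (.one ⟨10512, 2, 5⟩) (.one ⟨8335, 0, 2⟩)) (.node 1 (.one ⟨1226, 2, 1⟩) (.one ⟨662, 2, 6⟩)))))))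
def par9_6_8 : Arr Par :=
  (.node 32 (.node 16 (.node 8 (.node 4 (.node 2 (.node 1 (.one ⟨10426, 2, 2⟩) (.one ⟨9188, 0, 3⟩)) (.node 1 (.one ⟨11475, 0, 3⟩) (.one ⟨7776, 0, 5⟩))) (.node 2 (.node 1 (.one ⟨9062, 0, 3⟩) (.one ⟨2134, 0, 5⟩)) (.node 1 (.one ⟨10173, 2, 3⟩) (.one ⟨15950, 0, 4⟩)))) (.node 4 (.node 2 (.node 1 (.one ⟨14031, 2, 3⟩) (.one ⟨10670, 2, 5⟩)) (.node 1 (.one ⟨604, 1, 1⟩) (.one ⟨16417, 0, 2⟩))) (.node 2 (.node 1 (.one ⟨10876, 2, 3⟩) (.one ⟨15515, 2, 4⟩)) (.node 1 (.one ⟨10988, 2, 5⟩) (.one ⟨9165, 0, 3⟩))))) (.node 8 (.node 4 (.node 2 (.node 1 (.one ⟨8486, 2, 4⟩) (.one ⟨15934, 0, 6⟩)) (.node 1 (.one ⟨2175, 0, 3⟩) (.one ⟨10247, 0, 3⟩))) (.node 2 (.node 1 (.one ⟨5111, 2, 5⟩) (.one ⟨5241, 1, 5⟩))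 (.node 1 (.one ⟨1004, 0, 3⟩) (.one ⟨5284, 2, 4⟩)))) (.node 4 (.node 2 (.node 1 (.one ⟨11880, 1, 6⟩) (.one ⟨7164, 0, 3⟩)) (.node 1 (.one ⟨11078, 2, 4⟩) (.one ⟨6088, 2, 5⟩))) (.node 2 (.node 1 (.one ⟨15993, 2, 5⟩) (.one ⟨6241, 2, 3⟩)) (.node 1 (.one ⟨5085, 0, 3⟩) (.one ⟨10214, 0, 2⟩)))))) (.node 16 (.node 8 (.node 4 (.node 2 (.node 1 (.one ⟨10207, 0, 4⟩) (.one ⟨10208, 0, 2⟩)) (.node 1 (.one ⟨13821, 2, 5⟩) (.one ⟨10210, 0, 4⟩))) (.node 2 (.node 1 (.one ⟨10833, 2, 4⟩) (.one ⟨14352, 2, 2⟩)) (.node 1 (.one ⟨6588, 2, 4⟩) (.one ⟨15316, 1, 3⟩)))) (.node 4 (.node 2 (.node 1 (.one ⟨15084, 1, 5⟩) (.one ⟨9237, 1, 3⟩)) (.node 1 (.one ⟨6285, 2, 5⟩) (.one ⟨4164, 0, 2⟩))) (.node 2 (.node 1 (.one ⟨12414, 1, 5⟩) (.one ⟨17020,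 1, 2⟩)) (.node 1 (.one ⟨6279, 2, 3⟩) (.one ⟨1035, 2, 3⟩))))) (.node 8 (.node 4 (.node 2 (.node 1 (.one ⟨424, 2, 4⟩) (.one ⟨2425, 0, 5⟩)) (.node 1 (.one ⟨725, 2, 4⟩) (.one ⟨355, 2, 5⟩))) (.node 2 (.node 1 (.one ⟨3124, 0, 5⟩) (.one ⟨5421, 1, 0⟩)) (.node 1 (.one ⟨7805, 0, 5⟩) (.one ⟨8923, 2, 3⟩)))) (.node 4 (.node 2 (.node 1 (.one ⟨14323, 0, 4⟩) (.one ⟨4903, 1, 0⟩)) (.node 1 (.one ⟨14356, 2, 5⟩) (.one ⟨2365, 2, 3⟩))) (.node 2 (.node 1 (.one ⟨8399, 2, 4⟩) (.one ⟨9121, 0, 4⟩)) (.node 1 (.one ⟨7933, 0, 4⟩) (.one ⟨6055, 0, 3⟩)))))))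
def par9_6_9 : Arr Par :=
  (.node 32 (.node 16 (.node 8 (.node 4 (.node 2 (.node 1 (.one ⟨6019, 2, 3⟩) (.one ⟨3457, 1, 3⟩)) (.node 1 (.one ⟨8566, 2, 5⟩) (.one ⟨16653, 2, 3⟩))) (.node 2 (.node 1 (.one ⟨9787, 0, 6⟩) (.one ⟨4627, 0, 2⟩)) (.node 1 (.one ⟨7916, 2, 5⟩) (.one ⟨16501, 2, 5⟩)))) (.node 4 (.node 2 (.node 1 (.one ⟨10499, 2, 7⟩) (.one ⟨6752, 2, 5⟩)) (.node 1 (.one ⟨4000, 2, 3⟩) (.one ⟨13895, 0, 4⟩))) (.node 2 (.node 1 (.one ⟨932, 2, 7⟩) (.one ⟨15248, 2, 7⟩)) (.node 1 (.one ⟨9770, 0, 6⟩) (.one ⟨4636, 1, 2⟩))))) (.node 8 (.node 4 (.node 2 (.node 1 (.one ⟨9578, 0, 2⟩) (.one ⟨5763, 2, 3⟩)) (.node 1 (.one ⟨9524, 2, 2⟩) (.one ⟨4277, 0, 3⟩))) (.node 2 (.node 1 (.one ⟨12914, 2, 3⟩) (.one ⟨5855, 2, 3⟩)) (.node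 1 (.one ⟨9656, 2, 5⟩) (.one ⟨4950, 0, 5⟩)))) (.node 4 (.node 2 (.node 1 (.one ⟨10078, 2, 4⟩) (.one ⟨4450, 0, 4⟩)) (.node 1 (.one ⟨277, 0, 3⟩) (.one ⟨10077, 2, 5⟩))) (.node 2 (.node 1 (.one ⟨15083, 0, 2⟩) (.one ⟨15840, 0, 2⟩)) (.node 1 (.one ⟨10075, 2, 2⟩) (.one ⟨10923, 0, 5⟩)))))) (.node 16 (.node 8 (.node 4 (.node 2 (.node 1 (.one ⟨4031, 0, 4⟩) (.one ⟨13057, 0, 5⟩)) (.node 1 (.one ⟨2567, 0, 4⟩) (.one ⟨2323, 2, 6⟩))) (.node 2 (.node 1 (.one ⟨11856, 2, 4⟩) (.one ⟨941, 2, 3⟩)) (.node 1 (.one ⟨14078, 1, 5⟩) (.one ⟨6773, 1, 4⟩)))) (.node 4 (.node 2 (.node 1 (.one ⟨7025, 0, 1⟩) (.one ⟨9292, 0, 1⟩)) (.node 1 (.one ⟨1727, 1, 1⟩) (.one ⟨7072, 0, 6⟩))) (.node 2 (.node 1 (.one ⟨11396, 2, 4⟩) (.one ⟨11350, 2, 5⟩)) (.node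 1 (.one ⟨14168, 2, 5⟩) (.one ⟨10355, 0, 6⟩))))) (.node 8 (.node 4 (.node 2 (.node 1 (.one ⟨10133, 1, 4⟩) (.one ⟨3644, 2, 6⟩)) (.node 1 (.one ⟨12382, 1, 4⟩) (.one ⟨2322, 2, 3⟩))) (.node 2 (.node 1 (.one ⟨9522, 0, 4⟩) (.one ⟨6120, 1, 3⟩)) (.node 1 (.one ⟨1107, 0, 3⟩) (.one ⟨5412, 2, 5⟩)))) (.node 4 (.node 2 (.node 1 (.one ⟨6926, 2, 5⟩) (.one ⟨5924, 0, 4⟩)) (.node 1 (.one ⟨9560, 1, 1⟩) (.one ⟨14623, 0, 3⟩))) (.node 2 (.node 1 (.one ⟨12543, 2, 6⟩) (.one ⟨16905, 0, 5⟩)) (.node 1 (.one ⟨10525, 0, 6⟩) (.one ⟨9975, 0, 5⟩)))))))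
def par9_6_10 : Arr Par :=
  (.node 32 (.node 16 (.node 8 (.node 4 (.node 2 (.node 1 (.one ⟨10650, 2, 4⟩) (.one ⟨16981, 2, 5⟩)) (.node 1 (.one ⟨10253, 0, 3⟩) (.one ⟨14433, 2, 4⟩))) (.node 2 (.node 1 (.one ⟨288, 2, 4⟩) (.one ⟨8709, 2, 4⟩)) (.node 1 (.one ⟨850, 0, 5⟩) (.one ⟨9484, 0, 5⟩)))) (.node 4 (.node 2 (.node 1 (.one ⟨10022, 0, 2⟩) (.one ⟨16172, 1, 2⟩)) (.node 1 (.one ⟨14924, 2, 4⟩) (.one ⟨10787, 2, 4⟩))) (.node 2 (.node 1 (.one ⟨16883, 2, 4⟩) (.one ⟨8705, 2, 4⟩)) (.node 1 (.one ⟨1712, 1, 1⟩) (.one ⟨8710, 2, 3⟩))))) (.node 8 (.node 4 (.node 2 (.node 1 (.one ⟨7467, 0, 5⟩) (.one ⟨16790, 2, 6⟩)) (.node 1 (.one ⟨9538, 2, 2⟩) (.one ⟨2958, 2, 2⟩))) (.node 2 (.node 1 (.one ⟨7746, 2, 2⟩) (.one ⟨11029, 2, 2⟩)) (.node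 1 (.one ⟨1639, 1, 5⟩) (.one ⟨4567, 0, 4⟩)))) (.node 4 (.node 2 (.node 1 (.one ⟨8402, 2, 1⟩) (.one ⟨7465, 2, 1⟩)) (.node 1 (.one ⟨14583, 0, 4⟩) (.one ⟨15426, 2, 4⟩))) (.node 2 (.node 1 (.one ⟨8706, 2, 2⟩) (.one ⟨7473, 2, 2⟩)) (.node 1 (.one ⟨16497, 2, 4⟩) (.one ⟨3777, 0, 5⟩)))))) (.node 16 (.node 8 (.node 4 (.node 2 (.node 1 (.one ⟨11812, 2, 3⟩) (.one ⟨3050, 0, 6⟩)) (.node 1 (.one ⟨11126, 0, 5⟩) (.one ⟨15640, 2, 3⟩))) (.node 2 (.node 1 (.one ⟨9575, 0, 4⟩) (.one ⟨4574, 0, 2⟩)) (.node 1 (.one ⟨7554, 2, 3⟩) (.one ⟨8443, 2, 7⟩)))) (.node 4 (.node 2 (.node 1 (.one ⟨6273, 0, 5⟩) (.one ⟨8721, 0, 4⟩)) (.node 1 (.one ⟨7397, 2, 5⟩) (.one ⟨7722, 2, 5⟩))) (.node 2 (.node 1 (.one ⟨3350, 0, 5⟩) (.one ⟨3758, 0, 6⟩)) (.node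 1 (.one ⟨6321, 2, 7⟩) (.one ⟨1119, 2, 2⟩))))) (.node 8 (.node 4 (.node 2 (.node 1 (.one ⟨9372, 2, 1⟩) (.one ⟨2101, 2, 5⟩)) (.node 1 (.one ⟨10241, 2, 2⟩) (.one ⟨10223, 2, 6⟩))) (.node 2 (.node 1 (.one ⟨2116, 2, 6⟩) (.one ⟨9486, 2, 2⟩)) (.node 1 (.one ⟨88, 2, 1⟩) (.one ⟨3601, 2, 4⟩)))) (.node 4 (.node 2 (.node 1 (.one ⟨9894, 2, 5⟩) (.one ⟨16843, 2, 4⟩)) (.node 1 (.one ⟨3192, 0, 2⟩) (.one ⟨3670, 0, 2⟩))) (.node 2 (.node 1 (.one ⟨6838, 2, 2⟩) (.one ⟨4523, 2, 5⟩)) (.node 1 (.one ⟨10781, 2, 5⟩) (.one ⟨3828, 2, 5⟩)))))))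
def par9_6_11 : Arr Par :=
  (.node 32 (.node 16 (.node 8 (.node 4 (.node 2 (.node 1 (.one ⟨8599, 0, 3⟩) (.one ⟨4979, 0, 1⟩)) (.node 1 (.one ⟨563, 0, 4⟩) (.one ⟨15313, 0, 3⟩))) (.node 2 (.node 1 (.one ⟨16321, 0, 1⟩) (.one ⟨6761, 1, 2⟩)) (.node 1 (.one ⟨4130, 2, 5⟩) (.one ⟨5228, 1, 0⟩)))) (.node 4 (.node 2 (.node 1 (.one ⟨3480, 0, 2⟩) (.one ⟨4835, 1, 0⟩)) (.node 1 (.one ⟨11797, 2, 5⟩) (.one ⟨7135, 2, 5⟩))) (.node 2 (.node 1 (.one ⟨2327, 2, 5⟩) (.one ⟨3275, 1, 5⟩)) (.node 1 (.one ⟨3965, 2, 5⟩) (.one ⟨6917, 1, 4⟩))))) (.node 8 (.node 4 (.node 2 (.node 1 (.one ⟨12695, 2, 5⟩) (.one ⟨5319, 2, 5⟩)) (.node 1 (.one ⟨11584, 0, 2⟩) (.one ⟨6470, 0, 3⟩))) (.node 2 (.node 1 (.one ⟨7060, 2, 2⟩) (.one ⟨3439, 1, 6⟩)) (.node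 1 (.one ⟨10662, 2, 4⟩) (.one ⟨11495, 0, 5⟩)))) (.node 4 (.node 2 (.node 1 (.one ⟨5350, 0, 4⟩) (.one ⟨15493, 2, 4⟩)) (.node 1 (.one ⟨6414, 2, 4⟩) (.one ⟨4325, 2, 4⟩))) (.node 2 (.node 1 (.one ⟨16837, 0, 5⟩) (.one ⟨12939, 1, 5⟩)) (.node 1 (.one ⟨520, 0, 5⟩) (.one ⟨7972, 2, 4⟩)))))) (.node 16 (.node 8 (.node 4 (.node 2 (.node 1 (.one ⟨15882, 2, 7⟩) (.one ⟨10985, 2, 5⟩)) (.node 1 (.one ⟨2835, 2, 7⟩) (.one ⟨16495, 2, 4⟩))) (.node 2 (.node 1 (.one ⟨8222, 0, 4⟩) (.one ⟨10688, 0, 2⟩)) (.node 1 (.one ⟨10192, 2, 5⟩) (.one ⟨16292, 1, 2⟩)))) (.node 4 (.node 2 (.node 1 (.one ⟨10919, 0, 5⟩) (.one ⟨867, 0, 5⟩)) (.node 1 (.one ⟨9948, 2, 4⟩) (.one ⟨6019, 0, 3⟩))) (.node 2 (.node 1 (.one ⟨12693, 2, 4⟩) (.one ⟨10650, 0, 4⟩))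 (.node 1 (.one ⟨6901, 2, 5⟩) (.one ⟨13056, 2, 4⟩))))) (.node 8 (.node 4 (.node 2 (.node 1 (.one ⟨5894, 2, 4⟩) (.one ⟨13770, 1, 3⟩)) (.node 1 (.one ⟨8210, 1, 5⟩) (.one ⟨14282, 1, 3⟩))) (.node 2 (.node 1 (.one ⟨1481, 0, 5⟩) (.one ⟨7933, 2, 4⟩)) (.node 1 (.one ⟨10879, 2, 4⟩) (.one ⟨12755, 2, 5⟩)))) (.node 4 (.node 2 (.node 1 (.one ⟨2397, 0, 3⟩) (.one ⟨12805, 0, 6⟩)) (.node 1 (.one ⟨16499, 2, 3⟩) (.one ⟨12091, 2, 5⟩))) (.node 2 (.node 1 (.one ⟨3274, 2, 7⟩) (.one ⟨2435, 0, 4⟩)) (.node 1 (.one ⟨10871, 1, 1⟩) (.one ⟨6389, 0, 3⟩)))))))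
def par9_6_12 : Arr Par :=
  (.node 32 (.node 16 (.node 8 (.node 4 (.node 2 (.node 1 (.one ⟨1005, 1, 4⟩) (.one ⟨3134, 2, 5⟩)) (.node 1 (.one ⟨10505, 0, 2⟩) (.one ⟨9640, 1, 4⟩))) (.node 2 (.node 1 (.one ⟨14086, 2, 3⟩) (.one ⟨7865, 1, 3⟩)) (.node 1 (.one ⟨3502, 2, 2⟩) (.one ⟨11728, 1, 3⟩)))) (.node 4 (.node 2 (.node 1 (.one ⟨10531, 2, 7⟩) (.one ⟨13836, 2, 6⟩)) (.node 1 (.one ⟨16317, 1, 3⟩) (.one ⟨1467, 0, 4⟩))) (.node 2 (.node 1 (.one ⟨3966, 1, 3⟩) (.one ⟨7645, 0, 3⟩)) (.node 1 (.one ⟨13531, 2, 4⟩) (.one ⟨12948, 2, 2⟩))))) (.node 8 (.node 4 (.node 2 (.node 1 (.one ⟨8957, 0, 4⟩) (.one ⟨8935, 0, 2⟩)) (.node 1 (.one ⟨5456, 2, 4⟩) (.one ⟨9043, 0, 5⟩))) (.node 2 (.node 1 (.one ⟨13230, 2, 2⟩) (.one ⟨4969, 2, 5⟩)) (.node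 1 (.one ⟨10828, 2, 4⟩) (.one ⟨12230, 0, 3⟩)))) (.node 4 (.node 2 (.node 1 (.one ⟨15436, 2, 5⟩) (.one ⟨5698, 0, 4⟩)) (.node 1 (.one ⟨13835, 1, 2⟩) (.one ⟨11359, 1, 1⟩))) (.node 2 (.node 1 (.one ⟨11363, 0, 1⟩) (.one ⟨12484, 0, 1⟩)) (.node 1 (.one ⟨12449, 2, 5⟩) (.one ⟨9312, 2, 4⟩)))))) (.node 16 (.node 8 (.node 4 (.node 2 (.node 1 (.one ⟨2451, 2, 6⟩) (.one ⟨1127, 2, 2⟩)) (.node 1 (.one ⟨7546, 0, 4⟩) (.one ⟨2351, 2, 6⟩))) (.node 2 (.node 1 (.one ⟨9476, 2, 2⟩) (.one ⟨10449, 2, 6⟩)) (.node 1 (.one ⟨1532, 2, 2⟩) (.one ⟨4097, 0, 4⟩)))) (.node 4 (.node 2 (.node 1 (.one ⟨9069, 2, 2⟩) (.one ⟨5156, 0, 4⟩)) (.node 1 (.one ⟨2018, 2, 4⟩) (.one ⟨9647, 2, 3⟩))) (.node 2 (.node 1 (.one ⟨5527, 0, 4⟩) (.one ⟨17040, 2, 2⟩)) (.node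 1 (.one ⟨5896, 1, 2⟩) (.one ⟨15979, 2, 5⟩))))) (.node 8 (.node 4 (.node 2 (.node 1 (.one ⟨1507, 2, 4⟩) (.one ⟨1617, 0, 5⟩)) (.node 1 (.one ⟨5136, 0, 3⟩) (.one ⟨10392, 0, 4⟩))) (.node 2 (.node 1 (.one ⟨12801, 0, 5⟩) (.one ⟨5573, 1, 4⟩)) (.node 1 (.one ⟨4771, 1, 4⟩) (.one ⟨4444, 0, 5⟩)))) (.node 4 (.node 2 (.node 1 (.one ⟨13703, 0, 4⟩) (.one ⟨15142, 0, 4⟩)) (.node 1 (.one ⟨5040, 0, 4⟩) (.one ⟨4878, 1, 4⟩))) (.node 2 (.node 1 (.one ⟨13815, 0, 4⟩) (.one ⟨14900, 0, 4⟩)) (.node 1 (.one ⟨15021, 1, 4⟩) (.one ⟨15535, 0, 3⟩)))))))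
def par9_6_13 : Arr Par :=
  (.node 32 (.node 16 (.node 8 (.node 4 (.node 2 (.node 1 (.one ⟨635, 0, 6⟩) (.one ⟨2686, 2, 2⟩)) (.node 1 (.one ⟨4683, 0, 3⟩) (.one ⟨7876, 0, 6⟩))) (.node 2 (.node 1 (.one ⟨8509, 1, 6⟩) (.one ⟨6843, 0, 3⟩)) (.node 1 (.one ⟨7568, 1, 6⟩) (.one ⟨17150, 2, 5⟩)))) (.node 4 (.node 2 (.node 1 (.one ⟨1633, 0, 4⟩) (.one ⟨5565, 2, 4⟩)) (.node 1 (.one ⟨7268, 0, 2⟩) (.one ⟨709, 2, 4⟩))) (.node 2 (.node 1 (.one ⟨11813, 2, 4⟩) (.one ⟨6775, 0, 6⟩)) (.node 1 (.one ⟨7031, 0, 2⟩) (.one ⟨8046, 1, 3⟩))))) (.node 8 (.node 4 (.node 2 (.node 1 (.one ⟨13409, 2, 6⟩) (.one ⟨11779, 2, 6⟩)) (.node 1 (.one ⟨10751, 0, 4⟩) (.one ⟨4848, 2, 2⟩))) (.node 2 (.node 1 (.one ⟨2993, 2, 6⟩) (.one ⟨7106, 0, 4⟩)) (.node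 1 (.one ⟨4031, 2, 4⟩) (.one ⟨14478, 2, 4⟩)))) (.node 4 (.node 2 (.node 1 (.one ⟨11415, 2, 3⟩) (.one ⟨13230, 0, 2⟩)) (.node 1 (.one ⟨13225, 0, 2⟩) (.one ⟨2239, 2, 2⟩))) (.node 2 (.node 1 (.one ⟨7342, 2, 5⟩) (.one ⟨13229, 0, 2⟩)) (.node 1 (.one ⟨13226, 0, 2⟩) (.one ⟨1518, 1, 3⟩)))))) (.node 16 (.node 8 (.node 4 (.node 2 (.node 1 (.one ⟨16550, 0, 4⟩) (.one ⟨4837, 0, 4⟩)) (.node 1 (.one ⟨594, 2, 1⟩) (.one ⟨12423, 2, 6⟩))) (.node 2 (.node 1 (.one ⟨11651, 1, 4⟩) (.one ⟨12522, 0, 4⟩)) (.node 1 (.one ⟨2740, 1, 1⟩) (.one ⟨351, 2, 5⟩)))) (.node 4 (.node 2 (.node 1 (.one ⟨13950, 1, 4⟩) (.one ⟨14071, 0, 4⟩)) (.node 1 (.one ⟨9037, 0, 4⟩) (.one ⟨9384, 0, 3⟩))) (.node 2 (.node 1 (.one ⟨5132, 0, 3⟩) (.one ⟨8500, 0, 3⟩)) (.node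 1 (.one ⟨10167, 2, 2⟩) (.one ⟨8354, 1, 4⟩))))) (.node 8 (.node 4 (.node 2 (.node 1 (.one ⟨10721, 0, 5⟩) (.one ⟨5185, 1, 0⟩)) (.node 1 (.one ⟨14951, 0, 4⟩) (.one ⟨12808, 1, 4⟩))) (.node 2 (.node 1 (.one ⟨7027, 2, 5⟩) (.one ⟨12807, 2, 4⟩)) (.node 1 (.one ⟨1992, 0, 4⟩) (.one ⟨13758, 1, 1⟩)))) (.node 4 (.node 2 (.node 1 (.one ⟨898, 2, 4⟩) (.one ⟨13754, 1, 3⟩)) (.node 1 (.one ⟨14145, 2, 5⟩) (.one ⟨11313, 0, 1⟩))) (.node 2 (.node 1 (.one ⟨17147, 2, 4⟩) (.one ⟨7294, 2, 5⟩)) (.node 1 (.one ⟨5216, 2, 5⟩) (.one ⟨3085, 0, 5⟩)))))))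
def par9_6_14 : Arr Par :=
  (.node 32 (.node 16 (.node 8 (.node 4 (.node 2 (.node 1 (.one ⟨16602, 0, 4⟩) (.one ⟨8907, 2, 4⟩)) (.node 1 (.one ⟨11882, 1, 2⟩) (.one ⟨16007, 1, 4⟩))) (.node 2 (.node 1 (.one ⟨5045, 0, 4⟩) (.one ⟨11351, 2, 2⟩)) (.node 1 (.one ⟨14533, 0, 4⟩) (.one ⟨5239, 1, 3⟩)))) (.node 4 (.node 2 (.node 1 (.one ⟨2683, 2, 6⟩) (.one ⟨4681, 0, 2⟩)) (.node 1 (.one ⟨239, 0, 3⟩) (.one ⟨9162, 0, 6⟩))) (.node 2 (.node 1 (.one ⟨12722, 0, 6⟩) (.one ⟨15128, 2, 4⟩)) (.node 1 (.one ⟨16639, 0, 3⟩) (.one ⟨4815, 0, 5⟩))))) (.node 8 (.node 4 (.node 2 (.node 1 (.one ⟨15593, 0, 4⟩) (.one ⟨12345, 1, 4⟩)) (.node 1 (.one ⟨5937, 0, 3⟩) (.one ⟨15778, 0, 3⟩))) (.node 2 (.node 1 (.one ⟨5553, 1, 1⟩) (.one ⟨15883, 2, 4⟩))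 (.node 1 (.one ⟨11105, 0, 5⟩) (.one ⟨17079, 2, 4⟩)))) (.node 4 (.node 2 (.node 1 (.one ⟨1672, 1, 5⟩) (.one ⟨15046, 2, 5⟩)) (.node 1 (.one ⟨15040, 2, 6⟩) (.one ⟨3048, 1, 5⟩))) (.node 2 (.node 1 (.one ⟨15042, 2, 3⟩) (.one ⟨17080, 2, 3⟩)) (.node 1 (.one ⟨17083, 2, 3⟩) (.one ⟨7569, 2, 2⟩)))))) (.node 16 (.node 8 (.node 4 (.node 2 (.node 1 (.one ⟨11025, 2, 5⟩) (.one ⟨7368, 2, 4⟩)) (.node 1 (.one ⟨10816, 2, 3⟩) (.one ⟨3790, 0, 4⟩))) (.node 2 (.node 1 (.one ⟨15775, 0, 2⟩) (.one ⟨9317, 1, 4⟩)) (.node 1 (.one ⟨2481, 2, 5⟩) (.one ⟨488, 2, 3⟩)))) (.node 4 (.node 2 (.node 1 (.one ⟨7968, 2, 3⟩) (.one ⟨9149, 1, 2⟩)) (.node 1 (.one ⟨2095, 2, 5⟩) (.one ⟨17080, 0, 3⟩))) (.node 2 (.node 1 (.one ⟨16022, 2, 3⟩) (.one ⟨15907, 2,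 4⟩)) (.node 1 (.one ⟨6709, 1, 1⟩) (.one ⟨5746, 0, 3⟩))))) (.node 8 (.node 4 (.node 2 (.node 1 (.one ⟨13365, 2, 4⟩) (.one ⟨15235, 0, 6⟩)) (.node 1 (.one ⟨8961, 2, 5⟩) (.one ⟨5483, 1, 0⟩))) (.node 2 (.node 1 (.one ⟨10998, 1, 1⟩) (.one ⟨10995, 1, 3⟩)) (.node 1 (.one ⟨14579, 0, 2⟩) (.one ⟨10781, 0, 5⟩)))) (.node 4 (.node 2 (.node 1 (.one ⟨13317, 2, 4⟩) (.one ⟨1736, 2, 4⟩)) (.node 1 (.one ⟨9640, 2, 4⟩) (.one ⟨533, 0, 4⟩))) (.node 2 (.node 1 (.one ⟨1985, 2, 4⟩) (.one ⟨3604, 0, 5⟩)) (.node 1 (.one ⟨5350, 2, 4⟩) (.one ⟨6986, 2, 3⟩)))))))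
def par9_6_15 : Arr Par :=
  (.node 32 (.node 16 (.node 8 (.node 4 (.node 2 (.node 1 (.one ⟨5870, 0, 2⟩) (.one ⟨9936, 2, 3⟩)) (.node 1 (.one ⟨305, 2, 3⟩) (.one ⟨7158, 2, 5⟩))) (.node 2 (.node 1 (.one ⟨301, 0, 4⟩) (.one ⟨10472, 2, 3⟩)) (.node 1 (.one ⟨2664, 2, 2⟩) (.one ⟨11582, 1, 4⟩)))) (.node 4 (.node 2 (.node 1 (.one ⟨2316, 2, 4⟩) (.one ⟨7196, 2, 6⟩)) (.node 1 (.one ⟨3745, 2, 4⟩) (.one ⟨11920, 2, 5⟩))) (.node 2 (.node 1 (.one ⟨15526, 2, 5⟩) (.one ⟨17046, 1, 6⟩)) (.node 1 (.one ⟨16778, 2, 4⟩) (.one ⟨16233, 2, 3⟩))))) (.node 8 (.node 4 (.node 2 (.node 1 (.one ⟨968, 2, 4⟩) (.one ⟨13625, 0, 6⟩)) (.node 1 (.one ⟨7065, 2, 6⟩) (.one ⟨13009, 0, 4⟩))) (.node 2 (.node 1 (.one ⟨3670, 1, 2⟩) (.one ⟨2730, 2, 4⟩)) (.node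 1 (.one ⟨711, 0, 3⟩) (.one ⟨6533, 2, 6⟩)))) (.node 4 (.node 2 (.node 1 (.one ⟨15210, 2, 4⟩) (.one ⟨7580, 1, 6⟩)) (.node 1 (.one ⟨12479, 2, 4⟩) (.one ⟨8694, 2, 4⟩))) (.node 2 (.node 1 (.one ⟨15817, 2, 6⟩) (.one ⟨1611, 2, 4⟩)) (.node 1 (.one ⟨10927, 2, 4⟩) (.one ⟨15959, 0, 4⟩)))))) (.node 16 (.node 8 (.node 4 (.node 2 (.node 1 (.one ⟨2728, 2, 1⟩) (.one ⟨12991, 0, 4⟩)) (.node 1 (.one ⟨12136, 0, 5⟩) (.one ⟨7157, 2, 3⟩))) (.node 2 (.node 1 (.one ⟨6215, 0, 4⟩) (.one ⟨3585, 2, 1⟩)) (.node 1 (.one ⟨11898, 2, 4⟩) (.one ⟨2865, 0, 3⟩)))) (.node 4 (.node 2 (.node 1 (.one ⟨11899, 2, 3⟩) (.one ⟨2684, 1, 6⟩)) (.node 1 (.one ⟨11708, 2, 4⟩) (.one ⟨3821, 0, 3⟩))) (.node 2 (.node 1 (.one ⟨14885, 2, 3⟩) (.one ⟨5013, 0, 4⟩)) (.node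 1 (.one ⟨14670, 2, 4⟩) (.one ⟨12242, 1, 5⟩))))) (.node 8 (.node 4 (.node 2 (.node 1 (.one ⟨7746, 0, 2⟩) (.one ⟨4453, 0, 2⟩)) (.node 1 (.one ⟨724, 0, 3⟩) (.one ⟨2956, 0, 2⟩))) (.node 2 (.node 1 (.one ⟨12408, 2, 3⟩) (.one ⟨8706, 0, 2⟩)) (.node 1 (.one ⟨7281, 0, 4⟩) (.one ⟨14388, 0, 2⟩)))) (.node 4 (.node 2 (.node 1 (.one ⟨6510, 0, 4⟩) (.one ⟨6371, 0, 1⟩)) (.node 1 (.one ⟨16404, 1, 3⟩) (.one ⟨10148, 0, 2⟩))) (.node 2 (.node 1 (.one ⟨8, 0, 2⟩) (.one ⟨1983, 0, 3⟩)) (.node 1 (.one ⟨9500, 0, 3⟩) (.one ⟨3974, 0, 4⟩)))))))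
def par9_6 : Arr Par :=
  (.node 512 (.node 256 (.node 128 (.node 64 par9_6_0 par9_6_1) (.node 64 par9_6_2 par9_6_3)) (.node 128 (.node 64 par9_6_4 par9_6_5) (.node 64 par9_6_6 par9_6_7))) (.node 256 (.node 128 (.node 64 par9_6_8 par9_6_9) (.node 64 par9_6_10 par9_6_11)) (.node 128 (.node 64 par9_6_12 par9_6_13) (.node 64 par9_6_14 par9_6_15))))
def par9_7_0 : Arr Par :=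
  (.node 32 (.node 16 (.node 8 (.node 4 (.node 2 (.node 1 (.one ⟨14891, 0, 4⟩) (.one ⟨16870, 1, 5⟩)) (.node 1 (.one ⟨13343, 1, 2⟩) (.one ⟨16078, 2, 4⟩))) (.node 2 (.node 1 (.one ⟨14099, 0, 4⟩) (.one ⟨5046, 0, 2⟩)) (.node 1 (.one ⟨13958, 0, 4⟩) (.one ⟨13877, 2, 4⟩)))) (.node 4 (.node 2 (.node 1 (.one ⟨8640, 0, 6⟩) (.one ⟨10922, 2, 6⟩)) (.node 1 (.one ⟨14838, 2, 4⟩) (.one ⟨11611, 0, 4⟩))) (.node 2 (.node 1 (.one ⟨11041, 2, 6⟩) (.one ⟨14218, 0, 5⟩)) (.node 1 (.one ⟨14005, 2, 4⟩) (.one ⟨8267, 1, 5⟩))))) (.node 8 (.node 4 (.node 2 (.node 1 (.one ⟨6731, 0, 5⟩) (.one ⟨7821, 1, 5⟩)) (.node 1 (.one ⟨13287, 1, 6⟩) (.one ⟨10708, 2, 5⟩))) (.node 2 (.node 1 (.one ⟨15380, 1, 5⟩) (.one ⟨10290, 2, 5⟩)) (.node 1 (.one ⟨15093,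 1, 6⟩) (.one ⟨11036, 1, 3⟩)))) (.node 4 (.node 2 (.node 1 (.one ⟨3131, 0, 3⟩) (.one ⟨16825, 0, 5⟩)) (.node 1 (.one ⟨5387, 0, 5⟩) (.one ⟨13787, 0, 2⟩))) (.node 2 (.node 1 (.one ⟨2193, 0, 5⟩) (.one ⟨12004, 2, 5⟩)) (.node 1 (.one ⟨12003, 2, 3⟩) (.one ⟨15790, 0, 4⟩)))))) (.node 16 (.node 8 (.node 4 (.node 2 (.node 1 (.one ⟨3797, 0, 4⟩) (.one ⟨14234, 0, 4⟩)) (.node 1 (.one ⟨282, 0, 4⟩) (.one ⟨14435, 2, 6⟩))) (.node 2 (.node 1 (.one ⟨9932, 0, 3⟩) (.one ⟨7927, 0, 4⟩)) (.node 1 (.one ⟨11570, 0, 2⟩) (.one ⟨5743, 0, 3⟩)))) (.node 4 (.node 2 (.node 1 (.one ⟨8336, 2, 6⟩) (.one ⟨1152, 2, 5⟩)) (.node 1 (.one ⟨5163, 2, 6⟩) (.one ⟨3846, 0, 4⟩))) (.node 2 (.node 1 (.one ⟨9987, 0, 2⟩) (.one ⟨16758, 0, 4⟩)) (.node 1 (.one ⟨6932,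 0, 3⟩) (.one ⟨5729, 1, 2⟩))))) (.node 8 (.node 4 (.node 2 (.node 1 (.one ⟨9896, 0, 4⟩) (.one ⟨5321, 2, 5⟩)) (.node 1 (.one ⟨2313, 2, 5⟩) (.one ⟨1289, 2, 2⟩))) (.node 2 (.node 1 (.one ⟨4920, 2, 3⟩) (.one ⟨732, 2, 4⟩)) (.node 1 (.one ⟨8708, 0, 4⟩) (.one ⟨4106, 0, 4⟩)))) (.node 4 (.node 2 (.node 1 (.one ⟨2839, 2, 4⟩) (.one ⟨16139, 2, 6⟩)) (.node 1 (.one ⟨2606, 0, 4⟩) (.one ⟨1042, 2, 4⟩))) (.node 2 (.node 1 (.one ⟨15595, 0, 5⟩) (.one ⟨16983, 0, 4⟩)) (.node 1 (.one ⟨10542, 0, 2⟩) (.one ⟨11650, 1, 3⟩)))))))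
def par9_7_1 : Arr Par :=
  (.node 32 (.node 16 (.node 8 (.node 4 (.node 2 (.node 1 (.one ⟨1994, 0, 4⟩) (.one ⟨11078, 0, 4⟩)) (.node 1 (.one ⟨8557, 2, 6⟩) (.one ⟨5017, 2, 4⟩))) (.node 2 (.node 1 (.one ⟨15670, 0, 2⟩) (.one ⟨10159, 1, 3⟩)) (.node 1 (.one ⟨11556, 1, 3⟩) (.one ⟨14863, 2, 3⟩)))) (.node 4 (.node 2 (.node 1 (.one ⟨16408, 2, 6⟩) (.one ⟨9391, 2, 3⟩)) (.node 1 (.one ⟨13607, 2, 3⟩) (.one ⟨8743, 2, 3⟩))) (.node 2 (.node 1 (.one ⟨6255, 2, 3⟩) (.one ⟨3736, 2, 4⟩)) (.node 1 (.one ⟨6134, 1, 3⟩) (.one ⟨7971, 2, 4⟩))))) (.node 8 (.node 4 (.node 2 (.node 1 (.one ⟨3753, 2, 6⟩) (.one ⟨5315, 2, 5⟩)) (.node 1 (.one ⟨9080, 2, 6⟩) (.one ⟨3169, 2, 5⟩))) (.node 2 (.node 1 (.one ⟨7197, 2, 6⟩) (.one ⟨7735, 1, 1⟩)) (.node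 1 (.one ⟨707, 2, 6⟩) (.one ⟨3602, 0, 3⟩)))) (.node 4 (.node 2 (.node 1 (.one ⟨548, 0, 4⟩) (.one ⟨9616, 2, 1⟩)) (.node 1 (.one ⟨15536, 1, 6⟩) (.one ⟨11759, 0, 4⟩))) (.node 2 (.node 1 (.one ⟨6029, 2, 6⟩) (.one ⟨5911, 0, 4⟩)) (.node 1 (.one ⟨7628, 0, 3⟩) (.one ⟨10471, 0, 3⟩)))))) (.node 16 (.node 8 (.node 4 (.node 2 (.node 1 (.one ⟨6248, 0, 6⟩) (.one ⟨3510, 2, 2⟩)) (.node 1 (.one ⟨10956, 0, 1⟩) (.one ⟨13758, 0, 1⟩))) (.node 2 (.node 1 (.one ⟨897, 0, 1⟩) (.one ⟨8960, 2, 4⟩)) (.node 1 (.one ⟨620, 2, 4⟩) (.one ⟨4779, 0, 4⟩)))) (.node 4 (.node 2 (.node 1 (.one ⟨11291, 2, 6⟩) (.one ⟨13689, 2, 6⟩)) (.node 1 (.one ⟨2923, 0, 4⟩) (.one ⟨4469, 0, 5⟩))) (.node 2 (.node 1 (.one ⟨11499, 0, 6⟩) (.one ⟨1577, 1, 3⟩)) (.node 1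 (.one ⟨7433, 2, 4⟩) (.one ⟨8734, 0, 3⟩))))) (.node 8 (.node 4 (.node 2 (.node 1 (.one ⟨4966, 0, 3⟩) (.one ⟨12053, 1, 3⟩)) (.node 1 (.one ⟨16257, 1, 3⟩) (.one ⟨5205, 0, 4⟩))) (.node 2 (.node 1 (.one ⟨8758, 0, 2⟩) (.one ⟨11990, 1, 3⟩)) (.node 1 (.one ⟨13821, 0, 5⟩) (.one ⟨10473, 0, 2⟩)))) (.node 4 (.node 2 (.node 1 (.one ⟨5699, 2, 1⟩) (.one ⟨12783, 0, 5⟩)) (.node 1 (.one ⟨10517, 1, 5⟩) (.one ⟨9640, 0, 4⟩))) (.node 2 (.node 1 (.one ⟨2422, 0, 4⟩) (.one ⟨9634, 1, 5⟩)) (.node 1 (.one ⟨4781, 0, 4⟩) (.one ⟨2399, 1, 2⟩)))))))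
def par9_7_2 : Arr Par :=
  (.node 32 (.node 16 (.node 8 (.node 4 (.node 2 (.node 1 (.one ⟨14705, 0, 3⟩) (.one ⟨13467, 2, 6⟩)) (.node 1 (.one ⟨704, 0, 5⟩) (.one ⟨1920, 1, 3⟩))) (.node 2 (.node 1 (.one ⟨9749, 0, 3⟩) (.one ⟨7642, 0, 6⟩)) (.node 1 (.one ⟨1903, 2, 1⟩) (.one ⟨14731, 1, 6⟩)))) (.node 4 (.node 2 (.node 1 (.one ⟨12758, 2, 6⟩) (.one ⟨10938, 2, 5⟩)) (.node 1 (.one ⟨15693, 2, 5⟩) (.one ⟨8544, 2, 6⟩))) (.node 2 (.node 1 (.one ⟨1016, 2, 4⟩) (.one ⟨3696, 2, 5⟩)) (.node 1 (.one ⟨6659, 2, 6⟩) (.one ⟨1353, 2, 3⟩))))) (.node 8 (.node 4 (.node 2 (.node 1 (.one ⟨10995, 2, 3⟩) (.one ⟨1278, 2, 5⟩)) (.node 1 (.one ⟨7608, 0, 5⟩) (.one ⟨1407, 2, 5⟩))) (.node 2 (.node 1 (.one ⟨7610, 0, 6⟩) (.one ⟨1237, 2, 6⟩)) (.node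 1 (.one ⟨11044, 2, 5⟩) (.one ⟨1189, 2, 3⟩)))) (.node 4 (.node 2 (.node 1 (.one ⟨1437, 2, 3⟩) (.one ⟨9448, 2, 3⟩)) (.node 1 (.one ⟨15154, 1, 5⟩) (.one ⟨6126, 2, 5⟩))) (.node 2 (.node 1 (.one ⟨6093, 2, 6⟩) (.one ⟨14130, 2, 6⟩)) (.node 1 (.one ⟨14357, 0, 2⟩) (.one ⟨12797, 2, 4⟩)))))) (.node 16 (.node 8 (.node 4 (.node 2 (.node 1 (.one ⟨10028, 0, 3⟩) (.one ⟨13318, 2, 3⟩)) (.node 1 (.one ⟨6447, 2, 3⟩) (.one ⟨15178, 2, 4⟩))) (.node 2 (.node 1 (.one ⟨4495, 2, 5⟩) (.one ⟨14873, 2, 5⟩)) (.node 1 (.one ⟨14313, 1, 5⟩) (.one ⟨16289, 1, 6⟩)))) (.node 4 (.node 2 (.node 1 (.one ⟨15216, 1, 6⟩) (.one ⟨14554, 2, 3⟩)) (.node 1 (.one ⟨7602, 0, 3⟩) (.one ⟨560, 2, 3⟩))) (.node 2 (.node 1 (.one ⟨13151, 2, 3⟩) (.one ⟨12772, 2, 5⟩))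 (.node 1 (.one ⟨2349, 2, 4⟩) (.one ⟨1724, 1, 2⟩))))) (.node 8 (.node 4 (.node 2 (.node 1 (.one ⟨3700, 0, 6⟩) (.one ⟨701, 0, 4⟩)) (.node 1 (.one ⟨10935, 0, 3⟩) (.one ⟨10454, 2, 5⟩))) (.node 2 (.node 1 (.one ⟨12132, 0, 3⟩) (.one ⟨3224, 2, 2⟩)) (.node 1 (.one ⟨3279, 0, 3⟩) (.one ⟨15276, 0, 5⟩)))) (.node 4 (.node 2 (.node 1 (.one ⟨14512, 2, 7⟩) (.one ⟨10175, 0, 5⟩)) (.node 1 (.one ⟨11332, 0, 5⟩) (.one ⟨12558, 0, 4⟩))) (.node 2 (.node 1 (.one ⟨12865, 0, 5⟩) (.one ⟨10626, 2, 5⟩)) (.node 1 (.one ⟨3216, 2, 5⟩) (.one ⟨6532, 2, 5⟩)))))))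
def par9_7_3 : Arr Par :=
  (.node 32 (.node 16 (.node 8 (.node 4 (.node 2 (.node 1 (.one ⟨16566, 2, 5⟩) (.one ⟨4498, 2, 5⟩)) (.node 1 (.one ⟨4017, 0, 3⟩) (.one ⟨8208, 2, 3⟩))) (.node 2 (.node 1 (.one ⟨11594, 1, 2⟩) (.one ⟨2307, 2, 4⟩)) (.node 1 (.one ⟨13511, 0, 1⟩) (.one ⟨12519, 2, 7⟩)))) (.node 4 (.node 2 (.node 1 (.one ⟨782, 0, 3⟩) (.one ⟨16352, 2, 4⟩)) (.node 1 (.one ⟨16645, 0, 6⟩) (.one ⟨16223, 2, 3⟩))) (.node 2 (.node 1 (.one ⟨10188, 2, 3⟩) (.one ⟨12753, 0, 4⟩)) (.node 1 (.one ⟨14003, 2, 5⟩) (.one ⟨3306, 2, 4⟩))))) (.node 8 (.node 4 (.node 2 (.node 1 (.one ⟨1743, 2, 3⟩) (.one ⟨1211, 1, 1⟩)) (.node 1 (.one ⟨546, 2, 5⟩) (.one ⟨14370, 2, 6⟩))) (.node 2 (.node 1 (.one ⟨9493, 1, 1⟩) (.one ⟨14409, 2, 7⟩)) (.node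 1 (.one ⟨14845, 2, 6⟩) (.one ⟨17, 2, 7⟩)))) (.node 4 (.node 2 (.node 1 (.one ⟨2109, 2, 7⟩) (.one ⟨15734, 2, 3⟩)) (.node 1 (.one ⟨15625, 0, 3⟩) (.one ⟨5284, 1, 4⟩))) (.node 2 (.node 1 (.one ⟨12458, 1, 4⟩) (.one ⟨9381, 0, 6⟩)) (.node 1 (.one ⟨8336, 0, 6⟩) (.one ⟨1072, 0, 4⟩)))))) (.node 16 (.node 8 (.node 4 (.node 2 (.node 1 (.one ⟨14852, 2, 4⟩) (.one ⟨4528, 0, 3⟩)) (.node 1 (.one ⟨209, 2, 4⟩) (.one ⟨1967, 2, 5⟩))) (.node 2 (.node 1 (.one ⟨14967, 2, 6⟩) (.one ⟨14979, 2, 4⟩)) (.node 1 (.one ⟨8323, 1, 4⟩) (.one ⟨7967, 2, 7⟩)))) (.node 4 (.node 2 (.node 1 (.one ⟨4708, 2, 3⟩) (.one ⟨53, 1, 4⟩)) (.node 1 (.one ⟨6930, 2, 5⟩) (.one ⟨17160, 2, 5⟩))) (.node 2 (.node 1 (.one ⟨10436, 1, 2⟩) (.one ⟨11221, 2, 4⟩)) (.node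 1 (.one ⟨14534, 2, 4⟩) (.one ⟨7656, 2, 6⟩))))) (.node 8 (.node 4 (.node 2 (.node 1 (.one ⟨7658, 2, 3⟩) (.one ⟨6358, 2, 3⟩)) (.node 1 (.one ⟨6356, 2, 5⟩) (.one ⟨11054, 0, 4⟩))) (.node 2 (.node 1 (.one ⟨7655, 2, 3⟩) (.one ⟨11606, 0, 5⟩)) (.node 1 (.one ⟨4489, 0, 5⟩) (.one ⟨4066, 2, 6⟩)))) (.node 4 (.node 2 (.node 1 (.one ⟨15813, 0, 3⟩) (.one ⟨14833, 0, 6⟩)) (.node 1 (.one ⟨3787, 2, 5⟩) (.one ⟨2523, 2, 5⟩))) (.node 2 (.node 1 (.one ⟨1305, 2, 4⟩) (.one ⟨2586, 2, 4⟩)) (.node 1 (.one ⟨4565, 0, 6⟩) (.one ⟨8367, 2, 3⟩)))))))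
def par9_7_4 : Arr Par :=
  (.node 32 (.node 16 (.node 8 (.node 4 (.node 2 (.node 1 (.one ⟨3057, 0, 4⟩) (.one ⟨1233, 0, 4⟩)) (.node 1 (.one ⟨15837, 0, 3⟩) (.one ⟨16815, 2, 7⟩))) (.node 2 (.node 1 (.one ⟨7799, 1, 4⟩) (.one ⟨1097, 0, 3⟩)) (.node 1 (.one ⟨11442, 2, 5⟩) (.one ⟨13915, 1, 3⟩)))) (.node 4 (.node 2 (.node 1 (.one ⟨2930, 0, 4⟩) (.one ⟨4530, 0, 3⟩)) (.node 1 (.one ⟨7159, 0, 3⟩) (.one ⟨13189, 1, 2⟩))) (.node 2 (.node 1 (.one ⟨10594, 0, 2⟩) (.one ⟨5632, 2, 4⟩)) (.node 1 (.one ⟨1725, 1, 4⟩) (.one ⟨8199, 2, 6⟩))))) (.node 8 (.node 4 (.node 2 (.node 1 (.one ⟨15636, 1, 4⟩) (.one ⟨11546, 0, 5⟩)) (.node 1 (.one ⟨3044, 2, 4⟩) (.one ⟨11327, 0, 3⟩))) (.node 2 (.node 1 (.one ⟨8417, 2, 4⟩) (.one ⟨2590, 2, 4⟩)) (.node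 1 (.one ⟨5559, 2, 4⟩) (.one ⟨11618, 0, 4⟩)))) (.node 4 (.node 2 (.node 1 (.one ⟨4693, 2, 6⟩) (.one ⟨3278, 2, 3⟩)) (.node 1 (.one ⟨759, 0, 4⟩) (.one ⟨8447, 2, 3⟩))) (.node 2 (.node 1 (.one ⟨12975, 0, 3⟩) (.one ⟨3108, 0, 4⟩)) (.node 1 (.one ⟨7361, 2, 6⟩) (.one ⟨12822, 2, 4⟩)))))) (.node 16 (.node 8 (.node 4 (.node 2 (.node 1 (.one ⟨17042, 0, 4⟩) (.one ⟨2341, 2, 5⟩)) (.node 1 (.one ⟨7143, 2, 4⟩) (.one ⟨7338, 2, 4⟩))) (.node 2 (.node 1 (.one ⟨2243, 2, 5⟩) (.one ⟨17043, 0, 2⟩)) (.node 1 (.one ⟨17040, 0, 2⟩) (.one ⟨15466, 2, 6⟩)))) (.node 4 (.node 2 (.node 1 (.one ⟨6453, 2, 2⟩) (.one ⟨5187, 1, 0⟩)) (.node 1 (.one ⟨5627, 0, 5⟩) (.one ⟨16598, 2, 4⟩))) (.node 2 (.node 1 (.one ⟨7810, 2, 3⟩) (.one ⟨7434, 1, 4⟩)) (.node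 1 (.one ⟨12525, 2, 2⟩) (.one ⟨1563, 1, 1⟩))))) (.node 8 (.node 4 (.node 2 (.node 1 (.one ⟨14655, 2, 3⟩) (.one ⟨607, 1, 1⟩)) (.node 1 (.one ⟨14392, 2, 7⟩) (.one ⟨2257, 2, 4⟩))) (.node 2 (.node 1 (.one ⟨8167, 1, 1⟩) (.one ⟨2791, 2, 5⟩)) (.node 1 (.one ⟨3309, 2, 4⟩) (.one ⟨15426, 0, 4⟩)))) (.node 4 (.node 2 (.node 1 (.one ⟨6028, 2, 5⟩) (.one ⟨162, 0, 5⟩)) (.node 1 (.one ⟨7521, 0, 4⟩) (.one ⟨2269, 0, 3⟩))) (.node 2 (.node 1 (.one ⟨5999, 2, 3⟩) (.one ⟨14884, 0, 4⟩)) (.node 1 (.one ⟨10121, 2, 5⟩) (.one ⟨4778, 2, 5⟩)))))))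
def par9_7_5 : Arr Par :=
  (.node 32 (.node 16 (.node 8 (.node 4 (.node 2 (.node 1 (.one ⟨6568, 0, 3⟩) (.one ⟨10654, 0, 3⟩)) (.node 1 (.one ⟨4728, 2, 4⟩) (.one ⟨2513, 2, 5⟩))) (.node 2 (.node 1 (.one ⟨7869, 2, 6⟩) (.one ⟨7979, 2, 6⟩)) (.node 1 (.one ⟨2568, 2, 1⟩) (.one ⟨12082, 0, 4⟩)))) (.node 4 (.node 2 (.node 1 (.one ⟨2572, 2, 4⟩) (.one ⟨13221, 0, 4⟩)) (.node 1 (.one ⟨2512, 0, 3⟩) (.one ⟨8825, 2, 3⟩))) (.node 2 (.node 1 (.one ⟨14095, 2, 3⟩) (.one ⟨8557, 0, 6⟩)) (.node 1 (.one ⟨13673, 0, 4⟩) (.one ⟨15135, 0, 4⟩))))) (.node 8 (.node 4 (.node 2 (.node 1 (.one ⟨9684, 2, 4⟩) (.one ⟨1583, 2, 4⟩)) (.node 1 (.one ⟨9745, 2, 4⟩) (.one ⟨1321, 2, 5⟩))) (.node 2 (.node 1 (.one ⟨3204, 0, 3⟩) (.one ⟨611, 2, 1⟩)) (.node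 1 (.one ⟨12195, 0, 3⟩) (.one ⟨2401, 0, 4⟩)))) (.node 4 (.node 2 (.node 1 (.one ⟨6558, 2, 5⟩) (.one ⟨13818, 2, 4⟩)) (.node 1 (.one ⟨14013, 0, 6⟩) (.one ⟨10704, 2, 2⟩))) (.node 2 (.node 1 (.one ⟨13890, 2, 4⟩) (.one ⟨14014, 0, 2⟩)) (.node 1 (.one ⟨1651, 2, 4⟩) (.one ⟨5413, 2, 6⟩)))))) (.node 16 (.node 8 (.node 4 (.node 2 (.node 1 (.one ⟨14109, 1, 3⟩) (.one ⟨11472, 2, 3⟩)) (.node 1 (.one ⟨11251, 1, 5⟩) (.one ⟨3575, 2, 3⟩))) (.node 2 (.node 1 (.one ⟨2994, 0, 5⟩) (.one ⟨1436, 0, 5⟩)) (.node 1 (.one ⟨13839, 0, 5⟩) (.one ⟨15606, 2, 3⟩)))) (.node 4 (.node 2 (.node 1 (.one ⟨15846, 2, 3⟩) (.one ⟨14866, 2, 3⟩)) (.node 1 (.one ⟨16410, 2, 6⟩) (.one ⟨5303, 2, 3⟩))) (.node 2 (.node 1 (.one ⟨1735, 2, 3⟩) (.one ⟨4839, 2, 6⟩))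 (.node 1 (.one ⟨2567, 2, 4⟩) (.one ⟨14200, 0, 5⟩))))) (.node 8 (.node 4 (.node 2 (.node 1 (.one ⟨12582, 2, 5⟩) (.one ⟨6913, 2, 6⟩)) (.node 1 (.one ⟨15919, 2, 4⟩) (.one ⟨17034, 2, 5⟩))) (.node 2 (.node 1 (.one ⟨6368, 2, 1⟩) (.one ⟨998, 0, 4⟩)) (.node 1 (.one ⟨961, 2, 4⟩) (.one ⟨916, 2, 1⟩)))) (.node 4 (.node 2 (.node 1 (.one ⟨3922, 0, 5⟩) (.one ⟨12220, 0, 5⟩)) (.node 1 (.one ⟨9193, 0, 3⟩) (.one ⟨10678, 0, 3⟩))) (.node 2 (.node 1 (.one ⟨11581, 0, 4⟩) (.one ⟨475, 2, 5⟩)) (.node 1 (.one ⟨2423, 0, 5⟩) (.one ⟨6100, 0, 3⟩)))))))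
def par9_7_6 : Arr Par :=
  (.node 32 (.node 16 (.node 8 (.node 4 (.node 2 (.node 1 (.one ⟨15316, 2, 3⟩) (.one ⟨5182, 1, 2⟩)) (.node 1 (.one ⟨7700, 2, 2⟩) (.one ⟨13174, 2, 4⟩))) (.node 2 (.node 1 (.one ⟨10464, 1, 1⟩) (.one ⟨1683, 2, 5⟩)) (.node 1 (.one ⟨13153, 2, 5⟩) (.one ⟨2192, 1, 4⟩)))) (.node 4 (.node 2 (.node 1 (.one ⟨139, 0, 5⟩) (.one ⟨3685, 0, 6⟩)) (.node 1 (.one ⟨15424, 1, 4⟩) (.one ⟨10941, 0, 5⟩))) (.node 2 (.node 1 (.one ⟨14143, 2, 4⟩) (.one ⟨7957, 1, 4⟩)) (.node 1 (.one ⟨12706, 0, 3⟩) (.one ⟨8916, 2, 6⟩))))) (.node 8 (.node 4 (.node 2 (.node 1 (.one ⟨11442, 0, 5⟩) (.one ⟨16321, 2, 1⟩)) (.node 1 (.one ⟨6915, 0, 5⟩) (.one ⟨5266, 1, 0⟩))) (.node 2 (.node 1 (.one ⟨4565, 2, 6⟩) (.one ⟨17010, 0, 4⟩)) (.node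 1 (.one ⟨12570, 0, 4⟩) (.one ⟨2523, 0, 5⟩)))) (.node 4 (.node 2 (.node 1 (.one ⟨14353, 1, 4⟩) (.one ⟨4752, 1, 4⟩)) (.node 1 (.one ⟨1629, 1, 5⟩) (.one ⟨6555, 1, 6⟩))) (.node 2 (.node 1 (.one ⟨6356, 0, 5⟩) (.one ⟨9911, 1, 4⟩)) (.node 1 (.one ⟨14726, 2, 6⟩) (.one ⟨9157, 2, 5⟩)))))) (.node 16 (.node 8 (.node 4 (.node 2 (.node 1 (.one ⟨6156, 1, 2⟩) (.one ⟨12141, 2, 5⟩)) (.node 1 (.one ⟨12754, 2, 6⟩) (.one ⟨9555, 1, 2⟩))) (.node 2 (.node 1 (.one ⟨782, 2, 3⟩) (.one ⟨4706, 2, 3⟩)) (.node 1 (.one ⟨15633, 1, 2⟩) (.one ⟨6581, 2, 5⟩)))) (.node 4 (.node 2 (.node 1 (.one ⟨12202, 0, 4⟩) (.one ⟨8896, 0, 6⟩)) (.node 1 (.one ⟨14923, 2, 3⟩) (.one ⟨12270, 0, 5⟩))) (.node 2 (.node 1 (.one ⟨1006, 2, 4⟩) (.one ⟨2165, 0, 6⟩)) (.node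 1 (.one ⟨15987, 2, 2⟩) (.one ⟨4951, 2, 3⟩))))) (.node 8 (.node 4 (.node 2 (.node 1 (.one ⟨5903, 0, 1⟩) (.one ⟨8709, 0, 4⟩)) (.node 1 (.one ⟨13873, 0, 2⟩) (.one ⟨12572, 1, 5⟩))) (.node 2 (.node 1 (.one ⟨9538, 0, 2⟩) (.one ⟨4953, 2, 3⟩)) (.node 1 (.one ⟨200, 0, 3⟩) (.one ⟨1277, 2, 4⟩)))) (.node 4 (.node 2 (.node 1 (.one ⟨8560, 0, 4⟩) (.one ⟨1354, 2, 4⟩)) (.node 1 (.one ⟨13871, 2, 5⟩) (.one ⟨1462, 2, 5⟩))) (.node 2 (.node 1 (.one ⟨13922, 2, 5⟩) (.one ⟨1074, 2, 5⟩)) (.node 1 (.one ⟨13954, 2, 4⟩) (.one ⟨3781, 0, 6⟩)))))))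
def par9_7_7 : Arr Par :=
  (.node 32 (.node 16 (.node 8 (.node 4 (.node 2 (.node 1 (.one ⟨9568, 2, 2⟩) (.one ⟨7016, 0, 5⟩)) (.node 1 (.one ⟨12818, 2, 6⟩) (.one ⟨9542, 0, 5⟩))) (.node 2 (.node 1 (.one ⟨7929, 2, 3⟩) (.one ⟨16432, 0, 6⟩)) (.node 1 (.one ⟨8425, 0, 2⟩) (.one ⟨4594, 2, 4⟩)))) (.node 4 (.node 2 (.node 1 (.one ⟨2543, 2, 3⟩) (.one ⟨2238, 0, 5⟩)) (.node 1 (.one ⟨7551, 2, 4⟩) (.one ⟨6624, 2, 3⟩))) (.node 2 (.node 1 (.one ⟨8352, 2, 2⟩) (.one ⟨3754, 0, 6⟩)) (.node 1 (.one ⟨11477, 0, 5⟩) (.one ⟨5570, 2, 5⟩))))) (.node 8 (.node 4 (.node 2 (.node 1 (.one ⟨1398, 0, 5⟩) (.one ⟨3020, 2, 5⟩)) (.node 1 (.one ⟨582, 0, 1⟩) (.one ⟨5234, 2, 6⟩))) (.node 2 (.node 1 (.one ⟨9358, 0, 3⟩) (.one ⟨8358, 2, 6⟩)) (.node 1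 (.one ⟨2673, 2, 2⟩) (.one ⟨3983, 2, 6⟩)))) (.node 4 (.node 2 (.node 1 (.one ⟨11427, 2, 5⟩) (.one ⟨16934, 2, 5⟩)) (.node 1 (.one ⟨6419, 2, 5⟩) (.one ⟨4560, 0, 4⟩))) (.node 2 (.node 1 (.one ⟨16864, 1, 5⟩) (.one ⟨8791, 0, 2⟩)) (.node 1 (.one ⟨11789, 2, 7⟩) (.one ⟨2831, 1, 2⟩)))))) (.node 16 (.node 8 (.node 4 (.node 2 (.node 1 (.one ⟨16720, 2, 4⟩) (.one ⟨38, 0, 4⟩)) (.node 1 (.one ⟨13526, 2, 5⟩) (.one ⟨4907, 0, 5⟩))) (.node 2 (.node 1 (.one ⟨2447, 2, 4⟩) (.one ⟨12493, 2, 4⟩)) (.node 1 (.one ⟨480, 1, 2⟩) (.one ⟨6654, 0, 2⟩)))) (.node 4 (.node 2 (.node 1 (.one ⟨6912, 2, 5⟩) (.one ⟨6317, 0, 6⟩)) (.node 1 (.one ⟨14481, 0, 2⟩) (.one ⟨3246, 0, 6⟩))) (.node 2 (.node 1 (.one ⟨8988, 2, 7⟩) (.one ⟨3554, 2, 7⟩)) (.node 1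 (.one ⟨9865, 0, 4⟩) (.one ⟨7783, 2, 4⟩))))) (.node 8 (.node 4 (.node 2 (.node 1 (.one ⟨3611, 2, 5⟩) (.one ⟨6254, 0, 2⟩)) (.node 1 (.one ⟨11193, 2, 5⟩) (.one ⟨12844, 2, 2⟩))) (.node 2 (.node 1 (.one ⟨2596, 0, 3⟩) (.one ⟨2376, 2, 6⟩)) (.node 1 (.one ⟨6443, 2, 3⟩) (.one ⟨13189, 0, 2⟩)))) (.node 4 (.node 2 (.node 1 (.one ⟨12614, 2, 3⟩) (.one ⟨3203, 0, 3⟩)) (.node 1 (.one ⟨10046, 0, 4⟩) (.one ⟨11747, 2, 4⟩))) (.node 2 (.node 1 (.one ⟨5982, 0, 6⟩) (.one ⟨12072, 2, 6⟩)) (.node 1 (.one ⟨15961, 0, 4⟩) (.one ⟨7758, 2, 5⟩)))))))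
def par9_7_8 : Arr Par :=
  (.node 32 (.node 16 (.node 8 (.node 4 (.node 2 (.node 1 (.one ⟨9306, 0, 1⟩) (.one ⟨3903, 2, 7⟩)) (.node 1 (.one ⟨1208, 0, 1⟩) (.one ⟨13525, 2, 7⟩))) (.node 2 (.node 1 (.one ⟨15564, 2, 4⟩) (.one ⟨16680, 2, 3⟩)) (.node 1 (.one ⟨11060, 2, 4⟩) (.one ⟨5619, 1, 1⟩)))) (.node 4 (.node 2 (.node 1 (.one ⟨10522, 2, 6⟩) (.one ⟨4725, 0, 4⟩)) (.node 1 (.one ⟨12075, 2, 5⟩) (.one ⟨1906, 2, 1⟩))) (.node 2 (.node 1 (.one ⟨16811, 2, 6⟩) (.one ⟨3781, 2, 6⟩)) (.node 1 (.one ⟨89, 1, 5⟩) (.one ⟨2796, 2, 6⟩))))) (.node 8 (.node 4 (.node 2 (.node 1 (.one ⟨1202, 1, 1⟩) (.one ⟨4232, 0, 1⟩)) (.node 1 (.one ⟨551, 2, 6⟩) (.one ⟨13644, 2, 2⟩))) (.node 2 (.node 1 (.one ⟨9186, 1, 1⟩) (.one ⟨5554, 2, 7⟩)) (.node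 1 (.one ⟨14846, 2, 6⟩) (.one ⟨2409, 2, 5⟩)))) (.node 4 (.node 2 (.node 1 (.one ⟨2872, 2, 4⟩) (.one ⟨16497, 0, 4⟩)) (.node 1 (.one ⟨1274, 0, 4⟩) (.one ⟨5430, 1, 0⟩))) (.node 2 (.node 1 (.one ⟨8703, 0, 4⟩) (.one ⟨59, 2, 5⟩)) (.node 1 (.one ⟨3392, 2, 4⟩) (.one ⟨2635, 2, 5⟩)))))) (.node 16 (.node 8 (.node 4 (.node 2 (.node 1 (.one ⟨9963, 2, 5⟩) (.one ⟨4809, 1, 4⟩)) (.node 1 (.one ⟨7088, 2, 5⟩) (.one ⟨445, 2, 1⟩))) (.node 2 (.node 1 (.one ⟨10424, 1, 4⟩) (.one ⟨15597, 2, 4⟩)) (.node 1 (.one ⟨17008, 1, 4⟩) (.one ⟨2636, 2, 3⟩)))) (.node 4 (.node 2 (.node 1 (.one ⟨14141, 2, 3⟩) (.one ⟨13347, 0, 5⟩)) (.node 1 (.one ⟨14302, 2, 4⟩) (.one ⟨16397, 1, 1⟩))) (.node 2 (.node 1 (.one ⟨14365, 2, 3⟩) (.one ⟨2668, 2, 3⟩)) (.node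 1 (.one ⟨14174, 2, 5⟩) (.one ⟨10566, 0, 3⟩))))) (.node 8 (.node 4 (.node 2 (.node 1 (.one ⟨5058, 1, 0⟩) (.one ⟨15347, 0, 3⟩)) (.node 1 (.one ⟨205, 0, 6⟩) (.one ⟨4856, 2, 6⟩))) (.node 2 (.node 1 (.one ⟨8382, 2, 4⟩) (.one ⟨11031, 2, 3⟩)) (.node 1 (.one ⟨2586, 0, 4⟩) (.one ⟨5319, 1, 0⟩)))) (.node 4 (.node 2 (.node 1 (.one ⟨13531, 0, 4⟩) (.one ⟨11941, 0, 4⟩)) (.node 1 (.one ⟨11132, 0, 4⟩) (.one ⟨7904, 2, 2⟩))) (.node 2 (.node 1 (.one ⟨3888, 0, 4⟩) (.one ⟨4559, 0, 2⟩)) (.node 1 (.one ⟨149, 0, 4⟩) (.one ⟨16316, 2, 5⟩)))))))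
def par9_7_9 : Arr Par :=
  (.node 32 (.node 16 (.node 8 (.node 4 (.node 2 (.node 1 (.one ⟨801, 2, 6⟩) (.one ⟨16326, 2, 4⟩)) (.node 1 (.one ⟨1293, 2, 1⟩) (.one ⟨3523, 1, 3⟩))) (.node 2 (.node 1 (.one ⟨3650, 2, 4⟩) (.one ⟨7162, 1, 4⟩)) (.node 1 (.one ⟨1896, 0, 4⟩) (.one ⟨15487, 2, 4⟩)))) (.node 4 (.node 2 (.node 1 (.one ⟨17151, 1, 6⟩) (.one ⟨4850, 2, 5⟩)) (.node 1 (.one ⟨4948, 2, 4⟩) (.one ⟨10631, 2, 4⟩))) (.node 2 (.node 1 (.one ⟨10439, 2, 6⟩) (.one ⟨7966, 2, 5⟩)) (.node 1 (.one ⟨7777, 2, 4⟩) (.one ⟨13298, 0, 3⟩))))) (.node 8 (.node 4 (.node 2 (.node 1 (.one ⟨179, 2, 5⟩) (.one ⟨8615, 0, 3⟩)) (.node 1 (.one ⟨13296, 0, 2⟩) (.one ⟨6592, 2, 6⟩))) (.node 2 (.node 1 (.one ⟨7319, 2, 4⟩) (.one ⟨14408, 2, 1⟩)) (.node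 1 (.one ⟨8622, 0, 5⟩) (.one ⟨10365, 2, 3⟩)))) (.node 4 (.node 2 (.node 1 (.one ⟨11525, 0, 3⟩) (.one ⟨12161, 2, 3⟩)) (.node 1 (.one ⟨3355, 1, 2⟩) (.one ⟨3009, 2, 6⟩))) (.node 2 (.node 1 (.one ⟨13264, 2, 6⟩) (.one ⟨4950, 2, 5⟩)) (.node 1 (.one ⟨11299, 2, 3⟩) (.one ⟨6109, 0, 6⟩)))))) (.node 16 (.node 8 (.node 4 (.node 2 (.node 1 (.one ⟨11560, 1, 4⟩) (.one ⟨1555, 0, 3⟩)) (.node 1 (.one ⟨16317, 2, 3⟩) (.one ⟨14451, 0, 6⟩))) (.node 2 (.node 1 (.one ⟨12597, 0, 2⟩) (.one ⟨10581, 0, 6⟩)) (.node 1 (.one ⟨14414, 2, 5⟩) (.one ⟨4105, 2, 3⟩)))) (.node 4 (.node 2 (.node 1 (.one ⟨11453, 1, 6⟩) (.one ⟨15144, 0, 4⟩)) (.node 1 (.one ⟨6975, 0, 4⟩) (.one ⟨8231, 2, 5⟩))) (.node 2 (.node 1 (.one ⟨7989, 2, 5⟩) (.one ⟨2605, 2, 4⟩))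 (.node 1 (.one ⟨746, 2, 4⟩) (.one ⟨9500, 2, 3⟩))))) (.node 8 (.node 4 (.node 2 (.node 1 (.one ⟨10274, 0, 6⟩) (.one ⟨5457, 2, 5⟩)) (.node 1 (.one ⟨9377, 2, 4⟩) (.one ⟨3730, 1, 6⟩))) (.node 2 (.node 1 (.one ⟨9191, 2, 4⟩) (.one ⟨9295, 2, 5⟩)) (.node 1 (.one ⟨5449, 2, 4⟩) (.one ⟨11460, 1, 3⟩)))) (.node 4 (.node 2 (.node 1 (.one ⟨1997, 0, 3⟩) (.one ⟨7994, 2, 6⟩)) (.node 1 (.one ⟨6034, 0, 5⟩) (.one ⟨11846, 2, 5⟩))) (.node 2 (.node 1 (.one ⟨15477, 0, 5⟩) (.one ⟨16007, 0, 4⟩)) (.node 1 (.one ⟨11242, 0, 2⟩) (.one ⟨3286, 0, 4⟩)))))))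
def par9_7_10 : Arr Par :=
  (.node 32 (.node 16 (.node 8 (.node 4 (.node 2 (.node 1 (.one ⟨5892, 2, 5⟩) (.one ⟨2039, 2, 2⟩)) (.node 1 (.one ⟨9425, 2, 2⟩) (.one ⟨3683, 0, 5⟩))) (.node 2 (.node 1 (.one ⟨15182, 0, 4⟩) (.one ⟨13996, 0, 4⟩)) (.node 1 (.one ⟨5493, 0, 4⟩) (.one ⟨3022, 2, 6⟩)))) (.node 4 (.node 2 (.node 1 (.one ⟨3476, 2, 4⟩) (.one ⟨799, 2, 3⟩)) (.node 1 (.one ⟨12255, 0, 1⟩) (.one ⟨8185, 2, 4⟩))) (.node 2 (.node 1 (.one ⟨5631, 0, 5⟩) (.one ⟨10607, 0, 4⟩)) (.node 1 (.one ⟨12088, 0, 5⟩) (.one ⟨13587, 0, 6⟩))))) (.node 8 (.node 4 (.node 2 (.node 1 (.one ⟨4933, 0, 4⟩) (.one ⟨11877, 2, 5⟩)) (.node 1 (.one ⟨8108, 2, 3⟩) (.one ⟨4613, 0, 4⟩))) (.node 2 (.node 1 (.one ⟨13283, 0, 4⟩) (.one ⟨8414, 2, 5⟩)) (.node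 1 (.one ⟨9826, 0, 4⟩) (.one ⟨12967, 0, 5⟩)))) (.node 4 (.node 2 (.node 1 (.one ⟨1319, 2, 6⟩) (.one ⟨2236, 2, 3⟩)) (.node 1 (.one ⟨4567, 2, 4⟩) (.one ⟨5708, 0, 6⟩))) (.node 2 (.node 1 (.one ⟨5063, 2, 3⟩) (.one ⟨4636, 2, 2⟩)) (.node 1 (.one ⟨2361, 1, 3⟩) (.one ⟨14320, 2, 3⟩)))))) (.node 16 (.node 8 (.node 4 (.node 2 (.node 1 (.one ⟨7723, 2, 2⟩) (.one ⟨6578, 0, 5⟩)) (.node 1 (.one ⟨1872, 0, 2⟩) (.one ⟨6906, 0, 4⟩))) (.node 2 (.node 1 (.one ⟨10643, 2, 5⟩) (.one ⟨16216, 2, 5⟩)) (.node 1 (.one ⟨5912, 2, 4⟩) (.one ⟨10564, 0, 3⟩)))) (.node 4 (.node 2 (.node 1 (.one ⟨16591, 2, 3⟩) (.one ⟨5106, 0, 2⟩)) (.node 1 (.one ⟨13873, 2, 2⟩) (.one ⟨15467, 2, 4⟩))) (.node 2 (.node 1 (.one ⟨3266, 2, 5⟩) (.one ⟨16414, 2, 2⟩)) (.node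 1 (.one ⟨4319, 2, 4⟩) (.one ⟨5089, 2, 4⟩))))) (.node 8 (.node 4 (.node 2 (.node 1 (.one ⟨401, 2, 3⟩) (.one ⟨7697, 0, 2⟩)) (.node 1 (.one ⟨15786, 0, 4⟩) (.one ⟨2039, 0, 2⟩))) (.node 2 (.node 1 (.one ⟨16882, 1, 5⟩) (.one ⟨11460, 2, 3⟩)) (.node 1 (.one ⟨11900, 2, 5⟩) (.one ⟨11048, 2, 6⟩)))) (.node 4 (.node 2 (.node 1 (.one ⟨10519, 2, 6⟩) (.one ⟨10709, 0, 2⟩)) (.node 1 (.one ⟨6059, 0, 4⟩) (.one ⟨10551, 2, 5⟩))) (.node 2 (.node 1 (.one ⟨15405, 1, 6⟩) (.one ⟨3496, 2, 5⟩)) (.node 1 (.one ⟨2511, 0, 2⟩) (.one ⟨11897, 2, 4⟩)))))))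
def par9_7_11 : Arr Par :=
  (.node 32 (.node 16 (.node 8 (.node 4 (.node 2 (.node 1 (.one ⟨7908, 2, 2⟩) (.one ⟨16495, 0, 4⟩)) (.node 1 (.one ⟨7473, 0, 2⟩) (.one ⟨12892, 2, 3⟩))) (.node 2 (.node 1 (.one ⟨8449, 2, 5⟩) (.one ⟨819, 2, 4⟩)) (.node 1 (.one ⟨12338, 0, 4⟩) (.one ⟨7960, 2, 6⟩)))) (.node 4 (.node 2 (.node 1 (.one ⟨6809, 0, 2⟩) (.one ⟨10051, 2, 4⟩)) (.node 1 (.one ⟨15875, 2, 4⟩) (.one ⟨15550, 2, 5⟩))) (.node 2 (.node 1 (.one ⟨7953, 0, 6⟩) (.one ⟨5543, 2, 5⟩)) (.node 1 (.one ⟨7431, 2, 4⟩) (.one ⟨1920, 2, 3⟩))))) (.node 8 (.node 4 (.node 2 (.node 1 (.one ⟨8473, 2, 2⟩) (.one ⟨14829, 2, 4⟩)) (.node 1 (.one ⟨8628, 0, 4⟩) (.one ⟨455, 2, 3⟩))) (.node 2 (.node 1 (.one ⟨8602, 2, 6⟩) (.one ⟨5696, 0, 1⟩)) (.node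 1 (.one ⟨9774, 0, 3⟩) (.one ⟨7017, 0, 5⟩)))) (.node 4 (.node 2 (.node 1 (.one ⟨6121, 2, 5⟩) (.one ⟨12933, 2, 4⟩)) (.node 1 (.one ⟨6318, 2, 4⟩) (.one ⟨13541, 2, 7⟩))) (.node 2 (.node 1 (.one ⟨5997, 2, 4⟩) (.one ⟨12690, 2, 5⟩)) (.node 1 (.one ⟨4787, 1, 5⟩) (.one ⟨1490, 2, 2⟩)))))) (.node 16 (.node 8 (.node 4 (.node 2 (.node 1 (.one ⟨9324, 2, 1⟩) (.one ⟨7082, 2, 6⟩)) (.node 1 (.one ⟨15107, 2, 6⟩) (.one ⟨9482, 2, 2⟩))) (.node 2 (.node 1 (.one ⟨604, 2, 1⟩) (.one ⟨16621, 0, 5⟩)) (.node 1 (.one ⟨7028, 2, 6⟩) (.one ⟨8328, 2, 4⟩)))) (.node 4 (.node 2 (.node 1 (.one ⟨11167, 2, 5⟩) (.one ⟨14430, 2, 7⟩)) (.node 1 (.one ⟨4661, 2, 5⟩) (.one ⟨8019, 0, 5⟩))) (.node 2 (.node 1 (.one ⟨6119, 2, 4⟩) (.one ⟨930, 0, 5⟩)) (.node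 1 (.one ⟨15740, 2, 4⟩) (.one ⟨15803, 0, 5⟩))))) (.node 8 (.node 4 (.node 2 (.node 1 (.one ⟨9574, 2, 4⟩) (.one ⟨11675, 1, 3⟩)) (.node 1 (.one ⟨2377, 2, 4⟩) (.one ⟨4146, 2, 4⟩))) (.node 2 (.node 1 (.one ⟨14684, 0, 3⟩) (.one ⟨11941, 2, 4⟩)) (.node 1 (.one ⟨1422, 0, 3⟩) (.one ⟨9237, 0, 3⟩)))) (.node 4 (.node 2 (.node 1 (.one ⟨9704, 0, 3⟩) (.one ⟨10354, 1, 2⟩)) (.node 1 (.one ⟨15311, 0, 4⟩) (.one ⟨574, 2, 4⟩))) (.node 2 (.node 1 (.one ⟨447, 0, 4⟩) (.one ⟨7215, 0, 3⟩)) (.node 1 (.one ⟨9856, 2, 5⟩) (.one ⟨9360, 2, 2⟩)))))))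
def par9_7_12 : Arr Par :=
  (.node 32 (.node 16 (.node 8 (.node 4 (.node 2 (.node 1 (.one ⟨7403, 2, 6⟩) (.one ⟨1498, 2, 2⟩)) (.node 1 (.one ⟨15451, 2, 6⟩) (.one ⟨14044, 1, 3⟩))) (.node 2 (.node 1 (.one ⟨1528, 2, 2⟩) (.one ⟨12955, 1, 3⟩)) (.node 1 (.one ⟨9472, 2, 2⟩) (.one ⟨12346, 2, 4⟩)))) (.node 4 (.node 2 (.node 1 (.one ⟨2371, 1, 3⟩) (.one ⟨10247, 1, 3⟩)) (.node 1 (.one ⟨14704, 2, 4⟩) (.one ⟨1353, 0, 3⟩))) (.node 2 (.node 1 (.one ⟨1686, 2, 4⟩) (.one ⟨9121, 2, 4⟩)) (.node 1 (.one ⟨868, 1, 3⟩) (.one ⟨12778, 2, 6⟩))))) (.node 8 (.node 4 (.node 2 (.node 1 (.one ⟨14218, 2, 5⟩) (.one ⟨3267, 2, 5⟩)) (.node 1 (.one ⟨344, 0, 3⟩) (.one ⟨7435, 2, 3⟩))) (.node 2 (.node 1 (.one ⟨4896, 0, 4⟩) (.one ⟨8069, 0, 3⟩)) (.node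 1 (.one ⟨10047, 2, 4⟩) (.one ⟨917, 2, 2⟩)))) (.node 4 (.node 2 (.node 1 (.one ⟨12832, 2, 5⟩) (.one ⟨5568, 2, 3⟩)) (.node 1 (.one ⟨16557, 2, 2⟩) (.one ⟨13543, 0, 4⟩))) (.node 2 (.node 1 (.one ⟨2404, 2, 2⟩) (.one ⟨17043, 2, 2⟩)) (.node 1 (.one ⟨1213, 0, 4⟩) (.one ⟨14013, 2, 6⟩)))))) (.node 16 (.node 8 (.node 4 (.node 2 (.node 1 (.one ⟨13225, 2, 2⟩) (.one ⟨17187, 0, 5⟩)) (.node 1 (.one ⟨5774, 0, 3⟩) (.one ⟨5864, 0, 3⟩))) (.node 2 (.node 1 (.one ⟨17074, 0, 3⟩) (.one ⟨4974, 2, 2⟩)) (.node 1 (.one ⟨15456, 1, 6⟩) (.one ⟨1569, 1, 3⟩)))) (.node 4 (.node 2 (.node 1 (.one ⟨11876, 0, 2⟩) (.one ⟨13701, 0, 3⟩)) (.node 1 (.one ⟨11452, 1, 6⟩) (.one ⟨7057, 2, 5⟩))) (.node 2 (.node 1 (.one ⟨6351, 1, 1⟩) (.one ⟨14940, 1, 6⟩))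 (.node 1 (.one ⟨8039, 2, 4⟩) (.one ⟨16167, 2, 4⟩))))) (.node 8 (.node 4 (.node 2 (.node 1 (.one ⟨2619, 2, 3⟩) (.one ⟨16397, 2, 1⟩)) (.node 1 (.one ⟨1881, 2, 4⟩) (.one ⟨4947, 1, 0⟩))) (.node 2 (.node 1 (.one ⟨3225, 0, 2⟩) (.one ⟨14942, 0, 4⟩)) (.node 1 (.one ⟨12012, 0, 5⟩) (.one ⟨4576, 2, 6⟩)))) (.node 4 (.node 2 (.node 1 (.one ⟨3259, 2, 6⟩) (.one ⟨3257, 2, 4⟩)) (.node 1 (.one ⟨4581, 2, 5⟩) (.one ⟨3388, 0, 6⟩))) (.node 2 (.node 1 (.one ⟨3261, 2, 2⟩) (.one ⟨3255, 2, 6⟩)) (.node 1 (.one ⟨4580, 2, 4⟩) (.one ⟨3086, 0, 5⟩)))))))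
def par9_7_13 : Arr Par :=
  (.node 32 (.node 16 (.node 8 (.node 4 (.node 2 (.node 1 (.one ⟨3649, 2, 4⟩) (.one ⟨2021, 1, 4⟩)) (.node 1 (.one ⟨11141, 2, 4⟩) (.one ⟨13253, 2, 4⟩))) (.node 2 (.node 1 (.one ⟨8614, 2, 5⟩) (.one ⟨2345, 2, 6⟩)) (.node 1 (.one ⟨14136, 2, 4⟩) (.one ⟨8322, 2, 3⟩)))) (.node 4 (.node 2 (.node 1 (.one ⟨16096, 2, 4⟩) (.one ⟨14952, 0, 4⟩)) (.node 1 (.one ⟨16217, 2, 5⟩) (.one ⟨2505, 0, 4⟩))) (.node 2 (.node 1 (.one ⟨12583, 2, 3⟩) (.one ⟨3893, 2, 6⟩)) (.node 1 (.one ⟨8194, 0, 5⟩) (.one ⟨7134, 2, 5⟩))))) (.node 8 (.node 4 (.node 2 (.node 1 (.one ⟨1100, 2, 5⟩) (.one ⟨5963, 0, 5⟩)) (.node 1 (.one ⟨8564, 2, 5⟩) (.one ⟨831, 0, 4⟩))) (.node 2 (.node 1 (.one ⟨3950, 2, 4⟩) (.one ⟨12872, 0, 4⟩)) (.node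 1 (.one ⟨7502, 2, 5⟩) (.one ⟨2947, 0, 5⟩)))) (.node 4 (.node 2 (.node 1 (.one ⟨4909, 0, 5⟩) (.one ⟨7682, 1, 2⟩)) (.node 1 (.one ⟨612, 2, 5⟩) (.one ⟨3460, 1, 5⟩))) (.node 2 (.node 1 (.one ⟨11551, 2, 4⟩) (.one ⟨13814, 2, 3⟩)) (.node 1 (.one ⟨10196, 2, 5⟩) (.one ⟨17119, 2, 4⟩)))))) (.node 16 (.node 8 (.node 4 (.node 2 (.node 1 (.one ⟨10610, 0, 4⟩) (.one ⟨4494, 0, 4⟩)) (.node 1 (.one ⟨15138, 2, 3⟩) (.one ⟨11906, 0, 4⟩))) (.node 2 (.node 1 (.one ⟨6656, 2, 3⟩) (.one ⟨8904, 2, 3⟩)) (.node 1 (.one ⟨10116, 2, 3⟩) (.one ⟨10248, 2, 3⟩)))) (.node 4 (.node 2 (.node 1 (.one ⟨8207, 2, 4⟩) (.one ⟨15920, 0, 5⟩)) (.node 1 (.one ⟨4938, 2, 6⟩) (.one ⟨14810, 2, 4⟩))) (.node 2 (.node 1 (.one ⟨5450, 2, 4⟩) (.one ⟨10615, 2, 5⟩)) (.node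 1 (.one ⟨1582, 1, 2⟩) (.one ⟨5567, 2, 3⟩))))) (.node 8 (.node 4 (.node 2 (.node 1 (.one ⟨13639, 2, 4⟩) (.one ⟨14373, 2, 6⟩)) (.node 1 (.one ⟨1207, 1, 1⟩) (.one ⟨5079, 1, 5⟩))) (.node 2 (.node 1 (.one ⟨9180, 2, 7⟩) (.one ⟨10327, 2, 7⟩)) (.node 1 (.one ⟨2258, 2, 4⟩) (.one ⟨12559, 2, 4⟩)))) (.node 4 (.node 2 (.node 1 (.one ⟨394, 0, 1⟩) (.one ⟨630, 0, 5⟩)) (.node 1 (.one ⟨3905, 2, 6⟩) (.one ⟨8140, 2, 4⟩))) (.node 2 (.node 1 (.one ⟨4462, 2, 4⟩) (.one ⟨851, 0, 4⟩)) (.node 1 (.one ⟨889, 1, 2⟩) (.one ⟨1641, 2, 3⟩)))))))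
def par9_7_14 : Arr Par :=
  (.node 32 (.node 16 (.node 8 (.node 4 (.node 2 (.node 1 (.one ⟨13091, 2, 5⟩) (.one ⟨4878, 0, 4⟩)) (.node 1 (.one ⟨11197, 2, 5⟩) (.one ⟨16568, 2, 3⟩))) (.node 2 (.node 1 (.one ⟨5598, 2, 6⟩) (.one ⟨2653, 0, 2⟩)) (.node 1 (.one ⟨16377, 1, 2⟩) (.one ⟨8366, 1, 6⟩)))) (.node 4 (.node 2 (.node 1 (.one ⟨14851, 2, 3⟩) (.one ⟨312, 2, 3⟩)) (.node 1 (.one ⟨6627, 1, 4⟩) (.one ⟨5122, 2, 4⟩))) (.node 2 (.node 1 (.one ⟨12802, 0, 2⟩) (.one ⟨10483, 0, 2⟩)) (.node 1 (.one ⟨16299, 2, 5⟩) (.one ⟨1387, 1, 1⟩))))) (.node 8 (.node 4 (.node 2 (.node 1 (.one ⟨14539, 2, 5⟩) (.one ⟨13795, 1, 4⟩)) (.node 1 (.one ⟨11311, 2, 4⟩) (.one ⟨1540, 0, 4⟩))) (.node 2 (.node 1 (.one ⟨13924, 2, 5⟩) (.one ⟨7154, 1, 4⟩))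 (.node 1 (.one ⟨10994, 2, 4⟩) (.one ⟨9175, 2, 3⟩)))) (.node 4 (.node 2 (.node 1 (.one ⟨9092, 2, 6⟩) (.one ⟨77, 2, 1⟩)) (.node 1 (.one ⟨17165, 2, 5⟩) (.one ⟨9105, 2, 6⟩))) (.node 2 (.node 1 (.one ⟨9611, 2, 3⟩) (.one ⟨17176, 2, 5⟩)) (.node 1 (.one ⟨5766, 1, 5⟩) (.one ⟨891, 2, 7⟩)))))) (.node 16 (.node 8 (.node 4 (.node 2 (.node 1 (.one ⟨9502, 0, 1⟩) (.one ⟨7489, 2, 4⟩)) (.node 1 (.one ⟨16121, 2, 7⟩) (.one ⟨9609, 2, 6⟩))) (.node 2 (.node 1 (.one ⟨5233, 2, 6⟩) (.one ⟨15581, 2, 5⟩)) (.node 1 (.one ⟨588, 0, 3⟩) (.one ⟨15213, 2, 6⟩)))) (.node 4 (.node 2 (.node 1 (.one ⟨9251, 2, 6⟩) (.one ⟨3269, 2, 6⟩)) (.node 1 (.one ⟨5697, 2, 3⟩) (.one ⟨8689, 2, 4⟩))) (.node 2 (.node 1 (.one ⟨14230, 0, 2⟩) (.one ⟨13058, 2, 6⟩)) (.node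 1 (.one ⟨16394, 2, 3⟩) (.one ⟨12942, 0, 6⟩))))) (.node 8 (.node 4 (.node 2 (.node 1 (.one ⟨9496, 2, 4⟩) (.one ⟨1561, 2, 5⟩)) (.node 1 (.one ⟨5076, 2, 3⟩) (.one ⟨1204, 2, 4⟩))) (.node 2 (.node 1 (.one ⟨5049, 2, 4⟩) (.one ⟨103, 0, 6⟩)) (.node 1 (.one ⟨9299, 2, 5⟩) (.one ⟨8493, 2, 7⟩)))) (.node 4 (.node 2 (.node 1 (.one ⟨3790, 2, 4⟩) (.one ⟨649, 0, 3⟩)) (.node 1 (.one ⟨787, 2, 5⟩) (.one ⟨11973, 1, 3⟩))) (.node 2 (.node 1 (.one ⟨15969, 2, 6⟩) (.one ⟨10961, 2, 2⟩)) (.node 1 (.one ⟨13910, 2, 4⟩) (.one ⟨6925, 2, 4⟩)))))))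
def par9_7_15 : Arr Par :=
  (.node 32 (.node 16 (.node 8 (.node 4 (.node 2 (.node 1 (.one ⟨591, 0, 6⟩) (.one ⟨1472, 0, 6⟩)) (.node 1 (.one ⟨15992, 2, 4⟩) (.one ⟨15796, 0, 6⟩))) (.node 2 (.node 1 (.one ⟨16681, 2, 6⟩) (.one ⟨16220, 1, 3⟩)) (.node 1 (.one ⟨16655, 2, 2⟩) (.one ⟨14660, 1, 3⟩)))) (.node 4 (.node 2 (.node 1 (.one ⟨13839, 2, 5⟩) (.one ⟨9363, 1, 4⟩)) (.node 1 (.one ⟨10678, 2, 3⟩) (.one ⟨15332, 2, 4⟩))) (.node 2 (.node 1 (.one ⟨9318, 1, 3⟩) (.one ⟨9014, 0, 4⟩)) (.node 1 (.one ⟨15892, 0, 2⟩) (.one ⟨12980, 2, 4⟩))))) (.node 8 (.node 4 (.node 2 (.node 1 (.one ⟨12621, 2, 4⟩) (.one ⟨5143, 2, 3⟩)) (.node 1 (.one ⟨5385, 2, 3⟩) (.one ⟨10406, 2, 4⟩))) (.node 2 (.node 1 (.one ⟨10644, 2, 4⟩) (.one ⟨16938, 0, 6⟩))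 (.node 1 (.one ⟨1176, 2, 3⟩) (.one ⟨7371, 2, 4⟩)))) (.node 4 (.node 2 (.node 1 (.one ⟨2749, 0, 6⟩) (.one ⟨16447, 0, 4⟩)) (.node 1 (.one ⟨1032, 2, 3⟩) (.one ⟨9841, 2, 6⟩))) (.node 2 (.node 1 (.one ⟨14483, 0, 4⟩) (.one ⟨4004, 0, 4⟩)) (.node 1 (.one ⟨1878, 0, 3⟩) (.one ⟨12025, 2, 2⟩)))))) (.node 16 (.node 8 (.node 4 (.node 2 (.node 1 (.one ⟨15310, 0, 5⟩) (.one ⟨8533, 2, 5⟩)) (.node 1 (.one ⟨5548, 2, 2⟩) (.one ⟨10391, 2, 4⟩))) (.node 2 (.node 1 (.one ⟨16635, 0, 4⟩) (.one ⟨6939, 2, 2⟩)) (.node 1 (.one ⟨3469, 2, 4⟩) (.one ⟨4854, 1, 0⟩)))) (.node 4 (.node 2 (.node 1 (.one ⟨6793, 1, 3⟩) (.one ⟨3280, 0, 2⟩)) (.node 1 (.one ⟨684, 0, 3⟩) (.one ⟨7170, 1, 3⟩))) (.node 2 (.node 1 (.one ⟨1296, 0, 2⟩) (.one ⟨15761, 1, 5⟩))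 (.node 1 (.one ⟨3457, 2, 3⟩) (.one ⟨13903, 2, 2⟩))))) (.node 8 (.node 4 (.node 2 (.node 1 (.one ⟨7128, 0, 5⟩) (.one ⟨2831, 2, 2⟩)) (.node 1 (.one ⟨1171, 0, 4⟩) (.one ⟨12308, 0, 5⟩))) (.node 2 (.node 1 (.one ⟨11975, 2, 5⟩) (.one ⟨13327, 2, 7⟩)) (.node 1 (.one ⟨8822, 2, 2⟩) (.one ⟨14181, 0, 3⟩)))) (.node 4 (.node 2 (.node 1 (.one ⟨256, 0, 4⟩) (.one ⟨6544, 2, 3⟩)) (.node 1 (.one ⟨9979, 0, 3⟩) (.one ⟨15590, 0, 4⟩))) (.node 2 (.node 1 (.one ⟨3249, 0, 4⟩) (.one ⟨12219, 1, 6⟩)) (.node 1 (.one ⟨11508, 0, 4⟩) (.one ⟨13345, 1, 2⟩)))))))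
def par9_7 : Arr Par :=
  (.node 512 (.node 256 (.node 128 (.node 64 par9_7_0 par9_7_1) (.node 64 par9_7_2 par9_7_3)) (.node 128 (.node 64 par9_7_4 par9_7_5) (.node 64 par9_7_6 par9_7_7))) (.node 256 (.node 128 (.node 64 par9_7_8 par9_7_9) (.node 64 par9_7_10 par9_7_11)) (.node 128 (.node 64 par9_7_12 par9_7_13) (.node 64 par9_7_14 par9_7_15))))
def par9_8_0 : Arr Par :=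
  (.node 32 (.node 16 (.node 8 (.node 4 (.node 2 (.node 1 (.one ⟨13834, 1, 6⟩) (.one ⟨12510, 2, 4⟩)) (.node 1 (.one ⟨8826, 0, 4⟩) (.one ⟨14101, 0, 4⟩))) (.node 2 (.node 1 (.one ⟨523, 2, 4⟩) (.one ⟨10927, 0, 4⟩)) (.node 1 (.one ⟨2524, 2, 4⟩) (.one ⟨13072, 0, 5⟩)))) (.node 4 (.node 2 (.node 1 (.one ⟨15006, 2, 6⟩) (.one ⟨9448, 0, 3⟩)) (.node 1 (.one ⟨8737, 2, 5⟩) (.one ⟨8195, 2, 5⟩))) (.node 2 (.node 1 (.one ⟨3974, 2, 4⟩) (.one ⟨9612, 0, 3⟩)) (.node 1 (.one ⟨1330, 0, 3⟩) (.one ⟨14558, 2, 3⟩))))) (.node 8 (.node 4 (.node 2 (.node 1 (.one ⟨4175, 1, 2⟩) (.one ⟨13252, 2, 3⟩)) (.node 1 (.one ⟨5803, 0, 4⟩) (.one ⟨4243, 1, 4⟩))) (.node 2 (.node 1 (.one ⟨4288, 0, 4⟩) (.one ⟨12260, 1, 4⟩)) (.node 1 (.one ⟨14177, 2, 5⟩)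 (.one ⟨11516, 2, 5⟩)))) (.node 4 (.node 2 (.node 1 (.one ⟨6563, 0, 3⟩) (.one ⟨8198, 0, 5⟩)) (.node 1 (.one ⟨9073, 0, 4⟩) (.one ⟨11543, 0, 6⟩))) (.node 2 (.node 1 (.one ⟨15546, 2, 3⟩) (.one ⟨12555, 0, 4⟩)) (.node 1 (.one ⟨13179, 0, 3⟩) (.one ⟨2952, 2, 4⟩)))))) (.node 16 (.node 8 (.node 4 (.node 2 (.node 1 (.one ⟨2723, 2, 2⟩) (.one ⟨15300, 2, 6⟩)) (.node 1 (.one ⟨11301, 1, 4⟩) (.one ⟨3330, 2, 5⟩))) (.node 2 (.node 1 (.one ⟨2299, 0, 5⟩) (.one ⟨15083, 2, 2⟩)) (.node 1 (.one ⟨14527, 2, 6⟩) (.one ⟨15342, 0, 4⟩)))) (.node 4 (.node 2 (.node 1 (.one ⟨15838, 0, 3⟩) (.one ⟨5245, 1, 1⟩)) (.node 1 (.one ⟨171, 0, 5⟩) (.one ⟨6364, 0, 4⟩))) (.node 2 (.node 1 (.one ⟨1279, 2, 3⟩) (.one ⟨12010, 0, 5⟩)) (.node 1 (.one ⟨16179,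 2, 6⟩) (.one ⟨13452, 0, 3⟩))))) (.node 8 (.node 4 (.node 2 (.node 1 (.one ⟨8206, 1, 4⟩) (.one ⟨1359, 0, 3⟩)) (.node 1 (.one ⟨5204, 0, 4⟩) (.one ⟨10411, 0, 2⟩))) (.node 2 (.node 1 (.one ⟨12853, 0, 3⟩) (.one ⟨4963, 0, 2⟩)) (.node 1 (.one ⟨7571, 2, 1⟩) (.one ⟨1990, 2, 5⟩)))) (.node 4 (.node 2 (.node 1 (.one ⟨5310, 2, 4⟩) (.one ⟨15787, 2, 4⟩)) (.node 1 (.one ⟨4233, 0, 4⟩) (.one ⟨16522, 2, 5⟩))) (.node 2 (.node 1 (.one ⟨14401, 2, 4⟩) (.one ⟨3055, 2, 4⟩)) (.node 1 (.one ⟨4335, 2, 5⟩) (.one ⟨6575, 2, 4⟩)))))))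
def par9_8_1 : Arr Par :=
  (.node 32 (.node 16 (.node 8 (.node 4 (.node 2 (.node 1 (.one ⟨9680, 0, 4⟩) (.one ⟨12231, 0, 3⟩)) (.node 1 (.one ⟨14689, 2, 4⟩) (.one ⟨9587, 2, 5⟩))) (.node 2 (.node 1 (.one ⟨4334, 0, 4⟩) (.one ⟨9530, 2, 2⟩)) (.node 1 (.one ⟨1115, 2, 5⟩) (.one ⟨6147, 0, 4⟩)))) (.node 4 (.node 2 (.node 1 (.one ⟨4821, 2, 3⟩) (.one ⟨10006, 0, 3⟩)) (.node 1 (.one ⟨1894, 2, 2⟩) (.one ⟨1661, 0, 4⟩))) (.node 2 (.node 1 (.one ⟨12564, 2, 5⟩) (.one ⟨10843, 2, 3⟩)) (.node 1 (.one ⟨13843, 0, 3⟩) (.one ⟨15778, 2, 3⟩))))) (.node 8 (.node 4 (.node 2 (.node 1 (.one ⟨12262, 0, 4⟩) (.one ⟨6876, 1, 6⟩)) (.node 1 (.one ⟨15777, 2, 5⟩) (.one ⟨15775, 2, 2⟩))) (.node 2 (.node 1 (.one ⟨15782, 2, 2⟩) (.one ⟨15781, 2, 6⟩))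 (.node 1 (.one ⟨15776, 2, 3⟩) (.one ⟨1334, 0, 3⟩)))) (.node 4 (.node 2 (.node 1 (.one ⟨10269, 2, 2⟩) (.one ⟨670, 1, 4⟩)) (.node 1 (.one ⟨5027, 2, 5⟩) (.one ⟨1198, 0, 3⟩))) (.node 2 (.node 1 (.one ⟨1995, 0, 5⟩) (.one ⟨14101, 2, 4⟩)) (.node 1 (.one ⟨9607, 0, 3⟩) (.one ⟨16058, 0, 2⟩)))))) (.node 16 (.node 8 (.node 4 (.node 2 (.node 1 (.one ⟨9007, 0, 4⟩) (.one ⟨9260, 1, 3⟩)) (.node 1 (.one ⟨7288, 2, 2⟩) (.one ⟨15442, 1, 3⟩))) (.node 2 (.node 1 (.one ⟨13809, 2, 3⟩) (.one ⟨13941, 2, 5⟩)) (.node 1 (.one ⟨2238, 2, 5⟩) (.one ⟨12918, 2, 3⟩)))) (.node 4 (.node 2 (.node 1 (.one ⟨3987, 2, 6⟩) (.one ⟨8175, 2, 3⟩)) (.node 1 (.one ⟨16528, 2, 2⟩) (.one ⟨11406, 2, 3⟩))) (.node 2 (.node 1 (.one ⟨1109, 2, 2⟩) (.one ⟨5762, 2, 3⟩))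 (.node 1 (.one ⟨15173, 2, 2⟩) (.one ⟨60, 0, 4⟩))))) (.node 8 (.node 4 (.node 2 (.node 1 (.one ⟨5845, 0, 3⟩) (.one ⟨5788, 0, 1⟩)) (.node 1 (.one ⟨1647, 0, 4⟩) (.one ⟨14389, 0, 4⟩))) (.node 2 (.node 1 (.one ⟨10374, 0, 3⟩) (.one ⟨8286, 1, 4⟩)) (.node 1 (.one ⟨14485, 0, 1⟩) (.one ⟨7765, 0, 2⟩)))) (.node 4 (.node 2 (.node 1 (.one ⟨7943, 2, 5⟩) (.one ⟨12359, 0, 5⟩)) (.node 1 (.one ⟨12362, 0, 3⟩) (.one ⟨12364, 0, 4⟩))) (.node 2 (.node 1 (.one ⟨763, 2, 5⟩) (.one ⟨7762, 0, 3⟩)) (.node 1 (.one ⟨7759, 0, 4⟩) (.one ⟨8998, 1, 4⟩)))))))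
def par9_8_2 : Arr Par :=
  (.node 32 (.node 16 (.node 8 (.node 4 (.node 2 (.node 1 (.one ⟨7476, 0, 2⟩) (.one ⟨4281, 1, 2⟩)) (.node 1 (.one ⟨10011, 0, 2⟩) (.one ⟨6885, 0, 3⟩))) (.node 2 (.node 1 (.one ⟨4024, 1, 4⟩) (.one ⟨10653, 0, 5⟩)) (.node 1 (.one ⟨4211, 2, 4⟩) (.one ⟨6346, 2, 5⟩)))) (.node 4 (.node 2 (.node 1 (.one ⟨10332, 2, 3⟩) (.one ⟨14657, 2, 4⟩)) (.node 1 (.one ⟨7257, 0, 2⟩) (.one ⟨11260, 1, 2⟩))) (.node 2 (.node 1 (.one ⟨191, 2, 5⟩) (.one ⟨7214, 2, 4⟩)) (.node 1 (.one ⟨11336, 2, 4⟩) (.one ⟨84, 0, 1⟩))))) (.node 8 (.node 4 (.node 2 (.node 1 (.one ⟨6643, 0, 5⟩) (.one ⟨14713, 0, 4⟩)) (.node 1 (.one ⟨9149, 0, 2⟩) (.one ⟨6670, 0, 6⟩))) (.node 2 (.node 1 (.one ⟨1289, 0, 2⟩) (.one ⟨9951, 2, 5⟩)) (.node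 1 (.one ⟨7756, 2, 7⟩) (.one ⟨5416, 2, 4⟩)))) (.node 4 (.node 2 (.node 1 (.one ⟨16829, 2, 5⟩) (.one ⟨2767, 2, 3⟩)) (.node 1 (.one ⟨15110, 2, 3⟩) (.one ⟨396, 2, 4⟩))) (.node 2 (.node 1 (.one ⟨14118, 2, 3⟩) (.one ⟨4490, 2, 4⟩)) (.node 1 (.one ⟨15564, 0, 4⟩) (.one ⟨5168, 2, 2⟩)))))) (.node 16 (.node 8 (.node 4 (.node 2 (.node 1 (.one ⟨6152, 0, 1⟩) (.one ⟨9889, 2, 3⟩)) (.node 1 (.one ⟨6667, 1, 3⟩) (.one ⟨4367, 2, 5⟩))) (.node 2 (.node 1 (.one ⟨10271, 1, 5⟩) (.one ⟨11002, 2, 5⟩)) (.node 1 (.one ⟨3406, 0, 5⟩) (.one ⟨14433, 0, 4⟩)))) (.node 4 (.node 2 (.node 1 (.one ⟨1845, 1, 4⟩) (.one ⟨84, 2, 1⟩)) (.node 1 (.one ⟨10922, 0, 6⟩) (.one ⟨15960, 1, 2⟩))) (.node 2 (.node 1 (.one ⟨6642, 2, 6⟩) (.one ⟨11324, 0, 4⟩)) (.node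 1 (.one ⟨409, 0, 5⟩) (.one ⟨6469, 0, 2⟩))))) (.node 8 (.node 4 (.node 2 (.node 1 (.one ⟨11993, 2, 6⟩) (.one ⟨11579, 2, 5⟩)) (.node 1 (.one ⟨17138, 0, 4⟩) (.one ⟨5035, 1, 0⟩))) (.node 2 (.node 1 (.one ⟨6864, 0, 6⟩) (.one ⟨12305, 2, 3⟩)) (.node 1 (.one ⟨2386, 2, 1⟩) (.one ⟨2626, 0, 5⟩)))) (.node 4 (.node 2 (.node 1 (.one ⟨13203, 2, 5⟩) (.one ⟨7787, 0, 6⟩)) (.node 1 (.one ⟨3812, 0, 4⟩) (.one ⟨16571, 0, 5⟩))) (.node 2 (.node 1 (.one ⟨7645, 2, 3⟩) (.one ⟨11191, 0, 6⟩)) (.node 1 (.one ⟨15545, 0, 3⟩) (.one ⟨9383, 2, 5⟩)))))))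
def par9_8_3 : Arr Par :=
  (.node 32 (.node 16 (.node 8 (.node 4 (.node 2 (.node 1 (.one ⟨1556, 2, 5⟩) (.one ⟨1699, 2, 4⟩)) (.node 1 (.one ⟨9713, 2, 5⟩) (.one ⟨9697, 2, 4⟩))) (.node 2 (.node 1 (.one ⟨1587, 2, 4⟩) (.one ⟨602, 2, 5⟩)) (.node 1 (.one ⟨9304, 2, 4⟩) (.one ⟨5914, 2, 4⟩)))) (.node 4 (.node 2 (.node 1 (.one ⟨12649, 0, 4⟩) (.one ⟨9979, 2, 3⟩)) (.node 1 (.one ⟨4492, 0, 4⟩) (.one ⟨11904, 0, 3⟩))) (.node 2 (.node 1 (.one ⟨1821, 2, 6⟩) (.one ⟨5150, 0, 3⟩)) (.node 1 (.one ⟨3652, 1, 3⟩) (.one ⟨11807, 2, 3⟩))))) (.node 8 (.node 4 (.node 2 (.node 1 (.one ⟨14824, 0, 5⟩) (.one ⟨3648, 2, 4⟩)) (.node 1 (.one ⟨5445, 0, 0⟩) (.one ⟨8074, 2, 5⟩))) (.node 2 (.node 1 (.one ⟨14134, 1, 5⟩) (.one ⟨16106, 2, 2⟩)) (.node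 1 (.one ⟨15649, 0, 4⟩) (.one ⟨3021, 0, 6⟩)))) (.node 4 (.node 2 (.node 1 (.one ⟨1237, 0, 6⟩) (.one ⟨222, 0, 3⟩)) (.node 1 (.one ⟨10928, 2, 6⟩) (.one ⟨11856, 0, 4⟩))) (.node 2 (.node 1 (.one ⟨12618, 0, 4⟩) (.one ⟨2385, 2, 4⟩)) (.node 1 (.one ⟨13366, 1, 4⟩) (.one ⟨12707, 0, 6⟩)))))) (.node 16 (.node 8 (.node 4 (.node 2 (.node 1 (.one ⟨5948, 2, 6⟩) (.one ⟨14594, 2, 3⟩)) (.node 1 (.one ⟨7841, 0, 6⟩) (.one ⟨5491, 0, 2⟩))) (.node 2 (.node 1 (.one ⟨14775, 0, 6⟩) (.one ⟨641, 0, 6⟩)) (.node 1 (.one ⟨16369, 0, 6⟩) (.one ⟨3827, 0, 5⟩)))) (.node 4 (.node 2 (.node 1 (.one ⟨14067, 2, 3⟩) (.one ⟨9310, 2, 1⟩)) (.node 1 (.one ⟨1014, 0, 5⟩) (.one ⟨10095, 2, 4⟩))) (.node 2 (.node 1 (.one ⟨2081, 2, 5⟩) (.one ⟨14825, 0, 5⟩)) (.node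 1 (.one ⟨14806, 0, 4⟩) (.one ⟨13576, 0, 4⟩))))) (.node 8 (.node 4 (.node 2 (.node 1 (.one ⟨9957, 0, 4⟩) (.one ⟨16166, 2, 5⟩)) (.node 1 (.one ⟨8012, 2, 4⟩) (.one ⟨11732, 2, 4⟩))) (.node 2 (.node 1 (.one ⟨3699, 2, 5⟩) (.one ⟨4766, 0, 4⟩)) (.node 1 (.one ⟨2377, 0, 4⟩) (.one ⟨4225, 1, 4⟩)))) (.node 4 (.node 2 (.node 1 (.one ⟨12769, 2, 4⟩) (.one ⟨1166, 2, 4⟩)) (.node 1 (.one ⟨12137, 2, 5⟩) (.one ⟨12728, 2, 6⟩))) (.node 2 (.node 1 (.one ⟨3285, 2, 7⟩) (.one ⟨12114, 2, 4⟩)) (.node 1 (.one ⟨780, 2, 4⟩) (.one ⟨3280, 2, 2⟩)))))))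
def par9_8_4 : Arr Par :=
  (.node 32 (.node 16 (.node 8 (.node 4 (.node 2 (.node 1 (.one ⟨9065, 2, 4⟩) (.one ⟨15983, 0, 4⟩)) (.node 1 (.one ⟨4681, 2, 2⟩) (.one ⟨13071, 0, 4⟩))) (.node 2 (.node 1 (.one ⟨6521, 2, 1⟩) (.one ⟨8010, 2, 6⟩)) (.node 1 (.one ⟨1488, 2, 4⟩) (.one ⟨8898, 0, 6⟩)))) (.node 4 (.node 2 (.node 1 (.one ⟨4572, 2, 3⟩) (.one ⟨9100, 2, 2⟩)) (.node 1 (.one ⟨11663, 0, 5⟩) (.one ⟨11214, 0, 5⟩))) (.node 2 (.node 1 (.one ⟨2539, 1, 3⟩) (.one ⟨7042, 0, 3⟩)) (.node 1 (.one ⟨10028, 2, 3⟩) (.one ⟨9941, 0, 3⟩))))) (.node 8 (.node 4 (.node 2 (.node 1 (.one ⟨15903, 2, 2⟩) (.one ⟨4443, 2, 3⟩)) (.node 1 (.one ⟨15026, 2, 2⟩) (.one ⟨14532, 2, 2⟩))) (.node 2 (.node 1 (.one ⟨13433, 0, 5⟩) (.one ⟨16900, 2, 2⟩)) (.node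 1 (.one ⟨5103, 0, 5⟩) (.one ⟨3223, 1, 2⟩)))) (.node 4 (.node 2 (.node 1 (.one ⟨641, 2, 6⟩) (.one ⟨6351, 0, 1⟩)) (.node 1 (.one ⟨3225, 1, 2⟩) (.one ⟨5638, 0, 4⟩))) (.node 2 (.node 1 (.one ⟨12171, 2, 5⟩) (.one ⟨16371, 2, 3⟩)) (.node 1 (.one ⟨15535, 2, 3⟩) (.one ⟨102, 2, 1⟩)))))) (.node 16 (.node 8 (.node 4 (.node 2 (.node 1 (.one ⟨928, 2, 5⟩) (.one ⟨16589, 0, 5⟩)) (.node 1 (.one ⟨1884, 0, 5⟩) (.one ⟨8380, 0, 4⟩))) (.node 2 (.node 1 (.one ⟨9382, 0, 5⟩) (.one ⟨3895, 0, 5⟩)) (.node 1 (.one ⟨250, 2, 3⟩) (.one ⟨10699, 2, 5⟩)))) (.node 4 (.node 2 (.node 1 (.one ⟨10941, 2, 5⟩) (.one ⟨16680, 0, 3⟩)) (.node 1 (.one ⟨13854, 2, 6⟩) (.one ⟨7021, 2, 4⟩))) (.node 2 (.node 1 (.one ⟨6491, 2, 6⟩) (.one ⟨353, 2, 6⟩)) (.node 1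 (.one ⟨3281, 2, 4⟩) (.one ⟨9084, 0, 6⟩))))) (.node 8 (.node 4 (.node 2 (.node 1 (.one ⟨6990, 2, 3⟩) (.one ⟨4412, 2, 6⟩)) (.node 1 (.one ⟨9240, 0, 2⟩) (.one ⟨4962, 1, 0⟩))) (.node 2 (.node 1 (.one ⟨3656, 1, 2⟩) (.one ⟨1746, 2, 5⟩)) (.node 1 (.one ⟨9525, 0, 2⟩) (.one ⟨5040, 1, 0⟩)))) (.node 4 (.node 2 (.node 1 (.one ⟨7109, 0, 4⟩) (.one ⟨5172, 1, 0⟩)) (.node 1 (.one ⟨12220, 2, 5⟩) (.one ⟨8376, 2, 6⟩))) (.node 2 (.node 1 (.one ⟨12838, 0, 4⟩) (.one ⟨5316, 0, 5⟩)) (.node 1 (.one ⟨6863, 0, 5⟩) (.one ⟨5802, 0, 4⟩)))))))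
def par9_8_5 : Arr Par :=
  (.node 32 (.node 16 (.node 8 (.node 4 (.node 2 (.node 1 (.one ⟨5263, 0, 2⟩) (.one ⟨6717, 1, 5⟩)) (.node 1 (.one ⟨1677, 2, 6⟩) (.one ⟨3829, 1, 5⟩))) (.node 2 (.node 1 (.one ⟨1594, 0, 4⟩) (.one ⟨7010, 0, 2⟩)) (.node 1 (.one ⟨4513, 0, 2⟩) (.one ⟨3666, 2, 6⟩)))) (.node 4 (.node 2 (.node 1 (.one ⟨11652, 2, 6⟩) (.one ⟨393, 2, 3⟩)) (.node 1 (.one ⟨2751, 0, 4⟩) (.one ⟨8399, 0, 4⟩))) (.node 2 (.node 1 (.one ⟨11810, 2, 6⟩) (.one ⟨2037, 2, 2⟩)) (.node 1 (.one ⟨9695, 2, 4⟩) (.one ⟨17120, 0, 4⟩))))) (.node 8 (.node 4 (.node 2 (.node 1 (.one ⟨8375, 1, 6⟩) (.one ⟨2663, 2, 3⟩)) (.node 1 (.one ⟨6313, 0, 3⟩) (.one ⟨166, 0, 4⟩))) (.node 2 (.node 1 (.one ⟨16096, 0, 4⟩) (.one ⟨12635, 1, 4⟩)) (.node 1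 (.one ⟨12977, 0, 3⟩) (.one ⟨12685, 0, 5⟩)))) (.node 4 (.node 2 (.node 1 (.one ⟨14919, 2, 4⟩) (.one ⟨14668, 2, 6⟩)) (.node 1 (.one ⟨12251, 2, 4⟩) (.one ⟨16901, 2, 4⟩))) (.node 2 (.node 1 (.one ⟨9942, 2, 4⟩) (.one ⟨2285, 0, 1⟩)) (.node 1 (.one ⟨17121, 2, 4⟩) (.one ⟨919, 2, 3⟩)))))) (.node 16 (.node 8 (.node 4 (.node 2 (.node 1 (.one ⟨9299, 0, 5⟩) (.one ⟨14771, 0, 6⟩)) (.node 1 (.one ⟨4634, 0, 5⟩) (.one ⟨229, 0, 5⟩))) (.node 2 (.node 1 (.one ⟨15895, 0, 6⟩) (.one ⟨12682, 0, 5⟩)) (.node 1 (.one ⟨6754, 0, 5⟩) (.one ⟨13039, 0, 6⟩)))) (.node 4 (.node 2 (.node 1 (.one ⟨14735, 2, 3⟩) (.one ⟨14741, 2, 6⟩)) (.node 1 (.one ⟨12744, 1, 6⟩) (.one ⟨14737, 2, 6⟩))) (.node 2 (.node 1 (.one ⟨11464, 0, 4⟩) (.one ⟨17056, 2, 5⟩))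 (.node 1 (.one ⟨4068, 0, 2⟩) (.one ⟨1486, 2, 5⟩))))) (.node 8 (.node 4 (.node 2 (.node 1 (.one ⟨10967, 2, 3⟩) (.one ⟨1351, 2, 5⟩)) (.node 1 (.one ⟨7318, 0, 6⟩) (.one ⟨1238, 2, 5⟩))) (.node 2 (.node 1 (.one ⟨10929, 2, 4⟩) (.one ⟨1073, 2, 6⟩)) (.node 1 (.one ⟨7312, 0, 4⟩) (.one ⟨802, 2, 4⟩)))) (.node 4 (.node 2 (.node 1 (.one ⟨1344, 0, 6⟩) (.one ⟨12579, 0, 4⟩)) (.node 1 (.one ⟨2228, 2, 4⟩) (.one ⟨2763, 0, 6⟩))) (.node 2 (.node 1 (.one ⟨6699, 2, 3⟩) (.one ⟨3473, 0, 6⟩)) (.node 1 (.one ⟨12926, 2, 5⟩) (.one ⟨1411, 0, 6⟩)))))))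
def par9_8_6 : Arr Par :=
  (.node 32 (.node 16 (.node 8 (.node 4 (.node 2 (.node 1 (.one ⟨7238, 1, 4⟩) (.one ⟨14236, 0, 4⟩)) (.node 1 (.one ⟨7968, 0, 3⟩) (.one ⟨13960, 2, 3⟩))) (.node 2 (.node 1 (.one ⟨1736, 1, 4⟩) (.one ⟨3753, 0, 6⟩)) (.node 1 (.one ⟨15500, 1, 5⟩) (.one ⟨11195, 0, 5⟩)))) (.node 4 (.node 2 (.node 1 (.one ⟨14583, 2, 4⟩) (.one ⟨3608, 0, 6⟩)) (.node 1 (.one ⟨15015, 1, 4⟩) (.one ⟨4294, 0, 4⟩))) (.node 2 (.node 1 (.one ⟨13089, 0, 6⟩) (.one ⟨8580, 2, 5⟩)) (.node 1 (.one ⟨2630, 0, 6⟩) (.one ⟨1740, 1, 5⟩))))) (.node 8 (.node 4 (.node 2 (.node 1 (.one ⟨12866, 0, 6⟩) (.one ⟨4599, 2, 5⟩)) (.node 1 (.one ⟨13104, 0, 5⟩) (.one ⟨13801, 0, 5⟩))) (.node 2 (.node 1 (.one ⟨10336, 2, 3⟩) (.one ⟨3379, 2, 5⟩))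 (.node 1 (.one ⟨10522, 0, 6⟩) (.one ⟨9070, 1, 2⟩)))) (.node 4 (.node 2 (.node 1 (.one ⟨831, 2, 4⟩) (.one ⟨11555, 2, 3⟩)) (.node 1 (.one ⟨4364, 2, 5⟩) (.one ⟨3668, 2, 2⟩))) (.node 2 (.node 1 (.one ⟨9685, 0, 5⟩) (.one ⟨2293, 2, 5⟩)) (.node 1 (.one ⟨2010, 0, 4⟩) (.one ⟨15755, 0, 6⟩)))))) (.node 16 (.node 8 (.node 4 (.node 2 (.node 1 (.one ⟨4111, 1, 3⟩) (.one ⟨11675, 2, 3⟩)) (.node 1 (.one ⟨4706, 0, 3⟩) (.one ⟨14944, 2, 4⟩))) (.node 2 (.node 1 (.one ⟨3843, 0, 2⟩) (.one ⟨2490, 1, 3⟩)) (.node 1 (.one ⟨6381, 0, 4⟩) (.one ⟨11594, 0, 2⟩)))) (.node 4 (.node 2 (.node 1 (.one ⟨11598, 0, 2⟩) (.one ⟨11012, 2, 4⟩)) (.node 1 (.one ⟨11597, 0, 6⟩) (.one ⟨12727, 2, 5⟩))) (.node 2 (.node 1 (.one ⟨726, 2, 5⟩) (.one ⟨10016, 1, 5⟩))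 (.node 1 (.one ⟨11596, 0, 4⟩) (.one ⟨14126, 0, 3⟩))))) (.node 8 (.node 4 (.node 2 (.node 1 (.one ⟨2978, 0, 6⟩) (.one ⟨16714, 0, 5⟩)) (.node 1 (.one ⟨3807, 0, 4⟩) (.one ⟨4708, 0, 3⟩))) (.node 2 (.node 1 (.one ⟨15734, 0, 3⟩) (.one ⟨1743, 0, 3⟩)) (.node 1 (.one ⟨14852, 0, 4⟩) (.one ⟨10518, 0, 5⟩)))) (.node 4 (.node 2 (.node 1 (.one ⟨1567, 2, 4⟩) (.one ⟨14812, 0, 3⟩)) (.node 1 (.one ⟨1971, 2, 5⟩) (.one ⟨15262, 0, 5⟩))) (.node 2 (.node 1 (.one ⟨6736, 2, 3⟩) (.one ⟨9260, 0, 3⟩)) (.node 1 (.one ⟨6916, 2, 4⟩) (.one ⟨13516, 0, 3⟩)))))))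
def par9_8_7 : Arr Par :=
  (.node 32 (.node 16 (.node 8 (.node 4 (.node 2 (.node 1 (.one ⟨2577, 2, 5⟩) (.one ⟨10448, 2, 4⟩)) (.node 1 (.one ⟨2932, 0, 6⟩) (.one ⟨4935, 2, 3⟩))) (.node 2 (.node 1 (.one ⟨1777, 0, 4⟩) (.one ⟨11981, 0, 4⟩)) (.node 1 (.one ⟨12966, 2, 5⟩) (.one ⟨8755, 0, 2⟩)))) (.node 4 (.node 2 (.node 1 (.one ⟨9192, 0, 3⟩) (.one ⟨5203, 0, 2⟩)) (.node 1 (.one ⟨13924, 0, 5⟩) (.one ⟨1992, 2, 4⟩))) (.node 2 (.node 1 (.one ⟨12851, 0, 2⟩) (.one ⟨2311, 0, 5⟩)) (.node 1 (.one ⟨16516, 0, 3⟩) (.one ⟨6789, 2, 5⟩))))) (.node 8 (.node 4 (.node 2 (.node 1 (.one ⟨3214, 2, 5⟩) (.one ⟨6436, 2, 5⟩)) (.node 1 (.one ⟨410, 2, 5⟩) (.one ⟨8952, 0, 3⟩))) (.node 2 (.node 1 (.one ⟨8970, 2, 4⟩) (.one ⟨17157, 0, 4⟩)) (.node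 1 (.one ⟨7731, 2, 7⟩) (.one ⟨15945, 2, 3⟩)))) (.node 4 (.node 2 (.node 1 (.one ⟨13097, 2, 6⟩) (.one ⟨14410, 0, 5⟩)) (.node 1 (.one ⟨14407, 0, 1⟩) (.one ⟨14414, 0, 5⟩))) (.node 2 (.node 1 (.one ⟨15820, 2, 4⟩) (.one ⟨14408, 0, 1⟩)) (.node 1 (.one ⟨2500, 2, 4⟩) (.one ⟨4908, 2, 5⟩)))))) (.node 16 (.node 8 (.node 4 (.node 2 (.node 1 (.one ⟨6909, 2, 5⟩) (.one ⟨8075, 2, 5⟩)) (.node 1 (.one ⟨344, 2, 3⟩) (.one ⟨12661, 0, 3⟩))) (.node 2 (.node 1 (.one ⟨6959, 2, 6⟩) (.one ⟨7958, 2, 5⟩)) (.node 1 (.one ⟨1745, 2, 4⟩) (.one ⟨15751, 2, 3⟩)))) (.node 4 (.node 2 (.node 1 (.one ⟨15688, 0, 5⟩) (.one ⟨7684, 0, 5⟩)) (.node 1 (.one ⟨4626, 2, 4⟩) (.one ⟨1989, 1, 6⟩))) (.node 2 (.node 1 (.one ⟨4080, 1, 6⟩) (.one ⟨3688, 1, 6⟩)) (.node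 1 (.one ⟨2315, 1, 6⟩) (.one ⟨14850, 0, 2⟩))))) (.node 8 (.node 4 (.node 2 (.node 1 (.one ⟨15461, 0, 3⟩) (.one ⟨4698, 0, 3⟩)) (.node 1 (.one ⟨5121, 0, 4⟩) (.one ⟨14112, 0, 2⟩))) (.node 2 (.node 1 (.one ⟨14614, 0, 3⟩) (.one ⟨3809, 0, 4⟩)) (.node 1 (.one ⟨4406, 0, 3⟩) (.one ⟨383, 0, 5⟩)))) (.node 4 (.node 2 (.node 1 (.one ⟨12960, 2, 5⟩) (.one ⟨14380, 2, 3⟩)) (.node 1 (.one ⟨10697, 0, 4⟩) (.one ⟨8675, 2, 4⟩))) (.node 2 (.node 1 (.one ⟨11210, 0, 4⟩) (.one ⟨2993, 0, 6⟩)) (.node 1 (.one ⟨2576, 2, 4⟩) (.one ⟨10149, 0, 3⟩)))))))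
def par9_8_8 : Arr Par :=
  (.node 32 (.node 16 (.node 8 (.node 4 (.node 2 (.node 1 (.one ⟨5906, 1, 5⟩) (.one ⟨9647, 0, 3⟩)) (.node 1 (.one ⟨2215, 0, 1⟩) (.one ⟨10373, 0, 2⟩))) (.node 2 (.node 1 (.one ⟨2717, 0, 3⟩) (.one ⟨4436, 1, 3⟩)) (.node 1 (.one ⟨2239, 0, 2⟩) (.one ⟨5639, 2, 6⟩)))) (.node 4 (.node 2 (.node 1 (.one ⟨11830, 0, 5⟩) (.one ⟨14936, 2, 4⟩)) (.node 1 (.one ⟨8552, 0, 4⟩) (.one ⟨11721, 2, 3⟩))) (.node 2 (.node 1 (.one ⟨14422, 0, 3⟩) (.one ⟨4733, 2, 5⟩)) (.node 1 (.one ⟨9645, 2, 5⟩) (.one ⟨17127, 2, 4⟩))))) (.node 8 (.node 4 (.node 2 (.node 1 (.one ⟨12698, 2, 4⟩) (.one ⟨16210, 2, 3⟩)) (.node 1 (.one ⟨14113, 0, 4⟩) (.one ⟨255, 2, 4⟩))) (.node 2 (.node 1 (.one ⟨6457, 2, 5⟩) (.one ⟨3023, 2, 4⟩)) (.node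 1 (.one ⟨7362, 2, 4⟩) (.one ⟨14751, 2, 4⟩)))) (.node 4 (.node 2 (.node 1 (.one ⟨12104, 2, 4⟩) (.one ⟨16979, 2, 3⟩)) (.node 1 (.one ⟨9283, 2, 1⟩) (.one ⟨7849, 1, 3⟩))) (.node 2 (.node 1 (.one ⟨4808, 1, 3⟩) (.one ⟨10251, 0, 3⟩)) (.node 1 (.one ⟨5009, 1, 2⟩) (.one ⟨1163, 2, 5⟩)))))) (.node 16 (.node 8 (.node 4 (.node 2 (.node 1 (.one ⟨167, 2, 5⟩) (.one ⟨10647, 2, 4⟩)) (.node 1 (.one ⟨11222, 0, 4⟩) (.one ⟨4119, 2, 5⟩))) (.node 2 (.node 1 (.one ⟨532, 0, 5⟩) (.one ⟨11848, 2, 5⟩)) (.node 1 (.one ⟨11826, 2, 5⟩) (.one ⟨4276, 2, 2⟩)))) (.node 4 (.node 2 (.node 1 (.one ⟨2155, 2, 4⟩) (.one ⟨6891, 0, 4⟩)) (.node 1 (.one ⟨12481, 0, 4⟩) (.one ⟨2154, 2, 3⟩))) (.node 2 (.node 1 (.one ⟨4273, 2, 5⟩) (.one ⟨2152, 2, 4⟩)) (.node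 1 (.one ⟨4274, 2, 3⟩) (.one ⟨9078, 1, 4⟩))))) (.node 8 (.node 4 (.node 2 (.node 1 (.one ⟨6678, 1, 4⟩) (.one ⟨8942, 1, 4⟩)) (.node 1 (.one ⟨2015, 2, 4⟩) (.one ⟨7465, 1, 1⟩))) (.node 2 (.node 1 (.one ⟨8706, 1, 2⟩) (.one ⟨7473, 1, 2⟩)) (.node 1 (.one ⟨8402, 1, 1⟩) (.one ⟨5406, 0, 4⟩)))) (.node 4 (.node 2 (.node 1 (.one ⟨8471, 0, 3⟩) (.one ⟨8050, 1, 2⟩)) (.node 1 (.one ⟨14625, 2, 2⟩) (.one ⟨8161, 2, 6⟩))) (.node 2 (.node 1 (.one ⟨10829, 2, 4⟩) (.one ⟨8688, 0, 4⟩)) (.node 1 (.one ⟨14060, 2, 3⟩) (.one ⟨14752, 2, 5⟩)))))))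
def par9_8_9 : Arr Par :=
  (.node 32 (.node 16 (.node 8 (.node 4 (.node 2 (.node 1 (.one ⟨655, 2, 3⟩) (.one ⟨17132, 2, 5⟩)) (.node 1 (.one ⟨5604, 0, 4⟩) (.one ⟨9305, 0, 3⟩))) (.node 2 (.node 1 (.one ⟨6625, 2, 2⟩) (.one ⟨12234, 2, 2⟩)) (.node 1 (.one ⟨9133, 2, 3⟩) (.one ⟨16537, 2, 3⟩)))) (.node 4 (.node 2 (.node 1 (.one ⟨1688, 2, 3⟩) (.one ⟨12448, 2, 5⟩)) (.node 1 (.one ⟨7570, 2, 6⟩) (.one ⟨16461, 2, 3⟩))) (.node 2 (.node 1 (.one ⟨15016, 0, 5⟩) (.one ⟨12235, 2, 2⟩)) (.node 1 (.one ⟨7494, 2, 2⟩) (.one ⟨13853, 0, 4⟩))))) (.node 8 (.node 4 (.node 2 (.node 1 (.one ⟨5653, 0, 5⟩) (.one ⟨1792, 0, 4⟩)) (.node 1 (.one ⟨3415, 2, 4⟩) (.one ⟨13766, 2, 7⟩))) (.node 2 (.node 1 (.one ⟨13211, 2, 7⟩) (.one ⟨7688, 2, 7⟩)) (.node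 1 (.one ⟨3351, 2, 7⟩) (.one ⟨9306, 2, 1⟩)))) (.node 4 (.node 2 (.node 1 (.one ⟨2103, 2, 1⟩) (.one ⟨1995, 2, 5⟩)) (.node 1 (.one ⟨2603, 0, 4⟩) (.one ⟨1693, 2, 5⟩))) (.node 2 (.node 1 (.one ⟨10126, 2, 6⟩) (.one ⟨12032, 0, 6⟩)) (.node 1 (.one ⟨1571, 2, 5⟩) (.one ⟨16805, 0, 3⟩)))))) (.node 16 (.node 8 (.node 4 (.node 2 (.node 1 (.one ⟨4912, 2, 3⟩) (.one ⟨12025, 1, 2⟩)) (.node 1 (.one ⟨4880, 2, 6⟩) (.one ⟨4145, 2, 5⟩))) (.node 2 (.node 1 (.one ⟨11006, 2, 5⟩) (.one ⟨4098, 2, 5⟩)) (.node 1 (.one ⟨10846, 2, 5⟩) (.one ⟨10232, 0, 5⟩)))) (.node 4 (.node 2 (.node 1 (.one ⟨16108, 0, 5⟩) (.one ⟨6331, 0, 5⟩)) (.node 1 (.one ⟨4077, 0, 2⟩) (.one ⟨10265, 1, 6⟩))) (.node 2 (.node 1 (.one ⟨11773, 1, 6⟩) (.one ⟨4085, 1, 6⟩)) (.node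 1 (.one ⟨2314, 1, 6⟩) (.one ⟨9294, 2, 1⟩))))) (.node 8 (.node 4 (.node 2 (.node 1 (.one ⟨7980, 0, 2⟩) (.one ⟨10254, 2, 3⟩)) (.node 1 (.one ⟨12051, 2, 2⟩) (.one ⟨8310, 1, 2⟩))) (.node 2 (.node 1 (.one ⟨12802, 1, 2⟩) (.one ⟨10451, 2, 6⟩)) (.node 1 (.one ⟨15563, 1, 1⟩) (.one ⟨4395, 1, 3⟩)))) (.node 4 (.node 2 (.node 1 (.one ⟨13017, 2, 6⟩) (.one ⟨15086, 1, 2⟩)) (.node 1 (.one ⟨16395, 1, 3⟩) (.one ⟨13655, 1, 3⟩))) (.node 2 (.node 1 (.one ⟨13020, 2, 3⟩) (.one ⟨5251, 1, 5⟩)) (.node 1 (.one ⟨1118, 1, 3⟩) (.one ⟨14380, 0, 3⟩)))))))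
def par9_8_10 : Arr Par :=
  (.node 32 (.node 16 (.node 8 (.node 4 (.node 2 (.node 1 (.one ⟨1825, 2, 2⟩) (.one ⟨16386, 2, 3⟩)) (.node 1 (.one ⟨5649, 0, 2⟩) (.one ⟨3067, 2, 4⟩))) (.node 2 (.node 1 (.one ⟨13740, 0, 5⟩) (.one ⟨6265, 0, 5⟩)) (.node 1 (.one ⟨13746, 1, 5⟩) (.one ⟨7797, 2, 6⟩)))) (.node 4 (.node 2 (.node 1 (.one ⟨5679, 2, 7⟩) (.one ⟨8877, 2, 5⟩)) (.node 1 (.one ⟨71, 1, 1⟩) (.one ⟨13136, 2, 4⟩))) (.node 2 (.node 1 (.one ⟨11189, 2, 3⟩) (.one ⟨11623, 2, 4⟩)) (.node 1 (.one ⟨9806, 2, 7⟩) (.one ⟨5619, 0, 1⟩))))) (.node 8 (.node 4 (.node 2 (.node 1 (.one ⟨16867, 0, 1⟩) (.one ⟨1997, 1, 3⟩)) (.node 1 (.one ⟨16147, 2, 4⟩) (.one ⟨7687, 1, 2⟩))) (.node 2 (.node 1 (.one ⟨14635, 2, 6⟩) (.one ⟨14634, 2, 6⟩)) (.node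 1 (.one ⟨14631, 2, 5⟩) (.one ⟨7770, 0, 3⟩)))) (.node 4 (.node 2 (.node 1 (.one ⟨1913, 2, 6⟩) (.one ⟨10518, 2, 5⟩)) (.node 1 (.one ⟨13053, 0, 3⟩) (.one ⟨11870, 2, 4⟩))) (.node 2 (.node 1 (.one ⟨12162, 2, 3⟩) (.one ⟨3659, 2, 4⟩)) (.node 1 (.one ⟨2635, 0, 5⟩) (.one ⟨2598, 2, 6⟩)))))) (.node 16 (.node 8 (.node 4 (.node 2 (.node 1 (.one ⟨12132, 2, 3⟩) (.one ⟨10594, 2, 2⟩)) (.node 1 (.one ⟨6326, 0, 5⟩) (.one ⟨11893, 2, 6⟩))) (.node 2 (.node 1 (.one ⟨727, 2, 3⟩) (.one ⟨3762, 2, 5⟩)) (.node 1 (.one ⟨16761, 0, 4⟩) (.one ⟨1214, 2, 5⟩)))) (.node 4 (.node 2 (.node 1 (.one ⟨9188, 2, 3⟩) (.one ⟨10078, 0, 4⟩)) (.node 1 (.one ⟨10182, 2, 3⟩) (.one ⟨2098, 2, 4⟩))) (.node 2 (.node 1 (.one ⟨10213, 2, 5⟩) (.one ⟨78, 2, 4⟩)) (.node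 1 (.one ⟨9308, 2, 3⟩) (.one ⟨685, 2, 3⟩))))) (.node 8 (.node 4 (.node 2 (.node 1 (.one ⟨14192, 2, 6⟩) (.one ⟨4296, 2, 5⟩)) (.node 1 (.one ⟨1027, 0, 4⟩) (.one ⟨9189, 0, 3⟩))) (.node 2 (.node 1 (.one ⟨9566, 1, 1⟩) (.one ⟨9758, 2, 5⟩)) (.node 1 (.one ⟨6113, 2, 5⟩) (.one ⟨8110, 0, 4⟩)))) (.node 4 (.node 2 (.node 1 (.one ⟨6388, 0, 3⟩) (.one ⟨12391, 2, 6⟩)) (.node 1 (.one ⟨12379, 2, 4⟩) (.one ⟨9357, 2, 3⟩))) (.node 2 (.node 1 (.one ⟨9231, 2, 3⟩) (.one ⟨605, 2, 1⟩)) (.node 1 (.one ⟨4924, 0, 3⟩) (.one ⟨15998, 2, 5⟩)))))))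
def par9_8_11 : Arr Par :=
  (.node 32 (.node 16 (.node 8 (.node 4 (.node 2 (.node 1 (.one ⟨3086, 2, 5⟩) (.one ⟨13497, 2, 4⟩)) (.node 1 (.one ⟨6514, 2, 5⟩) (.one ⟨16241, 2, 5⟩))) (.node 2 (.node 1 (.one ⟨13025, 0, 5⟩) (.one ⟨12686, 2, 4⟩)) (.node 1 (.one ⟨5885, 2, 2⟩) (.one ⟨14340, 2, 3⟩)))) (.node 4 (.node 2 (.node 1 (.one ⟨13601, 2, 2⟩) (.one ⟨16759, 2, 3⟩)) (.node 1 (.one ⟨9245, 2, 3⟩) (.one ⟨12694, 2, 3⟩))) (.node 2 (.node 1 (.one ⟨14223, 2, 4⟩) (.one ⟨10753, 2, 4⟩)) (.node 1 (.one ⟨16838, 2, 5⟩) (.one ⟨16570, 0, 6⟩))))) (.node 8 (.node 4 (.node 2 (.node 1 (.one ⟨3609, 0, 6⟩) (.one ⟨15976, 1, 4⟩)) (.node 1 (.one ⟨11111, 2, 4⟩) (.one ⟨2980, 0, 4⟩))) (.node 2 (.node 1 (.one ⟨4525, 2, 5⟩) (.one ⟨7785, 0, 5⟩))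 (.node 1 (.one ⟨13087, 0, 6⟩) (.one ⟨6058, 2, 3⟩)))) (.node 4 (.node 2 (.node 1 (.one ⟨3548, 0, 4⟩) (.one ⟨9887, 2, 4⟩)) (.node 1 (.one ⟨617, 0, 4⟩) (.one ⟨6385, 2, 2⟩))) (.node 2 (.node 1 (.one ⟨3359, 2, 5⟩) (.one ⟨10560, 2, 3⟩)) (.node 1 (.one ⟨15585, 2, 2⟩) (.one ⟨9352, 2, 3⟩)))))) (.node 16 (.node 8 (.node 4 (.node 2 (.node 1 (.one ⟨12892, 1, 3⟩) (.one ⟨4926, 2, 4⟩)) (.node 1 (.one ⟨8276, 2, 3⟩) (.one ⟨5930, 0, 2⟩))) (.node 2 (.node 1 (.one ⟨12991, 2, 4⟩) (.one ⟨221, 0, 4⟩)) (.node 1 (.one ⟨998, 2, 4⟩) (.one ⟨15130, 2, 1⟩)))) (.node 4 (.node 2 (.node 1 (.one ⟨12742, 0, 6⟩) (.one ⟨15949, 0, 6⟩)) (.node 1 (.one ⟨2736, 1, 6⟩) (.one ⟨6862, 0, 6⟩))) (.node 2 (.node 1 (.one ⟨16617, 2, 6⟩) (.one ⟨8367, 1, 3⟩))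 (.node 1 (.one ⟨1094, 0, 3⟩) (.one ⟨4721, 2, 2⟩))))) (.node 8 (.node 4 (.node 2 (.node 1 (.one ⟨10509, 0, 5⟩) (.one ⟨16967, 0, 5⟩)) (.node 1 (.one ⟨279, 2, 4⟩) (.one ⟨4190, 0, 3⟩))) (.node 2 (.node 1 (.one ⟨15399, 1, 6⟩) (.one ⟨3042, 0, 4⟩)) (.node 1 (.one ⟨17100, 2, 5⟩) (.one ⟨7839, 2, 4⟩)))) (.node 4 (.node 2 (.node 1 (.one ⟨9631, 2, 2⟩) (.one ⟨13010, 0, 3⟩)) (.node 1 (.one ⟨15806, 2, 5⟩) (.one ⟨10286, 2, 5⟩))) (.node 2 (.node 1 (.one ⟨7887, 0, 4⟩) (.one ⟨15936, 2, 3⟩)) (.node 1 (.one ⟨2100, 2, 5⟩) (.one ⟨9893, 0, 3⟩)))))))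
def par9_8_12 : Arr Par :=
  (.node 32 (.node 16 (.node 8 (.node 4 (.node 2 (.node 1 (.one ⟨14754, 1, 3⟩) (.one ⟨9664, 2, 4⟩)) (.node 1 (.one ⟨12121, 2, 5⟩) (.one ⟨10092, 0, 5⟩))) (.node 2 (.node 1 (.one ⟨2738, 1, 1⟩) (.one ⟨413, 0, 4⟩)) (.node 1 (.one ⟨1081, 0, 5⟩) (.one ⟨12968, 2, 5⟩)))) (.node 4 (.node 2 (.node 1 (.one ⟨5624, 0, 5⟩) (.one ⟨6404, 2, 3⟩)) (.node 1 (.one ⟨14705, 2, 3⟩) (.one ⟨7844, 2, 6⟩))) (.node 2 (.node 1 (.one ⟨14607, 0, 5⟩) (.one ⟨11354, 2, 4⟩)) (.node 1 (.one ⟨951, 2, 5⟩) (.one ⟨10599, 2, 3⟩))))) (.node 8 (.node 4 (.node 2 (.node 1 (.one ⟨8979, 0, 5⟩) (.one ⟨7941, 1, 4⟩)) (.node 1 (.one ⟨8977, 0, 5⟩) (.one ⟨6231, 2, 4⟩))) (.node 2 (.node 1 (.one ⟨13050, 1, 4⟩) (.one ⟨10900, 2, 2⟩)) (.node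 1 (.one ⟨8978, 0, 6⟩) (.one ⟨8284, 0, 6⟩)))) (.node 4 (.node 2 (.node 1 (.one ⟨12923, 2, 4⟩) (.one ⟨811, 2, 4⟩)) (.node 1 (.one ⟨14766, 2, 5⟩) (.one ⟨16577, 2, 6⟩))) (.node 2 (.node 1 (.one ⟨3754, 2, 6⟩) (.one ⟨11159, 2, 2⟩)) (.node 1 (.one ⟨6129, 2, 1⟩) (.one ⟨5525, 1, 5⟩)))))) (.node 16 (.node 8 (.node 4 (.node 2 (.node 1 (.one ⟨4667, 0, 6⟩) (.one ⟨736, 2, 4⟩)) (.node 1 (.one ⟨6857, 0, 1⟩) (.one ⟨14897, 0, 6⟩))) (.node 2 (.node 1 (.one ⟨15217, 2, 2⟩) (.one ⟨12737, 0, 6⟩)) (.node 1 (.one ⟨5375, 0, 3⟩) (.one ⟨7857, 2, 3⟩)))) (.node 4 (.node 2 (.node 1 (.one ⟨8999, 2, 4⟩) (.one ⟨3424, 2, 3⟩)) (.node 1 (.one ⟨1121, 2, 4⟩) (.one ⟨7842, 2, 3⟩))) (.node 2 (.node 1 (.one ⟨9007, 2, 4⟩) (.one ⟨3192, 2, 2⟩)) (.node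 1 (.one ⟨4759, 0, 4⟩) (.one ⟨12725, 2, 3⟩))))) (.node 8 (.node 4 (.node 2 (.node 1 (.one ⟨11869, 2, 5⟩) (.one ⟨16171, 2, 7⟩)) (.node 1 (.one ⟨16475, 2, 3⟩) (.one ⟨15490, 2, 5⟩))) (.node 2 (.node 1 (.one ⟨14517, 2, 5⟩) (.one ⟨10627, 2, 5⟩)) (.node 1 (.one ⟨11433, 2, 3⟩) (.one ⟨12032, 2, 6⟩)))) (.node 4 (.node 2 (.node 1 (.one ⟨5996, 2, 4⟩) (.one ⟨11882, 2, 2⟩)) (.node 1 (.one ⟨6856, 0, 3⟩) (.one ⟨1088, 0, 6⟩))) (.node 2 (.node 1 (.one ⟨6709, 2, 1⟩) (.one ⟨4666, 0, 3⟩)) (.node 1 (.one ⟨1842, 1, 5⟩) (.one ⟨9643, 0, 4⟩)))))))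
def par9_8_13 : Arr Par :=
  (.node 32 (.node 16 (.node 8 (.node 4 (.node 2 (.node 1 (.one ⟨8, 2, 2⟩) (.one ⟨5345, 0, 4⟩)) (.node 1 (.one ⟨4966, 2, 3⟩) (.one ⟨12971, 2, 5⟩))) (.node 2 (.node 1 (.one ⟨10150, 2, 4⟩) (.one ⟨10164, 2, 4⟩)) (.node 1 (.one ⟨12852, 2, 4⟩) (.one ⟨11363, 2, 1⟩)))) (.node 4 (.node 2 (.node 1 (.one ⟨12992, 2, 5⟩) (.one ⟨509, 2, 6⟩)) (.node 1 (.one ⟨4413, 2, 3⟩) (.one ⟨8046, 0, 3⟩))) (.node 2 (.node 1 (.one ⟨14299, 0, 2⟩) (.one ⟨9036, 2, 3⟩)) (.node 1 (.one ⟨5939, 1, 1⟩) (.one ⟨11366, 2, 4⟩))))) (.node 8 (.node 4 (.node 2 (.node 1 (.one ⟨6540, 2, 6⟩) (.one ⟨723, 2, 3⟩)) (.node 1 (.one ⟨15094, 2, 5⟩) (.one ⟨4978, 2, 4⟩))) (.node 2 (.node 1 (.one ⟨15802, 2, 6⟩) (.one ⟨12552, 2, 4⟩)) (.node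 1 (.one ⟨15401, 1, 6⟩) (.one ⟨14955, 1, 2⟩)))) (.node 4 (.node 2 (.node 1 (.one ⟨12788, 0, 6⟩) (.one ⟨8646, 0, 6⟩)) (.node 1 (.one ⟨9840, 2, 6⟩) (.one ⟨6554, 0, 5⟩))) (.node 2 (.node 1 (.one ⟨810, 2, 5⟩) (.one ⟨1762, 2, 5⟩)) (.node 1 (.one ⟨10495, 0, 6⟩) (.one ⟨12597, 1, 2⟩)))))) (.node 16 (.node 8 (.node 4 (.node 2 (.node 1 (.one ⟨7703, 2, 6⟩) (.one ⟨15478, 0, 3⟩)) (.node 1 (.one ⟨13962, 0, 5⟩) (.one ⟨7592, 2, 5⟩))) (.node 2 (.node 1 (.one ⟨10575, 2, 4⟩) (.one ⟨16712, 2, 5⟩)) (.node 1 (.one ⟨4068, 1, 2⟩) (.one ⟨3657, 2, 6⟩)))) (.node 4 (.node 2 (.node 1 (.one ⟨8560, 2, 4⟩) (.one ⟨12724, 2, 3⟩)) (.node 1 (.one ⟨15783, 2, 4⟩) (.one ⟨5946, 0, 3⟩))) (.node 2 (.node 1 (.one ⟨5944, 0, 4⟩) (.one ⟨5945, 0, 1⟩)) (.node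 1 (.one ⟨5943, 0, 1⟩) (.one ⟨15947, 0, 6⟩))))) (.node 8 (.node 4 (.node 2 (.node 1 (.one ⟨10008, 2, 4⟩) (.one ⟨12167, 0, 3⟩)) (.node 1 (.one ⟨14899, 0, 3⟩) (.one ⟨6859, 0, 6⟩))) (.node 2 (.node 1 (.one ⟨5523, 1, 6⟩) (.one ⟨3335, 0, 6⟩)) (.node 1 (.one ⟨7859, 0, 3⟩) (.one ⟨12648, 0, 5⟩)))) (.node 4 (.node 2 (.node 1 (.one ⟨16842, 0, 5⟩) (.one ⟨14273, 2, 3⟩)) (.node 1 (.one ⟨10437, 0, 4⟩) (.one ⟨12565, 0, 5⟩))) (.node 2 (.node 1 (.one ⟨16166, 0, 5⟩) (.one ⟨15633, 0, 2⟩)) (.node 1 (.one ⟨14274, 2, 6⟩) (.one ⟨15803, 2, 5⟩)))))))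
def par9_8_14 : Arr Par :=
  (.node 32 (.node 16 (.node 8 (.node 4 (.node 2 (.node 1 (.one ⟨3148, 0, 6⟩) (.one ⟨9087, 2, 6⟩)) (.node 1 (.one ⟨13838, 1, 4⟩) (.one ⟨8924, 2, 6⟩))) (.node 2 (.node 1 (.one ⟨11505, 2, 5⟩) (.one ⟨16035, 2, 5⟩)) (.node 1 (.one ⟨1207, 2, 1⟩) (.one ⟨17185, 0, 5⟩)))) (.node 4 (.node 2 (.node 1 (.one ⟨5959, 0, 1⟩) (.one ⟨4713, 0, 4⟩)) (.node 1 (.one ⟨10399, 0, 4⟩) (.one ⟨2514, 2, 4⟩))) (.node 2 (.node 1 (.one ⟨8499, 0, 1⟩) (.one ⟨8745, 1, 5⟩)) (.node 1 (.one ⟨13372, 2, 3⟩) (.one ⟨6556, 0, 5⟩))))) (.node 8 (.node 4 (.node 2 (.node 1 (.one ⟨14588, 0, 5⟩) (.one ⟨17193, 0, 5⟩)) (.node 1 (.one ⟨2150, 2, 6⟩) (.one ⟨12632, 0, 5⟩))) (.node 2 (.node 1 (.one ⟨4637, 0, 5⟩) (.one ⟨573, 0, 5⟩)) (.node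 1 (.one ⟨9383, 0, 5⟩) (.one ⟨12903, 1, 5⟩)))) (.node 4 (.node 2 (.node 1 (.one ⟨1433, 2, 3⟩) (.one ⟨13649, 2, 5⟩)) (.node 1 (.one ⟨5594, 2, 6⟩) (.one ⟨9100, 0, 2⟩))) (.node 2 (.node 1 (.one ⟨13668, 2, 5⟩) (.one ⟨12909, 1, 5⟩)) (.node 1 (.one ⟨9451, 2, 3⟩) (.one ⟨11545, 0, 5⟩)))))) (.node 16 (.node 8 (.node 4 (.node 2 (.node 1 (.one ⟨7950, 0, 4⟩) (.one ⟨13175, 0, 3⟩)) (.node 1 (.one ⟨5828, 0, 4⟩) (.one ⟨12240, 0, 3⟩))) (.node 2 (.node 1 (.one ⟨11187, 2, 3⟩) (.one ⟨10514, 0, 3⟩)) (.node 1 (.one ⟨1729, 1, 4⟩) (.one ⟨4054, 0, 4⟩)))) (.node 4 (.node 2 (.node 1 (.one ⟨12563, 0, 6⟩) (.one ⟨7149, 1, 5⟩)) (.node 1 (.one ⟨5029, 0, 6⟩) (.one ⟨7366, 2, 2⟩))) (.node 2 (.node 1 (.one ⟨15793, 2, 4⟩) (.one ⟨15174, 0, 2⟩))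 (.node 1 (.one ⟨163, 2, 4⟩) (.one ⟨9775, 2, 6⟩))))) (.node 8 (.node 4 (.node 2 (.node 1 (.one ⟨3828, 0, 5⟩) (.one ⟨6799, 2, 4⟩)) (.node 1 (.one ⟨10823, 1, 3⟩) (.one ⟨15398, 2, 6⟩))) (.node 2 (.node 1 (.one ⟨15714, 2, 2⟩) (.one ⟨5438, 1, 0⟩)) (.node 1 (.one ⟨3871, 1, 1⟩) (.one ⟨13189, 2, 2⟩)))) (.node 4 (.node 2 (.node 1 (.one ⟨9276, 2, 6⟩) (.one ⟨10892, 0, 6⟩)) (.node 1 (.one ⟨5396, 1, 0⟩) (.one ⟨15886, 2, 4⟩))) (.node 2 (.node 1 (.one ⟨15516, 2, 6⟩) (.one ⟨1904, 1, 1⟩)) (.node 1 (.one ⟨6618, 0, 6⟩) (.one ⟨656, 2, 5⟩)))))))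
def par9_8_15 : Arr Par :=
  (.node 32 (.node 16 (.node 8 (.node 4 (.node 2 (.node 1 (.one ⟨9774, 2, 3⟩) (.one ⟨13132, 0, 4⟩)) (.node 1 (.one ⟨16555, 2, 4⟩) (.one ⟨16776, 2, 5⟩))) (.node 2 (.node 1 (.one ⟨8665, 2, 6⟩) (.one ⟨10210, 2, 4⟩)) (.node 1 (.one ⟨2032, 2, 4⟩) (.one ⟨10779, 2, 4⟩)))) (.node 4 (.node 2 (.node 1 (.one ⟨5305, 0, 4⟩) (.one ⟨4428, 2, 5⟩)) (.node 1 (.one ⟨9975, 2, 5⟩) (.one ⟨10346, 2, 4⟩))) (.node 2 (.node 1 (.one ⟨3604, 2, 5⟩) (.one ⟨3515, 0, 2⟩)) (.node 1 (.one ⟨7346, 0, 4⟩) (.one ⟨3759, 0, 2⟩))))) (.node 8 (.node 4 (.node 2 (.node 1 (.one ⟨15960, 0, 2⟩) (.one ⟨8715, 0, 4⟩)) (.node 1 (.one ⟨12988, 0, 4⟩) (.one ⟨8525, 2, 3⟩))) (.node 2 (.node 1 (.one ⟨2056, 0, 5⟩) (.one ⟨530, 1, 5⟩)) (.node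 1 (.one ⟨2755, 2, 3⟩) (.one ⟨9711, 0, 2⟩)))) (.node 4 (.node 2 (.node 1 (.one ⟨5783, 0, 2⟩) (.one ⟨14699, 0, 2⟩)) (.node 1 (.one ⟨2831, 0, 2⟩) (.one ⟨10808, 0, 3⟩))) (.node 2 (.node 1 (.one ⟨13563, 2, 6⟩) (.one ⟨13909, 0, 4⟩)) (.node 1 (.one ⟨912, 0, 5⟩) (.one ⟨14708, 2, 5⟩)))))) (.node 16 (.node 8 (.node 4 (.node 2 (.node 1 (.one ⟨8679, 0, 4⟩) (.one ⟨12059, 2, 6⟩)) (.node 1 (.one ⟨5444, 1, 0⟩) (.one ⟨61, 1, 3⟩))) (.node 2 (.node 1 (.one ⟨4963, 1, 2⟩) (.one ⟨14091, 1, 2⟩)) (.node 1 (.one ⟨16517, 1, 4⟩) (.one ⟨8734, 1, 3⟩)))) (.node 4 (.node 2 (.node 1 (.one ⟨5844, 1, 2⟩) (.one ⟨12851, 1, 2⟩)) (.node 1 (.one ⟨10150, 1, 4⟩) (.one ⟨5139, 1, 0⟩))) (.node 2 (.node 1 (.one ⟨11295, 2, 6⟩) (.one ⟨16859, 2, 6⟩)) (.node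 1 (.one ⟨15758, 2, 6⟩) (.one ⟨3728, 2, 4⟩))))) (.node 8 (.node 4 (.node 2 (.node 1 (.one ⟨16655, 1, 2⟩) (.one ⟨5400, 1, 0⟩)) (.node 1 (.one ⟨1915, 2, 6⟩) (.one ⟨3124, 2, 5⟩))) (.node 2 (.node 1 (.one ⟨587, 0, 1⟩) (.one ⟨2849, 2, 7⟩)) (.node 1 (.one ⟨5073, 2, 3⟩) (.one ⟨5316, 2, 5⟩)))) (.node 4 (.node 2 (.node 1 (.one ⟨6059, 1, 4⟩) (.one ⟨9464, 0, 4⟩)) (.node 1 (.one ⟨3100, 2, 4⟩) (.one ⟨1377, 2, 3⟩))) (.node 2 (.node 1 (.one ⟨4127, 2, 3⟩) (.one ⟨290, 2, 3⟩)) (.node 1 (.one ⟨5907, 1, 4⟩) (.one ⟨4221, 1, 3⟩)))))))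
def par9_8 : Arr Par :=
  (.node 512 (.node 256 (.node 128 (.node 64 par9_8_0 par9_8_1) (.node 64 par9_8_2 par9_8_3)) (.node 128 (.node 64 par9_8_4 par9_8_5) (.node 64 par9_8_6 par9_8_7))) (.node 256 (.node 128 (.node 64 par9_8_8 par9_8_9) (.node 64 par9_8_10 par9_8_11)) (.node 128 (.node 64 par9_8_12 par9_8_13) (.node 64 par9_8_14 par9_8_15))))
def par9_9_0 : Arr Par :=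
  (.node 32 (.node 16 (.node 8 (.node 4 (.node 2 (.node 1 (.one ⟨8208, 1, 3⟩) (.one ⟨8760, 2, 4⟩)) (.node 1 (.one ⟨2871, 0, 3⟩) (.one ⟨3504, 2, 4⟩))) (.node 2 (.node 1 (.one ⟨6118, 0, 5⟩) (.one ⟨14997, 2, 4⟩)) (.node 1 (.one ⟨6019, 1, 3⟩) (.one ⟨11170, 2, 4⟩)))) (.node 4 (.node 2 (.node 1 (.one ⟨16004, 2, 5⟩) (.one ⟨8329, 2, 5⟩)) (.node 1 (.one ⟨3380, 2, 4⟩) (.one ⟨6285, 0, 5⟩))) (.node 2 (.node 1 (.one ⟨5045, 2, 4⟩) (.one ⟨11675, 0, 3⟩)) (.node 1 (.one ⟨13966, 2, 4⟩) (.one ⟨5044, 0, 2⟩))))) (.node 8 (.node 4 (.node 2 (.node 1 (.one ⟨14809, 0, 5⟩) (.one ⟨129, 2, 1⟩)) (.node 1 (.one ⟨13195, 1, 5⟩) (.one ⟨9345, 1, 6⟩))) (.node 2 (.node 1 (.one ⟨3537, 0, 2⟩) (.one ⟨13230, 1, 2⟩)) (.node 1 (.one ⟨2224, 2, 3⟩) (.one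 ⟨1103, 1, 2⟩)))) (.node 4 (.node 2 (.node 1 (.one ⟨578, 1, 1⟩) (.one ⟨1937, 2, 2⟩)) (.node 1 (.one ⟨1734, 2, 2⟩) (.one ⟨4662, 0, 6⟩))) (.node 2 (.node 1 (.one ⟨15487, 0, 4⟩) (.one ⟨14552, 1, 2⟩)) (.node 1 (.one ⟨2570, 2, 4⟩) (.one ⟨677, 0, 6⟩)))))) (.node 16 (.node 8 (.node 4 (.node 2 (.node 1 (.one ⟨9166, 2, 5⟩) (.one ⟨3567, 2, 1⟩)) (.node 1 (.one ⟨8687, 2, 3⟩) (.one ⟨6419, 0, 5⟩))) (.node 2 (.node 1 (.one ⟨12726, 2, 4⟩) (.one ⟨2739, 2, 1⟩)) (.node 1 (.one ⟨6067, 2, 1⟩) (.one ⟨803, 2, 3⟩)))) (.node 4 (.node 2 (.node 1 (.one ⟨7002, 1, 3⟩) (.one ⟨6799, 0, 4⟩)) (.node 1 (.one ⟨17099, 2, 1⟩) (.one ⟨4682, 2, 5⟩))) (.node 2 (.node 1 (.one ⟨16106, 1, 2⟩) (.one ⟨5006, 1, 0⟩)) (.node 1 (.one ⟨14599, 2, 1⟩) (.one ⟨14359,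 1, 4⟩))))) (.node 8 (.node 4 (.node 2 (.node 1 (.one ⟨11036, 2, 3⟩) (.one ⟨9458, 0, 4⟩)) (.node 1 (.one ⟨74, 0, 1⟩) (.one ⟨15388, 0, 5⟩))) (.node 2 (.node 1 (.one ⟨7278, 0, 5⟩) (.one ⟨1804, 2, 2⟩)) (.node 1 (.one ⟨9204, 0, 2⟩) (.one ⟨8825, 0, 3⟩)))) (.node 4 (.node 2 (.node 1 (.one ⟨12403, 2, 4⟩) (.one ⟨3872, 2, 2⟩)) (.node 1 (.one ⟨4866, 2, 4⟩) (.one ⟨13265, 2, 6⟩))) (.node 2 (.node 1 (.one ⟨12523, 2, 5⟩) (.one ⟨1227, 0, 5⟩)) (.node 1 (.one ⟨9550, 0, 4⟩) (.one ⟨16817, 2, 6⟩)))))))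
def par9_9_1 : Arr Par :=
  (.node 32 (.node 16 (.node 8 (.node 4 (.node 2 (.node 1 (.one ⟨13207, 2, 6⟩) (.one ⟨13694, 2, 5⟩)) (.node 1 (.one ⟨9467, 2, 6⟩) (.one ⟨5412, 1, 0⟩))) (.node 2 (.node 1 (.one ⟨5313, 1, 0⟩) (.one ⟨8463, 2, 4⟩)) (.node 1 (.one ⟨925, 0, 3⟩) (.one ⟨5394, 1, 0⟩)))) (.node 4 (.node 2 (.node 1 (.one ⟨9832, 2, 4⟩) (.one ⟨16966, 2, 6⟩)) (.node 1 (.one ⟨13355, 2, 5⟩) (.one ⟨5653, 2, 5⟩))) (.node 2 (.node 1 (.one ⟨5205, 1, 0⟩) (.one ⟨4545, 1, 1⟩)) (.node 1 (.one ⟨5145, 1, 0⟩) (.one ⟨16009, 0, 4⟩))))) (.node 8 (.node 4 (.node 2 (.node 1 (.one ⟨3641, 2, 6⟩) (.one ⟨6966, 0, 5⟩)) (.node 1 (.one ⟨7512, 2, 6⟩) (.one ⟨6508, 1, 4⟩))) (.node 2 (.node 1 (.one ⟨8765, 2, 5⟩) (.one ⟨10374, 1, 3⟩)) (.node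 1 (.one ⟨4898, 1, 0⟩) (.one ⟨4630, 2, 6⟩)))) (.node 4 (.node 2 (.node 1 (.one ⟨2717, 1, 3⟩) (.one ⟨14388, 1, 2⟩)) (.node 1 (.one ⟨5111, 1, 0⟩) (.one ⟨8294, 2, 6⟩))) (.node 2 (.node 1 (.one ⟨10147, 1, 2⟩) (.one ⟨9757, 0, 4⟩)) (.node 1 (.one ⟨5023, 1, 0⟩) (.one ⟨15199, 2, 1⟩)))))) (.node 16 (.node 8 (.node 4 (.node 2 (.node 1 (.one ⟨15211, 2, 3⟩) (.one ⟨14900, 2, 4⟩)) (.node 1 (.one ⟨14912, 2, 5⟩) (.one ⟨3583, 0, 6⟩))) (.node 2 (.node 1 (.one ⟨5018, 1, 0⟩) (.one ⟨7517, 1, 3⟩)) (.node 1 (.one ⟨7680, 1, 2⟩) (.one ⟨2099, 2, 1⟩)))) (.node 4 (.node 2 (.node 1 (.one ⟨2104, 2, 1⟩) (.one ⟨1004, 2, 3⟩)) (.node 1 (.one ⟨1090, 2, 5⟩) (.one ⟨7728, 2, 1⟩))) (.node 2 (.node 1 (.one ⟨5435, 1, 0⟩) (.one ⟨5246, 0, 5⟩)) (.node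 1 (.one ⟨7878, 2, 5⟩) (.one ⟨5385, 0, 3⟩))))) (.node 8 (.node 4 (.node 2 (.node 1 (.one ⟨14023, 1, 5⟩) (.one ⟨12434, 0, 4⟩)) (.node 1 (.one ⟨5548, 0, 2⟩) (.one ⟨15653, 2, 3⟩))) (.node 2 (.node 1 (.one ⟨2057, 0, 3⟩) (.one ⟨1901, 0, 4⟩)) (.node 1 (.one ⟨11181, 0, 2⟩) (.one ⟨12028, 0, 5⟩)))) (.node 4 (.node 2 (.node 1 (.one ⟨654, 2, 4⟩) (.one ⟨2384, 0, 2⟩)) (.node 1 (.one ⟨11212, 0, 2⟩) (.one ⟨1030, 0, 5⟩))) (.node 2 (.node 1 (.one ⟨8405, 2, 3⟩) (.one ⟨11658, 0, 2⟩)) (.node 1 (.one ⟨4726, 0, 2⟩) (.one ⟨8822, 1, 2⟩)))))))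
def par9_9_2 : Arr Par :=
  (.node 32 (.node 16 (.node 8 (.node 4 (.node 2 (.node 1 (.one ⟨16866, 1, 5⟩) (.one ⟨11846, 0, 5⟩)) (.node 1 (.one ⟨16005, 0, 4⟩) (.one ⟨6373, 2, 4⟩))) (.node 2 (.node 1 (.one ⟨8770, 1, 5⟩) (.one ⟨2958, 0, 2⟩)) (.node 1 (.one ⟨7021, 0, 4⟩) (.one ⟨2574, 2, 2⟩)))) (.node 4 (.node 2 (.node 1 (.one ⟨10544, 1, 2⟩) (.one ⟨63, 1, 1⟩)) (.node 1 (.one ⟨9588, 1, 6⟩) (.one ⟨6259, 2, 2⟩))) (.node 2 (.node 1 (.one ⟨5249, 1, 0⟩) (.one ⟨9240, 1, 2⟩)) (.node 1 (.one ⟨2090, 0, 2⟩) (.one ⟨5680, 2, 1⟩))))) (.node 8 (.node 4 (.node 2 (.node 1 (.one ⟨5696, 2, 1⟩) (.one ⟨3007, 2, 1⟩)) (.node 1 (.one ⟨2995, 2, 1⟩) (.one ⟨6689, 1, 3⟩))) (.node 2 (.node 1 (.one ⟨7574, 0, 5⟩) (.one ⟨16023, 1, 6⟩)) (.node 1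 (.one ⟨15944, 2, 5⟩) (.one ⟨2037, 1, 2⟩)))) (.node 4 (.node 2 (.node 1 (.one ⟨744, 0, 6⟩) (.one ⟨7292, 0, 5⟩)) (.node 1 (.one ⟨10752, 1, 2⟩) (.one ⟨4871, 1, 0⟩))) (.node 2 (.node 1 (.one ⟨5433, 1, 0⟩) (.one ⟨12264, 2, 1⟩)) (.node 1 (.one ⟨12259, 2, 1⟩) (.one ⟨14114, 2, 6⟩)))))) (.node 16 (.node 8 (.node 4 (.node 2 (.node 1 (.one ⟨11717, 2, 6⟩) (.one ⟨13452, 1, 3⟩)) (.node 1 (.one ⟨6507, 1, 3⟩) (.one ⟨5448, 1, 0⟩))) (.node 2 (.node 1 (.one ⟨16478, 0, 4⟩) (.one ⟨12267, 0, 5⟩)) (.node 1 (.one ⟨16515, 1, 4⟩) (.one ⟨8732, 1, 4⟩)))) (.node 4 (.node 2 (.node 1 (.one ⟨10148, 1, 2⟩) (.one ⟨14270, 2, 6⟩)) (.node 1 (.one ⟨5032, 0, 6⟩) (.one ⟨14387, 1, 2⟩))) (.node 2 (.node 1 (.one ⟨5203, 1, 2⟩) (.one ⟨5358, 1, 0⟩)) (.node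 1 (.one ⟨16344, 2, 5⟩) (.one ⟨15369, 2, 2⟩))))) (.node 8 (.node 4 (.node 2 (.node 1 (.one ⟨14211, 2, 2⟩) (.one ⟨4872, 0, 6⟩)) (.node 1 (.one ⟨11565, 2, 6⟩) (.one ⟨6484, 2, 4⟩))) (.node 2 (.node 1 (.one ⟨6749, 2, 3⟩) (.one ⟨2867, 2, 3⟩)) (.node 1 (.one ⟨2461, 2, 3⟩) (.one ⟨7939, 1, 4⟩)))) (.node 4 (.node 2 (.node 1 (.one ⟨15782, 0, 2⟩) (.one ⟨14178, 2, 6⟩)) (.node 1 (.one ⟨14345, 0, 5⟩) (.one ⟨15232, 0, 4⟩))) (.node 2 (.node 1 (.one ⟨3430, 2, 3⟩) (.one ⟨7156, 2, 4⟩)) (.node 1 (.one ⟨6086, 2, 3⟩) (.one ⟨12425, 2, 6⟩)))))))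
def par9_9_3 : Arr Par :=
  (.node 32 (.node 16 (.node 8 (.node 4 (.node 2 (.node 1 (.one ⟨15353, 2, 6⟩) (.one ⟨11558, 2, 4⟩)) (.node 1 (.one ⟨16296, 2, 3⟩) (.one ⟨6085, 2, 3⟩))) (.node 2 (.node 1 (.one ⟨4812, 2, 4⟩) (.one ⟨2818, 1, 4⟩)) (.node 1 (.one ⟨2622, 0, 3⟩) (.one ⟨4580, 0, 4⟩)))) (.node 4 (.node 2 (.node 1 (.one ⟨16625, 2, 2⟩) (.one ⟨17056, 0, 5⟩)) (.node 1 (.one ⟨1783, 0, 6⟩) (.one ⟨7599, 2, 4⟩))) (.node 2 (.node 1 (.one ⟨2869, 2, 6⟩) (.one ⟨6958, 0, 3⟩)) (.node 1 (.one ⟨3819, 2, 5⟩) (.one ⟨1219, 2, 6⟩))))) (.node 8 (.node 4 (.node 2 (.node 1 (.one ⟨5670, 2, 6⟩) (.one ⟨5483, 1, 1⟩)) (.node 1 (.one ⟨3294, 2, 4⟩) (.one ⟨3272, 2, 4⟩))) (.node 2 (.node 1 (.one ⟨11548, 0, 4⟩) (.one ⟨5647, 2, 4⟩)) (.node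 1 (.one ⟨10465, 1, 1⟩) (.one ⟨1724, 2, 2⟩)))) (.node 4 (.node 2 (.node 1 (.one ⟨8602, 0, 6⟩) (.one ⟨5174, 1, 0⟩)) (.node 1 (.one ⟨5225, 1, 0⟩) (.one ⟨3148, 2, 6⟩))) (.node 2 (.node 1 (.one ⟨7318, 2, 6⟩) (.one ⟨5137, 1, 0⟩)) (.node 1 (.one ⟨10854, 0, 6⟩) (.one ⟨8183, 0, 4⟩)))))) (.node 16 (.node 8 (.node 4 (.node 2 (.node 1 (.one ⟨11975, 0, 5⟩) (.one ⟨2061, 0, 3⟩)) (.node 1 (.one ⟨15652, 2, 3⟩) (.one ⟨1624, 0, 2⟩))) (.node 2 (.node 1 (.one ⟨13759, 0, 4⟩) (.one ⟨8291, 0, 4⟩)) (.node 1 (.one ⟨12564, 0, 5⟩) (.one ⟨14552, 0, 2⟩)))) (.node 4 (.node 2 (.node 1 (.one ⟨2729, 0, 2⟩) (.one ⟨787, 0, 5⟩)) (.node 1 (.one ⟨13908, 0, 6⟩) (.one ⟨11928, 0, 2⟩))) (.node 2 (.node 1 (.one ⟨7928, 0, 4⟩) (.one ⟨8139, 0, 5⟩)) (.node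 1 (.one ⟨8519, 2, 7⟩) (.one ⟨834, 2, 2⟩))))) (.node 8 (.node 4 (.node 2 (.node 1 (.one ⟨4051, 2, 2⟩) (.one ⟨1543, 0, 2⟩)) (.node 1 (.one ⟨1303, 0, 3⟩) (.one ⟨16444, 0, 5⟩))) (.node 2 (.node 1 (.one ⟨12447, 2, 3⟩) (.one ⟨13697, 1, 4⟩)) (.node 1 (.one ⟨10565, 1, 6⟩) (.one ⟨7281, 1, 4⟩)))) (.node 4 (.node 2 (.node 1 (.one ⟨9455, 0, 3⟩) (.one ⟨79, 0, 1⟩)) (.node 1 (.one ⟨4864, 2, 2⟩) (.one ⟨11045, 2, 5⟩))) (.node 2 (.node 1 (.one ⟨13521, 2, 6⟩) (.one ⟨6701, 0, 3⟩)) (.node 1 (.one ⟨9291, 2, 6⟩) (.one ⟨16391, 2, 1⟩)))))))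
def par9_9_4 : Arr Par :=
  (.node 32 (.node 16 (.node 8 (.node 4 (.node 2 (.node 1 (.one ⟨13196, 2, 1⟩) (.one ⟨9652, 1, 2⟩)) (.node 1 (.one ⟨14913, 2, 6⟩) (.one ⟨15563, 2, 1⟩))) (.node 2 (.node 1 (.one ⟨10311, 2, 1⟩) (.one ⟨4750, 1, 6⟩)) (.node 1 (.one ⟨899, 0, 6⟩) (.one ⟨7461, 1, 3⟩)))) (.node 4 (.node 2 (.node 1 (.one ⟨7988, 0, 3⟩) (.one ⟨7987, 2, 1⟩)) (.node 1 (.one ⟨4784, 2, 1⟩) (.one ⟨7875, 2, 4⟩))) (.node 2 (.node 1 (.one ⟨4340, 0, 4⟩) (.one ⟨7023, 2, 5⟩)) (.node 1 (.one ⟨1776, 2, 1⟩) (.one ⟨7476, 2, 2⟩))))) (.node 8 (.node 4 (.node 2 (.node 1 (.one ⟨13454, 1, 4⟩) (.one ⟨6236, 2, 5⟩)) (.node 1 (.one ⟨6665, 2, 6⟩) (.one ⟨60, 1, 4⟩))) (.node 2 (.node 1 (.one ⟨4964, 1, 3⟩) (.one ⟨5443, 1, 0⟩)) (.node 1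 (.one ⟨2542, 2, 6⟩) (.one ⟨12852, 1, 4⟩)))) (.node 4 (.node 2 (.node 1 (.one ⟨10149, 1, 3⟩) (.one ⟨10066, 0, 5⟩)) (.node 1 (.one ⟨7507, 2, 6⟩) (.one ⟨5205, 1, 4⟩))) (.node 2 (.node 1 (.one ⟨2715, 1, 2⟩) (.one ⟨3228, 2, 6⟩)) (.node 1 (.one ⟨5292, 1, 0⟩) (.one ⟨9706, 2, 6⟩)))))) (.node 16 (.node 8 (.node 4 (.node 2 (.node 1 (.one ⟨16276, 2, 6⟩) (.one ⟨4581, 0, 5⟩)) (.node 1 (.one ⟨14862, 0, 6⟩) (.one ⟨2121, 0, 6⟩))) (.node 2 (.node 1 (.one ⟨7602, 2, 3⟩) (.one ⟨5082, 2, 4⟩)) (.node 1 (.one ⟨6750, 2, 3⟩) (.one ⟨12893, 2, 3⟩)))) (.node 4 (.node 2 (.node 1 (.one ⟨15183, 2, 3⟩) (.one ⟨3981, 0, 2⟩)) (.node 1 (.one ⟨16189, 2, 2⟩) (.one ⟨4811, 2, 6⟩))) (.node 2 (.node 1 (.one ⟨7155, 2, 3⟩) (.one ⟨470, 2, 4⟩)) (.node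 1 (.one ⟨8171, 2, 4⟩) (.one ⟨2227, 2, 2⟩))))) (.node 8 (.node 4 (.node 2 (.node 1 (.one ⟨5963, 2, 5⟩) (.one ⟨1737, 0, 5⟩)) (.node 1 (.one ⟨12164, 0, 3⟩) (.one ⟨6524, 2, 4⟩))) (.node 2 (.node 1 (.one ⟨394, 2, 1⟩) (.one ⟨9389, 2, 1⟩)) (.node 1 (.one ⟨3180, 0, 5⟩) (.one ⟨2573, 2, 2⟩)))) (.node 4 (.node 2 (.node 1 (.one ⟨5414, 1, 0⟩) (.one ⟨9526, 1, 6⟩)) (.node 1 (.one ⟨611, 1, 1⟩) (.one ⟨6260, 2, 4⟩))) (.node 2 (.node 1 (.one ⟨4535, 1, 5⟩) (.one ⟨13926, 2, 4⟩)) (.node 1 (.one ⟨6312, 0, 5⟩) (.one ⟨9465, 0, 2⟩)))))))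
def par9_9_5 : Arr Par :=
  (.node 32 (.node 16 (.node 8 (.node 4 (.node 2 (.node 1 (.one ⟨1224, 0, 6⟩) (.one ⟨5431, 2, 3⟩)) (.node 1 (.one ⟨1446, 2, 1⟩) (.one ⟨1307, 0, 2⟩))) (.node 2 (.node 1 (.one ⟨9278, 0, 5⟩) (.one ⟨5217, 1, 0⟩)) (.node 1 (.one ⟨14139, 1, 4⟩) (.one ⟨1980, 2, 5⟩)))) (.node 4 (.node 2 (.node 1 (.one ⟨12974, 0, 5⟩) (.one ⟨9199, 0, 5⟩)) (.node 1 (.one ⟨1800, 2, 3⟩) (.one ⟨1919, 2, 3⟩))) (.node 2 (.node 1 (.one ⟨5238, 2, 7⟩) (.one ⟨5484, 2, 4⟩)) (.node 1 (.one ⟨435, 2, 3⟩) (.one ⟨13259, 1, 3⟩))))) (.node 8 (.node 4 (.node 2 (.node 1 (.one ⟨7847, 2, 4⟩) (.one ⟨8910, 2, 6⟩)) (.node 1 (.one ⟨1759, 2, 5⟩) (.one ⟨6127, 1, 1⟩))) (.node 2 (.node 1 (.one ⟨6341, 0, 6⟩) (.one ⟨7610, 2, 6⟩)) (.node 1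 (.one ⟨6561, 0, 4⟩) (.one ⟨1299, 2, 6⟩)))) (.node 4 (.node 2 (.node 1 (.one ⟨5284, 1, 0⟩) (.one ⟨3897, 1, 1⟩)) (.node 1 (.one ⟨8226, 2, 5⟩) (.one ⟨3352, 2, 6⟩))) (.node 2 (.node 1 (.one ⟨7787, 2, 6⟩) (.one ⟨5009, 1, 0⟩)) (.node 1 (.one ⟨5237, 1, 0⟩) (.one ⟨16326, 0, 4⟩)))))) (.node 16 (.node 8 (.node 4 (.node 2 (.node 1 (.one ⟨16391, 0, 1⟩) (.one ⟨4239, 0, 3⟩)) (.node 1 (.one ⟨4395, 0, 3⟩) (.one ⟨5629, 2, 4⟩))) (.node 2 (.node 1 (.one ⟨879, 0, 4⟩) (.one ⟨13726, 0, 3⟩)) (.node 1 (.one ⟨13647, 0, 3⟩) (.one ⟨10336, 1, 3⟩)))) (.node 4 (.node 2 (.node 1 (.one ⟨1524, 2, 2⟩) (.one ⟨12266, 2, 6⟩)) (.node 1 (.one ⟨68, 2, 1⟩) (.one ⟨4270, 0, 5⟩))) (.node 2 (.node 1 (.one ⟨9374, 2, 2⟩) (.one ⟨4153, 2, 6⟩)) (.node 1 (.one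 ⟨9320, 2, 2⟩) (.one ⟨6369, 2, 2⟩))))) (.node 8 (.node 4 (.node 2 (.node 1 (.one ⟨6526, 2, 4⟩) (.one ⟨2220, 2, 4⟩)) (.node 1 (.one ⟨148, 2, 1⟩) (.one ⟨10133, 0, 4⟩))) (.node 2 (.node 1 (.one ⟨8272, 0, 5⟩) (.one ⟨9232, 1, 6⟩)) (.node 1 (.one ⟨14038, 0, 5⟩) (.one ⟨10787, 0, 4⟩)))) (.node 4 (.node 2 (.node 1 (.one ⟨7921, 0, 4⟩) (.one ⟨3768, 0, 4⟩)) (.node 1 (.one ⟨14532, 0, 2⟩) (.one ⟨16557, 1, 2⟩))) (.node 2 (.node 1 (.one ⟨2389, 2, 4⟩) (.one ⟨5590, 2, 2⟩)) (.node 1 (.one ⟨8432, 1, 5⟩) (.one ⟨12821, 0, 2⟩)))))))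
def par9_9_6 : Arr Par :=
  (.node 32 (.node 16 (.node 8 (.node 4 (.node 2 (.node 1 (.one ⟨15713, 0, 4⟩) (.one ⟨2060, 0, 4⟩)) (.node 1 (.one ⟨7073, 0, 5⟩) (.one ⟨15532, 0, 4⟩))) (.node 2 (.node 1 (.one ⟨10488, 0, 2⟩) (.one ⟨3114, 2, 6⟩)) (.node 1 (.one ⟨1878, 2, 3⟩) (.one ⟨2997, 0, 2⟩)))) (.node 4 (.node 2 (.node 1 (.one ⟨6156, 0, 2⟩) (.one ⟨6663, 0, 5⟩)) (.node 1 (.one ⟨5772, 1, 5⟩) (.one ⟨9038, 0, 2⟩))) (.node 2 (.node 1 (.one ⟨4281, 0, 2⟩) (.one ⟨12078, 2, 3⟩)) (.node 1 (.one ⟨8142, 0, 3⟩) (.one ⟨14197, 2, 2⟩))))) (.node 8 (.node 4 (.node 2 (.node 1 (.one ⟨5304, 1, 0⟩) (.one ⟨12921, 2, 4⟩)) (.node 1 (.one ⟨12455, 2, 6⟩) (.one ⟨518, 2, 4⟩))) (.node 2 (.node 1 (.one ⟨3429, 2, 3⟩) (.one ⟨8512, 2, 3⟩)) (.node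 1 (.one ⟨8172, 2, 3⟩) (.one ⟨16658, 2, 3⟩)))) (.node 4 (.node 2 (.node 1 (.one ⟨3262, 0, 5⟩) (.one ⟨5485, 1, 0⟩)) (.node 1 (.one ⟨11451, 2, 5⟩) (.one ⟨5080, 2, 3⟩))) (.node 2 (.node 1 (.one ⟨3820, 2, 3⟩) (.one ⟨6485, 2, 3⟩)) (.node 1 (.one ⟨6748, 2, 3⟩) (.one ⟨5436, 0, 1⟩)))))) (.node 16 (.node 8 (.node 4 (.node 2 (.node 1 (.one ⟨10778, 0, 3⟩) (.one ⟨1645, 2, 3⟩)) (.node 1 (.one ⟨8158, 0, 4⟩) (.one ⟨15268, 2, 3⟩))) (.node 2 (.node 1 (.one ⟨497, 0, 4⟩) (.one ⟨16652, 2, 7⟩)) (.node 1 (.one ⟨15941, 0, 6⟩) (.one ⟨10437, 2, 4⟩)))) (.node 4 (.node 2 (.node 1 (.one ⟨4729, 1, 3⟩) (.one ⟨13697, 0, 4⟩)) (.node 1 (.one ⟨14986, 1, 4⟩) (.one ⟨6467, 0, 3⟩))) (.node 2 (.node 1 (.one ⟨7191, 2, 4⟩) (.one ⟨14136, 0, 4⟩)) (.node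 1 (.one ⟨9807, 2, 5⟩) (.one ⟨10235, 1, 2⟩))))) (.node 8 (.node 4 (.node 2 (.node 1 (.one ⟨16152, 2, 4⟩) (.one ⟨12435, 2, 6⟩)) (.node 1 (.one ⟨16684, 2, 7⟩) (.one ⟨7309, 2, 6⟩))) (.node 2 (.node 1 (.one ⟨1207, 0, 1⟩) (.one ⟨6381, 2, 4⟩)) (.node 1 (.one ⟨2848, 2, 5⟩) (.one ⟨3738, 2, 4⟩)))) (.node 4 (.node 2 (.node 1 (.one ⟨6151, 2, 4⟩) (.one ⟨14864, 2, 4⟩)) (.node 1 (.one ⟨12591, 2, 6⟩) (.one ⟨6095, 0, 3⟩))) (.node 2 (.node 1 (.one ⟨2938, 2, 3⟩) (.one ⟨9416, 2, 3⟩)) (.node 1 (.one ⟨8623, 0, 4⟩) (.one ⟨7126, 1, 4⟩)))))))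
def par9_9_7 : Arr Par :=
  (.node 32 (.node 16 (.node 8 (.node 4 (.node 2 (.node 1 (.one ⟨5431, 0, 3⟩) (.one ⟨9721, 2, 5⟩)) (.node 1 (.one ⟨7269, 2, 5⟩) (.one ⟨1635, 2, 6⟩))) (.node 2 (.node 1 (.one ⟨1282, 1, 4⟩) (.one ⟨122, 2, 3⟩)) (.node 1 (.one ⟨15276, 2, 5⟩) (.one ⟨15531, 1, 6⟩)))) (.node 4 (.node 2 (.node 1 (.one ⟨9096, 1, 2⟩) (.one ⟨15836, 0, 5⟩)) (.node 1 (.one ⟨16249, 1, 5⟩) (.one ⟨14064, 2, 6⟩))) (.node 2 (.node 1 (.one ⟨10389, 1, 4⟩) (.one ⟨13185, 1, 5⟩)) (.node 1 (.one ⟨17153, 0, 5⟩) (.one ⟨4913, 2, 4⟩))))) (.node 8 (.node 4 (.node 2 (.node 1 (.one ⟨15207, 2, 3⟩) (.one ⟨1530, 2, 5⟩)) (.node 1 (.one ⟨16345, 2, 6⟩) (.one ⟨15364, 2, 6⟩))) (.node 2 (.node 1 (.one ⟨5034, 2, 3⟩) (.one ⟨16396, 2, 4⟩))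 (.node 1 (.one ⟨1613, 2, 4⟩) (.one ⟨3106, 2, 4⟩)))) (.node 4 (.node 2 (.node 1 (.one ⟨12560, 2, 3⟩) (.one ⟨5146, 2, 4⟩)) (.node 1 (.one ⟨15563, 0, 1⟩) (.one ⟨10403, 2, 3⟩))) (.node 2 (.node 1 (.one ⟨11517, 0, 2⟩) (.one ⟨11908, 2, 4⟩)) (.node 1 (.one ⟨5848, 0, 4⟩) (.one ⟨67, 2, 3⟩)))))) (.node 16 (.node 8 (.node 4 (.node 2 (.node 1 (.one ⟨9178, 2, 3⟩) (.one ⟨10123, 0, 3⟩)) (.node 1 (.one ⟨1338, 2, 3⟩) (.one ⟨9983, 0, 2⟩))) (.node 2 (.node 1 (.one ⟨12392, 2, 5⟩) (.one ⟨12457, 2, 3⟩)) (.node 1 (.one ⟨4377, 2, 5⟩) (.one ⟨842, 2, 5⟩)))) (.node 4 (.node 2 (.node 1 (.one ⟨17040, 1, 2⟩) (.one ⟨828, 1, 4⟩)) (.node 1 (.one ⟨16673, 2, 5⟩) (.one ⟨9167, 0, 3⟩))) (.node 2 (.node 1 (.one ⟨9608, 0, 3⟩) (.one ⟨14556, 2, 6⟩))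 (.node 1 (.one ⟨2312, 2, 2⟩) (.one ⟨3567, 1, 1⟩))))) (.node 8 (.node 4 (.node 2 (.node 1 (.one ⟨195, 2, 6⟩) (.one ⟨13389, 2, 4⟩)) (.node 1 (.one ⟨14762, 2, 5⟩) (.one ⟨10357, 2, 6⟩))) (.node 2 (.node 1 (.one ⟨16019, 2, 4⟩) (.one ⟨7194, 2, 6⟩)) (.node 1 (.one ⟨4924, 2, 3⟩) (.one ⟨6927, 0, 3⟩)))) (.node 4 (.node 2 (.node 1 (.one ⟨1668, 1, 4⟩) (.one ⟨1945, 2, 4⟩)) (.node 1 (.one ⟨16802, 0, 5⟩) (.one ⟨2953, 1, 5⟩))) (.node 2 (.node 1 (.one ⟨13344, 0, 4⟩) (.one ⟨3246, 2, 6⟩)) (.node 1 (.one ⟨4240, 1, 4⟩) (.one ⟨13752, 2, 5⟩)))))))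
def par9_9_8 : Arr Par :=
  (.node 32 (.node 16 (.node 8 (.node 4 (.node 2 (.node 1 (.one ⟨2334, 2, 3⟩) (.one ⟨5157, 0, 4⟩)) (.node 1 (.one ⟨6388, 2, 3⟩) (.one ⟨9893, 2, 3⟩))) (.node 2 (.node 1 (.one ⟨7104, 0, 3⟩) (.one ⟨13700, 2, 5⟩)) (.node 1 (.one ⟨2457, 2, 4⟩) (.one ⟨12235, 0, 2⟩)))) (.node 4 (.node 2 (.node 1 (.one ⟨5757, 1, 6⟩) (.one ⟨9955, 0, 2⟩)) (.node 1 (.one ⟨9586, 0, 2⟩) (.one ⟨2060, 2, 4⟩))) (.node 2 (.node 1 (.one ⟨1849, 0, 3⟩) (.one ⟨3946, 0, 5⟩)) (.node 1 (.one ⟨14661, 2, 3⟩) (.one ⟨11817, 2, 4⟩))))) (.node 8 (.node 4 (.node 2 (.node 1 (.one ⟨221, 2, 4⟩) (.one ⟨13381, 2, 3⟩)) (.node 1 (.one ⟨3173, 2, 4⟩) (.one ⟨4276, 1, 2⟩))) (.node 2 (.node 1 (.one ⟨9181, 2, 5⟩) (.one ⟨5299, 2, 2⟩)) (.node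 1 (.one ⟨11240, 2, 4⟩) (.one ⟨13878, 2, 6⟩)))) (.node 4 (.node 2 (.node 1 (.one ⟨956, 0, 3⟩) (.one ⟨3006, 0, 6⟩)) (.node 1 (.one ⟨3016, 0, 2⟩) (.one ⟨16154, 2, 4⟩))) (.node 2 (.node 1 (.one ⟨13842, 0, 5⟩) (.one ⟨15001, 0, 3⟩)) (.node 1 (.one ⟨15013, 0, 4⟩) (.one ⟨16757, 2, 5⟩)))))) (.node 16 (.node 8 (.node 4 (.node 2 (.node 1 (.one ⟨5002, 2, 5⟩) (.one ⟨3494, 0, 5⟩)) (.node 1 (.one ⟨8110, 2, 4⟩) (.one ⟨4807, 0, 5⟩))) (.node 2 (.node 1 (.one ⟨4942, 0, 5⟩) (.one ⟨14341, 2, 3⟩)) (.node 1 (.one ⟨2458, 2, 3⟩) (.one ⟨6653, 1, 3⟩)))) (.node 4 (.node 2 (.node 1 (.one ⟨10183, 0, 6⟩) (.one ⟨2167, 2, 5⟩)) (.node 1 (.one ⟨11694, 2, 5⟩) (.one ⟨8972, 0, 6⟩))) (.node 2 (.node 1 (.one ⟨8761, 0, 3⟩) (.one ⟨17050, 1, 2⟩)) (.node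 1 (.one ⟨10214, 1, 2⟩) (.one ⟨1976, 2, 5⟩))))) (.node 8 (.node 4 (.node 2 (.node 1 (.one ⟨1239, 2, 5⟩) (.one ⟨2019, 2, 4⟩)) (.node 1 (.one ⟨1086, 2, 4⟩) (.one ⟨1968, 2, 4⟩))) (.node 2 (.node 1 (.one ⟨1263, 2, 3⟩) (.one ⟨9775, 0, 6⟩)) (.node 1 (.one ⟨9780, 0, 4⟩) (.one ⟨4138, 2, 7⟩)))) (.node 4 (.node 2 (.node 1 (.one ⟨6794, 0, 5⟩) (.one ⟨8106, 0, 4⟩)) (.node 1 (.one ⟨5113, 1, 4⟩) (.one ⟨5658, 2, 5⟩))) (.node 2 (.node 1 (.one ⟨7194, 0, 6⟩) (.one ⟨4196, 2, 7⟩)) (.node 1 (.one ⟨10177, 0, 5⟩) (.one ⟨4862, 0, 5⟩)))))))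
def par9_9_9 : Arr Par :=
  (.node 32 (.node 16 (.node 8 (.node 4 (.node 2 (.node 1 (.one ⟨13605, 2, 5⟩) (.one ⟨12777, 0, 3⟩)) (.node 1 (.one ⟨3014, 2, 6⟩) (.one ⟨4340, 2, 4⟩))) (.node 2 (.node 1 (.one ⟨6028, 0, 5⟩) (.one ⟨1354, 0, 4⟩)) (.node 1 (.one ⟨14225, 0, 6⟩) (.one ⟨3874, 2, 1⟩)))) (.node 4 (.node 2 (.node 1 (.one ⟨6382, 0, 4⟩) (.one ⟨6952, 0, 3⟩)) (.node 1 (.one ⟨4673, 2, 3⟩) (.one ⟨12759, 2, 3⟩))) (.node 2 (.node 1 (.one ⟨14594, 1, 3⟩) (.one ⟨4629, 0, 4⟩)) (.node 1 (.one ⟨11931, 2, 6⟩) (.one ⟨14767, 0, 4⟩))))) (.node 8 (.node 4 (.node 2 (.node 1 (.one ⟨16576, 0, 4⟩) (.one ⟨783, 0, 4⟩)) (.node 1 (.one ⟨3780, 0, 6⟩) (.one ⟨13179, 2, 3⟩))) (.node 2 (.node 1 (.one ⟨6563, 2, 3⟩) (.one ⟨11543, 2, 6⟩)) (.node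 1 (.one ⟨8198, 2, 5⟩) (.one ⟨15370, 2, 4⟩)))) (.node 4 (.node 2 (.node 1 (.one ⟨7113, 2, 7⟩) (.one ⟨1643, 2, 5⟩)) (.node 1 (.one ⟨9644, 2, 5⟩) (.one ⟨7693, 2, 7⟩))) (.node 2 (.node 1 (.one ⟨15718, 2, 7⟩) (.one ⟨15455, 0, 6⟩)) (.node 1 (.one ⟨5048, 2, 6⟩) (.one ⟨9126, 2, 5⟩)))))) (.node 16 (.node 8 (.node 4 (.node 2 (.node 1 (.one ⟨10485, 0, 2⟩) (.one ⟨625, 1, 3⟩)) (.node 1 (.one ⟨6929, 2, 3⟩) (.one ⟨8946, 0, 5⟩))) (.node 2 (.node 1 (.one ⟨3043, 2, 4⟩) (.one ⟨916, 1, 1⟩)) (.node 1 (.one ⟨267, 2, 5⟩) (.one ⟨6636, 2, 3⟩)))) (.node 4 (.node 2 (.node 1 (.one ⟨5318, 2, 3⟩) (.one ⟨8800, 2, 4⟩)) (.node 1 (.one ⟨2969, 2, 6⟩) (.one ⟨10026, 0, 5⟩))) (.node 2 (.node 1 (.one ⟨5973, 2, 3⟩) (.one ⟨12328, 0, 6⟩)) (.node 1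 (.one ⟨8351, 2, 3⟩) (.one ⟨15009, 0, 3⟩))))) (.node 8 (.node 4 (.node 2 (.node 1 (.one ⟨16500, 0, 5⟩) (.one ⟨10985, 0, 5⟩)) (.node 1 (.one ⟨12758, 0, 6⟩) (.one ⟨3749, 0, 5⟩))) (.node 2 (.node 1 (.one ⟨12010, 2, 5⟩) (.one ⟨7971, 0, 4⟩)) (.node 1 (.one ⟨10360, 2, 3⟩) (.one ⟨10710, 0, 3⟩)))) (.node 4 (.node 2 (.node 1 (.one ⟨7570, 0, 6⟩) (.one ⟨15502, 2, 5⟩)) (.node 1 (.one ⟨8452, 0, 2⟩) (.one ⟨16389, 2, 5⟩))) (.node 2 (.node 1 (.one ⟨16947, 0, 5⟩) (.one ⟨1963, 0, 2⟩)) (.node 1 (.one ⟨6896, 2, 5⟩) (.one ⟨14993, 1, 4⟩)))))))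
def par9_9_10 : Arr Par :=
  (.node 32 (.node 16 (.node 8 (.node 4 (.node 2 (.node 1 (.one ⟨9916, 2, 4⟩) (.one ⟨2141, 2, 4⟩)) (.node 1 (.one ⟨2619, 1, 3⟩) (.one ⟨16609, 0, 5⟩))) (.node 2 (.node 1 (.one ⟨11389, 2, 2⟩) (.one ⟨13775, 1, 4⟩)) (.node 1 (.one ⟨7359, 0, 6⟩) (.one ⟨9547, 2, 4⟩)))) (.node 4 (.node 2 (.node 1 (.one ⟨6397, 0, 3⟩) (.one ⟨4432, 1, 3⟩)) (.node 1 (.one ⟨2890, 2, 6⟩) (.one ⟨1932, 0, 3⟩))) (.node 2 (.node 1 (.one ⟨11269, 0, 4⟩) (.one ⟨1979, 0, 6⟩)) (.node 1 (.one ⟨4842, 2, 4⟩) (.one ⟨10600, 2, 1⟩))))) (.node 8 (.node 4 (.node 2 (.node 1 (.one ⟨5982, 2, 6⟩) (.one ⟨8185, 0, 4⟩)) (.node 1 (.one ⟨4103, 0, 4⟩) (.one ⟨16455, 2, 5⟩))) (.node 2 (.node 1 (.one ⟨5057, 2, 5⟩) (.one ⟨12792, 1, 4⟩)) (.node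 1 (.one ⟨17030, 0, 6⟩) (.one ⟨10198, 2, 4⟩)))) (.node 4 (.node 2 (.node 1 (.one ⟨12122, 0, 4⟩) (.one ⟨2097, 2, 6⟩)) (.node 1 (.one ⟨1308, 2, 5⟩) (.one ⟨2161, 2, 5⟩))) (.node 2 (.node 1 (.one ⟨11918, 0, 4⟩) (.one ⟨10262, 2, 6⟩)) (.node 1 (.one ⟨5479, 1, 0⟩) (.one ⟨7741, 2, 3⟩)))))) (.node 16 (.node 8 (.node 4 (.node 2 (.node 1 (.one ⟨6336, 1, 5⟩) (.one ⟨7569, 0, 2⟩)) (.node 1 (.one ⟨9372, 0, 1⟩) (.one ⟨3437, 1, 5⟩))) (.node 2 (.node 1 (.one ⟨9324, 0, 1⟩) (.one ⟨9262, 0, 2⟩)) (.node 1 (.one ⟨9479, 2, 4⟩) (.one ⟨181, 0, 4⟩)))) (.node 4 (.node 2 (.node 1 (.one ⟨6176, 0, 3⟩) (.one ⟨10084, 0, 5⟩)) (.node 1 (.one ⟨4165, 2, 2⟩) (.one ⟨14145, 0, 5⟩))) (.node 2 (.node 1 (.one ⟨4164, 2, 2⟩) (.one ⟨2010, 2, 4⟩)) (.node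 1 (.one ⟨4166, 2, 5⟩) (.one ⟨9203, 2, 6⟩))))) (.node 8 (.node 4 (.node 2 (.node 1 (.one ⟨16453, 2, 6⟩) (.one ⟨16370, 0, 5⟩)) (.node 1 (.one ⟨16435, 2, 6⟩) (.one ⟨2190, 0, 6⟩))) (.node 2 (.node 1 (.one ⟨1302, 2, 5⟩) (.one ⟨8411, 2, 5⟩)) (.node 1 (.one ⟨5251, 1, 0⟩) (.one ⟨5605, 0, 3⟩)))) (.node 4 (.node 2 (.node 1 (.one ⟨15368, 2, 5⟩) (.one ⟨4879, 2, 3⟩)) (.node 1 (.one ⟨16628, 2, 5⟩) (.one ⟨11610, 2, 4⟩))) (.node 2 (.node 1 (.one ⟨6440, 1, 3⟩) (.one ⟨10782, 2, 3⟩)) (.node 1 (.one ⟨6277, 2, 3⟩) (.one ⟨10042, 1, 4⟩)))))))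
def par9_9_11 : Arr Par :=
  (.node 32 (.node 16 (.node 8 (.node 4 (.node 2 (.node 1 (.one ⟨15311, 2, 4⟩) (.one ⟨6651, 1, 4⟩)) (.node 1 (.one ⟨8569, 2, 5⟩) (.one ⟨7278, 2, 5⟩))) (.node 2 (.node 1 (.one ⟨11573, 0, 5⟩) (.one ⟨14953, 1, 6⟩)) (.node 1 (.one ⟨17004, 0, 5⟩) (.one ⟨5059, 2, 3⟩)))) (.node 4 (.node 2 (.node 1 (.one ⟨7136, 0, 2⟩) (.one ⟨14889, 0, 5⟩)) (.node 1 (.one ⟨7494, 0, 2⟩) (.one ⟨7682, 2, 2⟩))) (.node 2 (.node 1 (.one ⟨1109, 0, 2⟩) (.one ⟨11373, 2, 5⟩)) (.node 1 (.one ⟨1839, 0, 6⟩) (.one ⟨1841, 0, 2⟩))))) (.node 8 (.node 4 (.node 2 (.node 1 (.one ⟨1502, 0, 2⟩) (.one ⟨16312, 1, 2⟩)) (.node 1 (.one ⟨9323, 0, 2⟩) (.one ⟨9371, 0, 1⟩))) (.node 2 (.node 1 (.one ⟨9920, 0, 5⟩) (.one ⟨1131, 0, 2⟩)) (.node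 1 (.one ⟨15308, 2, 3⟩) (.one ⟨14091, 2, 2⟩)))) (.node 4 (.node 2 (.node 1 (.one ⟨14936, 0, 4⟩) (.one ⟨10148, 2, 2⟩)) (.node 1 (.one ⟨4451, 0, 3⟩) (.one ⟨6774, 0, 4⟩))) (.node 2 (.node 1 (.one ⟨5845, 2, 3⟩) (.one ⟨10097, 2, 4⟩)) (.node 1 (.one ⟨50, 2, 4⟩) (.one ⟨5702, 0, 4⟩)))))) (.node 16 (.node 8 (.node 4 (.node 2 (.node 1 (.one ⟨14865, 2, 3⟩) (.one ⟨2939, 2, 4⟩)) (.node 1 (.one ⟨15604, 2, 3⟩) (.one ⟨1727, 2, 1⟩))) (.node 2 (.node 1 (.one ⟨14399, 2, 4⟩) (.one ⟨10671, 0, 3⟩)) (.node 1 (.one ⟨14071, 2, 4⟩) (.one ⟨16608, 0, 4⟩)))) (.node 4 (.node 2 (.node 1 (.one ⟨7419, 2, 6⟩) (.one ⟨7300, 2, 4⟩)) (.node 1 (.one ⟨1729, 2, 4⟩) (.one ⟨13996, 2, 4⟩))) (.node 2 (.node 1 (.one ⟨10888, 1, 4⟩) (.one ⟨11996, 1, 4⟩))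 (.node 1 (.one ⟨13697, 2, 4⟩) (.one ⟨2165, 2, 6⟩))))) (.node 8 (.node 4 (.node 2 (.node 1 (.one ⟨354, 2, 4⟩) (.one ⟨5806, 2, 4⟩)) (.node 1 (.one ⟨5979, 2, 6⟩) (.one ⟨13853, 2, 4⟩))) (.node 2 (.node 1 (.one ⟨14038, 2, 5⟩) (.one ⟨10233, 2, 2⟩)) (.node 1 (.one ⟨9158, 2, 5⟩) (.one ⟨2823, 0, 4⟩)))) (.node 4 (.node 2 (.node 1 (.one ⟨5962, 2, 1⟩) (.one ⟨5719, 0, 4⟩)) (.node 1 (.one ⟨5480, 2, 1⟩) (.one ⟨5801, 2, 2⟩))) (.node 2 (.node 1 (.one ⟨2401, 2, 4⟩) (.one ⟨5106, 2, 2⟩)) (.node 1 (.one ⟨8471, 2, 3⟩) (.one ⟨15199, 0, 1⟩)))))))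
def par9_9_12 : Arr Par :=
  (.node 32 (.node 16 (.node 8 (.node 4 (.node 2 (.node 1 (.one ⟨1976, 0, 5⟩) (.one ⟨711, 2, 3⟩)) (.node 1 (.one ⟨13546, 0, 5⟩) (.one ⟨4785, 0, 1⟩))) (.node 2 (.node 1 (.one ⟨16327, 0, 5⟩) (.one ⟨3021, 2, 6⟩)) (.node 1 (.one ⟨6897, 0, 4⟩) (.one ⟨13113, 1, 4⟩)))) (.node 4 (.node 2 (.node 1 (.one ⟨112, 2, 3⟩) (.one ⟨16165, 2, 4⟩)) (.node 1 (.one ⟨15230, 2, 5⟩) (.one ⟨15303, 2, 3⟩))) (.node 2 (.node 1 (.one ⟨5330, 1, 3⟩) (.one ⟨12912, 0, 5⟩)) (.node 1 (.one ⟨5485, 2, 1⟩) (.one ⟨9093, 2, 6⟩))))) (.node 8 (.node 4 (.node 2 (.node 1 (.one ⟨2081, 0, 5⟩) (.one ⟨10668, 2, 3⟩)) (.node 1 (.one ⟨13072, 2, 5⟩) (.one ⟨5067, 2, 3⟩))) (.node 2 (.node 1 (.one ⟨12856, 0, 6⟩) (.one ⟨14357, 2, 2⟩)) (.node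 1 (.one ⟨10493, 1, 2⟩) (.one ⟨323, 2, 1⟩)))) (.node 4 (.node 2 (.node 1 (.one ⟨649, 2, 3⟩) (.one ⟨339, 2, 5⟩)) (.node 1 (.one ⟨1214, 0, 5⟩) (.one ⟨14304, 1, 1⟩))) (.node 2 (.node 1 (.one ⟨15058, 0, 5⟩) (.one ⟨869, 2, 5⟩)) (.node 1 (.one ⟨136, 2, 5⟩) (.one ⟨9749, 2, 3⟩)))))) (.node 16 (.node 8 (.node 4 (.node 2 (.node 1 (.one ⟨8244, 0, 4⟩) (.one ⟨2913, 0, 3⟩)) (.node 1 (.one ⟨11650, 2, 3⟩) (.one ⟨3537, 2, 2⟩))) (.node 2 (.node 1 (.one ⟨15766, 2, 5⟩) (.one ⟨13880, 2, 6⟩)) (.node 1 (.one ⟨1906, 1, 1⟩) (.one ⟨16195, 2, 3⟩)))) (.node 4 (.node 2 (.node 1 (.one ⟨15051, 0, 4⟩) (.one ⟨16237, 2, 4⟩)) (.node 1 (.one ⟨861, 0, 4⟩) (.one ⟨11966, 2, 4⟩))) (.node 2 (.node 1 (.one ⟨3515, 1, 2⟩) (.one ⟨16004, 0, 5⟩)) (.node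 1 (.one ⟨14968, 0, 5⟩) (.one ⟨12820, 1, 2⟩))))) (.node 8 (.node 4 (.node 2 (.node 1 (.one ⟨6621, 1, 3⟩) (.one ⟨1725, 2, 4⟩)) (.node 1 (.one ⟨9896, 2, 4⟩) (.one ⟨13345, 0, 2⟩))) (.node 2 (.node 1 (.one ⟨1358, 2, 4⟩) (.one ⟨8201, 1, 4⟩)) (.node 1 (.one ⟨7299, 2, 4⟩) (.one ⟨15367, 2, 3⟩)))) (.node 4 (.node 2 (.node 1 (.one ⟨2251, 2, 3⟩) (.one ⟨16627, 2, 4⟩)) (.node 1 (.one ⟨9754, 0, 3⟩) (.one ⟨6252, 2, 5⟩))) (.node 2 (.node 1 (.one ⟨11294, 2, 6⟩) (.one ⟨7887, 2, 4⟩)) (.node 1 (.one ⟨13010, 2, 3⟩) (.one ⟨5510, 1, 3⟩)))))))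
def par9_9_13 : Arr Par :=
  (.node 32 (.node 16 (.node 8 (.node 4 (.node 2 (.node 1 (.one ⟨4848, 0, 2⟩) (.one ⟨13062, 2, 5⟩)) (.node 1 (.one ⟨4943, 0, 5⟩) (.one ⟨2159, 0, 3⟩))) (.node 2 (.node 1 (.one ⟨12129, 0, 4⟩) (.one ⟨121, 0, 2⟩)) (.node 1 (.one ⟨4936, 2, 3⟩) (.one ⟨9739, 2, 5⟩)))) (.node 4 (.node 2 (.node 1 (.one ⟨5756, 1, 6⟩) (.one ⟨9738, 2, 3⟩)) (.node 1 (.one ⟨3950, 0, 4⟩) (.one ⟨9737, 2, 3⟩))) (.node 2 (.node 1 (.one ⟨9735, 2, 3⟩) (.one ⟨1849, 1, 3⟩)) (.node 1 (.one ⟨12743, 0, 4⟩) (.one ⟨14241, 2, 4⟩))))) (.node 8 (.node 4 (.node 2 (.node 1 (.one ⟨14616, 0, 5⟩) (.one ⟨7682, 0, 2⟩)) (.node 1 (.one ⟨8257, 2, 4⟩) (.one ⟨10715, 1, 6⟩))) (.node 2 (.node 1 (.one ⟨12247, 1, 6⟩) (.one ⟨3560, 1, 6⟩)) (.node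 1 (.one ⟨827, 1, 6⟩) (.one ⟨15377, 2, 4⟩)))) (.node 4 (.node 2 (.node 1 (.one ⟨7673, 0, 4⟩) (.one ⟨15361, 2, 5⟩)) (.node 1 (.one ⟨523, 0, 4⟩) (.one ⟨9201, 1, 1⟩))) (.node 2 (.node 1 (.one ⟨15394, 2, 6⟩) (.one ⟨9421, 2, 4⟩)) (.node 1 (.one ⟨13832, 0, 3⟩) (.one ⟨6056, 0, 3⟩)))))) (.node 16 (.node 8 (.node 4 (.node 2 (.node 1 (.one ⟨10034, 0, 5⟩) (.one ⟨1244, 0, 5⟩)) (.node 1 (.one ⟨13948, 0, 3⟩) (.one ⟨8965, 0, 5⟩))) (.node 2 (.node 1 (.one ⟨12336, 2, 4⟩) (.one ⟨12338, 2, 4⟩)) (.node 1 (.one ⟨6420, 1, 3⟩) (.one ⟨5438, 1, 3⟩)))) (.node 4 (.node 2 (.node 1 (.one ⟨5974, 2, 4⟩) (.one ⟨2770, 2, 4⟩)) (.node 1 (.one ⟨11518, 0, 4⟩) (.one ⟨202, 2, 4⟩))) (.node 2 (.node 1 (.one ⟨13253, 0, 4⟩) (.one ⟨10611, 2, 3⟩)) (.node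 1 (.one ⟨7076, 2, 3⟩) (.one ⟨6058, 0, 3⟩))))) (.node 8 (.node 4 (.node 2 (.node 1 (.one ⟨14655, 0, 3⟩) (.one ⟨14594, 0, 3⟩)) (.node 1 (.one ⟨14574, 2, 4⟩) (.one ⟨3219, 2, 6⟩))) (.node 2 (.node 1 (.one ⟨11730, 0, 3⟩) (.one ⟨13207, 0, 6⟩)) (.node 1 (.one ⟨16204, 2, 2⟩) (.one ⟨6433, 2, 5⟩)))) (.node 4 (.node 2 (.node 1 (.one ⟨227, 2, 6⟩) (.one ⟨8979, 2, 5⟩)) (.node 1 (.one ⟨4564, 2, 4⟩) (.one ⟨4297, 1, 2⟩))) (.node 2 (.node 1 (.one ⟨3855, 0, 4⟩) (.one ⟨16429, 2, 5⟩)) (.node 1 (.one ⟨11854, 2, 5⟩) (.one ⟨5295, 0, 5⟩)))))))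
def par9_9_14 : Arr Par :=
  (.node 32 (.node 16 (.node 8 (.node 4 (.node 2 (.node 1 (.one ⟨13444, 0, 3⟩) (.one ⟨9330, 0, 3⟩)) (.node 1 (.one ⟨1429, 0, 3⟩) (.one ⟨9611, 0, 3⟩))) (.node 2 (.node 1 (.one ⟨15366, 1, 2⟩) (.one ⟨7749, 2, 5⟩)) (.node 1 (.one ⟨261, 1, 4⟩) (.one ⟨15965, 1, 4⟩)))) (.node 4 (.node 2 (.node 1 (.one ⟨13188, 2, 6⟩) (.one ⟨8073, 0, 4⟩)) (.node 1 (.one ⟨2773, 2, 5⟩) (.one ⟨17198, 0, 2⟩))) (.node 2 (.node 1 (.one ⟨13589, 2, 5⟩) (.one ⟨13982, 0, 6⟩)) (.node 1 (.one ⟨2879, 2, 5⟩) (.one ⟨6507, 2, 3⟩))))) (.node 8 (.node 4 (.node 2 (.node 1 (.one ⟨10270, 0, 4⟩) (.one ⟨16505, 2, 4⟩)) (.node 1 (.one ⟨5205, 2, 4⟩) (.one ⟨14389, 2, 4⟩))) (.node 2 (.node 1 (.one ⟨1592, 0, 4⟩) (.one ⟨6194, 1, 3⟩)) (.node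 1 (.one ⟨13451, 2, 2⟩) (.one ⟨148, 1, 1⟩)))) (.node 4 (.node 2 (.node 1 (.one ⟨3049, 2, 2⟩) (.one ⟨8135, 2, 4⟩)) (.node 1 (.one ⟨9976, 0, 2⟩) (.one ⟨15336, 0, 2⟩))) (.node 2 (.node 1 (.one ⟨14293, 2, 3⟩) (.one ⟨16528, 0, 2⟩)) (.node 1 (.one ⟨15996, 2, 4⟩) (.one ⟨5666, 2, 4⟩)))))) (.node 16 (.node 8 (.node 4 (.node 2 (.node 1 (.one ⟨8259, 2, 6⟩) (.one ⟨2211, 1, 4⟩)) (.node 1 (.one ⟨6140, 2, 4⟩) (.one ⟨2215, 1, 1⟩))) (.node 2 (.node 1 (.one ⟨4049, 1, 1⟩) (.one ⟨1087, 1, 2⟩)) (.node 1 (.one ⟨4224, 1, 3⟩) (.one ⟨12244, 0, 3⟩)))) (.node 4 (.node 2 (.node 1 (.one ⟨3178, 0, 4⟩) (.one ⟨4734, 2, 4⟩)) (.node 1 (.one ⟨13373, 2, 3⟩) (.one ⟨13664, 0, 5⟩))) (.node 2 (.node 1 (.one ⟨14983, 2, 4⟩) (.one ⟨12994, 0, 3⟩)) (.node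 1 (.one ⟨7097, 2, 5⟩) (.one ⟨10562, 0, 2⟩))))) (.node 8 (.node 4 (.node 2 (.node 1 (.one ⟨12256, 2, 5⟩) (.one ⟨3868, 0, 3⟩)) (.node 1 (.one ⟨13039, 2, 6⟩) (.one ⟨11470, 2, 4⟩))) (.node 2 (.node 1 (.one ⟨12199, 0, 3⟩) (.one ⟨3322, 1, 3⟩)) (.node 1 (.one ⟨1026, 0, 5⟩) (.one ⟨4484, 1, 1⟩)))) (.node 4 (.node 2 (.node 1 (.one ⟨285, 2, 5⟩) (.one ⟨12374, 2, 7⟩)) (.node 1 (.one ⟨10965, 2, 3⟩) (.one ⟨6240, 1, 3⟩))) (.node 2 (.node 1 (.one ⟨10807, 2, 5⟩) (.one ⟨918, 1, 2⟩)) (.node 1 (.one ⟨65, 0, 1⟩) (.one ⟨11734, 0, 4⟩)))))))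
def par9_9_15 : Arr Par :=
  (.node 32 (.node 16 (.node 8 (.node 4 (.node 2 (.node 1 (.one ⟨14800, 2, 3⟩) (.one ⟨5484, 0, 4⟩)) (.node 1 (.one ⟨17171, 0, 6⟩) (.one ⟨15791, 2, 4⟩))) (.node 2 (.node 1 (.one ⟨12472, 2, 4⟩) (.one ⟨283, 2, 6⟩)) (.node 1 (.one ⟨6458, 2, 2⟩) (.one ⟨15666, 2, 5⟩)))) (.node 4 (.node 2 (.node 1 (.one ⟨3122, 2, 3⟩) (.one ⟨15472, 2, 5⟩)) (.node 1 (.one ⟨3578, 2, 5⟩) (.one ⟨5927, 2, 3⟩))) (.node 2 (.node 1 (.one ⟨10135, 1, 2⟩) (.one ⟨8847, 2, 2⟩)) (.node 1 (.one ⟨9601, 2, 5⟩) (.one ⟨12537, 2, 4⟩))))) (.node 8 (.node 4 (.node 2 (.node 1 (.one ⟨13916, 1, 4⟩) (.one ⟨14899, 2, 3⟩)) (.node 1 (.one ⟨8647, 0, 3⟩) (.one ⟨5976, 0, 4⟩))) (.node 2 (.node 1 (.one ⟨11146, 2, 4⟩) (.one ⟨10450, 2, 4⟩))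 (.node 1 (.one ⟨13518, 0, 3⟩) (.one ⟨11068, 0, 3⟩)))) (.node 4 (.node 2 (.node 1 (.one ⟨9332, 2, 4⟩) (.one ⟨34, 0, 5⟩)) (.node 1 (.one ⟨9813, 2, 7⟩) (.one ⟨14733, 0, 5⟩))) (.node 2 (.node 1 (.one ⟨13292, 0, 4⟩) (.one ⟨6148, 0, 5⟩)) (.node 1 (.one ⟨4332, 0, 4⟩) (.one ⟨14901, 2, 3⟩)))))) (.node 16 (.node 8 (.node 4 (.node 2 (.node 1 (.one ⟨14306, 0, 1⟩) (.one ⟨5646, 2, 6⟩)) (.node 1 (.one ⟨14305, 0, 3⟩) (.one ⟨9898, 2, 3⟩))) (.node 2 (.node 1 (.one ⟨11533, 2, 4⟩) (.one ⟨3058, 2, 4⟩)) (.node 1 (.one ⟨14304, 0, 1⟩) (.one ⟨11968, 1, 4⟩)))) (.node 4 (.node 2 (.node 1 (.one ⟨14541, 2, 6⟩) (.one ⟨14578, 2, 4⟩)) (.node 1 (.one ⟨9201, 0, 1⟩) (.one ⟨13920, 2, 6⟩))) (.node 2 (.node 1 (.one ⟨4646, 2, 4⟩) (.one ⟨2789, 0,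 2⟩)) (.node 1 (.one ⟨10856, 0, 4⟩) (.one ⟨1590, 2, 5⟩))))) (.node 8 (.node 4 (.node 2 (.node 1 (.one ⟨11901, 0, 2⟩) (.one ⟨12825, 2, 2⟩)) (.node 1 (.one ⟨9772, 2, 4⟩) (.one ⟨12655, 2, 5⟩))) (.node 2 (.node 1 (.one ⟨9632, 2, 4⟩) (.one ⟨12636, 0, 4⟩)) (.node 1 (.one ⟨4857, 1, 6⟩) (.one ⟨348, 2, 5⟩)))) (.node 4 (.node 2 (.node 1 (.one ⟨9441, 2, 4⟩) (.one ⟨607, 0, 1⟩)) (.node 1 (.one ⟨12367, 2, 7⟩) (.one ⟨8167, 0, 1⟩))) (.node 2 (.node 1 (.one ⟨1563, 0, 1⟩) (.one ⟨3038, 2, 6⟩)) (.node 1 (.one ⟨11156, 2, 7⟩) (.one ⟨3179, 0, 5⟩)))))))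
def par9_9 : Arr Par :=
  (.node 512 (.node 256 (.node 128 (.node 64 par9_9_0 par9_9_1) (.node 64 par9_9_2 par9_9_3)) (.node 128 (.node 64 par9_9_4 par9_9_5) (.node 64 par9_9_6 par9_9_7))) (.node 256 (.node 128 (.node 64 par9_9_8 par9_9_9) (.node 64 par9_9_10 par9_9_11)) (.node 128 (.node 64 par9_9_12 par9_9_13) (.node 64 par9_9_14 par9_9_15))))
def par9_10_0 : Arr Par :=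
  (.node 32 (.node 16 (.node 8 (.node 4 (.node 2 (.node 1 (.one ⟨6867, 2, 4⟩) (.one ⟨16974, 2, 1⟩)) (.node 1 (.one ⟨9367, 0, 3⟩) (.one ⟨12834, 2, 4⟩))) (.node 2 (.node 1 (.one ⟨187, 2, 4⟩) (.one ⟨4161, 0, 3⟩)) (.node 1 (.one ⟨3472, 2, 6⟩) (.one ⟨10174, 1, 2⟩)))) (.node 4 (.node 2 (.node 1 (.one ⟨16502, 0, 2⟩) (.one ⟨2200, 1, 4⟩)) (.node 1 (.one ⟨15902, 2, 3⟩) (.one ⟨10233, 1, 2⟩))) (.node 2 (.node 1 (.one ⟨3126, 2, 3⟩) (.one ⟨2140, 1, 2⟩)) (.node 1 (.one ⟨11517, 2, 2⟩) (.one ⟨6249, 2, 4⟩))))) (.node 8 (.node 4 (.node 2 (.node 1 (.one ⟨2772, 1, 5⟩) (.one ⟨5346, 2, 5⟩)) (.node 1 (.one ⟨16245, 2, 4⟩) (.one ⟨8038, 2, 4⟩))) (.node 2 (.node 1 (.one ⟨12681, 2, 4⟩) (.one ⟨2856, 2, 6⟩)) (.node 1 (.one ⟨5446, 0, 5⟩)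 (.one ⟨14711, 0, 5⟩)))) (.node 4 (.node 2 (.node 1 (.one ⟨14246, 2, 6⟩) (.one ⟨7291, 0, 5⟩)) (.node 1 (.one ⟨5258, 1, 3⟩) (.one ⟨4364, 0, 5⟩))) (.node 2 (.node 1 (.one ⟨8516, 0, 5⟩) (.one ⟨16867, 2, 1⟩)) (.node 1 (.one ⟨17116, 0, 3⟩) (.one ⟨6005, 0, 4⟩)))))) (.node 16 (.node 8 (.node 4 (.node 2 (.node 1 (.one ⟨13860, 0, 4⟩) (.one ⟨7139, 2, 4⟩)) (.node 1 (.one ⟨15263, 2, 5⟩) (.one ⟨7107, 2, 6⟩))) (.node 2 (.node 1 (.one ⟨15232, 2, 4⟩) (.one ⟨5125, 1, 3⟩)) (.node 1 (.one ⟨1141, 2, 5⟩) (.one ⟨10560, 0, 3⟩)))) (.node 4 (.node 2 (.node 1 (.one ⟨5582, 1, 4⟩) (.one ⟨6904, 0, 4⟩)) (.node 1 (.one ⟨16659, 2, 4⟩) (.one ⟨16832, 1, 6⟩))) (.node 2 (.node 1 (.one ⟨8964, 1, 2⟩) (.one ⟨12521, 1, 6⟩)) (.node 1 (.one ⟨2980, 2,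 4⟩) (.one ⟨9636, 1, 5⟩))))) (.node 8 (.node 4 (.node 2 (.node 1 (.one ⟨13690, 2, 5⟩) (.one ⟨1640, 0, 6⟩)) (.node 1 (.one ⟨4293, 2, 4⟩) (.one ⟨13934, 0, 5⟩))) (.node 2 (.node 1 (.one ⟨3149, 2, 5⟩) (.one ⟨15253, 0, 6⟩)) (.node 1 (.one ⟨16594, 2, 4⟩) (.one ⟨11876, 1, 2⟩)))) (.node 4 (.node 2 (.node 1 (.one ⟨2837, 0, 5⟩) (.one ⟨480, 0, 2⟩)) (.node 1 (.one ⟨7817, 0, 4⟩) (.one ⟨10008, 0, 4⟩))) (.node 2 (.node 1 (.one ⟨5440, 2, 5⟩) (.one ⟨16651, 0, 3⟩)) (.node 1 (.one ⟨12197, 2, 7⟩) (.one ⟨12904, 0, 5⟩)))))))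
def par9_10_1 : Arr Par :=
  (.node 32 (.node 16 (.node 8 (.node 4 (.node 2 (.node 1 (.one ⟨2656, 2, 1⟩) (.one ⟨6883, 0, 5⟩)) (.node 1 (.one ⟨6342, 2, 5⟩) (.one ⟨5328, 1, 1⟩))) (.node 2 (.node 1 (.one ⟨6439, 2, 3⟩) (.one ⟨15383, 0, 5⟩)) (.node 1 (.one ⟨16079, 0, 4⟩) (.one ⟨4917, 1, 0⟩)))) (.node 4 (.node 2 (.node 1 (.one ⟨5232, 1, 0⟩) (.one ⟨11083, 2, 6⟩)) (.node 1 (.one ⟨1774, 2, 4⟩) (.one ⟨13844, 2, 6⟩))) (.node 2 (.node 1 (.one ⟨6974, 2, 5⟩) (.one ⟨645, 2, 5⟩)) (.node 1 (.one ⟨10990, 2, 5⟩) (.one ⟨3694, 0, 5⟩))))) (.node 8 (.node 4 (.node 2 (.node 1 (.one ⟨9041, 2, 4⟩) (.one ⟨6634, 2, 3⟩)) (.node 1 (.one ⟨2602, 0, 4⟩) (.one ⟨3817, 0, 5⟩))) (.node 2 (.node 1 (.one ⟨10266, 0, 4⟩) (.one ⟨12526, 0, 5⟩)) (.node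 1 (.one ⟨14750, 2, 5⟩) (.one ⟨5544, 2, 6⟩)))) (.node 4 (.node 2 (.node 1 (.one ⟨7508, 0, 4⟩) (.one ⟨15756, 0, 5⟩)) (.node 1 (.one ⟨2658, 2, 3⟩) (.one ⟨10072, 1, 5⟩))) (.node 2 (.node 1 (.one ⟨2664, 1, 2⟩) (.one ⟨6874, 2, 5⟩)) (.node 1 (.one ⟨7520, 1, 4⟩) (.one ⟨2034, 0, 2⟩)))))) (.node 16 (.node 8 (.node 4 (.node 2 (.node 1 (.one ⟨16106, 0, 2⟩) (.one ⟨8102, 0, 4⟩)) (.node 1 (.one ⟨39, 2, 4⟩) (.one ⟨2687, 1, 6⟩))) (.node 2 (.node 1 (.one ⟨3565, 1, 6⟩) (.one ⟨4363, 1, 6⟩)) (.node 1 (.one ⟨375, 1, 6⟩) (.one ⟨5684, 2, 6⟩)))) (.node 4 (.node 2 (.node 1 (.one ⟨7617, 0, 6⟩) (.one ⟨10251, 2, 3⟩)) (.node 1 (.one ⟨9473, 2, 3⟩) (.one ⟨14232, 2, 4⟩))) (.node 2 (.node 1 (.one ⟨11261, 0, 6⟩) (.one ⟨1718, 2, 7⟩)) (.node 1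 (.one ⟨16277, 1, 2⟩) (.one ⟨12358, 1, 3⟩))))) (.node 8 (.node 4 (.node 2 (.node 1 (.one ⟨14079, 0, 5⟩) (.one ⟨11320, 2, 3⟩)) (.node 1 (.one ⟨1446, 1, 1⟩) (.one ⟨4468, 0, 5⟩))) (.node 2 (.node 1 (.one ⟨11324, 2, 4⟩) (.one ⟨16221, 0, 5⟩)) (.node 1 (.one ⟨11621, 0, 5⟩) (.one ⟨8849, 2, 4⟩)))) (.node 4 (.node 2 (.node 1 (.one ⟨4508, 1, 2⟩) (.one ⟨16057, 2, 5⟩)) (.node 1 (.one ⟨10335, 2, 3⟩) (.one ⟨9324, 1, 1⟩))) (.node 2 (.node 1 (.one ⟨13089, 2, 6⟩) (.one ⟨1806, 1, 2⟩)) (.node 1 (.one ⟨973, 0, 6⟩) (.one ⟨13390, 2, 4⟩)))))))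
def par9_10_2 : Arr Par :=
  (.node 32 (.node 16 (.node 8 (.node 4 (.node 2 (.node 1 (.one ⟨14243, 2, 4⟩) (.one ⟨11089, 2, 6⟩)) (.node 1 (.one ⟨6611, 1, 4⟩) (.one ⟨5788, 1, 1⟩))) (.node 2 (.node 1 (.one ⟨4647, 0, 4⟩) (.one ⟨5951, 1, 1⟩)) (.node 1 (.one ⟨2960, 1, 2⟩) (.one ⟨1964, 0, 4⟩)))) (.node 4 (.node 2 (.node 1 (.one ⟨11431, 2, 3⟩) (.one ⟨4851, 2, 1⟩)) (.node 1 (.one ⟨14266, 2, 3⟩) (.one ⟨2450, 2, 3⟩))) (.node 2 (.node 1 (.one ⟨16550, 2, 4⟩) (.one ⟨10879, 0, 4⟩)) (.node 1 (.one ⟨12667, 0, 4⟩) (.one ⟨4179, 0, 5⟩))))) (.node 8 (.node 4 (.node 2 (.node 1 (.one ⟨1540, 2, 4⟩) (.one ⟨16622, 0, 4⟩)) (.node 1 (.one ⟨13655, 2, 3⟩) (.one ⟨2789, 2, 2⟩))) (.node 2 (.node 1 (.one ⟨15273, 0, 4⟩) (.one ⟨8340, 0, 3⟩))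 (.node 1 (.one ⟨1458, 0, 4⟩) (.one ⟨14930, 0, 3⟩)))) (.node 4 (.node 2 (.node 1 (.one ⟨8447, 0, 3⟩) (.one ⟨3649, 0, 4⟩)) (.node 1 (.one ⟨9698, 0, 4⟩) (.one ⟨12215, 1, 6⟩))) (.node 2 (.node 1 (.one ⟨9112, 0, 4⟩) (.one ⟨3921, 0, 3⟩)) (.node 1 (.one ⟨10609, 0, 4⟩) (.one ⟨5426, 1, 3⟩)))))) (.node 16 (.node 8 (.node 4 (.node 2 (.node 1 (.one ⟨12459, 0, 6⟩) (.one ⟨4794, 0, 6⟩)) (.node 1 (.one ⟨11561, 0, 6⟩) (.one ⟨3542, 1, 2⟩))) (.node 2 (.node 1 (.one ⟨7865, 2, 3⟩) (.one ⟨14112, 1, 2⟩)) (.node 1 (.one ⟨11300, 2, 3⟩) (.one ⟨587, 2, 1⟩)))) (.node 4 (.node 2 (.node 1 (.one ⟨12158, 2, 5⟩) (.one ⟨2591, 1, 2⟩)) (.node 1 (.one ⟨12206, 2, 4⟩) (.one ⟨14485, 1, 1⟩))) (.node 2 (.node 1 (.one ⟨12142, 2, 6⟩) (.one ⟨1307, 2,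 2⟩)) (.node 1 (.one ⟨12090, 2, 5⟩) (.one ⟨10719, 0, 3⟩))))) (.node 8 (.node 4 (.node 2 (.node 1 (.one ⟨12816, 0, 4⟩) (.one ⟨10038, 2, 5⟩)) (.node 1 (.one ⟨12580, 2, 5⟩) (.one ⟨1877, 2, 6⟩))) (.node 2 (.node 1 (.one ⟨1723, 0, 5⟩) (.one ⟨5016, 0, 4⟩)) (.node 1 (.one ⟨2471, 0, 3⟩) (.one ⟨144, 0, 4⟩)))) (.node 4 (.node 2 (.node 1 (.one ⟨878, 0, 3⟩) (.one ⟨853, 0, 6⟩)) (.node 1 (.one ⟨129, 0, 1⟩) (.one ⟨606, 0, 3⟩))) (.node 2 (.node 1 (.one ⟨16856, 2, 5⟩) (.one ⟨393, 0, 3⟩)) (.node 1 (.one ⟨16685, 2, 6⟩) (.one ⟨12282, 2, 5⟩)))))))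
def par9_10_3 : Arr Par :=
  (.node 32 (.node 16 (.node 8 (.node 4 (.node 2 (.node 1 (.one ⟨10795, 2, 3⟩) (.one ⟨11276, 0, 3⟩)) (.node 1 (.one ⟨3802, 0, 5⟩) (.one ⟨3594, 2, 5⟩))) (.node 2 (.node 1 (.one ⟨10601, 1, 1⟩) (.one ⟨2706, 0, 3⟩)) (.node 1 (.one ⟨16881, 2, 4⟩) (.one ⟨5093, 0, 5⟩)))) (.node 4 (.node 2 (.node 1 (.one ⟨8414, 0, 5⟩) (.one ⟨14883, 0, 4⟩)) (.node 1 (.one ⟨11782, 2, 6⟩) (.one ⟨11971, 2, 3⟩))) (.node 2 (.node 1 (.one ⟨4619, 0, 4⟩) (.one ⟨10860, 0, 4⟩)) (.node 1 (.one ⟨15444, 0, 4⟩) (.one ⟨11338, 1, 2⟩))))) (.node 8 (.node 4 (.node 2 (.node 1 (.one ⟨6277, 0, 3⟩) (.one ⟨6578, 2, 5⟩)) (.node 1 (.one ⟨10782, 0, 3⟩) (.one ⟨15764, 2, 5⟩))) (.node 2 (.node 1 (.one ⟨6907, 2, 6⟩) (.one ⟨8968, 1, 6⟩))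 (.node 1 (.one ⟨497, 2, 4⟩) (.one ⟨2746, 0, 5⟩)))) (.node 4 (.node 2 (.node 1 (.one ⟨10036, 2, 5⟩) (.one ⟨748, 2, 5⟩)) (.node 1 (.one ⟨15048, 2, 5⟩) (.one ⟨17175, 2, 5⟩))) (.node 2 (.node 1 (.one ⟨4124, 2, 5⟩) (.one ⟨14838, 0, 4⟩)) (.node 1 (.one ⟨8990, 2, 2⟩) (.one ⟨16373, 2, 6⟩)))))) (.node 16 (.node 8 (.node 4 (.node 2 (.node 1 (.one ⟨5121, 1, 0⟩) (.one ⟨5075, 1, 0⟩)) (.node 1 (.one ⟨10820, 1, 4⟩) (.one ⟨6971, 2, 5⟩))) (.node 2 (.node 1 (.one ⟨11023, 2, 5⟩) (.one ⟨13935, 2, 5⟩)) (.node 1 (.one ⟨993, 2, 5⟩) (.one ⟨9361, 0, 2⟩)))) (.node 4 (.node 2 (.node 1 (.one ⟨1120, 0, 2⟩) (.one ⟨88, 0, 1⟩)) (.node 1 (.one ⟨9472, 0, 2⟩) (.one ⟨8490, 2, 7⟩))) (.node 2 (.node 1 (.one ⟨16884, 2, 7⟩) (.one ⟨7745, 0, 5⟩)) (.node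 1 (.one ⟨1521, 2, 4⟩) (.one ⟨570, 2, 5⟩))))) (.node 8 (.node 4 (.node 2 (.node 1 (.one ⟨1062, 2, 5⟩) (.one ⟨115, 2, 5⟩)) (.node 1 (.one ⟨2430, 0, 5⟩) (.one ⟨1711, 1, 1⟩))) (.node 2 (.node 1 (.one ⟨1055, 2, 6⟩) (.one ⟨65, 2, 1⟩)) (.node 1 (.one ⟨619, 2, 4⟩) (.one ⟨66, 0, 1⟩)))) (.node 4 (.node 2 (.node 1 (.one ⟨4784, 1, 1⟩) (.one ⟨8136, 0, 6⟩)) (.node 1 (.one ⟨9284, 0, 1⟩) (.one ⟨16227, 0, 6⟩))) (.node 2 (.node 1 (.one ⟨1449, 0, 2⟩) (.one ⟨9437, 0, 1⟩)) (.node 1 (.one ⟨7310, 2, 7⟩) (.one ⟨10502, 2, 5⟩)))))))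
def par9_10_4 : Arr Par :=
  (.node 32 (.node 16 (.node 8 (.node 4 (.node 2 (.node 1 (.one ⟨16734, 2, 5⟩) (.one ⟨15417, 2, 4⟩)) (.node 1 (.one ⟨11832, 2, 4⟩) (.one ⟨16579, 2, 6⟩))) (.node 2 (.node 1 (.one ⟨2087, 0, 3⟩) (.one ⟨11729, 2, 5⟩)) (.node 1 (.one ⟨10786, 0, 4⟩) (.one ⟨10824, 2, 6⟩)))) (.node 4 (.node 2 (.node 1 (.one ⟨15501, 2, 4⟩) (.one ⟨7728, 0, 1⟩)) (.node 1 (.one ⟨471, 0, 3⟩) (.one ⟨3971, 2, 3⟩))) (.node 2 (.node 1 (.one ⟨7617, 2, 6⟩) (.one ⟨1945, 1, 4⟩)) (.node 1 (.one ⟨12633, 0, 3⟩) (.one ⟨6177, 1, 6⟩))))) (.node 8 (.node 4 (.node 2 (.node 1 (.one ⟨968, 0, 4⟩) (.one ⟨12508, 2, 4⟩)) (.node 1 (.one ⟨2731, 0, 2⟩) (.one ⟨442, 2, 4⟩))) (.node 2 (.node 1 (.one ⟨12888, 0, 4⟩) (.one ⟨16236, 0, 4⟩)) (.node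 1 (.one ⟨13402, 0, 4⟩) (.one ⟨15423, 0, 5⟩)))) (.node 4 (.node 2 (.node 1 (.one ⟨10801, 0, 5⟩) (.one ⟨3505, 0, 5⟩)) (.node 1 (.one ⟨8137, 0, 5⟩) (.one ⟨8784, 2, 6⟩))) (.node 2 (.node 1 (.one ⟨6226, 0, 2⟩) (.one ⟨16872, 0, 5⟩)) (.node 1 (.one ⟨12616, 0, 5⟩) (.one ⟨13866, 2, 3⟩)))))) (.node 16 (.node 8 (.node 4 (.node 2 (.node 1 (.one ⟨5445, 2, 7⟩) (.one ⟨11986, 2, 3⟩)) (.node 1 (.one ⟨16394, 0, 3⟩) (.one ⟨11166, 2, 6⟩))) (.node 2 (.node 1 (.one ⟨59, 0, 5⟩) (.one ⟨6271, 0, 3⟩)) (.node 1 (.one ⟨464, 2, 5⟩) (.one ⟨11857, 2, 5⟩)))) (.node 4 (.node 2 (.node 1 (.one ⟨1112, 0, 3⟩) (.one ⟨1320, 0, 3⟩)) (.node 1 (.one ⟨16444, 2, 5⟩) (.one ⟨5874, 1, 2⟩))) (.node 2 (.node 1 (.one ⟨10334, 0, 5⟩) (.one ⟨10294, 0, 5⟩)) (.node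 1 (.one ⟨578, 0, 1⟩) (.one ⟨6011, 2, 6⟩))))) (.node 8 (.node 4 (.node 2 (.node 1 (.one ⟨6129, 0, 1⟩) (.one ⟨9165, 2, 3⟩)) (.node 1 (.one ⟨6128, 0, 5⟩) (.one ⟨5761, 2, 6⟩))) (.node 2 (.node 1 (.one ⟨7401, 2, 5⟩) (.one ⟨10184, 2, 4⟩)) (.node 1 (.one ⟨6127, 0, 1⟩) (.one ⟨7191, 0, 4⟩)))) (.node 4 (.node 2 (.node 1 (.one ⟨4550, 2, 2⟩) (.one ⟨1835, 2, 4⟩)) (.node 1 (.one ⟨10353, 0, 4⟩) (.one ⟨12240, 2, 3⟩))) (.node 2 (.node 1 (.one ⟨13175, 2, 3⟩) (.one ⟨10514, 2, 3⟩)) (.node 1 (.one ⟨11545, 2, 5⟩) (.one ⟨6349, 2, 6⟩)))))))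
def par9_10_5 : Arr Par :=
  (.node 32 (.node 16 (.node 8 (.node 4 (.node 2 (.node 1 (.one ⟨9249, 0, 2⟩) (.one ⟨12049, 1, 2⟩)) (.node 1 (.one ⟨1489, 0, 1⟩) (.one ⟨11225, 1, 2⟩))) (.node 2 (.node 1 (.one ⟨9362, 0, 2⟩) (.one ⟨5240, 0, 5⟩)) (.node 1 (.one ⟨80, 0, 2⟩) (.one ⟨10472, 0, 3⟩)))) (.node 4 (.node 2 (.node 1 (.one ⟨11898, 0, 4⟩) (.one ⟨2280, 2, 4⟩)) (.node 1 (.one ⟨2876, 0, 4⟩) (.one ⟨9525, 2, 2⟩))) (.node 2 (.node 1 (.one ⟨9594, 2, 3⟩) (.one ⟨9240, 2, 2⟩)) (.node 1 (.one ⟨4261, 0, 5⟩) (.one ⟨4723, 2, 3⟩))))) (.node 8 (.node 4 (.node 2 (.node 1 (.one ⟨15990, 2, 4⟩) (.one ⟨6175, 1, 6⟩)) (.node 1 (.one ⟨1025, 2, 4⟩) (.one ⟨17164, 2, 5⟩))) (.node 2 (.node 1 (.one ⟨8412, 0, 5⟩) (.one ⟨1215, 0, 5⟩)) (.node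 1 (.one ⟨15494, 0, 6⟩) (.one ⟨2339, 1, 6⟩)))) (.node 4 (.node 2 (.node 1 (.one ⟨14657, 0, 4⟩) (.one ⟨3089, 2, 4⟩)) (.node 1 (.one ⟨12502, 2, 4⟩) (.one ⟨13120, 2, 4⟩))) (.node 2 (.node 1 (.one ⟨15170, 0, 3⟩) (.one ⟨12474, 2, 4⟩)) (.node 1 (.one ⟨3025, 2, 5⟩) (.one ⟨16930, 2, 5⟩)))))) (.node 16 (.node 8 (.node 4 (.node 2 (.node 1 (.one ⟨12051, 0, 2⟩) (.one ⟨10698, 1, 2⟩)) (.node 1 (.one ⟨16315, 0, 1⟩) (.one ⟨5908, 0, 5⟩))) (.node 2 (.node 1 (.one ⟨7766, 2, 6⟩) (.one ⟨10696, 1, 6⟩)) (.node 1 (.one ⟨2699, 2, 6⟩) (.one ⟨7086, 1, 2⟩)))) (.node 4 (.node 2 (.node 1 (.one ⟨4924, 1, 0⟩) (.one ⟨5234, 1, 0⟩)) (.node 1 (.one ⟨7455, 0, 5⟩) (.one ⟨292, 2, 5⟩))) (.node 2 (.node 1 (.one ⟨13940, 2, 6⟩) (.one ⟨7046, 2, 5⟩)) (.node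 1 (.one ⟨10983, 2, 6⟩) (.one ⟨472, 0, 3⟩))))) (.node 8 (.node 4 (.node 2 (.node 1 (.one ⟨6120, 2, 3⟩) (.one ⟨12457, 0, 3⟩)) (.node 1 (.one ⟨7806, 2, 3⟩) (.one ⟨12026, 1, 2⟩))) (.node 2 (.node 1 (.one ⟨15342, 1, 4⟩) (.one ⟨3452, 2, 3⟩)) (.node 1 (.one ⟨8091, 2, 7⟩) (.one ⟨13422, 2, 4⟩)))) (.node 4 (.node 2 (.node 1 (.one ⟨14122, 2, 5⟩) (.one ⟨82, 1, 1⟩)) (.node 1 (.one ⟨8652, 0, 3⟩) (.one ⟨7432, 0, 5⟩))) (.node 2 (.node 1 (.one ⟨14573, 1, 2⟩) (.one ⟨6162, 2, 4⟩)) (.node 1 (.one ⟨6469, 1, 2⟩) (.one ⟨861, 2, 4⟩)))))))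
def par9_10_6 : Arr Par :=
  (.node 32 (.node 16 (.node 8 (.node 4 (.node 2 (.node 1 (.one ⟨6960, 2, 5⟩) (.one ⟨14726, 0, 6⟩)) (.node 1 (.one ⟨12768, 2, 4⟩) (.one ⟨7944, 2, 4⟩))) (.node 2 (.node 1 (.one ⟨4893, 2, 5⟩) (.one ⟨14729, 0, 4⟩)) (.node 1 (.one ⟨14973, 2, 4⟩) (.one ⟨5067, 0, 3⟩)))) (.node 4 (.node 2 (.node 1 (.one ⟨3864, 0, 4⟩) (.one ⟨3533, 2, 3⟩)) (.node 1 (.one ⟨12309, 0, 3⟩) (.one ⟨14569, 0, 3⟩))) (.node 2 (.node 1 (.one ⟨14805, 0, 5⟩) (.one ⟨6242, 2, 2⟩)) (.node 1 (.one ⟨13798, 2, 4⟩) (.one ⟨10474, 0, 3⟩))))) (.node 8 (.node 4 (.node 2 (.node 1 (.one ⟨15730, 2, 3⟩) (.one ⟨4888, 2, 4⟩)) (.node 1 (.one ⟨12825, 0, 2⟩) (.one ⟨12007, 1, 4⟩))) (.node 2 (.node 1 (.one ⟨422, 2, 3⟩) (.one ⟨6074, 1, 2⟩))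 (.node 1 (.one ⟨7447, 0, 5⟩) (.one ⟨12647, 0, 3⟩)))) (.node 4 (.node 2 (.node 1 (.one ⟨10608, 0, 4⟩) (.one ⟨4820, 0, 6⟩)) (.node 1 (.one ⟨17125, 1, 3⟩) (.one ⟨14035, 2, 4⟩))) (.node 2 (.node 1 (.one ⟨3921, 2, 3⟩) (.one ⟨1860, 0, 4⟩)) (.node 1 (.one ⟨16417, 2, 2⟩) (.one ⟨5319, 0, 5⟩)))))) (.node 16 (.node 8 (.node 4 (.node 2 (.node 1 (.one ⟨6105, 1, 6⟩) (.one ⟨16871, 0, 3⟩)) (.node 1 (.one ⟨4001, 0, 4⟩) (.one ⟨2919, 0, 5⟩))) (.node 2 (.node 1 (.one ⟨14032, 0, 3⟩) (.one ⟨14735, 0, 3⟩)) (.node 1 (.one ⟨26, 0, 3⟩) (.one ⟨13497, 0, 4⟩)))) (.node 4 (.node 2 (.node 1 (.one ⟨7452, 0, 4⟩) (.one ⟨4661, 0, 5⟩)) (.node 1 (.one ⟨14970, 0, 5⟩) (.one ⟨12067, 2, 4⟩))) (.node 2 (.node 1 (.one ⟨13004, 1, 2⟩) (.one ⟨15991, 0,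 4⟩)) (.node 1 (.one ⟨1007, 0, 4⟩) (.one ⟨9100, 1, 2⟩))))) (.node 8 (.node 4 (.node 2 (.node 1 (.one ⟨618, 2, 3⟩) (.one ⟨15152, 2, 3⟩)) (.node 1 (.one ⟨9233, 2, 2⟩) (.one ⟨15388, 2, 5⟩))) (.node 2 (.node 1 (.one ⟨13658, 0, 5⟩) (.one ⟨7289, 2, 6⟩)) (.node 1 (.one ⟨730, 0, 2⟩) (.one ⟨2857, 2, 5⟩)))) (.node 4 (.node 2 (.node 1 (.one ⟨16189, 1, 2⟩) (.one ⟨685, 1, 3⟩)) (.node 1 (.one ⟨7100, 2, 5⟩) (.one ⟨3990, 2, 7⟩))) (.node 2 (.node 1 (.one ⟨12275, 2, 4⟩) (.one ⟨16134, 2, 5⟩)) (.node 1 (.one ⟨7762, 2, 3⟩) (.one ⟨1301, 2, 6⟩)))))))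
def par9_10_7 : Arr Par :=
  (.node 32 (.node 16 (.node 8 (.node 4 (.node 2 (.node 1 (.one ⟨9910, 1, 1⟩) (.one ⟨15586, 2, 6⟩)) (.node 1 (.one ⟨7510, 2, 4⟩) (.one ⟨9204, 2, 2⟩))) (.node 2 (.node 1 (.one ⟨8168, 0, 4⟩) (.one ⟨7495, 2, 5⟩)) (.node 1 (.one ⟨15548, 2, 5⟩) (.one ⟨893, 2, 6⟩)))) (.node 4 (.node 2 (.node 1 (.one ⟨4448, 0, 5⟩) (.one ⟨992, 0, 3⟩)) (.node 1 (.one ⟨12128, 1, 1⟩) (.one ⟨1562, 0, 4⟩))) (.node 2 (.node 1 (.one ⟨12364, 2, 4⟩) (.one ⟨13741, 2, 4⟩)) (.node 1 (.one ⟨4411, 0, 4⟩) (.one ⟨13259, 2, 3⟩))))) (.node 8 (.node 4 (.node 2 (.node 1 (.one ⟨7735, 2, 1⟩) (.one ⟨15040, 0, 6⟩)) (.node 1 (.one ⟨5021, 2, 5⟩) (.one ⟨281, 2, 4⟩))) (.node 2 (.node 1 (.one ⟨3471, 0, 4⟩) (.one ⟨7987, 0, 1⟩)) (.node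 1 (.one ⟨7818, 1, 2⟩) (.one ⟨14002, 0, 5⟩)))) (.node 4 (.node 2 (.node 1 (.one ⟨11791, 2, 4⟩) (.one ⟨3564, 0, 6⟩)) (.node 1 (.one ⟨11597, 2, 6⟩) (.one ⟨7601, 0, 5⟩))) (.node 2 (.node 1 (.one ⟨7989, 0, 5⟩) (.one ⟨10269, 0, 2⟩)) (.node 1 (.one ⟨15755, 2, 6⟩) (.one ⟨11932, 1, 2⟩)))))) (.node 16 (.node 8 (.node 4 (.node 2 (.node 1 (.one ⟨1509, 1, 4⟩) (.one ⟨7139, 0, 4⟩)) (.node 1 (.one ⟨7388, 2, 5⟩) (.one ⟨5042, 0, 4⟩))) (.node 2 (.node 1 (.one ⟨6512, 0, 5⟩) (.one ⟨12618, 2, 4⟩)) (.node 1 (.one ⟨13184, 0, 4⟩) (.one ⟨1118, 2, 3⟩)))) (.node 4 (.node 2 (.node 1 (.one ⟨3174, 2, 6⟩) (.one ⟨194, 2, 4⟩)) (.node 1 (.one ⟨4768, 0, 4⟩) (.one ⟨12552, 0, 4⟩))) (.node 2 (.node 1 (.one ⟨13625, 2, 6⟩) (.one ⟨5299, 0, 2⟩)) (.node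 1 (.one ⟨13617, 2, 5⟩) (.one ⟨12200, 2, 5⟩))))) (.node 8 (.node 4 (.node 2 (.node 1 (.one ⟨7023, 0, 5⟩) (.one ⟨7487, 0, 6⟩)) (.node 1 (.one ⟨11093, 2, 5⟩) (.one ⟨834, 1, 2⟩))) (.node 2 (.node 1 (.one ⟨14686, 0, 5⟩) (.one ⟨3039, 2, 5⟩)) (.node 1 (.one ⟨9152, 2, 4⟩) (.one ⟨10135, 2, 2⟩)))) (.node 4 (.node 2 (.node 1 (.one ⟨12300, 2, 6⟩) (.one ⟨10137, 2, 5⟩)) (.node 1 (.one ⟨15312, 0, 4⟩) (.one ⟨10142, 2, 5⟩))) (.node 2 (.node 1 (.one ⟨12297, 2, 7⟩) (.one ⟨14944, 0, 4⟩)) (.node 1 (.one ⟨12298, 2, 4⟩) (.one ⟨9935, 2, 3⟩)))))))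
def par9_10_8 : Arr Par :=
  (.node 32 (.node 16 (.node 8 (.node 4 (.node 2 (.node 1 (.one ⟨16974, 0, 1⟩) (.one ⟨5290, 2, 3⟩)) (.node 1 (.one ⟨15916, 0, 3⟩) (.one ⟨13173, 2, 5⟩))) (.node 2 (.node 1 (.one ⟨16817, 0, 6⟩) (.one ⟨2027, 2, 5⟩)) (.node 1 (.one ⟨13577, 2, 5⟩) (.one ⟨5221, 1, 0⟩)))) (.node 4 (.node 2 (.node 1 (.one ⟨5514, 1, 0⟩) (.one ⟨5354, 1, 0⟩)) (.node 1 (.one ⟨5197, 1, 0⟩) (.one ⟨429, 2, 5⟩))) (.node 2 (.node 1 (.one ⟨7043, 2, 5⟩) (.one ⟨13841, 2, 5⟩)) (.node 1 (.one ⟨11027, 2, 5⟩) (.one ⟨5676, 1, 2⟩))))) (.node 8 (.node 4 (.node 2 (.node 1 (.one ⟨9001, 0, 4⟩) (.one ⟨4768, 1, 4⟩)) (.node 1 (.one ⟨16209, 2, 5⟩) (.one ⟨11421, 0, 4⟩))) (.node 2 (.node 1 (.one ⟨3276, 2, 4⟩) (.one ⟨5267, 0, 4⟩)) (.node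 1 (.one ⟨15295, 0, 5⟩) (.one ⟨14151, 0, 4⟩)))) (.node 4 (.node 2 (.node 1 (.one ⟨8169, 2, 3⟩) (.one ⟨8450, 2, 3⟩)) (.node 1 (.one ⟨5649, 2, 2⟩) (.one ⟨2527, 2, 3⟩))) (.node 2 (.node 1 (.one ⟨5368, 2, 1⟩) (.one ⟨11111, 0, 4⟩)) (.node 1 (.one ⟨3095, 2, 2⟩) (.one ⟨9929, 1, 6⟩)))))) (.node 16 (.node 8 (.node 4 (.node 2 (.node 1 (.one ⟨4398, 2, 6⟩) (.one ⟨12920, 2, 6⟩)) (.node 1 (.one ⟨3102, 2, 3⟩) (.one ⟨2658, 1, 3⟩))) (.node 2 (.node 1 (.one ⟨5197, 2, 5⟩) (.one ⟨11815, 2, 3⟩)) (.node 1 (.one ⟨554, 2, 4⟩) (.one ⟨9228, 0, 5⟩)))) (.node 4 (.node 2 (.node 1 (.one ⟨10746, 2, 5⟩) (.one ⟨12894, 2, 3⟩)) (.node 1 (.one ⟨1453, 2, 2⟩) (.one ⟨5372, 2, 2⟩))) (.node 2 (.node 1 (.one ⟨9238, 0, 4⟩) (.one ⟨7279, 0, 4⟩)) (.node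 1 (.one ⟨479, 2, 4⟩) (.one ⟨3051, 2, 3⟩))))) (.node 8 (.node 4 (.node 2 (.node 1 (.one ⟨13593, 0, 5⟩) (.one ⟨12114, 0, 4⟩)) (.node 1 (.one ⟨10933, 0, 3⟩) (.one ⟨3800, 0, 5⟩))) (.node 2 (.node 1 (.one ⟨3189, 0, 6⟩) (.one ⟨2605, 0, 4⟩)) (.node 1 (.one ⟨7541, 2, 5⟩) (.one ⟨1500, 1, 4⟩)))) (.node 4 (.node 2 (.node 1 (.one ⟨3183, 0, 2⟩) (.one ⟨15674, 2, 5⟩)) (.node 1 (.one ⟨4462, 0, 4⟩) (.one ⟨10527, 0, 4⟩))) (.node 2 (.node 1 (.one ⟨17031, 1, 1⟩) (.one ⟨8953, 1, 4⟩)) (.node 1 (.one ⟨1470, 2, 6⟩) (.one ⟨10022, 1, 2⟩)))))))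
def par9_10_9 : Arr Par :=
  (.node 32 (.node 16 (.node 8 (.node 4 (.node 2 (.node 1 (.one ⟨15217, 1, 2⟩) (.one ⟨15004, 2, 3⟩)) (.node 1 (.one ⟨1869, 0, 3⟩) (.one ⟨16597, 2, 4⟩))) (.node 2 (.node 1 (.one ⟨3452, 1, 3⟩) (.one ⟨6957, 2, 3⟩)) (.node 1 (.one ⟨7959, 2, 3⟩) (.one ⟨15723, 0, 2⟩)))) (.node 4 (.node 2 (.node 1 (.one ⟨16852, 2, 5⟩) (.one ⟨16854, 2, 3⟩)) (.node 1 (.one ⟨886, 1, 5⟩) (.one ⟨14792, 2, 5⟩))) (.node 2 (.node 1 (.one ⟨13726, 1, 3⟩) (.one ⟨1614, 1, 3⟩)) (.node 1 (.one ⟨11230, 1, 3⟩) (.one ⟨15625, 2, 3⟩))))) (.node 8 (.node 4 (.node 2 (.node 1 (.one ⟨3822, 0, 4⟩) (.one ⟨826, 2, 3⟩)) (.node 1 (.one ⟨14974, 2, 3⟩) (.one ⟨1898, 2, 3⟩))) (.node 2 (.node 1 (.one ⟨7604, 0, 3⟩) (.one ⟨15358, 2, 5⟩))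 (.node 1 (.one ⟨6855, 0, 1⟩) (.one ⟨15185, 1, 5⟩)))) (.node 4 (.node 2 (.node 1 (.one ⟨11688, 1, 5⟩) (.one ⟨12485, 0, 4⟩)) (.node 1 (.one ⟨9508, 0, 4⟩) (.one ⟨2653, 2, 2⟩))) (.node 2 (.node 1 (.one ⟨1341, 1, 5⟩) (.one ⟨1809, 0, 4⟩)) (.node 1 (.one ⟨4289, 0, 4⟩) (.one ⟨3573, 0, 4⟩)))))) (.node 16 (.node 8 (.node 4 (.node 2 (.node 1 (.one ⟨5671, 0, 2⟩) (.one ⟨2744, 2, 6⟩)) (.node 1 (.one ⟨11100, 0, 4⟩) (.one ⟨13070, 0, 3⟩))) (.node 2 (.node 1 (.one ⟨2943, 2, 5⟩) (.one ⟨11554, 2, 7⟩)) (.node 1 (.one ⟨318, 2, 5⟩) (.one ⟨6878, 2, 6⟩)))) (.node 4 (.node 2 (.node 1 (.one ⟨14812, 2, 3⟩) (.one ⟨13704, 2, 6⟩)) (.node 1 (.one ⟨6145, 2, 4⟩) (.one ⟨11099, 0, 5⟩))) (.node 2 (.node 1 (.one ⟨12101, 0, 3⟩) (.one ⟨11972, 2,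 6⟩)) (.node 1 (.one ⟨4419, 2, 4⟩) (.one ⟨8485, 1, 6⟩))))) (.node 8 (.node 4 (.node 2 (.node 1 (.one ⟨13528, 2, 3⟩) (.one ⟨15355, 2, 4⟩)) (.node 1 (.one ⟨6749, 0, 3⟩) (.one ⟨663, 1, 6⟩))) (.node 2 (.node 1 (.one ⟨16619, 1, 6⟩) (.one ⟨2867, 0, 3⟩)) (.node 1 (.one ⟨2461, 0, 3⟩) (.one ⟨4969, 1, 0⟩)))) (.node 4 (.node 2 (.node 1 (.one ⟨10040, 2, 4⟩) (.one ⟨13184, 2, 4⟩)) (.node 1 (.one ⟨10307, 0, 2⟩) (.one ⟨7131, 0, 5⟩))) (.node 2 (.node 1 (.one ⟨16377, 2, 2⟩) (.one ⟨14642, 0, 5⟩)) (.node 1 (.one ⟨6889, 2, 6⟩) (.one ⟨4431, 0, 3⟩)))))))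
def par9_10_10 : Arr Par :=
  (.node 32 (.node 16 (.node 8 (.node 4 (.node 2 (.node 1 (.one ⟨3323, 1, 5⟩) (.one ⟨7678, 1, 5⟩)) (.node 1 (.one ⟨6254, 2, 2⟩) (.one ⟨15443, 0, 4⟩))) (.node 2 (.node 1 (.one ⟨15210, 0, 4⟩) (.one ⟨16736, 0, 4⟩)) (.node 1 (.one ⟨3800, 2, 5⟩) (.one ⟨2806, 0, 4⟩)))) (.node 4 (.node 2 (.node 1 (.one ⟨15278, 0, 3⟩) (.one ⟨14466, 0, 2⟩)) (.node 1 (.one ⟨1343, 0, 4⟩) (.one ⟨9201, 2, 1⟩))) (.node 2 (.node 1 (.one ⟨6326, 2, 5⟩) (.one ⟨7999, 2, 6⟩)) (.node 1 (.one ⟨12239, 2, 5⟩) (.one ⟨3329, 1, 5⟩))))) (.node 8 (.node 4 (.node 2 (.node 1 (.one ⟨10428, 2, 6⟩) (.one ⟨3764, 2, 5⟩)) (.node 1 (.one ⟨10354, 2, 2⟩) (.one ⟨5441, 0, 4⟩))) (.node 2 (.node 1 (.one ⟨338, 2, 1⟩) (.one ⟨13870, 0, 4⟩)) (.node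 1 (.one ⟨1782, 2, 4⟩) (.one ⟨691, 2, 6⟩)))) (.node 4 (.node 2 (.node 1 (.one ⟨6359, 0, 4⟩) (.one ⟨11466, 0, 5⟩)) (.node 1 (.one ⟨9499, 0, 5⟩) (.one ⟨721, 1, 6⟩))) (.node 2 (.node 1 (.one ⟨11059, 0, 6⟩) (.one ⟨8062, 2, 3⟩)) (.node 1 (.one ⟨16378, 2, 4⟩) (.one ⟨2338, 2, 5⟩)))))) (.node 16 (.node 8 (.node 4 (.node 2 (.node 1 (.one ⟨2400, 0, 2⟩) (.one ⟨14475, 2, 5⟩)) (.node 1 (.one ⟨2404, 0, 2⟩) (.one ⟨2399, 0, 2⟩))) (.node 2 (.node 1 (.one ⟨14444, 2, 4⟩) (.one ⟨2403, 0, 2⟩)) (.node 1 (.one ⟨2240, 2, 4⟩) (.one ⟨5891, 0, 4⟩)))) (.node 4 (.node 2 (.node 1 (.one ⟨9479, 0, 4⟩) (.one ⟨8133, 1, 4⟩)) (.node 1 (.one ⟨7012, 0, 5⟩) (.one ⟨14670, 0, 4⟩))) (.node 2 (.node 1 (.one ⟨2818, 0, 4⟩) (.one ⟨1982, 0, 5⟩)) (.node 1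 (.one ⟨5637, 2, 5⟩) (.one ⟨16568, 1, 3⟩))))) (.node 8 (.node 4 (.node 2 (.node 1 (.one ⟨8019, 2, 5⟩) (.one ⟨4951, 1, 3⟩)) (.node 1 (.one ⟨8022, 2, 6⟩) (.one ⟨127, 1, 5⟩))) (.node 2 (.node 1 (.one ⟨6410, 0, 6⟩) (.one ⟨8079, 0, 2⟩)) (.node 1 (.one ⟨5568, 1, 3⟩) (.one ⟨324, 2, 2⟩)))) (.node 4 (.node 2 (.node 1 (.one ⟨11120, 0, 3⟩) (.one ⟨8123, 2, 4⟩)) (.node 1 (.one ⟨7747, 0, 4⟩) (.one ⟨9301, 0, 4⟩))) (.node 2 (.node 1 (.one ⟨8056, 2, 2⟩) (.one ⟨8608, 0, 4⟩)) (.node 1 (.one ⟨2484, 2, 4⟩) (.one ⟨8768, 2, 4⟩)))))))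
def par9_10_11 : Arr Par :=
  (.node 32 (.node 16 (.node 8 (.node 4 (.node 2 (.node 1 (.one ⟨11314, 2, 3⟩) (.one ⟨11879, 1, 6⟩)) (.node 1 (.one ⟨6144, 2, 5⟩) (.one ⟨13290, 2, 4⟩))) (.node 2 (.node 1 (.one ⟨13800, 0, 5⟩) (.one ⟨8716, 0, 4⟩)) (.node 1 (.one ⟨9913, 2, 4⟩) (.one ⟨9938, 0, 3⟩)))) (.node 4 (.node 2 (.node 1 (.one ⟨2738, 2, 1⟩) (.one ⟨13998, 2, 5⟩)) (.node 1 (.one ⟨14538, 1, 3⟩) (.one ⟨6316, 0, 3⟩))) (.node 2 (.node 1 (.one ⟨5517, 1, 0⟩) (.one ⟨6008, 2, 5⟩)) (.node 1 (.one ⟨14542, 1, 3⟩) (.one ⟨16525, 1, 4⟩))))) (.node 8 (.node 4 (.node 2 (.node 1 (.one ⟨4574, 2, 2⟩) (.one ⟨581, 1, 1⟩)) (.node 1 (.one ⟨1347, 2, 6⟩) (.one ⟨8059, 2, 5⟩))) (.node 2 (.node 1 (.one ⟨7985, 2, 2⟩) (.one ⟨7086, 2, 2⟩)) (.node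 1 (.one ⟨1526, 1, 3⟩) (.one ⟨4972, 0, 2⟩)))) (.node 4 (.node 2 (.node 1 (.one ⟨4967, 0, 2⟩) (.one ⟨17041, 0, 4⟩)) (.node 1 (.one ⟨1181, 1, 3⟩) (.one ⟨6590, 2, 4⟩))) (.node 2 (.node 1 (.one ⟨1647, 2, 4⟩) (.one ⟨4974, 0, 2⟩)) (.node 1 (.one ⟨9097, 2, 5⟩) (.one ⟨16279, 1, 5⟩)))))) (.node 16 (.node 8 (.node 4 (.node 2 (.node 1 (.one ⟨16350, 2, 4⟩) (.one ⟨9397, 0, 4⟩)) (.node 1 (.one ⟨9801, 0, 4⟩) (.one ⟨6718, 1, 5⟩))) (.node 2 (.node 1 (.one ⟨6302, 1, 5⟩) (.one ⟨11746, 2, 5⟩)) (.node 1 (.one ⟨4321, 0, 4⟩) (.one ⟨16842, 2, 5⟩)))) (.node 4 (.node 2 (.node 1 (.one ⟨8035, 0, 5⟩) (.one ⟨9913, 0, 4⟩)) (.node 1 (.one ⟨15907, 0, 4⟩) (.one ⟨10350, 2, 3⟩))) (.node 2 (.node 1 (.one ⟨7875, 0, 4⟩) (.one ⟨2809, 1, 5⟩)) (.node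 1 (.one ⟨2782, 2, 4⟩) (.one ⟨9901, 2, 5⟩))))) (.node 8 (.node 4 (.node 2 (.node 1 (.one ⟨14579, 1, 2⟩) (.one ⟨14582, 0, 2⟩)) (.node 1 (.one ⟨2886, 0, 3⟩) (.one ⟨7267, 0, 2⟩))) (.node 2 (.node 1 (.one ⟨1943, 2, 4⟩) (.one ⟨13145, 2, 5⟩)) (.node 1 (.one ⟨5356, 1, 0⟩) (.one ⟨4894, 1, 5⟩)))) (.node 4 (.node 2 (.node 1 (.one ⟨478, 0, 5⟩) (.one ⟨8697, 0, 4⟩)) (.node 1 (.one ⟨7429, 0, 4⟩) (.one ⟨10416, 1, 5⟩))) (.node 2 (.node 1 (.one ⟨16265, 1, 5⟩) (.one ⟨15178, 0, 4⟩)) (.node 1 (.one ⟨16598, 0, 4⟩) (.one ⟨7750, 1, 5⟩)))))))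
def par9_10_12 : Arr Par :=
  (.node 32 (.node 16 (.node 8 (.node 4 (.node 2 (.node 1 (.one ⟨3776, 2, 2⟩) (.one ⟨2970, 0, 4⟩)) (.node 1 (.one ⟨4534, 2, 5⟩) (.one ⟨13854, 0, 6⟩))) (.node 2 (.node 1 (.one ⟨13516, 2, 3⟩) (.one ⟨11210, 2, 4⟩)) (.node 1 (.one ⟨11970, 2, 6⟩) (.one ⟨7965, 2, 3⟩)))) (.node 4 (.node 2 (.node 1 (.one ⟨12717, 0, 5⟩) (.one ⟨13019, 0, 3⟩)) (.node 1 (.one ⟨6501, 0, 5⟩) (.one ⟨1281, 1, 1⟩))) (.node 2 (.node 1 (.one ⟨6258, 1, 2⟩) (.one ⟨2981, 1, 3⟩)) (.node 1 (.one ⟨6858, 0, 6⟩) (.one ⟨15737, 0, 4⟩))))) (.node 8 (.node 4 (.node 2 (.node 1 (.one ⟨5969, 0, 4⟩) (.one ⟨12726, 0, 4⟩)) (.node 1 (.one ⟨4453, 1, 2⟩) (.one ⟨1012, 0, 4⟩))) (.node 2 (.node 1 (.one ⟨6819, 2, 4⟩) (.one ⟨9433, 2, 1⟩)) (.node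 1 (.one ⟨16597, 0, 4⟩) (.one ⟨7268, 2, 2⟩)))) (.node 4 (.node 2 (.node 1 (.one ⟨9991, 0, 5⟩) (.one ⟨2510, 0, 2⟩)) (.node 1 (.one ⟨10482, 1, 6⟩) (.one ⟨13912, 2, 5⟩))) (.node 2 (.node 1 (.one ⟨4721, 1, 2⟩) (.one ⟨3595, 2, 4⟩)) (.node 1 (.one ⟨8879, 2, 4⟩) (.one ⟨11963, 0, 4⟩)))))) (.node 16 (.node 8 (.node 4 (.node 2 (.node 1 (.one ⟨1977, 0, 6⟩) (.one ⟨8933, 2, 5⟩)) (.node 1 (.one ⟨66, 2, 1⟩) (.one ⟨16970, 2, 4⟩))) (.node 2 (.node 1 (.one ⟨5284, 0, 4⟩) (.one ⟨1500, 0, 4⟩)) (.node 1 (.one ⟨16989, 2, 4⟩) (.one ⟨4825, 2, 4⟩)))) (.node 4 (.node 2 (.node 1 (.one ⟨16486, 2, 5⟩) (.one ⟨15787, 0, 4⟩)) (.node 1 (.one ⟨5944, 1, 4⟩) (.one ⟨6699, 0, 3⟩))) (.node 2 (.node 1 (.one ⟨8717, 2, 6⟩) (.one ⟨15588, 0, 4⟩)) (.node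 1 (.one ⟨10552, 0, 3⟩) (.one ⟨15511, 2, 5⟩))))) (.node 8 (.node 4 (.node 2 (.node 1 (.one ⟨183, 2, 6⟩) (.one ⟨7238, 0, 4⟩)) (.node 1 (.one ⟨14274, 0, 6⟩) (.one ⟨12168, 2, 5⟩))) (.node 2 (.node 1 (.one ⟨5158, 0, 3⟩) (.one ⟨6730, 0, 4⟩)) (.node 1 (.one ⟨16047, 2, 6⟩) (.one ⟨10023, 2, 4⟩)))) (.node 4 (.node 2 (.node 1 (.one ⟨1188, 0, 5⟩) (.one ⟨3696, 0, 5⟩)) (.node 1 (.one ⟨10988, 0, 5⟩) (.one ⟨2235, 2, 2⟩))) (.node 2 (.node 1 (.one ⟨5545, 1, 2⟩) (.one ⟨9983, 2, 2⟩)) (.node 1 (.one ⟨10459, 0, 6⟩) (.one ⟨350, 2, 6⟩)))))))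
def par9_10_13 : Arr Par :=
  (.node 32 (.node 16 (.node 8 (.node 4 (.node 2 (.node 1 (.one ⟨12539, 0, 6⟩) (.one ⟨16829, 0, 5⟩)) (.node 1 (.one ⟨8254, 2, 6⟩) (.one ⟨9194, 0, 5⟩))) (.node 2 (.node 1 (.one ⟨13085, 0, 5⟩) (.one ⟨4164, 1, 2⟩)) (.node 1 (.one ⟨3122, 1, 3⟩) (.one ⟨6852, 2, 2⟩)))) (.node 4 (.node 2 (.node 1 (.one ⟨9572, 2, 5⟩) (.one ⟨12820, 2, 2⟩)) (.node 1 (.one ⟨14596, 0, 2⟩) (.one ⟨2095, 0, 5⟩))) (.node 2 (.node 1 (.one ⟨15550, 0, 5⟩) (.one ⟨12330, 0, 5⟩)) (.node 1 (.one ⟨2830, 2, 3⟩) (.one ⟨15593, 2, 4⟩))))) (.node 8 (.node 4 (.node 2 (.node 1 (.one ⟨15970, 2, 5⟩) (.one ⟨5137, 2, 5⟩)) (.node 1 (.one ⟨282, 2, 4⟩) (.one ⟨3795, 2, 1⟩))) (.node 2 (.node 1 (.one ⟨3494, 2, 5⟩) (.one ⟨4349, 0, 4⟩)) (.node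 1 (.one ⟨16990, 2, 4⟩) (.one ⟨10046, 2, 4⟩)))) (.node 4 (.node 2 (.node 1 (.one ⟨3997, 0, 5⟩) (.one ⟨5856, 0, 5⟩)) (.node 1 (.one ⟨15090, 2, 2⟩) (.one ⟨13115, 1, 4⟩))) (.node 2 (.node 1 (.one ⟨745, 2, 3⟩) (.one ⟨6654, 2, 2⟩)) (.node 1 (.one ⟨15067, 2, 5⟩) (.one ⟨14770, 0, 3⟩)))))) (.node 16 (.node 8 (.node 4 (.node 2 (.node 1 (.one ⟨3796, 2, 4⟩) (.one ⟨728, 0, 4⟩)) (.node 1 (.one ⟨1832, 0, 4⟩) (.one ⟨15124, 0, 5⟩))) (.node 2 (.node 1 (.one ⟨2947, 2, 5⟩) (.one ⟨1937, 0, 2⟩)) (.node 1 (.one ⟨4909, 2, 5⟩) (.one ⟨6415, 2, 3⟩)))) (.node 4 (.node 2 (.node 1 (.one ⟨15289, 2, 6⟩) (.one ⟨13246, 2, 7⟩)) (.node 1 (.one ⟨5638, 1, 4⟩) (.one ⟨14776, 0, 4⟩))) (.node 2 (.node 1 (.one ⟨9094, 0, 2⟩) (.one ⟨8369, 2, 6⟩)) (.node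 1 (.one ⟨1834, 0, 6⟩) (.one ⟨3325, 2, 3⟩))))) (.node 8 (.node 4 (.node 2 (.node 1 (.one ⟨9561, 1, 2⟩) (.one ⟨9217, 0, 5⟩)) (.node 1 (.one ⟨7949, 0, 5⟩) (.one ⟨7691, 0, 2⟩))) (.node 2 (.node 1 (.one ⟨5174, 1, 2⟩) (.one ⟨6926, 0, 5⟩)) (.node 1 (.one ⟨12767, 0, 4⟩) (.one ⟨1317, 2, 3⟩)))) (.node 4 (.node 2 (.node 1 (.one ⟨4741, 0, 4⟩) (.one ⟨405, 0, 4⟩)) (.node 1 (.one ⟨11841, 2, 3⟩) (.one ⟨14809, 2, 5⟩))) (.node 2 (.node 1 (.one ⟨8243, 2, 3⟩) (.one ⟨16325, 0, 4⟩)) (.node 1 (.one ⟨16055, 0, 3⟩) (.one ⟨12543, 0, 6⟩)))))))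
def par9_10_14 : Arr Par :=
  (.node 32 (.node 16 (.node 8 (.node 4 (.node 2 (.node 1 (.one ⟨1463, 2, 5⟩) (.one ⟨6641, 2, 4⟩)) (.node 1 (.one ⟨1085, 2, 4⟩) (.one ⟨12549, 0, 5⟩))) (.node 2 (.node 1 (.one ⟨1474, 2, 4⟩) (.one ⟨6650, 2, 3⟩)) (.node 1 (.one ⟨12544, 0, 4⟩) (.one ⟨3516, 2, 3⟩)))) (.node 4 (.node 2 (.node 1 (.one ⟨8424, 2, 4⟩) (.one ⟨15128, 0, 4⟩)) (.node 1 (.one ⟨435, 1, 3⟩) (.one ⟨12668, 2, 4⟩))) (.node 2 (.node 1 (.one ⟨323, 1, 1⟩) (.one ⟨11937, 2, 2⟩)) (.node 1 (.one ⟨16574, 2, 6⟩) (.one ⟨5355, 2, 5⟩))))) (.node 8 (.node 4 (.node 2 (.node 1 (.one ⟨10632, 2, 5⟩) (.one ⟨8241, 2, 4⟩)) (.node 1 (.one ⟨15588, 2, 4⟩) (.one ⟨6312, 2, 5⟩))) (.node 2 (.node 1 (.one ⟨16844, 2, 6⟩) (.one ⟨6851, 1, 4⟩)) (.node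 1 (.one ⟨12371, 0, 3⟩) (.one ⟨2933, 0, 1⟩)))) (.node 4 (.node 2 (.node 1 (.one ⟨9222, 2, 4⟩) (.one ⟨2984, 0, 6⟩)) (.node 1 (.one ⟨1246, 0, 6⟩) (.one ⟨2378, 1, 4⟩))) (.node 2 (.node 1 (.one ⟨15994, 2, 4⟩) (.one ⟨8246, 2, 2⟩)) (.node 1 (.one ⟨1266, 0, 5⟩) (.one ⟨8608, 2, 4⟩)))))) (.node 16 (.node 8 (.node 4 (.node 2 (.node 1 (.one ⟨3469, 0, 4⟩) (.one ⟨8726, 2, 5⟩)) (.node 1 (.one ⟨4157, 2, 3⟩) (.one ⟨1795, 2, 4⟩))) (.node 2 (.node 1 (.one ⟨7207, 2, 4⟩) (.one ⟨944, 2, 5⟩)) (.node 1 (.one ⟨7439, 2, 7⟩) (.one ⟨13829, 0, 4⟩)))) (.node 4 (.node 2 (.node 1 (.one ⟨3650, 0, 4⟩) (.one ⟨8089, 0, 2⟩)) (.node 1 (.one ⟨9696, 0, 4⟩) (.one ⟨15974, 0, 3⟩))) (.node 2 (.node 1 (.one ⟨1821, 0, 6⟩) (.one ⟨7728, 1, 1⟩)) (.node 1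 (.one ⟨12618, 1, 4⟩) (.one ⟨10361, 0, 6⟩))))) (.node 8 (.node 4 (.node 2 (.node 1 (.one ⟨10460, 0, 6⟩) (.one ⟨7426, 0, 4⟩)) (.node 1 (.one ⟨7116, 0, 6⟩) (.one ⟨927, 2, 2⟩))) (.node 2 (.node 1 (.one ⟨196, 0, 5⟩) (.one ⟨3853, 2, 2⟩)) (.node 1 (.one ⟨14815, 0, 4⟩) (.one ⟨11636, 2, 5⟩)))) (.node 4 (.node 2 (.node 1 (.one ⟨12526, 2, 5⟩) (.one ⟨14236, 2, 4⟩)) (.node 1 (.one ⟨14406, 2, 6⟩) (.one ⟨7047, 0, 4⟩))) (.node 2 (.node 1 (.one ⟨6872, 2, 5⟩) (.one ⟨2316, 1, 4⟩)) (.node 1 (.one ⟨4640, 2, 3⟩) (.one ⟨2384, 1, 2⟩)))))))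
def par9_10_15 : Arr Par :=
  (.node 32 (.node 16 (.node 8 (.node 4 (.node 2 (.node 1 (.one ⟨6952, 2, 3⟩) (.one ⟨4701, 2, 3⟩)) (.node 1 (.one ⟨3502, 1, 2⟩) (.one ⟨15002, 2, 7⟩))) (.node 2 (.node 1 (.one ⟨7112, 2, 5⟩) (.one ⟨15184, 1, 3⟩)) (.node 1 (.one ⟨6279, 0, 3⟩) (.one ⟨96, 2, 5⟩)))) (.node 4 (.node 2 (.node 1 (.one ⟨11677, 0, 4⟩) (.one ⟨16048, 0, 4⟩)) (.node 1 (.one ⟨3645, 0, 3⟩) (.one ⟨13517, 1, 6⟩))) (.node 2 (.node 1 (.one ⟨13511, 1, 1⟩) (.one ⟨5741, 0, 4⟩)) (.node 1 (.one ⟨9304, 0, 4⟩) (.one ⟨13045, 2, 4⟩))))) (.node 8 (.node 4 (.node 2 (.node 1 (.one ⟨14258, 2, 4⟩) (.one ⟨15983, 2, 4⟩)) (.node 1 (.one ⟨11222, 2, 4⟩) (.one ⟨9086, 2, 7⟩))) (.node 2 (.node 1 (.one ⟨11471, 1, 4⟩) (.one ⟨734, 0, 3⟩)) (.node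 1 (.one ⟨6620, 2, 3⟩) (.one ⟨1181, 2, 3⟩)))) (.node 4 (.node 2 (.node 1 (.one ⟨7724, 0, 4⟩) (.one ⟨1226, 1, 1⟩)) (.node 1 (.one ⟨1463, 0, 5⟩) (.one ⟨5970, 0, 4⟩))) (.node 2 (.node 1 (.one ⟨235, 0, 4⟩) (.one ⟨3564, 2, 6⟩)) (.node 1 (.one ⟨4972, 1, 2⟩) (.one ⟨11039, 2, 5⟩)))))) (.node 16 (.node 8 (.node 4 (.node 2 (.node 1 (.one ⟨14776, 2, 4⟩) (.one ⟨11426, 2, 4⟩)) (.node 1 (.one ⟨15608, 2, 3⟩) (.one ⟨15015, 0, 4⟩))) (.node 2 (.node 1 (.one ⟨9343, 2, 3⟩) (.one ⟨14319, 2, 3⟩)) (.node 1 (.one ⟨10752, 2, 2⟩) (.one ⟨11520, 2, 2⟩)))) (.node 4 (.node 2 (.node 1 (.one ⟨11525, 2, 3⟩) (.one ⟨11519, 2, 3⟩)) (.node 1 (.one ⟨15496, 0, 1⟩) (.one ⟨11522, 2, 4⟩))) (.node 2 (.node 1 (.one ⟨11523, 2, 4⟩) (.one ⟨7690, 0, 6⟩))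 (.node 1 (.one ⟨11524, 2, 4⟩) (.one ⟨11633, 2, 5⟩))))) (.node 8 (.node 4 (.node 2 (.node 1 (.one ⟨3603, 2, 4⟩) (.one ⟨716, 0, 4⟩)) (.node 1 (.one ⟨5482, 1, 2⟩) (.one ⟨3674, 0, 4⟩))) (.node 2 (.node 1 (.one ⟨2404, 1, 2⟩) (.one ⟨3613, 2, 6⟩)) (.node 1 (.one ⟨3506, 0, 4⟩) (.one ⟨14567, 1, 4⟩)))) (.node 4 (.node 2 (.node 1 (.one ⟨9138, 0, 4⟩) (.one ⟨6170, 2, 4⟩)) (.node 1 (.one ⟨4108, 0, 4⟩) (.one ⟨15174, 2, 2⟩))) (.node 2 (.node 1 (.one ⟨16199, 1, 1⟩) (.one ⟨12135, 0, 5⟩)) (.node 1 (.one ⟨9425, 0, 2⟩) (.one ⟨9537, 2, 4⟩)))))))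
def par9_10 : Arr Par :=
  (.node 512 (.node 256 (.node 128 (.node 64 par9_10_0 par9_10_1) (.node 64 par9_10_2 par9_10_3)) (.node 128 (.node 64 par9_10_4 par9_10_5) (.node 64 par9_10_6 par9_10_7))) (.node 256 (.node 128 (.node 64 par9_10_8 par9_10_9) (.node 64 par9_10_10 par9_10_11)) (.node 128 (.node 64 par9_10_12 par9_10_13) (.node 64 par9_10_14 par9_10_15))))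
def par9_11_0 : Arr Par :=
  (.node 32 (.node 16 (.node 8 (.node 4 (.node 2 (.node 1 (.one ⟨11911, 0, 3⟩) (.one ⟨12969, 2, 4⟩)) (.node 1 (.one ⟨4980, 0, 4⟩) (.one ⟨4860, 2, 3⟩))) (.node 2 (.node 1 (.one ⟨11060, 0, 4⟩) (.one ⟨16514, 1, 3⟩)) (.node 1 (.one ⟨1949, 0, 4⟩) (.one ⟨16012, 2, 2⟩)))) (.node 4 (.node 2 (.node 1 (.one ⟨14299, 2, 2⟩) (.one ⟨1261, 0, 4⟩)) (.node 1 (.one ⟨16892, 0, 3⟩) (.one ⟨1069, 2, 6⟩))) (.node 2 (.node 1 (.one ⟨16346, 0, 2⟩) (.one ⟨5665, 2, 5⟩)) (.node 1 (.one ⟨8249, 2, 5⟩) (.one ⟨8666, 1, 2⟩))))) (.node 8 (.node 4 (.node 2 (.node 1 (.one ⟨14543, 2, 3⟩) (.one ⟨3480, 2, 2⟩)) (.node 1 (.one ⟨1326, 0, 4⟩) (.one ⟨3561, 2, 5⟩))) (.node 2 (.node 1 (.one ⟨16562, 0, 4⟩) (.one ⟨8746, 2, 5⟩))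 (.node 1 (.one ⟨12746, 0, 4⟩) (.one ⟨12007, 2, 4⟩)))) (.node 4 (.node 2 (.node 1 (.one ⟨2324, 0, 3⟩) (.one ⟨11046, 2, 5⟩)) (.node 1 (.one ⟨8268, 0, 6⟩) (.one ⟨15621, 0, 5⟩))) (.node 2 (.node 1 (.one ⟨10926, 2, 6⟩) (.one ⟨2087, 2, 3⟩)) (.node 1 (.one ⟨12520, 2, 5⟩) (.one ⟨16828, 2, 5⟩)))))) (.node 16 (.node 8 (.node 4 (.node 2 (.node 1 (.one ⟨8665, 0, 6⟩) (.one ⟨6679, 2, 5⟩)) (.node 1 (.one ⟨8663, 0, 4⟩) (.one ⟨8669, 0, 2⟩))) (.node 2 (.node 1 (.one ⟨8666, 0, 2⟩) (.one ⟨1139, 1, 3⟩)) (.node 1 (.one ⟨13888, 2, 4⟩) (.one ⟨9085, 0, 3⟩)))) (.node 4 (.node 2 (.node 1 (.one ⟨7412, 0, 4⟩) (.one ⟨3755, 2, 2⟩)) (.node 1 (.one ⟨10352, 0, 6⟩) (.one ⟨16672, 2, 5⟩))) (.node 2 (.node 1 (.one ⟨1014, 2, 5⟩) (.one ⟨14825, 2,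 5⟩)) (.node 1 (.one ⟨3827, 2, 5⟩) (.one ⟨13848, 0, 3⟩))))) (.node 8 (.node 4 (.node 2 (.node 1 (.one ⟨6009, 2, 4⟩) (.one ⟨5501, 1, 0⟩)) (.node 1 (.one ⟨843, 0, 2⟩) (.one ⟨13995, 2, 5⟩))) (.node 2 (.node 1 (.one ⟨2651, 0, 6⟩) (.one ⟨14538, 0, 3⟩)) (.node 1 (.one ⟨2634, 0, 4⟩) (.one ⟨12787, 2, 5⟩)))) (.node 4 (.node 2 (.node 1 (.one ⟨10891, 0, 2⟩) (.one ⟨2743, 2, 7⟩)) (.node 1 (.one ⟨10898, 2, 3⟩) (.one ⟨3557, 2, 7⟩))) (.node 2 (.node 1 (.one ⟨7005, 1, 3⟩) (.one ⟨9715, 2, 7⟩)) (.node 1 (.one ⟨448, 2, 7⟩) (.one ⟨7556, 0, 2⟩)))))))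
def par9_11_1 : Arr Par :=
  (.node 32 (.node 16 (.node 8 (.node 4 (.node 2 (.node 1 (.one ⟨13351, 2, 5⟩) (.one ⟨563, 2, 4⟩)) (.node 1 (.one ⟨16322, 2, 4⟩) (.one ⟨15312, 2, 4⟩))) (.node 2 (.node 1 (.one ⟨4980, 2, 4⟩) (.one ⟨10733, 2, 3⟩)) (.node 1 (.one ⟨7822, 2, 6⟩) (.one ⟨7894, 0, 4⟩)))) (.node 4 (.node 2 (.node 1 (.one ⟨14623, 2, 3⟩) (.one ⟨10347, 2, 5⟩)) (.node 1 (.one ⟨1336, 1, 1⟩) (.one ⟨14061, 2, 5⟩))) (.node 2 (.node 1 (.one ⟨10106, 2, 5⟩) (.one ⟨13958, 2, 4⟩)) (.node 1 (.one ⟨9264, 2, 4⟩) (.one ⟨14250, 2, 3⟩))))) (.node 8 (.node 4 (.node 2 (.node 1 (.one ⟨5335, 2, 3⟩) (.one ⟨14391, 2, 4⟩)) (.node 1 (.one ⟨4610, 2, 6⟩) (.one ⟨16782, 2, 3⟩))) (.node 2 (.node 1 (.one ⟨2599, 2, 4⟩) (.one ⟨16975, 2, 3⟩))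 (.node 1 (.one ⟨10448, 0, 4⟩) (.one ⟨7, 2, 1⟩)))) (.node 4 (.node 2 (.node 1 (.one ⟨11931, 0, 6⟩) (.one ⟨901, 0, 6⟩)) (.node 1 (.one ⟨4107, 2, 3⟩) (.one ⟨5557, 2, 7⟩))) (.node 2 (.node 1 (.one ⟨9187, 0, 4⟩) (.one ⟨3879, 0, 6⟩)) (.node 1 (.one ⟨17015, 0, 6⟩) (.one ⟨5095, 1, 0⟩)))))) (.node 16 (.node 8 (.node 4 (.node 2 (.node 1 (.one ⟨1983, 2, 3⟩) (.one ⟨5042, 2, 4⟩)) (.node 1 (.one ⟨7616, 0, 3⟩) (.one ⟨5044, 1, 0⟩))) (.node 2 (.node 1 (.one ⟨10961, 0, 2⟩) (.one ⟨12665, 2, 6⟩)) (.node 1 (.one ⟨6497, 0, 3⟩) (.one ⟨4528, 2, 3⟩)))) (.node 4 (.node 2 (.node 1 (.one ⟨4879, 1, 0⟩) (.one ⟨12791, 0, 4⟩)) (.node 1 (.one ⟨10533, 0, 4⟩) (.one ⟨12022, 0, 4⟩))) (.node 2 (.node 1 (.one ⟨14716, 1, 6⟩) (.one ⟨6364, 2, 4⟩))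 (.node 1 (.one ⟨5637, 0, 5⟩) (.one ⟨5310, 0, 4⟩))))) (.node 8 (.node 4 (.node 2 (.node 1 (.one ⟨11341, 2, 5⟩) (.one ⟨2291, 0, 4⟩)) (.node 1 (.one ⟨11584, 2, 2⟩) (.one ⟨4930, 0, 4⟩))) (.node 2 (.node 1 (.one ⟨16545, 0, 4⟩) (.one ⟨7614, 2, 5⟩)) (.node 1 (.one ⟨5070, 2, 5⟩) (.one ⟨15433, 0, 6⟩)))) (.node 4 (.node 2 (.node 1 (.one ⟨1797, 0, 5⟩) (.one ⟨3225, 2, 2⟩)) (.node 1 (.one ⟨15285, 0, 6⟩) (.one ⟨1493, 1, 1⟩))) (.node 2 (.node 1 (.one ⟨5058, 0, 6⟩) (.one ⟨10760, 2, 1⟩)) (.node 1 (.one ⟨4843, 2, 6⟩) (.one ⟨13013, 2, 6⟩)))))))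
def par9_11_2 : Arr Par :=
  (.node 32 (.node 16 (.node 8 (.node 4 (.node 2 (.node 1 (.one ⟨1727, 0, 1⟩) (.one ⟨6773, 0, 4⟩)) (.node 1 (.one ⟨3679, 0, 5⟩) (.one ⟨6626, 0, 4⟩))) (.node 2 (.node 1 (.one ⟨2512, 2, 3⟩) (.one ⟨8641, 0, 5⟩)) (.node 1 (.one ⟨674, 0, 4⟩) (.one ⟨6076, 2, 4⟩)))) (.node 4 (.node 2 (.node 1 (.one ⟨8107, 0, 5⟩) (.one ⟨15960, 2, 2⟩)) (.node 1 (.one ⟨11658, 2, 2⟩) (.one ⟨10887, 0, 5⟩))) (.node 2 (.node 1 (.one ⟨4286, 2, 4⟩) (.one ⟨13102, 0, 4⟩)) (.node 1 (.one ⟨10698, 2, 2⟩) (.one ⟨14357, 1, 2⟩))))) (.node 8 (.node 4 (.node 2 (.node 1 (.one ⟨15018, 0, 2⟩) (.one ⟨16606, 2, 2⟩)) (.node 1 (.one ⟨12814, 0, 2⟩) (.one ⟨4339, 2, 6⟩))) (.node 2 (.node 1 (.one ⟨5862, 2, 5⟩) (.one ⟨15662, 2, 5⟩)) (.node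 1 (.one ⟨12915, 2, 3⟩) (.one ⟨16277, 2, 2⟩)))) (.node 4 (.node 2 (.node 1 (.one ⟨9217, 2, 5⟩) (.one ⟨4369, 2, 3⟩)) (.node 1 (.one ⟨6094, 2, 3⟩) (.one ⟨7544, 1, 6⟩))) (.node 2 (.node 1 (.one ⟨4795, 2, 4⟩) (.one ⟨11563, 2, 3⟩)) (.node 1 (.one ⟨16600, 2, 4⟩) (.one ⟨4982, 2, 3⟩)))))) (.node 16 (.node 8 (.node 4 (.node 2 (.node 1 (.one ⟨6461, 0, 5⟩) (.one ⟨6368, 0, 1⟩)) (.node 1 (.one ⟨6736, 0, 3⟩) (.one ⟨2179, 2, 4⟩))) (.node 2 (.node 1 (.one ⟨13157, 2, 5⟩) (.one ⟨12900, 1, 5⟩)) (.node 1 (.one ⟨10760, 1, 1⟩) (.one ⟨10473, 2, 2⟩)))) (.node 4 (.node 2 (.node 1 (.one ⟨2386, 1, 1⟩) (.one ⟨7723, 0, 2⟩)) (.node 1 (.one ⟨14360, 2, 3⟩) (.one ⟨489, 0, 4⟩))) (.node 2 (.node 1 (.one ⟨367, 2, 3⟩) (.one ⟨5743, 2, 3⟩)) (.node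 1 (.one ⟨10942, 2, 5⟩) (.one ⟨3147, 2, 4⟩))))) (.node 8 (.node 4 (.node 2 (.node 1 (.one ⟨10197, 0, 5⟩) (.one ⟨1610, 2, 3⟩)) (.node 1 (.one ⟨1122, 0, 4⟩) (.one ⟨17123, 0, 4⟩))) (.node 2 (.node 1 (.one ⟨9626, 2, 6⟩) (.one ⟨8984, 0, 5⟩)) (.node 1 (.one ⟨11293, 2, 4⟩) (.one ⟨12835, 0, 5⟩)))) (.node 4 (.node 2 (.node 1 (.one ⟨14961, 1, 5⟩) (.one ⟨4870, 1, 5⟩)) (.node 1 (.one ⟨14887, 2, 5⟩) (.one ⟨13950, 0, 4⟩))) (.node 2 (.node 1 (.one ⟨4498, 0, 5⟩) (.one ⟨12507, 0, 5⟩)) (.node 1 (.one ⟨10157, 1, 4⟩) (.one ⟨9890, 0, 2⟩)))))))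
def par9_11_3 : Arr Par :=
  (.node 32 (.node 16 (.node 8 (.node 4 (.node 2 (.node 1 (.one ⟨13165, 2, 5⟩) (.one ⟨8612, 0, 3⟩)) (.node 1 (.one ⟨7249, 0, 6⟩) (.one ⟨11468, 2, 6⟩))) (.node 2 (.node 1 (.one ⟨16762, 0, 2⟩) (.one ⟨4354, 0, 4⟩)) (.node 1 (.one ⟨970, 0, 5⟩) (.one ⟨201, 1, 4⟩)))) (.node 4 (.node 2 (.node 1 (.one ⟨1104, 0, 3⟩) (.one ⟨14285, 2, 6⟩)) (.node 1 (.one ⟨10787, 1, 4⟩) (.one ⟨5194, 1, 0⟩))) (.node 2 (.node 1 (.one ⟨9399, 2, 5⟩) (.one ⟨12974, 2, 5⟩)) (.node 1 (.one ⟨9239, 0, 3⟩) (.one ⟨2294, 0, 3⟩))))) (.node 8 (.node 4 (.node 2 (.node 1 (.one ⟨5047, 0, 2⟩) (.one ⟨6924, 0, 4⟩)) (.node 1 (.one ⟨7922, 0, 5⟩) (.one ⟨9293, 1, 2⟩))) (.node 2 (.node 1 (.one ⟨16349, 0, 4⟩) (.one ⟨9215, 0, 4⟩)) (.node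 1 (.one ⟨12732, 0, 5⟩) (.one ⟨7146, 2, 5⟩)))) (.node 4 (.node 2 (.node 1 (.one ⟨1848, 2, 4⟩) (.one ⟨11420, 2, 5⟩)) (.node 1 (.one ⟨6206, 0, 2⟩) (.one ⟨14440, 2, 4⟩))) (.node 2 (.node 1 (.one ⟨6204, 0, 2⟩) (.one ⟨2244, 2, 4⟩)) (.node 1 (.one ⟨6847, 2, 6⟩) (.one ⟨6795, 2, 5⟩)))))) (.node 16 (.node 8 (.node 4 (.node 2 (.node 1 (.one ⟨6792, 2, 3⟩) (.one ⟨10377, 0, 2⟩)) (.node 1 (.one ⟨6798, 2, 2⟩) (.one ⟨10266, 1, 4⟩))) (.node 2 (.node 1 (.one ⟨8859, 2, 5⟩) (.one ⟨14854, 0, 6⟩)) (.node 1 (.one ⟨8857, 2, 6⟩) (.one ⟨192, 0, 4⟩)))) (.node 4 (.node 2 (.node 1 (.one ⟨8747, 0, 4⟩) (.one ⟨14709, 2, 5⟩)) (.node 1 (.one ⟨17188, 2, 3⟩) (.one ⟨4247, 2, 5⟩))) (.node 2 (.node 1 (.one ⟨16918, 0, 4⟩) (.one ⟨2198, 2, 5⟩)) (.node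 1 (.one ⟨4030, 2, 5⟩) (.one ⟨12691, 2, 3⟩))))) (.node 8 (.node 4 (.node 2 (.node 1 (.one ⟨10968, 2, 3⟩) (.one ⟨14433, 1, 4⟩)) (.node 1 (.one ⟨9104, 0, 6⟩) (.one ⟨11075, 0, 6⟩))) (.node 2 (.node 1 (.one ⟨5280, 0, 3⟩) (.one ⟨4776, 2, 5⟩)) (.node 1 (.one ⟨2981, 2, 3⟩) (.one ⟨16962, 2, 5⟩)))) (.node 4 (.node 2 (.node 1 (.one ⟨3361, 0, 4⟩) (.one ⟨5669, 2, 5⟩)) (.node 1 (.one ⟨549, 2, 6⟩) (.one ⟨13884, 2, 6⟩))) (.node 2 (.node 1 (.one ⟨9825, 2, 4⟩) (.one ⟨5359, 1, 1⟩)) (.node 1 (.one ⟨5125, 2, 3⟩) (.one ⟨12380, 2, 2⟩)))))))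
def par9_11_4 : Arr Par :=
  (.node 32 (.node 16 (.node 8 (.node 4 (.node 2 (.node 1 (.one ⟨5682, 1, 1⟩) (.one ⟨5002, 0, 5⟩)) (.node 1 (.one ⟨11408, 0, 3⟩) (.one ⟨6687, 2, 3⟩))) (.node 2 (.node 1 (.one ⟨4526, 0, 3⟩) (.one ⟨11159, 1, 2⟩)) (.node 1 (.one ⟨4220, 2, 3⟩) (.one ⟨1383, 1, 2⟩)))) (.node 4 (.node 2 (.node 1 (.one ⟨6226, 1, 2⟩) (.one ⟨16046, 2, 3⟩)) (.node 1 (.one ⟨12777, 2, 3⟩) (.one ⟨15468, 2, 5⟩))) (.node 2 (.node 1 (.one ⟨14850, 1, 2⟩) (.one ⟨6958, 2, 3⟩)) (.node 1 (.one ⟨1102, 2, 3⟩) (.one ⟨14248, 2, 4⟩))))) (.node 8 (.node 4 (.node 2 (.node 1 (.one ⟨2720, 2, 6⟩) (.one ⟨14256, 2, 3⟩)) (.node 1 (.one ⟨124, 2, 3⟩) (.one ⟨6135, 2, 3⟩))) (.node 2 (.node 1 (.one ⟨10735, 2, 6⟩) (.one ⟨6287, 2, 4⟩)) (.node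 1 (.one ⟨9514, 2, 3⟩) (.one ⟨13191, 0, 5⟩)))) (.node 4 (.node 2 (.node 1 (.one ⟨679, 0, 4⟩) (.one ⟨13860, 2, 4⟩)) (.node 1 (.one ⟨2019, 0, 4⟩) (.one ⟨1734, 0, 2⟩))) (.node 2 (.node 1 (.one ⟨14053, 2, 3⟩) (.one ⟨1851, 0, 4⟩)) (.node 1 (.one ⟨13399, 0, 6⟩) (.one ⟨6386, 0, 3⟩)))))) (.node 16 (.node 8 (.node 4 (.node 2 (.node 1 (.one ⟨9799, 0, 2⟩) (.one ⟨15202, 2, 3⟩)) (.node 1 (.one ⟨13118, 2, 6⟩) (.one ⟨7634, 2, 2⟩))) (.node 2 (.node 1 (.one ⟨8352, 0, 2⟩) (.one ⟨10440, 2, 6⟩)) (.node 1 (.one ⟨16205, 2, 3⟩) (.one ⟨13081, 0, 5⟩)))) (.node 4 (.node 2 (.node 1 (.one ⟨4869, 1, 3⟩) (.one ⟨9488, 0, 5⟩)) (.node 1 (.one ⟨13306, 2, 6⟩) (.one ⟨14354, 0, 2⟩))) (.node 2 (.node 1 (.one ⟨6690, 2, 6⟩) (.one ⟨17175, 0, 5⟩)) (.node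 1 (.one ⟨12824, 2, 3⟩) (.one ⟨363, 2, 4⟩))))) (.node 8 (.node 4 (.node 2 (.node 1 (.one ⟨2587, 0, 4⟩) (.one ⟨11104, 2, 5⟩)) (.node 1 (.one ⟨1396, 0, 1⟩) (.one ⟨3204, 2, 3⟩))) (.node 2 (.node 1 (.one ⟨15291, 0, 5⟩) (.one ⟨1945, 0, 4⟩)) (.node 1 (.one ⟨14949, 0, 5⟩) (.one ⟨703, 0, 6⟩)))) (.node 4 (.node 2 (.node 1 (.one ⟨15126, 0, 6⟩) (.one ⟨8247, 0, 6⟩)) (.node 1 (.one ⟨13303, 0, 6⟩) (.one ⟨9575, 1, 4⟩))) (.node 2 (.node 1 (.one ⟨12590, 0, 2⟩) (.one ⟨16738, 2, 3⟩)) (.node 1 (.one ⟨13969, 0, 3⟩) (.one ⟨417, 2, 4⟩)))))))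
def par9_11_5 : Arr Par :=
  (.node 32 (.node 16 (.node 8 (.node 4 (.node 2 (.node 1 (.one ⟨2739, 0, 1⟩) (.one ⟨6698, 2, 6⟩)) (.node 1 (.one ⟨1473, 0, 6⟩) (.one ⟨4922, 2, 5⟩))) (.node 2 (.node 1 (.one ⟨10378, 2, 4⟩) (.one ⟨941, 0, 3⟩)) (.node 1 (.one ⟨15244, 2, 4⟩) (.one ⟨3247, 2, 4⟩)))) (.node 4 (.node 2 (.node 1 (.one ⟨15118, 1, 4⟩) (.one ⟨8869, 2, 6⟩)) (.node 1 (.one ⟨1802, 1, 1⟩) (.one ⟨13238, 2, 4⟩))) (.node 2 (.node 1 (.one ⟨16404, 2, 3⟩) (.one ⟨15391, 2, 5⟩)) (.node 1 (.one ⟨10761, 2, 1⟩) (.one ⟨13, 2, 7⟩))))) (.node 8 (.node 4 (.node 2 (.node 1 (.one ⟨826, 1, 3⟩) (.one ⟨12199, 2, 3⟩)) (.node 1 (.one ⟨1200, 0, 5⟩) (.one ⟨16295, 2, 3⟩))) (.node 2 (.node 1 (.one ⟨3853, 0, 2⟩) (.one ⟨14509, 0, 6⟩)) (.node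 1 (.one ⟨14670, 1, 4⟩) (.one ⟨2740, 0, 1⟩)))) (.node 4 (.node 2 (.node 1 (.one ⟨5624, 2, 5⟩) (.one ⟨6714, 2, 6⟩)) (.node 1 (.one ⟨4416, 2, 3⟩) (.one ⟨2563, 1, 3⟩))) (.node 2 (.node 1 (.one ⟨8457, 2, 3⟩) (.one ⟨7785, 2, 5⟩)) (.node 1 (.one ⟨3385, 2, 5⟩) (.one ⟨826, 0, 3⟩)))))) (.node 16 (.node 8 (.node 4 (.node 2 (.node 1 (.one ⟨2744, 0, 6⟩) (.one ⟨256, 2, 4⟩)) (.node 1 (.one ⟨7236, 2, 3⟩) (.one ⟨15357, 0, 6⟩))) (.node 2 (.node 1 (.one ⟨15184, 2, 3⟩) (.one ⟨13317, 1, 4⟩)) (.node 1 (.one ⟨1569, 2, 3⟩) (.one ⟨1199, 2, 3⟩)))) (.node 4 (.node 2 (.node 1 (.one ⟨9194, 2, 5⟩) (.one ⟨5728, 2, 5⟩)) (.node 1 (.one ⟨13763, 2, 3⟩) (.one ⟨13829, 2, 4⟩))) (.node 2 (.node 1 (.one ⟨5796, 2, 3⟩) (.one ⟨9378, 2, 4⟩)) (.node 1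 (.one ⟨1566, 2, 3⟩) (.one ⟨12014, 0, 5⟩))))) (.node 8 (.node 4 (.node 2 (.node 1 (.one ⟨8931, 1, 3⟩) (.one ⟨6079, 2, 4⟩)) (.node 1 (.one ⟨3798, 0, 4⟩) (.one ⟨2580, 0, 5⟩))) (.node 2 (.node 1 (.one ⟨11769, 0, 4⟩) (.one ⟨4082, 0, 5⟩)) (.node 1 (.one ⟨9868, 0, 5⟩) (.one ⟨1902, 2, 5⟩)))) (.node 4 (.node 2 (.node 1 (.one ⟨8924, 0, 6⟩) (.one ⟨7107, 0, 6⟩)) (.node 1 (.one ⟨13848, 2, 3⟩) (.one ⟨9941, 2, 3⟩))) (.node 2 (.node 1 (.one ⟨7331, 0, 5⟩) (.one ⟨14140, 2, 5⟩)) (.node 1 (.one ⟨5747, 2, 3⟩) (.one ⟨17167, 0, 4⟩)))))))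
def par9_11_6 : Arr Par :=
  (.node 32 (.node 16 (.node 8 (.node 4 (.node 2 (.node 1 (.one ⟨11679, 2, 3⟩) (.one ⟨5362, 2, 3⟩)) (.node 1 (.one ⟨2312, 1, 2⟩) (.one ⟨11807, 1, 3⟩))) (.node 2 (.node 1 (.one ⟨1335, 2, 5⟩) (.one ⟨11489, 2, 3⟩)) (.node 1 (.one ⟨11457, 2, 4⟩) (.one ⟨14382, 0, 3⟩)))) (.node 4 (.node 2 (.node 1 (.one ⟨8235, 2, 5⟩) (.one ⟨10074, 1, 5⟩)) (.node 1 (.one ⟨13196, 1, 1⟩) (.one ⟨126, 2, 4⟩))) (.node 2 (.node 1 (.one ⟨12423, 0, 6⟩) (.one ⟨10356, 2, 5⟩)) (.node 1 (.one ⟨11552, 2, 3⟩) (.one ⟨2155, 0, 4⟩))))) (.node 8 (.node 4 (.node 2 (.node 1 (.one ⟨6623, 2, 4⟩) (.one ⟨16090, 0, 6⟩)) (.node 1 (.one ⟨14084, 1, 4⟩) (.one ⟨13788, 1, 4⟩))) (.node 2 (.node 1 (.one ⟨1195, 2, 4⟩) (.one ⟨4028, 2, 4⟩))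 (.node 1 (.one ⟨12733, 2, 5⟩) (.one ⟨10427, 1, 4⟩)))) (.node 4 (.node 2 (.node 1 (.one ⟨10473, 1, 2⟩) (.one ⟨14585, 2, 3⟩)) (.node 1 (.one ⟨5359, 2, 1⟩) (.one ⟨10542, 1, 2⟩))) (.node 2 (.node 1 (.one ⟨10487, 1, 2⟩) (.one ⟨5575, 2, 3⟩)) (.node 1 (.one ⟨12696, 2, 3⟩) (.one ⟨5930, 1, 2⟩)))))) (.node 16 (.node 8 (.node 4 (.node 2 (.node 1 (.one ⟨6713, 0, 1⟩) (.one ⟨3567, 0, 1⟩)) (.node 1 (.one ⟨15111, 2, 5⟩) (.one ⟨3559, 1, 4⟩))) (.node 2 (.node 1 (.one ⟨17135, 2, 5⟩) (.one ⟨9336, 0, 5⟩)) (.node 1 (.one ⟨17138, 2, 4⟩) (.one ⟨9446, 2, 6⟩)))) (.node 4 (.node 2 (.node 1 (.one ⟨15989, 0, 4⟩) (.one ⟨13438, 2, 5⟩)) (.node 1 (.one ⟨3860, 0, 3⟩) (.one ⟨12117, 2, 4⟩))) (.node 2 (.node 1 (.one ⟨3115, 2, 4⟩) (.one ⟨11107,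 2, 6⟩)) (.node 1 (.one ⟨1725, 0, 4⟩) (.one ⟨13383, 2, 5⟩))))) (.node 8 (.node 4 (.node 2 (.node 1 (.one ⟨5659, 2, 5⟩) (.one ⟨833, 2, 5⟩)) (.node 1 (.one ⟨4992, 0, 5⟩) (.one ⟨13051, 0, 5⟩))) (.node 2 (.node 1 (.one ⟨16812, 0, 6⟩) (.one ⟨5153, 2, 3⟩)) (.node 1 (.one ⟨14042, 2, 3⟩) (.one ⟨16578, 0, 6⟩)))) (.node 4 (.node 2 (.node 1 (.one ⟨11857, 0, 5⟩) (.one ⟨10913, 2, 6⟩)) (.node 1 (.one ⟨6558, 0, 5⟩) (.one ⟨300, 0, 5⟩))) (.node 2 (.node 1 (.one ⟨3102, 1, 3⟩) (.one ⟨15395, 2, 6⟩)) (.node 1 (.one ⟨13203, 0, 5⟩) (.one ⟨8718, 0, 6⟩)))))))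
def par9_11_7 : Arr Par :=
  (.node 32 (.node 16 (.node 8 (.node 4 (.node 2 (.node 1 (.one ⟨12437, 0, 6⟩) (.one ⟨9321, 0, 4⟩)) (.node 1 (.one ⟨16964, 2, 5⟩) (.one ⟨16712, 0, 5⟩))) (.node 2 (.node 1 (.one ⟨10226, 2, 5⟩) (.one ⟨9120, 2, 5⟩)) (.node 1 (.one ⟨290, 1, 3⟩) (.one ⟨8182, 2, 3⟩)))) (.node 4 (.node 2 (.node 1 (.one ⟨7540, 2, 2⟩) (.one ⟨6838, 0, 2⟩)) (.node 1 (.one ⟨9976, 2, 2⟩) (.one ⟨12908, 2, 3⟩))) (.node 2 (.node 1 (.one ⟨9955, 2, 2⟩) (.one ⟨8162, 2, 3⟩)) (.node 1 (.one ⟨12465, 0, 6⟩) (.one ⟨6468, 0, 3⟩))))) (.node 8 (.node 4 (.node 2 (.node 1 (.one ⟨10562, 1, 2⟩) (.one ⟨15757, 0, 4⟩)) (.node 1 (.one ⟨7509, 0, 2⟩) (.one ⟨2906, 2, 5⟩))) (.node 2 (.node 1 (.one ⟨3729, 2, 3⟩) (.one ⟨1151, 2, 4⟩)) (.node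 1 (.one ⟨12199, 1, 3⟩) (.one ⟨3278, 0, 3⟩)))) (.node 4 (.node 2 (.node 1 (.one ⟨7333, 0, 6⟩) (.one ⟨5447, 0, 4⟩)) (.node 1 (.one ⟨9118, 0, 4⟩) (.one ⟨3648, 0, 4⟩))) (.node 2 (.node 1 (.one ⟨1879, 1, 6⟩) (.one ⟨8944, 2, 6⟩)) (.node 1 (.one ⟨13509, 2, 6⟩) (.one ⟨16809, 0, 6⟩)))))) (.node 16 (.node 8 (.node 4 (.node 2 (.node 1 (.one ⟨16579, 0, 6⟩) (.one ⟨1836, 0, 2⟩)) (.node 1 (.one ⟨126, 0, 4⟩) (.one ⟨6559, 2, 3⟩))) (.node 2 (.node 1 (.one ⟨7168, 2, 5⟩) (.one ⟨11547, 2, 3⟩)) (.node 1 (.one ⟨5965, 0, 2⟩) (.one ⟨594, 1, 1⟩)))) (.node 4 (.node 2 (.node 1 (.one ⟨403, 2, 6⟩) (.one ⟨5098, 2, 2⟩)) (.node 1 (.one ⟨5425, 0, 4⟩) (.one ⟨13436, 1, 4⟩))) (.node 2 (.node 1 (.one ⟨4309, 2, 6⟩) (.one ⟨1838, 0, 4⟩)) (.node 1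 (.one ⟨10680, 0, 3⟩) (.one ⟨9443, 2, 3⟩))))) (.node 8 (.node 4 (.node 2 (.node 1 (.one ⟨4094, 2, 5⟩) (.one ⟨1687, 1, 5⟩)) (.node 1 (.one ⟨4636, 0, 2⟩) (.one ⟨12138, 2, 5⟩))) (.node 2 (.node 1 (.one ⟨1193, 2, 3⟩) (.one ⟨6257, 0, 1⟩)) (.node 1 (.one ⟨9608, 2, 3⟩) (.one ⟨2356, 2, 3⟩)))) (.node 4 (.node 2 (.node 1 (.one ⟨10717, 0, 3⟩) (.one ⟨7236, 1, 3⟩)) (.node 1 (.one ⟨1985, 0, 4⟩) (.one ⟨3684, 2, 4⟩))) (.node 2 (.node 1 (.one ⟨16088, 2, 4⟩) (.one ⟨13874, 0, 5⟩)) (.node 1 (.one ⟨14027, 0, 5⟩) (.one ⟨8292, 2, 4⟩)))))))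
def par9_11_8 : Arr Par :=
  (.node 32 (.node 16 (.node 8 (.node 4 (.node 2 (.node 1 (.one ⟨5176, 2, 6⟩) (.one ⟨354, 0, 4⟩)) (.node 1 (.one ⟨3527, 1, 5⟩) (.one ⟨12565, 2, 5⟩))) (.node 2 (.node 1 (.one ⟨265, 0, 5⟩) (.one ⟨111, 0, 1⟩)) (.node 1 (.one ⟨3350, 2, 5⟩) (.one ⟨12773, 2, 5⟩)))) (.node 4 (.node 2 (.node 1 (.one ⟨10632, 0, 5⟩) (.one ⟨11051, 1, 4⟩)) (.node 1 (.one ⟨6911, 0, 4⟩) (.one ⟨644, 0, 5⟩))) (.node 2 (.node 1 (.one ⟨9614, 2, 4⟩) (.one ⟨12174, 2, 6⟩)) (.node 1 (.one ⟨15063, 2, 4⟩) (.one ⟨11364, 2, 3⟩))))) (.node 8 (.node 4 (.node 2 (.node 1 (.one ⟨8629, 2, 4⟩) (.one ⟨9673, 1, 6⟩)) (.node 1 (.one ⟨12823, 1, 6⟩) (.one ⟨16325, 2, 4⟩))) (.node 2 (.node 1 (.one ⟨879, 2, 4⟩) (.one ⟨53, 0, 4⟩)) (.node 1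 (.one ⟨16335, 2, 4⟩) (.one ⟨16059, 2, 4⟩)))) (.node 4 (.node 2 (.node 1 (.one ⟨5930, 2, 2⟩) (.one ⟨15612, 2, 6⟩)) (.node 1 (.one ⟨8848, 2, 2⟩) (.one ⟨5224, 2, 6⟩))) (.node 2 (.node 1 (.one ⟨813, 0, 6⟩) (.one ⟨1188, 2, 5⟩)) (.node 1 (.one ⟨16438, 0, 3⟩) (.one ⟨9939, 0, 2⟩)))))) (.node 16 (.node 8 (.node 4 (.node 2 (.node 1 (.one ⟨14212, 2, 5⟩) (.one ⟨14607, 2, 5⟩)) (.node 1 (.one ⟨8032, 0, 5⟩) (.one ⟨10447, 2, 3⟩))) (.node 2 (.node 1 (.one ⟨11181, 1, 2⟩) (.one ⟨6420, 0, 3⟩)) (.node 1 (.one ⟨8234, 1, 6⟩) (.one ⟨11242, 1, 2⟩)))) (.node 4 (.node 2 (.node 1 (.one ⟨16270, 0, 4⟩) (.one ⟨3311, 2, 3⟩)) (.node 1 (.one ⟨3318, 2, 2⟩) (.one ⟨3553, 1, 2⟩))) (.node 2 (.node 1 (.one ⟨3317, 2, 4⟩) (.one ⟨15252, 0, 6⟩)) (.node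 1 (.one ⟨3313, 2, 6⟩) (.one ⟨3251, 2, 4⟩))))) (.node 8 (.node 4 (.node 2 (.node 1 (.one ⟨11503, 0, 4⟩) (.one ⟨16803, 2, 6⟩)) (.node 1 (.one ⟨16175, 2, 4⟩) (.one ⟨15590, 2, 4⟩))) (.node 2 (.node 1 (.one ⟨877, 0, 4⟩) (.one ⟨4674, 2, 6⟩)) (.node 1 (.one ⟨5422, 0, 4⟩) (.one ⟨10535, 2, 6⟩)))) (.node 4 (.node 2 (.node 1 (.one ⟨476, 2, 3⟩) (.one ⟨6647, 2, 3⟩)) (.node 1 (.one ⟨15530, 2, 6⟩) (.one ⟨12913, 0, 5⟩))) (.node 2 (.node 1 (.one ⟨1803, 2, 3⟩) (.one ⟨6757, 2, 4⟩)) (.node 1 (.one ⟨15387, 0, 5⟩) (.one ⟨16920, 2, 6⟩)))))))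
def par9_11_9 : Arr Par :=
  (.node 32 (.node 16 (.node 8 (.node 4 (.node 2 (.node 1 (.one ⟨14847, 1, 3⟩) (.one ⟨4687, 1, 2⟩)) (.node 1 (.one ⟨16919, 2, 5⟩) (.one ⟨16921, 2, 6⟩))) (.node 2 (.node 1 (.one ⟨10440, 0, 6⟩) (.one ⟨16923, 2, 3⟩)) (.node 1 (.one ⟨13162, 0, 4⟩) (.one ⟨13433, 2, 5⟩)))) (.node 4 (.node 2 (.node 1 (.one ⟨10133, 2, 4⟩) (.one ⟨1044, 2, 5⟩)) (.node 1 (.one ⟨7140, 0, 5⟩) (.one ⟨11672, 0, 3⟩))) (.node 2 (.node 1 (.one ⟨10820, 2, 4⟩) (.one ⟨4157, 0, 3⟩)) (.node 1 (.one ⟨4512, 2, 4⟩) (.one ⟨3009, 0, 6⟩))))) (.node 8 (.node 4 (.node 2 (.node 1 (.one ⟨2153, 0, 3⟩) (.one ⟨6414, 1, 4⟩)) (.node 1 (.one ⟨15096, 2, 5⟩) (.one ⟨12301, 0, 3⟩))) (.node 2 (.node 1 (.one ⟨9991, 2, 5⟩) (.one ⟨8433, 2, 6⟩))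 (.node 1 (.one ⟨9505, 1, 6⟩) (.one ⟨6350, 2, 7⟩)))) (.node 4 (.node 2 (.node 1 (.one ⟨14978, 2, 4⟩) (.one ⟨7947, 2, 4⟩)) (.node 1 (.one ⟨17033, 2, 5⟩) (.one ⟨14212, 0, 5⟩))) (.node 2 (.node 1 (.one ⟨73, 0, 5⟩) (.one ⟨453, 2, 4⟩)) (.node 1 (.one ⟨10642, 1, 3⟩) (.one ⟨3476, 0, 4⟩)))))) (.node 16 (.node 8 (.node 4 (.node 2 (.node 1 (.one ⟨8092, 2, 4⟩) (.one ⟨2321, 0, 4⟩)) (.node 1 (.one ⟨4539, 2, 4⟩) (.one ⟨13017, 0, 6⟩))) (.node 2 (.node 1 (.one ⟨3007, 0, 1⟩) (.one ⟨14150, 1, 4⟩)) (.node 1 (.one ⟨1078, 0, 6⟩) (.one ⟨8378, 0, 5⟩)))) (.node 4 (.node 2 (.node 1 (.one ⟨11235, 0, 5⟩) (.one ⟨452, 2, 5⟩)) (.node 1 (.one ⟨1178, 1, 1⟩) (.one ⟨5440, 0, 5⟩))) (.node 2 (.node 1 (.one ⟨15062, 0, 4⟩) (.one ⟨1882, 0, 4⟩)) (.node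 1 (.one ⟨16332, 0, 5⟩) (.one ⟨4522, 2, 7⟩))))) (.node 8 (.node 4 (.node 2 (.node 1 (.one ⟨14320, 0, 3⟩) (.one ⟨16966, 0, 6⟩)) (.node 1 (.one ⟨4398, 0, 6⟩) (.one ⟨15979, 0, 5⟩))) (.node 2 (.node 1 (.one ⟨15898, 2, 3⟩) (.one ⟨6565, 2, 5⟩)) (.node 1 (.one ⟨15122, 0, 6⟩) (.one ⟨5271, 0, 4⟩)))) (.node 4 (.node 2 (.node 1 (.one ⟨4513, 2, 2⟩) (.one ⟨15095, 2, 3⟩)) (.node 1 (.one ⟨6842, 2, 3⟩) (.one ⟨8842, 2, 2⟩))) (.node 2 (.node 1 (.one ⟨11119, 0, 4⟩) (.one ⟨1799, 2, 1⟩)) (.node 1 (.one ⟨9321, 2, 4⟩) (.one ⟨560, 0, 3⟩)))))))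
def par9_11_10 : Arr Par :=
  (.node 32 (.node 16 (.node 8 (.node 4 (.node 2 (.node 1 (.one ⟨4892, 1, 2⟩) (.one ⟨166, 2, 4⟩)) (.node 1 (.one ⟨2149, 2, 3⟩) (.one ⟨8544, 0, 6⟩))) (.node 2 (.node 1 (.one ⟨10035, 2, 3⟩) (.one ⟨6093, 0, 6⟩)) (.node 1 (.one ⟨8931, 2, 3⟩) (.one ⟨3853, 1, 2⟩)))) (.node 4 (.node 2 (.node 1 (.one ⟨13767, 2, 6⟩) (.one ⟨9207, 0, 6⟩)) (.node 1 (.one ⟨8928, 0, 4⟩) (.one ⟨16370, 2, 5⟩))) (.node 2 (.node 1 (.one ⟨8946, 2, 5⟩) (.one ⟨14273, 0, 3⟩)) (.node 1 (.one ⟨11082, 2, 3⟩) (.one ⟨16877, 2, 4⟩))))) (.node 8 (.node 4 (.node 2 (.node 1 (.one ⟨10184, 0, 4⟩) (.one ⟨4152, 2, 5⟩)) (.node 1 (.one ⟨9992, 2, 4⟩) (.one ⟨14991, 2, 4⟩))) (.node 2 (.node 1 (.one ⟨9118, 2, 4⟩) (.one ⟨1396, 2, 1⟩)) (.node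 1 (.one ⟨8392, 0, 5⟩) (.one ⟨594, 0, 1⟩)))) (.node 4 (.node 2 (.node 1 (.one ⟨8499, 1, 1⟩) (.one ⟨16126, 2, 7⟩)) (.node 1 (.one ⟨1293, 0, 1⟩) (.one ⟨12398, 0, 5⟩))) (.node 2 (.node 1 (.one ⟨5959, 1, 1⟩) (.one ⟨1961, 2, 5⟩)) (.node 1 (.one ⟨9102, 2, 4⟩) (.one ⟨11547, 0, 3⟩)))))) (.node 16 (.node 8 (.node 4 (.node 2 (.node 1 (.one ⟨6197, 0, 4⟩) (.one ⟨15566, 2, 1⟩)) (.node 1 (.one ⟨6488, 1, 2⟩) (.one ⟨11528, 2, 3⟩))) (.node 2 (.node 1 (.one ⟨7168, 0, 5⟩) (.one ⟨6559, 0, 3⟩)) (.node 1 (.one ⟨11362, 0, 4⟩) (.one ⟨12068, 2, 6⟩)))) (.node 4 (.node 2 (.node 1 (.one ⟨1289, 1, 2⟩) (.one ⟨12772, 0, 5⟩)) (.node 1 (.one ⟨7925, 0, 5⟩) (.one ⟨11758, 0, 4⟩))) (.node 2 (.node 1 (.one ⟨8395, 0, 4⟩) (.one ⟨6901, 0, 5⟩)) (.node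 1 (.one ⟨9219, 0, 5⟩) (.one ⟨3436, 1, 5⟩))))) (.node 8 (.node 4 (.node 2 (.node 1 (.one ⟨10968, 1, 3⟩) (.one ⟨4017, 2, 3⟩)) (.node 1 (.one ⟨17167, 1, 4⟩) (.one ⟨11119, 2, 4⟩))) (.node 2 (.node 1 (.one ⟨12518, 2, 3⟩) (.one ⟨12935, 0, 2⟩)) (.node 1 (.one ⟨9601, 0, 5⟩) (.one ⟨12429, 1, 4⟩)))) (.node 4 (.node 2 (.node 1 (.one ⟨15783, 0, 4⟩) (.one ⟨5259, 1, 4⟩)) (.node 1 (.one ⟨955, 0, 4⟩) (.one ⟨11484, 1, 3⟩))) (.node 2 (.node 1 (.one ⟨5424, 2, 4⟩) (.one ⟨4642, 0, 4⟩)) (.node 1 (.one ⟨12045, 0, 3⟩) (.one ⟨1042, 0, 4⟩)))))))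
def par9_11_11 : Arr Par :=
  (.node 32 (.node 16 (.node 8 (.node 4 (.node 2 (.node 1 (.one ⟨564, 0, 3⟩) (.one ⟨794, 0, 4⟩)) (.node 1 (.one ⟨14116, 2, 5⟩) (.one ⟨10167, 1, 2⟩))) (.node 2 (.node 1 (.one ⟨293, 0, 5⟩) (.one ⟨11781, 1, 2⟩)) (.node 1 (.one ⟨534, 2, 4⟩) (.one ⟨16175, 0, 4⟩)))) (.node 4 (.node 2 (.node 1 (.one ⟨1742, 2, 3⟩) (.one ⟨12049, 0, 2⟩)) (.node 1 (.one ⟨13032, 2, 4⟩) (.one ⟨5871, 0, 5⟩))) (.node 2 (.node 1 (.one ⟨11979, 1, 6⟩) (.one ⟨411, 0, 3⟩)) (.node 1 (.one ⟨13771, 0, 4⟩) (.one ⟨4724, 1, 4⟩))))) (.node 8 (.node 4 (.node 2 (.node 1 (.one ⟨6148, 2, 5⟩) (.one ⟨6059, 2, 4⟩)) (.node 1 (.one ⟨3507, 0, 2⟩) (.one ⟨1940, 2, 4⟩))) (.node 2 (.node 1 (.one ⟨17136, 1, 4⟩) (.one ⟨14179, 1, 4⟩)) (.node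 1 (.one ⟨7366, 0, 2⟩) (.one ⟨16964, 0, 5⟩)))) (.node 4 (.node 2 (.node 1 (.one ⟨16454, 0, 4⟩) (.one ⟨8576, 2, 5⟩)) (.node 1 (.one ⟨5663, 0, 5⟩) (.one ⟨549, 0, 6⟩))) (.node 2 (.node 1 (.one ⟨2381, 0, 3⟩) (.one ⟨12415, 2, 4⟩)) (.node 1 (.one ⟨13309, 0, 6⟩) (.one ⟨2920, 2, 3⟩)))))) (.node 16 (.node 8 (.node 4 (.node 2 (.node 1 (.one ⟨11008, 2, 3⟩) (.one ⟨14525, 2, 7⟩)) (.node 1 (.one ⟨6557, 2, 5⟩) (.one ⟨11389, 0, 2⟩))) (.node 2 (.node 1 (.one ⟨5778, 0, 4⟩) (.one ⟨484, 2, 7⟩)) (.node 1 (.one ⟨9717, 2, 7⟩) (.one ⟨11299, 1, 3⟩)))) (.node 4 (.node 2 (.node 1 (.one ⟨5183, 0, 6⟩) (.one ⟨5307, 2, 4⟩)) (.node 1 (.one ⟨333, 0, 4⟩) (.one ⟨9287, 2, 1⟩))) (.node 2 (.node 1 (.one ⟨9363, 0, 4⟩) (.one ⟨14925, 1, 2⟩)) (.node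 1 (.one ⟨13317, 0, 4⟩) (.one ⟨15986, 0, 4⟩))))) (.node 8 (.node 4 (.node 2 (.node 1 (.one ⟨16905, 2, 5⟩) (.one ⟨5922, 2, 4⟩)) (.node 1 (.one ⟨924, 2, 5⟩) (.one ⟨16236, 2, 4⟩))) (.node 2 (.node 1 (.one ⟨5625, 0, 5⟩) (.one ⟨2752, 2, 6⟩)) (.node 1 (.one ⟨2527, 0, 3⟩) (.one ⟨17112, 1, 4⟩)))) (.node 4 (.node 2 (.node 1 (.one ⟨1492, 1, 3⟩) (.one ⟨17099, 1, 1⟩)) (.node 1 (.one ⟨590, 1, 1⟩) (.one ⟨1420, 2, 6⟩))) (.node 2 (.node 1 (.one ⟨12876, 2, 4⟩) (.one ⟨11701, 0, 4⟩)) (.node 1 (.one ⟨12858, 0, 6⟩) (.one ⟨15238, 0, 4⟩)))))))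
def par9_11_12 : Arr Par :=
  (.node 32 (.node 16 (.node 8 (.node 4 (.node 2 (.node 1 (.one ⟨11579, 0, 5⟩) (.one ⟨929, 2, 5⟩)) (.node 1 (.one ⟨175, 2, 5⟩) (.one ⟨1556, 0, 5⟩))) (.node 2 (.node 1 (.one ⟨223, 2, 5⟩) (.one ⟨12221, 0, 5⟩)) (.node 1 (.one ⟨15059, 0, 5⟩) (.one ⟨9924, 1, 6⟩)))) (.node 4 (.node 2 (.node 1 (.one ⟨7215, 2, 3⟩) (.one ⟨13909, 2, 4⟩)) (.node 1 (.one ⟨2965, 2, 2⟩) (.one ⟨6488, 2, 2⟩))) (.node 2 (.node 1 (.one ⟨394, 1, 1⟩) (.one ⟨9233, 0, 2⟩)) (.node 1 (.one ⟨12283, 0, 2⟩) (.one ⟨7747, 2, 4⟩))))) (.node 8 (.node 4 (.node 2 (.node 1 (.one ⟨13684, 1, 4⟩) (.one ⟨79, 1, 1⟩)) (.node 1 (.one ⟨13695, 1, 2⟩) (.one ⟨2963, 2, 1⟩))) (.node 2 (.node 1 (.one ⟨1418, 0, 5⟩) (.one ⟨12092, 0, 2⟩)) (.node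 1 (.one ⟨5671, 1, 2⟩) (.one ⟨15035, 2, 4⟩)))) (.node 4 (.node 2 (.node 1 (.one ⟨1522, 0, 4⟩) (.one ⟨7596, 0, 5⟩)) (.node 1 (.one ⟨8221, 2, 5⟩) (.one ⟨13428, 2, 5⟩))) (.node 2 (.node 1 (.one ⟨102, 1, 1⟩) (.one ⟨12264, 0, 1⟩)) (.node 1 (.one ⟨12285, 0, 6⟩) (.one ⟨14402, 0, 4⟩)))))) (.node 16 (.node 8 (.node 4 (.node 2 (.node 1 (.one ⟨2599, 0, 4⟩) (.one ⟨12795, 0, 4⟩)) (.node 1 (.one ⟨10113, 1, 4⟩) (.one ⟨9738, 0, 3⟩))) (.node 2 (.node 1 (.one ⟨14436, 2, 5⟩) (.one ⟨16989, 0, 4⟩)) (.node 1 (.one ⟨5308, 0, 4⟩) (.one ⟨15326, 0, 5⟩)))) (.node 4 (.node 2 (.node 1 (.one ⟨13564, 0, 5⟩) (.one ⟨13502, 0, 5⟩)) (.node 1 (.one ⟨1245, 2, 6⟩) (.one ⟨8012, 0, 4⟩))) (.node 2 (.node 1 (.one ⟨654, 0, 4⟩) (.one ⟨1590, 0, 5⟩)) (.node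 1 (.one ⟨13867, 2, 2⟩) (.one ⟨16889, 1, 3⟩))))) (.node 8 (.node 4 (.node 2 (.node 1 (.one ⟨9742, 0, 4⟩) (.one ⟨4549, 1, 1⟩)) (.node 1 (.one ⟨12463, 0, 3⟩) (.one ⟨876, 2, 4⟩))) (.node 2 (.node 1 (.one ⟨11092, 2, 6⟩) (.one ⟨9996, 2, 4⟩)) (.node 1 (.one ⟨2814, 2, 6⟩) (.one ⟨2998, 0, 3⟩)))) (.node 4 (.node 2 (.node 1 (.one ⟨8543, 0, 4⟩) (.one ⟨14377, 2, 4⟩)) (.node 1 (.one ⟨4853, 0, 4⟩) (.one ⟨9916, 1, 4⟩))) (.node 2 (.node 1 (.one ⟨950, 0, 1⟩) (.one ⟨11132, 2, 4⟩)) (.node 1 (.one ⟨8674, 2, 4⟩) (.one ⟨16201, 2, 6⟩)))))))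
def par9_11_13 : Arr Par :=
  (.node 32 (.node 16 (.node 8 (.node 4 (.node 2 (.node 1 (.one ⟨8163, 0, 5⟩) (.one ⟨13967, 2, 3⟩)) (.node 1 (.one ⟨13292, 2, 4⟩) (.one ⟨15153, 0, 5⟩))) (.node 2 (.node 1 (.one ⟨7759, 2, 4⟩) (.one ⟨4865, 2, 2⟩)) (.node 1 (.one ⟨6442, 2, 5⟩) (.one ⟨8073, 2, 4⟩)))) (.node 4 (.node 2 (.node 1 (.one ⟨12647, 2, 3⟩) (.one ⟨11503, 2, 4⟩)) (.node 1 (.one ⟨15422, 0, 4⟩) (.one ⟨16876, 2, 5⟩))) (.node 2 (.node 1 (.one ⟨4494, 2, 4⟩) (.one ⟨975, 2, 4⟩)) (.node 1 (.one ⟨15092, 2, 4⟩) (.one ⟨9081, 0, 4⟩))))) (.node 8 (.node 4 (.node 2 (.node 1 (.one ⟨7408, 0, 4⟩) (.one ⟨12327, 0, 6⟩)) (.node 1 (.one ⟨4867, 2, 3⟩) (.one ⟨7170, 2, 3⟩))) (.node 2 (.node 1 (.one ⟨12243, 2, 5⟩) (.one ⟨8191, 2, 3⟩))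 (.node 1 (.one ⟨11549, 2, 5⟩) (.one ⟨13177, 0, 5⟩)))) (.node 4 (.node 2 (.node 1 (.one ⟨13130, 1, 4⟩) (.one ⟨15790, 2, 4⟩)) (.node 1 (.one ⟨5076, 0, 3⟩) (.one ⟨15685, 1, 2⟩))) (.node 2 (.node 1 (.one ⟨9271, 0, 4⟩) (.one ⟨10951, 2, 4⟩)) (.node 1 (.one ⟨2455, 1, 4⟩) (.one ⟨690, 2, 5⟩)))))) (.node 16 (.node 8 (.node 4 (.node 2 (.node 1 (.one ⟨4933, 1, 0⟩) (.one ⟨705, 0, 3⟩)) (.node 1 (.one ⟨10595, 1, 6⟩) (.one ⟨1372, 0, 4⟩))) (.node 2 (.node 1 (.one ⟨16312, 0, 2⟩) (.one ⟨5210, 2, 3⟩)) (.node 1 (.one ⟨4413, 0, 3⟩) (.one ⟨13162, 1, 4⟩)))) (.node 4 (.node 2 (.node 1 (.one ⟨9757, 2, 4⟩) (.one ⟨4411, 1, 4⟩)) (.node 1 (.one ⟨7255, 0, 4⟩) (.one ⟨5229, 1, 0⟩))) (.node 2 (.node 1 (.one ⟨14744, 0, 4⟩) (.one ⟨4773, 2, 4⟩))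 (.node 1 (.one ⟨12966, 0, 5⟩) (.one ⟨16092, 0, 5⟩))))) (.node 8 (.node 4 (.node 2 (.node 1 (.one ⟨13624, 2, 4⟩) (.one ⟨4417, 0, 4⟩)) (.node 1 (.one ⟨4912, 1, 0⟩) (.one ⟨1792, 2, 4⟩))) (.node 2 (.node 1 (.one ⟨9995, 2, 4⟩) (.one ⟨13911, 2, 5⟩)) (.node 1 (.one ⟨5975, 2, 4⟩) (.one ⟨11702, 2, 4⟩)))) (.node 4 (.node 2 (.node 1 (.one ⟨3059, 0, 4⟩) (.one ⟨3661, 2, 4⟩)) (.node 1 (.one ⟨11791, 0, 4⟩) (.one ⟨1104, 2, 3⟩))) (.node 2 (.node 1 (.one ⟨547, 0, 5⟩) (.one ⟨9239, 2, 3⟩)) (.node 1 (.one ⟨12923, 0, 4⟩) (.one ⟨11126, 2, 5⟩)))))))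
def par9_11_14 : Arr Par :=
  (.node 32 (.node 16 (.node 8 (.node 4 (.node 2 (.node 1 (.one ⟨4869, 2, 3⟩) (.one ⟨9939, 1, 2⟩)) (.node 1 (.one ⟨15670, 2, 2⟩) (.one ⟨15609, 2, 2⟩))) (.node 2 (.node 1 (.one ⟨3901, 1, 2⟩) (.one ⟨2627, 2, 6⟩)) (.node 1 (.one ⟨5059, 0, 3⟩) (.one ⟨4760, 2, 2⟩)))) (.node 4 (.node 2 (.node 1 (.one ⟨12669, 0, 4⟩) (.one ⟨17173, 0, 6⟩)) (.node 1 (.one ⟨6646, 2, 5⟩) (.one ⟨236, 2, 4⟩))) (.node 2 (.node 1 (.one ⟨14592, 0, 4⟩) (.one ⟨12995, 2, 5⟩)) (.node 1 (.one ⟨7438, 0, 5⟩) (.one ⟨1625, 0, 2⟩))))) (.node 8 (.node 4 (.node 2 (.node 1 (.one ⟨5247, 2, 5⟩) (.one ⟨16383, 2, 3⟩)) (.node 1 (.one ⟨4339, 0, 6⟩) (.one ⟨4863, 2, 4⟩))) (.node 2 (.node 1 (.one ⟨10704, 0, 2⟩) (.one ⟨111, 1, 1⟩)) (.node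 1 (.one ⟨16000, 2, 5⟩) (.one ⟨7741, 0, 3⟩)))) (.node 4 (.node 2 (.node 1 (.one ⟨9276, 0, 6⟩) (.one ⟨11999, 0, 4⟩)) (.node 1 (.one ⟨6354, 0, 6⟩) (.one ⟨8923, 0, 3⟩))) (.node 2 (.node 1 (.one ⟨5687, 2, 5⟩) (.one ⟨3886, 2, 5⟩)) (.node 1 (.one ⟨7622, 2, 3⟩) (.one ⟨16953, 0, 6⟩)))))) (.node 16 (.node 8 (.node 4 (.node 2 (.node 1 (.one ⟨11954, 0, 5⟩) (.one ⟨6725, 0, 3⟩)) (.node 1 (.one ⟨1068, 0, 5⟩) (.one ⟨12492, 0, 2⟩))) (.node 2 (.node 1 (.one ⟨17091, 0, 4⟩) (.one ⟨2801, 2, 6⟩)) (.node 1 (.one ⟨2166, 2, 5⟩) (.one ⟨2034, 1, 2⟩)))) (.node 4 (.node 2 (.node 1 (.one ⟨2217, 1, 4⟩) (.one ⟨16678, 0, 5⟩)) (.node 1 (.one ⟨10159, 2, 3⟩) (.one ⟨4345, 0, 4⟩))) (.node 2 (.node 1 (.one ⟨135, 0, 5⟩) (.one ⟨12223, 1, 5⟩)) (.node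 1 (.one ⟨4905, 0, 3⟩) (.one ⟨3523, 0, 3⟩))))) (.node 8 (.node 4 (.node 2 (.node 1 (.one ⟨5147, 2, 5⟩) (.one ⟨12975, 2, 3⟩)) (.node 1 (.one ⟨1138, 2, 3⟩) (.one ⟨11906, 2, 4⟩))) (.node 2 (.node 1 (.one ⟨13418, 0, 4⟩) (.one ⟨11518, 2, 4⟩)) (.node 1 (.one ⟨4038, 2, 3⟩) (.one ⟨8250, 0, 5⟩)))) (.node 4 (.node 2 (.node 1 (.one ⟨8322, 0, 3⟩) (.one ⟨1646, 0, 3⟩)) (.node 1 (.one ⟨1069, 0, 6⟩) (.one ⟨5667, 0, 5⟩))) (.node 2 (.node 1 (.one ⟨12809, 1, 4⟩) (.one ⟨4208, 0, 4⟩)) (.node 1 (.one ⟨4392, 0, 6⟩) (.one ⟨4012, 0, 4⟩)))))))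
def par9_11_15 : Arr Par :=
  (.node 32 (.node 16 (.node 8 (.node 4 (.node 2 (.node 1 (.one ⟨12254, 2, 5⟩) (.one ⟨6298, 0, 4⟩)) (.node 1 (.one ⟨12238, 2, 4⟩) (.one ⟨12269, 2, 6⟩))) (.node 2 (.node 1 (.one ⟨10415, 0, 4⟩) (.one ⟨15681, 0, 4⟩)) (.node 1 (.one ⟨13226, 1, 2⟩) (.one ⟨1087, 2, 2⟩)))) (.node 4 (.node 2 (.node 1 (.one ⟨5759, 0, 4⟩) (.one ⟨9370, 2, 3⟩)) (.node 1 (.one ⟨4049, 2, 1⟩) (.one ⟨2215, 2, 1⟩))) (.node 2 (.node 1 (.one ⟨12231, 2, 3⟩) (.one ⟨10207, 2, 4⟩)) (.node 1 (.one ⟨4224, 2, 3⟩) (.one ⟨802, 0, 4⟩))))) (.node 8 (.node 4 (.node 2 (.node 1 (.one ⟨15903, 0, 2⟩) (.one ⟨6697, 0, 4⟩)) (.node 1 (.one ⟨12924, 0, 4⟩) (.one ⟨10415, 2, 4⟩))) (.node 2 (.node 1 (.one ⟨16058, 2, 2⟩) (.one ⟨2227, 0, 2⟩))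 (.node 1 (.one ⟨16237, 0, 4⟩) (.one ⟨16987, 0, 5⟩)))) (.node 4 (.node 2 (.node 1 (.one ⟨2808, 2, 1⟩) (.one ⟨3561, 0, 5⟩)) (.node 1 (.one ⟨8508, 0, 5⟩) (.one ⟨10815, 2, 3⟩))) (.node 2 (.node 1 (.one ⟨9680, 2, 4⟩) (.one ⟨5528, 2, 4⟩)) (.node 1 (.one ⟨9766, 0, 4⟩) (.one ⟨5250, 1, 0⟩)))))) (.node 16 (.node 8 (.node 4 (.node 2 (.node 1 (.one ⟨1633, 2, 4⟩) (.one ⟨12373, 2, 6⟩)) (.node 1 (.one ⟨9353, 0, 2⟩) (.one ⟨5371, 1, 0⟩))) (.node 2 (.node 1 (.one ⟨87, 0, 3⟩) (.one ⟨9773, 2, 3⟩)) (.node 1 (.one ⟨3325, 1, 3⟩) (.one ⟨8810, 2, 3⟩)))) (.node 4 (.node 2 (.node 1 (.one ⟨5274, 1, 0⟩) (.one ⟨14904, 2, 4⟩)) (.node 1 (.one ⟨12267, 2, 5⟩) (.one ⟨16009, 1, 4⟩))) (.node 2 (.node 1 (.one ⟨2576, 0, 4⟩) (.one ⟨7040, 0, 5⟩))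 (.node 1 (.one ⟨1748, 1, 4⟩) (.one ⟨15204, 2, 4⟩))))) (.node 8 (.node 4 (.node 2 (.node 1 (.one ⟨16929, 2, 5⟩) (.one ⟨6810, 0, 5⟩)) (.node 1 (.one ⟨7975, 2, 4⟩) (.one ⟨11532, 2, 3⟩))) (.node 2 (.node 1 (.one ⟨13609, 2, 5⟩) (.one ⟨7135, 0, 5⟩)) (.node 1 (.one ⟨3559, 2, 4⟩) (.one ⟨468, 0, 4⟩)))) (.node 4 (.node 2 (.node 1 (.one ⟨15916, 2, 3⟩) (.one ⟨12123, 0, 3⟩)) (.node 1 (.one ⟨1005, 2, 4⟩) (.one ⟨2216, 2, 1⟩))) (.node 2 (.node 1 (.one ⟨16032, 2, 4⟩) (.one ⟨15920, 2, 5⟩)) (.node 1 (.one ⟨2096, 2, 5⟩) (.one ⟨3982, 2, 6⟩)))))))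
def par9_11 : Arr Par :=
  (.node 512 (.node 256 (.node 128 (.node 64 par9_11_0 par9_11_1) (.node 64 par9_11_2 par9_11_3)) (.node 128 (.node 64 par9_11_4 par9_11_5) (.node 64 par9_11_6 par9_11_7))) (.node 256 (.node 128 (.node 64 par9_11_8 par9_11_9) (.node 64 par9_11_10 par9_11_11)) (.node 128 (.node 64 par9_11_12 par9_11_13) (.node 64 par9_11_14 par9_11_15))))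
def par9_12_0 : Arr Par :=
  (.node 32 (.node 16 (.node 8 (.node 4 (.node 2 (.node 1 (.one ⟨1789, 2, 7⟩) (.one ⟨3981, 2, 2⟩)) (.node 1 (.one ⟨1790, 2, 2⟩) (.one ⟨1786, 2, 5⟩))) (.node 2 (.node 1 (.one ⟨2801, 0, 6⟩) (.one ⟨10739, 0, 3⟩)) (.node 1 (.one ⟨3978, 2, 6⟩) (.one ⟨10380, 2, 5⟩)))) (.node 4 (.node 2 (.node 1 (.one ⟨11730, 2, 3⟩) (.one ⟨853, 2, 6⟩)) (.node 1 (.one ⟨4375, 2, 3⟩) (.one ⟨8510, 0, 6⟩))) (.node 2 (.node 1 (.one ⟨11573, 2, 5⟩) (.one ⟨2034, 2, 2⟩)) (.node 1 (.one ⟨4053, 2, 2⟩) (.one ⟨3389, 0, 2⟩))))) (.node 8 (.node 4 (.node 2 (.node 1 (.one ⟨9039, 0, 5⟩) (.one ⟨14579, 2, 2⟩)) (.node 1 (.one ⟨11098, 0, 3⟩) (.one ⟨4676, 2, 6⟩))) (.node 2 (.node 1 (.one ⟨876, 0, 4⟩) (.one ⟨10304, 0, 2⟩)) (.node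 1 (.one ⟨10308, 2, 4⟩) (.one ⟨6211, 0, 5⟩)))) (.node 4 (.node 2 (.node 1 (.one ⟨11177, 2, 3⟩) (.one ⟨1332, 0, 5⟩)) (.node 1 (.one ⟨8691, 0, 3⟩) (.one ⟨646, 2, 5⟩))) (.node 2 (.node 1 (.one ⟨10584, 0, 5⟩) (.one ⟨11160, 2, 5⟩)) (.node 1 (.one ⟨4140, 2, 5⟩) (.one ⟨326, 2, 5⟩)))))) (.node 16 (.node 8 (.node 4 (.node 2 (.node 1 (.one ⟨577, 0, 3⟩) (.one ⟨12187, 2, 4⟩)) (.node 1 (.one ⟨12368, 2, 5⟩) (.one ⟨8712, 2, 6⟩))) (.node 2 (.node 1 (.one ⟨8487, 2, 6⟩) (.one ⟨15577, 2, 7⟩)) (.node 1 (.one ⟨15422, 2, 4⟩) (.one ⟨7057, 0, 5⟩)))) (.node 4 (.node 2 (.node 1 (.one ⟨8074, 0, 5⟩) (.one ⟨14674, 2, 3⟩)) (.node 1 (.one ⟨10032, 1, 4⟩) (.one ⟨4631, 0, 5⟩))) (.node 2 (.node 1 (.one ⟨1377, 1, 3⟩) (.one ⟨17004, 2, 5⟩)) (.node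 1 (.one ⟨10658, 0, 5⟩) (.one ⟨9286, 1, 4⟩))))) (.node 8 (.node 4 (.node 2 (.node 1 (.one ⟨12358, 0, 3⟩) (.one ⟨7606, 1, 4⟩)) (.node 1 (.one ⟨10876, 0, 3⟩) (.one ⟨10512, 0, 5⟩))) (.node 2 (.node 1 (.one ⟨1631, 2, 4⟩) (.one ⟨2169, 2, 5⟩)) (.node 1 (.one ⟨719, 2, 5⟩) (.one ⟨15334, 2, 6⟩)))) (.node 4 (.node 2 (.node 1 (.one ⟨11560, 0, 4⟩) (.one ⟨3199, 1, 3⟩)) (.node 1 (.one ⟨5927, 0, 3⟩) (.one ⟨13627, 2, 3⟩))) (.node 2 (.node 1 (.one ⟨15609, 0, 2⟩) (.one ⟨3205, 2, 6⟩)) (.node 1 (.one ⟨1607, 0, 4⟩) (.one ⟨4690, 2, 6⟩)))))))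
def par9_12_1 : Arr Par :=
  (.node 32 (.node 16 (.node 8 (.node 4 (.node 2 (.node 1 (.one ⟨5, 2, 5⟩) (.one ⟨5503, 2, 5⟩)) (.node 1 (.one ⟨2634, 2, 4⟩) (.one ⟨10245, 0, 4⟩))) (.node 2 (.node 1 (.one ⟨5978, 2, 5⟩) (.one ⟨8881, 2, 6⟩)) (.node 1 (.one ⟨4760, 1, 2⟩) (.one ⟨13295, 0, 4⟩)))) (.node 4 (.node 2 (.node 1 (.one ⟨8616, 0, 3⟩) (.one ⟨15991, 2, 4⟩)) (.node 1 (.one ⟨13297, 0, 2⟩) (.one ⟨16150, 1, 6⟩))) (.node 2 (.node 1 (.one ⟨4867, 1, 3⟩) (.one ⟨8864, 2, 4⟩)) (.node 1 (.one ⟨13087, 2, 6⟩) (.one ⟨9110, 2, 6⟩))))) (.node 8 (.node 4 (.node 2 (.node 1 (.one ⟨8883, 2, 4⟩) (.one ⟨6660, 2, 4⟩)) (.node 1 (.one ⟨14286, 1, 5⟩) (.one ⟨4077, 2, 2⟩))) (.node 2 (.node 1 (.one ⟨4270, 2, 5⟩) (.one ⟨2162, 2, 5⟩)) (.node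 1 (.one ⟨1019, 2, 6⟩) (.one ⟨5196, 2, 3⟩)))) (.node 4 (.node 2 (.node 1 (.one ⟨5025, 0, 4⟩) (.one ⟨405, 2, 4⟩)) (.node 1 (.one ⟨11088, 2, 6⟩) (.one ⟨2643, 2, 3⟩))) (.node 2 (.node 1 (.one ⟨3566, 1, 1⟩) (.one ⟨5015, 2, 4⟩)) (.node 1 (.one ⟨3729, 1, 3⟩) (.one ⟨12075, 0, 5⟩)))))) (.node 16 (.node 8 (.node 4 (.node 2 (.node 1 (.one ⟨9772, 0, 4⟩) (.one ⟨7483, 0, 4⟩)) (.node 1 (.one ⟨3503, 2, 4⟩) (.one ⟨7174, 0, 5⟩))) (.node 2 (.node 1 (.one ⟨8406, 0, 5⟩) (.one ⟨8076, 2, 3⟩)) (.node 1 (.one ⟨3536, 2, 6⟩) (.one ⟨2444, 0, 5⟩)))) (.node 4 (.node 2 (.node 1 (.one ⟨4802, 0, 4⟩) (.one ⟨4741, 2, 4⟩)) (.node 1 (.one ⟨14283, 1, 4⟩) (.one ⟨15263, 0, 5⟩))) (.node 2 (.node 1 (.one ⟨13977, 2, 6⟩) (.one ⟨11602, 0, 6⟩)) (.node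 1 (.one ⟨2898, 1, 4⟩) (.one ⟨9560, 0, 1⟩))))) (.node 8 (.node 4 (.node 2 (.node 1 (.one ⟨7654, 2, 3⟩) (.one ⟨12816, 2, 4⟩)) (.node 1 (.one ⟨504, 1, 4⟩) (.one ⟨1812, 2, 3⟩))) (.node 2 (.node 1 (.one ⟨16258, 0, 5⟩) (.one ⟨2308, 2, 4⟩)) (.node 1 (.one ⟨14871, 2, 4⟩) (.one ⟨8264, 0, 4⟩)))) (.node 4 (.node 2 (.node 1 (.one ⟨4053, 1, 2⟩) (.one ⟨12395, 2, 6⟩)) (.node 1 (.one ⟨4392, 2, 6⟩) (.one ⟨1240, 0, 4⟩))) (.node 2 (.node 1 (.one ⟨4359, 2, 6⟩) (.one ⟨12508, 0, 4⟩)) (.node 1 (.one ⟨4007, 0, 4⟩) (.one ⟨2735, 2, 3⟩)))))))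
def par9_12_2 : Arr Par :=
  (.node 32 (.node 16 (.node 8 (.node 4 (.node 2 (.node 1 (.one ⟨4903, 0, 5⟩) (.one ⟨3706, 0, 6⟩)) (.node 1 (.one ⟨8506, 2, 6⟩) (.one ⟨13613, 2, 3⟩))) (.node 2 (.node 1 (.one ⟨13772, 0, 3⟩) (.one ⟨15011, 0, 3⟩)) (.node 1 (.one ⟨1278, 0, 5⟩) (.one ⟨11683, 0, 5⟩)))) (.node 4 (.node 2 (.node 1 (.one ⟨9168, 0, 3⟩) (.one ⟨7167, 2, 5⟩)) (.node 1 (.one ⟨1197, 0, 3⟩) (.one ⟨1426, 0, 3⟩))) (.node 2 (.node 1 (.one ⟨3579, 0, 3⟩) (.one ⟨9451, 0, 3⟩)) (.node 1 (.one ⟨3566, 2, 1⟩) (.one ⟨15766, 0, 5⟩))))) (.node 8 (.node 4 (.node 2 (.node 1 (.one ⟨11845, 0, 4⟩) (.one ⟨14990, 2, 6⟩)) (.node 1 (.one ⟨6166, 0, 3⟩) (.one ⟨16243, 0, 5⟩))) (.node 2 (.node 1 (.one ⟨4727, 2, 6⟩) (.one ⟨9641, 2, 5⟩)) (.node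 1 (.one ⟨5584, 2, 1⟩) (.one ⟨11749, 0, 4⟩)))) (.node 4 (.node 2 (.node 1 (.one ⟨15328, 2, 4⟩) (.one ⟨9756, 2, 6⟩)) (.node 1 (.one ⟨9718, 0, 4⟩) (.one ⟨9099, 0, 5⟩))) (.node 2 (.node 1 (.one ⟨812, 2, 3⟩) (.one ⟨7178, 2, 5⟩)) (.node 1 (.one ⟨7115, 0, 6⟩) (.one ⟨6849, 1, 2⟩)))))) (.node 16 (.node 8 (.node 4 (.node 2 (.node 1 (.one ⟨5586, 2, 4⟩) (.one ⟨13710, 2, 4⟩)) (.node 1 (.one ⟨13049, 1, 4⟩) (.one ⟨7302, 2, 2⟩))) (.node 2 (.node 1 (.one ⟨16799, 0, 4⟩) (.one ⟨15770, 0, 5⟩)) (.node 1 (.one ⟨15196, 2, 6⟩) (.one ⟨16239, 0, 5⟩)))) (.node 4 (.node 2 (.node 1 (.one ⟨506, 0, 5⟩) (.one ⟨6430, 1, 2⟩)) (.node 1 (.one ⟨5362, 1, 3⟩) (.one ⟨11114, 0, 5⟩))) (.node 2 (.node 1 (.one ⟨9096, 0, 2⟩) (.one ⟨16660, 0, 5⟩)) (.node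 1 (.one ⟨3493, 0, 5⟩) (.one ⟨2561, 2, 2⟩))))) (.node 8 (.node 4 (.node 2 (.node 1 (.one ⟨7124, 0, 3⟩) (.one ⟨7813, 2, 5⟩)) (.node 1 (.one ⟨11279, 2, 3⟩) (.one ⟨13948, 1, 3⟩))) (.node 2 (.node 1 (.one ⟨13652, 2, 5⟩) (.one ⟨6919, 2, 4⟩)) (.node 1 (.one ⟨12562, 2, 4⟩) (.one ⟨6149, 2, 3⟩)))) (.node 4 (.node 2 (.node 1 (.one ⟨13443, 0, 3⟩) (.one ⟨7709, 2, 6⟩)) (.node 1 (.one ⟨11068, 2, 3⟩) (.one ⟨1814, 2, 5⟩))) (.node 2 (.node 1 (.one ⟨2701, 1, 3⟩) (.one ⟨16403, 0, 5⟩)) (.node 1 (.one ⟨7930, 1, 5⟩) (.one ⟨2842, 0, 3⟩)))))))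
def par9_12_3 : Arr Par :=
  (.node 32 (.node 16 (.node 8 (.node 4 (.node 2 (.node 1 (.one ⟨12946, 2, 4⟩) (.one ⟨16854, 0, 3⟩)) (.node 1 (.one ⟨14214, 0, 5⟩) (.one ⟨5502, 0, 3⟩))) (.node 2 (.node 1 (.one ⟨4951, 1, 0⟩) (.one ⟨15004, 0, 3⟩)) (.node 1 (.one ⟨3070, 2, 4⟩) (.one ⟨6387, 0, 3⟩)))) (.node 4 (.node 2 (.node 1 (.one ⟨14135, 1, 2⟩) (.one ⟨10620, 2, 3⟩)) (.node 1 (.one ⟨16757, 0, 5⟩) (.one ⟨7312, 2, 4⟩))) (.node 2 (.node 1 (.one ⟨2564, 2, 1⟩) (.one ⟨12897, 1, 3⟩)) (.node 1 (.one ⟨15714, 1, 2⟩) (.one ⟨5770, 2, 6⟩))))) (.node 8 (.node 4 (.node 2 (.node 1 (.one ⟨15566, 1, 1⟩) (.one ⟨13422, 1, 4⟩)) (.node 1 (.one ⟨9437, 2, 1⟩) (.one ⟨13768, 2, 6⟩))) (.node 2 (.node 1 (.one ⟨16315, 2, 1⟩) (.one ⟨8819, 0, 3⟩))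 (.node 1 (.one ⟨705, 2, 3⟩) (.one ⟨13770, 0, 3⟩)))) (.node 4 (.node 2 (.node 1 (.one ⟨5507, 0, 6⟩) (.one ⟨26, 2, 3⟩)) (.node 1 (.one ⟨23, 0, 5⟩) (.one ⟨13916, 0, 4⟩))) (.node 2 (.node 1 (.one ⟨5426, 0, 3⟩) (.one ⟨10130, 2, 5⟩)) (.node 1 (.one ⟨1615, 0, 3⟩) (.one ⟨12727, 0, 5⟩)))))) (.node 16 (.node 8 (.node 4 (.node 2 (.node 1 (.one ⟨9221, 0, 5⟩) (.one ⟨7946, 0, 5⟩)) (.node 1 (.one ⟨6902, 0, 5⟩) (.one ⟨17180, 0, 5⟩))) (.node 2 (.node 1 (.one ⟨4381, 1, 3⟩) (.one ⟨3480, 1, 2⟩)) (.node 1 (.one ⟨1453, 1, 2⟩) (.one ⟨10111, 2, 6⟩)))) (.node 4 (.node 2 (.node 1 (.one ⟨11870, 1, 4⟩) (.one ⟨110, 0, 5⟩)) (.node 1 (.one ⟨5909, 1, 3⟩) (.one ⟨1521, 0, 4⟩))) (.node 2 (.node 1 (.one ⟨16917, 0, 4⟩) (.one ⟨589, 2, 1⟩)) (.node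 1 (.one ⟨11952, 0, 4⟩) (.one ⟨13950, 2, 4⟩))))) (.node 8 (.node 4 (.node 2 (.node 1 (.one ⟨7443, 1, 4⟩) (.one ⟨9708, 1, 4⟩)) (.node 1 (.one ⟨6458, 0, 2⟩) (.one ⟨15455, 2, 6⟩))) (.node 2 (.node 1 (.one ⟨12472, 0, 4⟩) (.one ⟨283, 0, 6⟩)) (.node 1 (.one ⟨12216, 1, 4⟩) (.one ⟨4832, 2, 4⟩)))) (.node 4 (.node 2 (.node 1 (.one ⟨3164, 2, 5⟩) (.one ⟨14086, 0, 3⟩)) (.node 1 (.one ⟨9858, 1, 4⟩) (.one ⟨5420, 0, 5⟩))) (.node 2 (.node 1 (.one ⟨7060, 0, 2⟩) (.one ⟨16856, 0, 5⟩)) (.node 1 (.one ⟨4831, 2, 6⟩) (.one ⟨2182, 2, 5⟩)))))))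
def par9_12_4 : Arr Par :=
  (.node 32 (.node 16 (.node 8 (.node 4 (.node 2 (.node 1 (.one ⟨1422, 2, 3⟩) (.one ⟨13351, 0, 5⟩)) (.node 1 (.one ⟨1240, 2, 4⟩) (.one ⟨2102, 2, 6⟩))) (.node 2 (.node 1 (.one ⟨591, 2, 6⟩) (.one ⟨13357, 0, 4⟩)) (.node 1 (.one ⟨1473, 2, 6⟩) (.one ⟨4893, 0, 5⟩)))) (.node 4 (.node 2 (.node 1 (.one ⟨16141, 0, 3⟩) (.one ⟨15007, 0, 3⟩)) (.node 1 (.one ⟨5302, 1, 0⟩) (.one ⟨14508, 0, 3⟩))) (.node 2 (.node 1 (.one ⟨4928, 1, 0⟩) (.one ⟨4207, 0, 6⟩)) (.node 1 (.one ⟨16855, 0, 3⟩) (.one ⟨2115, 2, 3⟩))))) (.node 8 (.node 4 (.node 2 (.node 1 (.one ⟨3261, 0, 2⟩) (.one ⟨1476, 2, 6⟩)) (.node 1 (.one ⟨16722, 1, 3⟩) (.one ⟨6663, 2, 5⟩))) (.node 2 (.node 1 (.one ⟨2786, 0, 4⟩) (.one ⟨14687, 0, 4⟩)) (.node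 1 (.one ⟨8633, 1, 4⟩) (.one ⟨11800, 2, 3⟩)))) (.node 4 (.node 2 (.node 1 (.one ⟨12793, 2, 5⟩) (.one ⟨10187, 2, 4⟩)) (.node 1 (.one ⟨10915, 2, 3⟩) (.one ⟨2740, 2, 1⟩))) (.node 2 (.node 1 (.one ⟨7768, 0, 4⟩) (.one ⟨15902, 0, 3⟩)) (.node 1 (.one ⟨3318, 0, 2⟩) (.one ⟨6013, 1, 5⟩)))))) (.node 16 (.node 8 (.node 4 (.node 2 (.node 1 (.one ⟨11069, 2, 3⟩) (.one ⟨3389, 2, 2⟩)) (.node 1 (.one ⟨1753, 0, 4⟩) (.one ⟨12043, 0, 3⟩))) (.node 2 (.node 1 (.one ⟨13115, 2, 4⟩) (.one ⟨12180, 0, 3⟩)) (.node 1 (.one ⟨10681, 1, 4⟩) (.one ⟨9892, 0, 2⟩)))) (.node 4 (.node 2 (.node 1 (.one ⟨332, 2, 3⟩) (.one ⟨2467, 2, 5⟩)) (.node 1 (.one ⟨9003, 2, 4⟩) (.one ⟨12624, 0, 6⟩))) (.node 2 (.node 1 (.one ⟨5123, 2, 5⟩) (.one ⟨12426, 1, 4⟩)) (.node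 1 (.one ⟨6709, 0, 1⟩) (.one ⟨11936, 2, 5⟩))))) (.node 8 (.node 4 (.node 2 (.node 1 (.one ⟨2492, 2, 2⟩) (.one ⟨7401, 0, 5⟩)) (.node 1 (.one ⟨9255, 0, 4⟩) (.one ⟨14592, 2, 4⟩))) (.node 2 (.node 1 (.one ⟨8717, 0, 6⟩) (.one ⟨12139, 0, 1⟩)) (.node 1 (.one ⟨16523, 2, 5⟩) (.one ⟨4988, 0, 6⟩)))) (.node 4 (.node 2 (.node 1 (.one ⟨1209, 2, 4⟩) (.one ⟨588, 2, 3⟩)) (.node 1 (.one ⟨17161, 2, 4⟩) (.one ⟨9492, 2, 4⟩))) (.node 2 (.node 1 (.one ⟨9112, 2, 4⟩) (.one ⟨9131, 2, 3⟩)) (.node 1 (.one ⟨9384, 2, 3⟩) (.one ⟨14759, 0, 4⟩)))))))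
def par9_12_5 : Arr Par :=
  (.node 32 (.node 16 (.node 8 (.node 4 (.node 2 (.node 1 (.one ⟨16808, 0, 6⟩) (.one ⟨195, 0, 6⟩)) (.node 1 (.one ⟨3776, 0, 2⟩) (.one ⟨135, 2, 5⟩))) (.node 2 (.node 1 (.one ⟨16678, 2, 5⟩) (.one ⟨4905, 2, 3⟩)) (.node 1 (.one ⟨2573, 0, 2⟩) (.one ⟨10752, 0, 2⟩)))) (.node 4 (.node 2 (.node 1 (.one ⟨15355, 1, 4⟩) (.one ⟨16600, 0, 4⟩)) (.node 1 (.one ⟨12460, 1, 3⟩) (.one ⟨12061, 0, 2⟩))) (.node 2 (.node 1 (.one ⟨2349, 1, 4⟩) (.one ⟨14614, 2, 3⟩)) (.node 1 (.one ⟨10316, 2, 6⟩) (.one ⟨11020, 2, 3⟩))))) (.node 8 (.node 4 (.node 2 (.node 1 (.one ⟨12538, 0, 5⟩) (.one ⟨3705, 2, 4⟩)) (.node 1 (.one ⟨13441, 0, 5⟩) (.one ⟨3578, 0, 5⟩))) (.node 2 (.node 1 (.one ⟨2967, 2, 4⟩) (.one ⟨4770, 0, 4⟩))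 (.node 1 (.one ⟨11819, 2, 3⟩) (.one ⟨4274, 0, 3⟩)))) (.node 4 (.node 2 (.node 1 (.one ⟨6119, 1, 4⟩) (.one ⟨15782, 1, 2⟩)) (.node 1 (.one ⟨4417, 2, 4⟩) (.one ⟨14736, 1, 3⟩))) (.node 2 (.node 1 (.one ⟨5330, 2, 3⟩) (.one ⟨7837, 2, 3⟩)) (.node 1 (.one ⟨13113, 2, 4⟩) (.one ⟨2187, 2, 7⟩)))))) (.node 16 (.node 8 (.node 4 (.node 2 (.node 1 (.one ⟨13731, 0, 2⟩) (.one ⟨11745, 2, 3⟩)) (.node 1 (.one ⟨3711, 2, 7⟩) (.one ⟨15717, 2, 7⟩))) (.node 2 (.node 1 (.one ⟨13724, 0, 4⟩) (.one ⟨15196, 0, 6⟩)) (.node 1 (.one ⟨13762, 2, 7⟩) (.one ⟨10961, 1, 2⟩)))) (.node 4 (.node 2 (.node 1 (.one ⟨11952, 1, 4⟩) (.one ⟨12530, 2, 3⟩)) (.node 1 (.one ⟨9110, 0, 6⟩) (.one ⟨2361, 2, 3⟩))) (.node 2 (.node 1 (.one ⟨548, 2, 4⟩) (.one ⟨14850,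 2, 2⟩)) (.node 1 (.one ⟨15239, 2, 7⟩) (.one ⟨16439, 0, 4⟩))))) (.node 8 (.node 4 (.node 2 (.node 1 (.one ⟨585, 1, 1⟩) (.one ⟨3675, 2, 3⟩)) (.node 1 (.one ⟨1917, 2, 2⟩) (.one ⟨16156, 2, 4⟩))) (.node 2 (.node 1 (.one ⟨14630, 0, 6⟩) (.one ⟨13263, 2, 2⟩)) (.node 1 (.one ⟨11430, 2, 2⟩) (.one ⟨12774, 0, 4⟩)))) (.node 4 (.node 2 (.node 1 (.one ⟨13476, 2, 5⟩) (.one ⟨11549, 0, 5⟩)) (.node 1 (.one ⟨11202, 2, 3⟩) (.one ⟨8191, 0, 3⟩))) (.node 2 (.node 1 (.one ⟨11484, 2, 3⟩) (.one ⟨10048, 2, 3⟩)) (.node 1 (.one ⟨7170, 0, 3⟩) (.one ⟨3991, 2, 3⟩)))))))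
def par9_12_6 : Arr Par :=
  (.node 32 (.node 16 (.node 8 (.node 4 (.node 2 (.node 1 (.one ⟨15386, 2, 3⟩) (.one ⟨15336, 2, 2⟩)) (.node 1 (.one ⟨6324, 0, 5⟩) (.one ⟨451, 2, 3⟩))) (.node 2 (.node 1 (.one ⟨12840, 0, 2⟩) (.one ⟨17053, 0, 3⟩)) (.node 1 (.one ⟨1392, 2, 2⟩) (.one ⟨11766, 2, 4⟩)))) (.node 4 (.node 2 (.node 1 (.one ⟨6291, 2, 3⟩) (.one ⟨5419, 0, 3⟩)) (.node 1 (.one ⟨648, 0, 4⟩) (.one ⟨9115, 1, 3⟩))) (.node 2 (.node 1 (.one ⟨15974, 2, 3⟩) (.one ⟨3110, 0, 4⟩)) (.node 1 (.one ⟨4038, 0, 3⟩) (.one ⟨1068, 2, 5⟩))))) (.node 8 (.node 4 (.node 2 (.node 1 (.one ⟨10180, 2, 5⟩) (.one ⟨8969, 2, 4⟩)) (.node 1 (.one ⟨17093, 2, 4⟩) (.one ⟨9690, 0, 2⟩))) (.node 2 (.node 1 (.one ⟨4156, 2, 4⟩) (.one ⟨16190, 1, 3⟩)) (.node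 1 (.one ⟨11928, 1, 2⟩) (.one ⟨12983, 0, 4⟩)))) (.node 4 (.node 2 (.node 1 (.one ⟨2005, 1, 2⟩) (.one ⟨15240, 2, 4⟩)) (.node 1 (.one ⟨411, 2, 3⟩) (.one ⟨16051, 2, 3⟩))) (.node 2 (.node 1 (.one ⟨5463, 2, 3⟩) (.one ⟨17111, 2, 6⟩)) (.node 1 (.one ⟨3645, 2, 3⟩) (.one ⟨6645, 0, 5⟩)))))) (.node 16 (.node 8 (.node 4 (.node 2 (.node 1 (.one ⟨10439, 0, 6⟩) (.one ⟨9120, 0, 5⟩)) (.node 1 (.one ⟨11937, 0, 2⟩) (.one ⟨4248, 0, 5⟩))) (.node 2 (.node 1 (.one ⟨16813, 0, 6⟩) (.one ⟨9567, 2, 5⟩)) (.node 1 (.one ⟨6850, 2, 5⟩) (.one ⟨14077, 0, 4⟩)))) (.node 4 (.node 2 (.node 1 (.one ⟨1041, 0, 4⟩) (.one ⟨16044, 2, 5⟩)) (.node 1 (.one ⟨2881, 1, 2⟩) (.one ⟨14891, 2, 4⟩))) (.node 2 (.node 1 (.one ⟨10509, 2, 5⟩) (.one ⟨1733, 0, 4⟩)) (.node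 1 (.one ⟨2653, 1, 2⟩) (.one ⟨2432, 2, 4⟩))))) (.node 8 (.node 4 (.node 2 (.node 1 (.one ⟨3055, 0, 4⟩) (.one ⟨14366, 2, 5⟩)) (.node 1 (.one ⟨850, 2, 5⟩) (.one ⟨8699, 0, 5⟩))) (.node 2 (.node 1 (.one ⟨5174, 0, 2⟩) (.one ⟨7696, 0, 2⟩)) (.node 1 (.one ⟨12919, 2, 3⟩) (.one ⟨11134, 2, 4⟩)))) (.node 4 (.node 2 (.node 1 (.one ⟨2879, 0, 5⟩) (.one ⟨11676, 1, 3⟩)) (.node 1 (.one ⟨16215, 2, 4⟩) (.one ⟨705, 1, 3⟩))) (.node 2 (.node 1 (.one ⟨14547, 2, 4⟩) (.one ⟨12667, 2, 4⟩)) (.node 1 (.one ⟨10618, 1, 4⟩) (.one ⟨4826, 1, 5⟩)))))))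
def par9_12_7 : Arr Par :=
  (.node 32 (.node 16 (.node 8 (.node 4 (.node 2 (.node 1 (.one ⟨11556, 2, 3⟩) (.one ⟨15627, 2, 5⟩)) (.node 1 (.one ⟨15136, 2, 4⟩) (.one ⟨5744, 2, 5⟩))) (.node 2 (.node 1 (.one ⟨6195, 2, 4⟩) (.one ⟨2437, 2, 5⟩)) (.node 1 (.one ⟨274, 2, 5⟩) (.one ⟨10620, 0, 3⟩)))) (.node 4 (.node 2 (.node 1 (.one ⟨5315, 0, 5⟩) (.one ⟨14813, 2, 7⟩)) (.node 1 (.one ⟨6517, 0, 3⟩) (.one ⟨6123, 2, 5⟩))) (.node 2 (.node 1 (.one ⟨12712, 0, 5⟩) (.one ⟨1739, 2, 4⟩)) (.node 1 (.one ⟨13666, 0, 4⟩) (.one ⟨2179, 0, 4⟩))))) (.node 8 (.node 4 (.node 2 (.node 1 (.one ⟨13257, 2, 5⟩) (.one ⟨10225, 0, 3⟩)) (.node 1 (.one ⟨9068, 2, 5⟩) (.one ⟨12785, 2, 4⟩))) (.node 2 (.node 1 (.one ⟨2400, 2, 2⟩) (.one ⟨8670, 2, 5⟩)) (.node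 1 (.one ⟨9190, 0, 5⟩) (.one ⟨4311, 1, 2⟩)))) (.node 4 (.node 2 (.node 1 (.one ⟨10633, 2, 4⟩) (.one ⟨8398, 0, 4⟩)) (.node 1 (.one ⟨7653, 2, 5⟩) (.one ⟨11845, 2, 4⟩))) (.node 2 (.node 1 (.one ⟨7008, 0, 5⟩) (.one ⟨6412, 2, 5⟩)) (.node 1 (.one ⟨9221, 2, 5⟩) (.one ⟨10332, 1, 3⟩)))))) (.node 16 (.node 8 (.node 4 (.node 2 (.node 1 (.one ⟨2373, 1, 3⟩) (.one ⟨8502, 0, 3⟩)) (.node 1 (.one ⟨4766, 2, 4⟩) (.one ⟨16738, 0, 3⟩))) (.node 2 (.node 1 (.one ⟨15744, 2, 4⟩) (.one ⟨14645, 0, 4⟩)) (.node 1 (.one ⟨992, 1, 3⟩) (.one ⟨7295, 2, 3⟩)))) (.node 4 (.node 2 (.node 1 (.one ⟨12949, 2, 2⟩) (.one ⟨5458, 2, 2⟩)) (.node 1 (.one ⟨14988, 2, 5⟩) (.one ⟨14009, 2, 5⟩))) (.node 2 (.node 1 (.one ⟨13883, 0, 6⟩) (.one ⟨13865, 0, 4⟩)) (.node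 1 (.one ⟨6204, 2, 2⟩) (.one ⟨4731, 1, 4⟩))))) (.node 8 (.node 4 (.node 2 (.node 1 (.one ⟨15633, 2, 2⟩) (.one ⟨7870, 1, 3⟩)) (.node 1 (.one ⟨6602, 2, 5⟩) (.one ⟨10351, 2, 4⟩))) (.node 2 (.node 1 (.one ⟨10658, 2, 5⟩) (.one ⟨1895, 2, 6⟩)) (.node 1 (.one ⟨5749, 0, 4⟩) (.one ⟨16383, 0, 3⟩)))) (.node 4 (.node 2 (.node 1 (.one ⟨977, 0, 3⟩) (.one ⟨5933, 2, 4⟩)) (.node 1 (.one ⟨6472, 2, 4⟩) (.one ⟨1118, 0, 3⟩))) (.node 2 (.node 1 (.one ⟨16393, 0, 5⟩) (.one ⟨4984, 0, 3⟩)) (.node 1 (.one ⟨4619, 2, 4⟩) (.one ⟨12088, 2, 5⟩)))))))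
def par9_12_8 : Arr Par :=
  (.node 32 (.node 16 (.node 8 (.node 4 (.node 2 (.node 1 (.one ⟨4187, 2, 3⟩) (.one ⟨15139, 0, 4⟩)) (.node 1 (.one ⟨9886, 0, 1⟩) (.one ⟨5436, 1, 1⟩))) (.node 2 (.node 1 (.one ⟨4758, 0, 6⟩) (.one ⟨6968, 2, 5⟩)) (.node 1 (.one ⟨14724, 2, 4⟩) (.one ⟨109, 1, 3⟩)))) (.node 4 (.node 2 (.node 1 (.one ⟨5226, 1, 3⟩) (.one ⟨6547, 1, 3⟩)) (.node 1 (.one ⟨8442, 2, 6⟩) (.one ⟨1132, 2, 2⟩))) (.node 2 (.node 1 (.one ⟨9362, 2, 2⟩) (.one ⟨1497, 2, 2⟩)) (.node 1 (.one ⟨9316, 2, 1⟩) (.one ⟨13003, 2, 5⟩))))) (.node 8 (.node 4 (.node 2 (.node 1 (.one ⟨4951, 0, 3⟩) (.one ⟨5405, 2, 7⟩)) (.node 1 (.one ⟨6474, 2, 5⟩) (.one ⟨5627, 2, 5⟩))) (.node 2 (.node 1 (.one ⟨11359, 0, 1⟩) (.one ⟨4979, 1, 1⟩)) (.node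 1 (.one ⟨15397, 0, 3⟩) (.one ⟨15835, 0, 5⟩)))) (.node 4 (.node 2 (.node 1 (.one ⟨15271, 2, 2⟩) (.one ⟨2186, 0, 1⟩)) (.node 1 (.one ⟨485, 0, 6⟩) (.one ⟨7346, 2, 4⟩))) (.node 2 (.node 1 (.one ⟨16645, 2, 6⟩) (.one ⟨15878, 0, 3⟩)) (.node 1 (.one ⟨9834, 2, 7⟩) (.one ⟨4815, 2, 5⟩)))))) (.node 16 (.node 8 (.node 4 (.node 2 (.node 1 (.one ⟨12079, 0, 4⟩) (.one ⟨11050, 2, 5⟩)) (.node 1 (.one ⟨13786, 2, 3⟩) (.one ⟨14139, 0, 4⟩))) (.node 2 (.node 1 (.one ⟨10806, 2, 6⟩) (.one ⟨3938, 0, 3⟩)) (.node 1 (.one ⟨6914, 1, 3⟩) (.one ⟨17117, 2, 6⟩)))) (.node 4 (.node 2 (.node 1 (.one ⟨590, 2, 1⟩) (.one ⟨17089, 2, 6⟩)) (.node 1 (.one ⟨1520, 2, 2⟩) (.one ⟨17096, 2, 6⟩))) (.node 2 (.node 1 (.one ⟨1489, 2, 1⟩) (.one ⟨13380, 1, 3⟩))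 (.node 1 (.one ⟨1124, 2, 2⟩) (.one ⟨6608, 1, 4⟩))))) (.node 8 (.node 4 (.node 2 (.node 1 (.one ⟨5208, 2, 5⟩) (.one ⟨8251, 2, 6⟩)) (.node 1 (.one ⟨5655, 2, 4⟩) (.one ⟨6857, 1, 1⟩))) (.node 2 (.node 1 (.one ⟨8834, 1, 3⟩) (.one ⟨1872, 1, 2⟩)) (.node 1 (.one ⟨3896, 1, 3⟩) (.one ⟨4656, 2, 5⟩)))) (.node 4 (.node 2 (.node 1 (.one ⟨3082, 2, 5⟩) (.one ⟨5443, 0, 4⟩)) (.node 1 (.one ⟨6516, 2, 5⟩) (.one ⟨5343, 2, 5⟩))) (.node 2 (.node 1 (.one ⟨3353, 2, 2⟩) (.one ⟨8035, 2, 5⟩)) (.node 1 (.one ⟨16351, 0, 3⟩) (.one ⟨16200, 2, 4⟩)))))))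
def par9_12_9 : Arr Par :=
  (.node 32 (.node 16 (.node 8 (.node 4 (.node 2 (.node 1 (.one ⟨6720, 2, 4⟩) (.one ⟨14315, 0, 4⟩)) (.node 1 (.one ⟨12617, 2, 5⟩) (.one ⟨15767, 2, 5⟩))) (.node 2 (.node 1 (.one ⟨7328, 2, 4⟩) (.one ⟨1818, 2, 5⟩)) (.node 1 (.one ⟨13346, 2, 4⟩) (.one ⟨4508, 2, 2⟩)))) (.node 4 (.node 2 (.node 1 (.one ⟨1958, 2, 3⟩) (.one ⟨1952, 2, 3⟩)) (.node 1 (.one ⟨4505, 2, 2⟩) (.one ⟨1954, 2, 4⟩))) (.node 2 (.node 1 (.one ⟨173, 0, 3⟩) (.one ⟨9229, 0, 4⟩)) (.node 1 (.one ⟨1956, 2, 3⟩) (.one ⟨5636, 1, 4⟩))))) (.node 8 (.node 4 (.node 2 (.node 1 (.one ⟨7836, 2, 4⟩) (.one ⟨571, 0, 4⟩)) (.node 1 (.one ⟨14232, 0, 4⟩) (.one ⟨8461, 2, 4⟩))) (.node 2 (.node 1 (.one ⟨13315, 2, 4⟩) (.one ⟨4646, 0, 4⟩)) (.node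 1 (.one ⟨16771, 0, 4⟩) (.one ⟨7206, 1, 3⟩)))) (.node 4 (.node 2 (.node 1 (.one ⟨11938, 0, 3⟩) (.one ⟨2897, 2, 4⟩)) (.node 1 (.one ⟨944, 0, 5⟩) (.one ⟨10937, 2, 5⟩))) (.node 2 (.node 1 (.one ⟨14777, 0, 2⟩) (.one ⟨3870, 0, 2⟩)) (.node 1 (.one ⟨3834, 2, 2⟩) (.one ⟨15126, 2, 6⟩)))))) (.node 16 (.node 8 (.node 4 (.node 2 (.node 1 (.one ⟨8270, 0, 4⟩) (.one ⟨3877, 1, 2⟩)) (.node 1 (.one ⟨15142, 2, 4⟩) (.one ⟨7024, 2, 6⟩))) (.node 2 (.node 1 (.one ⟨6296, 0, 4⟩) (.one ⟨4014, 0, 4⟩)) (.node 1 (.one ⟨7040, 2, 5⟩) (.one ⟨16425, 0, 4⟩)))) (.node 4 (.node 2 (.node 1 (.one ⟨15866, 2, 4⟩) (.one ⟨9398, 0, 4⟩)) (.node 1 (.one ⟨11928, 2, 2⟩) (.one ⟨4803, 2, 4⟩))) (.node 2 (.node 1 (.one ⟨4532, 2, 2⟩) (.one ⟨6786, 0, 4⟩)) (.node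 1 (.one ⟨8534, 2, 4⟩) (.one ⟨11851, 0, 4⟩))))) (.node 8 (.node 4 (.node 2 (.node 1 (.one ⟨17194, 2, 4⟩) (.one ⟨13328, 2, 4⟩)) (.node 1 (.one ⟨4726, 2, 2⟩) (.one ⟨10488, 2, 2⟩))) (.node 2 (.node 1 (.one ⟨16089, 0, 5⟩) (.one ⟨6078, 2, 4⟩)) (.node 1 (.one ⟨14552, 2, 2⟩) (.one ⟨6304, 0, 2⟩)))) (.node 4 (.node 2 (.node 1 (.one ⟨6768, 2, 5⟩) (.one ⟨6068, 2, 3⟩)) (.node 1 (.one ⟨3352, 0, 6⟩) (.one ⟨2450, 0, 3⟩))) (.node 2 (.node 1 (.one ⟨13632, 0, 3⟩) (.one ⟨3388, 2, 6⟩)) (.node 1 (.one ⟨14570, 2, 4⟩) (.one ⟨16306, 0, 4⟩)))))))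
def par9_12_10 : Arr Par :=
  (.node 32 (.node 16 (.node 8 (.node 4 (.node 2 (.node 1 (.one ⟨7634, 0, 2⟩) (.one ⟨7526, 2, 6⟩)) (.node 1 (.one ⟨16131, 2, 6⟩) (.one ⟨13316, 2, 4⟩))) (.node 2 (.node 1 (.one ⟨15597, 0, 4⟩) (.one ⟨5438, 2, 3⟩)) (.node 1 (.one ⟨10002, 2, 6⟩) (.one ⟨9541, 1, 1⟩)))) (.node 4 (.node 2 (.node 1 (.one ⟨12503, 0, 4⟩) (.one ⟨6961, 2, 6⟩)) (.node 1 (.one ⟨11643, 0, 4⟩) (.one ⟨2524, 0, 4⟩))) (.node 2 (.node 1 (.one ⟨10422, 0, 4⟩) (.one ⟨15069, 2, 3⟩)) (.node 1 (.one ⟨6969, 2, 5⟩) (.one ⟨13361, 2, 6⟩))))) (.node 8 (.node 4 (.node 2 (.node 1 (.one ⟨16424, 2, 6⟩) (.one ⟨3914, 2, 6⟩)) (.node 1 (.one ⟨8816, 2, 3⟩) (.one ⟨10466, 0, 5⟩))) (.node 2 (.node 1 (.one ⟨10464, 0, 1⟩) (.one ⟨10465, 0, 1⟩))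 (.node 1 (.one ⟨11017, 2, 4⟩) (.one ⟨4360, 1, 6⟩)))) (.node 4 (.node 2 (.node 1 (.one ⟨7247, 0, 5⟩) (.one ⟨9764, 1, 6⟩)) (.node 1 (.one ⟨12250, 1, 6⟩) (.one ⟨14618, 0, 2⟩))) (.node 2 (.node 1 (.one ⟨4386, 0, 2⟩) (.one ⟨664, 0, 5⟩)) (.node 1 (.one ⟨15693, 0, 5⟩) (.one ⟨15322, 2, 3⟩)))))) (.node 16 (.node 8 (.node 4 (.node 2 (.node 1 (.one ⟨4720, 0, 4⟩) (.one ⟨12801, 2, 5⟩)) (.node 1 (.one ⟨7296, 2, 4⟩) (.one ⟨16707, 0, 5⟩))) (.node 2 (.node 1 (.one ⟨10641, 2, 5⟩) (.one ⟨2505, 2, 4⟩)) (.node 1 (.one ⟨2438, 0, 4⟩) (.one ⟨10087, 0, 4⟩)))) (.node 4 (.node 2 (.node 1 (.one ⟨5847, 0, 4⟩) (.one ⟨655, 1, 3⟩)) (.node 1 (.one ⟨16423, 2, 5⟩) (.one ⟨423, 2, 4⟩))) (.node 2 (.node 1 (.one ⟨15812, 2, 4⟩) (.one ⟨1871, 0, 3⟩))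 (.node 1 (.one ⟨3213, 2, 4⟩) (.one ⟨3454, 1, 2⟩))))) (.node 8 (.node 4 (.node 2 (.node 1 (.one ⟨7324, 2, 7⟩) (.one ⟨11765, 2, 2⟩)) (.node 1 (.one ⟨16514, 2, 3⟩) (.one ⟨454, 2, 4⟩))) (.node 2 (.node 1 (.one ⟨6866, 2, 3⟩) (.one ⟨11990, 2, 3⟩)) (.node 1 (.one ⟨2345, 0, 6⟩) (.one ⟨12053, 2, 3⟩)))) (.node 4 (.node 2 (.node 1 (.one ⟨7282, 1, 4⟩) (.one ⟨1388, 2, 4⟩)) (.node 1 (.one ⟨13824, 2, 3⟩) (.one ⟨2420, 2, 5⟩))) (.node 2 (.node 1 (.one ⟨14328, 2, 3⟩) (.one ⟨11674, 2, 2⟩)) (.node 1 (.one ⟨7710, 2, 5⟩) (.one ⟨2859, 0, 3⟩)))))))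
def par9_12_11 : Arr Par :=
  (.node 32 (.node 16 (.node 8 (.node 4 (.node 2 (.node 1 (.one ⟨4874, 2, 4⟩) (.one ⟨4873, 2, 5⟩)) (.node 1 (.one ⟨3224, 0, 2⟩) (.one ⟨4878, 2, 4⟩))) (.node 2 (.node 1 (.one ⟨4872, 2, 6⟩) (.one ⟨4871, 2, 6⟩)) (.node 1 (.one ⟨1153, 1, 6⟩) (.one ⟨6206, 1, 2⟩)))) (.node 4 (.node 2 (.node 1 (.one ⟨8744, 2, 5⟩) (.one ⟨3227, 0, 4⟩)) (.node 1 (.one ⟨4944, 0, 4⟩) (.one ⟨1987, 2, 4⟩))) (.node 2 (.node 1 (.one ⟨9356, 0, 1⟩) (.one ⟨9045, 0, 5⟩)) (.node 1 (.one ⟨9142, 2, 2⟩) (.one ⟨15122, 2, 6⟩))))) (.node 8 (.node 4 (.node 2 (.node 1 (.one ⟨1135, 1, 6⟩) (.one ⟨16926, 1, 3⟩)) (.node 1 (.one ⟨11148, 0, 2⟩) (.one ⟨12302, 0, 3⟩))) (.node 2 (.node 1 (.one ⟨4865, 1, 2⟩) (.one ⟨8475, 2, 5⟩)) (.node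 1 (.one ⟨11836, 2, 4⟩) (.one ⟨8739, 0, 6⟩)))) (.node 4 (.node 2 (.node 1 (.one ⟨7499, 2, 4⟩) (.one ⟨8412, 2, 5⟩)) (.node 1 (.one ⟨9777, 2, 5⟩) (.one ⟨16937, 1, 2⟩))) (.node 2 (.node 1 (.one ⟨10505, 2, 2⟩) (.one ⟨5887, 0, 4⟩)) (.node 1 (.one ⟨6954, 2, 5⟩) (.one ⟨8956, 0, 5⟩)))))) (.node 16 (.node 8 (.node 4 (.node 2 (.node 1 (.one ⟨13357, 2, 4⟩) (.one ⟨4216, 0, 4⟩)) (.node 1 (.one ⟨11764, 2, 4⟩) (.one ⟨10321, 2, 4⟩))) (.node 2 (.node 1 (.one ⟨9747, 0, 3⟩) (.one ⟨11100, 2, 4⟩)) (.node 1 (.one ⟨15048, 0, 5⟩) (.one ⟨13457, 2, 4⟩)))) (.node 4 (.node 2 (.node 1 (.one ⟨16257, 2, 3⟩) (.one ⟨11607, 2, 2⟩)) (.node 1 (.one ⟨16567, 2, 6⟩) (.one ⟨8865, 2, 3⟩))) (.node 2 (.node 1 (.one ⟨4425, 2, 5⟩) (.one ⟨8087, 2, 4⟩))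 (.node 1 (.one ⟨4711, 2, 5⟩) (.one ⟨16541, 0, 5⟩))))) (.node 8 (.node 4 (.node 2 (.node 1 (.one ⟨7817, 2, 4⟩) (.one ⟨9631, 0, 2⟩)) (.node 1 (.one ⟨15310, 2, 5⟩) (.one ⟨13298, 2, 3⟩))) (.node 2 (.node 1 (.one ⟨3998, 0, 5⟩) (.one ⟨896, 2, 3⟩)) (.node 1 (.one ⟨4788, 2, 6⟩) (.one ⟨12244, 2, 3⟩)))) (.node 4 (.node 2 (.node 1 (.one ⟨3656, 2, 2⟩) (.one ⟨17140, 0, 3⟩)) (.node 1 (.one ⟨8649, 0, 3⟩) (.one ⟨9573, 2, 4⟩))) (.node 2 (.node 1 (.one ⟨2281, 2, 4⟩) (.one ⟨6207, 0, 2⟩)) (.node 1 (.one ⟨13923, 0, 3⟩) (.one ⟨13538, 2, 4⟩)))))))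
def par9_12_12 : Arr Par :=
  (.node 32 (.node 16 (.node 8 (.node 4 (.node 2 (.node 1 (.one ⟨11679, 0, 3⟩) (.one ⟨11708, 0, 4⟩)) (.node 1 (.one ⟨15666, 0, 5⟩) (.one ⟨14808, 2, 4⟩))) (.node 2 (.node 1 (.one ⟨6033, 0, 3⟩) (.one ⟨5700, 0, 4⟩)) (.node 1 (.one ⟨1593, 2, 4⟩) (.one ⟨16330, 0, 3⟩)))) (.node 4 (.node 2 (.node 1 (.one ⟨9141, 0, 1⟩) (.one ⟨9293, 0, 2⟩)) (.node 1 (.one ⟨16304, 0, 4⟩) (.one ⟨1442, 0, 1⟩))) (.node 2 (.node 1 (.one ⟨12259, 1, 1⟩) (.one ⟨8293, 0, 6⟩)) (.node 1 (.one ⟨1383, 0, 2⟩) (.one ⟨7230, 2, 3⟩))))) (.node 8 (.node 4 (.node 2 (.node 1 (.one ⟨1987, 1, 4⟩) (.one ⟨7204, 2, 4⟩)) (.node 1 (.one ⟨12883, 2, 5⟩) (.one ⟨14977, 0, 5⟩))) (.node 2 (.node 1 (.one ⟨15996, 0, 4⟩) (.one ⟨519, 0, 5⟩))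 (.node 1 (.one ⟨4717, 0, 5⟩) (.one ⟨11858, 2, 6⟩)))) (.node 4 (.node 2 (.node 1 (.one ⟨3139, 0, 4⟩) (.one ⟨10047, 0, 4⟩)) (.node 1 (.one ⟨1070, 2, 4⟩) (.one ⟨11467, 0, 1⟩))) (.node 2 (.node 1 (.one ⟨6367, 0, 4⟩) (.one ⟨14979, 0, 4⟩)) (.node 1 (.one ⟨16549, 1, 5⟩) (.one ⟨10324, 2, 5⟩)))))) (.node 16 (.node 8 (.node 4 (.node 2 (.node 1 (.one ⟨12345, 0, 4⟩) (.one ⟨6893, 2, 5⟩)) (.node 1 (.one ⟨7291, 2, 5⟩) (.one ⟨15592, 2, 4⟩))) (.node 2 (.node 1 (.one ⟨14713, 2, 4⟩) (.one ⟨362, 2, 4⟩)) (.node 1 (.one ⟨2600, 2, 6⟩) (.one ⟨10266, 2, 4⟩)))) (.node 4 (.node 2 (.node 1 (.one ⟨11900, 0, 5⟩) (.one ⟨2437, 0, 5⟩)) (.node 1 (.one ⟨1594, 2, 4⟩) (.one ⟨13666, 2, 4⟩))) (.node 2 (.node 1 (.one ⟨9949, 2, 5⟩) (.one ⟨1029, 0,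 2⟩)) (.node 1 (.one ⟨12488, 0, 3⟩) (.one ⟨6584, 1, 6⟩))))) (.node 8 (.node 4 (.node 2 (.node 1 (.one ⟨3866, 0, 4⟩) (.one ⟨5055, 0, 6⟩)) (.node 1 (.one ⟨17017, 0, 4⟩) (.one ⟨13344, 2, 4⟩))) (.node 2 (.node 1 (.one ⟨16802, 2, 5⟩) (.one ⟨13931, 0, 5⟩)) (.node 1 (.one ⟨15769, 2, 4⟩) (.one ⟨1726, 2, 4⟩)))) (.node 4 (.node 2 (.node 1 (.one ⟨13778, 2, 5⟩) (.one ⟨13041, 1, 3⟩)) (.node 1 (.one ⟨5765, 0, 5⟩) (.one ⟨2799, 1, 3⟩))) (.node 2 (.node 1 (.one ⟨5860, 0, 5⟩) (.one ⟨6771, 2, 4⟩)) (.node 1 (.one ⟨16455, 0, 5⟩) (.one ⟨8774, 2, 4⟩)))))))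
def par9_12_13 : Arr Par :=
  (.node 32 (.node 16 (.node 8 (.node 4 (.node 2 (.node 1 (.one ⟨6853, 2, 3⟩) (.one ⟨11676, 2, 3⟩)) (.node 1 (.one ⟨10767, 2, 3⟩) (.one ⟨1807, 2, 4⟩))) (.node 2 (.node 1 (.one ⟨4502, 2, 5⟩) (.one ⟨15179, 2, 6⟩)) (.node 1 (.one ⟨16562, 2, 4⟩) (.one ⟨11318, 2, 5⟩)))) (.node 4 (.node 2 (.node 1 (.one ⟨3414, 2, 5⟩) (.one ⟨942, 0, 3⟩)) (.node 1 (.one ⟨17009, 0, 3⟩) (.one ⟨9890, 2, 2⟩))) (.node 2 (.node 1 (.one ⟨2137, 2, 3⟩) (.one ⟨13696, 2, 3⟩)) (.node 1 (.one ⟨6055, 2, 3⟩) (.one ⟨1671, 0, 6⟩))))) (.node 8 (.node 4 (.node 2 (.node 1 (.one ⟨9189, 2, 3⟩) (.one ⟨71, 2, 1⟩)) (.node 1 (.one ⟨17035, 2, 4⟩) (.one ⟨9488, 2, 5⟩))) (.node 2 (.node 1 (.one ⟨8989, 2, 3⟩) (.one ⟨17044, 2, 4⟩)) (.node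 1 (.one ⟨1551, 2, 3⟩) (.one ⟨13995, 0, 5⟩)))) (.node 4 (.node 2 (.node 1 (.one ⟨14417, 2, 7⟩) (.one ⟨709, 0, 4⟩)) (.node 1 (.one ⟨14421, 2, 5⟩) (.one ⟨13912, 0, 5⟩))) (.node 2 (.node 1 (.one ⟨14422, 2, 3⟩) (.one ⟨1407, 0, 5⟩)) (.node 1 (.one ⟨14418, 2, 4⟩) (.one ⟨12656, 2, 2⟩)))))) (.node 16 (.node 8 (.node 4 (.node 2 (.node 1 (.one ⟨8437, 1, 5⟩) (.one ⟨8610, 0, 4⟩)) (.node 1 (.one ⟨7368, 0, 4⟩) (.one ⟨12065, 1, 5⟩))) (.node 2 (.node 1 (.one ⟨9858, 0, 4⟩) (.one ⟨14687, 2, 4⟩)) (.node 1 (.one ⟨11085, 2, 6⟩) (.one ⟨13900, 2, 5⟩)))) (.node 4 (.node 2 (.node 1 (.one ⟨1318, 0, 4⟩) (.one ⟨13773, 2, 6⟩)) (.node 1 (.one ⟨16488, 1, 3⟩) (.one ⟨2090, 1, 2⟩))) (.node 2 (.node 1 (.one ⟨1034, 1, 4⟩) (.one ⟨7093, 2, 4⟩))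 (.node 1 (.one ⟨13222, 2, 5⟩) (.one ⟨14853, 1, 5⟩))))) (.node 8 (.node 4 (.node 2 (.node 1 (.one ⟨14314, 1, 5⟩) (.one ⟨6778, 2, 2⟩)) (.node 1 (.one ⟨12015, 1, 5⟩) (.one ⟨6815, 2, 6⟩))) (.node 2 (.node 1 (.one ⟨1148, 0, 4⟩) (.one ⟨4442, 0, 4⟩)) (.node 1 (.one ⟨4187, 0, 3⟩) (.one ⟨15768, 1, 2⟩)))) (.node 4 (.node 2 (.node 1 (.one ⟨1938, 0, 2⟩) (.one ⟨991, 0, 4⟩)) (.node 1 (.one ⟨7455, 2, 5⟩) (.one ⟨12399, 1, 2⟩))) (.node 2 (.node 1 (.one ⟨1825, 0, 2⟩) (.one ⟨10381, 1, 5⟩)) (.node 1 (.one ⟨6695, 0, 4⟩) (.one ⟨2249, 2, 4⟩)))))))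
def par9_12_14 : Arr Par :=
  (.node 32 (.node 16 (.node 8 (.node 4 (.node 2 (.node 1 (.one ⟨15374, 2, 3⟩) (.one ⟨11288, 0, 4⟩)) (.node 1 (.one ⟨4885, 2, 5⟩) (.one ⟨3960, 2, 3⟩))) (.node 2 (.node 1 (.one ⟨16940, 2, 5⟩) (.one ⟨9284, 1, 1⟩)) (.node 1 (.one ⟨2788, 2, 4⟩) (.one ⟨4109, 1, 4⟩)))) (.node 4 (.node 2 (.node 1 (.one ⟨15148, 0, 5⟩) (.one ⟨15347, 2, 3⟩)) (.node 1 (.one ⟨3868, 2, 3⟩) (.one ⟨14171, 0, 4⟩))) (.node 2 (.node 1 (.one ⟨5470, 1, 0⟩) (.one ⟨15962, 0, 4⟩)) (.node 1 (.one ⟨7232, 0, 5⟩) (.one ⟨4594, 0, 4⟩))))) (.node 8 (.node 4 (.node 2 (.node 1 (.one ⟨9943, 2, 3⟩) (.one ⟨15874, 2, 4⟩)) (.node 1 (.one ⟨16091, 2, 6⟩) (.one ⟨8928, 1, 4⟩))) (.node 2 (.node 1 (.one ⟨8370, 2, 5⟩) (.one ⟨5618, 1, 5⟩))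 (.node 1 (.one ⟨2742, 2, 6⟩) (.one ⟨16837, 2, 5⟩)))) (.node 4 (.node 2 (.node 1 (.one ⟨11228, 1, 5⟩) (.one ⟨12538, 2, 5⟩)) (.node 1 (.one ⟨2202, 0, 5⟩) (.one ⟨10526, 2, 6⟩))) (.node 2 (.node 1 (.one ⟨866, 1, 5⟩) (.one ⟨10111, 0, 6⟩)) (.node 1 (.one ⟨12822, 0, 4⟩) (.one ⟨12963, 1, 6⟩)))))) (.node 16 (.node 8 (.node 4 (.node 2 (.node 1 (.one ⟨12296, 0, 4⟩) (.one ⟨2836, 2, 2⟩)) (.node 1 (.one ⟨3596, 2, 3⟩) (.one ⟨9417, 1, 6⟩))) (.node 2 (.node 1 (.one ⟨1955, 0, 3⟩) (.one ⟨3936, 0, 3⟩)) (.node 1 (.one ⟨12693, 1, 4⟩) (.one ⟨9031, 2, 2⟩)))) (.node 4 (.node 2 (.node 1 (.one ⟨4216, 2, 4⟩) (.one ⟨1905, 0, 1⟩)) (.node 1 (.one ⟨1904, 0, 1⟩) (.one ⟨4109, 2, 4⟩))) (.node 2 (.node 1 (.one ⟨8963, 2, 6⟩) (.one ⟨1903, 0, 1⟩))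 (.node 1 (.one ⟨1906, 0, 1⟩) (.one ⟨10607, 2, 4⟩))))) (.node 8 (.node 4 (.node 2 (.node 1 (.one ⟨11985, 2, 5⟩) (.one ⟨3700, 2, 6⟩)) (.node 1 (.one ⟨950, 2, 1⟩) (.one ⟨3756, 2, 2⟩))) (.node 2 (.node 1 (.one ⟨8353, 0, 4⟩) (.one ⟨10592, 2, 3⟩)) (.node 1 (.one ⟨11977, 2, 3⟩) (.one ⟨1574, 0, 4⟩)))) (.node 4 (.node 2 (.node 1 (.one ⟨5215, 2, 4⟩) (.one ⟨2950, 2, 5⟩)) (.node 1 (.one ⟨8317, 2, 4⟩) (.one ⟨10802, 1, 4⟩))) (.node 2 (.node 1 (.one ⟨8232, 2, 4⟩) (.one ⟨7172, 0, 5⟩)) (.node 1 (.one ⟨5377, 2, 6⟩) (.one ⟨4394, 2, 5⟩)))))))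
def par9_12_15 : Arr Par :=
  (.node 32 (.node 16 (.node 8 (.node 4 (.node 2 (.node 1 (.one ⟨156, 2, 5⟩) (.one ⟨15120, 2, 5⟩)) (.node 1 (.one ⟨15801, 0, 4⟩) (.one ⟨17065, 2, 6⟩))) (.node 2 (.node 1 (.one ⟨2562, 1, 2⟩) (.one ⟨1663, 2, 3⟩)) (.node 1 (.one ⟨4184, 2, 3⟩) (.one ⟨9428, 0, 5⟩)))) (.node 4 (.node 2 (.node 1 (.one ⟨1018, 1, 5⟩) (.one ⟨10151, 0, 4⟩)) (.node 1 (.one ⟨11286, 1, 5⟩) (.one ⟨10218, 0, 2⟩))) (.node 2 (.node 1 (.one ⟨1869, 2, 3⟩) (.one ⟨1864, 2, 6⟩)) (.node 1 (.one ⟨4982, 1, 3⟩) (.one ⟨12146, 0, 1⟩))))) (.node 8 (.node 4 (.node 2 (.node 1 (.one ⟨5195, 2, 5⟩) (.one ⟨5678, 2, 5⟩)) (.node 1 (.one ⟨6027, 2, 4⟩) (.one ⟨5420, 2, 5⟩))) (.node 2 (.node 1 (.one ⟨2683, 0, 6⟩) (.one ⟨3508, 0, 4⟩)) (.node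 1 (.one ⟨6128, 2, 5⟩) (.one ⟨12274, 2, 5⟩)))) (.node 4 (.node 2 (.node 1 (.one ⟨5290, 1, 3⟩) (.one ⟨13095, 2, 5⟩)) (.node 1 (.one ⟨4499, 0, 4⟩) (.one ⟨2860, 2, 5⟩))) (.node 2 (.node 1 (.one ⟨3013, 2, 7⟩) (.one ⟨2445, 2, 5⟩)) (.node 1 (.one ⟨2698, 2, 3⟩) (.one ⟨3935, 2, 5⟩)))))) (.node 16 (.node 8 (.node 4 (.node 2 (.node 1 (.one ⟨3940, 2, 3⟩) (.one ⟨10973, 1, 3⟩)) (.node 1 (.one ⟨7500, 0, 4⟩) (.one ⟨3938, 2, 3⟩))) (.node 2 (.node 1 (.one ⟨3941, 2, 5⟩) (.one ⟨3939, 2, 3⟩)) (.node 1 (.one ⟨3936, 2, 3⟩) (.one ⟨7179, 0, 5⟩)))) (.node 4 (.node 2 (.node 1 (.one ⟨3418, 2, 5⟩) (.one ⟨3718, 2, 6⟩)) (.node 1 (.one ⟨15825, 2, 3⟩) (.one ⟨13975, 2, 7⟩))) (.node 2 (.node 1 (.one ⟨1892, 2, 3⟩) (.one ⟨5500, 2, 3⟩)) (.node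 1 (.one ⟨9146, 1, 1⟩) (.one ⟨2962, 1, 3⟩))))) (.node 8 (.node 4 (.node 2 (.node 1 (.one ⟨14304, 2, 1⟩) (.one ⟨7571, 1, 1⟩)) (.node 1 (.one ⟨2511, 2, 2⟩) (.one ⟨11191, 2, 6⟩))) (.node 2 (.node 1 (.one ⟨16402, 2, 6⟩) (.one ⟨8311, 0, 3⟩)) (.node 1 (.one ⟨8315, 0, 5⟩) (.one ⟨13874, 2, 5⟩)))) (.node 4 (.node 2 (.node 1 (.one ⟨4641, 2, 4⟩) (.one ⟨15786, 2, 4⟩)) (.node 1 (.one ⟨2737, 2, 5⟩) (.one ⟨14237, 2, 4⟩))) (.node 2 (.node 1 (.one ⟨4942, 2, 5⟩) (.one ⟨15957, 2, 5⟩)) (.node 1 (.one ⟨4361, 1, 6⟩) (.one ⟨8798, 2, 6⟩)))))))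
def par9_12 : Arr Par :=
  (.node 512 (.node 256 (.node 128 (.node 64 par9_12_0 par9_12_1) (.node 64 par9_12_2 par9_12_3)) (.node 128 (.node 64 par9_12_4 par9_12_5) (.node 64 par9_12_6 par9_12_7))) (.node 256 (.node 128 (.node 64 par9_12_8 par9_12_9) (.node 64 par9_12_10 par9_12_11)) (.node 128 (.node 64 par9_12_12 par9_12_13) (.node 64 par9_12_14 par9_12_15))))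
def par9_13_0 : Arr Par :=
  (.node 32 (.node 16 (.node 8 (.node 4 (.node 2 (.node 1 (.one ⟨12131, 0, 5⟩) (.one ⟨1620, 0, 5⟩)) (.node 1 (.one ⟨3579, 2, 3⟩) (.one ⟨11475, 2, 3⟩))) (.node 2 (.node 1 (.one ⟨11124, 2, 3⟩) (.one ⟨10917, 1, 3⟩)) (.node 1 (.one ⟨10075, 0, 2⟩) (.one ⟨10642, 2, 3⟩)))) (.node 4 (.node 2 (.node 1 (.one ⟨15764, 0, 5⟩) (.one ⟨2381, 2, 3⟩)) (.node 1 (.one ⟨3546, 2, 2⟩) (.one ⟨15940, 0, 5⟩))) (.node 2 (.node 1 (.one ⟨742, 0, 4⟩) (.one ⟨9864, 0, 4⟩)) (.node 1 (.one ⟨3887, 2, 4⟩) (.one ⟨12707, 2, 6⟩))))) (.node 8 (.node 4 (.node 2 (.node 1 (.one ⟨15138, 0, 3⟩) (.one ⟨13824, 0, 3⟩)) (.node 1 (.one ⟨15236, 1, 6⟩) (.one ⟨8917, 1, 6⟩))) (.node 2 (.node 1 (.one ⟨15241, 0, 4⟩) (.one ⟨14131, 2, 6⟩))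 (.node 1 (.one ⟨8371, 1, 1⟩) (.one ⟨1760, 2, 5⟩)))) (.node 4 (.node 2 (.node 1 (.one ⟨13660, 0, 6⟩) (.one ⟨2188, 0, 6⟩)) (.node 1 (.one ⟨1027, 2, 4⟩) (.one ⟨16037, 0, 5⟩))) (.node 2 (.node 1 (.one ⟨7372, 2, 4⟩) (.one ⟨238, 1, 4⟩)) (.node 1 (.one ⟨3555, 0, 4⟩) (.one ⟨9287, 0, 1⟩)))))) (.node 16 (.node 8 (.node 4 (.node 2 (.node 1 (.one ⟨11957, 2, 3⟩) (.one ⟨2927, 0, 1⟩)) (.node 1 (.one ⟨10719, 2, 3⟩) (.one ⟨1809, 2, 4⟩))) (.node 2 (.node 1 (.one ⟨4499, 2, 4⟩) (.one ⟨3724, 2, 5⟩)) (.node 1 (.one ⟨2304, 2, 6⟩) (.one ⟨11141, 0, 4⟩)))) (.node 4 (.node 2 (.node 1 (.one ⟨1421, 2, 4⟩) (.one ⟨6580, 2, 5⟩)) (.node 1 (.one ⟨1465, 2, 6⟩) (.one ⟨6626, 2, 4⟩))) (.node 2 (.node 1 (.one ⟨7311, 0, 4⟩) (.one ⟨6621, 2, 3⟩)) (.node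 1 (.one ⟨1264, 2, 6⟩) (.one ⟨5750, 0, 3⟩))))) (.node 8 (.node 4 (.node 2 (.node 1 (.one ⟨7715, 2, 2⟩) (.one ⟨2122, 0, 5⟩)) (.node 1 (.one ⟨16889, 0, 3⟩) (.one ⟨8961, 0, 5⟩))) (.node 2 (.node 1 (.one ⟨6430, 2, 2⟩) (.one ⟨15891, 1, 3⟩)) (.node 1 (.one ⟨1670, 1, 3⟩) (.one ⟨2656, 1, 1⟩)))) (.node 4 (.node 2 (.node 1 (.one ⟨12101, 2, 3⟩) (.one ⟨10005, 2, 3⟩)) (.node 1 (.one ⟨4507, 0, 4⟩) (.one ⟨3612, 2, 6⟩))) (.node 2 (.node 1 (.one ⟨14346, 1, 2⟩) (.one ⟨10307, 2, 2⟩)) (.node 1 (.one ⟨2579, 1, 6⟩) (.one ⟨9761, 1, 6⟩)))))))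
def par9_13_1 : Arr Par :=
  (.node 32 (.node 16 (.node 8 (.node 4 (.node 2 (.node 1 (.one ⟨10711, 1, 6⟩) (.one ⟨241, 1, 6⟩)) (.node 1 (.one ⟨2690, 1, 6⟩) (.one ⟨3842, 2, 4⟩))) (.node 2 (.node 1 (.one ⟨16103, 0, 2⟩) (.one ⟨6329, 0, 2⟩)) (.node 1 (.one ⟨10567, 2, 4⟩) (.one ⟨6897, 2, 4⟩)))) (.node 4 (.node 2 (.node 1 (.one ⟨15997, 2, 4⟩) (.one ⟨2979, 2, 6⟩)) (.node 1 (.one ⟨1807, 0, 4⟩) (.one ⟨4715, 2, 4⟩))) (.node 2 (.node 1 (.one ⟨9218, 2, 4⟩) (.one ⟨2458, 1, 3⟩)) (.node 1 (.one ⟨13701, 2, 3⟩) (.one ⟨16292, 0, 2⟩))))) (.node 8 (.node 4 (.node 2 (.node 1 (.one ⟨2454, 2, 4⟩) (.one ⟨8195, 0, 5⟩)) (.node 1 (.one ⟨12487, 2, 4⟩) (.one ⟨9801, 2, 4⟩))) (.node 2 (.node 1 (.one ⟨4178, 1, 2⟩) (.one ⟨3869, 2, 4⟩)) (.node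 1 (.one ⟨15271, 1, 2⟩) (.one ⟨12717, 2, 5⟩)))) (.node 4 (.node 2 (.node 1 (.one ⟨13001, 1, 5⟩) (.one ⟨11378, 2, 3⟩)) (.node 1 (.one ⟨7295, 1, 3⟩) (.one ⟨12714, 2, 3⟩))) (.node 2 (.node 1 (.one ⟨7216, 1, 5⟩) (.one ⟨245, 1, 5⟩)) (.node 1 (.one ⟨12718, 2, 3⟩) (.one ⟨321, 2, 6⟩)))))) (.node 16 (.node 8 (.node 4 (.node 2 (.node 1 (.one ⟨11212, 1, 2⟩) (.one ⟨8977, 2, 5⟩)) (.node 1 (.one ⟨8242, 0, 5⟩) (.one ⟨11213, 1, 5⟩))) (.node 2 (.node 1 (.one ⟨13295, 2, 4⟩) (.one ⟨9191, 0, 4⟩)) (.node 1 (.one ⟨13618, 2, 5⟩) (.one ⟨12814, 2, 2⟩)))) (.node 4 (.node 2 (.node 1 (.one ⟨8248, 2, 5⟩) (.one ⟨703, 2, 6⟩)) (.node 1 (.one ⟨6043, 0, 3⟩) (.one ⟨2465, 2, 4⟩))) (.node 2 (.node 1 (.one ⟨15124, 2, 5⟩) (.one ⟨6778, 0, 2⟩)) (.node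 1 (.one ⟨3126, 1, 3⟩) (.one ⟨11455, 2, 3⟩))))) (.node 8 (.node 4 (.node 2 (.node 1 (.one ⟨5817, 2, 6⟩) (.one ⟨14204, 0, 5⟩)) (.node 1 (.one ⟨2077, 0, 4⟩) (.one ⟨2946, 0, 5⟩))) (.node 2 (.node 1 (.one ⟨14981, 0, 4⟩) (.one ⟨15622, 2, 4⟩)) (.node 1 (.one ⟨384, 0, 5⟩) (.one ⟨5844, 2, 2⟩)))) (.node 4 (.node 2 (.node 1 (.one ⟨815, 0, 5⟩) (.one ⟨12888, 2, 4⟩)) (.node 1 (.one ⟨11206, 0, 4⟩) (.one ⟨7280, 0, 4⟩))) (.node 2 (.node 1 (.one ⟨12619, 1, 3⟩) (.one ⟨16516, 2, 3⟩)) (.node 1 (.one ⟨12854, 2, 4⟩) (.one ⟨11570, 1, 2⟩)))))))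
def par9_13_2 : Arr Par :=
  (.node 32 (.node 16 (.node 8 (.node 4 (.node 2 (.node 1 (.one ⟨7227, 2, 5⟩) (.one ⟨453, 0, 4⟩)) (.node 1 (.one ⟨14975, 0, 5⟩) (.one ⟨2039, 1, 2⟩))) (.node 2 (.node 1 (.one ⟨8990, 0, 2⟩) (.one ⟨16000, 0, 5⟩)) (.node 1 (.one ⟨4658, 0, 5⟩) (.one ⟨7050, 1, 4⟩)))) (.node 4 (.node 2 (.node 1 (.one ⟨13403, 2, 4⟩) (.one ⟨16360, 2, 4⟩)) (.node 1 (.one ⟨13308, 2, 6⟩) (.one ⟨5368, 1, 1⟩))) (.node 2 (.node 1 (.one ⟨5649, 1, 2⟩) (.one ⟨3095, 1, 2⟩)) (.node 1 (.one ⟨8169, 1, 3⟩) (.one ⟨2160, 0, 6⟩))))) (.node 8 (.node 4 (.node 2 (.node 1 (.one ⟨17012, 0, 4⟩) (.one ⟨4530, 2, 3⟩)) (.node 1 (.one ⟨4853, 2, 4⟩) (.one ⟨10399, 2, 4⟩))) (.node 2 (.node 1 (.one ⟨10523, 2, 7⟩) (.one ⟨13512, 2, 5⟩)) (.node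 1 (.one ⟨13412, 2, 5⟩) (.one ⟨8430, 2, 5⟩)))) (.node 4 (.node 2 (.node 1 (.one ⟨1488, 0, 4⟩) (.one ⟨14596, 2, 2⟩)) (.node 1 (.one ⟨16043, 2, 4⟩) (.one ⟨11195, 2, 5⟩))) (.node 2 (.node 1 (.one ⟨12666, 2, 4⟩) (.one ⟨8674, 0, 4⟩)) (.node 1 (.one ⟨2488, 2, 4⟩) (.one ⟨13329, 2, 4⟩)))))) (.node 16 (.node 8 (.node 4 (.node 2 (.node 1 (.one ⟨5091, 2, 4⟩) (.one ⟨14176, 2, 4⟩)) (.node 1 (.one ⟨10446, 0, 5⟩) (.one ⟨13359, 2, 4⟩))) (.node 2 (.node 1 (.one ⟨4510, 0, 4⟩) (.one ⟨11797, 0, 5⟩)) (.node 1 (.one ⟨14827, 0, 5⟩) (.one ⟨15591, 0, 4⟩)))) (.node 4 (.node 2 (.node 1 (.one ⟨15626, 0, 4⟩) (.one ⟨5747, 0, 3⟩)) (.node 1 (.one ⟨5838, 0, 5⟩) (.one ⟨3200, 0, 6⟩))) (.node 2 (.node 1 (.one ⟨1108, 2, 5⟩) (.one ⟨9346, 2, 5⟩))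 (.node 1 (.one ⟨10102, 0, 3⟩) (.one ⟨4563, 1, 6⟩))))) (.node 8 (.node 4 (.node 2 (.node 1 (.one ⟨16025, 2, 4⟩) (.one ⟨3599, 0, 4⟩)) (.node 1 (.one ⟨7483, 2, 4⟩) (.one ⟨13715, 0, 5⟩))) (.node 2 (.node 1 (.one ⟨1579, 2, 5⟩) (.one ⟨14963, 2, 3⟩)) (.node 1 (.one ⟨13182, 2, 5⟩) (.one ⟨5324, 0, 4⟩)))) (.node 4 (.node 2 (.node 1 (.one ⟨13314, 0, 4⟩) (.one ⟨10107, 0, 3⟩)) (.node 1 (.one ⟨924, 0, 5⟩) (.one ⟨10094, 0, 4⟩))) (.node 2 (.node 1 (.one ⟨1580, 0, 4⟩) (.one ⟨13504, 2, 2⟩)) (.node 1 (.one ⟨13272, 0, 4⟩) (.one ⟨3509, 1, 4⟩)))))))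
def par9_13_3 : Arr Par :=
  (.node 32 (.node 16 (.node 8 (.node 4 (.node 2 (.node 1 (.one ⟨10871, 0, 1⟩) (.one ⟨11755, 2, 5⟩)) (.node 1 (.one ⟨14401, 0, 4⟩) (.one ⟨14996, 1, 4⟩))) (.node 2 (.node 1 (.one ⟨13505, 2, 6⟩) (.one ⟨15387, 2, 5⟩)) (.node 1 (.one ⟨3341, 0, 6⟩) (.one ⟨4889, 1, 0⟩)))) (.node 4 (.node 2 (.node 1 (.one ⟨2368, 0, 4⟩) (.one ⟨13410, 1, 6⟩)) (.node 1 (.one ⟨11594, 2, 2⟩) (.one ⟨10116, 0, 3⟩))) (.node 2 (.node 1 (.one ⟨3642, 0, 2⟩) (.one ⟨1595, 0, 5⟩)) (.node 1 (.one ⟨11674, 0, 2⟩) (.one ⟨15584, 2, 6⟩))))) (.node 8 (.node 4 (.node 2 (.node 1 (.one ⟨1723, 2, 5⟩) (.one ⟨10444, 2, 5⟩)) (.node 1 (.one ⟨6955, 2, 4⟩) (.one ⟨5235, 0, 4⟩))) (.node 2 (.node 1 (.one ⟨3375, 2, 4⟩) (.one ⟨11075, 2, 6⟩))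 (.node 1 (.one ⟨6315, 2, 4⟩) (.one ⟨5124, 1, 5⟩)))) (.node 4 (.node 2 (.node 1 (.one ⟨11751, 2, 2⟩) (.one ⟨8578, 0, 4⟩)) (.node 1 (.one ⟨8643, 0, 4⟩) (.one ⟨12447, 0, 3⟩))) (.node 2 (.node 1 (.one ⟨11335, 1, 5⟩) (.one ⟨15515, 0, 4⟩)) (.node 1 (.one ⟨15314, 0, 4⟩) (.one ⟨15889, 2, 6⟩)))))) (.node 16 (.node 8 (.node 4 (.node 2 (.node 1 (.one ⟨15893, 2, 5⟩) (.one ⟨13118, 0, 6⟩)) (.node 1 (.one ⟨10539, 0, 3⟩) (.one ⟨14344, 2, 4⟩))) (.node 2 (.node 1 (.one ⟨14350, 2, 6⟩) (.one ⟨14349, 2, 6⟩)) (.node 1 (.one ⟨14343, 2, 6⟩) (.one ⟨15212, 2, 3⟩)))) (.node 4 (.node 2 (.node 1 (.one ⟨4916, 2, 4⟩) (.one ⟨12485, 2, 4⟩)) (.node 1 (.one ⟨5702, 2, 4⟩) (.one ⟨16942, 2, 3⟩))) (.node 2 (.node 1 (.one ⟨2910, 2, 6⟩) (.one ⟨10724,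 2, 6⟩)) (.node 1 (.one ⟨7804, 2, 6⟩) (.one ⟨11168, 2, 5⟩))))) (.node 8 (.node 4 (.node 2 (.node 1 (.one ⟨16536, 1, 5⟩) (.one ⟨3050, 2, 6⟩)) (.node 1 (.one ⟨16539, 1, 5⟩) (.one ⟨11077, 2, 3⟩))) (.node 2 (.node 1 (.one ⟨1329, 2, 3⟩) (.one ⟨3084, 2, 5⟩)) (.node 1 (.one ⟨9167, 2, 3⟩) (.one ⟨11805, 2, 6⟩)))) (.node 4 (.node 2 (.node 1 (.one ⟨12590, 2, 2⟩) (.one ⟨8523, 0, 5⟩)) (.node 1 (.one ⟨13504, 1, 2⟩) (.one ⟨2100, 0, 5⟩))) (.node 2 (.node 1 (.one ⟨3115, 0, 4⟩) (.one ⟨2380, 2, 5⟩)) (.node 1 (.one ⟨15459, 0, 4⟩) (.one ⟨10332, 0, 3⟩)))))))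
def par9_13_4 : Arr Par :=
  (.node 32 (.node 16 (.node 8 (.node 4 (.node 2 (.node 1 (.one ⟨12838, 2, 4⟩) (.one ⟨815, 2, 5⟩)) (.node 1 (.one ⟨401, 0, 3⟩) (.one ⟨11895, 0, 5⟩))) (.node 2 (.node 1 (.one ⟨13740, 2, 5⟩) (.one ⟨8398, 2, 4⟩)) (.node 1 (.one ⟨6392, 2, 6⟩) (.one ⟨15743, 1, 5⟩)))) (.node 4 (.node 2 (.node 1 (.one ⟨4127, 0, 3⟩) (.one ⟨12553, 0, 4⟩)) (.node 1 (.one ⟨12624, 2, 6⟩) (.one ⟨7205, 1, 5⟩))) (.node 2 (.node 1 (.one ⟨12657, 2, 4⟩) (.one ⟨1262, 0, 4⟩)) (.node 1 (.one ⟨4156, 0, 4⟩) (.one ⟨14980, 2, 5⟩))))) (.node 8 (.node 4 (.node 2 (.node 1 (.one ⟨930, 2, 5⟩) (.one ⟨10653, 2, 5⟩)) (.node 1 (.one ⟨10500, 0, 4⟩) (.one ⟨17178, 2, 5⟩))) (.node 2 (.node 1 (.one ⟨143, 0, 5⟩) (.one ⟨11758, 2, 4⟩)) (.node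 1 (.one ⟨8394, 2, 5⟩) (.one ⟨14191, 2, 4⟩)))) (.node 4 (.node 2 (.node 1 (.one ⟨7195, 0, 3⟩) (.one ⟨2955, 2, 4⟩)) (.node 1 (.one ⟨12329, 0, 4⟩) (.one ⟨2946, 2, 5⟩))) (.node 2 (.node 1 (.one ⟨384, 2, 5⟩) (.one ⟨14204, 2, 5⟩)) (.node 1 (.one ⟨5141, 1, 6⟩) (.one ⟨8050, 2, 2⟩)))))) (.node 16 (.node 8 (.node 4 (.node 2 (.node 1 (.one ⟨15208, 2, 3⟩) (.one ⟨5584, 0, 1⟩)) (.node 1 (.one ⟨15372, 2, 2⟩) (.one ⟨4368, 2, 5⟩))) (.node 2 (.node 1 (.one ⟨4954, 1, 5⟩) (.one ⟨4150, 2, 4⟩)) (.node 1 (.one ⟨10884, 2, 5⟩) (.one ⟨14387, 2, 2⟩)))) (.node 4 (.node 2 (.node 1 (.one ⟨8654, 0, 4⟩) (.one ⟨8692, 2, 4⟩)) (.node 1 (.one ⟨13454, 2, 4⟩) (.one ⟨2357, 0, 4⟩))) (.node 2 (.node 1 (.one ⟨2718, 2, 2⟩) (.one ⟨8755, 2, 2⟩)) (.node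 1 (.one ⟨6516, 0, 5⟩) (.one ⟨5946, 2, 3⟩))))) (.node 8 (.node 4 (.node 2 (.node 1 (.one ⟨16262, 2, 4⟩) (.one ⟨9215, 2, 4⟩)) (.node 1 (.one ⟨4430, 2, 4⟩) (.one ⟨5911, 2, 4⟩))) (.node 2 (.node 1 (.one ⟨16406, 2, 4⟩) (.one ⟨10151, 2, 4⟩)) (.node 1 (.one ⟨3934, 2, 6⟩) (.one ⟨12764, 1, 6⟩)))) (.node 4 (.node 2 (.node 1 (.one ⟨15891, 2, 3⟩) (.one ⟨14345, 2, 5⟩)) (.node 1 (.one ⟨15887, 2, 5⟩) (.one ⟨14346, 2, 2⟩))) (.node 2 (.node 1 (.one ⟨15888, 2, 6⟩) (.one ⟨14348, 2, 5⟩)) (.node 1 (.one ⟨15892, 2, 2⟩) (.one ⟨12731, 0, 4⟩)))))))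
def par9_13_5 : Arr Par :=
  (.node 32 (.node 16 (.node 8 (.node 4 (.node 2 (.node 1 (.one ⟨4386, 1, 2⟩) (.one ⟨13180, 0, 3⟩)) (.node 1 (.one ⟨7590, 2, 3⟩) (.one ⟨6564, 0, 5⟩))) (.node 2 (.node 1 (.one ⟨6610, 0, 4⟩) (.one ⟨10277, 1, 4⟩)) (.node 1 (.one ⟨7171, 0, 5⟩) (.one ⟨9387, 2, 3⟩)))) (.node 4 (.node 2 (.node 1 (.one ⟨9066, 2, 5⟩) (.one ⟨17120, 2, 4⟩)) (.node 1 (.one ⟨1372, 2, 4⟩) (.one ⟨17102, 2, 4⟩))) (.node 2 (.node 1 (.one ⟨81, 2, 1⟩) (.one ⟨9187, 2, 4⟩)) (.node 1 (.one ⟨9028, 2, 5⟩) (.one ⟨4967, 1, 2⟩))))) (.node 8 (.node 4 (.node 2 (.node 1 (.one ⟨14150, 0, 4⟩) (.one ⟨14700, 0, 4⟩)) (.node 1 (.one ⟨17183, 0, 5⟩) (.one ⟨4842, 0, 4⟩))) (.node 2 (.node 1 (.one ⟨9138, 1, 4⟩) (.one ⟨2308, 0, 4⟩)) (.node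 1 (.one ⟨4082, 2, 5⟩) (.one ⟨917, 1, 2⟩)))) (.node 4 (.node 2 (.node 1 (.one ⟨7320, 2, 4⟩) (.one ⟨3751, 2, 7⟩)) (.node 1 (.one ⟨5848, 2, 4⟩) (.one ⟨7213, 2, 5⟩))) (.node 2 (.node 1 (.one ⟨5446, 2, 5⟩) (.one ⟨5741, 2, 4⟩)) (.node 1 (.one ⟨3691, 2, 4⟩) (.one ⟨16095, 2, 4⟩)))))) (.node 16 (.node 8 (.node 4 (.node 2 (.node 1 (.one ⟨2768, 0, 4⟩) (.one ⟨4239, 2, 3⟩)) (.node 1 (.one ⟨7326, 1, 3⟩) (.one ⟨6166, 2, 3⟩))) (.node 2 (.node 1 (.one ⟨11179, 0, 4⟩) (.one ⟨10637, 2, 3⟩)) (.node 1 (.one ⟨11908, 0, 4⟩) (.one ⟨12174, 0, 6⟩)))) (.node 4 (.node 2 (.node 1 (.one ⟨6190, 2, 4⟩) (.one ⟨11563, 1, 3⟩)) (.node 1 (.one ⟨1363, 0, 6⟩) (.one ⟨1492, 2, 3⟩))) (.node 2 (.node 1 (.one ⟨6131, 2, 7⟩) (.one ⟨14467, 0, 6⟩)) (.node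 1 (.one ⟨16713, 0, 6⟩) (.one ⟨990, 2, 5⟩))))) (.node 8 (.node 4 (.node 2 (.node 1 (.one ⟨16120, 2, 7⟩) (.one ⟨9178, 0, 3⟩)) (.node 1 (.one ⟨11802, 0, 3⟩) (.one ⟨3728, 0, 4⟩))) (.node 2 (.node 1 (.one ⟨85, 0, 3⟩) (.one ⟨7177, 2, 7⟩)) (.node 1 (.one ⟨9342, 0, 3⟩) (.one ⟨6929, 0, 3⟩)))) (.node 4 (.node 2 (.node 1 (.one ⟨1981, 2, 5⟩) (.one ⟨3267, 0, 5⟩)) (.node 1 (.one ⟨14821, 2, 4⟩) (.one ⟨13201, 2, 5⟩))) (.node 2 (.node 1 (.one ⟨12081, 0, 2⟩) (.one ⟨16042, 0, 4⟩)) (.node 1 (.one ⟨356, 2, 4⟩) (.one ⟨604, 0, 1⟩)))))))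
def par9_13_6 : Arr Par :=
  (.node 32 (.node 16 (.node 8 (.node 4 (.node 2 (.node 1 (.one ⟨9476, 0, 2⟩) (.one ⟨15308, 1, 3⟩)) (.node 1 (.one ⟨14216, 0, 4⟩) (.one ⟨1493, 0, 1⟩))) (.node 2 (.node 1 (.one ⟨4537, 2, 4⟩) (.one ⟨10617, 1, 2⟩)) (.node 1 (.one ⟨14223, 0, 4⟩) (.one ⟨16630, 2, 3⟩)))) (.node 4 (.node 2 (.node 1 (.one ⟨4881, 2, 5⟩) (.one ⟨5606, 0, 5⟩)) (.node 1 (.one ⟨15830, 2, 3⟩) (.one ⟨5693, 2, 6⟩))) (.node 2 (.node 1 (.one ⟨9978, 2, 2⟩) (.one ⟨10924, 2, 5⟩)) (.node 1 (.one ⟨10889, 1, 3⟩) (.one ⟨11904, 2, 3⟩))))) (.node 8 (.node 4 (.node 2 (.node 1 (.one ⟨1860, 2, 4⟩) (.one ⟨7668, 0, 4⟩)) (.node 1 (.one ⟨2005, 0, 2⟩) (.one ⟨16222, 2, 4⟩))) (.node 2 (.node 1 (.one ⟨3526, 0, 4⟩) (.one ⟨12978, 2, 4⟩))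 (.node 1 (.one ⟨3110, 2, 4⟩) (.one ⟨5272, 0, 6⟩)))) (.node 4 (.node 2 (.node 1 (.one ⟨5493, 2, 4⟩) (.one ⟨11148, 2, 2⟩)) (.node 1 (.one ⟨2284, 0, 6⟩) (.one ⟨781, 0, 5⟩))) (.node 2 (.node 1 (.one ⟨6441, 1, 3⟩) (.one ⟨1535, 2, 4⟩)) (.node 1 (.one ⟨8669, 1, 2⟩) (.one ⟨17163, 2, 5⟩)))))) (.node 16 (.node 8 (.node 4 (.node 2 (.node 1 (.one ⟨9455, 2, 3⟩) (.one ⟨1547, 2, 4⟩)) (.node 1 (.one ⟨9082, 2, 5⟩) (.one ⟨82, 2, 1⟩))) (.node 2 (.node 1 (.one ⟨9125, 2, 4⟩) (.one ⟨17169, 2, 6⟩)) (.node 1 (.one ⟨9278, 2, 5⟩) (.one ⟨8419, 1, 3⟩)))) (.node 4 (.node 2 (.node 1 (.one ⟨387, 0, 5⟩) (.one ⟨10242, 2, 4⟩)) (.node 1 (.one ⟨8734, 2, 3⟩) (.one ⟨14094, 2, 3⟩))) (.node 2 (.node 1 (.one ⟨5020, 2, 4⟩) (.one ⟨12853, 2, 3⟩)) (.node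 1 (.one ⟨11470, 0, 4⟩) (.one ⟨7150, 2, 5⟩))))) (.node 8 (.node 4 (.node 2 (.node 1 (.one ⟨2335, 2, 5⟩) (.one ⟨14472, 2, 4⟩)) (.node 1 (.one ⟨5730, 0, 4⟩) (.one ⟨10544, 0, 2⟩))) (.node 2 (.node 1 (.one ⟨15478, 2, 3⟩) (.one ⟨10546, 0, 6⟩)) (.node 1 (.one ⟨10550, 0, 2⟩) (.one ⟨2677, 1, 6⟩)))) (.node 4 (.node 2 (.node 1 (.one ⟨4781, 2, 4⟩) (.one ⟨9895, 2, 5⟩)) (.node 1 (.one ⟨2673, 1, 2⟩) (.one ⟨13993, 2, 4⟩))) (.node 2 (.node 1 (.one ⟨7035, 0, 2⟩) (.one ⟨13150, 2, 5⟩)) (.node 1 (.one ⟨5441, 1, 0⟩) (.one ⟨11408, 2, 3⟩)))))))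
def par9_13_7 : Arr Par :=
  (.node 32 (.node 16 (.node 8 (.node 4 (.node 2 (.node 1 (.one ⟨12539, 2, 6⟩) (.one ⟨4242, 0, 3⟩)) (.node 1 (.one ⟨16812, 2, 6⟩) (.one ⟨16172, 2, 2⟩))) (.node 2 (.node 1 (.one ⟨14768, 2, 6⟩) (.one ⟨16179, 0, 6⟩)) (.node 1 (.one ⟨10521, 2, 6⟩) (.one ⟨8722, 2, 5⟩)))) (.node 4 (.node 2 (.node 1 (.one ⟨12497, 2, 5⟩) (.one ⟨15280, 2, 4⟩)) (.node 1 (.one ⟨8335, 1, 2⟩) (.one ⟨9535, 1, 3⟩))) (.node 2 (.node 1 (.one ⟨16417, 1, 2⟩) (.one ⟨10584, 2, 5⟩)) (.node 1 (.one ⟨10053, 0, 3⟩) (.one ⟨16116, 0, 3⟩))))) (.node 8 (.node 4 (.node 2 (.node 1 (.one ⟨5674, 0, 2⟩) (.one ⟨3824, 2, 5⟩)) (.node 1 (.one ⟨9271, 2, 4⟩) (.one ⟨15133, 0, 4⟩))) (.node 2 (.node 1 (.one ⟨3168, 2, 7⟩) (.one ⟨11930, 0, 2⟩))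 (.node 1 (.one ⟨286, 2, 5⟩) (.one ⟨7069, 2, 4⟩)))) (.node 4 (.node 2 (.node 1 (.one ⟨12279, 2, 5⟩) (.one ⟨5309, 0, 4⟩)) (.node 1 (.one ⟨5899, 1, 2⟩) (.one ⟨1905, 1, 1⟩))) (.node 2 (.node 1 (.one ⟨1110, 0, 3⟩) (.one ⟨4040, 2, 5⟩)) (.node 1 (.one ⟨14645, 2, 4⟩) (.one ⟨13907, 2, 4⟩)))))) (.node 16 (.node 8 (.node 4 (.node 2 (.node 1 (.one ⟨8056, 1, 2⟩) (.one ⟨912, 2, 5⟩)) (.node 1 (.one ⟨11827, 2, 5⟩) (.one ⟨1035, 0, 3⟩))) (.node 2 (.node 1 (.one ⟨16779, 2, 6⟩) (.one ⟨786, 0, 4⟩)) (.node 1 (.one ⟨3533, 1, 3⟩) (.one ⟨3365, 2, 6⟩)))) (.node 4 (.node 2 (.node 1 (.one ⟨12481, 2, 4⟩) (.one ⟨4911, 2, 4⟩)) (.node 1 (.one ⟨9364, 2, 6⟩) (.one ⟨7314, 2, 6⟩))) (.node 2 (.node 1 (.one ⟨16398, 2, 4⟩) (.one ⟨8691, 2, 3⟩)) (.node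 1 (.one ⟨13951, 2, 6⟩) (.one ⟨7964, 2, 3⟩))))) (.node 8 (.node 4 (.node 2 (.node 1 (.one ⟨1097, 2, 3⟩) (.one ⟨2679, 1, 2⟩)) (.node 1 (.one ⟨3318, 1, 2⟩) (.one ⟨12782, 2, 3⟩))) (.node 2 (.node 1 (.one ⟨12718, 0, 3⟩) (.one ⟨9292, 1, 1⟩)) (.node 1 (.one ⟨17064, 0, 2⟩) (.one ⟨16278, 2, 3⟩)))) (.node 4 (.node 2 (.node 1 (.one ⟨3845, 2, 3⟩) (.one ⟨4479, 2, 3⟩)) (.node 1 (.one ⟨7155, 0, 3⟩) (.one ⟨7421, 2, 5⟩))) (.node 2 (.node 1 (.one ⟨8171, 0, 4⟩) (.one ⟨470, 0, 4⟩)) (.node 1 (.one ⟨6813, 2, 3⟩) (.one ⟨15079, 2, 5⟩)))))))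
def par9_13_8 : Arr Par :=
  (.node 32 (.node 16 (.node 8 (.node 4 (.node 2 (.node 1 (.one ⟨8792, 0, 2⟩) (.one ⟨600, 2, 3⟩)) (.node 1 (.one ⟨15049, 2, 5⟩) (.one ⟨6963, 2, 5⟩))) (.node 2 (.node 1 (.one ⟨1031, 0, 5⟩) (.one ⟨9607, 2, 3⟩)) (.node 1 (.one ⟨6998, 2, 5⟩) (.one ⟨6808, 2, 2⟩)))) (.node 4 (.node 2 (.node 1 (.one ⟨13297, 1, 2⟩) (.one ⟨10114, 1, 4⟩)) (.node 1 (.one ⟨2024, 0, 5⟩) (.one ⟨15130, 0, 1⟩))) (.node 2 (.node 1 (.one ⟨16660, 2, 5⟩) (.one ⟨3813, 2, 5⟩)) (.node 1 (.one ⟨16324, 0, 3⟩) (.one ⟨12736, 0, 4⟩))))) (.node 8 (.node 4 (.node 2 (.node 1 (.one ⟨15468, 0, 5⟩) (.one ⟨4446, 0, 4⟩)) (.node 1 (.one ⟨5975, 0, 4⟩) (.one ⟨6762, 1, 2⟩))) (.node 2 (.node 1 (.one ⟨14805, 2, 5⟩) (.one ⟨4323, 0, 4⟩)) (.node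 1 (.one ⟨3920, 2, 4⟩) (.one ⟨98, 2, 6⟩)))) (.node 4 (.node 2 (.node 1 (.one ⟨12571, 0, 2⟩) (.one ⟨3392, 0, 4⟩)) (.node 1 (.one ⟨1566, 0, 3⟩) (.one ⟨8120, 2, 5⟩))) (.node 2 (.node 1 (.one ⟨15671, 2, 4⟩) (.one ⟨16228, 0, 3⟩)) (.node 1 (.one ⟨16614, 0, 5⟩) (.one ⟨13318, 0, 3⟩)))))) (.node 16 (.node 8 (.node 4 (.node 2 (.node 1 (.one ⟨8771, 0, 4⟩) (.one ⟨13564, 2, 5⟩)) (.node 1 (.one ⟨2709, 2, 4⟩) (.one ⟨5383, 2, 3⟩))) (.node 2 (.node 1 (.one ⟨13939, 0, 3⟩) (.one ⟨1518, 0, 3⟩)) (.node 1 (.one ⟨1328, 2, 4⟩) (.one ⟨6464, 2, 3⟩)))) (.node 4 (.node 2 (.node 1 (.one ⟨427, 0, 4⟩) (.one ⟨10474, 2, 3⟩)) (.node 1 (.one ⟨3546, 0, 2⟩) (.one ⟨12484, 1, 1⟩))) (.node 2 (.node 1 (.one ⟨14135, 2, 2⟩) (.one ⟨11433, 0, 3⟩)) (.node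 1 (.one ⟨524, 2, 3⟩) (.one ⟨4795, 0, 4⟩))))) (.node 8 (.node 4 (.node 2 (.node 1 (.one ⟨9143, 2, 3⟩) (.one ⟨601, 2, 1⟩)) (.node 1 (.one ⟨7838, 0, 4⟩) (.one ⟨420, 0, 5⟩))) (.node 2 (.node 1 (.one ⟨7030, 2, 5⟩) (.one ⟨10915, 1, 3⟩)) (.node 1 (.one ⟨15148, 2, 5⟩) (.one ⟨14110, 2, 5⟩)))) (.node 4 (.node 2 (.node 1 (.one ⟨5295, 2, 5⟩) (.one ⟨6118, 2, 5⟩)) (.node 1 (.one ⟨13490, 2, 5⟩) (.one ⟨13156, 2, 5⟩))) (.node 2 (.node 1 (.one ⟨5552, 2, 5⟩) (.one ⟨5269, 2, 5⟩)) (.node 1 (.one ⟨13881, 2, 6⟩) (.one ⟨15756, 2, 5⟩)))))))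
def par9_13_9 : Arr Par :=
  (.node 32 (.node 16 (.node 8 (.node 4 (.node 2 (.node 1 (.one ⟨4814, 0, 3⟩) (.one ⟨5989, 2, 3⟩)) (.node 1 (.one ⟨4228, 0, 3⟩) (.one ⟨178, 0, 4⟩))) (.node 2 (.node 1 (.one ⟨11883, 1, 6⟩) (.one ⟨3427, 0, 3⟩)) (.node 1 (.one ⟨4659, 2, 5⟩) (.one ⟨10848, 1, 3⟩)))) (.node 4 (.node 2 (.node 1 (.one ⟨10464, 2, 1⟩) (.one ⟨10496, 0, 6⟩)) (.node 1 (.one ⟨13204, 0, 6⟩) (.one ⟨10738, 2, 6⟩))) (.node 2 (.node 1 (.one ⟨3850, 2, 4⟩) (.one ⟨808, 0, 5⟩)) (.node 1 (.one ⟨4856, 0, 6⟩) (.one ⟨12264, 1, 1⟩))))) (.node 8 (.node 4 (.node 2 (.node 1 (.one ⟨15160, 0, 4⟩) (.one ⟨10935, 2, 3⟩)) (.node 1 (.one ⟨8126, 2, 5⟩) (.one ⟨14068, 2, 3⟩))) (.node 2 (.node 1 (.one ⟨5240, 2, 5⟩) (.one ⟨4151, 1, 3⟩)) (.node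 1 (.one ⟨9473, 1, 3⟩) (.one ⟨3421, 2, 4⟩)))) (.node 4 (.node 2 (.node 1 (.one ⟨2253, 2, 4⟩) (.one ⟨16629, 2, 2⟩)) (.node 1 (.one ⟨810, 0, 5⟩) (.one ⟨10490, 1, 2⟩))) (.node 2 (.node 1 (.one ⟨13776, 1, 3⟩) (.one ⟨12011, 2, 2⟩)) (.node 1 (.one ⟨13501, 2, 3⟩) (.one ⟨6115, 0, 6⟩)))))) (.node 16 (.node 8 (.node 4 (.node 2 (.node 1 (.one ⟨16894, 2, 5⟩) (.one ⟨2634, 1, 4⟩)) (.node 1 (.one ⟨7093, 0, 4⟩) (.one ⟨15585, 0, 2⟩))) (.node 2 (.node 1 (.one ⟨3425, 0, 4⟩) (.one ⟨6420, 2, 3⟩)) (.node 1 (.one ⟨13754, 0, 3⟩) (.one ⟨3346, 2, 4⟩)))) (.node 4 (.node 2 (.node 1 (.one ⟨2911, 0, 3⟩) (.one ⟨16409, 2, 3⟩)) (.node 1 (.one ⟨5991, 2, 3⟩) (.one ⟨2941, 2, 4⟩))) (.node 2 (.node 1 (.one ⟨13463, 2, 6⟩) (.one ⟨15845, 2, 6⟩)) (.node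 1 (.one ⟨6359, 2, 4⟩) (.one ⟨13673, 2, 4⟩))))) (.node 8 (.node 4 (.node 2 (.node 1 (.one ⟨8394, 0, 5⟩) (.one ⟨5269, 0, 5⟩)) (.node 1 (.one ⟨9562, 2, 6⟩) (.one ⟨13064, 1, 2⟩))) (.node 2 (.node 1 (.one ⟨7776, 2, 5⟩) (.one ⟨7861, 0, 4⟩)) (.node 1 (.one ⟨14534, 0, 4⟩) (.one ⟨7866, 0, 5⟩)))) (.node 4 (.node 2 (.node 1 (.one ⟨4783, 1, 6⟩) (.one ⟨15935, 1, 6⟩)) (.node 1 (.one ⟨5596, 2, 6⟩) (.one ⟨10239, 1, 6⟩))) (.node 2 (.node 1 (.one ⟨11392, 1, 2⟩) (.one ⟨11694, 0, 5⟩)) (.node 1 (.one ⟨6620, 1, 3⟩) (.one ⟨1280, 0, 5⟩)))))))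
def par9_13_10 : Arr Par :=
  (.node 32 (.node 16 (.node 8 (.node 4 (.node 2 (.node 1 (.one ⟨12716, 2, 6⟩) (.one ⟨12712, 2, 5⟩)) (.node 1 (.one ⟨4984, 1, 3⟩) (.one ⟨9704, 1, 3⟩))) (.node 2 (.node 1 (.one ⟨7807, 1, 5⟩) (.one ⟨4165, 0, 2⟩)) (.node 1 (.one ⟨15208, 1, 3⟩) (.one ⟨10372, 2, 5⟩)))) (.node 4 (.node 2 (.node 1 (.one ⟨14388, 2, 2⟩) (.one ⟨5698, 2, 4⟩)) (.node 1 (.one ⟨1630, 2, 4⟩) (.one ⟨10537, 0, 4⟩))) (.node 2 (.node 1 (.one ⟨8397, 0, 4⟩) (.one ⟨5204, 2, 4⟩)) (.node 1 (.one ⟨8756, 2, 3⟩) (.one ⟨10505, 1, 2⟩))))) (.node 8 (.node 4 (.node 2 (.node 1 (.one ⟨11544, 2, 5⟩) (.one ⟨11882, 0, 2⟩)) (.node 1 (.one ⟨1421, 0, 4⟩) (.one ⟨11256, 0, 5⟩))) (.node 2 (.node 1 (.one ⟨5550, 0, 2⟩) (.one ⟨4175, 0, 2⟩))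 (.node 1 (.one ⟨10492, 0, 3⟩) (.one ⟨1977, 2, 6⟩)))) (.node 4 (.node 2 (.node 1 (.one ⟨9747, 2, 3⟩) (.one ⟨7013, 2, 5⟩)) (.node 1 (.one ⟨14706, 2, 5⟩) (.one ⟨4010, 0, 4⟩))) (.node 2 (.node 1 (.one ⟨6630, 2, 5⟩) (.one ⟨6450, 0, 6⟩)) (.node 1 (.one ⟨110, 2, 5⟩) (.one ⟨11870, 0, 4⟩)))))) (.node 16 (.node 8 (.node 4 (.node 2 (.node 1 (.one ⟨7393, 0, 4⟩) (.one ⟨11424, 0, 6⟩)) (.node 1 (.one ⟨9857, 2, 5⟩) (.one ⟨383, 2, 5⟩))) (.node 2 (.node 1 (.one ⟨1781, 2, 6⟩) (.one ⟨2612, 2, 6⟩)) (.node 1 (.one ⟨2479, 2, 6⟩) (.one ⟨1352, 0, 5⟩)))) (.node 4 (.node 2 (.node 1 (.one ⟨9895, 0, 5⟩) (.one ⟨2798, 1, 3⟩)) (.node 1 (.one ⟨7717, 2, 5⟩) (.one ⟨6425, 2, 4⟩))) (.node 2 (.node 1 (.one ⟨896, 1, 3⟩) (.one ⟨9870, 0, 5⟩)) (.node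 1 (.one ⟨898, 0, 4⟩) (.one ⟨15355, 0, 4⟩))))) (.node 8 (.node 4 (.node 2 (.node 1 (.one ⟨4726, 1, 2⟩) (.one ⟨9140, 2, 3⟩)) (.node 1 (.one ⟨8460, 0, 4⟩) (.one ⟨16306, 2, 4⟩))) (.node 2 (.node 1 (.one ⟨16334, 2, 5⟩) (.one ⟨8287, 2, 3⟩)) (.node 1 (.one ⟨8284, 2, 6⟩) (.one ⟨7101, 2, 6⟩)))) (.node 4 (.node 2 (.node 1 (.one ⟨2282, 2, 4⟩) (.one ⟨11206, 2, 4⟩)) (.node 1 (.one ⟨14342, 2, 4⟩) (.one ⟨11403, 2, 6⟩))) (.node 2 (.node 1 (.one ⟨14405, 2, 4⟩) (.one ⟨5552, 0, 5⟩)) (.node 1 (.one ⟨5553, 0, 1⟩) (.one ⟨8133, 0, 4⟩)))))))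
def par9_13_11 : Arr Par :=
  (.node 32 (.node 16 (.node 8 (.node 4 (.node 2 (.node 1 (.one ⟨11209, 2, 5⟩) (.one ⟨4486, 2, 6⟩)) (.node 1 (.one ⟨15492, 0, 5⟩) (.one ⟨4141, 0, 3⟩))) (.node 2 (.node 1 (.one ⟨4533, 2, 4⟩) (.one ⟨10186, 2, 6⟩)) (.node 1 (.one ⟨11436, 0, 4⟩) (.one ⟨16364, 0, 4⟩)))) (.node 4 (.node 2 (.node 1 (.one ⟨16024, 2, 3⟩) (.one ⟨12800, 2, 4⟩)) (.node 1 (.one ⟨13502, 2, 5⟩) (.one ⟨13735, 0, 4⟩))) (.node 2 (.node 1 (.one ⟨1582, 2, 2⟩) (.one ⟨6113, 0, 5⟩)) (.node 1 (.one ⟨7416, 2, 4⟩) (.one ⟨889, 2, 2⟩))))) (.node 8 (.node 4 (.node 2 (.node 1 (.one ⟨2235, 0, 2⟩) (.one ⟨15678, 2, 3⟩)) (.node 1 (.one ⟨15797, 0, 5⟩) (.one ⟨8330, 0, 3⟩))) (.node 2 (.node 1 (.one ⟨1204, 0, 4⟩) (.one ⟨2480, 2, 5⟩))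 (.node 1 (.one ⟨16206, 0, 4⟩) (.one ⟨4084, 1, 6⟩)))) (.node 4 (.node 2 (.node 1 (.one ⟨4839, 1, 0⟩) (.one ⟨765, 0, 5⟩)) (.node 1 (.one ⟨15691, 0, 2⟩) (.one ⟨12326, 0, 5⟩))) (.node 2 (.node 1 (.one ⟨6494, 0, 2⟩) (.one ⟨11774, 1, 6⟩)) (.node 1 (.one ⟨16611, 0, 5⟩) (.one ⟨13085, 2, 5⟩)))))) (.node 16 (.node 8 (.node 4 (.node 2 (.node 1 (.one ⟨10865, 2, 5⟩) (.one ⟨12947, 0, 6⟩)) (.node 1 (.one ⟨9065, 0, 4⟩) (.one ⟨12949, 0, 2⟩))) (.node 2 (.node 1 (.one ⟨6585, 2, 4⟩) (.one ⟨12948, 0, 2⟩)) (.node 1 (.one ⟨13891, 2, 5⟩) (.one ⟨11852, 2, 5⟩)))) (.node 4 (.node 2 (.node 1 (.one ⟨11267, 2, 4⟩) (.one ⟨14967, 0, 6⟩)) (.node 1 (.one ⟨13573, 2, 5⟩) (.one ⟨3209, 2, 5⟩))) (.node 2 (.node 1 (.one ⟨3420, 1, 2⟩) (.one ⟨13493,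 0, 4⟩)) (.node 1 (.one ⟨107, 2, 5⟩) (.one ⟨6522, 1, 2⟩))))) (.node 8 (.node 4 (.node 2 (.node 1 (.one ⟨3065, 2, 5⟩) (.one ⟨7827, 0, 5⟩)) (.node 1 (.one ⟨12776, 2, 3⟩) (.one ⟨13787, 1, 2⟩))) (.node 2 (.node 1 (.one ⟨10483, 1, 2⟩) (.one ⟨4698, 2, 3⟩)) (.node 1 (.one ⟨7962, 2, 3⟩) (.one ⟨15268, 1, 3⟩)))) (.node 4 (.node 2 (.node 1 (.one ⟨1752, 2, 4⟩) (.one ⟨1758, 2, 3⟩)) (.node 1 (.one ⟨1757, 2, 3⟩) (.one ⟨1755, 2, 6⟩))) (.node 2 (.node 1 (.one ⟨1151, 0, 4⟩) (.one ⟨1754, 2, 3⟩)) (.node 1 (.one ⟨14932, 0, 4⟩) (.one ⟨15144, 1, 4⟩)))))))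
def par9_13_12 : Arr Par :=
  (.node 32 (.node 16 (.node 8 (.node 4 (.node 2 (.node 1 (.one ⟨6315, 0, 4⟩) (.one ⟨14715, 0, 4⟩)) (.node 1 (.one ⟨15448, 2, 6⟩) (.one ⟨16508, 1, 4⟩))) (.node 2 (.node 1 (.one ⟨7671, 0, 3⟩) (.one ⟨16923, 0, 3⟩)) (.node 1 (.one ⟨7377, 1, 2⟩) (.one ⟨14195, 2, 6⟩)))) (.node 4 (.node 2 (.node 1 (.one ⟨6981, 1, 4⟩) (.one ⟨13739, 2, 4⟩)) (.node 1 (.one ⟨13260, 2, 4⟩) (.one ⟨3287, 1, 1⟩))) (.node 2 (.node 1 (.one ⟨6371, 1, 1⟩) (.one ⟨2373, 0, 3⟩)) (.node 1 (.one ⟨7697, 1, 2⟩) (.one ⟨6430, 0, 2⟩))))) (.node 8 (.node 4 (.node 2 (.node 1 (.one ⟨4401, 2, 5⟩) (.one ⟨4400, 2, 5⟩)) (.node 1 (.one ⟨16421, 1, 4⟩) (.one ⟨11252, 1, 3⟩))) (.node 2 (.node 1 (.one ⟨10797, 1, 5⟩) (.one ⟨1317, 1, 3⟩))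 (.node 1 (.one ⟨4406, 2, 3⟩) (.one ⟨4716, 2, 5⟩)))) (.node 4 (.node 2 (.node 1 (.one ⟨16129, 2, 6⟩) (.one ⟨3081, 2, 4⟩)) (.node 1 (.one ⟨13667, 2, 4⟩) (.one ⟨16243, 2, 5⟩))) (.node 2 (.node 1 (.one ⟨5344, 2, 5⟩) (.one ⟨8541, 0, 2⟩)) (.node 1 (.one ⟨3364, 2, 4⟩) (.one ⟨3867, 1, 3⟩)))))) (.node 16 (.node 8 (.node 4 (.node 2 (.node 1 (.one ⟨88, 1, 1⟩) (.one ⟨9367, 1, 3⟩)) (.node 1 (.one ⟨13441, 2, 5⟩) (.one ⟨16376, 2, 5⟩))) (.node 2 (.node 1 (.one ⟨9479, 1, 4⟩) (.one ⟨1122, 1, 4⟩)) (.node 1 (.one ⟨16298, 2, 2⟩) (.one ⟨2555, 0, 6⟩)))) (.node 4 (.node 2 (.node 1 (.one ⟨7386, 2, 4⟩) (.one ⟨16623, 2, 4⟩)) (.node 1 (.one ⟨6922, 0, 4⟩) (.one ⟨7329, 2, 4⟩))) (.node 2 (.node 1 (.one ⟨12401, 2, 5⟩) (.one ⟨1816, 2, 4⟩))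 (.node 1 (.one ⟨16800, 2, 2⟩) (.one ⟨14237, 0, 4⟩))))) (.node 8 (.node 4 (.node 2 (.node 1 (.one ⟨15295, 2, 5⟩) (.one ⟨12971, 0, 5⟩)) (.node 1 (.one ⟨11621, 2, 5⟩) (.one ⟨15153, 2, 5⟩))) (.node 2 (.node 1 (.one ⟨5704, 2, 5⟩) (.one ⟨11683, 2, 5⟩)) (.node 1 (.one ⟨16222, 0, 4⟩) (.one ⟨9316, 0, 1⟩)))) (.node 4 (.node 2 (.node 1 (.one ⟨13972, 2, 3⟩) (.one ⟨4113, 1, 5⟩)) (.node 1 (.one ⟨9253, 0, 2⟩) (.one ⟨3369, 1, 3⟩))) (.node 2 (.node 1 (.one ⟨14315, 2, 4⟩) (.one ⟨1124, 0, 2⟩)) (.node 1 (.one ⟨11441, 0, 4⟩) (.one ⟨13696, 0, 3⟩)))))))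
def par9_13_13 : Arr Par :=
  (.node 32 (.node 16 (.node 8 (.node 4 (.node 2 (.node 1 (.one ⟨1746, 0, 5⟩) (.one ⟨8960, 0, 4⟩)) (.node 1 (.one ⟨13145, 0, 5⟩) (.one ⟨15721, 2, 4⟩))) (.node 2 (.node 1 (.one ⟨16891, 0, 5⟩) (.one ⟨15723, 2, 2⟩)) (.node 1 (.one ⟨735, 1, 3⟩) (.one ⟨9270, 2, 3⟩)))) (.node 4 (.node 2 (.node 1 (.one ⟨10455, 2, 6⟩) (.one ⟨9200, 2, 3⟩)) (.node 1 (.one ⟨10445, 2, 5⟩) (.one ⟨10508, 2, 7⟩))) (.node 2 (.node 1 (.one ⟨9463, 2, 5⟩) (.one ⟨10520, 2, 6⟩)) (.node 1 (.one ⟨9549, 2, 5⟩) (.one ⟨4492, 2, 4⟩))))) (.node 8 (.node 4 (.node 2 (.node 1 (.one ⟨10608, 2, 4⟩) (.one ⟨759, 2, 4⟩)) (.node 1 (.one ⟨15572, 0, 4⟩) (.one ⟨11603, 2, 4⟩))) (.node 2 (.node 1 (.one ⟨1258, 2, 3⟩) (.one ⟨15417, 0, 4⟩))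 (.node 1 (.one ⟨4465, 2, 5⟩) (.one ⟨3735, 2, 3⟩)))) (.node 4 (.node 2 (.node 1 (.one ⟨12483, 0, 4⟩) (.one ⟨2936, 2, 5⟩)) (.node 1 (.one ⟨15599, 2, 6⟩) (.one ⟨15551, 0, 3⟩))) (.node 2 (.node 1 (.one ⟨1178, 2, 1⟩) (.one ⟨16927, 2, 3⟩)) (.node 1 (.one ⟨4639, 2, 4⟩) (.one ⟨8491, 2, 5⟩)))))) (.node 16 (.node 8 (.node 4 (.node 2 (.node 1 (.one ⟨11123, 0, 3⟩) (.one ⟨3098, 0, 4⟩)) (.node 1 (.one ⟨4907, 2, 5⟩) (.one ⟨9337, 0, 3⟩))) (.node 2 (.node 1 (.one ⟨114, 2, 5⟩) (.one ⟨5706, 2, 2⟩)) (.node 1 (.one ⟨584, 0, 3⟩) (.one ⟨10301, 1, 4⟩)))) (.node 4 (.node 2 (.node 1 (.one ⟨13160, 1, 5⟩) (.one ⟨1918, 2, 6⟩)) (.node 1 (.one ⟨7813, 0, 5⟩) (.one ⟨5365, 1, 5⟩))) (.node 2 (.node 1 (.one ⟨2519, 1, 5⟩) (.one ⟨4632, 1, 5⟩))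 (.node 1 (.one ⟨7497, 2, 5⟩) (.one ⟨14987, 2, 3⟩))))) (.node 8 (.node 4 (.node 2 (.node 1 (.one ⟨5077, 2, 5⟩) (.one ⟨14770, 2, 3⟩)) (.node 1 (.one ⟨5433, 2, 4⟩) (.one ⟨5625, 2, 5⟩))) (.node 2 (.node 1 (.one ⟨8062, 0, 3⟩) (.one ⟨6368, 1, 1⟩)) (.node 1 (.one ⟨8056, 0, 2⟩) (.one ⟨10164, 0, 4⟩)))) (.node 4 (.node 2 (.node 1 (.one ⟨10828, 0, 4⟩) (.one ⟨14096, 0, 6⟩)) (.node 1 (.one ⟨4012, 2, 4⟩) (.one ⟨1177, 2, 7⟩))) (.node 2 (.node 1 (.one ⟨3674, 2, 4⟩) (.one ⟨8265, 2, 4⟩)) (.node 1 (.one ⟨13954, 0, 4⟩) (.one ⟨9568, 0, 2⟩)))))))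
def par9_13_14 : Arr Par :=
  (.node 32 (.node 16 (.node 8 (.node 4 (.node 2 (.node 1 (.one ⟨4888, 1, 4⟩) (.one ⟨14397, 2, 4⟩)) (.node 1 (.one ⟨12106, 2, 5⟩) (.one ⟨9316, 1, 1⟩))) (.node 2 (.node 1 (.one ⟨3857, 2, 4⟩) (.one ⟨13584, 0, 6⟩)) (.node 1 (.one ⟨16366, 2, 4⟩) (.one ⟨15514, 2, 6⟩)))) (.node 4 (.node 2 (.node 1 (.one ⟨15313, 2, 3⟩) (.one ⟨10897, 0, 6⟩)) (.node 1 (.one ⟨15333, 2, 4⟩) (.one ⟨10557, 0, 4⟩))) (.node 2 (.node 1 (.one ⟨1763, 2, 6⟩) (.one ⟨385, 2, 7⟩)) (.node 1 (.one ⟨6325, 0, 6⟩) (.one ⟨16320, 2, 3⟩))))) (.node 8 (.node 4 (.node 2 (.node 1 (.one ⟨16188, 2, 6⟩) (.one ⟨12582, 0, 5⟩)) (.node 1 (.one ⟨6821, 2, 3⟩) (.one ⟨6884, 1, 5⟩))) (.node 2 (.node 1 (.one ⟨13158, 2, 7⟩) (.one ⟨2026, 2, 6⟩))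 (.node 1 (.one ⟨1903, 1, 1⟩) (.one ⟨10645, 0, 3⟩)))) (.node 4 (.node 2 (.node 1 (.one ⟨14643, 0, 3⟩) (.one ⟨17016, 2, 5⟩)) (.node 1 (.one ⟨15608, 0, 3⟩) (.one ⟨6634, 0, 3⟩))) (.node 2 (.node 1 (.one ⟨2498, 0, 3⟩) (.one ⟨7590, 0, 3⟩)) (.node 1 (.one ⟨743, 0, 3⟩) (.one ⟨13238, 0, 4⟩)))))) (.node 16 (.node 8 (.node 4 (.node 2 (.node 1 (.one ⟨8596, 2, 4⟩) (.one ⟨2328, 0, 3⟩)) (.node 1 (.one ⟨3680, 0, 4⟩) (.one ⟨1405, 2, 3⟩))) (.node 2 (.node 1 (.one ⟨9349, 2, 3⟩) (.one ⟨1103, 2, 2⟩)) (.node 1 (.one ⟨9591, 2, 5⟩) (.one ⟨11932, 2, 2⟩)))) (.node 4 (.node 2 (.node 1 (.one ⟨16116, 2, 3⟩) (.one ⟨13065, 2, 3⟩)) (.node 1 (.one ⟨16649, 2, 2⟩) (.one ⟨13983, 0, 5⟩))) (.node 2 (.node 1 (.one ⟨1243, 0, 4⟩) (.one ⟨13812, 0,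 4⟩)) (.node 1 (.one ⟨1599, 0, 4⟩) (.one ⟨16114, 2, 2⟩))))) (.node 8 (.node 4 (.node 2 (.node 1 (.one ⟨11930, 2, 2⟩) (.one ⟨7019, 0, 4⟩)) (.node 1 (.one ⟨13776, 2, 3⟩) (.one ⟨1478, 0, 5⟩))) (.node 2 (.node 1 (.one ⟨6311, 2, 4⟩) (.one ⟨8335, 2, 2⟩)) (.node 1 (.one ⟨6971, 0, 5⟩) (.one ⟨10869, 2, 4⟩)))) (.node 4 (.node 2 (.node 1 (.one ⟨4725, 2, 4⟩) (.one ⟨760, 2, 4⟩)) (.node 1 (.one ⟨16557, 0, 2⟩) (.one ⟨1654, 2, 5⟩))) (.node 2 (.node 1 (.one ⟨16551, 0, 2⟩) (.one ⟨10836, 2, 4⟩)) (.node 1 (.one ⟨4634, 2, 5⟩) (.one ⟨15489, 0, 6⟩)))))))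
def par9_13_15 : Arr Par :=
  (.node 32 (.node 16 (.node 8 (.node 4 (.node 2 (.node 1 (.one ⟨5287, 2, 4⟩) (.one ⟨3373, 0, 2⟩)) (.node 1 (.one ⟨5678, 0, 5⟩) (.one ⟨7250, 2, 7⟩))) (.node 2 (.node 1 (.one ⟨11655, 2, 4⟩) (.one ⟨16955, 2, 7⟩)) (.node 1 (.one ⟨650, 2, 7⟩) (.one ⟨1457, 0, 6⟩)))) (.node 4 (.node 2 (.node 1 (.one ⟨10117, 2, 6⟩) (.one ⟨4185, 0, 4⟩)) (.node 1 (.one ⟨3834, 1, 2⟩) (.one ⟨9270, 1, 3⟩))) (.node 2 (.node 1 (.one ⟨11927, 1, 2⟩) (.one ⟨10175, 2, 5⟩)) (.node 1 (.one ⟨4293, 0, 4⟩) (.one ⟨14972, 2, 5⟩))))) (.node 8 (.node 4 (.node 2 (.node 1 (.one ⟨527, 0, 5⟩) (.one ⟨15050, 2, 5⟩)) (.node 1 (.one ⟨867, 2, 5⟩) (.one ⟨10654, 2, 3⟩))) (.node 2 (.node 1 (.one ⟨7450, 2, 5⟩) (.one ⟨6320, 0, 2⟩)) (.node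 1 (.one ⟨7253, 2, 2⟩) (.one ⟨11410, 2, 3⟩)))) (.node 4 (.node 2 (.node 1 (.one ⟨8671, 2, 6⟩) (.one ⟨984, 0, 5⟩)) (.node 1 (.one ⟨12047, 2, 5⟩) (.one ⟨7707, 2, 1⟩))) (.node 2 (.node 1 (.one ⟨14886, 0, 3⟩) (.one ⟨13539, 2, 5⟩)) (.node 1 (.one ⟨8070, 1, 3⟩) (.one ⟨14503, 2, 3⟩)))))) (.node 16 (.node 8 (.node 4 (.node 2 (.node 1 (.one ⟨4981, 1, 0⟩) (.one ⟨13813, 1, 2⟩)) (.node 1 (.one ⟨5152, 1, 0⟩) (.one ⟨6451, 2, 5⟩))) (.node 2 (.node 1 (.one ⟨10770, 2, 6⟩) (.one ⟨10725, 2, 5⟩)) (.node 1 (.one ⟨6529, 2, 6⟩) (.one ⟨16334, 0, 5⟩)))) (.node 4 (.node 2 (.node 1 (.one ⟨13682, 2, 4⟩) (.one ⟨14547, 0, 4⟩)) (.node 1 (.one ⟨14997, 0, 4⟩) (.one ⟨4107, 1, 3⟩))) (.node 2 (.node 1 (.one ⟨5715, 0, 4⟩) (.one ⟨9799, 2, 2⟩)) (.node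 1 (.one ⟨7800, 0, 4⟩) (.one ⟨13334, 1, 2⟩))))) (.node 8 (.node 4 (.node 2 (.node 1 (.one ⟨15217, 0, 2⟩) (.one ⟨559, 2, 5⟩)) (.node 1 (.one ⟨1609, 0, 4⟩) (.one ⟨3367, 0, 3⟩))) (.node 2 (.node 1 (.one ⟨11338, 2, 2⟩) (.one ⟨15034, 1, 2⟩)) (.node 1 (.one ⟨16245, 0, 4⟩) (.one ⟨16824, 1, 2⟩)))) (.node 4 (.node 2 (.node 1 (.one ⟨6832, 0, 2⟩) (.one ⟨3912, 2, 5⟩)) (.node 1 (.one ⟨9962, 2, 5⟩) (.one ⟨7534, 2, 5⟩))) (.node 2 (.node 1 (.one ⟨16459, 2, 3⟩) (.one ⟨986, 2, 3⟩)) (.node 1 (.one ⟨12283, 2, 2⟩) (.one ⟨16040, 2, 3⟩)))))))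
def par9_13 : Arr Par :=
  (.node 512 (.node 256 (.node 128 (.node 64 par9_13_0 par9_13_1) (.node 64 par9_13_2 par9_13_3)) (.node 128 (.node 64 par9_13_4 par9_13_5) (.node 64 par9_13_6 par9_13_7))) (.node 256 (.node 128 (.node 64 par9_13_8 par9_13_9) (.node 64 par9_13_10 par9_13_11)) (.node 128 (.node 64 par9_13_12 par9_13_13) (.node 64 par9_13_14 par9_13_15))))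
def par9_14_0 : Arr Par :=
  (.node 32 (.node 16 (.node 8 (.node 4 (.node 2 (.node 1 (.one ⟨9430, 1, 2⟩) (.one ⟨5040, 2, 4⟩)) (.node 1 (.one ⟨15005, 2, 3⟩) (.one ⟨4697, 2, 7⟩))) (.node 2 (.node 1 (.one ⟨2729, 1, 2⟩) (.one ⟨6798, 1, 2⟩)) (.node 1 (.one ⟨1099, 2, 3⟩) (.one ⟨16241, 0, 5⟩)))) (.node 4 (.node 2 (.node 1 (.one ⟨3860, 1, 3⟩) (.one ⟨6119, 0, 4⟩)) (.node 1 (.one ⟨1396, 1, 1⟩) (.one ⟨8333, 0, 5⟩))) (.node 2 (.node 1 (.one ⟨3629, 2, 4⟩) (.one ⟨13652, 0, 5⟩)) (.node 1 (.one ⟨10090, 0, 5⟩) (.one ⟨13871, 0, 5⟩))))) (.node 8 (.node 4 (.node 2 (.node 1 (.one ⟨1365, 2, 1⟩) (.one ⟨3975, 0, 3⟩)) (.node 1 (.one ⟨2727, 0, 1⟩) (.one ⟨10062, 1, 5⟩))) (.node 2 (.node 1 (.one ⟨6364, 1, 4⟩) (.one ⟨16199, 0, 1⟩)) (.node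 1 (.one ⟨14567, 0, 4⟩) (.one ⟨8816, 0, 3⟩)))) (.node 4 (.node 2 (.node 1 (.one ⟨1127, 0, 2⟩) (.one ⟨12413, 1, 5⟩)) (.node 1 (.one ⟨9481, 0, 2⟩) (.one ⟨9258, 0, 2⟩))) (.node 2 (.node 1 (.one ⟨16928, 0, 5⟩) (.one ⟨1498, 0, 2⟩)) (.node 1 (.one ⟨9317, 2, 4⟩) (.one ⟨1555, 2, 3⟩)))))) (.node 16 (.node 8 (.node 4 (.node 2 (.node 1 (.one ⟨16978, 2, 5⟩) (.one ⟨776, 0, 5⟩)) (.node 1 (.one ⟨1368, 2, 5⟩) (.one ⟨16968, 2, 4⟩))) (.node 2 (.node 1 (.one ⟨607, 2, 1⟩) (.one ⟨1210, 2, 5⟩)) (.node 1 (.one ⟨16958, 2, 4⟩) (.one ⟨13321, 2, 4⟩)))) (.node 4 (.node 2 (.node 1 (.one ⟨5202, 2, 6⟩) (.one ⟨13501, 0, 3⟩)) (.node 1 (.one ⟨7886, 2, 5⟩) (.one ⟨6886, 2, 6⟩))) (.node 2 (.node 1 (.one ⟨12011, 0, 2⟩) (.one ⟨2379, 2, 5⟩)) (.node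 1 (.one ⟨11091, 0, 2⟩) (.one ⟨3037, 2, 4⟩))))) (.node 8 (.node 4 (.node 2 (.node 1 (.one ⟨1606, 1, 4⟩) (.one ⟨6183, 2, 4⟩)) (.node 1 (.one ⟨6978, 1, 4⟩) (.one ⟨2728, 1, 1⟩))) (.node 2 (.node 1 (.one ⟨3585, 1, 1⟩) (.one ⟨7157, 1, 3⟩)) (.node 1 (.one ⟨6797, 0, 5⟩) (.one ⟨7584, 2, 3⟩)))) (.node 4 (.node 2 (.node 1 (.one ⟨14775, 2, 6⟩) (.one ⟨13602, 2, 3⟩)) (.node 1 (.one ⟨4527, 2, 3⟩) (.one ⟨14418, 0, 4⟩))) (.node 2 (.node 1 (.one ⟨1312, 2, 3⟩) (.one ⟨8321, 2, 3⟩)) (.node 1 (.one ⟨15856, 2, 4⟩) (.one ⟨3891, 0, 3⟩)))))))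
def par9_14_1 : Arr Par :=
  (.node 32 (.node 16 (.node 8 (.node 4 (.node 2 (.node 1 (.one ⟨5847, 2, 4⟩) (.one ⟨11202, 0, 3⟩)) (.node 1 (.one ⟨3703, 0, 3⟩) (.one ⟨11276, 2, 3⟩))) (.node 2 (.node 1 (.one ⟨11268, 2, 5⟩) (.one ⟨13408, 0, 3⟩)) (.node 1 (.one ⟨15421, 2, 5⟩) (.one ⟨5223, 1, 0⟩)))) (.node 4 (.node 2 (.node 1 (.one ⟨5298, 1, 0⟩) (.one ⟨12703, 2, 6⟩)) (.node 1 (.one ⟨2111, 1, 4⟩) (.one ⟨6449, 2, 6⟩))) (.node 2 (.node 1 (.one ⟨15267, 2, 5⟩) (.one ⟨6528, 2, 5⟩)) (.node 1 (.one ⟨11301, 0, 4⟩) (.one ⟨10997, 2, 6⟩))))) (.node 8 (.node 4 (.node 2 (.node 1 (.one ⟨11589, 1, 4⟩) (.one ⟨4794, 2, 6⟩)) (.node 1 (.one ⟨2050, 0, 3⟩) (.one ⟨5866, 1, 4⟩))) (.node 2 (.node 1 (.one ⟨5084, 1, 4⟩) (.one ⟨5304, 2, 4⟩))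 (.node 1 (.one ⟨7723, 1, 2⟩) (.one ⟨3187, 2, 6⟩)))) (.node 4 (.node 2 (.node 1 (.one ⟨3188, 2, 5⟩) (.one ⟨3185, 2, 6⟩)) (.node 1 (.one ⟨2509, 0, 6⟩) (.one ⟨3184, 2, 4⟩))) (.node 2 (.node 1 (.one ⟨3183, 2, 2⟩) (.one ⟨2898, 0, 4⟩)) (.node 1 (.one ⟨3189, 2, 6⟩) (.one ⟨8949, 0, 5⟩)))))) (.node 16 (.node 8 (.node 4 (.node 2 (.node 1 (.one ⟨2824, 2, 3⟩) (.one ⟨11482, 1, 3⟩)) (.node 1 (.one ⟨2489, 2, 6⟩) (.one ⟨6973, 0, 5⟩))) (.node 2 (.node 1 (.one ⟨7939, 0, 4⟩) (.one ⟨1335, 0, 5⟩)) (.node 1 (.one ⟨4850, 0, 5⟩) (.one ⟨9005, 2, 3⟩)))) (.node 4 (.node 2 (.node 1 (.one ⟨12460, 2, 3⟩) (.one ⟨7152, 0, 3⟩)) (.node 1 (.one ⟨15030, 2, 3⟩) (.one ⟨2023, 2, 3⟩))) (.node 2 (.node 1 (.one ⟨8517, 0, 3⟩) (.one ⟨119, 0, 4⟩)) (.node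 1 (.one ⟨17024, 1, 6⟩) (.one ⟨14324, 2, 3⟩))))) (.node 8 (.node 4 (.node 2 (.node 1 (.one ⟨2089, 2, 6⟩) (.one ⟨3890, 2, 5⟩)) (.node 1 (.one ⟨4908, 0, 5⟩) (.one ⟨6644, 0, 5⟩))) (.node 2 (.node 1 (.one ⟨10639, 2, 4⟩) (.one ⟨16219, 0, 4⟩)) (.node 1 (.one ⟨8325, 2, 6⟩) (.one ⟨660, 2, 6⟩)))) (.node 4 (.node 2 (.node 1 (.one ⟨13486, 2, 4⟩) (.one ⟨16786, 2, 4⟩)) (.node 1 (.one ⟨6344, 2, 6⟩) (.one ⟨15579, 2, 5⟩))) (.node 2 (.node 1 (.one ⟨71, 0, 1⟩) (.one ⟨4041, 2, 6⟩)) (.node 1 (.one ⟨11153, 2, 5⟩) (.one ⟨585, 0, 1⟩)))))))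
def par9_14_2 : Arr Par :=
  (.node 32 (.node 16 (.node 8 (.node 4 (.node 2 (.node 1 (.one ⟨9967, 2, 7⟩) (.one ⟨9059, 0, 6⟩)) (.node 1 (.one ⟨1294, 0, 1⟩) (.one ⟨17098, 0, 5⟩))) (.node 2 (.node 1 (.one ⟨9662, 2, 5⟩) (.one ⟨9434, 0, 1⟩)) (.node 1 (.one ⟨6090, 2, 6⟩) (.one ⟨17023, 1, 6⟩)))) (.node 4 (.node 2 (.node 1 (.one ⟨8172, 0, 3⟩) (.one ⟨8512, 0, 3⟩)) (.node 1 (.one ⟨7946, 2, 5⟩) (.one ⟨518, 0, 4⟩))) (.node 2 (.node 1 (.one ⟨15219, 1, 6⟩) (.one ⟨8261, 2, 3⟩)) (.node 1 (.one ⟨3429, 0, 3⟩) (.one ⟨1222, 2, 5⟩))))) (.node 8 (.node 4 (.node 2 (.node 1 (.one ⟨14747, 2, 5⟩) (.one ⟨79, 2, 1⟩)) (.node 1 (.one ⟨14763, 2, 4⟩) (.one ⟨9539, 2, 3⟩))) (.node 2 (.node 1 (.one ⟨6640, 2, 4⟩) (.one ⟨4855, 0, 0⟩)) (.node 1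 (.one ⟨6661, 2, 6⟩) (.one ⟨5899, 2, 2⟩)))) (.node 4 (.node 2 (.node 1 (.one ⟨7619, 2, 6⟩) (.one ⟨13269, 0, 5⟩)) (.node 1 (.one ⟨17178, 0, 5⟩) (.one ⟨5638, 2, 4⟩))) (.node 2 (.node 1 (.one ⟨7805, 2, 5⟩) (.one ⟨12693, 0, 4⟩)) (.node 1 (.one ⟨3136, 2, 5⟩) (.one ⟨10268, 1, 6⟩)))))) (.node 16 (.node 8 (.node 4 (.node 2 (.node 1 (.one ⟨13481, 2, 4⟩) (.one ⟨10325, 1, 6⟩)) (.node 1 (.one ⟨14460, 0, 2⟩) (.one ⟨10236, 0, 2⟩))) (.node 2 (.node 1 (.one ⟨4081, 1, 6⟩) (.one ⟨2031, 0, 5⟩)) (.node 1 (.one ⟨3689, 1, 6⟩) (.one ⟨5896, 2, 2⟩)))) (.node 4 (.node 2 (.node 1 (.one ⟨14597, 0, 4⟩) (.one ⟨11840, 2, 4⟩)) (.node 1 (.one ⟨6936, 2, 6⟩) (.one ⟨2556, 0, 6⟩))) (.node 2 (.node 1 (.one ⟨6849, 2, 2⟩) (.one ⟨11877, 0, 5⟩)) (.node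 1 (.one ⟨13637, 0, 5⟩) (.one ⟨3699, 0, 5⟩))))) (.node 8 (.node 4 (.node 2 (.node 1 (.one ⟨9220, 2, 6⟩) (.one ⟨8076, 1, 3⟩)) (.node 1 (.one ⟨4712, 2, 4⟩) (.one ⟨15999, 2, 4⟩))) (.node 2 (.node 1 (.one ⟨2706, 2, 3⟩) (.one ⟨6922, 2, 4⟩)) (.node 1 (.one ⟨13524, 2, 5⟩) (.one ⟨1541, 2, 6⟩)))) (.node 4 (.node 2 (.node 1 (.one ⟨9464, 2, 4⟩) (.one ⟨11935, 2, 4⟩)) (.node 1 (.one ⟨3844, 2, 4⟩) (.one ⟨6486, 0, 5⟩))) (.node 2 (.node 1 (.one ⟨1228, 2, 2⟩) (.one ⟨3780, 2, 6⟩)) (.node 1 (.one ⟨11871, 2, 5⟩) (.one ⟨11546, 2, 5⟩)))))))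
def par9_14_3 : Arr Par :=
  (.node 32 (.node 16 (.node 8 (.node 4 (.node 2 (.node 1 (.one ⟨12961, 0, 6⟩) (.one ⟨1594, 1, 4⟩)) (.node 1 (.one ⟨9672, 2, 3⟩) (.one ⟨9430, 2, 2⟩))) (.node 2 (.node 1 (.one ⟨13758, 2, 1⟩) (.one ⟨3737, 0, 3⟩)) (.node 1 (.one ⟨124, 0, 3⟩) (.one ⟨14138, 0, 3⟩)))) (.node 4 (.node 2 (.node 1 (.one ⟨7266, 0, 2⟩) (.one ⟨7486, 0, 6⟩)) (.node 1 (.one ⟨7268, 1, 2⟩) (.one ⟨14302, 0, 4⟩))) (.node 2 (.node 1 (.one ⟨4730, 2, 3⟩) (.one ⟨16891, 2, 5⟩)) (.node 1 (.one ⟨7267, 1, 2⟩) (.one ⟨5464, 1, 2⟩))))) (.node 8 (.node 4 (.node 2 (.node 1 (.one ⟨1957, 2, 3⟩) (.one ⟨1951, 2, 3⟩)) (.node 1 (.one ⟨4510, 2, 4⟩) (.one ⟨6887, 0, 3⟩))) (.node 2 (.node 1 (.one ⟨5826, 0, 4⟩) (.one ⟨4504, 2, 3⟩)) (.node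 1 (.one ⟨1955, 2, 3⟩) (.one ⟨9551, 2, 4⟩)))) (.node 4 (.node 2 (.node 1 (.one ⟨3631, 1, 1⟩) (.one ⟨190, 2, 6⟩)) (.node 1 (.one ⟨16312, 2, 2⟩) (.one ⟨9036, 0, 3⟩))) (.node 2 (.node 1 (.one ⟨7749, 0, 5⟩) (.one ⟨10527, 2, 4⟩)) (.node 1 (.one ⟨11517, 1, 2⟩) (.one ⟨7038, 2, 6⟩)))))) (.node 16 (.node 8 (.node 4 (.node 2 (.node 1 (.one ⟨6746, 1, 4⟩) (.one ⟨9469, 0, 4⟩)) (.node 1 (.one ⟨843, 2, 2⟩) (.one ⟨2411, 1, 4⟩))) (.node 2 (.node 1 (.one ⟨1699, 0, 4⟩) (.one ⟨9732, 1, 4⟩)) (.node 1 (.one ⟨3945, 1, 4⟩) (.one ⟨13391, 1, 3⟩)))) (.node 4 (.node 2 (.node 1 (.one ⟨16313, 2, 6⟩) (.one ⟨3537, 1, 2⟩)) (.node 1 (.one ⟨9357, 0, 3⟩) (.one ⟨13720, 2, 5⟩))) (.node 2 (.node 1 (.one ⟨11152, 2, 6⟩) (.one ⟨605, 0, 1⟩)) (.node 1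 (.one ⟨2632, 2, 3⟩) (.one ⟨2665, 0, 3⟩))))) (.node 8 (.node 4 (.node 2 (.node 1 (.one ⟨7093, 1, 4⟩) (.one ⟨7092, 1, 2⟩)) (.node 1 (.one ⟨16889, 2, 3⟩) (.one ⟨445, 0, 1⟩))) (.node 2 (.node 1 (.one ⟨13148, 2, 4⟩) (.one ⟨7158, 0, 5⟩)) (.node 1 (.one ⟨7091, 0, 1⟩) (.one ⟨5239, 2, 3⟩)))) (.node 4 (.node 2 (.node 1 (.one ⟨9042, 2, 6⟩) (.one ⟨3872, 0, 2⟩)) (.node 1 (.one ⟨11371, 1, 5⟩) (.one ⟨14826, 0, 5⟩))) (.node 2 (.node 1 (.one ⟨3629, 1, 4⟩) (.one ⟨361, 2, 6⟩)) (.node 1 (.one ⟨6138, 2, 4⟩) (.one ⟨14823, 0, 3⟩)))))))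
def par9_14_4 : Arr Par :=
  (.node 32 (.node 16 (.node 8 (.node 4 (.node 2 (.node 1 (.one ⟨7462, 2, 3⟩) (.one ⟨12940, 1, 5⟩)) (.node 1 (.one ⟨8096, 1, 2⟩) (.one ⟨3156, 2, 4⟩))) (.node 2 (.node 1 (.one ⟨1211, 2, 1⟩) (.one ⟨3167, 2, 3⟩)) (.node 1 (.one ⟨739, 0, 5⟩) (.one ⟨5219, 1, 0⟩)))) (.node 4 (.node 2 (.node 1 (.one ⟨5100, 1, 0⟩) (.one ⟨11019, 1, 2⟩)) (.node 1 (.one ⟨11205, 1, 4⟩) (.one ⟨10722, 2, 6⟩))) (.node 2 (.node 1 (.one ⟨15363, 2, 5⟩) (.one ⟨10773, 2, 5⟩)) (.node 1 (.one ⟨15264, 2, 5⟩) (.one ⟨2980, 1, 4⟩))))) (.node 8 (.node 4 (.node 2 (.node 1 (.one ⟨2678, 2, 4⟩) (.one ⟨7922, 2, 5⟩)) (.node 1 (.one ⟨6289, 2, 4⟩) (.one ⟨10600, 1, 1⟩))) (.node 2 (.node 1 (.one ⟨4316, 2, 6⟩) (.one ⟨6184, 2, 5⟩)) (.node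 1 (.one ⟨10236, 1, 2⟩) (.one ⟨9970, 2, 7⟩)))) (.node 4 (.node 2 (.node 1 (.one ⟨15757, 2, 4⟩) (.one ⟨7754, 2, 5⟩)) (.node 1 (.one ⟨9310, 0, 1⟩) (.one ⟨13523, 2, 5⟩))) (.node 2 (.node 1 (.one ⟨1365, 0, 1⟩) (.one ⟨7304, 2, 7⟩)) (.node 1 (.one ⟨5406, 2, 4⟩) (.one ⟨15369, 1, 2⟩)))))) (.node 16 (.node 8 (.node 4 (.node 2 (.node 1 (.one ⟨13099, 2, 5⟩) (.one ⟨8505, 2, 1⟩)) (.node 1 (.one ⟨12278, 2, 5⟩) (.one ⟨5642, 2, 5⟩))) (.node 2 (.node 1 (.one ⟨14871, 0, 4⟩) (.one ⟨7096, 2, 5⟩)) (.node 1 (.one ⟨9380, 2, 5⟩) (.one ⟨1845, 2, 4⟩)))) (.node 4 (.node 2 (.node 1 (.one ⟨4221, 2, 3⟩) (.one ⟨2610, 2, 5⟩)) (.node 1 (.one ⟨3826, 2, 5⟩) (.one ⟨1530, 0, 5⟩))) (.node 2 (.node 1 (.one ⟨17141, 0, 5⟩) (.one ⟨814, 2, 4⟩)) (.node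 1 (.one ⟨3923, 2, 4⟩) (.one ⟨4593, 2, 3⟩))))) (.node 8 (.node 4 (.node 2 (.node 1 (.one ⟨10669, 0, 5⟩) (.one ⟨14643, 2, 3⟩)) (.node 1 (.one ⟨8799, 2, 4⟩) (.one ⟨1624, 1, 2⟩))) (.node 2 (.node 1 (.one ⟨15707, 2, 5⟩) (.one ⟨2830, 0, 3⟩)) (.node 1 (.one ⟨10521, 0, 6⟩) (.one ⟨15443, 2, 4⟩)))) (.node 4 (.node 2 (.node 1 (.one ⟨6760, 1, 2⟩) (.one ⟨13068, 1, 2⟩)) (.node 1 (.one ⟨3867, 2, 3⟩) (.one ⟨4803, 0, 4⟩))) (.node 2 (.node 1 (.one ⟨6721, 2, 4⟩) (.one ⟨12488, 2, 3⟩)) (.node 1 (.one ⟨14125, 2, 5⟩) (.one ⟨6760, 2, 2⟩)))))))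
def par9_14_5 : Arr Par :=
  (.node 32 (.node 16 (.node 8 (.node 4 (.node 2 (.node 1 (.one ⟨1974, 2, 5⟩) (.one ⟨11938, 1, 3⟩)) (.node 1 (.one ⟨14931, 2, 4⟩) (.one ⟨6892, 2, 5⟩))) (.node 2 (.node 1 (.one ⟨14777, 1, 2⟩) (.one ⟨8893, 0, 2⟩)) (.node 1 (.one ⟨14801, 2, 4⟩) (.one ⟨8534, 0, 4⟩)))) (.node 4 (.node 2 (.node 1 (.one ⟨3782, 0, 6⟩) (.one ⟨9097, 0, 5⟩)) (.node 1 (.one ⟨4465, 0, 5⟩) (.one ⟨9900, 2, 3⟩))) (.node 2 (.node 1 (.one ⟨7428, 0, 5⟩) (.one ⟨154, 0, 5⟩)) (.node 1 (.one ⟨10914, 1, 3⟩) (.one ⟨14835, 2, 7⟩))))) (.node 8 (.node 4 (.node 2 (.node 1 (.one ⟨3931, 2, 5⟩) (.one ⟨6660, 0, 4⟩)) (.node 1 (.one ⟨2395, 0, 2⟩) (.one ⟨7419, 0, 6⟩))) (.node 2 (.node 1 (.one ⟨15712, 2, 7⟩) (.one ⟨13764, 2, 7⟩)) (.node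 1 (.one ⟨5054, 2, 7⟩) (.one ⟨1513, 2, 2⟩)))) (.node 4 (.node 2 (.node 1 (.one ⟨15584, 0, 6⟩) (.one ⟨15963, 2, 3⟩)) (.node 1 (.one ⟨8696, 0, 6⟩) (.one ⟨12393, 2, 5⟩))) (.node 2 (.node 1 (.one ⟨2492, 0, 2⟩) (.one ⟨14762, 0, 5⟩)) (.node 1 (.one ⟨174, 2, 4⟩) (.one ⟨15652, 1, 3⟩)))))) (.node 16 (.node 8 (.node 4 (.node 2 (.node 1 (.one ⟨8005, 2, 7⟩) (.one ⟨6547, 2, 3⟩)) (.node 1 (.one ⟨5695, 0, 3⟩) (.one ⟨7396, 2, 7⟩))) (.node 2 (.node 1 (.one ⟨14122, 0, 5⟩) (.one ⟨10623, 2, 5⟩)) (.node 1 (.one ⟨13106, 0, 5⟩) (.one ⟨13825, 0, 4⟩)))) (.node 4 (.node 2 (.node 1 (.one ⟨8092, 0, 4⟩) (.one ⟨16803, 0, 6⟩)) (.node 1 (.one ⟨6812, 0, 3⟩) (.one ⟨8503, 1, 1⟩))) (.node 2 (.node 1 (.one ⟨6291, 0, 3⟩) (.one ⟨15240, 0, 4⟩)) (.node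 1 (.one ⟨8583, 1, 6⟩) (.one ⟨10681, 2, 4⟩))))) (.node 8 (.node 4 (.node 2 (.node 1 (.one ⟨9055, 0, 3⟩) (.one ⟨7380, 1, 2⟩)) (.node 1 (.one ⟨4896, 2, 4⟩) (.one ⟨9206, 2, 4⟩))) (.node 2 (.node 1 (.one ⟨4911, 0, 4⟩) (.one ⟨8826, 2, 4⟩)) (.node 1 (.one ⟨5397, 2, 5⟩) (.one ⟨2111, 0, 4⟩)))) (.node 4 (.node 2 (.node 1 (.one ⟨2543, 0, 3⟩) (.one ⟨2356, 0, 3⟩)) (.node 1 (.one ⟨13653, 2, 5⟩) (.one ⟨11527, 0, 3⟩))) (.node 2 (.node 1 (.one ⟨11039, 0, 5⟩) (.one ⟨10819, 0, 5⟩)) (.node 1 (.one ⟨3342, 2, 5⟩) (.one ⟨14832, 0, 6⟩)))))))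
def par9_14_6 : Arr Par :=
  (.node 32 (.node 16 (.node 8 (.node 4 (.node 2 (.node 1 (.one ⟨7369, 2, 5⟩) (.one ⟨75, 2, 6⟩)) (.node 1 (.one ⟨4638, 0, 5⟩) (.one ⟨14520, 0, 5⟩))) (.node 2 (.node 1 (.one ⟨9754, 2, 3⟩) (.one ⟨15517, 2, 5⟩)) (.node 1 (.one ⟨4171, 2, 5⟩) (.one ⟨12994, 2, 3⟩)))) (.node 4 (.node 2 (.node 1 (.one ⟨12955, 2, 3⟩) (.one ⟨6995, 0, 3⟩)) (.node 1 (.one ⟨8919, 0, 4⟩) (.one ⟨16795, 0, 5⟩))) (.node 2 (.node 1 (.one ⟨16015, 2, 6⟩) (.one ⟨10277, 0, 4⟩)) (.node 1 (.one ⟨9542, 2, 5⟩) (.one ⟨4378, 0, 2⟩))))) (.node 8 (.node 4 (.node 2 (.node 1 (.one ⟨17050, 0, 2⟩) (.one ⟨15050, 0, 5⟩)) (.node 1 (.one ⟨483, 0, 3⟩) (.one ⟨16559, 2, 4⟩))) (.node 2 (.node 1 (.one ⟨16332, 2, 5⟩) (.one ⟨5591, 0, 5⟩)) (.node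 1 (.one ⟨13057, 2, 5⟩) (.one ⟨10362, 2, 4⟩)))) (.node 4 (.node 2 (.node 1 (.one ⟨8450, 0, 3⟩) (.one ⟨13805, 0, 4⟩)) (.node 1 (.one ⟨2305, 2, 4⟩) (.one ⟨10161, 0, 4⟩))) (.node 2 (.node 1 (.one ⟨10096, 0, 4⟩) (.one ⟨1107, 2, 3⟩)) (.node 1 (.one ⟨9522, 2, 4⟩) (.one ⟨8474, 2, 3⟩)))))) (.node 16 (.node 8 (.node 4 (.node 2 (.node 1 (.one ⟨3530, 0, 4⟩) (.one ⟨16382, 0, 5⟩)) (.node 1 (.one ⟨2511, 1, 2⟩) (.one ⟨10871, 2, 1⟩))) (.node 2 (.node 1 (.one ⟨16377, 0, 2⟩) (.one ⟨3533, 0, 3⟩)) (.node 1 (.one ⟨15881, 2, 5⟩) (.one ⟨5073, 1, 3⟩)))) (.node 4 (.node 2 (.node 1 (.one ⟨4838, 2, 5⟩) (.one ⟨3160, 2, 4⟩)) (.node 1 (.one ⟨2168, 1, 4⟩) (.one ⟨2197, 0, 3⟩))) (.node 2 (.node 1 (.one ⟨9413, 0, 5⟩) (.one ⟨3161, 2, 6⟩)) (.node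 1 (.one ⟨4837, 2, 4⟩) (.one ⟨5431, 1, 3⟩))))) (.node 8 (.node 4 (.node 2 (.node 1 (.one ⟨15421, 0, 5⟩) (.one ⟨7077, 0, 5⟩)) (.node 1 (.one ⟨10436, 0, 2⟩) (.one ⟨10612, 0, 5⟩))) (.node 2 (.node 1 (.one ⟨16999, 2, 6⟩) (.one ⟨17002, 2, 6⟩)) (.node 1 (.one ⟨1260, 0, 4⟩) (.one ⟨1588, 0, 5⟩)))) (.node 4 (.node 2 (.node 1 (.one ⟨15938, 2, 3⟩) (.one ⟨2216, 0, 1⟩)) (.node 1 (.one ⟨11721, 0, 3⟩) (.one ⟨94, 2, 5⟩))) (.node 2 (.node 1 (.one ⟨12936, 1, 5⟩) (.one ⟨2178, 2, 6⟩)) (.node 1 (.one ⟨13534, 2, 5⟩) (.one ⟨16736, 2, 4⟩)))))))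
def par9_14_7 : Arr Par :=
  (.node 32 (.node 16 (.node 8 (.node 4 (.node 2 (.node 1 (.one ⟨15398, 0, 6⟩) (.one ⟨13090, 0, 6⟩)) (.node 1 (.one ⟨11116, 2, 3⟩) (.one ⟨5271, 2, 4⟩))) (.node 2 (.node 1 (.one ⟨16567, 0, 6⟩) (.one ⟨11196, 0, 6⟩)) (.node 1 (.one ⟨7428, 2, 5⟩) (.one ⟨16733, 2, 5⟩)))) (.node 4 (.node 2 (.node 1 (.one ⟨16778, 0, 4⟩) (.one ⟨16544, 0, 4⟩)) (.node 1 (.one ⟨10059, 0, 4⟩) (.one ⟨8764, 2, 5⟩))) (.node 2 (.node 1 (.one ⟨6934, 2, 5⟩) (.one ⟨4248, 2, 5⟩)) (.node 1 (.one ⟨14549, 0, 4⟩) (.one ⟨8025, 2, 3⟩))))) (.node 8 (.node 4 (.node 2 (.node 1 (.one ⟨10780, 0, 2⟩) (.one ⟨16351, 2, 3⟩)) (.node 1 (.one ⟨3223, 0, 2⟩) (.one ⟨8944, 0, 6⟩))) (.node 2 (.node 1 (.one ⟨1908, 2, 4⟩) (.one ⟨11078, 1, 4⟩))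 (.node 1 (.one ⟨472, 1, 3⟩) (.one ⟨3976, 2, 6⟩)))) (.node 4 (.node 2 (.node 1 (.one ⟨1787, 2, 3⟩) (.one ⟨3833, 0, 4⟩)) (.node 1 (.one ⟨3975, 2, 3⟩) (.one ⟨1784, 2, 5⟩))) (.node 2 (.node 1 (.one ⟨927, 0, 2⟩) (.one ⟨3980, 2, 6⟩)) (.node 1 (.one ⟨1783, 2, 6⟩) (.one ⟨6938, 0, 3⟩)))))) (.node 16 (.node 8 (.node 4 (.node 2 (.node 1 (.one ⟨16441, 2, 5⟩) (.one ⟨574, 0, 4⟩)) (.node 1 (.one ⟨8761, 2, 3⟩) (.one ⟨162, 2, 5⟩))) (.node 2 (.node 1 (.one ⟨16908, 2, 5⟩) (.one ⟨15437, 0, 3⟩)) (.node 1 (.one ⟨8403, 2, 6⟩) (.one ⟨7366, 1, 2⟩)))) (.node 4 (.node 2 (.node 1 (.one ⟨3970, 0, 4⟩) (.one ⟨16247, 2, 4⟩)) (.node 1 (.one ⟨8827, 0, 4⟩) (.one ⟨10830, 0, 4⟩))) (.node 2 (.node 1 (.one ⟨2522, 2, 4⟩) (.one ⟨7005, 2, 3⟩)) (.node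 1 (.one ⟨4756, 0, 5⟩) (.one ⟨9238, 2, 4⟩))))) (.node 8 (.node 4 (.node 2 (.node 1 (.one ⟨4197, 2, 5⟩) (.one ⟨4303, 2, 5⟩)) (.node 1 (.one ⟨9696, 2, 4⟩) (.one ⟨12327, 2, 6⟩))) (.node 2 (.node 1 (.one ⟨1511, 2, 4⟩) (.one ⟨13670, 0, 5⟩)) (.node 1 (.one ⟨2611, 0, 3⟩) (.one ⟨9381, 2, 6⟩)))) (.node 4 (.node 2 (.node 1 (.one ⟨1562, 2, 4⟩) (.one ⟨5883, 2, 5⟩)) (.node 1 (.one ⟨12902, 0, 6⟩) (.one ⟨5913, 2, 6⟩))) (.node 2 (.node 1 (.one ⟨13965, 2, 5⟩) (.one ⟨9495, 2, 5⟩)) (.node 1 (.one ⟨1364, 2, 5⟩) (.one ⟨16365, 1, 2⟩)))))))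
def par9_14_8 : Arr Par :=
  (.node 32 (.node 16 (.node 8 (.node 4 (.node 2 (.node 1 (.one ⟨12730, 2, 5⟩) (.one ⟨3273, 2, 4⟩)) (.node 1 (.one ⟨2103, 1, 1⟩) (.one ⟨10900, 0, 2⟩))) (.node 2 (.node 1 (.one ⟨13714, 2, 3⟩) (.one ⟨1025, 0, 4⟩)) (.node 1 (.one ⟨8406, 2, 5⟩) (.one ⟨11963, 2, 4⟩)))) (.node 4 (.node 2 (.node 1 (.one ⟨8928, 2, 4⟩) (.one ⟨14881, 2, 6⟩)) (.node 1 (.one ⟨7648, 0, 5⟩) (.one ⟨7471, 2, 2⟩))) (.node 2 (.node 1 (.one ⟨10731, 2, 5⟩) (.one ⟨3861, 2, 6⟩)) (.node 1 (.one ⟨16585, 2, 5⟩) (.one ⟨480, 2, 2⟩))))) (.node 8 (.node 4 (.node 2 (.node 1 (.one ⟨11262, 2, 3⟩) (.one ⟨10487, 2, 2⟩)) (.node 1 (.one ⟨2833, 2, 2⟩) (.one ⟨1345, 0, 4⟩))) (.node 2 (.node 1 (.one ⟨7075, 0, 5⟩) (.one ⟨6991, 0, 4⟩)) (.node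 1 (.one ⟨1702, 0, 6⟩) (.one ⟨2143, 2, 3⟩)))) (.node 4 (.node 2 (.node 1 (.one ⟨4170, 2, 4⟩) (.one ⟨1729, 0, 4⟩)) (.node 1 (.one ⟨15434, 0, 4⟩) (.one ⟨12092, 1, 2⟩))) (.node 2 (.node 1 (.one ⟨12293, 2, 4⟩) (.one ⟨8645, 1, 5⟩)) (.node 1 (.one ⟨9155, 2, 6⟩) (.one ⟨4409, 2, 6⟩)))))) (.node 16 (.node 8 (.node 4 (.node 2 (.node 1 (.one ⟨992, 2, 3⟩) (.one ⟨15262, 2, 5⟩)) (.node 1 (.one ⟨16746, 2, 4⟩) (.one ⟨14886, 2, 3⟩))) (.node 2 (.node 1 (.one ⟨17122, 2, 3⟩) (.one ⟨3642, 2, 2⟩)) (.node 1 (.one ⟨12500, 0, 2⟩) (.one ⟨11859, 0, 4⟩)))) (.node 4 (.node 2 (.node 1 (.one ⟨1893, 0, 4⟩) (.one ⟨1070, 0, 4⟩)) (.node 1 (.one ⟨11613, 0, 6⟩) (.one ⟨13957, 2, 3⟩))) (.node 2 (.node 1 (.one ⟨3967, 2, 5⟩) (.one ⟨1412, 0, 6⟩)) (.node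 1 (.one ⟨14097, 2, 6⟩) (.one ⟨676, 2, 5⟩))))) (.node 8 (.node 4 (.node 2 (.node 1 (.one ⟨11166, 0, 6⟩) (.one ⟨9006, 2, 5⟩)) (.node 1 (.one ⟨16769, 0, 3⟩) (.one ⟨7471, 0, 2⟩))) (.node 2 (.node 1 (.one ⟨4327, 2, 3⟩) (.one ⟨5372, 0, 2⟩)) (.node 1 (.one ⟨14395, 1, 5⟩) (.one ⟨11866, 2, 6⟩)))) (.node 4 (.node 2 (.node 1 (.one ⟨5033, 1, 3⟩) (.one ⟨9311, 2, 2⟩)) (.node 1 (.one ⟨1502, 2, 2⟩) (.one ⟨1531, 2, 2⟩))) (.node 2 (.node 1 (.one ⟨9249, 2, 2⟩) (.one ⟨3870, 2, 2⟩)) (.node 1 (.one ⟨8484, 0, 6⟩) (.one ⟨12232, 2, 5⟩)))))))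
def par9_14_9 : Arr Par :=
  (.node 32 (.node 16 (.node 8 (.node 4 (.node 2 (.node 1 (.one ⟨10051, 0, 4⟩) (.one ⟨15595, 2, 5⟩)) (.node 1 (.one ⟨15629, 2, 5⟩) (.one ⟨9441, 0, 4⟩))) (.node 2 (.node 1 (.one ⟨8451, 2, 5⟩) (.one ⟨533, 2, 4⟩)) (.node 1 (.one ⟨1656, 2, 3⟩) (.one ⟨6441, 2, 3⟩)))) (.node 4 (.node 2 (.node 1 (.one ⟨11361, 0, 5⟩) (.one ⟨5630, 2, 7⟩)) (.node 1 (.one ⟨9595, 0, 3⟩) (.one ⟨3776, 1, 2⟩))) (.node 2 (.node 1 (.one ⟨7295, 0, 3⟩) (.one ⟨16391, 1, 1⟩)) (.node 1 (.one ⟨16230, 2, 4⟩) (.one ⟨9690, 1, 2⟩))))) (.node 8 (.node 4 (.node 2 (.node 1 (.one ⟨16694, 2, 5⟩) (.one ⟨6141, 2, 4⟩)) (.node 1 (.one ⟨11392, 2, 2⟩) (.one ⟨13439, 0, 3⟩))) (.node 2 (.node 1 (.one ⟨16052, 0, 3⟩) (.one ⟨8271, 2, 4⟩)) (.node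 1 (.one ⟨12770, 2, 5⟩) (.one ⟨305, 0, 3⟩)))) (.node 4 (.node 2 (.node 1 (.one ⟨9937, 0, 3⟩) (.one ⟨10801, 2, 5⟩)) (.node 1 (.one ⟨14079, 2, 5⟩) (.one ⟨1831, 2, 4⟩))) (.node 2 (.node 1 (.one ⟨1887, 0, 5⟩) (.one ⟨15343, 2, 5⟩)) (.node 1 (.one ⟨6866, 1, 3⟩) (.one ⟨3178, 2, 4⟩)))))) (.node 16 (.node 8 (.node 4 (.node 2 (.node 1 (.one ⟨10668, 0, 3⟩) (.one ⟨14033, 2, 4⟩)) (.node 1 (.one ⟨15046, 0, 5⟩) (.one ⟨14354, 2, 2⟩))) (.node 2 (.node 1 (.one ⟨14652, 2, 5⟩) (.one ⟨2951, 2, 4⟩)) (.node 1 (.one ⟨2550, 2, 5⟩) (.one ⟨9981, 0, 3⟩)))) (.node 4 (.node 2 (.node 1 (.one ⟨1646, 2, 3⟩) (.one ⟨4946, 0, 5⟩)) (.node 1 (.one ⟨7662, 0, 5⟩) (.one ⟨12146, 1, 1⟩))) (.node 2 (.node 1 (.one ⟨6881, 0, 6⟩) (.one ⟨4895, 2, 4⟩)) (.node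 1 (.one ⟨13012, 2, 3⟩) (.one ⟨12670, 0, 4⟩))))) (.node 8 (.node 4 (.node 2 (.node 1 (.one ⟨13367, 2, 2⟩) (.one ⟨1591, 0, 4⟩)) (.node 1 (.one ⟨6450, 2, 6⟩) (.one ⟨1697, 0, 2⟩))) (.node 2 (.node 1 (.one ⟨3006, 2, 6⟩) (.one ⟨4287, 2, 4⟩)) (.node 1 (.one ⟨16113, 2, 7⟩) (.one ⟨16705, 0, 5⟩)))) (.node 4 (.node 2 (.node 1 (.one ⟨3041, 2, 4⟩) (.one ⟨11082, 0, 3⟩)) (.node 1 (.one ⟨15708, 2, 4⟩) (.one ⟨8580, 0, 5⟩))) (.node 2 (.node 1 (.one ⟨14171, 2, 4⟩) (.one ⟨2924, 0, 3⟩)) (.node 1 (.one ⟨4559, 2, 2⟩) (.one ⟨5262, 2, 4⟩)))))))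
def par9_14_10 : Arr Par :=
  (.node 32 (.node 16 (.node 8 (.node 4 (.node 2 (.node 1 (.one ⟨3803, 0, 3⟩) (.one ⟨14591, 2, 4⟩)) (.node 1 (.one ⟨10620, 1, 3⟩) (.one ⟨12054, 1, 3⟩))) (.node 2 (.node 1 (.one ⟨6174, 2, 4⟩) (.one ⟨411, 1, 3⟩)) (.node 1 (.one ⟨12791, 2, 4⟩) (.one ⟨524, 0, 3⟩)))) (.node 4 (.node 2 (.node 1 (.one ⟨462, 2, 6⟩) (.one ⟨13127, 2, 6⟩)) (.node 1 (.one ⟨4780, 1, 3⟩) (.one ⟨4174, 0, 2⟩))) (.node 2 (.node 1 (.one ⟨12785, 1, 4⟩) (.one ⟨10203, 1, 6⟩)) (.node 1 (.one ⟨2193, 2, 5⟩) (.one ⟨3372, 2, 3⟩))))) (.node 8 (.node 4 (.node 2 (.node 1 (.one ⟨8197, 2, 5⟩) (.one ⟨15211, 0, 3⟩)) (.node 1 (.one ⟨11056, 2, 7⟩) (.one ⟨4917, 0, 5⟩))) (.node 2 (.node 1 (.one ⟨822, 0, 3⟩) (.one ⟨12999, 0, 3⟩)) (.node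 1 (.one ⟨9352, 0, 3⟩) (.one ⟨894, 2, 5⟩)))) (.node 4 (.node 2 (.node 1 (.one ⟨9728, 0, 4⟩) (.one ⟨10235, 2, 2⟩)) (.node 1 (.one ⟨10546, 2, 6⟩) (.one ⟨1570, 2, 3⟩))) (.node 2 (.node 1 (.one ⟨2403, 2, 2⟩) (.one ⟨10208, 2, 2⟩)) (.node 1 (.one ⟨10669, 2, 5⟩) (.one ⟨5460, 2, 2⟩)))))) (.node 16 (.node 8 (.node 4 (.node 2 (.node 1 (.one ⟨5574, 1, 6⟩) (.one ⟨9020, 0, 2⟩)) (.node 1 (.one ⟨7870, 2, 3⟩) (.one ⟨14014, 2, 2⟩))) (.node 2 (.node 1 (.one ⟨13226, 2, 2⟩) (.one ⟨14028, 0, 3⟩)) (.node 1 (.one ⟨11477, 2, 5⟩) (.one ⟨5031, 1, 3⟩)))) (.node 4 (.node 2 (.node 1 (.one ⟨2977, 0, 4⟩) (.one ⟨12140, 2, 5⟩)) (.node 1 (.one ⟨9371, 2, 1⟩) (.one ⟨4135, 2, 6⟩))) (.node 2 (.node 1 (.one ⟨80, 2, 2⟩) (.one ⟨12956, 1, 3⟩)) (.node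 1 (.one ⟨13790, 0, 5⟩) (.one ⟨6020, 2, 4⟩))))) (.node 8 (.node 4 (.node 2 (.node 1 (.one ⟨8209, 2, 4⟩) (.one ⟨4461, 2, 4⟩)) (.node 1 (.one ⟨1442, 2, 1⟩) (.one ⟨14382, 2, 3⟩))) (.node 2 (.node 1 (.one ⟨16097, 2, 4⟩) (.one ⟨12501, 0, 4⟩)) (.node 1 (.one ⟨10617, 2, 2⟩) (.one ⟨1644, 2, 5⟩)))) (.node 4 (.node 2 (.node 1 (.one ⟨13176, 0, 3⟩) (.one ⟨10513, 0, 5⟩)) (.node 1 (.one ⟨8505, 1, 1⟩) (.one ⟨7404, 2, 3⟩))) (.node 2 (.node 1 (.one ⟨7173, 0, 3⟩) (.one ⟨8196, 0, 5⟩)) (.node 1 (.one ⟨1940, 1, 4⟩) (.one ⟨14289, 0, 6⟩)))))))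
def par9_14_11 : Arr Par :=
  (.node 32 (.node 16 (.node 8 (.node 4 (.node 2 (.node 1 (.one ⟨15072, 2, 5⟩) (.one ⟨2584, 0, 4⟩)) (.node 1 (.one ⟨10709, 2, 2⟩) (.one ⟨8204, 2, 5⟩))) (.node 2 (.node 1 (.one ⟨14074, 0, 4⟩) (.one ⟨4861, 2, 5⟩)) (.node 1 (.one ⟨363, 0, 4⟩) (.one ⟨7321, 2, 4⟩)))) (.node 4 (.node 2 (.node 1 (.one ⟨2770, 0, 4⟩) (.one ⟨11508, 2, 4⟩)) (.node 1 (.one ⟨10613, 0, 4⟩) (.one ⟨5143, 0, 3⟩))) (.node 2 (.node 1 (.one ⟨12118, 0, 6⟩) (.one ⟨11910, 0, 4⟩)) (.node 1 (.one ⟨4827, 2, 3⟩) (.one ⟨9824, 0, 3⟩))))) (.node 8 (.node 4 (.node 2 (.node 1 (.one ⟨11192, 0, 6⟩) (.one ⟨3612, 0, 6⟩)) (.node 1 (.one ⟨5122, 0, 4⟩) (.one ⟨7429, 2, 4⟩))) (.node 2 (.node 1 (.one ⟨7788, 0, 6⟩) (.one ⟨15394, 0, 6⟩)) (.node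 1 (.one ⟨4519, 2, 3⟩) (.one ⟨2698, 0, 3⟩)))) (.node 4 (.node 2 (.node 1 (.one ⟨13234, 2, 2⟩) (.one ⟨5447, 2, 4⟩)) (.node 1 (.one ⟨3930, 2, 5⟩) (.one ⟨12079, 2, 4⟩))) (.node 2 (.node 1 (.one ⟨13458, 2, 5⟩) (.one ⟨2700, 0, 2⟩)) (.node 1 (.one ⟨4426, 2, 4⟩) (.one ⟨991, 2, 4⟩)))))) (.node 16 (.node 8 (.node 4 (.node 2 (.node 1 (.one ⟨2782, 0, 4⟩) (.one ⟨6701, 2, 3⟩)) (.node 1 (.one ⟨1264, 0, 6⟩) (.one ⟨9698, 2, 4⟩))) (.node 2 (.node 1 (.one ⟨13372, 0, 3⟩) (.one ⟨13220, 0, 4⟩)) (.node 1 (.one ⟨10163, 2, 5⟩) (.one ⟨11735, 0, 4⟩)))) (.node 4 (.node 2 (.node 1 (.one ⟨1041, 2, 4⟩) (.one ⟨7130, 0, 5⟩)) (.node 1 (.one ⟨4452, 0, 4⟩) (.one ⟨1382, 2, 1⟩))) (.node 2 (.node 1 (.one ⟨3850, 0, 4⟩) (.one ⟨10102, 2, 3⟩)) (.node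 1 (.one ⟨9294, 1, 1⟩) (.one ⟨12635, 2, 4⟩))))) (.node 8 (.node 4 (.node 2 (.node 1 (.one ⟨3473, 2, 6⟩) (.one ⟨12581, 2, 4⟩)) (.node 1 (.one ⟨15203, 0, 1⟩) (.one ⟨7233, 0, 5⟩))) (.node 2 (.node 1 (.one ⟨14847, 2, 3⟩) (.one ⟨11044, 0, 5⟩)) (.node 1 (.one ⟨4287, 0, 4⟩) (.one ⟨5491, 1, 2⟩)))) (.node 4 (.node 2 (.node 1 (.one ⟨5261, 0, 4⟩) (.one ⟨7430, 0, 6⟩)) (.node 1 (.one ⟨7175, 2, 5⟩) (.one ⟨3161, 0, 6⟩))) (.node 2 (.node 1 (.one ⟨5382, 2, 3⟩) (.one ⟨7655, 0, 3⟩)) (.node 1 (.one ⟨14686, 2, 5⟩) (.one ⟨1007, 2, 4⟩)))))))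
def par9_14_12 : Arr Par :=
  (.node 32 (.node 16 (.node 8 (.node 4 (.node 2 (.node 1 (.one ⟨5011, 2, 6⟩) (.one ⟨9937, 2, 3⟩)) (.node 1 (.one ⟨12729, 2, 4⟩) (.one ⟨6576, 2, 5⟩))) (.node 2 (.node 1 (.one ⟨7921, 2, 4⟩) (.one ⟨14971, 2, 6⟩)) (.node 1 (.one ⟨15732, 2, 2⟩) (.one ⟨12382, 2, 4⟩)))) (.node 4 (.node 2 (.node 1 (.one ⟨734, 2, 3⟩) (.one ⟨5277, 0, 5⟩)) (.node 1 (.one ⟨5245, 2, 1⟩) (.one ⟨11648, 2, 4⟩))) (.node 2 (.node 1 (.one ⟨2609, 2, 3⟩) (.one ⟨11234, 2, 4⟩)) (.node 1 (.one ⟨7284, 0, 3⟩) (.one ⟨2603, 2, 4⟩))))) (.node 8 (.node 4 (.node 2 (.node 1 (.one ⟨979, 2, 4⟩) (.one ⟨14027, 2, 5⟩)) (.node 1 (.one ⟨14358, 2, 5⟩) (.one ⟨16769, 2, 3⟩))) (.node 2 (.node 1 (.one ⟨4773, 1, 4⟩) (.one ⟨5521, 2, 5⟩)) (.node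 1 (.one ⟨4807, 2, 5⟩) (.one ⟨698, 2, 4⟩)))) (.node 4 (.node 2 (.node 1 (.one ⟨606, 2, 3⟩) (.one ⟨444, 2, 4⟩)) (.node 1 (.one ⟨5465, 1, 0⟩) (.one ⟨786, 2, 4⟩))) (.node 2 (.node 1 (.one ⟨747, 2, 5⟩) (.one ⟨564, 2, 3⟩)) (.node 1 (.one ⟨3140, 0, 5⟩) (.one ⟨7874, 2, 3⟩)))))) (.node 16 (.node 8 (.node 4 (.node 2 (.node 1 (.one ⟨14648, 2, 3⟩) (.one ⟨10753, 0, 4⟩)) (.node 1 (.one ⟨5009, 2, 2⟩) (.one ⟨7849, 2, 3⟩))) (.node 2 (.node 1 (.one ⟨15135, 2, 4⟩) (.one ⟨10193, 2, 4⟩)) (.node 1 (.one ⟨4808, 2, 3⟩) (.one ⟨5929, 0, 3⟩)))) (.node 4 (.node 2 (.node 1 (.one ⟨3167, 1, 3⟩) (.one ⟨4331, 2, 5⟩)) (.node 1 (.one ⟨3180, 2, 5⟩) (.one ⟨12993, 2, 6⟩))) (.node 2 (.node 1 (.one ⟨272, 0, 4⟩) (.one ⟨12289, 2, 3⟩)) (.node 1 (.one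 ⟨5197, 0, 5⟩) (.one ⟨4279, 2, 4⟩))))) (.node 8 (.node 4 (.node 2 (.node 1 (.one ⟨3553, 2, 2⟩) (.one ⟨13666, 1, 4⟩)) (.node 1 (.one ⟨11853, 0, 4⟩) (.one ⟨13545, 0, 5⟩))) (.node 2 (.node 1 (.one ⟨2729, 2, 2⟩) (.one ⟨11182, 2, 5⟩)) (.node 1 (.one ⟨11260, 2, 2⟩) (.one ⟨16168, 2, 7⟩)))) (.node 4 (.node 2 (.node 1 (.one ⟨14325, 0, 3⟩) (.one ⟨17189, 0, 5⟩)) (.node 1 (.one ⟨11864, 2, 5⟩) (.one ⟨5031, 2, 3⟩))) (.node 2 (.node 1 (.one ⟨4991, 0, 5⟩) (.one ⟨4603, 2, 5⟩)) (.node 1 (.one ⟨8537, 2, 7⟩) (.one ⟨16896, 2, 6⟩)))))))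
def par9_14_13 : Arr Par :=
  (.node 32 (.node 16 (.node 8 (.node 4 (.node 2 (.node 1 (.one ⟨16767, 2, 4⟩) (.one ⟨1144, 2, 3⟩)) (.node 1 (.one ⟨12496, 0, 2⟩) (.one ⟨16777, 2, 4⟩))) (.node 2 (.node 1 (.one ⟨16879, 2, 4⟩) (.one ⟨2727, 2, 1⟩)) (.node 1 (.one ⟨7, 1, 1⟩) (.one ⟨6000, 1, 4⟩)))) (.node 4 (.node 2 (.node 1 (.one ⟨15617, 1, 6⟩) (.one ⟨2309, 0, 5⟩)) (.node 1 (.one ⟨12782, 0, 3⟩) (.one ⟨9461, 2, 5⟩))) (.node 2 (.node 1 (.one ⟨16559, 0, 4⟩) (.one ⟨788, 0, 5⟩)) (.node 1 (.one ⟨13131, 0, 3⟩) (.one ⟨4311, 2, 2⟩))))) (.node 8 (.node 4 (.node 2 (.node 1 (.one ⟨7893, 0, 2⟩) (.one ⟨174, 0, 4⟩)) (.node 1 (.one ⟨13716, 2, 5⟩) (.one ⟨7265, 2, 3⟩))) (.node 2 (.node 1 (.one ⟨8521, 2, 4⟩) (.one ⟨11237, 2, 4⟩)) (.node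 1 (.one ⟨14290, 0, 6⟩) (.one ⟨2093, 0, 6⟩)))) (.node 4 (.node 2 (.node 1 (.one ⟨11339, 0, 6⟩) (.one ⟨12017, 0, 5⟩)) (.node 1 (.one ⟨5026, 0, 6⟩) (.one ⟨3223, 2, 2⟩))) (.node 2 (.node 1 (.one ⟨4011, 2, 5⟩) (.one ⟨16155, 0, 6⟩)) (.node 1 (.one ⟨12593, 2, 6⟩) (.one ⟨4942, 1, 0⟩)))))) (.node 16 (.node 8 (.node 4 (.node 2 (.node 1 (.one ⟨9870, 2, 5⟩) (.one ⟨1103, 0, 2⟩)) (.node 1 (.one ⟨7035, 2, 2⟩) (.one ⟨5350, 1, 0⟩))) (.node 2 (.node 1 (.one ⟨12691, 1, 3⟩) (.one ⟨9591, 0, 5⟩)) (.node 1 (.one ⟨1405, 0, 3⟩) (.one ⟨5384, 0, 2⟩)))) (.node 4 (.node 2 (.node 1 (.one ⟨13225, 1, 2⟩) (.one ⟨2465, 0, 4⟩)) (.node 1 (.one ⟨16040, 0, 3⟩) (.one ⟨14611, 0, 2⟩))) (.node 2 (.node 1 (.one ⟨3542, 0, 2⟩) (.one ⟨2311, 2, 5⟩)) (.node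 1 (.one ⟨2979, 0, 6⟩) (.one ⟨687, 2, 5⟩))))) (.node 8 (.node 4 (.node 2 (.node 1 (.one ⟨9295, 0, 5⟩) (.one ⟨10761, 1, 1⟩)) (.node 1 (.one ⟨946, 2, 4⟩) (.one ⟨3875, 0, 5⟩))) (.node 2 (.node 1 (.one ⟨14783, 0, 5⟩) (.one ⟨718, 2, 5⟩)) (.node 1 (.one ⟨818, 2, 4⟩) (.one ⟨11926, 2, 6⟩)))) (.node 4 (.node 2 (.node 1 (.one ⟨402, 2, 5⟩) (.one ⟨4192, 2, 6⟩)) (.node 1 (.one ⟨13065, 0, 3⟩) (.one ⟨4260, 2, 7⟩))) (.node 2 (.node 1 (.one ⟨10435, 2, 6⟩) (.one ⟨4633, 0, 4⟩)) (.node 1 (.one ⟨1309, 2, 4⟩) (.one ⟨16574, 0, 6⟩)))))))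
def par9_14_14 : Arr Par :=
  (.node 32 (.node 16 (.node 8 (.node 4 (.node 2 (.node 1 (.one ⟨7153, 2, 3⟩) (.one ⟨14588, 2, 5⟩)) (.node 1 (.one ⟨15027, 0, 4⟩) (.one ⟨11024, 2, 5⟩))) (.node 2 (.node 1 (.one ⟨15391, 0, 5⟩) (.one ⟨2876, 2, 4⟩)) (.node 1 (.one ⟨914, 2, 3⟩) (.one ⟨16275, 2, 6⟩)))) (.node 4 (.node 2 (.node 1 (.one ⟨9342, 2, 3⟩) (.one ⟨9604, 2, 3⟩)) (.node 1 (.one ⟨16246, 2, 5⟩) (.one ⟨16258, 2, 5⟩))) (.node 2 (.node 1 (.one ⟨9447, 2, 3⟩) (.one ⟨12911, 1, 5⟩)) (.node 1 (.one ⟨6553, 0, 2⟩) (.one ⟨2808, 1, 1⟩))))) (.node 8 (.node 4 (.node 2 (.node 1 (.one ⟨16578, 2, 6⟩) (.one ⟨12330, 2, 5⟩)) (.node 1 (.one ⟨873, 1, 5⟩) (.one ⟨9570, 0, 4⟩))) (.node 2 (.node 1 (.one ⟨8523, 2, 5⟩) (.one ⟨4261, 2, 5⟩)) (.node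 1 (.one ⟨783, 2, 4⟩) (.one ⟨14855, 2, 5⟩)))) (.node 4 (.node 2 (.node 1 (.one ⟨11718, 0, 4⟩) (.one ⟨14856, 2, 5⟩)) (.node 1 (.one ⟨14862, 2, 6⟩) (.one ⟨11838, 0, 6⟩))) (.node 2 (.node 1 (.one ⟨6888, 1, 6⟩) (.one ⟨14859, 2, 3⟩)) (.node 1 (.one ⟨9825, 0, 4⟩) (.one ⟨10776, 0, 4⟩)))))) (.node 16 (.node 8 (.node 4 (.node 2 (.node 1 (.one ⟨2957, 0, 4⟩) (.one ⟨16786, 0, 4⟩)) (.node 1 (.one ⟨5617, 1, 5⟩) (.one ⟨14904, 1, 4⟩))) (.node 2 (.node 1 (.one ⟨15090, 1, 2⟩) (.one ⟨7624, 2, 4⟩)) (.node 1 (.one ⟨11606, 2, 5⟩) (.one ⟨15203, 1, 1⟩)))) (.node 4 (.node 2 (.node 1 (.one ⟨9142, 0, 2⟩) (.one ⟨15170, 2, 3⟩)) (.node 1 (.one ⟨11333, 2, 4⟩) (.one ⟨9566, 0, 1⟩))) (.node 2 (.node 1 (.one ⟨1949, 2, 4⟩) (.one ⟨5402, 0, 6⟩))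 (.node 1 (.one ⟨9430, 0, 2⟩) (.one ⟨744, 2, 6⟩))))) (.node 8 (.node 4 (.node 2 (.node 1 (.one ⟨3394, 2, 3⟩) (.one ⟨9030, 2, 5⟩)) (.node 1 (.one ⟨7729, 2, 4⟩) (.one ⟨1465, 0, 6⟩))) (.node 2 (.node 1 (.one ⟨12754, 0, 6⟩) (.one ⟨5246, 2, 5⟩)) (.node 1 (.one ⟨14706, 0, 5⟩) (.one ⟨15150, 2, 6⟩)))) (.node 4 (.node 2 (.node 1 (.one ⟨447, 2, 4⟩) (.one ⟨6556, 2, 5⟩)) (.node 1 (.one ⟨11360, 2, 4⟩) (.one ⟨5829, 2, 4⟩))) (.node 2 (.node 1 (.one ⟨10984, 2, 6⟩) (.one ⟨15314, 2, 4⟩)) (.node 1 (.one ⟨7184, 1, 6⟩) (.one ⟨7285, 1, 4⟩)))))))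
def par9_14_15 : Arr Par :=
  (.node 32 (.node 16 (.node 8 (.node 4 (.node 2 (.node 1 (.one ⟨1449, 2, 2⟩) (.one ⟨7092, 2, 2⟩)) (.node 1 (.one ⟨6176, 2, 3⟩) (.one ⟨4609, 0, 4⟩))) (.node 2 (.node 1 (.one ⟨3492, 2, 5⟩) (.one ⟨6127, 2, 1⟩)) (.node 1 (.one ⟨2720, 0, 6⟩) (.one ⟨3948, 1, 2⟩)))) (.node 4 (.node 2 (.node 1 (.one ⟨16165, 0, 4⟩) (.one ⟨4181, 0, 3⟩)) (.node 1 (.one ⟨10487, 0, 2⟩) (.one ⟨14837, 2, 6⟩))) (.node 2 (.node 1 (.one ⟨14469, 0, 2⟩) (.one ⟨1485, 0, 4⟩)) (.node 1 (.one ⟨11832, 0, 4⟩) (.one ⟨14847, 0, 3⟩))))) (.node 8 (.node 4 (.node 2 (.node 1 (.one ⟨15042, 0, 3⟩) (.one ⟨15732, 0, 2⟩)) (.node 1 (.one ⟨16022, 0, 3⟩) (.one ⟨2609, 0, 3⟩))) (.node 2 (.node 1 (.one ⟨17043, 1, 2⟩) (.one ⟨5382, 0, 3⟩))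 (.node 1 (.one ⟨5120, 0, 6⟩) (.one ⟨12829, 0, 4⟩)))) (.node 4 (.node 2 (.node 1 (.one ⟨3505, 2, 5⟩) (.one ⟨5870, 2, 2⟩)) (.node 1 (.one ⟨13835, 2, 2⟩) (.one ⟨7680, 2, 2⟩))) (.node 2 (.node 1 (.one ⟨15704, 2, 6⟩) (.one ⟨9748, 2, 6⟩)) (.node 1 (.one ⟨1063, 2, 4⟩) (.one ⟨5313, 2, 5⟩)))))) (.node 16 (.node 8 (.node 4 (.node 2 (.node 1 (.one ⟨2611, 2, 3⟩) (.one ⟨158, 2, 6⟩)) (.node 1 (.one ⟨4862, 2, 5⟩) (.one ⟨14724, 0, 4⟩))) (.node 2 (.node 1 (.one ⟨762, 0, 3⟩) (.one ⟨13012, 0, 3⟩)) (.node 1 (.one ⟨7012, 2, 5⟩) (.one ⟨5592, 2, 6⟩)))) (.node 4 (.node 2 (.node 1 (.one ⟨6257, 2, 1⟩) (.one ⟨2557, 1, 4⟩)) (.node 1 (.one ⟨4016, 2, 3⟩) (.one ⟨12517, 2, 3⟩))) (.node 2 (.node 1 (.one ⟨7592, 0, 5⟩) (.one ⟨3594, 0, 5⟩)) (.node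 1 (.one ⟨11300, 1, 3⟩) (.one ⟨7103, 0, 4⟩))))) (.node 8 (.node 4 (.node 2 (.node 1 (.one ⟨6387, 2, 3⟩) (.one ⟨6744, 2, 5⟩)) (.node 1 (.one ⟨10566, 2, 3⟩) (.one ⟨13699, 2, 2⟩))) (.node 2 (.node 1 (.one ⟨15680, 0, 4⟩) (.one ⟨2142, 2, 3⟩)) (.node 1 (.one ⟨15168, 2, 5⟩) (.one ⟨10972, 2, 5⟩)))) (.node 4 (.node 2 (.node 1 (.one ⟨5110, 0, 6⟩) (.one ⟨7450, 0, 5⟩)) (.node 1 (.one ⟨339, 0, 5⟩) (.one ⟨10967, 1, 3⟩))) (.node 2 (.node 1 (.one ⟨3020, 0, 5⟩) (.one ⟨8576, 0, 5⟩)) (.node 1 (.one ⟨11301, 2, 4⟩) (.one ⟨12616, 2, 5⟩)))))))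
def par9_14 : Arr Par :=
  (.node 512 (.node 256 (.node 128 (.node 64 par9_14_0 par9_14_1) (.node 64 par9_14_2 par9_14_3)) (.node 128 (.node 64 par9_14_4 par9_14_5) (.node 64 par9_14_6 par9_14_7))) (.node 256 (.node 128 (.node 64 par9_14_8 par9_14_9) (.node 64 par9_14_10 par9_14_11)) (.node 128 (.node 64 par9_14_12 par9_14_13) (.node 64 par9_14_14 par9_14_15))))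
def par9_15_0 : Arr Par :=
  (.node 32 (.node 16 (.node 8 (.node 4 (.node 2 (.node 1 (.one ⟨9141, 2, 1⟩) (.one ⟨12238, 0, 4⟩)) (.node 1 (.one ⟨7782, 2, 6⟩) (.one ⟨1829, 0, 4⟩))) (.node 2 (.node 1 (.one ⟨7453, 0, 5⟩) (.one ⟨8438, 1, 5⟩)) (.node 1 (.one ⟨5903, 1, 1⟩) (.one ⟨11607, 1, 2⟩)))) (.node 4 (.node 2 (.node 1 (.one ⟨1070, 1, 4⟩) (.one ⟨6152, 1, 1⟩)) (.node 1 (.one ⟨7195, 2, 3⟩) (.one ⟨10423, 0, 5⟩))) (.node 2 (.node 1 (.one ⟨16974, 1, 1⟩) (.one ⟨10860, 2, 4⟩)) (.node 1 (.one ⟨10426, 0, 2⟩) (.one ⟨3233, 0, 3⟩))))) (.node 8 (.node 4 (.node 2 (.node 1 (.one ⟨3231, 0, 6⟩) (.one ⟨15069, 0, 3⟩)) (.node 1 (.one ⟨1887, 2, 5⟩) (.one ⟨12845, 1, 4⟩))) (.node 2 (.node 1 (.one ⟨3235, 0, 4⟩) (.one ⟨6895, 2, 5⟩)) (.node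 1 (.one ⟨1711, 2, 1⟩) (.one ⟨10397, 2, 4⟩)))) (.node 4 (.node 2 (.node 1 (.one ⟨6258, 2, 2⟩) (.one ⟨7257, 2, 2⟩)) (.node 1 (.one ⟨11212, 2, 2⟩) (.one ⟨10650, 1, 4⟩))) (.node 2 (.node 1 (.one ⟨7928, 2, 4⟩) (.one ⟨8529, 2, 4⟩)) (.node 1 (.one ⟨13068, 2, 2⟩) (.one ⟨11651, 0, 4⟩)))))) (.node 16 (.node 8 (.node 4 (.node 2 (.node 1 (.one ⟨3057, 2, 4⟩) (.one ⟨14400, 2, 5⟩)) (.node 1 (.one ⟨6745, 2, 5⟩) (.one ⟨8508, 2, 5⟩))) (.node 2 (.node 1 (.one ⟨16308, 2, 4⟩) (.one ⟨12948, 1, 2⟩)) (.node 1 (.one ⟨12014, 2, 5⟩) (.one ⟨4733, 0, 5⟩)))) (.node 4 (.node 2 (.node 1 (.one ⟨7636, 1, 4⟩) (.one ⟨12644, 0, 5⟩)) (.node 1 (.one ⟨10206, 1, 5⟩) (.one ⟨13885, 2, 6⟩))) (.node 2 (.node 1 (.one ⟨16026, 1, 4⟩) (.one ⟨16791, 0, 5⟩))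 (.node 1 (.one ⟨1722, 1, 4⟩) (.one ⟨14126, 2, 3⟩))))) (.node 8 (.node 4 (.node 2 (.node 1 (.one ⟨10073, 0, 6⟩) (.one ⟨9499, 2, 5⟩)) (.node 1 (.one ⟨1360, 2, 3⟩) (.one ⟨5994, 2, 5⟩))) (.node 2 (.node 1 (.one ⟨14012, 2, 5⟩) (.one ⟨1200, 2, 5⟩)) (.node 1 (.one ⟨9192, 2, 3⟩) (.one ⟨7484, 0, 4⟩)))) (.node 4 (.node 2 (.node 1 (.one ⟨3807, 2, 4⟩) (.one ⟨6340, 2, 3⟩)) (.node 1 (.one ⟨2628, 2, 4⟩) (.one ⟨9622, 0, 4⟩))) (.node 2 (.node 1 (.one ⟨16572, 2, 5⟩) (.one ⟨4837, 1, 4⟩)) (.node 1 (.one ⟨10691, 0, 3⟩) (.one ⟨2703, 0, 4⟩)))))))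
def par9_15_1 : Arr Par :=
  (.node 32 (.node 16 (.node 8 (.node 4 (.node 2 (.node 1 (.one ⟨4578, 0, 3⟩) (.one ⟨9809, 0, 5⟩)) (.node 1 (.one ⟨15929, 2, 3⟩) (.one ⟨2521, 0, 3⟩))) (.node 2 (.node 1 (.one ⟨4818, 0, 5⟩) (.one ⟨7809, 2, 3⟩)) (.node 1 (.one ⟨1628, 2, 5⟩) (.one ⟨15927, 2, 4⟩)))) (.node 4 (.node 2 (.node 1 (.one ⟨7421, 0, 5⟩) (.one ⟨16714, 2, 5⟩)) (.node 1 (.one ⟨12706, 2, 3⟩) (.one ⟨10578, 2, 5⟩))) (.node 2 (.node 1 (.one ⟨11146, 1, 4⟩) (.one ⟨11148, 1, 2⟩)) (.node 1 (.one ⟨15346, 0, 4⟩) (.one ⟨3036, 0, 4⟩))))) (.node 8 (.node 4 (.node 2 (.node 1 (.one ⟨4408, 2, 6⟩) (.one ⟨4692, 2, 5⟩)) (.node 1 (.one ⟨13601, 1, 2⟩) (.one ⟨1099, 0, 3⟩))) (.node 2 (.node 1 (.one ⟨11250, 1, 3⟩) (.one ⟨14467, 2, 6⟩))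 (.node 1 (.one ⟨16972, 2, 5⟩) (.one ⟨854, 2, 4⟩)))) (.node 4 (.node 2 (.node 1 (.one ⟨12835, 2, 5⟩) (.one ⟨8558, 0, 3⟩)) (.node 1 (.one ⟨1574, 2, 4⟩) (.one ⟨1588, 2, 5⟩))) (.node 2 (.node 1 (.one ⟨12676, 2, 3⟩) (.one ⟨12638, 2, 5⟩)) (.node 1 (.one ⟨6518, 0, 4⟩) (.one ⟨12507, 2, 5⟩)))))) (.node 16 (.node 8 (.node 4 (.node 2 (.node 1 (.one ⟨7009, 0, 5⟩) (.one ⟨10257, 0, 6⟩)) (.node 1 (.one ⟨4203, 2, 5⟩) (.one ⟨9824, 2, 3⟩))) (.node 2 (.node 1 (.one ⟨4065, 2, 6⟩) (.one ⟨12061, 2, 2⟩)) (.node 1 (.one ⟨6393, 0, 6⟩) (.one ⟨14249, 0, 4⟩)))) (.node 4 (.node 2 (.node 1 (.one ⟨8672, 0, 6⟩) (.one ⟨15599, 0, 6⟩)) (.node 1 (.one ⟨14827, 2, 5⟩) (.one ⟨12776, 0, 3⟩))) (.node 2 (.node 1 (.one ⟨7299, 1, 4⟩) (.one ⟨14601, 2,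 3⟩)) (.node 1 (.one ⟨1932, 2, 3⟩) (.one ⟨1196, 0, 5⟩))))) (.node 8 (.node 4 (.node 2 (.node 1 (.one ⟨2813, 0, 4⟩) (.one ⟨4650, 2, 4⟩)) (.node 1 (.one ⟨4652, 2, 3⟩) (.one ⟨4653, 2, 3⟩))) (.node 2 (.node 1 (.one ⟨4647, 2, 4⟩) (.one ⟨10378, 0, 4⟩)) (.node 1 (.one ⟨11338, 0, 2⟩) (.one ⟨15759, 0, 5⟩)))) (.node 4 (.node 2 (.node 1 (.one ⟨7349, 2, 3⟩) (.one ⟨15317, 0, 4⟩)) (.node 1 (.one ⟨16671, 0, 5⟩) (.one ⟨980, 0, 5⟩))) (.node 2 (.node 1 (.one ⟨1655, 2, 4⟩) (.one ⟨5586, 1, 4⟩)) (.node 1 (.one ⟨2949, 0, 3⟩) (.one ⟨13163, 0, 3⟩)))))))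
def par9_15_2 : Arr Par :=
  (.node 32 (.node 16 (.node 8 (.node 4 (.node 2 (.node 1 (.one ⟨11033, 0, 3⟩) (.one ⟨6474, 0, 5⟩)) (.node 1 (.one ⟨4481, 2, 4⟩) (.one ⟨3532, 2, 4⟩))) (.node 2 (.node 1 (.one ⟨12476, 0, 4⟩) (.one ⟨6240, 2, 3⟩)) (.node 1 (.one ⟨7388, 0, 5⟩) (.one ⟨9710, 2, 3⟩)))) (.node 4 (.node 2 (.node 1 (.one ⟨4887, 1, 0⟩) (.one ⟨14591, 0, 4⟩)) (.node 1 (.one ⟨15684, 2, 3⟩) (.one ⟨5894, 0, 4⟩))) (.node 2 (.node 1 (.one ⟨8760, 0, 4⟩) (.one ⟨13747, 2, 3⟩)) (.node 1 (.one ⟨5891, 2, 4⟩) (.one ⟨1549, 2, 4⟩))))) (.node 8 (.node 4 (.node 2 (.node 1 (.one ⟨4106, 2, 4⟩) (.one ⟨14876, 0, 5⟩)) (.node 1 (.one ⟨2477, 0, 5⟩) (.one ⟨7002, 2, 3⟩))) (.node 2 (.node 1 (.one ⟨2833, 1, 2⟩) (.one ⟨6462, 2, 4⟩)) (.node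 1 (.one ⟨16502, 1, 2⟩) (.one ⟨6627, 2, 4⟩)))) (.node 4 (.node 2 (.node 1 (.one ⟨7970, 0, 4⟩) (.one ⟨2528, 2, 3⟩)) (.node 1 (.one ⟨10195, 0, 5⟩) (.one ⟨488, 0, 3⟩))) (.node 2 (.node 1 (.one ⟨409, 2, 5⟩) (.one ⟨4560, 2, 4⟩)) (.node 1 (.one ⟨15875, 0, 4⟩) (.one ⟨1458, 2, 4⟩)))))) (.node 16 (.node 8 (.node 4 (.node 2 (.node 1 (.one ⟨1233, 2, 4⟩) (.one ⟨15818, 0, 6⟩)) (.node 1 (.one ⟨10914, 2, 3⟩) (.one ⟨15821, 0, 4⟩))) (.node 2 (.node 1 (.one ⟨1481, 2, 5⟩) (.one ⟨10923, 2, 5⟩)) (.node 1 (.one ⟨15820, 0, 4⟩) (.one ⟨4680, 1, 4⟩)))) (.node 4 (.node 2 (.node 1 (.one ⟨7980, 2, 2⟩) (.one ⟨14810, 0, 4⟩)) (.node 1 (.one ⟨2783, 2, 5⟩) (.one ⟨15256, 0, 5⟩))) (.node 2 (.node 1 (.one ⟨6100, 2, 3⟩) (.one ⟨16805, 2, 3⟩)) (.node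 1 (.one ⟨4775, 2, 4⟩) (.one ⟨15690, 2, 2⟩))))) (.node 8 (.node 4 (.node 2 (.node 1 (.one ⟨13088, 0, 5⟩) (.one ⟨2627, 0, 6⟩)) (.node 1 (.one ⟨15395, 0, 6⟩) (.one ⟨2468, 0, 3⟩))) (.node 2 (.node 1 (.one ⟨769, 2, 4⟩) (.one ⟨8578, 2, 4⟩)) (.node 1 (.one ⟨12807, 0, 4⟩) (.one ⟨2996, 0, 5⟩)))) (.node 4 (.node 2 (.node 1 (.one ⟨4447, 0, 5⟩) (.one ⟨10007, 0, 2⟩)) (.node 1 (.one ⟨4068, 2, 2⟩) (.one ⟨13493, 2, 4⟩))) (.node 2 (.node 1 (.one ⟨12134, 0, 4⟩) (.one ⟨2798, 2, 3⟩)) (.node 1 (.one ⟨13710, 1, 4⟩) (.one ⟨6553, 1, 2⟩)))))))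
def par9_15_3 : Arr Par :=
  (.node 32 (.node 16 (.node 8 (.node 4 (.node 2 (.node 1 (.one ⟨5759, 2, 4⟩) (.one ⟨8165, 2, 3⟩)) (.node 1 (.one ⟨1316, 2, 6⟩) (.one ⟨8177, 2, 3⟩))) (.node 2 (.node 1 (.one ⟨1625, 2, 2⟩) (.one ⟨3963, 2, 2⟩)) (.node 1 (.one ⟨5859, 2, 3⟩) (.one ⟨16350, 0, 4⟩)))) (.node 4 (.node 2 (.node 1 (.one ⟨2881, 0, 2⟩) (.one ⟨11198, 2, 4⟩)) (.node 1 (.one ⟨13092, 2, 5⟩) (.one ⟨5241, 1, 0⟩))) (.node 2 (.node 1 (.one ⟨6217, 0, 3⟩) (.one ⟨13270, 2, 6⟩)) (.node 1 (.one ⟨5050, 1, 0⟩) (.one ⟨16203, 1, 4⟩))))) (.node 8 (.node 4 (.node 2 (.node 1 (.one ⟨15449, 1, 4⟩) (.one ⟨2565, 1, 6⟩)) (.node 1 (.one ⟨5353, 1, 5⟩) (.one ⟨4011, 0, 5⟩))) (.node 2 (.node 1 (.one ⟨10123, 2, 3⟩) (.one ⟨12004, 0, 5⟩)) (.node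 1 (.one ⟨16950, 2, 5⟩) (.one ⟨16621, 2, 5⟩)))) (.node 4 (.node 2 (.node 1 (.one ⟨14032, 2, 3⟩) (.one ⟨11602, 2, 6⟩)) (.node 1 (.one ⟨15576, 0, 4⟩) (.one ⟨4705, 2, 4⟩))) (.node 2 (.node 1 (.one ⟨794, 2, 4⟩) (.one ⟨8102, 2, 4⟩)) (.node 1 (.one ⟨7016, 2, 5⟩) (.one ⟨12497, 0, 5⟩)))))) (.node 16 (.node 8 (.node 4 (.node 2 (.node 1 (.one ⟨12620, 0, 5⟩) (.one ⟨4484, 2, 1⟩)) (.node 1 (.one ⟨12145, 0, 5⟩) (.one ⟨13123, 0, 5⟩))) (.node 2 (.node 1 (.one ⟨11944, 0, 3⟩) (.one ⟨6246, 2, 4⟩)) (.node 1 (.one ⟨13398, 0, 3⟩) (.one ⟨5937, 2, 3⟩)))) (.node 4 (.node 2 (.node 1 (.one ⟨2115, 0, 3⟩) (.one ⟨7081, 0, 3⟩)) (.node 1 (.one ⟨2352, 0, 4⟩) (.one ⟨8354, 0, 4⟩))) (.node 2 (.node 1 (.one ⟨4527, 0, 3⟩) (.one ⟨7647, 0, 3⟩)) (.node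 1 (.one ⟨5318, 0, 3⟩) (.one ⟨7043, 0, 5⟩))))) (.node 8 (.node 4 (.node 2 (.node 1 (.one ⟨14703, 2, 5⟩) (.one ⟨11256, 2, 5⟩)) (.node 1 (.one ⟨13850, 0, 4⟩) (.one ⟨1082, 0, 5⟩))) (.node 2 (.node 1 (.one ⟨14469, 2, 2⟩) (.one ⟨7054, 0, 4⟩)) (.node 1 (.one ⟨6761, 2, 2⟩) (.one ⟨17140, 2, 3⟩)))) (.node 4 (.node 2 (.node 1 (.one ⟨5880, 1, 2⟩) (.one ⟨2808, 0, 1⟩)) (.node 1 (.one ⟨15114, 2, 2⟩) (.one ⟨9003, 0, 4⟩))) (.node 2 (.node 1 (.one ⟨17141, 2, 5⟩) (.one ⟨4008, 0, 6⟩)) (.node 1 (.one ⟨4539, 0, 4⟩) (.one ⟨8239, 0, 4⟩)))))))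
def par9_15_4 : Arr Par :=
  (.node 32 (.node 16 (.node 8 (.node 4 (.node 2 (.node 1 (.one ⟨11977, 0, 3⟩) (.one ⟨3762, 0, 5⟩)) (.node 1 (.one ⟨17076, 1, 3⟩) (.one ⟨16590, 2, 5⟩))) (.node 2 (.node 1 (.one ⟨633, 2, 6⟩) (.one ⟨8879, 0, 4⟩)) (.node 1 (.one ⟨10739, 2, 3⟩) (.one ⟨3287, 2, 1⟩)))) (.node 4 (.node 2 (.node 1 (.one ⟨6371, 2, 1⟩) (.one ⟨7697, 2, 2⟩)) (.node 1 (.one ⟨4666, 2, 3⟩) (.one ⟨7423, 0, 4⟩))) (.node 2 (.node 1 (.one ⟨9255, 2, 4⟩) (.one ⟨2391, 0, 4⟩)) (.node 1 (.one ⟨17041, 2, 4⟩) (.one ⟨10551, 0, 5⟩))))) (.node 8 (.node 4 (.node 2 (.node 1 (.one ⟨15560, 0, 3⟩) (.one ⟨14600, 1, 1⟩)) (.node 1 (.one ⟨3277, 2, 3⟩) (.one ⟨16483, 2, 5⟩))) (.node 2 (.node 1 (.one ⟨5999, 0, 3⟩) (.one ⟨40, 0, 5⟩)) (.node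 1 (.one ⟨6658, 0, 4⟩) (.one ⟨8610, 2, 4⟩)))) (.node 4 (.node 2 (.node 1 (.one ⟨5548, 1, 2⟩) (.one ⟨14660, 2, 3⟩)) (.node 1 (.one ⟨15201, 0, 3⟩) (.one ⟨15745, 2, 4⟩))) (.node 2 (.node 1 (.one ⟨970, 2, 5⟩) (.one ⟨7167, 0, 5⟩)) (.node 1 (.one ⟨11727, 2, 4⟩) (.one ⟨15703, 2, 5⟩)))))) (.node 16 (.node 8 (.node 4 (.node 2 (.node 1 (.one ⟨8077, 2, 3⟩) (.one ⟨848, 2, 3⟩)) (.node 1 (.one ⟨10279, 2, 4⟩) (.one ⟨9652, 2, 2⟩))) (.node 2 (.node 1 (.one ⟨17064, 1, 2⟩) (.one ⟨7696, 2, 2⟩)) (.node 1 (.one ⟨4747, 0, 4⟩) (.one ⟨16897, 2, 3⟩)))) (.node 4 (.node 2 (.node 1 (.one ⟨4609, 2, 4⟩) (.one ⟨14261, 2, 3⟩)) (.node 1 (.one ⟨419, 2, 3⟩) (.one ⟨12871, 2, 3⟩))) (.node 2 (.node 1 (.one ⟨8903, 2, 4⟩) (.one ⟨9823, 2, 6⟩)) (.node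 1 (.one ⟨6367, 2, 4⟩) (.one ⟨11681, 1, 2⟩))))) (.node 8 (.node 4 (.node 2 (.node 1 (.one ⟨6791, 2, 6⟩) (.one ⟨11658, 1, 2⟩)) (.node 1 (.one ⟨6715, 0, 4⟩) (.one ⟨6033, 1, 3⟩))) (.node 2 (.node 1 (.one ⟨6797, 2, 5⟩) (.one ⟨6794, 2, 5⟩)) (.node 1 (.one ⟨11368, 0, 1⟩) (.one ⟨303, 0, 3⟩)))) (.node 4 (.node 2 (.node 1 (.one ⟨9968, 2, 5⟩) (.one ⟨5181, 2, 3⟩)) (.node 1 (.one ⟨8289, 2, 4⟩) (.one ⟨623, 0, 5⟩))) (.node 2 (.node 1 (.one ⟨5386, 2, 4⟩) (.one ⟨1019, 0, 6⟩)) (.node 1 (.one ⟨4482, 1, 2⟩) (.one ⟨14540, 2, 4⟩)))))))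
def par9_15_5 : Arr Par :=
  (.node 32 (.node 16 (.node 8 (.node 4 (.node 2 (.node 1 (.one ⟨6316, 2, 3⟩) (.one ⟨2329, 2, 3⟩)) (.node 1 (.one ⟨10562, 2, 2⟩) (.one ⟨6056, 2, 3⟩))) (.node 2 (.node 1 (.one ⟨13695, 2, 2⟩) (.one ⟨16321, 1, 1⟩)) (.node 1 (.one ⟨997, 0, 4⟩) (.one ⟨686, 2, 5⟩)))) (.node 4 (.node 2 (.node 1 (.one ⟨5267, 2, 4⟩) (.one ⟨6343, 2, 7⟩)) (.node 1 (.one ⟨1202, 0, 1⟩) (.one ⟨9186, 0, 1⟩))) (.node 2 (.node 1 (.one ⟨5231, 2, 5⟩) (.one ⟨78, 0, 4⟩)) (.node 1 (.one ⟨8494, 2, 5⟩) (.one ⟨7949, 2, 5⟩))))) (.node 8 (.node 4 (.node 2 (.node 1 (.one ⟨498, 0, 5⟩) (.one ⟨4903, 2, 5⟩)) (.node 1 (.one ⟨8959, 2, 4⟩) (.one ⟨1340, 2, 4⟩))) (.node 2 (.node 1 (.one ⟨3376, 0, 5⟩) (.one ⟨7009, 2, 5⟩)) (.node 1 (.one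 ⟨14206, 0, 5⟩) (.one ⟨4913, 0, 4⟩)))) (.node 4 (.node 2 (.node 1 (.one ⟨15053, 0, 5⟩) (.one ⟨4208, 2, 4⟩)) (.node 1 (.one ⟨8314, 1, 4⟩) (.one ⟨2977, 2, 4⟩))) (.node 2 (.node 1 (.one ⟨6647, 0, 3⟩) (.one ⟨13875, 1, 6⟩)) (.node 1 (.one ⟨16025, 0, 4⟩) (.one ⟨1834, 2, 6⟩)))))) (.node 16 (.node 8 (.node 4 (.node 2 (.node 1 (.one ⟨14769, 2, 6⟩) (.one ⟨2913, 2, 3⟩)) (.node 1 (.one ⟨6713, 1, 1⟩) (.one ⟨12430, 0, 2⟩))) (.node 2 (.node 1 (.one ⟨243, 1, 5⟩) (.one ⟨16813, 2, 6⟩)) (.node 1 (.one ⟨3782, 2, 6⟩) (.one ⟨1926, 2, 5⟩)))) (.node 4 (.node 2 (.node 1 (.one ⟨7034, 2, 6⟩) (.one ⟨11031, 0, 3⟩)) (.node 1 (.one ⟨8121, 1, 4⟩) (.one ⟨9541, 0, 1⟩))) (.node 2 (.node 1 (.one ⟨7087, 2, 4⟩) (.one ⟨2671, 2, 4⟩)) (.node 1 (.one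 ⟨2943, 0, 5⟩) (.one ⟨4497, 2, 5⟩))))) (.node 8 (.node 4 (.node 2 (.node 1 (.one ⟨9052, 0, 6⟩) (.one ⟨5940, 2, 4⟩)) (.node 1 (.one ⟨6572, 0, 2⟩) (.one ⟨279, 0, 4⟩))) (.node 2 (.node 1 (.one ⟨16315, 1, 1⟩) (.one ⟨9694, 2, 5⟩)) (.node 1 (.one ⟨16103, 1, 2⟩) (.one ⟨14305, 2, 3⟩)))) (.node 4 (.node 2 (.node 1 (.one ⟨11198, 0, 4⟩) (.one ⟨14261, 0, 3⟩)) (.node 1 (.one ⟨16410, 0, 6⟩) (.one ⟨2938, 0, 3⟩))) (.node 2 (.node 1 (.one ⟨13948, 2, 3⟩) (.one ⟨7638, 0, 3⟩)) (.node 1 (.one ⟨10778, 2, 3⟩) (.one ⟨14924, 0, 4⟩)))))))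
def par9_15_6 : Arr Par :=
  (.node 32 (.node 16 (.node 8 (.node 4 (.node 2 (.node 1 (.one ⟨15095, 0, 3⟩) (.one ⟨10107, 2, 3⟩)) (.node 1 (.one ⟨15878, 2, 3⟩) (.one ⟨8661, 2, 5⟩))) (.node 2 (.node 1 (.one ⟨12187, 0, 4⟩) (.one ⟨5697, 0, 3⟩)) (.node 1 (.one ⟨12076, 2, 5⟩) (.one ⟨2434, 0, 2⟩)))) (.node 4 (.node 2 (.node 1 (.one ⟨3793, 0, 4⟩) (.one ⟨15163, 2, 4⟩)) (.node 1 (.one ⟨11012, 0, 4⟩) (.one ⟨1406, 2, 5⟩))) (.node 2 (.node 1 (.one ⟨1314, 2, 4⟩) (.one ⟨11555, 0, 3⟩)) (.node 1 (.one ⟨9592, 2, 5⟩) (.one ⟨235, 2, 4⟩))))) (.node 8 (.node 4 (.node 2 (.node 1 (.one ⟨8431, 1, 5⟩) (.one ⟨10097, 0, 4⟩)) (.node 1 (.one ⟨4474, 0, 6⟩) (.one ⟨5270, 0, 2⟩))) (.node 2 (.node 1 (.one ⟨10829, 0, 4⟩) (.one ⟨5381, 0, 4⟩)) (.node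 1 (.one ⟨10934, 0, 4⟩) (.one ⟨15961, 2, 4⟩)))) (.node 4 (.node 2 (.node 1 (.one ⟨12128, 0, 1⟩) (.one ⟨13939, 2, 3⟩)) (.node 1 (.one ⟨4925, 2, 4⟩) (.one ⟨16796, 2, 5⟩))) (.node 2 (.node 1 (.one ⟨763, 0, 5⟩) (.one ⟨4536, 1, 5⟩)) (.node 1 (.one ⟨3855, 2, 4⟩) (.one ⟨10601, 2, 1⟩)))))) (.node 16 (.node 8 (.node 4 (.node 2 (.node 1 (.one ⟨12496, 2, 2⟩) (.one ⟨16798, 2, 4⟩)) (.node 1 (.one ⟨17020, 0, 2⟩) (.one ⟨3627, 2, 6⟩))) (.node 2 (.node 1 (.one ⟨13395, 0, 5⟩) (.one ⟨7233, 2, 5⟩)) (.node 1 (.one ⟨9528, 1, 1⟩) (.one ⟨2931, 0, 3⟩)))) (.node 4 (.node 2 (.node 1 (.one ⟨15808, 2, 5⟩) (.one ⟨11528, 0, 3⟩)) (.node 1 (.one ⟨13809, 0, 3⟩) (.one ⟨2355, 0, 3⟩))) (.node 2 (.node 1 (.one ⟨7085, 0, 5⟩) (.one ⟨9343, 0, 3⟩))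 (.node 1 (.one ⟨15640, 0, 3⟩) (.one ⟨3203, 2, 3⟩))))) (.node 8 (.node 4 (.node 2 (.node 1 (.one ⟨13843, 2, 3⟩) (.one ⟨2841, 2, 3⟩)) (.node 1 (.one ⟨14284, 2, 3⟩) (.one ⟨15504, 2, 5⟩))) (.node 2 (.node 1 (.one ⟨615, 2, 5⟩) (.one ⟨14729, 2, 4⟩)) (.node 1 (.one ⟨2475, 2, 5⟩) (.one ⟨951, 0, 5⟩)))) (.node 4 (.node 2 (.node 1 (.one ⟨14768, 0, 6⟩) (.one ⟨2521, 2, 3⟩)) (.node 1 (.one ⟨10108, 0, 5⟩) (.one ⟨16980, 1, 4⟩))) (.node 2 (.node 1 (.one ⟨16138, 0, 4⟩) (.one ⟨7720, 0, 4⟩)) (.node 1 (.one ⟨12973, 0, 4⟩) (.one ⟨6695, 2, 4⟩)))))))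
def par9_15_7 : Arr Par :=
  (.node 32 (.node 16 (.node 8 (.node 4 (.node 2 (.node 1 (.one ⟨16152, 0, 4⟩) (.one ⟨13274, 2, 5⟩)) (.node 1 (.one ⟨364, 2, 5⟩) (.one ⟨7277, 2, 4⟩))) (.node 2 (.node 1 (.one ⟨15813, 2, 3⟩) (.one ⟨5168, 1, 2⟩)) (.node 1 (.one ⟨2267, 2, 3⟩) (.one ⟨1411, 2, 6⟩)))) (.node 4 (.node 2 (.node 1 (.one ⟨1078, 2, 6⟩) (.one ⟨16734, 0, 5⟩)) (.node 1 (.one ⟨13999, 2, 5⟩) (.one ⟨14099, 2, 4⟩))) (.node 2 (.node 1 (.one ⟨14051, 2, 3⟩) (.one ⟨5161, 0, 3⟩)) (.node 1 (.one ⟨1274, 2, 4⟩) (.one ⟨3646, 2, 4⟩))))) (.node 8 (.node 4 (.node 2 (.node 1 (.one ⟨3752, 2, 3⟩) (.one ⟨12081, 1, 2⟩)) (.node 1 (.one ⟨11033, 2, 3⟩) (.one ⟨12629, 2, 5⟩))) (.node 2 (.node 1 (.one ⟨12831, 2, 6⟩) (.one ⟨2484, 0, 4⟩))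 (.node 1 (.one ⟨1697, 2, 2⟩) (.one ⟨10407, 0, 2⟩)))) (.node 4 (.node 2 (.node 1 (.one ⟨10553, 2, 5⟩) (.one ⟨14939, 2, 5⟩)) (.node 1 (.one ⟨4427, 2, 3⟩) (.one ⟨7299, 0, 4⟩))) (.node 2 (.node 1 (.one ⟨1748, 0, 4⟩) (.one ⟨16058, 1, 2⟩)) (.node 1 (.one ⟨13896, 0, 2⟩) (.one ⟨13721, 2, 3⟩)))))) (.node 16 (.node 8 (.node 4 (.node 2 (.node 1 (.one ⟨9284, 2, 1⟩) (.one ⟨10492, 2, 3⟩)) (.node 1 (.one ⟨3268, 0, 6⟩) (.one ⟨6396, 2, 5⟩))) (.node 2 (.node 1 (.one ⟨14015, 0, 5⟩) (.one ⟨10769, 0, 5⟩)) (.node 1 (.one ⟨5677, 2, 2⟩) (.one ⟨16827, 0, 5⟩)))) (.node 4 (.node 2 (.node 1 (.one ⟨9079, 0, 6⟩) (.one ⟨3477, 0, 5⟩)) (.node 1 (.one ⟨11395, 0, 5⟩) (.one ⟨1210, 0, 5⟩))) (.node 2 (.node 1 (.one ⟨9990, 0, 5⟩) (.one ⟨7003, 2,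 3⟩)) (.node 1 (.one ⟨7852, 0, 6⟩) (.one ⟨2138, 2, 3⟩))))) (.node 8 (.node 4 (.node 2 (.node 1 (.one ⟨1614, 2, 3⟩) (.one ⟨2045, 2, 2⟩)) (.node 1 (.one ⟨1577, 2, 3⟩) (.one ⟨10981, 2, 6⟩))) (.node 2 (.node 1 (.one ⟨10841, 2, 5⟩) (.one ⟨14959, 1, 5⟩)) (.node 1 (.one ⟨10885, 2, 5⟩) (.one ⟨8087, 0, 4⟩)))) (.node 4 (.node 2 (.node 1 (.one ⟨9695, 0, 4⟩) (.one ⟨2771, 0, 4⟩)) (.node 1 (.one ⟨16604, 0, 3⟩) (.one ⟨9875, 2, 6⟩))) (.node 2 (.node 1 (.one ⟨10563, 2, 3⟩) (.one ⟨5449, 0, 4⟩)) (.node 1 (.one ⟨15244, 0, 4⟩) (.one ⟨7954, 1, 4⟩)))))))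
def par9_15_8 : Arr Par :=
  (.node 32 (.node 16 (.node 8 (.node 4 (.node 2 (.node 1 (.one ⟨16496, 0, 4⟩) (.one ⟨14937, 0, 6⟩)) (.node 1 (.one ⟨1526, 0, 3⟩) (.one ⟨5605, 2, 3⟩))) (.node 2 (.node 1 (.one ⟨3933, 0, 5⟩) (.one ⟨2595, 0, 4⟩)) (.node 1 (.one ⟨12803, 1, 2⟩) (.one ⟨9664, 0, 4⟩)))) (.node 4 (.node 2 (.node 1 (.one ⟨10357, 0, 6⟩) (.one ⟨12809, 0, 4⟩)) (.node 1 (.one ⟨3706, 2, 6⟩) (.one ⟨3701, 2, 3⟩))) (.node 2 (.node 1 (.one ⟨10670, 0, 5⟩) (.one ⟨13076, 0, 5⟩)) (.node 1 (.one ⟨8363, 2, 3⟩) (.one ⟨3721, 2, 4⟩))))) (.node 8 (.node 4 (.node 2 (.node 1 (.one ⟨12137, 0, 5⟩) (.one ⟨11128, 2, 5⟩)) (.node 1 (.one ⟨13055, 2, 5⟩) (.one ⟨4174, 1, 2⟩))) (.node 2 (.node 1 (.one ⟨10312, 2, 1⟩) (.one ⟨3139, 2, 4⟩))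 (.node 1 (.one ⟨5257, 2, 5⟩) (.one ⟨7292, 2, 5⟩)))) (.node 4 (.node 2 (.node 1 (.one ⟨3708, 2, 5⟩) (.one ⟨4641, 0, 4⟩)) (.node 1 (.one ⟨5411, 0, 2⟩) (.one ⟨1793, 0, 4⟩))) (.node 2 (.node 1 (.one ⟨507, 2, 6⟩) (.one ⟨7984, 2, 4⟩)) (.node 1 (.one ⟨2964, 0, 2⟩) (.one ⟨5681, 2, 1⟩)))))) (.node 16 (.node 8 (.node 4 (.node 2 (.node 1 (.one ⟨1383, 2, 2⟩) (.one ⟨7141, 2, 2⟩)) (.node 1 (.one ⟨5771, 0, 4⟩) (.one ⟨217, 0, 3⟩))) (.node 2 (.node 1 (.one ⟨3735, 0, 3⟩) (.one ⟨4450, 1, 4⟩)) (.node 1 (.one ⟨5518, 0, 6⟩) (.one ⟨11402, 2, 3⟩)))) (.node 4 (.node 2 (.node 1 (.one ⟨8159, 2, 3⟩) (.one ⟨1755, 0, 6⟩)) (.node 1 (.one ⟨7136, 2, 2⟩) (.one ⟨12906, 2, 3⟩))) (.node 2 (.node 1 (.one ⟨4737, 0, 2⟩) (.one ⟨4901, 0, 6⟩)) (.node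 1 (.one ⟨8374, 2, 2⟩) (.one ⟨715, 0, 3⟩))))) (.node 8 (.node 4 (.node 2 (.node 1 (.one ⟨2666, 0, 4⟩) (.one ⟨7975, 1, 4⟩)) (.node 1 (.one ⟨12967, 2, 5⟩) (.one ⟨5151, 2, 4⟩))) (.node 2 (.node 1 (.one ⟨12983, 2, 4⟩) (.one ⟨10436, 2, 2⟩)) (.node 1 (.one ⟨10561, 0, 3⟩) (.one ⟨3966, 2, 3⟩)))) (.node 4 (.node 2 (.node 1 (.one ⟨6383, 2, 5⟩) (.one ⟨5896, 0, 2⟩)) (.node 1 (.one ⟨4642, 2, 4⟩) (.one ⟨12089, 0, 5⟩))) (.node 2 (.node 1 (.one ⟨3666, 0, 6⟩) (.one ⟨3925, 1, 5⟩)) (.node 1 (.one ⟨10775, 2, 5⟩) (.one ⟨7283, 0, 5⟩)))))))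
def par9_15_9 : Arr Par :=
  (.node 32 (.node 16 (.node 8 (.node 4 (.node 2 (.node 1 (.one ⟨2591, 0, 2⟩) (.one ⟨3475, 2, 4⟩)) (.node 1 (.one ⟨6910, 0, 2⟩) (.one ⟨7343, 2, 3⟩))) (.node 2 (.node 1 (.one ⟨7277, 0, 4⟩) (.one ⟨13842, 2, 5⟩)) (.node 1 (.one ⟨206, 0, 6⟩) (.one ⟨9977, 2, 5⟩)))) (.node 4 (.node 2 (.node 1 (.one ⟨3062, 2, 4⟩) (.one ⟨3668, 0, 2⟩)) (.node 1 (.one ⟨15592, 0, 4⟩) (.one ⟨6810, 2, 5⟩))) (.node 2 (.node 1 (.one ⟨13348, 0, 5⟩) (.one ⟨3600, 2, 5⟩)) (.node 1 (.one ⟨12615, 2, 3⟩) (.one ⟨17052, 2, 4⟩))))) (.node 8 (.node 4 (.node 2 (.node 1 (.one ⟨483, 2, 3⟩) (.one ⟨4467, 2, 4⟩)) (.node 1 (.one ⟨14982, 2, 5⟩) (.one ⟨4400, 0, 5⟩))) (.node 2 (.node 1 (.one ⟨2545, 2, 4⟩) (.one ⟨17179, 0, 4⟩)) (.node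 1 (.one ⟨15298, 2, 4⟩) (.one ⟨13973, 2, 3⟩)))) (.node 4 (.node 2 (.node 1 (.one ⟨12556, 1, 1⟩) (.one ⟨11230, 0, 3⟩)) (.node 1 (.one ⟨11279, 0, 3⟩) (.one ⟨1836, 1, 2⟩))) (.node 2 (.node 1 (.one ⟨16151, 2, 4⟩) (.one ⟨723, 0, 3⟩)) (.node 1 (.one ⟨1610, 0, 3⟩) (.one ⟨4088, 2, 5⟩)))))) (.node 16 (.node 8 (.node 4 (.node 2 (.node 1 (.one ⟨14647, 2, 5⟩) (.one ⟨7017, 2, 5⟩)) (.node 1 (.one ⟨6511, 0, 4⟩) (.one ⟨14282, 0, 3⟩))) (.node 2 (.node 1 (.one ⟨398, 2, 3⟩) (.one ⟨10127, 2, 4⟩)) (.node 1 (.one ⟨9096, 2, 2⟩) (.one ⟨16723, 2, 6⟩)))) (.node 4 (.node 2 (.node 1 (.one ⟨16475, 1, 3⟩) (.one ⟨9359, 2, 2⟩)) (.node 1 (.one ⟨1131, 2, 2⟩) (.one ⟨736, 0, 4⟩))) (.node 2 (.node 1 (.one ⟨16713, 2, 6⟩) (.one ⟨1527, 2, 2⟩)) (.node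 1 (.one ⟨9253, 2, 2⟩) (.one ⟨10848, 2, 3⟩))))) (.node 8 (.node 4 (.node 2 (.node 1 (.one ⟨4620, 2, 7⟩) (.one ⟨8692, 0, 4⟩)) (.node 1 (.one ⟨5568, 0, 3⟩) (.one ⟨12556, 0, 1⟩))) (.node 2 (.node 1 (.one ⟨11548, 2, 4⟩) (.one ⟨11252, 0, 3⟩)) (.node 1 (.one ⟨16228, 2, 3⟩) (.one ⟨12161, 1, 3⟩)))) (.node 4 (.node 2 (.node 1 (.one ⟨6094, 0, 3⟩) (.one ⟨12022, 2, 4⟩)) (.node 1 (.one ⟨11116, 0, 3⟩) (.one ⟨16049, 1, 6⟩))) (.node 2 (.node 1 (.one ⟨4157, 1, 3⟩) (.one ⟨11750, 0, 3⟩)) (.node 1 (.one ⟨1964, 2, 4⟩) (.one ⟨11109, 0, 3⟩)))))))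
def par9_15_10 : Arr Par :=
  (.node 32 (.node 16 (.node 8 (.node 4 (.node 2 (.node 1 (.one ⟨16915, 2, 4⟩) (.one ⟨7708, 1, 5⟩)) (.node 1 (.one ⟨9957, 2, 4⟩) (.one ⟨11755, 0, 5⟩))) (.node 2 (.node 1 (.one ⟨6848, 2, 4⟩) (.one ⟨16052, 1, 3⟩)) (.node 1 (.one ⟨3888, 2, 4⟩) (.one ⟨13381, 1, 3⟩)))) (.node 4 (.node 2 (.node 1 (.one ⟨1123, 2, 2⟩) (.one ⟨14498, 1, 3⟩)) (.node 1 (.one ⟨9323, 2, 2⟩) (.one ⟨17038, 2, 4⟩))) (.node 2 (.node 1 (.one ⟨9261, 2, 1⟩) (.one ⟨8958, 2, 6⟩)) (.node 1 (.one ⟨14226, 0, 4⟩) (.one ⟨14869, 2, 5⟩))))) (.node 8 (.node 4 (.node 2 (.node 1 (.one ⟨12947, 2, 6⟩) (.one ⟨5705, 0, 6⟩)) (.node 1 (.one ⟨5731, 2, 5⟩) (.one ⟨17013, 0, 3⟩))) (.node 2 (.node 1 (.one ⟨13229, 2, 2⟩) (.one ⟨6023, 0, 6⟩))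 (.node 1 (.one ⟨6206, 2, 2⟩) (.one ⟨5077, 0, 5⟩)))) (.node 4 (.node 2 (.node 1 (.one ⟨15623, 0, 2⟩) (.one ⟨10409, 0, 3⟩)) (.node 1 (.one ⟨8245, 0, 3⟩) (.one ⟨13366, 2, 4⟩))) (.node 2 (.node 1 (.one ⟨14470, 2, 7⟩) (.one ⟨3016, 2, 2⟩)) (.node 1 (.one ⟨14955, 0, 2⟩) (.one ⟨3499, 2, 5⟩)))))) (.node 16 (.node 8 (.node 4 (.node 2 (.node 1 (.one ⟨6229, 2, 3⟩) (.one ⟨2703, 2, 4⟩)) (.node 1 (.one ⟨7103, 2, 4⟩) (.one ⟨12838, 1, 4⟩))) (.node 2 (.node 1 (.one ⟨14767, 2, 4⟩) (.one ⟨11054, 2, 4⟩)) (.node 1 (.one ⟨13787, 2, 2⟩) (.one ⟨4150, 0, 4⟩)))) (.node 4 (.node 2 (.node 1 (.one ⟨9070, 2, 2⟩) (.one ⟨13585, 0, 6⟩)) (.node 1 (.one ⟨1552, 0, 3⟩) (.one ⟨13726, 2, 3⟩))) (.node 2 (.node 1 (.one ⟨13402, 2, 4⟩) (.one ⟨16553,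 2, 5⟩)) (.node 1 (.one ⟨10550, 2, 2⟩) (.one ⟨4994, 2, 5⟩))))) (.node 8 (.node 4 (.node 2 (.node 1 (.one ⟨16498, 0, 3⟩) (.one ⟨4945, 0, 5⟩)) (.node 1 (.one ⟨9709, 2, 7⟩) (.one ⟨2005, 2, 2⟩))) (.node 2 (.node 1 (.one ⟨7634, 1, 2⟩) (.one ⟨16742, 2, 5⟩)) (.node 1 (.one ⟨12863, 2, 5⟩) (.one ⟨8847, 1, 2⟩)))) (.node 4 (.node 2 (.node 1 (.one ⟨13054, 2, 4⟩) (.one ⟨16263, 0, 4⟩)) (.node 1 (.one ⟨1336, 0, 1⟩) (.one ⟨13053, 2, 3⟩))) (.node 2 (.node 1 (.one ⟨13051, 2, 5⟩) (.one ⟨13048, 2, 3⟩)) (.node 1 (.one ⟨3606, 0, 2⟩) (.one ⟨4753, 1, 4⟩)))))))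
def par9_15_11 : Arr Par :=
  (.node 32 (.node 16 (.node 8 (.node 4 (.node 2 (.node 1 (.one ⟨12428, 2, 4⟩) (.one ⟨6196, 2, 4⟩)) (.node 1 (.one ⟨4728, 0, 4⟩) (.one ⟨9179, 2, 4⟩))) (.node 2 (.node 1 (.one ⟨17143, 2, 4⟩) (.one ⟨6566, 0, 5⟩)) (.node 1 (.one ⟨7925, 2, 5⟩) (.one ⟨14284, 0, 3⟩)))) (.node 4 (.node 2 (.node 1 (.one ⟨12085, 2, 5⟩) (.one ⟨13612, 2, 3⟩)) (.node 1 (.one ⟨4925, 0, 4⟩) (.one ⟨3806, 2, 4⟩))) (.node 2 (.node 1 (.one ⟨5979, 0, 6⟩) (.one ⟨13188, 0, 6⟩)) (.node 1 (.one ⟨6447, 0, 3⟩) (.one ⟨13923, 2, 3⟩))))) (.node 8 (.node 4 (.node 2 (.node 1 (.one ⟨16303, 2, 4⟩) (.one ⟨3824, 0, 5⟩)) (.node 1 (.one ⟨11036, 0, 3⟩) (.one ⟨3528, 1, 4⟩))) (.node 2 (.node 1 (.one ⟨3546, 1, 2⟩) (.one ⟨14575, 2, 4⟩))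 (.node 1 (.one ⟨1454, 1, 4⟩) (.one ⟨16732, 2, 6⟩)))) (.node 4 (.node 2 (.node 1 (.one ⟨977, 2, 3⟩) (.one ⟨8627, 2, 4⟩)) (.node 1 (.one ⟨9484, 2, 5⟩) (.one ⟨13081, 2, 5⟩))) (.node 2 (.node 1 (.one ⟨5826, 2, 4⟩) (.one ⟨4975, 2, 6⟩)) (.node 1 (.one ⟨13936, 2, 6⟩) (.one ⟨9176, 2, 3⟩)))))) (.node 16 (.node 8 (.node 4 (.node 2 (.node 1 (.one ⟨85, 2, 3⟩) (.one ⟨1198, 2, 3⟩)) (.node 1 (.one ⟨3994, 1, 5⟩) (.one ⟨6582, 2, 5⟩))) (.node 2 (.node 1 (.one ⟨14651, 2, 5⟩) (.one ⟨14663, 2, 5⟩)) (.node 1 (.one ⟨6593, 2, 5⟩) (.one ⟨1211, 0, 1⟩)))) (.node 4 (.node 2 (.node 1 (.one ⟨9969, 2, 5⟩) (.one ⟨7753, 2, 6⟩)) (.node 1 (.one ⟨9493, 0, 1⟩) (.one ⟨16682, 2, 6⟩))) (.node 2 (.node 1 (.one ⟨3063, 2, 4⟩) (.one ⟨16531, 2, 6⟩)) (.node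 1 (.one ⟨2854, 2, 7⟩) (.one ⟨7246, 2, 4⟩))))) (.node 8 (.node 4 (.node 2 (.node 1 (.one ⟨5180, 0, 6⟩) (.one ⟨11704, 2, 6⟩)) (.node 1 (.one ⟨2727, 1, 1⟩) (.one ⟨5232, 2, 7⟩))) (.node 2 (.node 1 (.one ⟨9555, 0, 2⟩) (.one ⟨1377, 0, 3⟩)) (.node 1 (.one ⟨12255, 1, 1⟩) (.one ⟨3218, 2, 5⟩)))) (.node 4 (.node 2 (.node 1 (.one ⟨3381, 2, 6⟩) (.one ⟨15851, 2, 6⟩)) (.node 1 (.one ⟨16042, 2, 4⟩) (.one ⟨8484, 2, 6⟩))) (.node 2 (.node 1 (.one ⟨8648, 2, 4⟩) (.one ⟨2374, 1, 5⟩)) (.node 1 (.one ⟨10636, 2, 6⟩) (.one ⟨4731, 2, 4⟩)))))))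
def par9_15_12 : Arr Par :=
  (.node 32 (.node 16 (.node 8 (.node 4 (.node 2 (.node 1 (.one ⟨2352, 2, 4⟩) (.one ⟨3600, 0, 5⟩)) (.node 1 (.one ⟨274, 0, 5⟩) (.one ⟨3965, 0, 5⟩))) (.node 2 (.node 1 (.one ⟨16928, 2, 5⟩) (.one ⟨8653, 2, 6⟩)) (.node 1 (.one ⟨6511, 2, 4⟩) (.one ⟨6024, 2, 6⟩)))) (.node 4 (.node 2 (.node 1 (.one ⟨13042, 0, 6⟩) (.one ⟨14504, 0, 5⟩)) (.node 1 (.one ⟨13444, 2, 3⟩) (.one ⟨13941, 0, 5⟩))) (.node 2 (.node 1 (.one ⟨16437, 0, 6⟩) (.one ⟨16824, 2, 2⟩)) (.node 1 (.one ⟨13413, 0, 5⟩) (.one ⟨11802, 2, 3⟩))))) (.node 8 (.node 4 (.node 2 (.node 1 (.one ⟨16742, 0, 5⟩) (.one ⟨10189, 2, 3⟩)) (.node 1 (.one ⟨8793, 2, 6⟩) (.one ⟨12164, 2, 3⟩))) (.node 2 (.node 1 (.one ⟨6938, 2, 3⟩) (.one ⟨10359, 2, 5⟩))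 (.node 1 (.one ⟨5904, 0, 5⟩) (.one ⟨11320, 0, 3⟩)))) (.node 4 (.node 2 (.node 1 (.one ⟨11431, 0, 3⟩) (.one ⟨14684, 2, 3⟩)) (.node 1 (.one ⟨9047, 2, 3⟩) (.one ⟨12172, 2, 5⟩))) (.node 2 (.node 1 (.one ⟨2175, 2, 3⟩) (.one ⟨3160, 0, 4⟩)) (.node 1 (.one ⟨15087, 2, 5⟩) (.one ⟨17198, 2, 2⟩)))))) (.node 16 (.node 8 (.node 4 (.node 2 (.node 1 (.one ⟨6151, 0, 4⟩) (.one ⟨4874, 0, 4⟩)) (.node 1 (.one ⟨12344, 0, 5⟩) (.one ⟨400, 0, 5⟩))) (.node 2 (.node 1 (.one ⟨12633, 2, 3⟩) (.one ⟨222, 2, 3⟩)) (.node 1 (.one ⟨5891, 1, 4⟩) (.one ⟨4890, 0, 3⟩)))) (.node 4 (.node 2 (.node 1 (.one ⟨16003, 2, 6⟩) (.one ⟨14214, 2, 5⟩)) (.node 1 (.one ⟨64, 0, 6⟩) (.one ⟨4662, 2, 6⟩))) (.node 2 (.node 1 (.one ⟨4851, 0, 1⟩) (.one ⟨9216, 2, 4⟩))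 (.node 1 (.one ⟨2851, 2, 5⟩) (.one ⟨11026, 1, 3⟩))))) (.node 8 (.node 4 (.node 2 (.node 1 (.one ⟨16433, 2, 5⟩) (.one ⟨838, 1, 4⟩)) (.node 1 (.one ⟨7751, 2, 5⟩) (.one ⟨5195, 0, 5⟩))) (.node 2 (.node 1 (.one ⟨6160, 1, 4⟩) (.one ⟨9604, 0, 3⟩)) (.node 1 (.one ⟨1185, 0, 3⟩) (.one ⟨8122, 0, 6⟩)))) (.node 4 (.node 2 (.node 1 (.one ⟨11032, 2, 6⟩) (.one ⟨3016, 1, 2⟩)) (.node 1 (.one ⟨2367, 2, 3⟩) (.one ⟨2319, 1, 6⟩))) (.node 2 (.node 1 (.one ⟨11235, 2, 5⟩) (.one ⟨6520, 1, 1⟩)) (.node 1 (.one ⟨11781, 0, 2⟩) (.one ⟨14231, 0, 4⟩)))))))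
def par9_15_13 : Arr Par :=
  (.node 32 (.node 16 (.node 8 (.node 4 (.node 2 (.node 1 (.one ⟨13313, 2, 6⟩) (.one ⟨6159, 1, 4⟩)) (.node 1 (.one ⟨362, 0, 4⟩) (.one ⟨16204, 0, 2⟩))) (.node 2 (.node 1 (.one ⟨14712, 0, 4⟩) (.one ⟨3058, 0, 4⟩)) (.node 1 (.one ⟨4381, 0, 3⟩) (.one ⟨5334, 1, 0⟩)))) (.node 4 (.node 2 (.node 1 (.one ⟨7654, 1, 3⟩) (.one ⟨12632, 2, 5⟩)) (.node 1 (.one ⟨16119, 2, 6⟩) (.one ⟨9236, 0, 3⟩))) (.node 2 (.node 1 (.one ⟨63, 0, 1⟩) (.one ⟨1394, 0, 2⟩)) (.node 1 (.one ⟨12164, 1, 3⟩) (.one ⟨5685, 2, 5⟩))))) (.node 8 (.node 4 (.node 2 (.node 1 (.one ⟨13563, 0, 6⟩) (.one ⟨11708, 1, 4⟩)) (.node 1 (.one ⟨3959, 0, 2⟩) (.one ⟨335, 0, 6⟩))) (.node 2 (.node 1 (.one ⟨11938, 2, 3⟩) (.one ⟨11085, 0, 6⟩)) (.node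 1 (.one ⟨15888, 0, 6⟩) (.one ⟨15303, 0, 3⟩)))) (.node 4 (.node 2 (.node 1 (.one ⟨15315, 0, 4⟩) (.one ⟨12522, 1, 4⟩)) (.node 1 (.one ⟨8205, 1, 4⟩) (.one ⟨2468, 2, 3⟩))) (.node 2 (.node 1 (.one ⟨1582, 0, 2⟩) (.one ⟨16831, 1, 4⟩)) (.node 1 (.one ⟨15891, 0, 3⟩) (.one ⟨9829, 1, 2⟩)))))) (.node 16 (.node 8 (.node 4 (.node 2 (.node 1 (.one ⟨1299, 0, 6⟩) (.one ⟨13687, 2, 4⟩)) (.node 1 (.one ⟨10247, 2, 3⟩) (.one ⟨14504, 2, 5⟩))) (.node 2 (.node 1 (.one ⟨3224, 1, 2⟩) (.one ⟨7616, 2, 3⟩)) (.node 1 (.one ⟨15831, 0, 3⟩) (.one ⟨6501, 2, 5⟩)))) (.node 4 (.node 2 (.node 1 (.one ⟨15082, 1, 5⟩) (.one ⟨3049, 1, 2⟩)) (.node 1 (.one ⟨6500, 2, 3⟩) (.one ⟨11568, 1, 5⟩))) (.node 2 (.node 1 (.one ⟨15652, 0, 3⟩) (.one ⟨4239, 1, 3⟩))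 (.node 1 (.one ⟨6497, 2, 3⟩) (.one ⟨202, 0, 4⟩))))) (.node 8 (.node 4 (.node 2 (.node 1 (.one ⟨10940, 2, 3⟩) (.one ⟨11510, 0, 4⟩)) (.node 1 (.one ⟨12876, 0, 4⟩) (.one ⟨3104, 0, 4⟩))) (.node 2 (.node 1 (.one ⟨14930, 2, 3⟩) (.one ⟨10403, 0, 3⟩)) (.node 1 (.one ⟨2771, 2, 4⟩) (.one ⟨2841, 0, 3⟩)))) (.node 4 (.node 2 (.node 1 (.one ⟨9945, 2, 3⟩) (.one ⟨4258, 0, 4⟩)) (.node 1 (.one ⟨12389, 2, 4⟩) (.one ⟨2786, 2, 4⟩))) (.node 2 (.node 1 (.one ⟨6935, 0, 4⟩) (.one ⟨5179, 2, 3⟩)) (.node 1 (.one ⟨8208, 0, 3⟩) (.one ⟨10700, 2, 5⟩)))))))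
def par9_15_14 : Arr Par :=
  (.node 32 (.node 16 (.node 8 (.node 4 (.node 2 (.node 1 (.one ⟨9966, 2, 5⟩) (.one ⟨16172, 0, 2⟩)) (.node 1 (.one ⟨11615, 2, 4⟩) (.one ⟨4217, 2, 6⟩))) (.node 2 (.node 1 (.one ⟨3760, 2, 5⟩) (.one ⟨2427, 2, 6⟩)) (.node 1 (.one ⟨969, 2, 3⟩) (.one ⟨10973, 2, 3⟩)))) (.node 4 (.node 2 (.node 1 (.one ⟨2933, 2, 1⟩) (.one ⟨9574, 0, 4⟩)) (.node 1 (.one ⟨7110, 2, 3⟩) (.one ⟨3041, 0, 4⟩))) (.node 2 (.node 1 (.one ⟨16988, 1, 6⟩) (.one ⟨8933, 0, 5⟩)) (.node 1 (.one ⟨4242, 2, 3⟩) (.one ⟨15094, 0, 5⟩))))) (.node 8 (.node 4 (.node 2 (.node 1 (.one ⟨7006, 1, 3⟩) (.one ⟨1364, 0, 5⟩)) (.node 1 (.one ⟨13364, 2, 3⟩) (.one ⟨3464, 0, 5⟩))) (.node 2 (.node 1 (.one ⟨6514, 0, 5⟩) (.one ⟨11363, 1, 1⟩)) (.node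 1 (.one ⟨11392, 0, 2⟩) (.one ⟨14922, 0, 4⟩)))) (.node 4 (.node 2 (.node 1 (.one ⟨14405, 0, 4⟩) (.one ⟨8279, 1, 4⟩)) (.node 1 (.one ⟨12383, 2, 6⟩) (.one ⟨5304, 0, 4⟩))) (.node 2 (.node 1 (.one ⟨11956, 2, 4⟩) (.one ⟨15598, 0, 4⟩)) (.node 1 (.one ⟨11066, 2, 6⟩) (.one ⟨11622, 2, 4⟩)))))) (.node 16 (.node 8 (.node 4 (.node 2 (.node 1 (.one ⟨482, 2, 4⟩) (.one ⟨8065, 0, 5⟩)) (.node 1 (.one ⟨10808, 2, 3⟩) (.one ⟨3524, 2, 5⟩))) (.node 2 (.node 1 (.one ⟨3631, 0, 1⟩) (.one ⟨12651, 2, 4⟩)) (.node 1 (.one ⟨2768, 2, 4⟩) (.one ⟨14618, 1, 2⟩)))) (.node 4 (.node 2 (.node 1 (.one ⟨16292, 2, 2⟩) (.one ⟨5611, 2, 6⟩)) (.node 1 (.one ⟨3795, 1, 1⟩) (.one ⟨5122, 1, 4⟩))) (.node 2 (.node 1 (.one ⟨5706, 0, 2⟩) (.one ⟨9219, 2, 5⟩)) (.node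 1 (.one ⟨12388, 2, 6⟩) (.one ⟨12694, 0, 3⟩))))) (.node 8 (.node 4 (.node 2 (.node 1 (.one ⟨10815, 0, 3⟩) (.one ⟨13813, 0, 2⟩)) (.node 1 (.one ⟨15665, 0, 3⟩) (.one ⟨15748, 2, 5⟩))) (.node 2 (.node 1 (.one ⟨7665, 2, 3⟩) (.one ⟨7404, 0, 3⟩)) (.node 1 (.one ⟨8801, 0, 3⟩) (.one ⟨1218, 1, 3⟩)))) (.node 4 (.node 2 (.node 1 (.one ⟨587, 1, 1⟩) (.one ⟨13104, 2, 5⟩)) (.node 1 (.one ⟨6273, 2, 5⟩) (.one ⟨5373, 1, 0⟩))) (.node 2 (.node 1 (.one ⟨14986, 2, 4⟩) (.one ⟨4077, 1, 2⟩)) (.node 1 (.one ⟨4029, 1, 4⟩) (.one ⟨11081, 0, 3⟩)))))))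
def par9_15_15 : Arr Par :=
  (.node 32 (.node 16 (.node 8 (.node 4 (.node 2 (.node 1 (.one ⟨16298, 0, 2⟩) (.one ⟨5365, 1, 0⟩)) (.node 1 (.one ⟨9131, 0, 3⟩) (.one ⟨16657, 0, 6⟩))) (.node 2 (.node 1 (.one ⟨10363, 0, 2⟩) (.one ⟨7837, 0, 3⟩)) (.node 1 (.one ⟨3453, 0, 3⟩) (.one ⟨4793, 0, 4⟩)))) (.node 4 (.node 2 (.node 1 (.one ⟨9595, 2, 3⟩) (.one ⟨16057, 0, 5⟩)) (.node 1 (.one ⟨6369, 0, 2⟩) (.one ⟨8848, 0, 2⟩))) (.node 2 (.node 1 (.one ⟨14904, 0, 4⟩) (.one ⟨12306, 0, 4⟩)) (.node 1 (.one ⟨467, 0, 4⟩) (.one ⟨15397, 1, 3⟩))))) (.node 8 (.node 4 (.node 2 (.node 1 (.one ⟨17022, 1, 5⟩) (.one ⟨5581, 1, 4⟩)) (.node 1 (.one ⟨7814, 1, 5⟩) (.one ⟨14797, 2, 6⟩))) (.node 2 (.node 1 (.one ⟨9595, 1, 3⟩) (.one ⟨5254, 1, 5⟩)) (.node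 1 (.one ⟨8026, 0, 6⟩) (.one ⟨5154, 0, 4⟩)))) (.node 4 (.node 2 (.node 1 (.one ⟨5922, 0, 4⟩) (.one ⟨16441, 0, 5⟩)) (.node 1 (.one ⟨601, 1, 1⟩) (.one ⟨9812, 0, 4⟩))) (.node 2 (.node 1 (.one ⟨16907, 0, 4⟩) (.one ⟨6404, 0, 3⟩)) (.node 1 (.one ⟨7671, 2, 3⟩) (.one ⟨6494, 1, 2⟩)))))) (.node 16 (.node 8 (.node 4 (.node 2 (.node 1 (.one ⟨10360, 0, 3⟩) (.one ⟨9528, 2, 1⟩)) (.node 1 (.one ⟨9765, 2, 4⟩) (.one ⟨7670, 2, 4⟩))) (.node 2 (.node 1 (.one ⟨7608, 2, 5⟩) (.one ⟨4759, 2, 4⟩)) (.node 1 (.one ⟨4613, 2, 4⟩) (.one ⟨4034, 2, 4⟩)))) (.node 4 (.node 2 (.node 1 (.one ⟨10405, 2, 3⟩) (.one ⟨1858, 2, 4⟩)) (.node 1 (.one ⟨11910, 2, 4⟩) (.one ⟨8142, 2, 3⟩))) (.node 2 (.node 1 (.one ⟨8070, 0, 3⟩) (.one ⟨15566, 0, 1⟩)) (.node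 1 (.one ⟨13252, 0, 3⟩) (.one ⟨7891, 2, 4⟩))))) (.node 8 (.node 4 (.node 2 (.node 1 (.one ⟨16450, 0, 6⟩) (.one ⟨9461, 0, 5⟩)) (.node 1 (.one ⟨2488, 0, 4⟩) (.one ⟨6940, 2, 2⟩))) (.node 2 (.node 1 (.one ⟨10636, 0, 6⟩) (.one ⟨17160, 0, 5⟩)) (.node 1 (.one ⟨7932, 2, 5⟩) (.one ⟨359, 0, 5⟩)))) (.node 4 (.node 2 (.node 1 (.one ⟨14113, 2, 4⟩) (.one ⟨643, 0, 1⟩)) (.node 1 (.one ⟨15678, 1, 3⟩) (.one ⟨355, 0, 5⟩))) (.node 2 (.node 1 (.one ⟨76, 0, 5⟩) (.one ⟨15580, 2, 5⟩)) (.node 1 (.one ⟨910, 0, 4⟩) (.one ⟨2403, 1, 2⟩)))))))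
def par9_15 : Arr Par :=
  (.node 512 (.node 256 (.node 128 (.node 64 par9_15_0 par9_15_1) (.node 64 par9_15_2 par9_15_3)) (.node 128 (.node 64 par9_15_4 par9_15_5) (.node 64 par9_15_6 par9_15_7))) (.node 256 (.node 128 (.node 64 par9_15_8 par9_15_9) (.node 64 par9_15_10 par9_15_11)) (.node 128 (.node 64 par9_15_12 par9_15_13) (.node 64 par9_15_14 par9_15_15))))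
def par9_16_0 : Arr Par :=
  (.node 32 (.node 16 (.node 8 (.node 4 (.node 2 (.node 1 (.one ⟨10397, 0, 4⟩) (.one ⟨14548, 2, 5⟩)) (.node 1 (.one ⟨9293, 2, 2⟩) (.one ⟨5910, 0, 4⟩))) (.node 2 (.node 1 (.one ⟨5174, 2, 2⟩) (.one ⟨9551, 1, 4⟩)) (.node 1 (.one ⟨2693, 2, 5⟩) (.one ⟨5092, 1, 0⟩)))) (.node 4 (.node 2 (.node 1 (.one ⟨11771, 2, 5⟩) (.one ⟨2957, 2, 4⟩)) (.node 1 (.one ⟨6666, 0, 2⟩) (.one ⟨5458, 1, 2⟩))) (.node 2 (.node 1 (.one ⟨11069, 0, 3⟩) (.one ⟨5370, 1, 0⟩)) (.node 1 (.one ⟨11800, 0, 3⟩) (.one ⟨3382, 0, 5⟩))))) (.node 8 (.node 4 (.node 2 (.node 1 (.one ⟨2928, 2, 6⟩) (.one ⟨15855, 0, 4⟩)) (.node 1 (.one ⟨2996, 2, 5⟩) (.one ⟨11903, 2, 4⟩))) (.node 2 (.node 1 (.one ⟨11159, 0, 2⟩) (.one ⟨6164, 1, 4⟩)) (.node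 1 (.one ⟨4854, 2, 3⟩) (.one ⟨13937, 0, 6⟩)))) (.node 4 (.node 2 (.node 1 (.one ⟨2837, 2, 5⟩) (.one ⟨5671, 2, 2⟩)) (.node 1 (.one ⟨1618, 0, 5⟩) (.one ⟨10859, 0, 6⟩))) (.node 2 (.node 1 (.one ⟨10909, 2, 4⟩) (.one ⟨10906, 0, 6⟩)) (.node 1 (.one ⟨9146, 2, 1⟩) (.one ⟨2236, 0, 3⟩)))))) (.node 16 (.node 8 (.node 4 (.node 2 (.node 1 (.one ⟨10717, 2, 3⟩) (.one ⟨77, 0, 1⟩)) (.node 1 (.one ⟨1433, 0, 3⟩) (.one ⟨244, 1, 4⟩))) (.node 2 (.node 1 (.one ⟨16679, 2, 7⟩) (.one ⟨9599, 0, 3⟩)) (.node 1 (.one ⟨9177, 0, 3⟩) (.one ⟨2111, 2, 4⟩)))) (.node 4 (.node 2 (.node 1 (.one ⟨3962, 0, 5⟩) (.one ⟨4221, 0, 3⟩)) (.node 1 (.one ⟨9977, 0, 5⟩) (.one ⟨12050, 0, 3⟩))) (.node 2 (.node 1 (.one ⟨676, 0, 5⟩) (.one ⟨17179, 2, 4⟩)) (.node 1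 (.one ⟨616, 2, 4⟩) (.one ⟨13096, 2, 6⟩))))) (.node 8 (.node 4 (.node 2 (.node 1 (.one ⟨13670, 2, 5⟩) (.one ⟨6518, 2, 4⟩)) (.node 1 (.one ⟨5047, 2, 2⟩) (.one ⟨11920, 0, 5⟩))) (.node 2 (.node 1 (.one ⟨5345, 2, 4⟩) (.one ⟨12682, 2, 5⟩)) (.node 1 (.one ⟨16353, 0, 2⟩) (.one ⟨8405, 0, 3⟩)))) (.node 4 (.node 2 (.node 1 (.one ⟨557, 2, 5⟩) (.one ⟨15507, 0, 4⟩)) (.node 1 (.one ⟨6438, 2, 5⟩) (.one ⟨6398, 2, 4⟩))) (.node 2 (.node 1 (.one ⟨13567, 2, 4⟩) (.one ⟨12728, 0, 6⟩)) (.node 1 (.one ⟨16631, 2, 5⟩) (.one ⟨10224, 2, 3⟩)))))))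
def par9_16_1 : Arr Par :=
  (.node 32 (.node 16 (.node 8 (.node 4 (.node 2 (.node 1 (.one ⟨15143, 2, 4⟩) (.one ⟨11982, 0, 5⟩)) (.node 1 (.one ⟨8956, 2, 5⟩) (.one ⟨17118, 2, 4⟩))) (.node 2 (.node 1 (.one ⟨1778, 0, 4⟩) (.one ⟨3764, 0, 5⟩)) (.node 1 (.one ⟨303, 2, 3⟩) (.one ⟨5350, 1, 4⟩)))) (.node 4 (.node 2 (.node 1 (.one ⟨3210, 0, 4⟩) (.one ⟨4802, 2, 4⟩)) (.node 1 (.one ⟨2384, 2, 2⟩) (.one ⟨12821, 2, 2⟩))) (.node 2 (.node 1 (.one ⟨6342, 0, 5⟩) (.one ⟨7687, 2, 2⟩)) (.node 1 (.one ⟨7262, 2, 4⟩) (.one ⟨6681, 1, 4⟩))))) (.node 8 (.node 4 (.node 2 (.node 1 (.one ⟨8609, 2, 4⟩) (.one ⟨3873, 0, 4⟩)) (.node 1 (.one ⟨5090, 2, 4⟩) (.one ⟨128, 2, 4⟩))) (.node 2 (.node 1 (.one ⟨16608, 2, 4⟩) (.one ⟨6456, 2, 4⟩)) (.node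 1 (.one ⟨13122, 2, 4⟩) (.one ⟨11024, 0, 5⟩)))) (.node 4 (.node 2 (.node 1 (.one ⟨10263, 1, 6⟩) (.one ⟨13126, 0, 5⟩)) (.node 1 (.one ⟨15282, 0, 5⟩) (.one ⟨7680, 0, 2⟩))) (.node 2 (.node 1 (.one ⟨988, 0, 5⟩) (.one ⟨6491, 0, 6⟩)) (.node 1 (.one ⟨16754, 2, 3⟩) (.one ⟨3826, 0, 5⟩)))))) (.node 16 (.node 8 (.node 4 (.node 2 (.node 1 (.one ⟨9473, 0, 3⟩) (.one ⟨5587, 0, 5⟩)) (.node 1 (.one ⟨16084, 0, 3⟩) (.one ⟨7977, 2, 4⟩))) (.node 2 (.node 1 (.one ⟨14935, 2, 4⟩) (.one ⟨11840, 0, 4⟩)) (.node 1 (.one ⟨194, 0, 4⟩) (.one ⟨979, 0, 4⟩)))) (.node 4 (.node 2 (.node 1 (.one ⟨14573, 0, 2⟩) (.one ⟨13571, 2, 6⟩)) (.node 1 (.one ⟨5351, 1, 4⟩) (.one ⟨4354, 2, 4⟩))) (.node 2 (.node 1 (.one ⟨16767, 0, 4⟩) (.one ⟨2845, 2, 4⟩)) (.node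 1 (.one ⟨3062, 0, 4⟩) (.one ⟨14031, 0, 3⟩))))) (.node 8 (.node 4 (.node 2 (.node 1 (.one ⟨5136, 2, 3⟩) (.one ⟨4683, 2, 3⟩)) (.node 1 (.one ⟨14618, 2, 2⟩) (.one ⟨7543, 0, 2⟩))) (.node 2 (.node 1 (.one ⟨8768, 0, 4⟩) (.one ⟨16576, 2, 4⟩)) (.node 1 (.one ⟨338, 0, 1⟩) (.one ⟨9283, 1, 1⟩)))) (.node 4 (.node 2 (.node 1 (.one ⟨1958, 0, 3⟩) (.one ⟨4107, 0, 3⟩)) (.node 1 (.one ⟨16310, 0, 4⟩) (.one ⟨5307, 0, 4⟩))) (.node 2 (.node 1 (.one ⟨7462, 1, 3⟩) (.one ⟨14998, 0, 4⟩)) (.node 1 (.one ⟨4352, 2, 4⟩) (.one ⟨13437, 2, 4⟩)))))))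
def par9_16_2 : Arr Par :=
  (.node 32 (.node 16 (.node 8 (.node 4 (.node 2 (.node 1 (.one ⟨16234, 2, 4⟩) (.one ⟨9074, 1, 4⟩)) (.node 1 (.one ⟨10838, 0, 2⟩) (.one ⟨7857, 1, 3⟩))) (.node 2 (.node 1 (.one ⟨3192, 1, 2⟩) (.one ⟨7842, 1, 3⟩)) (.node 1 (.one ⟨3424, 1, 3⟩) (.one ⟨8007, 2, 4⟩)))) (.node 4 (.node 2 (.node 1 (.one ⟨4748, 2, 6⟩) (.one ⟨15939, 2, 4⟩)) (.node 1 (.one ⟨5212, 0, 4⟩) (.one ⟨9864, 2, 4⟩))) (.node 2 (.node 1 (.one ⟨14951, 2, 4⟩) (.one ⟨3015, 0, 3⟩)) (.node 1 (.one ⟨7029, 2, 5⟩) (.one ⟨15926, 2, 4⟩))))) (.node 8 (.node 4 (.node 2 (.node 1 (.one ⟨6520, 2, 1⟩) (.one ⟨17097, 2, 5⟩)) (.node 1 (.one ⟨8271, 0, 4⟩) (.one ⟨8033, 0, 5⟩))) (.node 2 (.node 1 (.one ⟨280, 2, 4⟩) (.one ⟨12786, 2, 6⟩)) (.node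 1 (.one ⟨1492, 0, 3⟩) (.one ⟨5532, 0, 5⟩)))) (.node 4 (.node 2 (.node 1 (.one ⟨3213, 0, 4⟩) (.one ⟨3759, 2, 2⟩)) (.node 1 (.one ⟨9620, 0, 4⟩) (.one ⟨16427, 0, 4⟩))) (.node 2 (.node 1 (.one ⟨8186, 2, 4⟩) (.one ⟨8398, 1, 4⟩)) (.node 1 (.one ⟨6522, 2, 2⟩) (.one ⟨10136, 2, 3⟩)))))) (.node 16 (.node 8 (.node 4 (.node 2 (.node 1 (.one ⟨10138, 2, 3⟩) (.one ⟨10141, 2, 3⟩)) (.node 1 (.one ⟨10139, 2, 3⟩) (.one ⟨12301, 2, 3⟩))) (.node 2 (.node 1 (.one ⟨12302, 2, 3⟩) (.one ⟨15971, 0, 4⟩)) (.node 1 (.one ⟨7001, 1, 3⟩) (.one ⟨1711, 0, 1⟩)))) (.node 4 (.node 2 (.node 1 (.one ⟨4685, 2, 6⟩) (.one ⟨10818, 2, 4⟩)) (.node 1 (.one ⟨16636, 2, 6⟩) (.one ⟨714, 2, 3⟩))) (.node 2 (.node 1 (.one ⟨8041, 2, 6⟩) (.one ⟨1712, 0, 1⟩)) (.node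 1 (.one ⟨11649, 2, 4⟩) (.one ⟨8558, 2, 3⟩))))) (.node 8 (.node 4 (.node 2 (.node 1 (.one ⟨7517, 2, 3⟩) (.one ⟨1811, 0, 6⟩)) (.node 1 (.one ⟨15682, 0, 3⟩) (.one ⟨3857, 0, 4⟩))) (.node 2 (.node 1 (.one ⟨2474, 2, 5⟩) (.one ⟨16449, 1, 6⟩)) (.node 1 (.one ⟨3794, 2, 4⟩) (.one ⟨11770, 2, 5⟩)))) (.node 4 (.node 2 (.node 1 (.one ⟨13229, 1, 2⟩) (.one ⟨3793, 2, 4⟩)) (.node 1 (.one ⟨8516, 2, 5⟩) (.one ⟨7237, 0, 4⟩))) (.node 2 (.node 1 (.one ⟨731, 2, 4⟩) (.one ⟨14715, 2, 4⟩)) (.node 1 (.one ⟨9868, 2, 5⟩) (.one ⟨6729, 2, 6⟩)))))))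
def par9_16_3 : Arr Par :=
  (.node 32 (.node 16 (.node 8 (.node 4 (.node 2 (.node 1 (.one ⟨13786, 0, 3⟩) (.one ⟨6731, 2, 5⟩)) (.node 1 (.one ⟨2773, 0, 5⟩) (.one ⟨6602, 0, 5⟩))) (.node 2 (.node 1 (.one ⟨6730, 2, 4⟩) (.one ⟨9396, 0, 4⟩)) (.node 1 (.one ⟨14356, 0, 5⟩) (.one ⟨8556, 2, 5⟩)))) (.node 4 (.node 2 (.node 1 (.one ⟨9237, 2, 3⟩) (.one ⟨2349, 0, 4⟩)) (.node 1 (.one ⟨4255, 2, 5⟩) (.one ⟨11455, 1, 3⟩))) (.node 2 (.node 1 (.one ⟨15667, 0, 4⟩) (.one ⟨15021, 0, 4⟩)) (.node 1 (.one ⟨7162, 2, 4⟩) (.one ⟨7031, 2, 2⟩))))) (.node 8 (.node 4 (.node 2 (.node 1 (.one ⟨15601, 0, 6⟩) (.one ⟨10228, 0, 5⟩)) (.node 1 (.one ⟨15846, 0, 3⟩) (.one ⟨1934, 2, 5⟩))) (.node 2 (.node 1 (.one ⟨2435, 2, 4⟩) (.one ⟨459, 0, 3⟩)) (.node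 1 (.one ⟨7964, 0, 3⟩) (.one ⟨7355, 2, 5⟩)))) (.node 4 (.node 2 (.node 1 (.one ⟨3664, 2, 3⟩) (.one ⟨2434, 2, 2⟩)) (.node 1 (.one ⟨8518, 2, 3⟩) (.one ⟨3768, 2, 4⟩))) (.node 2 (.node 1 (.one ⟨7161, 2, 2⟩) (.one ⟨8663, 2, 4⟩)) (.node 1 (.one ⟨2225, 2, 1⟩) (.one ⟨2371, 2, 3⟩)))))) (.node 16 (.node 8 (.node 4 (.node 2 (.node 1 (.one ⟨11124, 0, 3⟩) (.one ⟨4258, 2, 4⟩)) (.node 1 (.one ⟨1518, 2, 3⟩) (.one ⟨4167, 2, 4⟩))) (.node 2 (.node 1 (.one ⟨726, 0, 5⟩) (.one ⟨13231, 0, 5⟩)) (.node 1 (.one ⟨12364, 1, 4⟩) (.one ⟨15540, 0, 5⟩)))) (.node 4 (.node 2 (.node 1 (.one ⟨10730, 0, 5⟩) (.one ⟨2616, 0, 5⟩)) (.node 1 (.one ⟨341, 2, 4⟩) (.one ⟨6820, 0, 5⟩))) (.node 2 (.node 1 (.one ⟨851, 2, 4⟩) (.one ⟨9496, 0, 4⟩)) (.node 1 (.one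 ⟨823, 2, 3⟩) (.one ⟨10253, 2, 3⟩))))) (.node 8 (.node 4 (.node 2 (.node 1 (.one ⟨6245, 0, 5⟩) (.one ⟨5584, 1, 1⟩)) (.node 1 (.one ⟨9646, 2, 6⟩) (.one ⟨6240, 0, 3⟩))) (.node 2 (.node 1 (.one ⟨11611, 1, 4⟩) (.one ⟨5436, 2, 1⟩)) (.node 1 (.one ⟨6242, 0, 2⟩) (.one ⟨7165, 2, 4⟩)))) (.node 4 (.node 2 (.node 1 (.one ⟨6807, 0, 5⟩) (.one ⟨15627, 0, 5⟩)) (.node 1 (.one ⟨15922, 2, 6⟩) (.one ⟨12161, 0, 3⟩))) (.node 2 (.node 1 (.one ⟨9006, 0, 5⟩) (.one ⟨926, 2, 3⟩)) (.node 1 (.one ⟨11269, 2, 4⟩) (.one ⟨6910, 1, 2⟩)))))))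
def par9_16_4 : Arr Par :=
  (.node 32 (.node 16 (.node 8 (.node 4 (.node 2 (.node 1 (.one ⟨11013, 0, 5⟩) (.one ⟨6756, 0, 5⟩)) (.node 1 (.one ⟨5604, 2, 4⟩) (.one ⟨12613, 0, 4⟩))) (.node 2 (.node 1 (.one ⟨3339, 2, 5⟩) (.one ⟨3146, 2, 5⟩)) (.node 1 (.one ⟨8702, 0, 5⟩) (.one ⟨16164, 2, 4⟩)))) (.node 4 (.node 2 (.node 1 (.one ⟨13931, 2, 5⟩) (.one ⟨1285, 0, 1⟩)) (.node 1 (.one ⟨16990, 0, 4⟩) (.one ⟨9561, 0, 2⟩))) (.node 2 (.node 1 (.one ⟨9107, 2, 6⟩) (.one ⟨3670, 2, 2⟩)) (.node 1 (.one ⟨1387, 0, 1⟩) (.one ⟨7707, 1, 1⟩))))) (.node 8 (.node 4 (.node 2 (.node 1 (.one ⟨14166, 2, 6⟩) (.one ⟨2122, 2, 5⟩)) (.node 1 (.one ⟨9690, 2, 2⟩) (.one ⟨14875, 2, 3⟩))) (.node 2 (.node 1 (.one ⟨2977, 1, 4⟩) (.one ⟨7715, 0, 2⟩)) (.node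 1 (.one ⟨5024, 0, 6⟩) (.one ⟨13071, 2, 4⟩)))) (.node 4 (.node 2 (.node 1 (.one ⟨9181, 0, 5⟩) (.one ⟨13439, 2, 3⟩)) (.node 1 (.one ⟨10272, 1, 5⟩) (.one ⟨14292, 0, 6⟩))) (.node 2 (.node 1 (.one ⟨13083, 2, 2⟩) (.one ⟨2232, 2, 6⟩)) (.node 1 (.one ⟨10306, 0, 6⟩) (.one ⟨4537, 0, 4⟩)))))) (.node 16 (.node 8 (.node 4 (.node 2 (.node 1 (.one ⟨8270, 2, 4⟩) (.one ⟨8830, 0, 4⟩)) (.node 1 (.one ⟨14264, 2, 5⟩) (.one ⟨7736, 1, 5⟩))) (.node 2 (.node 1 (.one ⟨10827, 0, 6⟩) (.one ⟨10422, 2, 4⟩)) (.node 1 (.one ⟨13861, 2, 4⟩) (.one ⟨10905, 2, 6⟩)))) (.node 4 (.node 2 (.node 1 (.one ⟨14460, 2, 2⟩) (.one ⟨13849, 2, 5⟩)) (.node 1 (.one ⟨11356, 2, 5⟩) (.one ⟨6658, 2, 4⟩))) (.node 2 (.node 1 (.one ⟨2350, 2, 6⟩) (.one ⟨76, 2, 5⟩))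 (.node 1 (.one ⟨7166, 2, 4⟩) (.one ⟨2453, 2, 3⟩))))) (.node 8 (.node 4 (.node 2 (.node 1 (.one ⟨12241, 0, 5⟩) (.one ⟨12258, 0, 3⟩)) (.node 1 (.one ⟨6719, 2, 4⟩) (.one ⟨9616, 0, 1⟩))) (.node 2 (.node 1 (.one ⟨4996, 2, 5⟩) (.one ⟨8345, 2, 4⟩)) (.node 1 (.one ⟨15444, 2, 4⟩) (.one ⟨16012, 0, 2⟩)))) (.node 4 (.node 2 (.node 1 (.one ⟨9853, 0, 3⟩) (.one ⟨1692, 2, 3⟩)) (.node 1 (.one ⟨1963, 2, 2⟩) (.one ⟨299, 2, 3⟩))) (.node 2 (.node 1 (.one ⟨1839, 2, 6⟩) (.one ⟨3918, 2, 3⟩)) (.node 1 (.one ⟨4204, 2, 5⟩) (.one ⟨14230, 2, 2⟩)))))))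
def par9_16_5 : Arr Par :=
  (.node 32 (.node 16 (.node 8 (.node 4 (.node 2 (.node 1 (.one ⟨2708, 0, 4⟩) (.one ⟨5212, 1, 4⟩)) (.node 1 (.one ⟨5919, 0, 4⟩) (.one ⟨6405, 0, 4⟩))) (.node 2 (.node 1 (.one ⟨14628, 0, 5⟩) (.one ⟨2126, 0, 4⟩)) (.node 1 (.one ⟨9731, 0, 4⟩) (.one ⟨4570, 2, 2⟩)))) (.node 4 (.node 2 (.node 1 (.one ⟨847, 2, 4⟩) (.one ⟨16753, 0, 5⟩)) (.node 1 (.one ⟨12668, 0, 4⟩) (.one ⟨1689, 2, 4⟩))) (.node 2 (.node 1 (.one ⟨13428, 0, 5⟩) (.one ⟨10526, 0, 6⟩)) (.node 1 (.one ⟨11447, 1, 6⟩) (.one ⟨2331, 0, 3⟩))))) (.node 8 (.node 4 (.node 2 (.node 1 (.one ⟨7962, 0, 3⟩) (.one ⟨13632, 1, 3⟩)) (.node 1 (.one ⟨6304, 1, 2⟩) (.one ⟨6643, 2, 5⟩))) (.node 2 (.node 1 (.one ⟨4927, 2, 5⟩) (.one ⟨14750, 0, 5⟩)) (.node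 1 (.one ⟨7612, 2, 6⟩) (.one ⟨1077, 2, 6⟩)))) (.node 4 (.node 2 (.node 1 (.one ⟨1412, 2, 6⟩) (.one ⟨1457, 2, 6⟩)) (.node 1 (.one ⟨1234, 2, 4⟩) (.one ⟨15525, 0, 6⟩))) (.node 2 (.node 1 (.one ⟨15526, 0, 5⟩) (.one ⟨10830, 2, 4⟩)) (.node 1 (.one ⟨15522, 0, 4⟩) (.one ⟨7727, 2, 4⟩)))))) (.node 16 (.node 8 (.node 4 (.node 2 (.node 1 (.one ⟨15005, 0, 3⟩) (.one ⟨677, 2, 6⟩)) (.node 1 (.one ⟨1917, 0, 2⟩) (.one ⟨1086, 0, 4⟩))) (.node 2 (.node 1 (.one ⟨3399, 2, 7⟩) (.one ⟨14764, 0, 6⟩)) (.node 1 (.one ⟨9035, 2, 4⟩) (.one ⟨14769, 0, 6⟩)))) (.node 4 (.node 2 (.node 1 (.one ⟨11792, 0, 5⟩) (.one ⟨15207, 0, 3⟩)) (.node 1 (.one ⟨7104, 2, 3⟩) (.one ⟨5207, 1, 6⟩))) (.node 2 (.node 1 (.one ⟨2407, 0, 5⟩) (.one ⟨7394, 2, 5⟩)) (.node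 1 (.one ⟨16173, 2, 5⟩) (.one ⟨16308, 0, 4⟩))))) (.node 8 (.node 4 (.node 2 (.node 1 (.one ⟨3726, 2, 4⟩) (.one ⟨1358, 1, 4⟩)) (.node 1 (.one ⟨13699, 0, 2⟩) (.one ⟨1402, 2, 4⟩))) (.node 2 (.node 1 (.one ⟨3169, 0, 5⟩) (.one ⟨1318, 2, 4⟩)) (.node 1 (.one ⟨4920, 0, 3⟩) (.one ⟨12803, 2, 2⟩)))) (.node 4 (.node 2 (.node 1 (.one ⟨2250, 2, 6⟩) (.one ⟨2333, 2, 3⟩)) (.node 1 (.one ⟨2568, 0, 1⟩) (.one ⟨11005, 2, 5⟩))) (.node 2 (.node 1 (.one ⟨4144, 2, 5⟩) (.one ⟨4371, 2, 5⟩)) (.node 1 (.one ⟨4989, 1, 5⟩) (.one ⟨14319, 0, 3⟩)))))))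
def par9_16_6 : Arr Par :=
  (.node 32 (.node 16 (.node 8 (.node 4 (.node 2 (.node 1 (.one ⟨8067, 2, 4⟩) (.one ⟨6633, 0, 2⟩)) (.node 1 (.one ⟨7600, 1, 2⟩) (.one ⟨6624, 0, 3⟩))) (.node 2 (.node 1 (.one ⟨11205, 0, 4⟩) (.one ⟨14337, 0, 5⟩)) (.node 1 (.one ⟨7812, 2, 5⟩) (.one ⟨16654, 2, 2⟩)))) (.node 4 (.node 2 (.node 1 (.one ⟨6591, 0, 4⟩) (.one ⟨8340, 2, 3⟩)) (.node 1 (.one ⟨6440, 2, 3⟩) (.one ⟨14117, 0, 5⟩))) (.node 2 (.node 1 (.one ⟨10774, 0, 6⟩) (.one ⟨10832, 0, 5⟩)) (.node 1 (.one ⟨11927, 2, 2⟩) (.one ⟨15623, 2, 2⟩))))) (.node 8 (.node 4 (.node 2 (.node 1 (.one ⟨16408, 0, 6⟩) (.one ⟨14206, 2, 5⟩)) (.node 1 (.one ⟨16782, 0, 3⟩) (.one ⟨2722, 0, 3⟩))) (.node 2 (.node 1 (.one ⟨9555, 2, 2⟩) (.one ⟨2939, 0, 4⟩))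 (.node 1 (.one ⟨11395, 2, 5⟩) (.one ⟨5586, 0, 4⟩)))) (.node 4 (.node 2 (.node 1 (.one ⟨675, 0, 5⟩) (.one ⟨3028, 2, 5⟩)) (.node 1 (.one ⟨11223, 0, 4⟩) (.one ⟨3721, 0, 4⟩))) (.node 2 (.node 1 (.one ⟨15598, 2, 4⟩) (.one ⟨16793, 2, 6⟩)) (.node 1 (.one ⟨7436, 1, 3⟩) (.one ⟨5063, 0, 3⟩)))))) (.node 16 (.node 8 (.node 4 (.node 2 (.node 1 (.one ⟨2995, 0, 1⟩) (.one ⟨4358, 2, 3⟩)) (.node 1 (.one ⟨1661, 2, 4⟩) (.one ⟨16791, 2, 5⟩))) (.node 2 (.node 1 (.one ⟨15507, 2, 4⟩) (.one ⟨4174, 2, 2⟩)) (.node 1 (.one ⟨179, 0, 5⟩) (.one ⟨12640, 2, 3⟩)))) (.node 4 (.node 2 (.node 1 (.one ⟨11050, 0, 5⟩) (.one ⟨3134, 0, 5⟩)) (.node 1 (.one ⟨12641, 2, 4⟩) (.one ⟨12644, 2, 5⟩))) (.node 2 (.node 1 (.one ⟨14116, 0, 5⟩) (.one ⟨6192, 0, 5⟩))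 (.node 1 (.one ⟨1182, 0, 4⟩) (.one ⟨6109, 2, 6⟩))))) (.node 8 (.node 4 (.node 2 (.node 1 (.one ⟨14085, 1, 4⟩) (.one ⟨8365, 2, 5⟩)) (.node 1 (.one ⟨3133, 1, 4⟩) (.one ⟨626, 0, 5⟩))) (.node 2 (.node 1 (.one ⟨3218, 0, 5⟩) (.one ⟨5579, 2, 4⟩)) (.node 1 (.one ⟨16212, 2, 4⟩) (.one ⟨11608, 2, 6⟩)))) (.node 4 (.node 2 (.node 1 (.one ⟨12259, 0, 1⟩) (.one ⟨16550, 1, 4⟩)) (.node 1 (.one ⟨1893, 2, 4⟩) (.one ⟨15618, 0, 4⟩))) (.node 2 (.node 1 (.one ⟨7944, 0, 4⟩) (.one ⟨17057, 0, 4⟩)) (.node 1 (.one ⟨5831, 0, 5⟩) (.one ⟨6687, 1, 3⟩)))))))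
def par9_16_7 : Arr Par :=
  (.node 32 (.node 16 (.node 8 (.node 4 (.node 2 (.node 1 (.one ⟨7013, 0, 5⟩) (.one ⟨1376, 2, 3⟩)) (.node 1 (.one ⟨11418, 0, 4⟩) (.one ⟨4023, 2, 6⟩))) (.node 2 (.node 1 (.one ⟨5312, 0, 6⟩) (.one ⟨2287, 0, 4⟩)) (.node 1 (.one ⟨16508, 0, 4⟩) (.one ⟨5377, 0, 6⟩)))) (.node 4 (.node 2 (.node 1 (.one ⟨2107, 2, 6⟩) (.one ⟨10467, 2, 6⟩)) (.node 1 (.one ⟨16272, 1, 4⟩) (.one ⟨9367, 2, 3⟩))) (.node 2 (.node 1 (.one ⟨9491, 0, 5⟩) (.one ⟨17059, 0, 6⟩)) (.node 1 (.one ⟨3114, 0, 6⟩) (.one ⟨6142, 0, 5⟩))))) (.node 8 (.node 4 (.node 2 (.node 1 (.one ⟨1851, 2, 4⟩) (.one ⟨11798, 2, 5⟩)) (.node 1 (.one ⟨5338, 0, 4⟩) (.one ⟨2201, 2, 5⟩))) (.node 2 (.node 1 (.one ⟨732, 0, 4⟩) (.one ⟨8899, 0, 6⟩)) (.node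 1 (.one ⟨11876, 2, 2⟩) (.one ⟨10838, 2, 2⟩)))) (.node 4 (.node 2 (.node 1 (.one ⟨9256, 1, 4⟩) (.one ⟨10529, 0, 4⟩)) (.node 1 (.one ⟨16746, 0, 4⟩) (.one ⟨5065, 2, 5⟩))) (.node 2 (.node 1 (.one ⟨17061, 0, 2⟩) (.one ⟨5522, 2, 2⟩)) (.node 1 (.one ⟨12139, 1, 1⟩) (.one ⟨15018, 2, 2⟩)))))) (.node 16 (.node 8 (.node 4 (.node 2 (.node 1 (.one ⟨11264, 0, 4⟩) (.one ⟨12492, 2, 2⟩)) (.node 1 (.one ⟨9659, 0, 4⟩) (.one ⟨5467, 1, 0⟩))) (.node 2 (.node 1 (.one ⟨15682, 2, 3⟩) (.one ⟨2992, 2, 2⟩)) (.node 1 (.one ⟨4146, 0, 4⟩) (.one ⟨11751, 0, 2⟩)))) (.node 4 (.node 2 (.node 1 (.one ⟨11324, 1, 4⟩) (.one ⟨7790, 2, 5⟩)) (.node 1 (.one ⟨3610, 2, 5⟩) (.one ⟨6832, 2, 2⟩))) (.node 2 (.node 1 (.one ⟨2976, 2, 4⟩) (.one ⟨13781, 2, 3⟩))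 (.node 1 (.one ⟨9871, 2, 2⟩) (.one ⟨11199, 2, 3⟩))))) (.node 8 (.node 4 (.node 2 (.node 1 (.one ⟨15858, 2, 4⟩) (.one ⟨13408, 2, 3⟩)) (.node 1 (.one ⟨16505, 0, 4⟩) (.one ⟨15665, 2, 3⟩))) (.node 2 (.node 1 (.one ⟨11424, 2, 6⟩) (.one ⟨14000, 2, 3⟩)) (.node 1 (.one ⟨13600, 2, 4⟩) (.one ⟨10220, 2, 5⟩)))) (.node 4 (.node 2 (.node 1 (.one ⟨10085, 0, 5⟩) (.one ⟨4883, 1, 2⟩)) (.node 1 (.one ⟨13720, 0, 5⟩) (.one ⟨13993, 0, 4⟩))) (.node 2 (.node 1 (.one ⟨10218, 2, 2⟩) (.one ⟨10221, 2, 3⟩)) (.node 1 (.one ⟨395, 0, 4⟩) (.one ⟨13064, 2, 2⟩)))))))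
def par9_16_8 : Arr Par :=
  (.node 32 (.node 16 (.node 8 (.node 4 (.node 2 (.node 1 (.one ⟨4179, 2, 5⟩) (.one ⟨5546, 2, 2⟩)) (.node 1 (.one ⟨6967, 0, 6⟩) (.one ⟨3244, 2, 3⟩))) (.node 2 (.node 1 (.one ⟨9566, 2, 1⟩) (.one ⟨10889, 2, 3⟩)) (.node 1 (.one ⟨2163, 0, 6⟩) (.one ⟨5644, 2, 5⟩)))) (.node 4 (.node 2 (.node 1 (.one ⟨2443, 2, 5⟩) (.one ⟨4715, 0, 4⟩)) (.node 1 (.one ⟨6418, 2, 7⟩) (.one ⟨15651, 0, 3⟩))) (.node 2 (.node 1 (.one ⟨8675, 0, 4⟩) (.one ⟨16128, 2, 5⟩)) (.node 1 (.one ⟨12271, 2, 5⟩) (.one ⟨12181, 2, 2⟩))))) (.node 8 (.node 4 (.node 2 (.node 1 (.one ⟨8694, 0, 4⟩) (.one ⟨12179, 2, 5⟩)) (.node 1 (.one ⟨12176, 2, 6⟩) (.one ⟨12759, 0, 3⟩))) (.node 2 (.node 1 (.one ⟨12177, 2, 4⟩) (.one ⟨12180, 2, 3⟩))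 (.node 1 (.one ⟨12175, 2, 3⟩) (.one ⟨5944, 2, 4⟩)))) (.node 4 (.node 2 (.node 1 (.one ⟨3140, 2, 5⟩) (.one ⟨5412, 0, 5⟩)) (.node 1 (.one ⟨7803, 2, 6⟩) (.one ⟨3049, 0, 2⟩))) (.node 2 (.node 1 (.one ⟨16333, 2, 5⟩) (.one ⟨14505, 2, 5⟩)) (.node 1 (.one ⟨825, 0, 2⟩) (.one ⟨10147, 2, 2⟩)))))) (.node 16 (.node 8 (.node 4 (.node 2 (.node 1 (.one ⟨8628, 2, 4⟩) (.one ⟨1662, 2, 4⟩)) (.node 1 (.one ⟨16517, 2, 4⟩) (.one ⟨516, 0, 5⟩))) (.node 2 (.node 1 (.one ⟨16480, 2, 4⟩) (.one ⟨11017, 0, 4⟩)) (.node 1 (.one ⟨8731, 2, 4⟩) (.one ⟨7833, 0, 4⟩)))) (.node 4 (.node 2 (.node 1 (.one ⟨9094, 2, 2⟩) (.one ⟨589, 1, 1⟩)) (.node 1 (.one ⟨1031, 2, 5⟩) (.one ⟨15349, 0, 4⟩))) (.node 2 (.node 1 (.one ⟨10681, 0, 4⟩) (.one ⟨16363, 0, 4⟩))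 (.node 1 (.one ⟨17064, 2, 2⟩) (.one ⟨13011, 0, 4⟩))))) (.node 8 (.node 4 (.node 2 (.node 1 (.one ⟨7782, 0, 6⟩) (.one ⟨2016, 2, 6⟩)) (.node 1 (.one ⟨9635, 2, 4⟩) (.one ⟨10096, 2, 4⟩))) (.node 2 (.node 1 (.one ⟨679, 2, 4⟩) (.one ⟨8022, 0, 6⟩)) (.node 1 (.one ⟨12631, 0, 4⟩) (.one ⟨10161, 2, 4⟩)))) (.node 4 (.node 2 (.node 1 (.one ⟨728, 2, 4⟩) (.one ⟨7008, 2, 5⟩)) (.node 1 (.one ⟨14764, 2, 6⟩) (.one ⟨9079, 2, 6⟩))) (.node 2 (.node 1 (.one ⟨13682, 0, 4⟩) (.one ⟨12328, 2, 6⟩)) (.node 1 (.one ⟨4141, 2, 3⟩) (.one ⟨16309, 2, 4⟩)))))))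
def par9_16_9 : Arr Par :=
  (.node 32 (.node 16 (.node 8 (.node 4 (.node 2 (.node 1 (.one ⟨15571, 1, 6⟩) (.one ⟨4644, 2, 4⟩)) (.node 1 (.one ⟨5309, 2, 4⟩) (.one ⟨9414, 0, 4⟩))) (.node 2 (.node 1 (.one ⟨1603, 0, 4⟩) (.one ⟨3615, 0, 4⟩)) (.node 1 (.one ⟨14002, 2, 5⟩) (.one ⟨5778, 1, 4⟩)))) (.node 4 (.node 2 (.node 1 (.one ⟨9928, 0, 3⟩) (.one ⟨7777, 0, 4⟩)) (.node 1 (.one ⟨16062, 0, 3⟩) (.one ⟨6969, 0, 5⟩))) (.node 2 (.node 1 (.one ⟨7939, 2, 4⟩) (.one ⟨4936, 0, 3⟩)) (.node 1 (.one ⟨5428, 1, 0⟩) (.one ⟨2715, 2, 2⟩))))) (.node 8 (.node 4 (.node 2 (.node 1 (.one ⟨2113, 0, 4⟩) (.one ⟨17181, 0, 4⟩)) (.node 1 (.one ⟨6508, 2, 4⟩) (.one ⟨10373, 2, 2⟩))) (.node 2 (.node 1 (.one ⟨14802, 1, 3⟩) (.one ⟨8637, 2, 4⟩)) (.node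 1 (.one ⟨13959, 0, 6⟩) (.one ⟨8321, 0, 3⟩)))) (.node 4 (.node 2 (.node 1 (.one ⟨306, 0, 3⟩) (.one ⟨13420, 2, 6⟩)) (.node 1 (.one ⟨1496, 2, 5⟩) (.one ⟨11021, 0, 4⟩))) (.node 2 (.node 1 (.one ⟨16838, 0, 5⟩) (.one ⟨11819, 0, 3⟩)) (.node 1 (.one ⟨14341, 0, 3⟩) (.one ⟨17090, 2, 4⟩)))))) (.node 16 (.node 8 (.node 4 (.node 2 (.node 1 (.one ⟨2234, 2, 4⟩) (.one ⟨16186, 2, 4⟩)) (.node 1 (.one ⟨3393, 2, 4⟩) (.one ⟨237, 2, 4⟩))) (.node 2 (.node 1 (.one ⟨16610, 2, 4⟩) (.one ⟨6170, 0, 4⟩)) (.node 1 (.one ⟨15792, 2, 4⟩) (.one ⟨3488, 2, 5⟩)))) (.node 4 (.node 2 (.node 1 (.one ⟨16036, 2, 5⟩) (.one ⟨14193, 2, 4⟩)) (.node 1 (.one ⟨5320, 2, 5⟩) (.one ⟨15249, 2, 6⟩))) (.node 2 (.node 1 (.one ⟨9767, 0, 4⟩) (.one ⟨824, 2, 7⟩)) (.node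 1 (.one ⟨16957, 2, 7⟩) (.one ⟨6468, 2, 3⟩))))) (.node 8 (.node 4 (.node 2 (.node 1 (.one ⟨5153, 0, 3⟩) (.one ⟨13867, 0, 2⟩)) (.node 1 (.one ⟨14363, 2, 3⟩) (.one ⟨3425, 2, 4⟩))) (.node 2 (.node 1 (.one ⟨1010, 2, 3⟩) (.one ⟨9939, 2, 2⟩)) (.node 1 (.one ⟨11348, 2, 5⟩) (.one ⟨3194, 2, 5⟩)))) (.node 4 (.node 2 (.node 1 (.one ⟨4167, 0, 4⟩) (.one ⟨16351, 1, 3⟩)) (.node 1 (.one ⟨17194, 0, 4⟩) (.one ⟨948, 2, 4⟩))) (.node 2 (.node 1 (.one ⟨9437, 1, 1⟩) (.one ⟨4931, 2, 5⟩)) (.node 1 (.one ⟨10082, 0, 4⟩) (.one ⟨12629, 0, 5⟩)))))))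
def par9_16_10 : Arr Par :=
  (.node 32 (.node 16 (.node 8 (.node 4 (.node 2 (.node 1 (.one ⟨14436, 0, 5⟩) (.one ⟨15541, 0, 5⟩)) (.node 1 (.one ⟨11892, 0, 4⟩) (.one ⟨262, 2, 5⟩))) (.node 2 (.node 1 (.one ⟨1057, 2, 5⟩) (.one ⟨910, 2, 4⟩)) (.node 1 (.one ⟨8913, 0, 5⟩) (.one ⟨5000, 1, 0⟩)))) (.node 4 (.node 2 (.node 1 (.one ⟨11356, 0, 5⟩) (.one ⟨13771, 1, 4⟩)) (.node 1 (.one ⟨4770, 2, 4⟩) (.one ⟨9850, 0, 3⟩))) (.node 2 (.node 1 (.one ⟨13328, 0, 4⟩) (.one ⟨15361, 0, 5⟩)) (.node 1 (.one ⟨15751, 0, 3⟩) (.one ⟨16460, 2, 6⟩))))) (.node 8 (.node 4 (.node 2 (.node 1 (.one ⟨10600, 0, 1⟩) (.one ⟨7859, 2, 3⟩)) (.node 1 (.one ⟨10599, 0, 3⟩) (.one ⟨10601, 0, 1⟩))) (.node 2 (.node 1 (.one ⟨16770, 2, 3⟩) (.one ⟨306, 2, 3⟩))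 (.node 1 (.one ⟨5685, 0, 5⟩) (.one ⟨13711, 2, 4⟩)))) (.node 4 (.node 2 (.node 1 (.one ⟨15374, 1, 3⟩) (.one ⟨6068, 0, 3⟩)) (.node 1 (.one ⟨1178, 0, 1⟩) (.one ⟨6078, 0, 4⟩))) (.node 2 (.node 1 (.one ⟨11728, 2, 3⟩) (.one ⟨14172, 0, 2⟩)) (.node 1 (.one ⟨1026, 2, 5⟩) (.one ⟨16369, 2, 6⟩)))))) (.node 16 (.node 8 (.node 4 (.node 2 (.node 1 (.one ⟨6414, 0, 4⟩) (.one ⟨4173, 1, 3⟩)) (.node 1 (.one ⟨12692, 0, 5⟩) (.one ⟨17033, 0, 5⟩))) (.node 2 (.node 1 (.one ⟨12350, 2, 5⟩) (.one ⟨5553, 2, 1⟩)) (.node 1 (.one ⟨3774, 0, 6⟩) (.one ⟨16541, 2, 5⟩)))) (.node 4 (.node 2 (.node 1 (.one ⟨3795, 0, 1⟩) (.one ⟨10466, 2, 5⟩)) (.node 1 (.one ⟨14026, 2, 6⟩) (.one ⟨12584, 0, 4⟩))) (.node 2 (.node 1 (.one ⟨10612, 2, 5⟩) (.one ⟨15516,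 0, 6⟩)) (.node 1 (.one ⟨16705, 2, 5⟩) (.one ⟨2247, 2, 3⟩))))) (.node 8 (.node 4 (.node 2 (.node 1 (.one ⟨3416, 2, 4⟩) (.one ⟨3715, 2, 5⟩)) (.node 1 (.one ⟨4883, 2, 2⟩) (.one ⟨3599, 2, 4⟩))) (.node 2 (.node 1 (.one ⟨14466, 1, 2⟩) (.one ⟨2648, 2, 6⟩)) (.node 1 (.one ⟨3143, 2, 7⟩) (.one ⟨11327, 2, 3⟩)))) (.node 4 (.node 2 (.node 1 (.one ⟨6778, 1, 2⟩) (.one ⟨10057, 0, 4⟩)) (.node 1 (.one ⟨5890, 0, 4⟩) (.one ⟨12656, 1, 2⟩))) (.node 2 (.node 1 (.one ⟨9621, 0, 4⟩) (.one ⟨10507, 2, 4⟩)) (.node 1 (.one ⟨14543, 0, 3⟩) (.one ⟨2668, 0, 3⟩)))))))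
def par9_16_11 : Arr Par :=
  (.node 32 (.node 16 (.node 8 (.node 4 (.node 2 (.node 1 (.one ⟨7818, 0, 2⟩) (.one ⟨12398, 2, 5⟩)) (.node 1 (.one ⟨14282, 2, 3⟩) (.one ⟨6194, 2, 3⟩))) (.node 2 (.node 1 (.one ⟨4310, 2, 4⟩) (.one ⟨12408, 1, 3⟩)) (.node 1 (.one ⟨173, 2, 3⟩) (.one ⟨13101, 0, 3⟩)))) (.node 4 (.node 2 (.node 1 (.one ⟨6966, 2, 5⟩) (.one ⟨12809, 2, 4⟩)) (.node 1 (.one ⟨4790, 1, 4⟩) (.one ⟨5289, 1, 0⟩))) (.node 2 (.node 1 (.one ⟨16007, 2, 4⟩) (.one ⟨5297, 0, 3⟩)) (.node 1 (.one ⟨1952, 0, 3⟩) (.one ⟨7926, 2, 4⟩))))) (.node 8 (.node 4 (.node 2 (.node 1 (.one ⟨4001, 2, 4⟩) (.one ⟨14976, 2, 4⟩)) (.node 1 (.one ⟨16776, 0, 5⟩) (.one ⟨17162, 2, 5⟩))) (.node 2 (.node 1 (.one ⟨12771, 2, 4⟩) (.one ⟨6467, 2, 3⟩))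 (.node 1 (.one ⟨519, 2, 5⟩) (.one ⟨14824, 2, 5⟩)))) (.node 4 (.node 2 (.node 1 (.one ⟨1892, 0, 3⟩) (.one ⟨9633, 2, 4⟩)) (.node 1 (.one ⟨6777, 2, 5⟩) (.one ⟨6904, 2, 4⟩))) (.node 2 (.node 1 (.one ⟨4559, 1, 2⟩) (.one ⟨1970, 2, 5⟩)) (.node 1 (.one ⟨5500, 0, 3⟩) (.one ⟨1185, 2, 3⟩)))))) (.node 16 (.node 8 (.node 4 (.node 2 (.node 1 (.one ⟨9338, 2, 3⟩) (.one ⟨1334, 2, 3⟩)) (.node 1 (.one ⟨9871, 0, 2⟩) (.one ⟨8330, 2, 3⟩))) (.node 2 (.node 1 (.one ⟨16384, 2, 5⟩) (.one ⟨16824, 0, 2⟩)) (.node 1 (.one ⟨16403, 2, 5⟩) (.one ⟨12050, 2, 3⟩)))) (.node 4 (.node 2 (.node 1 (.one ⟨12146, 2, 1⟩) (.one ⟨12540, 2, 3⟩)) (.node 1 (.one ⟨15678, 0, 3⟩) (.one ⟨4485, 0, 6⟩))) (.node 2 (.node 1 (.one ⟨3475, 1, 4⟩) (.one ⟨7228, 1, 6⟩))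 (.node 1 (.one ⟨5132, 2, 3⟩) (.one ⟨7894, 2, 4⟩))))) (.node 8 (.node 4 (.node 2 (.node 1 (.one ⟨6792, 0, 3⟩) (.one ⟨15247, 1, 2⟩)) (.node 1 (.one ⟨14268, 2, 3⟩) (.one ⟨7783, 0, 4⟩))) (.node 2 (.node 1 (.one ⟨11520, 0, 2⟩) (.one ⟨13389, 1, 4⟩)) (.node 1 (.one ⟨14133, 2, 6⟩) (.one ⟨14141, 0, 3⟩)))) (.node 4 (.node 2 (.node 1 (.one ⟨4162, 2, 4⟩) (.one ⟨8964, 0, 2⟩)) (.node 1 (.one ⟨5570, 0, 5⟩) (.one ⟨4161, 2, 3⟩))) (.node 2 (.node 1 (.one ⟨1267, 0, 5⟩) (.one ⟨10041, 0, 5⟩)) (.node 1 (.one ⟨13365, 0, 4⟩) (.one ⟨4171, 0, 5⟩)))))))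
def par9_16_12 : Arr Par :=
  (.node 23 (.node 11 (.node 5 (.node 2 (.node 1 (.one ⟨16452, 1, 5⟩) (.one ⟨2217, 0, 4⟩)) (.node 1 (.one ⟨8723, 2, 5⟩) (.node 1 (.one ⟨15543, 1, 6⟩) (.one ⟨13832, 2, 3⟩)))) (.node 3 (.node 1 (.one ⟨2540, 2, 3⟩) (.node 1 (.one ⟨3549, 0, 4⟩) (.one ⟨7099, 0, 5⟩))) (.node 1 (.one ⟨13895, 1, 4⟩) (.node 1 (.one ⟨1754, 0, 3⟩) (.one ⟨12845, 2, 4⟩))))) (.node 6 (.node 3 (.node 1 (.one ⟨10450, 0, 4⟩) (.node 1 (.one ⟨1509, 2, 4⟩) (.one ⟨14698, 0, 4⟩))) (.node 1 (.one ⟨15015, 2, 4⟩) (.node 1 (.one ⟨7212, 1, 3⟩) (.one ⟨774, 2, 5⟩)))) (.node 3 (.node 1 (.one ⟨10502, 0, 5⟩) (.node 1 (.one ⟨7447, 2, 5⟩) (.one ⟨4123, 2, 5⟩))) (.node 1 (.one ⟨402, 0, 5⟩) (.node 1 (.one ⟨8392, 2, 5⟩) (.one ⟨11270,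 1, 5⟩)))))) (.node 12 (.node 6 (.node 3 (.node 1 (.one ⟨482, 0, 4⟩) (.node 1 (.one ⟨4284, 0, 4⟩) (.one ⟨1158, 2, 6⟩))) (.node 1 (.one ⟨11620, 0, 4⟩) (.node 1 (.one ⟨15246, 1, 3⟩) (.one ⟨4032, 0, 4⟩)))) (.node 3 (.node 1 (.one ⟨10405, 0, 3⟩) (.node 1 (.one ⟨11748, 0, 6⟩) (.one ⟨5700, 2, 4⟩))) (.node 1 (.one ⟨5260, 2, 6⟩) (.node 1 (.one ⟨4918, 2, 4⟩) (.one ⟨15573, 1, 6⟩))))) (.node 6 (.node 3 (.node 1 (.one ⟨1609, 2, 4⟩) (.node 1 (.one ⟨11430, 0, 2⟩) (.one ⟨8688, 2, 4⟩))) (.node 1 (.one ⟨2649, 2, 6⟩) (.node 1 (.one ⟨5450, 0, 4⟩) (.one ⟨11994, 1, 6⟩)))) (.node 3 (.node 1 (.one ⟨2782, 1, 4⟩) (.node 1 (.one ⟨8904, 0, 3⟩) (.one ⟨17063, 2, 6⟩))) (.node 1 (.one ⟨7987, 1, 1⟩) (.node 1 (.one ⟨109, 2, 3⟩) (.one ⟨14040,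 2, 1⟩)))))))
def par9_16 : Arr Par :=
  (.node 384 (.node 192 (.node 64 par9_16_0 (.node 64 par9_16_1 par9_16_2)) (.node 64 par9_16_3 (.node 64 par9_16_4 par9_16_5))) (.node 192 (.node 64 par9_16_6 (.node 64 par9_16_7 par9_16_8)) (.node 128 (.node 64 par9_16_9 par9_16_10) (.node 64 par9_16_11 par9_16_12))))
def par9 : Arr Par :=
  (.node 8192 (.node 4096 (.node 2048 (.node 1024 par9_0 par9_1) (.node 1024 par9_2 par9_3)) (.node 2048 (.node 1024 par9_4 par9_5) (.node 1024 par9_6 par9_7))) (.node 4096 (.node 2048 (.node 1024 par9_8 par9_9) (.node 1024 par9_10 par9_11)) (.node 2048 (.node 1024 par9_12 par9_13) (.node 1024 par9_14 (.node 1024 par9_15 par9_16)))))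

end CfsgLib.ThIndex62.Data
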