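import Cfsg.Agent.ThIndex62.Data.Facts0
import Cfsg.Agent.ThIndex62.Data.Facts1
import Cfsg.Agent.ThIndex62.Data.Facts2
import Cfsg.Agent.ThIndex62.Data.Facts3
import Cfsg.Agent.ThIndex62.Data.Facts4
import Cfsg.Agent.ThIndex62.Data.Facts5
import Cfsg.Agent.ThIndex62.Data.Facts6
import Cfsg.Agent.ThIndex62.Data.Facts7
import Cfsg.Agent.ThIndex62.Data.Facts8
import Cfsg.Agent.ThIndex62.Data.Facts9
import Cfsg.Agent.ThIndex62.Data.Facts10
import Cfsg.Agent.ThIndex62.Data.Facts11
import Cfsg.Agent.ThIndex62.Data.Facts12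
import Cfsg.Agent.ThIndex62.Data.Facts13
import Cfsg.Agent.ThIndex62.Data.Facts14
import Cfsg.Agent.ThIndex62.Data.Facts15

/-! The certificate. -/

set_option autoImplicit false
set_option maxRecDepth 100000

namespace CfsgLib.ThIndex62.Data

open CfsgLib.ThModel83

noncomputable def cert : DCert22.Cert where
  facts := (.node 2760 (.node 1380 (.node 690 (.node 345 facts0 facts1) (.node 345 facts2 facts3)) (.node 690 (.node 345 facts4 facts5) (.node 345 facts6 facts7))) (.node 1380 (.node 690 (.node 345 facts8 facts9) (.node 345 facts10 facts11)) (.node 690 (.node 345 facts12 facts13) (.node 345 facts14 facts15))))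
  nodes := nodes
  rels := rels
  subs := genCode.map fun g => (g, [])

def nfacts : ℕ := 5520

end CfsgLib.ThIndex62.Data
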